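import Mathlib
import Cfsg.Prelude.Def_OddOrderLocal
import Cfsg.Agent.Helper19.RankTwoStructC
import Cfsg.Agent.S1453
import Cfsg.Agent.Helper26.Thompson

/-!
# A `p`-group lemma for B&G section 11 (request (PG) of helper16)

`A ≤ S` elementary abelian of order `p ^ 2`, maximal among elementary abelian subgroups of the
`p`-group `S`; if `S` has the shape of the conclusion of S1412 (rank `≤ 2`) or `S` has rank `≥ 3`
(via S1453), then `C_S(A)` is abelian.
-/

set_option autoImplicit false
set_option linter.unusedSectionVars false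
set_option linter.style.haveILetI false

namespace Cfsg.Agent.Helper28.BG11

open Subgroup

variable {G : Type*} [Group G] [Finite G]

/-- `Z` central in `S` with `|S : Z| ∣ p ^ 2`, `A ≤ S` abelian with `A ≰ Z`: then `C_S(A)` is
abelian. -/
theorem comm_centralizer_of_central_index {p : ℕ} (hp : p.Prime) {S Z A : Subgroup G}
    (hZS : Z ≤ S) (hZc : Z ≤ centralizer (S : Set G)) (hidx : Z.relIndex S ∣ p ^ 2)
    (hAS : A ≤ S) (hAc : ∀ a ∈ A, ∀ b ∈ A, a * b = b * a) (hAZ : ¬ A ≤ Z) :
    ∀ x ∈ S ⊓ centralizer (A : Set G), ∀ y ∈ S ⊓ centralizer (A : Set G), x * y = y * x := by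
  obtain ⟨C, hC⟩ : ∃ C : Subgroup G, C = S ⊓ centralizer (A : Set G) := ⟨_, rfl⟩
  obtain ⟨W, hW⟩ : ∃ W : Subgroup G, W = Z ⊔ A := ⟨_, rfl⟩
  rw [← hC]
  have hCS : C ≤ S := hC ▸ inf_le_left
  have hCA : C ≤ centralizer (A : Set G) := hC ▸ inf_le_right
  have hZC : Z ≤ C := by
    rw [hC]
    refine le_inf hZS (fun z hz => ?_)
    exact centralizer_le (show (A : Set G) ⊆ S from hAS) (hZc hz)
  have hAC : A ≤ C := by
    rw [hC]
    refine le_inf hAS (fun a ha => ?_)
    rw [mem_centralizer_iff]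
    intro b hb
    exact hAc b hb a ha
  have hWC : W ≤ C := hW ▸ sup_le hZC hAC
  have hZW : Z ≤ W := hW ▸ le_sup_left
  have hWcen : W ≤ centralizer (C : Set G) := by
    rw [hW]
    refine sup_le ?_ ?_
    · exact hZc.trans (centralizer_le (show (C : Set G) ⊆ S from hCS))
    · exact le_centralizer_iff.mp hCA
  -- index computations
  have h1 : Z.relIndex W * W.relIndex S = Z.relIndex S :=
    relIndex_mul_relIndex Z W S hZW (hWC.trans hCS)
  have h2 : W.relIndex C * C.relIndex S = W.relIndex S :=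
    relIndex_mul_relIndex W C S hWC hCS
  have h3 : Z.relIndex W ≠ 1 := by
    intro h
    rw [relIndex_eq_one] at h
    exact hAZ ((hW ▸ le_sup_right : A ≤ W).trans h)
  have h4 : p ∣ Z.relIndex W := by
    have hd : Z.relIndex W ∣ p ^ 2 := (Dvd.intro _ h1).trans hidx
    obtain ⟨k, hk, hke⟩ := (Nat.dvd_prime_pow hp).mp hd
    rw [hke] at h3 ⊢
    cases k with
    | zero => simp at h3
    | succ k => exact dvd_pow_self p (Nat.succ_ne_zero k)
  have h5 : W.relIndex S ∣ p := by
    obtain ⟨a, ha⟩ := h4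
    have hd : p * a * W.relIndex S ∣ p ^ 2 := by rw [← ha, h1]; exact hidx
    have hd2 : p * (a * W.relIndex S) ∣ p * p := by rw [← mul_assoc, ← sq]; exact hd
    have hd3 := (Nat.mul_dvd_mul_iff_left hp.pos).mp hd2
    exact (Dvd.intro_left _ rfl).trans hd3
  have h6 : W.relIndex C ∣ p := (Dvd.intro _ h2).trans h5
  -- the quotient of `C` by `W` is cyclic
  obtain ⟨N, hN⟩ : ∃ N : Subgroup ↥C, N = W.subgroupOf C := ⟨_, rfl⟩
  have hNcen : N ≤ center ↥C := by
    intro n hn
    rw [hN, mem_subgroupOf] at hn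
    rw [mem_center_iff]
    intro g
    have := mem_centralizer_iff.mp (hWcen hn) g.1 g.2
    exact Subtype.ext this
  haveI hNn : N.Normal := by
    refine ⟨fun n hn g => ?_⟩
    have h := mem_center_iff.mp (hNcen hn) g
    have : g * n * g⁻¹ = n := by rw [h]; group
    rw [this]; exact hn
  have hidxN : N.index ∣ p := by rw [hN]; exact h6
  haveI hcyc : IsCyclic (↥C ⧸ N) := by
    rcases (Nat.dvd_prime hp).mp hidxN with h | h
    · have hc : Nat.card (↥C ⧸ N) = 1 := by rw [← Subgroup.index_eq_card]; exact h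
      haveI : Subsingleton (↥C ⧸ N) := (Nat.card_eq_one_iff_unique.mp hc).1
      exact isCyclic_of_subsingleton
    · haveI : Fact p.Prime := ⟨hp⟩
      have hc : Nat.card (↥C ⧸ N) = p := by rw [← Subgroup.index_eq_card]; exact h
      exact isCyclic_of_prime_card hc
  intro x hx y hy
  have hker : (QuotientGroup.mk' N).ker ≤ center ↥C := by
    rw [QuotientGroup.ker_mk']; exact hNcen
  have := commutative_of_cyclic_center_quotient (QuotientGroup.mk' N) hker ⟨x, hx⟩ ⟨y, hy⟩
  exact congrArg Subtype.val this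


/-- **(PG)(i)**: `S` of the shape given by the conclusion of S1412 (abelian, or a central product
of a nonabelian group of order `p ^ 3` with a cyclic group), `A ≤ S` elementary abelian of order
`p ^ 2`: then `C_S(A)` is abelian. -/
theorem pg_rank_two (p : ℕ) [hp : Fact p.Prime] (S A : Subgroup G)
    (hAS : A ≤ S) (hA : Cfsg.IsElementaryAbelian p A) (hA2 : Nat.card A = p ^ 2)
    (h1412 : IsMulCommutative ↥S ∨ ∃ P₁ P₂ : Subgroup G, P₁ ⊔ P₂ = S ∧
        (∀ a ∈ P₁, ∀ b ∈ P₂, a * b = b * a) ∧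
        ¬ IsMulCommutative ↥P₁ ∧ Nat.card P₁ = p ^ 3 ∧ Monoid.exponent ↥P₁ = p ∧ IsCyclic ↥P₂ ∧
        Subgroup.closure {x : G | x ∈ P₂ ∧ x ^ p = 1} = P₁ ⊓ Subgroup.centralizer (P₁ : Set G)) :
    ∀ x ∈ S ⊓ centralizer (A : Set G), ∀ y ∈ S ⊓ centralizer (A : Set G), x * y = y * x := by
  rcases h1412 with hS | ⟨P₁, P₂, hsup, hcomm, -, hP₁card, -, hP₂cyc, hcl⟩
  · intro x hx y hy
    have := hS.is_comm.comm ⟨x, hx.1⟩ ⟨y, hy.1⟩
    exact congrArg Subtype.val this
  · have hAiff := Cfsg.Agent.Helper26.isElementaryAbelian_iff.mp hA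
    have hP₂S : P₂ ≤ S := hsup ▸ le_sup_right
    have hP₂comm : ∀ a ∈ P₂, ∀ b ∈ P₂, a * b = b * a := by
      intro a ha b hb
      haveI := hP₂cyc
      have := (IsCyclic.commGroup (α := ↥P₂)).mul_comm ⟨a, ha⟩ ⟨b, hb⟩
      exact congrArg Subtype.val this
    have hP₂c : P₂ ≤ centralizer (S : Set G) := by
      rw [le_centralizer_iff, ← hsup]
      refine sup_le ?_ ?_
      · intro a ha
        rw [mem_centralizer_iff]
        intro b hb
        exact (hcomm a ha b hb).symm
      · intro a ha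
        rw [mem_centralizer_iff]
        intro b hb
        exact hP₂comm b hb a ha
    -- the index of `P₂` in `S`
    have hnorm : P₁ ≤ normalizer (P₂ : Set G) := by
      have h1 : P₁ ≤ centralizer (P₂ : Set G) := by
        intro a ha
        rw [mem_centralizer_iff]
        intro b hb
        exact (hcomm a ha b hb).symm
      exact h1.trans (centralizer_le_normalizer _)
    have hri : P₂.relIndex S = P₂.relIndex P₁ := by
      rw [← hsup]; exact Cfsg.Agent.Helper26.relIndex_sup_of_le_normalizer hnorm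
    have hP₁p : IsPGroup p ↥P₁ := IsPGroup.of_card (n := 3) hP₁card
    haveI : Nontrivial ↥P₁ := by
      rw [← Finite.one_lt_card_iff_nontrivial, hP₁card]
      exact Nat.one_lt_pow (by norm_num) hp.out.one_lt
    haveI := hP₁p.center_nontrivial
    obtain ⟨z, hz⟩ := exists_ne (1 : center ↥P₁)
    have hzmem : ((z : ↥P₁) : G) ∈ P₂ ⊓ P₁ := by
      refine ⟨?_, (z : ↥P₁).2⟩
      have h1 : ((z : ↥P₁) : G) ∈ P₁ ⊓ centralizer (P₁ : Set G) := by
        refine ⟨(z : ↥P₁).2, ?_⟩
        show ((z : ↥P₁) : G) ∈ centralizer (P₁ : Set G)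
        rw [mem_centralizer_iff]
        intro b hb
        have := mem_center_iff.mp z.2 ⟨b, hb⟩
        exact congrArg Subtype.val this
      rw [← hcl] at h1
      have hle : Subgroup.closure {x : G | x ∈ P₂ ∧ x ^ p = 1} ≤ P₂ := by
        rw [closure_le]; intro x hx; exact hx.1
      exact hle h1
    have hne : (P₂ ⊓ P₁ : Subgroup G) ≠ ⊥ := by
      intro h
      rw [h, mem_bot] at hzmem
      apply hz
      apply Subtype.ext; apply Subtype.ext
      simpa using hzmem
    have hcm := Cfsg.Agent.Helper26.card_inf_mul_relIndex P₂ P₁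
    rw [hP₁card] at hcm
    have hd1 : Nat.card ↥(P₂ ⊓ P₁) ∣ p ^ 3 := Dvd.intro _ hcm
    obtain ⟨i, hi, hie⟩ := (Nat.dvd_prime_pow hp.out).mp hd1
    have hi0 : i ≠ 0 := by
      rintro rfl
      rw [pow_zero] at hie
      exact hne ((P₂ ⊓ P₁).eq_bot_of_card_eq hie)
    have hidx : P₂.relIndex S ∣ p ^ 2 := by
      rw [hri]
      rw [hie] at hcm
      obtain ⟨j, hj⟩ : ∃ j, i = j + 1 := ⟨i - 1, by omega⟩
      subst hj
      have h3 : p ^ (j + 1) * P₂.relIndex P₁ = p ^ (j + 1) * p ^ (2 - j) := by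
        rw [hcm, ← pow_add]; congr 1; omega
      have h4 := Nat.eq_of_mul_eq_mul_left (pow_pos hp.out.pos _) h3
      rw [h4]
      exact pow_dvd_pow p (by omega)
    have hAZ : ¬ A ≤ P₂ := by
      intro hle
      -- a subgroup of a cyclic group is cyclic; an elementary abelian cyclic group has order ≤ p
      haveI := hP₂cyc
      haveI : IsCyclic ↥(A.subgroupOf P₂) := Subgroup.isCyclic _
      obtain ⟨g, hg⟩ := IsCyclic.exists_generator (α := ↥(A.subgroupOf P₂))
      have hgp : g ^ p = 1 := by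
        apply Subtype.ext; apply Subtype.ext
        have := hAiff.2 ((g : ↥P₂) : G) (mem_subgroupOf.mp g.2)
        simpa using this
      have hcard : Nat.card ↥(A.subgroupOf P₂) ∣ p := by
        rw [← orderOf_eq_card_of_forall_mem_zpowers hg]
        exact orderOf_dvd_of_pow_eq_one hgp
      have hcA : Nat.card ↥(A.subgroupOf P₂) = Nat.card A := by
        rw [Cfsg.Agent.Helper26.card_subgroupOf_eq_card_inf, inf_of_le_left hle]
      rw [hcA, hA2] at hcard
      have := Nat.le_of_dvd hp.out.pos hcard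
      have h2 : p < p ^ 2 := by
        calc p = p ^ 1 := (pow_one p).symm
          _ < p ^ 2 := Nat.pow_lt_pow_right hp.out.one_lt (by norm_num)
      omega
    exact comm_centralizer_of_central_index hp.out hP₂S hP₂c hidx hAS hAiff.1 hAZ


/-- commutativity on a join `D ⊔ zpowers a` with `D` abelian and `a` centralizing `D` -/
theorem comm_sup_zpowers {X : Type*} [Group X] (D : Subgroup X) (a : X)
    (hD : ∀ x ∈ D, ∀ y ∈ D, x * y = y * x) (ha : ∀ x ∈ D, x * a = a * x) :
    ∀ x ∈ D ⊔ zpowers a, ∀ y ∈ D ⊔ zpowers a, x * y = y * x := by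
  have hza : ∀ x ∈ zpowers a, x * a = a * x := by
    rintro _ ⟨i, rfl⟩
    exact ((Commute.refl a).zpow_left i).eq
  -- elements of `D` commute with the join
  have h1 : ∀ d ∈ D, D ⊔ zpowers a ≤ centralizer ({d} : Set X) := by
    intro d hd
    refine sup_le ?_ ?_
    · intro x hx
      rw [mem_centralizer_iff]
      intro h hh
      rw [Set.mem_singleton_iff] at hh; subst hh
      exact hD _ hd x hx
    · rw [zpowers_le, mem_centralizer_iff]
      intro h hh
      rw [Set.mem_singleton_iff] at hh; subst hh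
      exact ha _ hd
  have h1a : D ⊔ zpowers a ≤ centralizer ({a} : Set X) := by
    refine sup_le ?_ ?_
    · intro x hx
      rw [mem_centralizer_iff]
      intro h hh
      rw [Set.mem_singleton_iff] at hh; subst hh
      exact (ha x hx).symm
    · intro x hx
      rw [mem_centralizer_iff]
      intro h hh
      rw [Set.mem_singleton_iff] at hh; subst hh
      exact (hza x hx).symm
  intro x hx y hy
  have h2 : D ⊔ zpowers a ≤ centralizer ({y} : Set X) := by
    refine sup_le ?_ ?_
    · intro d hd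
      rw [mem_centralizer_iff]
      intro h hh
      rw [Set.mem_singleton_iff] at hh; subst hh
      have := mem_centralizer_iff.mp (h1 d hd hy) d (Set.mem_singleton d)
      exact this.symm
    · rw [zpowers_le, mem_centralizer_iff]
      intro h hh
      rw [Set.mem_singleton_iff] at hh; subst hh
      have := mem_centralizer_iff.mp (h1a hy) a (Set.mem_singleton a)
      exact this.symm
  have := mem_centralizer_iff.mp (h2 hx) y (Set.mem_singleton y)
  exact this.symm

/-- type-level version of (PG)(ii) -/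
theorem pg_rank_three_type {R : Type*} [Group R] [Finite R] (p : ℕ) [hp : Fact p.Prime]
    (hp2 : p ≠ 2) (hR : IsPGroup p R) (hr : ¬ Cfsg.PRankLE p 2 R)
    (E : Subgroup R) (hE : Cfsg.IsElementaryAbelian p E) (hE2 : Nat.card E = p ^ 2)
    (hEmax : ∀ B : Subgroup R, Cfsg.IsElementaryAbelian p B → E ≤ B → B = E) :
    ∀ x ∈ centralizer (E : Set R), ∀ y ∈ centralizer (E : Set R), x * y = y * x := by
  obtain ⟨h1, h2, -, h4, h5⟩ := Cfsg.Agent.S1453.result p hp2 hR hr E hE hE2 hEmax
  obtain ⟨T, hT⟩ : ∃ T : Subgroup R, T = centralizer ((Subgroup.closure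
      {x : R | x ∈ Subgroup.upperCentralSeries R 2 ∧ x ^ p = 1} : Subgroup R) : Set R) := ⟨_, rfl⟩
  rw [← hT] at h1 h4 h5
  haveI hTn : T.Normal := Subgroup.normal_of_characteristic T
  have hEiff := Cfsg.Agent.Helper26.isElementaryAbelian_iff.mp hE
  -- elements of order dividing `p` centralizing `E` lie in `E`
  have hin : ∀ x : R, x ∈ centralizer (E : Set R) → x ^ p = 1 → x ∈ E := by
    intro x hx hxp
    have hB : Cfsg.IsElementaryAbelian p (E ⊔ zpowers x) := by
      refine Cfsg.Agent.Helper26.isElementaryAbelian_sup hE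
        (Cfsg.Agent.Helper26.isElementaryAbelian_zpowers_of_orderOf_eq hxp) ?_
      rintro a ha _ ⟨i, rfl⟩
      have hc : Commute a x := (mem_centralizer_iff.mp hx a ha)
      exact (hc.zpow_right i).eq
    have := hEmax _ hB le_sup_left
    rw [← this]
    exact (le_sup_right : zpowers x ≤ _) (mem_zpowers x)
  -- `E ⊓ T` has order `p`
  obtain ⟨Z₁, hZ₁⟩ : ∃ Z₁ : Subgroup R, Z₁ = E ⊓ T := ⟨_, rfl⟩
  have hZ₀le : Subgroup.closure {x : R | x ∈ Subgroup.center R ∧ x ^ p = 1} ≤ Z₁ := by
    rw [closure_le, hZ₁]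
    intro x hx
    refine ⟨hin x (Subgroup.center_le_centralizer _ hx.1) hx.2, ?_⟩
    rw [hT]
    exact Subgroup.center_le_centralizer _ hx.1
  have hZ₁card : Nat.card Z₁ = p := by
    have hlt : Z₁ < E := by
      rw [hZ₁]
      refine lt_of_le_of_ne inf_le_left ?_
      intro h
      exact h1 (h ▸ inf_le_right)
    have hd : Nat.card Z₁ ∣ p ^ 2 := hE2 ▸ Subgroup.card_dvd_of_le hlt.le
    obtain ⟨i, hi, hie⟩ := (Nat.dvd_prime_pow hp.out).mp hd
    have hge : p ≤ Nat.card Z₁ := h2 ▸ Subgroup.card_le_of_le hZ₀le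
    have hltc : Nat.card Z₁ < p ^ 2 := by
      rw [← hE2]
      by_contra hcon
      push Not at hcon
      exact hlt.ne (Subgroup.eq_of_le_of_card_ge hlt.le hcon)
    rw [hie] at hge hltc ⊢
    have hi2 : i < 2 := (Nat.pow_lt_pow_iff_right hp.out.one_lt).mp hltc
    have hi0 : i ≠ 0 := by
      rintro rfl
      rw [pow_zero] at hge
      exact absurd hge (by have := hp.out.one_lt; omega)
    have : i = 1 := by omega
    rw [this, pow_one]
  -- `D = T ⊓ C(E)` is cyclic
  obtain ⟨C, hC⟩ : ∃ C : Subgroup R, C = centralizer (E : Set R) := ⟨_, rfl⟩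
  obtain ⟨D, hD⟩ : ∃ D : Subgroup R, D = T ⊓ C := ⟨_, rfl⟩
  have hDcyc : IsCyclic ↥D := by
    refine Cfsg.Agent.Helper19.RankTwoStruct.isCyclic_of_omega_le hp2 D Z₁ (hR.to_subgroup D)
      hZ₁card ?_
    intro x hx hxp
    rw [hD] at hx
    rw [hZ₁]
    exact ⟨hin x (hC ▸ hx.2) hxp, hx.1⟩
  have hDcomm : ∀ x ∈ D, ∀ y ∈ D, x * y = y * x := by
    intro x hx y hy
    haveI := hDcyc
    have := (IsCyclic.commGroup (α := ↥D)).mul_comm ⟨x, hx⟩ ⟨y, hy⟩
    exact congrArg Subtype.val this
  -- an element of `E` outside `T`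
  obtain ⟨a, haE, haT⟩ : ∃ a ∈ E, a ∉ T := by
    by_contra hcon
    push Not at hcon
    exact h1 hcon
  have haC : a ∈ C := by
    rw [hC, mem_centralizer_iff]
    intro b hb
    exact hEiff.1 b hb a haE
  have haD : ∀ x ∈ D, x * a = a * x := by
    intro x hx
    rw [hD] at hx
    have := hx.2
    rw [hC] at this
    exact (mem_centralizer_iff.mp this a haE).symm
  -- `C = D ⊔ zpowers a`
  obtain ⟨C', hC'⟩ : ∃ C' : Subgroup R, C' = D ⊔ zpowers a := ⟨_, rfl⟩
  have hDC' : D ≤ C' := hC' ▸ le_sup_left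
  have hC'C : C' ≤ C := by
    rw [hC']
    refine sup_le (hD ▸ inf_le_right) ?_
    rw [zpowers_le]; exact haC
  have hr1 : D.relIndex C ∣ p := by
    rw [hD, inf_relIndex_right, ← h5]
    exact relIndex_dvd_index_of_normal T C
  have hr2 : D.relIndex C' * C'.relIndex C = D.relIndex C :=
    relIndex_mul_relIndex D C' C hDC' hC'C
  have hr3 : D.relIndex C' ≠ 1 := by
    intro h
    rw [relIndex_eq_one] at h
    have : a ∈ D := h (hC' ▸ (le_sup_right : zpowers a ≤ _) (mem_zpowers a))
    rw [hD] at this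
    exact haT this.1
  have hr4 : C'.relIndex C = 1 := by
    have hd : D.relIndex C' ∣ p := (Dvd.intro _ hr2).trans hr1
    rcases (Nat.dvd_prime hp.out).mp hd with h | h
    · exact absurd h hr3
    · rw [h] at hr2
      rcases (Nat.dvd_prime hp.out).mp hr1 with h' | h'
      · rw [h'] at hr2
        have := Nat.eq_one_of_mul_eq_one_right hr2
        exact absurd this hp.out.one_lt.ne'
      · rw [h'] at hr2
        have h6 : p * C'.relIndex C = p * 1 := by rw [hr2, mul_one]
        exact Nat.eq_of_mul_eq_mul_left hp.out.pos h6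
  have hCC' : C ≤ C' := relIndex_eq_one.mp hr4
  intro x hx y hy
  rw [← hC] at hx hy
  have hx' := hCC' hx
  have hy' := hCC' hy
  rw [hC'] at hx' hy'
  exact comm_sup_zpowers D a hDcomm haD x hx' y hy'

/-- **(PG)(ii)**: `S` a `p`-group (`p` odd) of rank `≥ 3`, `A ≤ S` elementary abelian of order
`p ^ 2` contained in no larger elementary abelian subgroup of `S`: then `C_S(A)` is abelian. -/
theorem pg_rank_three (p : ℕ) [hp : Fact p.Prime] (hp2 : p ≠ 2) (S A : Subgroup G)
    (hS : IsPGroup p ↥S) (hr : ¬ Cfsg.PRankLE p 2 ↥S)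
    (hAS : A ≤ S) (hA : Cfsg.IsElementaryAbelian p A) (hA2 : Nat.card A = p ^ 2)
    (hmax : ∀ B : Subgroup G, B ≤ S → Cfsg.IsElementaryAbelian p B → A ≤ B → B = A) :
    ∀ x ∈ S ⊓ centralizer (A : Set G), ∀ y ∈ S ⊓ centralizer (A : Set G), x * y = y * x := by
  have hAiff := Cfsg.Agent.Helper26.isElementaryAbelian_iff.mp hA
  have hE : Cfsg.IsElementaryAbelian p (A.subgroupOf S) := by
    rw [Cfsg.Agent.Helper26.isElementaryAbelian_iff]
    refine ⟨fun a ha b hb => ?_, fun a ha => ?_⟩
    · exact Subtype.ext (hAiff.1 _ (mem_subgroupOf.mp ha) _ (mem_subgroupOf.mp hb))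
    · apply Subtype.ext
      have := hAiff.2 _ (mem_subgroupOf.mp ha)
      simpa using this
  have hE2 : Nat.card ↥(A.subgroupOf S) = p ^ 2 := by
    rw [Cfsg.Agent.Helper26.card_subgroupOf_eq_card_inf, inf_of_le_left hAS, hA2]
  have hEmax : ∀ B : Subgroup ↥S, Cfsg.IsElementaryAbelian p B → A.subgroupOf S ≤ B →
      B = A.subgroupOf S := by
    intro B hB hle
    have hBiff := Cfsg.Agent.Helper26.isElementaryAbelian_iff.mp hB
    have hB' : Cfsg.IsElementaryAbelian p (B.map S.subtype) := by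
      rw [Cfsg.Agent.Helper26.isElementaryAbelian_iff]
      refine ⟨?_, ?_⟩
      · rintro _ ⟨a, ha, rfl⟩ _ ⟨b, hb, rfl⟩
        have := hBiff.1 a ha b hb
        exact congrArg Subtype.val this
      · rintro _ ⟨a, ha, rfl⟩
        have := hBiff.2 a ha
        have h2 := congrArg Subtype.val this
        simpa using h2
    have hAB : A ≤ B.map S.subtype := by
      intro a ha
      exact ⟨⟨a, hAS ha⟩, hle (mem_subgroupOf.mpr ha), rfl⟩
    have heq := hmax _ (Subgroup.map_subtype_le B) hB' hAB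
    refine le_antisymm ?_ hle
    intro b hb
    rw [mem_subgroupOf, ← heq]
    exact ⟨b, hb, rfl⟩
  have key := pg_rank_three_type p hp2 hS hr (A.subgroupOf S) hE hE2 hEmax
  have hmem : ∀ x : G, ∀ hx : x ∈ S ⊓ centralizer (A : Set G),
      (⟨x, hx.1⟩ : ↥S) ∈ centralizer ((A.subgroupOf S : Subgroup ↥S) : Set ↥S) := by
    intro x hx
    rw [mem_centralizer_iff]
    intro e he
    apply Subtype.ext
    exact mem_centralizer_iff.mp hx.2 _ (mem_subgroupOf.mp he)
  intro x hx y hy
  have := key _ (hmem x hx) _ (hmem y hy)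
  exact congrArg Subtype.val this

end Cfsg.Agent.Helper28.BG11
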