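import Mathlib
import Cfsg.Prelude.Def_OddOrderLocal
import Cfsg.Agent.S1453
import Cfsg.Agent.Helper26.Thompson
import Cfsg.Agent.Helper21.BG10a
import Cfsg.Agent.Helper14.PCore

/-!
# Two sub-lemmas for B&G 11.5 / 12.3 (requested by helper16)

* `nq_comm`: abstract commutation lemma (NQ).
* `tv_conj_mem`: transvection lemma (TV).
-/

set_option autoImplicit false

namespace Cfsg.Agent.Helper28.BG11TV

open Subgroup
open scoped commutatorElement

/-- (NQ) `F/N` nilpotent, `A ≤ F` a `p`-group normalizing the `p'`-group `D` whose order is coprime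
to `|N|`: then `A` centralizes `D`. -/
theorem nq_comm {X : Type*} [Group X] [Finite X] {p : ℕ} [hp : Fact p.Prime] (N F : Subgroup X)
    [hNn : N.Normal] [hFn : F.Normal]
    (hnil : Group.IsNilpotent (F.map (QuotientGroup.mk' N)))
    (A D : Subgroup X) (hA : IsPGroup p A) (hAF : A ≤ F) (hAD : A ≤ normalizer (D : Set X))
    (hDp : ¬ p ∣ Nat.card D) (hDN : (Nat.card D).Coprime (Nat.card N)) :
    ∀ d ∈ D, ∀ a ∈ A, d * a = a * d := by
  intro d hd a ha
  haveI hFmn : (F.map (QuotientGroup.mk' N)).Normal :=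
    Subgroup.Normal.map hFn _ (QuotientGroup.mk'_surjective N)
  have h1 : A.map (QuotientGroup.mk' N) ≤ Cfsg.pCore p (X ⧸ N) :=
    Cfsg.Agent.Helper21.BG10.pGroup_le_pCore_of_le_nilpotent_normal _ hnil _ (hA.map _)
      (Subgroup.map_mono hAF)
  obtain ⟨c, hc⟩ : ∃ c : X, c = d * a * d⁻¹ * a⁻¹ := ⟨_, rfl⟩
  have hcD : c ∈ D := by
    have h2 : a * d⁻¹ * a⁻¹ ∈ D := ((mem_normalizer_iff.mp (hAD ha)) d⁻¹).mp (D.inv_mem hd)
    have h3 : c = d * (a * d⁻¹ * a⁻¹) := by rw [hc]; group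
    rw [h3]; exact D.mul_mem hd h2
  have hcK : (QuotientGroup.mk' N c) ∈ Cfsg.pCore p (X ⧸ N) := by
    have haK : QuotientGroup.mk' N a ∈ Cfsg.pCore p (X ⧸ N) := h1 ⟨a, ha, rfl⟩
    have hn : (Cfsg.pCore p (X ⧸ N)).Normal := Cfsg.Agent.Helper14.pCore_normal p
    have h4 : QuotientGroup.mk' N c = (QuotientGroup.mk' N d) * (QuotientGroup.mk' N a) *
        (QuotientGroup.mk' N d)⁻¹ * (QuotientGroup.mk' N a)⁻¹ := by
      rw [hc]; simp
    rw [h4]
    exact Subgroup.mul_mem _ (hn.conj_mem _ haK _) (Subgroup.inv_mem _ haK)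
  obtain ⟨k, hk⟩ := (Cfsg.Agent.Helper14.pCore_isPGroup (G := X ⧸ N) p) ⟨_, hcK⟩
  have hk' : c ^ p ^ k ∈ N := by
    have h5 : (QuotientGroup.mk' N c) ^ p ^ k = 1 := by
      have := congrArg Subtype.val hk
      simpa using this
    rw [← map_pow] at h5
    exact (QuotientGroup.eq_one_iff _).mp h5
  have hordD : orderOf c ∣ Nat.card D := by
    have h6 : orderOf (⟨c, hcD⟩ : D) ∣ Nat.card D := orderOf_dvd_natCard _
    rwa [Subgroup.orderOf_mk] at h6
  have hcop : (p ^ k).Coprime (orderOf c) := by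
    apply Nat.Coprime.pow_left
    rw [Nat.Prime.coprime_iff_not_dvd hp.out]
    intro h
    exact hDp (h.trans hordD)
  obtain ⟨m, hm⟩ := exists_pow_eq_self_of_coprime hcop
  have hcN : c ∈ N := by
    rw [← hm]; exact N.pow_mem hk' m
  have hordN : orderOf c ∣ Nat.card N := by
    have h6 : orderOf (⟨c, hcN⟩ : N) ∣ Nat.card N := orderOf_dvd_natCard _
    rwa [Subgroup.orderOf_mk] at h6
  have h7 : orderOf c = 1 := Nat.eq_one_of_dvd_coprimes hDN hordD hordN
  have hc1 : c = 1 := orderOf_eq_one_iff.mp h7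
  rw [hc] at hc1
  have h8 : d * a = (d * a * d⁻¹ * a⁻¹) * (a * d) := by group
  rw [h8, hc1, one_mul]


/-- A subgroup of order `p` of a group of order `p ^ 2` containing a subgroup `Z` of order `p`... helper:
a subgroup `K` with `Z ≤ K ≤ A`, `|Z| = p`, `|A| = p ^ 2`, `K ≠ A` equals `Z`. -/
theorem eq_of_between {G : Type*} [Group G] [Finite G] {p : ℕ} (hp : p.Prime) {Z K A : Subgroup G}
    (hZK : Z ≤ K) (hKA : K ≤ A) (hZp : Nat.card Z = p) (hA2 : Nat.card A = p ^ 2) (hne : K ≠ A) :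
    K = Z := by
  have h1 : Nat.card K ∣ p ^ 2 := hA2 ▸ card_dvd_of_le hKA
  have h2 : p ∣ Nat.card K := hZp ▸ card_dvd_of_le hZK
  obtain ⟨i, hi, hKi⟩ := (Nat.dvd_prime_pow hp).mp h1
  have hi2 : i ≠ 2 := by
    intro h
    apply hne
    exact eq_of_le_of_card_ge hKA (by rw [hKi, h, hA2])
  have hi0 : i ≠ 0 := by
    intro h
    rw [hKi, h, pow_zero] at h2
    exact hp.one_lt.ne' (Nat.dvd_one.mp h2)
  have hi1 : i = 1 := by omega
  rw [hi1, pow_one] at hKi
  exact (eq_of_le_of_card_ge hZK (by rw [hKi, hZp])).symm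

/-- (TV) transvection lemma. -/
theorem tv_conj_mem {G : Type*} [Group G] [Finite G] (p : ℕ) [hp : Fact p.Prime]
    (P A A0 Z : Subgroup G) (hP : IsPGroup p P) (hAP : A ≤ P)
    (hA : Cfsg.IsElementaryAbelian p A) (hA2 : Nat.card A = p ^ 2)
    (hA0 : A0 ≤ A) (hA0p : Nat.card A0 = p) (hZA : Z ≤ A) (hZp : Nat.card Z = p)
    (hZc : Z ≤ centralizer (P : Set G)) (hne : A0 ≠ Z)
    (hmax : ∀ x ∈ P ⊓ centralizer (A : Set G), x ^ p = 1 → x ∈ A)
    (hnc : ¬ P ≤ centralizer (A : Set G)) :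
    ∀ a ∈ A, a ∉ Z → ∃ u ∈ P, u * a * u⁻¹ ∈ A0 := by
  obtain ⟨hAc, hAp⟩ := Cfsg.Agent.Helper26.isElementaryAbelian_iff.mp hA
  have hpp : p.Prime := hp.out
  -- Step 1: an element `u` of `P` outside `C(A)` normalizing `C = P ⊓ C(A)`
  obtain ⟨C, hC⟩ : ∃ C : Subgroup G, C = P ⊓ centralizer (A : Set G) := ⟨_, rfl⟩
  have hCP : C ≤ P := hC ▸ inf_le_left
  have hAC : A ≤ C := by
    rw [hC]
    refine le_inf hAP (fun a ha => ?_)
    rw [mem_centralizer_iff]
    intro b hb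
    exact hAc b hb a ha
  haveI : Group.IsNilpotent P := hP.isNilpotent
  have hlt : C.subgroupOf P < ⊤ := by
    rw [lt_top_iff_ne_top]
    intro h
    apply hnc
    have h1 : P ≤ C := subgroupOf_eq_top.mp h
    exact h1.trans (hC ▸ inf_le_right)
  have hnc' := Group.normalizerCondition_of_isNilpotent (G := P) (C.subgroupOf P) hlt
  obtain ⟨u', hu'N, hu'C⟩ := SetLike.exists_of_lt hnc'
  obtain ⟨u, hu⟩ : ∃ u : G, u = (u' : G) := ⟨_, rfl⟩
  have huP : u ∈ P := hu ▸ u'.2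
  have huC : u ∉ C := by
    intro h
    apply hu'C
    rw [mem_subgroupOf, ← hu]; exact h
  -- conjugation by an element of the normalizer of `C.subgroupOf P` preserves `C`
  have hconj : ∀ v' : P, v' ∈ normalizer ((C.subgroupOf P : Subgroup P) : Set P) → ∀ c ∈ C,
      (v' : G) * c * (v' : G)⁻¹ ∈ C := by
    intro v' hv' c hc
    have h1 := (mem_normalizer_iff.mp hv' ⟨c, hCP hc⟩).mp (mem_subgroupOf.mpr hc)
    rw [mem_subgroupOf] at h1
    simpa using h1
  -- Step 2: elements normalizing `C` map `A` into `A`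
  have hAconj : ∀ v' : P, v' ∈ normalizer ((C.subgroupOf P : Subgroup P) : Set P) → ∀ a ∈ A,
      (v' : G) * a * (v' : G)⁻¹ ∈ A := by
    intro v' hv' a ha
    apply hmax
    · rw [← hC]; exact hconj v' hv' a (hAC ha)
    · rw [conj_pow, hAp a ha, mul_one, mul_inv_cancel]
  have huA : u ∈ normalizer (A : Set G) := by
    rw [mem_normalizer_iff]
    intro a
    constructor
    · intro ha
      rw [hu]; exact hAconj u' hu'N a ha
    · intro ha
      have h1 := hAconj u'⁻¹ (inv_mem hu'N) _ ha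
      have h2 : ((u'⁻¹ : P) : G) = u⁻¹ := by rw [hu]; simp
      rw [h2] at h1
      have h3 : u⁻¹ * (u * a * u⁻¹) * u⁻¹⁻¹ = a := by group
      rwa [h3] at h1
  -- `C_A(u) = Z`
  have huCA : u ∉ centralizer (A : Set G) := fun h => huC (hC ▸ mem_inf.mpr ⟨huP, h⟩)
  have hcent : A ⊓ centralizer ({u} : Set G) = Z := by
    apply eq_of_between hpp (Z := Z) (A := A) ?_ inf_le_left hZp hA2 ?_
    · refine le_inf hZA (fun z hz => ?_)
      rw [mem_centralizer_iff]
      intro x hx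
      rw [Set.mem_singleton_iff] at hx
      rw [hx]
      exact ((mem_centralizer_iff.mp (hZc hz)) u huP)
    · intro h
      apply huCA
      rw [mem_centralizer_iff]
      intro a ha
      have h1 : a ∈ A ⊓ centralizer ({u} : Set G) := by rw [h]; exact ha
      exact ((mem_centralizer_iff.mp h1.2) u rfl).symm
  -- the `p`-group `K = A ⊔ ⟨u⟩`
  obtain ⟨K, hK⟩ : ∃ K : Subgroup G, K = A ⊔ zpowers u := ⟨_, rfl⟩
  have hAK : A ≤ K := hK ▸ le_sup_left
  have huK : u ∈ K := hK ▸ (le_sup_right : zpowers u ≤ A ⊔ zpowers u) (mem_zpowers u)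
  have hKP : K ≤ P := by
    rw [hK]; exact sup_le hAP (zpowers_le.mpr huP)
  have hKN : K ≤ normalizer (A : Set G) := by
    rw [hK]; exact sup_le le_normalizer (zpowers_le.mpr huA)
  have hKp : IsPGroup p K := hP.to_le hKP
  have hUn : (A.subgroupOf K).Normal := (normal_subgroupOf_iff_le_normalizer hAK).mpr hKN
  have hUcard : Nat.card (A.subgroupOf K) = p ^ 2 := by
    rw [← hA2]; exact Nat.card_congr (subgroupOfEquivOfLe hAK).toEquiv
  have hZ2 := Cfsg.Agent.S1453.le_upperCentralSeries_two hKp (A.subgroupOf K) hUcard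
  -- Step 3: commutators `[a, u]` lie in `Z`
  have hcomm : ∀ a ∈ A, u * a * u⁻¹ * a⁻¹ ∈ Z := by
    intro a ha
    have h1 : (⟨a, hAK ha⟩ : K) ∈ Subgroup.upperCentralSeries K 2 := hZ2 (mem_subgroupOf.mpr ha)
    have h2 := (Subgroup.mem_upperCentralSeries_succ_iff.mp h1) ⟨u, huK⟩
    rw [Subgroup.upperCentralSeries_one] at h2
    -- `⁅a, u⁆ = a u a⁻¹ u⁻¹` is central in `K`
    have h3 : ∀ k : K, k * ⁅(⟨a, hAK ha⟩ : K), ⟨u, huK⟩⁆ = ⁅(⟨a, hAK ha⟩ : K), ⟨u, huK⟩⁆ * k :=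
      fun k => (mem_center_iff.mp h2 k)
    have h4 := congrArg Subtype.val (h3 ⟨u, huK⟩)
    simp only [commutatorElement_def, coe_mul, coe_inv] at h4
    -- w := a u a⁻¹ u⁻¹ commutes with u, and lies in A
    have hwA : a * u * a⁻¹ * u⁻¹ ∈ A := by
      have h5 : u * a⁻¹ * u⁻¹ ∈ A := (mem_normalizer_iff.mp huA a⁻¹).mp (A.inv_mem ha)
      have h6 : a * u * a⁻¹ * u⁻¹ = a * (u * a⁻¹ * u⁻¹) := by group
      rw [h6]; exact A.mul_mem ha h5
    have hwZ : a * u * a⁻¹ * u⁻¹ ∈ Z := by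
      rw [← hcent]
      refine mem_inf.mpr ⟨hwA, ?_⟩
      rw [mem_centralizer_iff]
      intro x hx
      rw [Set.mem_singleton_iff] at hx
      rw [hx]; exact h4
    have h7 : u * a * u⁻¹ * a⁻¹ = (a * u * a⁻¹ * u⁻¹)⁻¹ := by group
    rw [h7]; exact Z.inv_mem hwZ
  intro a ha haZ
  obtain ⟨w, hw⟩ : ∃ w : G, w = u * a * u⁻¹ * a⁻¹ := ⟨_, rfl⟩
  have hwZ : w ∈ Z := hw ▸ hcomm a ha
  have hw1 : w ≠ 1 := by
    intro h
    apply haZ
    rw [← hcent]
    refine mem_inf.mpr ⟨ha, ?_⟩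
    rw [mem_centralizer_iff]
    intro x hx
    rw [Set.mem_singleton_iff] at hx
    rw [hx]
    have h1 : u * a * u⁻¹ * a⁻¹ = 1 := hw ▸ h
    calc u * a = (u * a * u⁻¹ * a⁻¹) * (a * u) := by group
      _ = a * u := by rw [h1, one_mul]
  have hwu : u * w = w * u := (mem_centralizer_iff.mp (hZc hwZ)) u huP
  have hwa : a * w = w * a := hAc a ha w (hZA hwZ)
  have hpow : ∀ i : ℕ, u ^ i * a * (u ^ i)⁻¹ = a * w ^ i := by
    intro i
    induction i with
    | zero => simp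
    | succ i ih =>
      have h1 : u ^ (i + 1) * a * (u ^ (i + 1))⁻¹ = u * (u ^ i * a * (u ^ i)⁻¹) * u⁻¹ := by
        rw [pow_succ']; group
      have h2 : u * a * u⁻¹ = w * a := by rw [hw]; group
      have h3 : u * w ^ i * u⁻¹ = w ^ i := by
        have h4 : Commute u (w ^ i) := (show Commute u w from hwu).pow_right i
        rw [h4.eq]; group
      rw [h1, ih]
      calc u * (a * w ^ i) * u⁻¹ = (u * a * u⁻¹) * (u * w ^ i * u⁻¹) := by group
        _ = w * a * w ^ i := by rw [h2, h3]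
        _ = a * w ^ (i + 1) := by rw [← hwa, mul_assoc, ← pow_succ']
  -- `A0 ⊓ Z = ⊥`
  have hinf : A0 ⊓ Z = ⊥ := by
    have h1 : Nat.card ↥(A0 ⊓ Z) ∣ p := hA0p ▸ card_dvd_of_le inf_le_left
    rcases (Nat.dvd_prime hpp).mp h1 with h | h
    · exact card_eq_one.mp h
    · exfalso
      have h2 : A0 ⊓ Z = A0 := eq_of_le_of_card_ge inf_le_left (by rw [h, hA0p])
      have h3 : A0 ⊓ Z = Z := eq_of_le_of_card_ge inf_le_right (by rw [h, hZp])
      exact hne (h2.symm.trans h3)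
  -- the product map `A0 × Z → A` is a bijection
  let φ : A0 × Z → A := fun x => ⟨(x.1 : G) * (x.2 : G), A.mul_mem (hA0 x.1.2) (hZA x.2.2)⟩
  have hφinj : Function.Injective φ := by
    rintro ⟨⟨x, hx⟩, ⟨z, hz⟩⟩ ⟨⟨x', hx'⟩, ⟨z', hz'⟩⟩ h
    have h1 : x * z = x' * z' := congrArg Subtype.val h
    have h2 : x'⁻¹ * x = z' * z⁻¹ := by
      calc x'⁻¹ * x = x'⁻¹ * (x * z) * z⁻¹ := by group
        _ = x'⁻¹ * (x' * z') * z⁻¹ := by rw [h1]
        _ = z' * z⁻¹ := by group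
    have h3 : x'⁻¹ * x ∈ A0 ⊓ Z :=
      mem_inf.mpr ⟨A0.mul_mem (A0.inv_mem hx') hx, h2 ▸ Z.mul_mem hz' (Z.inv_mem hz)⟩
    rw [hinf, mem_bot] at h3
    have h4 : x = x' := by
      calc x = x' * (x'⁻¹ * x) := by group
        _ = x' := by rw [h3, mul_one]
    have h5 : z = z' := by
      have h6 : z' * z⁻¹ = 1 := h2 ▸ h3
      calc z = (z' * z⁻¹)⁻¹ * z' := by group
        _ = z' := by rw [h6, inv_one, one_mul]
    subst h4; subst h5; rfl
  have hφbij : Function.Bijective φ := by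
    rw [Nat.bijective_iff_injective_and_card]
    refine ⟨hφinj, ?_⟩
    rw [Nat.card_prod, hA0p, hZp, hA2, sq]
  obtain ⟨⟨⟨x, hx⟩, ⟨z, hz⟩⟩, hxz⟩ := hφbij.2 ⟨a, ha⟩
  have hxz' : x * z = a := congrArg Subtype.val hxz
  -- `z⁻¹` is a power of `w`
  have hpw : (⟨z⁻¹, Z.inv_mem hz⟩ : Z) ∈ Submonoid.powers (⟨w, hwZ⟩ : Z) :=
    mem_powers_of_prime_card hZp (fun h => hw1 (congrArg Subtype.val h))
  obtain ⟨i, hi⟩ := hpw
  have hi' : w ^ i = z⁻¹ := by
    have := congrArg Subtype.val hi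
    simpa using this
  refine ⟨u ^ i, P.pow_mem huP i, ?_⟩
  rw [hpow i, hi', ← hxz']
  have h9 : x * z * z⁻¹ = x := by group
  rw [h9]; exact hx

end Cfsg.Agent.Helper28.BG11TV
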