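import Mathlib
import Cfsg.Prelude.Def_OddOrderLocal
import Cfsg.Agent.Lead.BG95b
import Cfsg.Agent.S1394
import Cfsg.Agent.Helper19.NarrowAut
import Cfsg.Agent.Helper19.RankTwoAut
import Cfsg.Agent.Helper26.Thompson

/-!
# B&G Proposition 10.11 (request (SIG) of helper16)

`A` elementary abelian of order `p ^ 2` with `Ω₁(C_G(A)) = A`, `q ≠ p` a prime dividing `|C_G(A)|`.
For every maximal `A`-invariant `q`-subgroup `Q` of `G` some Sylow `p`-subgroup `S ≥ A` of `G`
normalizes `Q`, lies in `N_G(Q)'`, and centralizes `Q` when `Q` is narrow.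
Relative to the statements of S1410 and S1411 (taken as hypotheses, for the prime `p` only).
-/

set_option autoImplicit false
set_option linter.unusedSectionVars false
set_option linter.style.haveILetI false

namespace Cfsg.Agent.Helper28.BG11

open Subgroup

variable {G : Type*} [Group G] [Finite G]

/-- Schur–Zassenhaus in the `Cfsg.IsComplIn` form: a normal Hall subgroup `H` of `M` has a
complement in `M`. -/
theorem exists_complIn_of_coprime {H M : Subgroup G} (hHM : H ≤ M)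
    (hn : M ≤ normalizer (H : Set G)) (hcop : (Nat.card H).Coprime (H.relIndex M)) :
    ∃ V : Subgroup G, Cfsg.IsComplIn H V M := by
  haveI hN : (H.subgroupOf M).Normal := (normal_subgroupOf_iff_le_normalizer hHM).mpr hn
  have hcard : Nat.card ↥(H.subgroupOf M) = Nat.card H := by
    rw [Cfsg.Agent.Helper26.card_subgroupOf_eq_card_inf, inf_of_le_left hHM]
  have hcop' : (Nat.card ↥(H.subgroupOf M)).Coprime (H.subgroupOf M).index := by
    rw [hcard]; exact hcop
  obtain ⟨K, hK⟩ := Subgroup.exists_right_complement'_of_coprime hcop'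
  refine ⟨K.map M.subtype, hHM, Subgroup.map_subtype_le _, ?_, ?_⟩
  · rw [eq_bot_iff]
    rintro x ⟨hxH, ⟨y, hy, rfl⟩⟩
    have h1 : y ∈ H.subgroupOf M ⊓ K := ⟨mem_subgroupOf.mpr hxH, hy⟩
    rw [hK.disjoint.eq_bot, mem_bot] at h1
    rw [mem_bot, h1]; rfl
  · intro m hm
    obtain ⟨⟨a, b⟩, hab, -⟩ := hK.existsUnique (⟨m, hm⟩ : ↥M)
    refine ⟨((a : ↥M) : G), mem_subgroupOf.mp a.2, ((b : ↥M) : G), ⟨b, b.2, rfl⟩, ?_⟩
    have := congrArg Subtype.val hab
    simpa using this.symm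

/-- a `p`-element `s` with `s ^ (q ^ k)` in a subgroup `C` lies in `C` (`p ≠ q` primes) -/
theorem mem_of_pow_prime_pow_mem {p q : ℕ} (hp : p.Prime) (hq : q.Prime) (hqp : q ≠ p)
    {C : Subgroup G} {s : G} (hs : ∃ n : ℕ, s ^ p ^ n = 1) {k : ℕ} (h : s ^ q ^ k ∈ C) :
    s ∈ C := by
  obtain ⟨n, hn⟩ := hs
  have hord : orderOf s ∣ p ^ n := orderOf_dvd_of_pow_eq_one hn
  have hcop : (q ^ k).Coprime (orderOf s) := by
    apply Nat.Coprime.coprime_dvd_right hord
    exact Nat.Coprime.pow k n ((Nat.coprime_primes hq hp).mpr hqp)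
  obtain ⟨m, hm⟩ := exists_pow_eq_self_of_coprime hcop
  rw [← hm]
  exact C.pow_mem h m

/-- the narrow part: a `p`-subgroup of `N_G(Q)'` centralizes the narrow `q`-group `Q` -/
theorem le_centralizer_of_isNarrow (hodd : Odd (Nat.card G)) {p q : ℕ} [hp : Fact p.Prime]
    [hq : Fact q.Prime] (hqp : q ≠ p) (hq2 : q ≠ 2) {Q S : Subgroup G} (hQq : IsPGroup q ↥Q)
    (hn : Cfsg.IsNarrow q ↥Q) (hS : IsPGroup p ↥S)
    (hSc : S ≤ ⁅normalizer (Q : Set G), normalizer (Q : Set G)⁆) :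
    S ≤ centralizer (Q : Set G) := by
  obtain ⟨N, hN⟩ : ∃ N : Subgroup G, N = normalizer (Q : Set G) := ⟨_, rfl⟩
  rw [← hN] at hSc
  have hQN : Q ≤ N := hN ▸ le_normalizer
  have hcommN : ⁅N, N⁆ ≤ N := commutator_le_self N
  intro s hs
  have hsN : s ∈ N := hcommN (hSc hs)
  have hsc : (⟨s, hsN⟩ : ↥N) ∈ _root_.commutator ↥N := by
    have h1 : s ∈ (_root_.commutator ↥N).map N.subtype := by
      rw [Subgroup.map_subtype_commutator]; exact hSc hs
    obtain ⟨y, hy, hys⟩ := h1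
    have : y = ⟨s, hsN⟩ := Subtype.ext hys
    rw [← this]; exact hy
  have hspow : ∃ n : ℕ, s ^ p ^ n = 1 := by
    obtain ⟨n, hn'⟩ := hS ⟨s, hs⟩
    exact ⟨n, by simpa using congrArg Subtype.val hn'⟩
  -- some power `s ^ (q ^ k)` centralizes `Q`
  have key : ∃ k : ℕ, s ^ q ^ k ∈ centralizer (Q : Set G) := by
    by_cases hrk : Cfsg.PRankLE q 2 ↥Q
    · have hoddN : Odd (Nat.card ↥N) := by
        have hd : Nat.card ↥N ∣ Nat.card G := Subgroup.card_subgroup_dvd_card N
        exact Odd.of_dvd_nat hodd hd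
      subst hN
      obtain ⟨k, hk⟩ := Cfsg.Agent.Helper19.RankTwoAut.commutator_pow_eq_one q hq2 hQq hrk hoddN
        Q.normalizerMonoidHom ⟨s, hsN⟩ hsc
      refine ⟨k, ?_⟩
      rw [← map_pow] at hk
      have h2 : (⟨s, hsN⟩ : ↥(normalizer (Q : Set G))) ^ q ^ k ∈ Q.normalizerMonoidHom.ker :=
        MonoidHom.mem_ker.mpr hk
      rw [normalizerMonoidHom_ker, mem_subgroupOf] at h2
      simpa using h2
    · let φ : ↥Q →* ↥N := Subgroup.inclusion hQN
      have hφinj : Function.Injective φ := Subgroup.inclusion_injective hQN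
      have hφrange : φ.range = Q.subgroupOf N := by
        ext y
        constructor
        · rintro ⟨t, rfl⟩
          exact Subgroup.mem_subgroupOf.mpr t.2
        · intro hy
          exact ⟨⟨y, Subgroup.mem_subgroupOf.mp hy⟩, Subtype.ext rfl⟩
      have hPn : (Q.subgroupOf N).Normal := by
        rw [hN]; exact Subgroup.normal_in_normalizer
      have hφnorm : φ.range.Normal := by rw [hφrange]; exact hPn
      have hx' : (⟨s, hsN⟩ : ↥N) ∈ Cfsg.Agent.Helper19.NarrowAut.commPow q ↥N := by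
        have hle : _root_.commutator ↥N ≤ Cfsg.Agent.Helper19.NarrowAut.commPow q ↥N := by
          rw [_root_.commutator_def, Subgroup.commutator_le]
          intro x _ y _
          exact Subgroup.subset_closure (Or.inl ⟨x, y, rfl⟩)
        exact hle hsc
      obtain ⟨a, ha⟩ := Cfsg.Agent.Helper19.NarrowAut.exists_pow_centralizes_of_isNarrow hq2 hQq hn
        hrk φ hφinj hφnorm ⟨s, hsN⟩ hx'
      refine ⟨a, ?_⟩
      rw [mem_centralizer_iff]
      intro t ht
      have h2 : t * s ^ q ^ a = s ^ q ^ a * t := by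
        have h3 := congrArg Subtype.val (ha ⟨t, ht⟩)
        simpa [φ] using h3
      exact h2
  obtain ⟨k, hk⟩ := key
  exact mem_of_pow_prime_pow_mem hp.out hq.out hqp hspow hk


/-- **B&G Proposition 10.11** relative to the statements of S1410 and S1411 (for the prime `p`). -/
theorem sig_prop (hG : Cfsg.IsMinSimpleOddOrder G) (p : ℕ) [hp : Fact p.Prime]
    (h1410 : ∀ H : Subgroup G, H ≠ ⊤ → Cfsg.PLengthLE p 1 H)
    (h1411 : ∀ (P : Sylow p G) (V : Subgroup G),
      Cfsg.IsComplIn (P : Subgroup G) V (normalizer ((P : Subgroup G) : Set G)) →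
      (P : Subgroup G) = ⁅(P : Subgroup G), V⁆ ∧
      (P : Subgroup G) ≤
        ⁅normalizer ((P : Subgroup G) : Set G), normalizer ((P : Subgroup G) : Set G)⁆)
    (A : Subgroup G) (hA : Cfsg.IsElementaryAbelian p A) (hA2 : Nat.card A = p ^ 2)
    (hAmax : ∀ x ∈ centralizer (A : Set G), x ^ p = 1 ↔ x ∈ A)
    (q : ℕ) (hq : q.Prime) (hqp : q ≠ p) (hqC : q ∣ Nat.card (centralizer (A : Set G)))
    (Q : Subgroup G) (hQ : Q ∈ Cfsg.maxInvSubgroups ⊤ A {q}) :
    ∃ S : Sylow p G, A ≤ (S : Subgroup G) ∧ (S : Subgroup G) ≤ normalizer (Q : Set G) ∧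
      (S : Subgroup G) ≤ ⁅normalizer (Q : Set G), normalizer (Q : Set G)⁆ ∧
      (Cfsg.IsNarrow q ↥Q → (S : Subgroup G) ≤ centralizer (Q : Set G)) := by
  haveI : Fact q.Prime := ⟨hq⟩
  have hAiff := Cfsg.Agent.Helper26.isElementaryAbelian_iff.mp hA
  have hAp : IsPGroup p ↥A := IsPGroup.of_card (n := 2) hA2
  have hAc : IsMulCommutative ↥A := hA.1
  have hpG : p ∣ Nat.card G := by
    have h1 : Nat.card ↥A ∣ Nat.card G := Subgroup.card_subgroup_dvd_card A
    rw [hA2] at h1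
    exact (dvd_pow_self p two_ne_zero).trans h1
  have hTH : Cfsg.TransitivityHypothesis A :=
    Cfsg.Agent.S1396.result hG p hpG A hAp hAc (Or.inl ⟨hAmax, h1410⟩)
  have hqA : ¬ q ∣ Nat.card ↥A := by
    rw [hA2]; intro h
    exact hqp ((Nat.prime_dvd_prime_iff_eq hq hp.out).mp (hq.dvd_of_dvd_pow h))
  have hAcent : A ≤ centralizer (A : Set G) := by
    intro a ha
    rw [mem_centralizer_iff]
    intro b hb
    exact hAiff.1 b hb a ha
  have hZ : ¬ Cfsg.RankLE 1 ↥(A ⊓ centralizer (A : Set G)) := by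
    intro h
    have h1 := h p hp.out (⊤ : Subgroup ↥(A ⊓ centralizer (A : Set G)))
      ⟨⟨fun a b => by
        apply Subtype.ext; apply Subtype.ext
        exact hAiff.1 _ a.1.2.1 _ b.1.2.1⟩⟩
      (fun a _ => by
        apply Subtype.ext
        have := hAiff.2 _ a.2.1
        simpa using this)
    rw [Subgroup.card_top, inf_of_le_left hAcent, hA2, pow_one] at h1
    have h2 : p < p ^ 2 := by
      calc p = p ^ 1 := (pow_one p).symm
        _ < p ^ 2 := Nat.pow_lt_pow_right hp.out.one_lt (by norm_num)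
    omega
  have htr := Cfsg.Agent.S1394.result hG A hTH hZ q hq hqA hqC
  obtain ⟨S0, hAS0⟩ := hAp.exists_le_sylow
  have hS0p : IsPGroup p ↥(S0 : Subgroup G) := S0.isPGroup'
  have hS0top : (S0 : Subgroup G) ≠ ⊤ := Cfsg.Agent.Lead.BG95.isPGroup_ne_top hG hS0p
  have hRπ : ∀ r : ℕ, r.Prime → r ∣ Nat.card ↥(S0 : Subgroup G) → r ∣ Nat.card ↥A := by
    intro r hr hrR
    obtain ⟨k, hk⟩ := IsPGroup.iff_card.mp hS0p
    rw [hk] at hrR
    have h1 : r = p := (Nat.prime_dvd_prime_iff_eq hr hp.out).mp (hr.dvd_of_dvd_pow hrR)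
    rw [h1, hA2]; exact dvd_pow_self p two_ne_zero
  have hsn : (A.subgroupOf (S0 : Subgroup G)).IsSubnormal :=
    Cfsg.Agent.Helper14.isSubnormal_of_isPGroup hS0p _
  obtain ⟨_, _, hsub, hfac⟩ :=
    Cfsg.Agent.S1395.result hG A hTH q hq hqA (S0 : Subgroup G) hS0top hRπ hAS0 hsn htr
  have hbotn : (S0 : Subgroup G) ≤ normalizer (((⊥ : Subgroup G)) : Set G) := by
    rw [Subgroup.normalizer_eq_top_iff.mpr (inferInstance : (⊥ : Subgroup G).Normal)]
    exact le_top
  obtain ⟨Q', _, hQ'⟩ :=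
    Cfsg.Agent.Lead.TT.exists_isMaxInv_ge (q := q) (S0 : Subgroup G) ⊥ IsPGroup.of_bot hbotn
  have hQ'mem : Q' ∈ Cfsg.maxInvSubgroups ⊤ (S0 : Subgroup G) {q} :=
    Cfsg.Agent.Lead.TT.mem_maxInvSubgroups_of_isMaxInv hQ'
  have hQ'A : Q' ∈ Cfsg.maxInvSubgroups ⊤ A {q} := hsub hQ'mem
  obtain ⟨k, hk, hQk⟩ := htr Q' hQ'A Q hQ
  have hkA : k ∈ centralizer (A : Set G) := Cfsg.Agent.Lead.TT.piCoreOf_le _ _ hk
  -- the complement `V` of `S0` in its normalizer, and `S0 ≤ N(S0)'`
  have hS0comm : (S0 : Subgroup G) ≤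
      ⁅normalizer ((S0 : Subgroup G) : Set G), normalizer ((S0 : Subgroup G) : Set G)⁆ := by
    have hcop : (Nat.card ↥(S0 : Subgroup G)).Coprime
        ((S0 : Subgroup G).relIndex (normalizer ((S0 : Subgroup G) : Set G))) := by
      obtain ⟨j, hj⟩ := IsPGroup.iff_card.mp hS0p
      rw [hj]
      apply Nat.Coprime.pow_left
      rw [Nat.Prime.coprime_iff_not_dvd hp.out]
      intro hdvd
      have h1 : (S0 : Subgroup G).relIndex (normalizer ((S0 : Subgroup G) : Set G)) ∣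
          (S0 : Subgroup G).index := Subgroup.relIndex_dvd_index_of_le le_normalizer
      exact S0.not_dvd_index (hdvd.trans h1)
    obtain ⟨V, hV⟩ := exists_complIn_of_coprime (le_normalizer (H := (S0 : Subgroup G)))
      le_rfl hcop
    exact (h1411 S0 V hV).2
  obtain ⟨hfac1, -⟩ := hfac Q' hQ'mem
  have hS0Q' : (S0 : Subgroup G) ≤ ⁅normalizer (Q' : Set G), normalizer (Q' : Set G)⁆ :=
    (le_inf le_rfl hS0comm).trans hfac1
  -- conjugate by `k`
  obtain ⟨c, hc⟩ : ∃ c : G ≃* G, c = MulAut.conj k := ⟨_, rfl⟩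
  have hcard : Nat.card ↥((S0 : Subgroup G).map c.toMonoidHom) =
      p ^ (Nat.card G).factorization p := by
    rw [Subgroup.card_map_of_injective c.injective]
    exact S0.card_eq_multiplicity
  have hNQ : normalizer (Q : Set G) = (normalizer (Q' : Set G)).map c.toMonoidHom := by
    rw [hQk, ← hc]
    exact (Subgroup.map_equiv_normalizer_eq Q' c).symm
  refine ⟨Sylow.ofCard _ hcard, ?_, ?_, ?_, ?_⟩
  · rw [Sylow.coe_ofCard]
    intro a ha
    refine ⟨a, hAS0 ha, ?_⟩
    rw [hc]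
    show k * a * k⁻¹ = a
    have h1 := mem_centralizer_iff.mp hkA a ha
    rw [← h1]; group
  · rw [Sylow.coe_ofCard, hNQ]
    exact Subgroup.map_mono hQ'.2.1
  · rw [Sylow.coe_ofCard, hNQ, ← Subgroup.map_commutator]
    exact Subgroup.map_mono hS0Q'
  · intro hn
    rw [Sylow.coe_ofCard]
    have hodd : Odd (Nat.card G) := hG.1
    have hq2 : q ≠ 2 := by
      rintro rfl
      have h1 : 2 ∣ Nat.card G := hqC.trans (Subgroup.card_subgroup_dvd_card _)
      exact (Nat.not_even_iff_odd.mpr hodd) (even_iff_two_dvd.mpr h1)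
    have hQq : IsPGroup q ↥Q := (Cfsg.Agent.Lead.TT.isMaxInv_of_mem_maxInvSubgroups hQ).1
    have hSp : IsPGroup p ↥((S0 : Subgroup G).map c.toMonoidHom) := hS0p.map _
    refine le_centralizer_of_isNarrow hodd hqp hq2 hQq hn hSp ?_
    rw [hNQ, ← Subgroup.map_commutator]
    exact Subgroup.map_mono hS0Q'

end Cfsg.Agent.Helper28.BG11
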