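import Mathlib
import Cfsg.Prelude.Def_OddOrderLocal
import Cfsg.Agent.Lead.HallGen
import Cfsg.Agent.Helper7.Layer
import Cfsg.Agent.Helper7.FStarComm4
import Cfsg.Agent.Helper23.Cyclic
import Cfsg.Agent.Helper4.BG12SD
import Cfsg.Agent.Helper26.Thompson
import Cfsg.Agent.Helper23.TypeP

/-!
# The abstract core of the `τ₁`-case of B&G 13.7 / 14.2(d) (configuration (*))

`P` a Sylow `p`-subgroup of `G`, `Y ≤ N_G(P)` a `p'`-group centralizing a subgroup `X ≤ P` of
order `p`, with `C_P(Y)` cyclic, `X ⊄ P'`, `N_G(P)' ≤ P C_G(P)`, `P = [P, V]` for every complement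
`V` of `P` in `N_G(P)`, and `Y` a Hall subgroup of `N_G(X)`.  Then some element of
`N_G(Y) ∩ N_G(X) ∩ N_G(P)` does not centralize `X`.
-/

set_option autoImplicit false
set_option linter.unusedSectionVars false
set_option linter.style.haveILetI false

namespace Cfsg.Agent.Helper28.BG13T1

open Subgroup
open scoped commutatorElement

variable {G : Type*} [Group G] [Finite G]

/-- Schur–Zassenhaus with domination, in the `Cfsg.IsComplIn` form: a normal solvable Hall
subgroup `H` of `M` has a complement in `M` containing a given subgroup `Y` of coprime order. -/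
theorem exists_complIn_ge {H M Y : Subgroup G} (hHM : H ≤ M)
    (hn : M ≤ normalizer (H : Set G)) (hcop : (Nat.card H).Coprime (H.relIndex M))
    (hsolv : Group.IsSolvable ↥H) (hYM : Y ≤ M) (hY : (Nat.card H).Coprime (Nat.card Y)) :
    ∃ V : Subgroup G, Cfsg.IsComplIn H V M ∧ Y ≤ V := by
  haveI hN : (H.subgroupOf M).Normal := (normal_subgroupOf_iff_le_normalizer hHM).mpr hn
  have hcard : Nat.card ↥(H.subgroupOf M) = Nat.card H := by
    rw [Cfsg.Agent.Helper26.card_subgroupOf_eq_card_inf, inf_of_le_left hHM]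
  have hcardY : Nat.card ↥(Y.subgroupOf M) = Nat.card Y := by
    rw [Cfsg.Agent.Helper26.card_subgroupOf_eq_card_inf, inf_of_le_left hYM]
  have hcop' : (Nat.card ↥(H.subgroupOf M)).Coprime (H.subgroupOf M).index := by
    rw [hcard]; exact hcop
  have hsolv' : Group.IsSolvable ↥(H.subgroupOf M) :=
    Group.isSolvable_of_isSolvable_injective (f := (subgroupOfEquivOfLe hHM).toMonoidHom)
      (subgroupOfEquivOfLe hHM).injective
  obtain ⟨K, hK, hYK⟩ := Cfsg.Agent.Lead.sz_exists_complement_ge (H.subgroupOf M) hcop' hsolv'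
    (Y.subgroupOf M) (by rw [hcard, hcardY]; exact hY)
  refine ⟨K.map M.subtype, ⟨hHM, Subgroup.map_subtype_le _, ?_, ?_⟩, ?_⟩
  · rw [eq_bot_iff]
    rintro x ⟨hxH, ⟨y, hy, rfl⟩⟩
    have h1 : y ∈ H.subgroupOf M ⊓ K := ⟨mem_subgroupOf.mpr hxH, hy⟩
    rw [hK.disjoint.eq_bot, mem_bot] at h1
    rw [mem_bot, h1]; rfl
  · intro m hm
    obtain ⟨⟨a, b⟩, hab, -⟩ := hK.existsUnique (⟨m, hm⟩ : ↥M)
    refine ⟨((a : ↥M) : G), mem_subgroupOf.mp a.2, ((b : ↥M) : G), ⟨b, b.2, rfl⟩, ?_⟩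
    have := congrArg Subtype.val hab
    simpa using this.symm
  · intro y hy
    exact ⟨⟨y, hYM hy⟩, hYK (mem_subgroupOf.mpr hy), rfl⟩

/-- an element of order prime to `n` with `g ^ n ∈ C` lies in `C` -/
theorem mem_of_pow_mem_of_coprime {C : Subgroup G} {g : G} {n : ℕ}
    (hcop : (orderOf g).Coprime n) (h : g ^ n ∈ C) : g ∈ C := by
  have h1 : orderOf (g ^ n) = orderOf g := hcop.orderOf_pow
  have h2 : zpowers (g ^ n) = zpowers g := by
    apply Subgroup.eq_of_le_of_card_ge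
    · rw [zpowers_le]; exact (zpowers g).pow_mem (mem_zpowers g) n
    · rw [Nat.card_zpowers, Nat.card_zpowers, h1]
  have h3 : g ∈ zpowers (g ^ n) := by rw [h2]; exact mem_zpowers g
  exact (zpowers_le.mpr h) h3

/-- a `p'`-element of `P C_G(P)` (`P` a `p`-group) centralizes `P` -/
theorem mem_centralizer_of_mem_sup {p : ℕ} {P : Subgroup G}
    (hP : IsPGroup p P) {g : G} (hg : g ∈ P ⊔ centralizer (P : Set G))
    (hcop : (orderOf g).Coprime p) : g ∈ centralizer (P : Set G) := by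
  have hn : centralizer (P : Set G) ≤ normalizer (P : Set G) := centralizer_le_normalizer _
  obtain ⟨a, ha, b, hb, rfl⟩ := (Cfsg.Agent.Helper7.mem_sup_of_le_normalizer hn).mp hg
  obtain ⟨k, hk⟩ := hP ⟨a, ha⟩
  have hk' : a ^ (p ^ k) = 1 := by
    have := congrArg Subtype.val hk
    simpa using this
  have hcomm : Commute a b := (mem_centralizer_iff.mp hb a ha)
  have h1 : (a * b) ^ (p ^ k) = b ^ (p ^ k) := by
    rw [hcomm.mul_pow, hk', one_mul]
  apply mem_of_pow_mem_of_coprime (n := p ^ k) (Nat.Coprime.pow_right k hcop)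
  rw [h1]
  exact (centralizer (P : Set G)).pow_mem hb _

theorem le_normalizer_of_conj {A U : Subgroup G}
    (h : ∀ b ∈ A, ∀ u ∈ U, b * u * b⁻¹ ∈ U) : A ≤ normalizer (U : Set G) := by
  intro b hb
  rw [mem_normalizer_iff]
  intro n
  constructor
  · exact h b hb n
  · intro hn
    have := h b⁻¹ (A.inv_mem hb) _ hn
    have e : b⁻¹ * (b * n * b⁻¹) * b⁻¹⁻¹ = n := by group
    rwa [e] at this

/-- **Abstract core of T1.** -/
theorem t1_core {p : ℕ} [hp : Fact p.Prime] (P : Sylow p G) {X Y : Subgroup G}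
    (hsolv : Group.IsSolvable ↥(normalizer ((P : Subgroup G) : Set G)))
    (hYN : Y ≤ normalizer ((P : Subgroup G) : Set G)) (hYp : (Nat.card Y).Coprime p)
    (hXP : X ≤ (P : Subgroup G)) (hX : Nat.card X = p) (hYX : Y ≤ centralizer (X : Set G))
    (hcyc : IsCyclic ↥((P : Subgroup G) ⊓ centralizer (Y : Set G)))
    (hXP' : ¬ X ≤ ⁅(P : Subgroup G), (P : Subgroup G)⁆)
    (hder : ⁅normalizer ((P : Subgroup G) : Set G), normalizer ((P : Subgroup G) : Set G)⁆ ≤
      (P : Subgroup G) ⊔ centralizer ((P : Subgroup G) : Set G))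
    (hcomm : ∀ V : Subgroup G,
      Cfsg.IsComplIn (P : Subgroup G) V (normalizer ((P : Subgroup G) : Set G)) →
        (P : Subgroup G) = ⁅(P : Subgroup G), V⁆)
    (hHall : (Nat.card Y).Coprime (Y.relIndex (normalizer (X : Set G)))) :
    ∃ V : Subgroup G, Cfsg.IsComplIn (P : Subgroup G) V (normalizer ((P : Subgroup G) : Set G)) ∧
      Y ≤ V ∧ V ≤ normalizer (X : Set G) ∧ ⁅V, Y⁆ ≤ centralizer ((P : Subgroup G) : Set G) ∧
      (Nat.card V).Coprime p ∧
      ∃ e ∈ V ⊓ normalizer (Y : Set G), e ∉ centralizer (X : Set G) := by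
  have hpp : p.Prime := hp.out
  set Q : Subgroup G := (P : Subgroup G) with hQ
  set N : Subgroup G := normalizer (Q : Set G) with hN
  have hQp : IsPGroup p ↥Q := P.isPGroup'
  have hQN : Q ≤ N := le_normalizer
  -- Step 1: the complement
  have hcopQ : (Nat.card Q).Coprime (Q.relIndex N) := by
    have h1 : (Nat.card Q).Coprime Q.index := P.card_coprime_index
    exact Nat.Coprime.coprime_dvd_right (Dvd.intro _ (relIndex_mul_index hQN)) h1
  have hsolvQ : Group.IsSolvable ↥Q := by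
    haveI := hQp.isNilpotent
    infer_instance
  obtain ⟨k, hk⟩ := hQp.exists_card_eq
  have hcopQY : (Nat.card Q).Coprime (Nat.card Y) := by
    rw [hk]; exact (Nat.Coprime.pow_left k hYp.symm)
  obtain ⟨V, hV, hYV⟩ := exists_complIn_ge hQN le_rfl hcopQ hsolvQ hYN hcopQY
  have hVN : V ≤ N := hV.2.1
  -- `V` is a `p'`-group
  have hVcard : Nat.card N = Nat.card Q * Nat.card V :=
    Cfsg.Agent.Helper23.card_of_isComplIn _ _ _ hV
  have hVrel : Nat.card V = Q.relIndex N := by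
    have h1 : Nat.card Q * Q.relIndex N = Nat.card N :=
      Cfsg.Agent.Helper26.card_mul_relIndex_of_le hQN
    have h2 : 0 < Nat.card Q := Nat.card_pos
    rw [hVcard] at h1
    exact (Nat.eq_of_mul_eq_mul_left h2 h1).symm
  have hpQ : p ∣ Nat.card Q := hX ▸ card_dvd_of_le hXP
  have hVp : (Nat.card V).Coprime p := by
    rw [hVrel]
    exact (Nat.Coprime.coprime_dvd_left hpQ hcopQ).symm
  have hVQ : (Nat.card V).Coprime (Nat.card Q) := by
    rw [hk]; exact Nat.Coprime.pow_right k hVp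
  -- Step 2: `[V, Y] ≤ C_G(Q)`
  have hVY : ⁅V, Y⁆ ≤ centralizer (Q : Set G) := by
    rw [commutator_le]
    intro v hv y hy
    have h1 : ⁅v, y⁆ ∈ Q ⊔ centralizer (Q : Set G) :=
      hder (commutator_mem_commutator (hVN hv) (hYN hy))
    have h2 : ⁅v, y⁆ ∈ V := by
      rw [commutatorElement_def]
      exact V.mul_mem (V.mul_mem (V.mul_mem hv (hYV hy)) (V.inv_mem hv)) (V.inv_mem (hYV hy))
    have h3 : (orderOf ⁅v, y⁆).Coprime p :=
      Nat.Coprime.coprime_dvd_left (Subgroup.orderOf_dvd_natCard V h2) hVp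
    exact mem_centralizer_of_mem_sup hQp h1 h3
  -- Step 3: `V` normalizes `S' = C_Q(Y)`
  set S' : Subgroup G := Q ⊓ centralizer (Y : Set G) with hS'
  have hVS' : V ≤ normalizer (S' : Set G) := by
    apply le_normalizer_of_conj
    intro v hv s hs
    have hsQ : s ∈ Q := hs.1
    have hvN : v ∈ normalizer (Q : Set G) := hVN hv
    have h1 : v * s * v⁻¹ ∈ Q := (mem_normalizer_iff.mp hvN s).mp hsQ
    refine mem_inf.mpr ⟨h1, ?_⟩
    rw [mem_centralizer_iff]
    intro y hy
    -- `v⁻¹ y v = y * ⁅y⁻¹, v⁻¹⁆` commutes with `s`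
    have hc : ⁅v⁻¹, y⁆ ∈ centralizer (Q : Set G) :=
      hVY (commutator_mem_commutator (V.inv_mem hv) hy)
    have hcs : ⁅v⁻¹, y⁆ * s = s * ⁅v⁻¹, y⁆ := (mem_centralizer_iff.mp hc s hsQ).symm
    have hys : y * s = s * y := mem_centralizer_iff.mp hs.2 y hy
    -- v⁻¹ y v = ⁅v⁻¹, y⁆ * y
    have e1 : v⁻¹ * y * v = ⁅v⁻¹, y⁆ * y := by rw [commutatorElement_def]; group
    have e2 : (v⁻¹ * y * v) * s = s * (v⁻¹ * y * v) := by
      rw [e1, mul_assoc, hys, ← mul_assoc, hcs, mul_assoc]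
    calc y * (v * s * v⁻¹) = v * ((v⁻¹ * y * v) * s) * v⁻¹ := by group
      _ = v * (s * (v⁻¹ * y * v)) * v⁻¹ := by rw [e2]
      _ = v * s * v⁻¹ * y := by group
  -- Step 4: `V` normalizes `X`
  have hXY : X ≤ centralizer (Y : Set G) := by
    rw [le_centralizer_iff]; exact hYX
  have hXS' : X ≤ S' := le_inf hXP hXY
  have hVX : V ≤ normalizer (X : Set G) := by
    intro v hv
    rw [Cfsg.Agent.Helper14.mem_normalizer_iff_map_cj]
    apply Cfsg.Agent.Helper23.eq_of_card_eq_of_isCyclic S' hcyc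
    · intro x hx
      obtain ⟨x0, hx0, rfl⟩ := hx
      have := (mem_normalizer_iff.mp (hVS' hv) x0).mp (hXS' hx0)
      exact this
    · exact hXS'
    · rw [Cfsg.Agent.Helper14.card_map_cj]
  -- Step 5: `V` does not centralize `X`
  have hVnC : ¬ V ≤ centralizer (X : Set G) := by
    intro hVC
    apply hXP'
    have h1 := Cfsg.Agent.Helper7.coprime_centralizer_inf_commutator_le (L := Q) (Q := V) (R := Q)
      hVN hVQ (fun l hl => ⟨l, hl, by rw [inv_mul_cancel]; exact one_mem _⟩)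
    rw [← hcomm V hV] at h1
    refine le_trans ?_ h1
    refine le_inf (le_inf hXP ?_) hXP
    rw [le_centralizer_iff]; exact hVC
  -- Step 6: Frattini
  set C₀ : Subgroup G := V ⊓ centralizer (Q : Set G) with hC₀
  have hVC₀ : V ≤ normalizer (C₀ : Set G) := by
    apply le_normalizer_of_conj
    intro v hv c hc
    refine mem_inf.mpr ⟨V.mul_mem (V.mul_mem hv hc.1) (V.inv_mem hv), ?_⟩
    rw [mem_centralizer_iff]
    intro x hx
    have hvN : v ∈ normalizer (Q : Set G) := hVN hv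
    have h1 : v⁻¹ * x * v⁻¹⁻¹ ∈ Q :=
      (mem_normalizer_iff.mp (N.inv_mem hvN) x).mp hx
    have h2 := mem_centralizer_iff.mp hc.2 _ h1
    calc x * (v * c * v⁻¹) = v * ((v⁻¹ * x * v⁻¹⁻¹) * c) * v⁻¹ := by group
      _ = v * (c * (v⁻¹ * x * v⁻¹⁻¹)) * v⁻¹ := by rw [h2]
      _ = v * c * v⁻¹ * x := by group
  set K : Subgroup G := C₀ ⊔ Y with hK
  have hYC₀ : Y ≤ normalizer (C₀ : Set G) := hYV.trans hVC₀
  have hKV : K ≤ V := sup_le inf_le_left hYV
  have hVK : V ≤ normalizer (K : Set G) := by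
    apply le_normalizer_of_conj
    intro v hv x hx
    obtain ⟨a, ha, b, hb, rfl⟩ := (Cfsg.Agent.Helper7.mem_sup_of_le_normalizer hYC₀).mp hx
    have h1 : v * a * v⁻¹ ∈ C₀ := (mem_normalizer_iff.mp (hVC₀ hv) a).mp ha
    have h2 : ⁅v, b⁆ ∈ C₀ := by
      refine mem_inf.mpr ⟨?_, hVY (commutator_mem_commutator hv hb)⟩
      rw [commutatorElement_def]
      exact V.mul_mem (V.mul_mem (V.mul_mem hv (hYV hb)) (V.inv_mem hv)) (V.inv_mem (hYV hb))
    have e : v * (a * b) * v⁻¹ = (v * a * v⁻¹) * ⁅v, b⁆ * b := by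
      rw [commutatorElement_def]; group
    rw [e]
    exact K.mul_mem (K.mul_mem (le_sup_left (a := C₀) h1) (le_sup_left (a := C₀) h2))
      (le_sup_right (b := Y) hb)
  have hKsolv : Group.IsSolvable ↥K :=
    Group.isSolvable_of_isSolvable_injective (f := Subgroup.inclusion (hKV.trans hVN))
      (Subgroup.inclusion_injective _)
  have hcopK : (Nat.card Y).Coprime (Y.relIndex K) := by
    have h1 : Y.relIndex K * K.relIndex (normalizer (X : Set G)) =
        Y.relIndex (normalizer (X : Set G)) :=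
      relIndex_mul_relIndex Y K _ le_sup_right (hKV.trans hVX)
    exact Nat.Coprime.coprime_dvd_right (Dvd.intro _ h1) hHall
  have hfrat := Cfsg.Agent.Helper4.BG12SD.hall_frattini_cj hKV hVK hKsolv
    (le_sup_right : Y ≤ K) hcopK
  refine ⟨V, hV, hYV, hVX, hVY, hVp, ?_⟩
  by_contra hcon
  push Not at hcon
  apply hVnC
  refine hfrat.trans (sup_le (sup_le ?_ hYX) hcon)
  intro c hc
  exact centralizer_le hXP hc.2

end Cfsg.Agent.Helper28.BG13T1
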