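import Mathlib
import Cfsg.Prelude.Def_OddOrderLocal
import Cfsg.Agent.Helper28.BG13T1
import Cfsg.Agent.Helper9.NPC
import Cfsg.Agent.Helper9.BG12b
import Cfsg.Agent.Helper16.BG11b
import Cfsg.Agent.Helper10.SylInt
import Cfsg.Agent.Helper4.BG12SD
import Cfsg.Agent.S1350
import Cfsg.Agent.S1411
import Cfsg.Agent.S1414
import Cfsg.Agent.Helper28.BG11SIG
import Cfsg.Agent.Helper9.BG12f

/-!
# B&G level form of the `τ₁`-lemma (T1) for the configuration (*) of B&G 13.7 / 14.2(d)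

`M₂` a maximal subgroup, `p ∈ σ(M₂) \ β(M₂)`, `X ≤ M₂` of order `p` not inside `((M₂)_σ)'`,
`Y ≤ M₂ ∩ C_G(X)` of order prime to `|(M₂)_σ|`, every `p`-subgroup of `C_G(Y)` cyclic, and `Y` a
Hall subgroup of `N_G(X)`.  Then there are a `Y`-invariant Sylow `p`-subgroup `P ≥ X` of `G` inside
`(M₂)_σ`, a complement `V ≥ Y` of `P` in `N_G(P)` normalizing `X`, and an element of `N_V(Y)` not
centralizing `X`.
-/

set_option autoImplicit false
set_option linter.unusedSectionVars false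
set_option linter.style.haveILetI false

namespace Cfsg.Agent.Helper28.BG13T1

open Subgroup
open scoped commutatorElement
open Cfsg.Agent.Helper14 (IsSylowIn)

variable {G : Type*} [Group G] [Finite G]

/-- ambient form of a normal `t`-complement of the subgroup `L`, relative to a given Sylow
`t`-subgroup `V` of `L` -/
theorem npc_ambient {L V : Subgroup G} {t : ℕ} [Fact t.Prime]
    (hV : IsSylowIn t V L) (hnpc : Cfsg.HasNormalPComplement t ↥L) :
    ∃ K : Subgroup G, K ≤ L ∧ L ≤ normalizer (K : Set G) ∧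
      (∀ n ∈ L, ∃ k ∈ K, ∃ n₁ ∈ V, n = k * n₁) ∧ (Nat.card V).Coprime (Nat.card K) := by
  obtain ⟨N, hNn, hNc⟩ := (Cfsg.Agent.Helper9.hasNormalPComplement_iff (hV.toSylow)).mp hnpc
  refine ⟨N.map L.subtype, Subgroup.map_subtype_le _, ?_, ?_, ?_⟩
  · apply le_normalizer_of_conj
    rintro l hl _ ⟨n, hn, rfl⟩
    refine ⟨⟨l, hl⟩ * n * ⟨l, hl⟩⁻¹, hNn.conj_mem n hn ⟨l, hl⟩, ?_⟩
    simp
  · intro n hn
    obtain ⟨⟨a, b⟩, hab, -⟩ := hNc.existsUnique (⟨n, hn⟩ : ↥L)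
    refine ⟨((a : ↥L) : G), ⟨a, a.2, rfl⟩, ((b : ↥L) : G), ?_, ?_⟩
    · have := b.2
      exact Subgroup.mem_subgroupOf.mp this
    · have := congrArg (fun x : ↥L => (x : G)) hab
      simpa using this.symm
  · have h1 : Nat.card (N.map L.subtype) = Nat.card N :=
      Subgroup.card_map_of_injective (Subgroup.subtype_injective L)
    have h2 : Nat.card N = ((hV.toSylow : Sylow t ↥L) : Subgroup ↥L).index :=
      hNc.index_eq_card.symm
    obtain ⟨k, hk⟩ := IsPGroup.iff_card.mp hV.2.1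
    rw [h1, h2, hk]
    apply Nat.Coprime.pow_left
    exact (Nat.Prime.coprime_iff_not_dvd (Fact.out : t.Prime)).mpr (hV.toSylow).not_dvd_index

/-- if `L ≥ P` has a normal `p`-complement (`P` a Sylow `p`-subgroup of `L`), then
`N_L(P) ≤ P C_G(P)`. -/
theorem normalizer_le_sup_centralizer_of_npc {L P : Subgroup G} {p : ℕ} [Fact p.Prime]
    (hP : IsSylowIn p P L) (hnpc : Cfsg.HasNormalPComplement p ↥L) :
    L ⊓ normalizer (P : Set G) ≤ P ⊔ centralizer (P : Set G) := by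
  obtain ⟨K, hKL, hLK, hfac, hcop⟩ := npc_ambient hP hnpc
  have hPL : P ≤ L := hP.1
  have hdisj : P ⊓ K = ⊥ := (Subgroup.disjoint_of_coprime_natCard hcop).eq_bot
  rintro x ⟨hxL, hxN⟩
  obtain ⟨k, hk, a, ha, rfl⟩ := hfac x hxL
  have hkN : k ∈ normalizer (P : Set G) := by
    have h1 : k * a * a⁻¹ ∈ normalizer (P : Set G) :=
      (normalizer (P : Set G)).mul_mem hxN ((normalizer (P : Set G)).inv_mem (le_normalizer ha))
    rwa [mul_inv_cancel_right] at h1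
  have hkC : k ∈ centralizer (P : Set G) := by
    rw [mem_centralizer_iff]
    intro u hu
    have h1 : k * u * k⁻¹ ∈ P := (mem_normalizer_iff.mp hkN u).mp hu
    have h2 : ⁅k, u⁆ ∈ P := by
      rw [commutatorElement_def]; exact P.mul_mem h1 (P.inv_mem hu)
    have h3 : u * k⁻¹ * u⁻¹ ∈ K :=
      (mem_normalizer_iff.mp (hLK (hPL hu)) k⁻¹).mp (K.inv_mem hk)
    have h4 : ⁅k, u⁆ ∈ K := by
      have e : ⁅k, u⁆ = k * (u * k⁻¹ * u⁻¹) := by rw [commutatorElement_def]; group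
      rw [e]; exact K.mul_mem hk h3
    have h5 : ⁅k, u⁆ ∈ P ⊓ K := ⟨h2, h4⟩
    rw [hdisj, mem_bot] at h5
    have e : u * k = (⁅k, u⁆)⁻¹ * (k * u) := by rw [commutatorElement_def]; group
    rw [e, h5, inv_one, one_mul]
  rw [sup_comm]
  exact Subgroup.mul_mem_sup hkC ha

/-- `L` a maximal subgroup, `p ∈ σ(L) \ β(L)`, `P ≤ L` a Sylow `p`-subgroup of `G`:
`N_G(P)' ≤ P C_G(P)` (so `N_G(P)/P C_G(P)` is abelian). -/
theorem commutator_normalizer_le (hG : Cfsg.IsMinSimpleOddOrder G) {L : Subgroup G}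
    (hL : IsCoatom L) {p : ℕ} [hp : Fact p.Prime] (hpσ : p ∈ Cfsg.sigma L)
    (hpβ : p ∉ Cfsg.beta L) (P : Sylow p G) (hPL : (P : Subgroup G) ≤ L) :
    ⁅normalizer ((P : Subgroup G) : Set G), normalizer ((P : Subgroup G) : Set G)⁆ ≤
      (P : Subgroup G) ⊔ centralizer ((P : Subgroup G) : Set G) := by
  have hpp : p.Prime := hp.out
  set Q : Subgroup G := (P : Subgroup G) with hQ
  have hQtop : IsSylowIn p Q ⊤ := Cfsg.Agent.Helper10.isSylowIn_top_coe P
  have hQL : IsSylowIn p Q L := Cfsg.Agent.Helper10.isSylowIn_of_le hQtop hPL le_top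
  have hNQL : normalizer (Q : Set G) ≤ L := Cfsg.Agent.Helper4.BG10.sigma_normalizer_le hpσ hQL
  have hnpc : Cfsg.HasNormalPComplement p ↥⁅L, L⁆ :=
    ((Cfsg.Agent.S1414.result hG L hL).2.2.2.2 p hpp hpσ.2.1 hpβ).1
  have hN' : ⁅normalizer (Q : Set G), normalizer (Q : Set G)⁆ ≤ ⁅L, L⁆ :=
    commutator_mono hNQL hNQL
  have hQD : Q ≤ ⁅L, L⁆ := by
    obtain ⟨V, hV⟩ := Cfsg.Agent.Helper28.BG11.exists_complIn_of_coprime
      (H := Q) (M := normalizer (Q : Set G)) le_normalizer le_rfl (by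
        have h1 : (Nat.card (P : Subgroup G)).Coprime (P : Subgroup G).index :=
          P.card_coprime_index
        exact Nat.Coprime.coprime_dvd_right
          (Dvd.intro _ (relIndex_mul_index (le_normalizer (H := Q)))) h1)
    exact ((Cfsg.Agent.S1411.result hG p P V hV).2).trans hN'
  have hQD' : IsSylowIn p Q ⁅L, L⁆ := Cfsg.Agent.Helper10.isSylowIn_of_le hQtop hQD le_top
  have h2 := normalizer_le_sup_centralizer_of_npc hQD' hnpc
  refine le_trans (le_inf hN' ?_) h2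
  exact Cfsg.Agent.Lead.commutator_le_of_le_normalizer le_normalizer

/-- **T1 at the B&G level.** -/
theorem t1_bg (hG : Cfsg.IsMinSimpleOddOrder G) {M₂ : Subgroup G} (hM₂ : IsCoatom M₂)
    {p : ℕ} [hp : Fact p.Prime] (hpσ : p ∈ Cfsg.sigma M₂) (hpβ : p ∉ Cfsg.beta M₂)
    {X Y : Subgroup G} (hX : Nat.card X = p) (hXM : X ≤ M₂)
    (hXder : ¬ X ≤ ⁅Cfsg.sigmaCore M₂, Cfsg.sigmaCore M₂⁆)
    (hYM : Y ≤ M₂) (hYX : Y ≤ centralizer (X : Set G))
    (hYσ : (Nat.card Y).Coprime (Nat.card (Cfsg.sigmaCore M₂)))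
    (hcyc : ∀ S : Subgroup G, IsPGroup p S → S ≤ centralizer (Y : Set G) → IsCyclic S)
    (hHall : (Nat.card Y).Coprime (Y.relIndex (normalizer (X : Set G)))) :
    ∃ (P : Sylow p G) (V : Subgroup G), X ≤ (P : Subgroup G) ∧
      (P : Subgroup G) ≤ Cfsg.sigmaCore M₂ ∧
      Y ≤ normalizer ((P : Subgroup G) : Set G) ∧
      Cfsg.IsComplIn (P : Subgroup G) V (normalizer ((P : Subgroup G) : Set G)) ∧
      Y ≤ V ∧ V ≤ normalizer (X : Set G) ∧
      ⁅V, Y⁆ ≤ centralizer ((P : Subgroup G) : Set G) ∧ (Nat.card V).Coprime p ∧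
      ∃ e ∈ V ⊓ normalizer (Y : Set G), e ∉ centralizer (X : Set G) := by
  have hpp : p.Prime := hp.out
  set K : Subgroup G := Cfsg.sigmaCore M₂ with hK
  have hKM : K ≤ M₂ := Cfsg.Agent.H9.BG12.sigmaCore_le M₂
  have hMK : M₂ ≤ normalizer (K : Set G) := Cfsg.Agent.H9.BG12.le_normalizer_sigmaCore M₂
  have hM₂top : M₂ ≠ ⊤ := hM₂.1
  have hXp : IsPGroup p X := IsPGroup.of_card (n := 1) (by rw [hX, pow_one])
  -- `X ≤ K`
  have h1350 := Cfsg.Agent.S1350.result hG M₂ hM₂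
  have hXK : X ≤ K := by
    obtain ⟨hle, hπ, hidx⟩ := h1350.1
    apply Cfsg.Agent.H9.BG12.le_of_coprime_card_relIndex hXM hle hMK
    rw [hX]
    exact (Nat.Prime.coprime_iff_not_dvd hpp).mpr (hidx p hpp hpσ)
  -- a `Y`-invariant Sylow `p`-subgroup of `K` containing `X`
  have hKsolv : Group.IsSolvable ↥K :=
    hG.2.2.2 K (fun h => hM₂top (top_le_iff.mp (h ▸ hKM)))
  obtain ⟨Q, hQK, hXQ, hYQ⟩ := Cfsg.Agent.Helper16.BG11.exists_invariant_sylow_ge Y K X
    (hYM.trans hMK) hYσ (Or.inr hKsolv) p hXK hXp (hYX.trans (centralizer_le_normalizer _))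
  have hQM : IsSylowIn p Q M₂ :=
    Cfsg.Agent.Helper4.BG12SD.isSylowIn_of_isSylowIn_sigmaCore hG hM₂ hpσ hQK
  have hQtop : IsSylowIn p Q ⊤ := Cfsg.Agent.Helper4.BG10.sigma_isSylowIn_top hpσ hQM
  have hNQM : normalizer (Q : Set G) ≤ M₂ := Cfsg.Agent.Helper4.BG10.sigma_normalizer_le hpσ hQM
  set P : Sylow p G := Cfsg.Agent.Helper10.toSylowTop hQtop with hP
  have hPQ : (P : Subgroup G) = Q := rfl
  -- the hypotheses of `t1_core`
  have hNsolv : Group.IsSolvable ↥(normalizer ((P : Subgroup G) : Set G)) :=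
    hG.2.2.2 _ (fun h => hM₂top (top_le_iff.mp (h ▸ hNQM)))
  have hYp : (Nat.card Y).Coprime p :=
    Nat.Coprime.coprime_dvd_right (hX ▸ card_dvd_of_le hXK) hYσ
  have hcyc' : IsCyclic ↥((P : Subgroup G) ⊓ centralizer (Y : Set G)) :=
    hcyc _ (P.isPGroup'.to_le inf_le_left) inf_le_right
  have hQder : ⁅Q, Q⁆ ≤ ⁅K, K⁆ := commutator_mono hQK.1 hQK.1
  have hXP' : ¬ X ≤ ⁅(P : Subgroup G), (P : Subgroup G)⁆ := fun h => hXder (h.trans hQder)
  have h1411 := fun V hV => Cfsg.Agent.S1411.result hG p P V hV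
  have hder := commutator_normalizer_le hG hM₂ hpσ hpβ P (hQM.1)
  obtain ⟨V, hV, hYV, hVX, hVY, hVp, he⟩ := t1_core P hNsolv hYQ hYp hXQ hX hYX hcyc' hXP' hder
    (fun V hV => (h1411 V hV).1) hHall
  exact ⟨P, V, hXQ, hQK.1, hYQ, hV, hYV, hVX, hVY, hVp, he⟩

end Cfsg.Agent.Helper28.BG13T1
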