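import Mathlib
import Cfsg.Prelude.Def_Classical

set_option autoImplicit false

namespace Cfsg.Agent.Helper28.IsoTransport

open Matrix

variable {ι : Type} [Fintype ι] [DecidableEq ι] {K F : Type*} [Field K] [Field F]

/-- the isomorphism of general linear groups induced by a field isomorphism -/
noncomputable def glMap (e : K ≃+* F) : GL ι K ≃* GL ι F :=
  Units.mapEquiv (e.mapMatrix (m := ι)).toMulEquiv

theorem glMap_val (e : K ≃+* F) (g : GL ι K) :
    ((glMap e g : GL ι F) : Matrix ι ι F) = (g : Matrix ι ι K).map e := rfl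

theorem glMap_symm_val (e : K ≃+* F) (g : GL ι F) :
    (((glMap (ι := ι) e).symm g : GL ι K) : Matrix ι ι K) = (g : Matrix ι ι F).map e.symm := rfl

omit [DecidableEq ι] in
theorem map_mulVec_comp (e : K ≃+* F) (M : Matrix ι ι K) (w : ι → K) :
    (M.map e) *ᵥ (e ∘ w) = e ∘ (M *ᵥ w) := by
  funext i
  simp only [mulVec, dotProduct, map_apply, Function.comp_apply, map_sum, map_mul]

theorem mem_isometryGroup_iff (Q : (ι → F) → F) (g : GL ι F) :
    g ∈ Cfsg.isometryGroup F Q ↔ ∀ u, Q ((g : Matrix ι ι F) *ᵥ u) = Q u := by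
  constructor
  · intro h u
    exact h u u
  · intro h u _
    exact h u

/-- Isometry groups of "the same" quadratic form over isomorphic fields are isomorphic. -/
theorem isometryGroup_transport (e : K ≃+* F) (QK : (ι → K) → K) (QF : (ι → F) → F)
    (h : ∀ w, QF (e ∘ w) = e (QK w)) :
    Nonempty (↥(Cfsg.isometryGroup K QK) ≃* ↥(Cfsg.isometryGroup F QF)) := by
  have hmap : (Cfsg.isometryGroup K QK).map ((glMap (ι := ι) e : GL ι K ≃* GL ι F) : GL ι K →* GL ι F)
      = Cfsg.isometryGroup F QF := by
    rw [Subgroup.map_equiv_eq_comap_symm]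
    ext g
    rw [Subgroup.mem_comap, mem_isometryGroup_iff, mem_isometryGroup_iff]
    have hsymm : ∀ u : ι → F, e ∘ (e.symm ∘ u) = u := by
      intro u; funext i; simp
    constructor
    · intro hg u
      have := hg (e.symm ∘ u)
      have h2 := congrArg e this
      rw [← h, ← h, ← map_mulVec_comp, hsymm] at h2
      convert h2 using 3
      ext i j
      simp [glMap_symm_val]
    · intro hg w
      apply e.injective
      rw [← h, ← h, ← map_mulVec_comp]
      convert hg (e ∘ w) using 3
      ext i j
      simp [glMap_symm_val]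
  exact ⟨((glMap (ι := ι) e).subgroupMap (Cfsg.isometryGroup K QK)).trans
    (MulEquiv.subgroupCongr hmap)⟩

end Cfsg.Agent.Helper28.IsoTransport
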