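import Mathlib
import Cfsg.Prelude.Def_ClassicalGeometry

set_option autoImplicit false

namespace Cfsg.Agent.Helper28

open Matrix

theorem det_one_add_vecMulVec {R : Type*} [CommRing R] {n : Type*} [Fintype n] [DecidableEq n]
    (u v : n → R) : (1 + Matrix.vecMulVec u v).det = 1 + v ⬝ᵥ u := by
  rw [Matrix.vecMulVec_eq Unit, Matrix.det_one_add_replicateCol_mul_replicateRow]

variable {F : Type*} [Field F] {n : ℕ}

theorem polarVec_dotProduct (Q : QuadraticForm F (Fin n → F)) (v x : Fin n → F) :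
    Cfsg.polarVec ⇑Q v ⬝ᵥ x = QuadraticMap.polar ⇑Q v x := by
  have hx : x = ∑ j, x j • (Pi.single j (1 : F) : Fin n → F) := by
    funext i
    simp [Finset.sum_apply, Pi.single_apply]
  conv_rhs => rw [hx]
  have hlin : ∀ (s : Finset (Fin n)),
      QuadraticMap.polar ⇑Q v (∑ j ∈ s, x j • (Pi.single j (1 : F) : Fin n → F)) =
        ∑ j ∈ s, x j * QuadraticMap.polar ⇑Q v (Pi.single j (1 : F)) := by
    intro s
    induction s using Finset.induction_on with
    | empty => simp
    | insert a s ha ih =>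
      rw [Finset.sum_insert ha, Finset.sum_insert ha, QuadraticMap.polar_add_right, ih,
        QuadraticMap.polar_smul_right, smul_eq_mul]
  rw [hlin]
  simp only [dotProduct, Cfsg.polarVec]
  apply Finset.sum_congr rfl
  intro j _
  ring

theorem polar_self (Q : QuadraticForm F (Fin n → F)) (v : Fin n → F) :
    QuadraticMap.polar ⇑Q v v = 2 * Q v := by
  rw [QuadraticMap.polar_self]
  simp

theorem reflectionMatrix_mulVec (Q : QuadraticForm F (Fin n → F)) (v x : Fin n → F) :
    Cfsg.reflectionMatrix ⇑Q v *ᵥ x = x - ((Q v)⁻¹ * QuadraticMap.polar ⇑Q v x) • v := by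
  unfold Cfsg.reflectionMatrix
  rw [Matrix.sub_mulVec, Matrix.one_mulVec, Matrix.smul_mulVec, Matrix.vecMulVec_mulVec,
    polarVec_dotProduct]
  ext i
  simp only [Pi.sub_apply, Pi.smul_apply, MulOpposite.smul_eq_mul_unop, MulOpposite.unop_op, smul_eq_mul]
  ring

theorem map_add_smul (Q : QuadraticForm F (Fin n → F)) (x v : Fin n → F) (t : F) :
    Q (x + t • v) = Q x + t ^ 2 * Q v + t * QuadraticMap.polar ⇑Q x v := by
  rw [QuadraticMap.map_add (⇑Q) x (t • v), QuadraticMap.map_smul, QuadraticMap.polar_smul_right,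
    smul_eq_mul, smul_eq_mul]
  ring

theorem siegelMatrix_mulVec (Q : QuadraticForm F (Fin n → F)) (u v x : Fin n → F) (c : F) :
    Cfsg.siegelMatrix ⇑Q u v c *ᵥ x =
      x + (c * QuadraticMap.polar ⇑Q u x) • v - (c * QuadraticMap.polar ⇑Q v x) • u := by
  unfold Cfsg.siegelMatrix
  rw [Matrix.add_mulVec, Matrix.one_mulVec, Matrix.smul_mulVec, Matrix.sub_mulVec,
    Matrix.vecMulVec_mulVec, Matrix.vecMulVec_mulVec, polarVec_dotProduct, polarVec_dotProduct]
  ext i
  simp only [Pi.add_apply, Pi.sub_apply, Pi.smul_apply, MulOpposite.smul_eq_mul_unop, MulOpposite.unop_op,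
    smul_eq_mul]
  ring

end Cfsg.Agent.Helper28
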