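import Mathlib
import Cfsg.Prelude.Def_ClassicalGeometry
import Cfsg.Agent.Helper28.Quad
import Cfsg.Agent.Helper28.IsoTransport

set_option autoImplicit false
set_option linter.unusedSectionVars false

/-! Reflections for quadratic forms on `ι → F`, general finite index type. -/

namespace Cfsg.Agent.Helper28.Spin

open Matrix Cfsg.Agent.Helper28.IsoTransport

variable {F : Type*} [Field F] {ι : Type} [Fintype ι] [DecidableEq ι]
  (Q : QuadraticForm F (ι → F))

theorem matrix_ext_mulVec {A B : Matrix ι ι F} (h : ∀ x, A *ᵥ x = B *ᵥ x) : A = B := by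
  apply Matrix.toLin'.injective
  apply LinearMap.ext
  intro x
  simpa using h x

theorem polarVec_dot (v x : ι → F) :
    Cfsg.polarVec ⇑Q v ⬝ᵥ x = QuadraticMap.polar ⇑Q v x := by
  have hx : x = ∑ j, x j • (Pi.single j (1 : F) : ι → F) := by
    funext i
    simp [Finset.sum_apply, Pi.single_apply]
  conv_rhs => rw [hx]
  have hlin : ∀ (s : Finset ι),
      QuadraticMap.polar ⇑Q v (∑ j ∈ s, x j • (Pi.single j (1 : F) : ι → F)) =
        ∑ j ∈ s, x j * QuadraticMap.polar ⇑Q v (Pi.single j (1 : F)) := by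
    intro s
    induction s using Finset.induction_on with
    | empty => simp
    | insert a s ha ih =>
      rw [Finset.sum_insert ha, Finset.sum_insert ha, QuadraticMap.polar_add_right, ih,
        QuadraticMap.polar_smul_right, smul_eq_mul]
  rw [hlin]
  simp only [dotProduct, Cfsg.polarVec]
  apply Finset.sum_congr rfl
  intro j _
  ring

theorem polar_self' (v : ι → F) : QuadraticMap.polar ⇑Q v v = 2 * Q v := by
  rw [QuadraticMap.polar_self]
  simp

theorem refl_mulVec (v x : ι → F) :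
    Cfsg.reflectionMatrix ⇑Q v *ᵥ x = x - ((Q v)⁻¹ * QuadraticMap.polar ⇑Q v x) • v := by
  unfold Cfsg.reflectionMatrix
  rw [Matrix.sub_mulVec, Matrix.one_mulVec, Matrix.smul_mulVec, Matrix.vecMulVec_mulVec,
    polarVec_dot]
  ext i
  simp only [Pi.sub_apply, Pi.smul_apply, MulOpposite.smul_eq_mul_unop, MulOpposite.unop_op, smul_eq_mul]
  ring

theorem map_add_smul' (x v : ι → F) (t : F) :
    Q (x + t • v) = Q x + t ^ 2 * Q v + t * QuadraticMap.polar ⇑Q x v := by
  rw [QuadraticMap.map_add (⇑Q) x (t • v), QuadraticMap.map_smul, QuadraticMap.polar_smul_right,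
    smul_eq_mul, smul_eq_mul]
  ring

theorem refl_pres {v : ι → F} (hv : Q v ≠ 0) (x : ι → F) :
    Q (Cfsg.reflectionMatrix ⇑Q v *ᵥ x) = Q x := by
  rw [refl_mulVec, sub_eq_add_neg, ← neg_smul, map_add_smul',
    QuadraticMap.polar_comm (⇑Q) x v]
  field_simp
  ring

theorem refl_self {v : ι → F} (hv : Q v ≠ 0) :
    Cfsg.reflectionMatrix ⇑Q v *ᵥ v = -v := by
  rw [refl_mulVec, polar_self']
  have : (Q v)⁻¹ * (2 * Q v) = 2 := by field_simp
  rw [this, two_smul]
  abel

theorem refl_fix {v : ι → F} {x : ι → F} (hx : QuadraticMap.polar ⇑Q v x = 0) :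
    Cfsg.reflectionMatrix ⇑Q v *ᵥ x = x := by
  rw [refl_mulVec, hx]
  simp

theorem refl_det {v : ι → F} (hv : Q v ≠ 0) :
    (Cfsg.reflectionMatrix ⇑Q v).det = -1 := by
  unfold Cfsg.reflectionMatrix
  rw [sub_eq_add_neg, ← neg_smul, ← Matrix.smul_vecMulVec, det_one_add_vecMulVec,
    dotProduct_smul, polarVec_dot, polar_self', smul_eq_mul]
  field_simp
  ring

theorem refl_sq {v : ι → F} (hv : Q v ≠ 0) :
    Cfsg.reflectionMatrix ⇑Q v * Cfsg.reflectionMatrix ⇑Q v = 1 := by
  apply matrix_ext_mulVec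
  intro x
  rw [← Matrix.mulVec_mulVec, Matrix.one_mulVec]
  rw [refl_mulVec Q v x, Matrix.mulVec_sub, Matrix.mulVec_smul, refl_self Q hv]
  rw [refl_mulVec]
  simp

/-- the reflection as an element of the isometry group -/
noncomputable def reflO (v : ι → F) (hv : Q v ≠ 0) : ↥(Cfsg.isometryGroup F ⇑Q) :=
  ⟨⟨Cfsg.reflectionMatrix ⇑Q v, Cfsg.reflectionMatrix ⇑Q v, refl_sq Q hv, refl_sq Q hv⟩, by
    rw [mem_isometryGroup_iff]
    intro u
    exact refl_pres Q hv u⟩

theorem reflO_val (v : ι → F) (hv : Q v ≠ 0) :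
    ((reflO Q v hv : GL ι F) : Matrix ι ι F) = Cfsg.reflectionMatrix ⇑Q v := rfl

theorem reflO_mul_self (v : ι → F) (hv : Q v ≠ 0) : reflO Q v hv * reflO Q v hv = 1 := by
  apply Subtype.ext
  apply Units.ext
  exact refl_sq Q hv

theorem reflO_inv (v : ι → F) (hv : Q v ≠ 0) : (reflO Q v hv)⁻¹ = reflO Q v hv :=
  inv_eq_of_mul_eq_one_left (reflO_mul_self Q v hv)

theorem polar_isom {M : Matrix ι ι F} (hM : ∀ x, Q (M *ᵥ x) = Q x) (x y : ι → F) :
    QuadraticMap.polar ⇑Q (M *ᵥ x) (M *ᵥ y) = QuadraticMap.polar ⇑Q x y := by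
  simp only [QuadraticMap.polar, ← Matrix.mulVec_add, hM]

theorem isom_apply (h : ↥(Cfsg.isometryGroup F ⇑Q)) (x : ι → F) :
    Q (((h : GL ι F) : Matrix ι ι F) *ᵥ x) = Q x :=
  (mem_isometryGroup_iff _ _).1 h.2 x

/-- reflections in proportional vectors coincide -/
theorem refl_smul (v : ι → F) {t : F} (ht : t ≠ 0) :
    Cfsg.reflectionMatrix ⇑Q (t • v) = Cfsg.reflectionMatrix ⇑Q v := by
  apply matrix_ext_mulVec
  intro x
  rw [refl_mulVec, refl_mulVec, QuadraticMap.map_smul, QuadraticMap.polar_smul_left, smul_smul]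
  congr 2
  simp only [smul_eq_mul]
  field_simp

theorem reflO_smul (v : ι → F) (hv : Q v ≠ 0) {t : F} (ht : t ≠ 0) (hv' : Q (t • v) ≠ 0) :
    reflO Q (t • v) hv' = reflO Q v hv := by
  apply Subtype.ext
  apply Units.ext
  exact refl_smul Q v ht

/-- conjugating a reflection by an isometry -/
theorem reflO_conj (h : ↥(Cfsg.isometryGroup F ⇑Q)) (v : ι → F) (hv : Q v ≠ 0)
    (hv' : Q (((h : GL ι F) : Matrix ι ι F) *ᵥ v) ≠ 0) :
    reflO Q (((h : GL ι F) : Matrix ι ι F) *ᵥ v) hv' = h * reflO Q v hv * h⁻¹ := by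
  rw [eq_mul_inv_iff_mul_eq]
  apply Subtype.ext
  apply Units.ext
  apply matrix_ext_mulVec
  intro x
  simp only [Subgroup.coe_mul, Units.val_mul, reflO_val]
  rw [← Matrix.mulVec_mulVec, ← Matrix.mulVec_mulVec, refl_mulVec, refl_mulVec,
    polar_isom Q (isom_apply Q h), isom_apply, Matrix.mulVec_sub, Matrix.mulVec_smul]

theorem map_sub'' (y v : ι → F) :
    Q (y - v) = Q y + Q v - QuadraticMap.polar ⇑Q y v := by
  have : y - v = y + (-1 : F) • v := by simp [sub_eq_add_neg]
  rw [this, map_add_smul']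
  ring

/-- If `Q y = Q v` and `Q (y - v) ≠ 0`, the reflection in `y - v` maps `v` to `y`. -/
theorem refl_move {y v : ι → F} (hyv : Q y = Q v) (hd : Q (y - v) ≠ 0) :
    Cfsg.reflectionMatrix ⇑Q (y - v) *ᵥ v = y := by
  rw [refl_mulVec]
  have h1 : QuadraticMap.polar ⇑Q (y - v) v = - Q (y - v) := by
    rw [QuadraticMap.polar_sub_left, polar_self', map_sub'', hyv]
    ring
  rw [h1, mul_neg, inv_mul_cancel₀ hd]
  simp

/-- If `Q y = Q v` and `Q (y + v) ≠ 0`, the reflection in `y + v` maps `y` to `-v`. -/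
theorem refl_move' {y v : ι → F} (hyv : Q y = Q v) (hd : Q (y + v) ≠ 0) :
    Cfsg.reflectionMatrix ⇑Q (y + v) *ᵥ y = -v := by
  rw [refl_mulVec]
  have h1 : QuadraticMap.polar ⇑Q (y + v) y = Q (y + v) := by
    rw [QuadraticMap.polar_add_left, polar_self', QuadraticMap.map_add (⇑Q) y v, hyv,
      QuadraticMap.polar_comm]
    ring
  rw [h1, inv_mul_cancel₀ hd]
  simp

/-- Witt's theorem for single nonsingular vectors (characteristic not two). -/
theorem exists_move (h2 : (2 : F) ≠ 0) {x y : ι → F} (hxy : Q x = Q y) (hx : Q x ≠ 0) :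
    ∃ h : ↥(Cfsg.isometryGroup F ⇑Q), ((h : GL ι F) : Matrix ι ι F) *ᵥ x = y := by
  by_cases hd : Q (y - x) ≠ 0
  · exact ⟨reflO Q (y - x) hd, refl_move Q hxy.symm hd⟩
  · push Not at hd
    have hs : Q (x + y) ≠ 0 := by
      have h1 := map_sub'' Q y x
      have h2' := QuadraticMap.map_add (⇑Q) x y
      rw [QuadraticMap.polar_comm] at h2'
      intro h0
      rw [hd] at h1
      rw [h0] at h2'
      have : 4 * Q x = 0 := by
        rw [← hxy] at h1 h2'
        linear_combination -h1 - h2'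
      have h4 : (4 : F) ≠ 0 := by
        have : (4 : F) = 2 * 2 := by norm_num
        rw [this]; exact mul_ne_zero h2 h2
      rcases mul_eq_zero.1 this with h | h
      · exact h4 h
      · exact hx h
    have hy : Q y ≠ 0 := hxy ▸ hx
    refine ⟨reflO Q y hy * reflO Q (x + y) hs, ?_⟩
    simp only [Subgroup.coe_mul, Units.val_mul, reflO_val]
    rw [← Matrix.mulVec_mulVec, refl_move' Q hxy hs, Matrix.mulVec_neg, refl_self Q hy, neg_neg]

end Cfsg.Agent.Helper28.Spin
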