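import Mathlib
import Cfsg.Agent.Helper28.Spin1

set_option autoImplicit false
set_option linter.unusedSectionVars false

/-! Characteristic two: products of two reflections lie in `Ω` (general quadratic forms with
non-degenerate polar form over finite fields). -/

namespace Cfsg.Agent.Helper28.Spin

open Matrix Module Submodule Cfsg.Agent.Helper28.IsoTransport
open scoped commutatorElement

variable {F : Type*} [Field F] {ι : Type} [Fintype ι] [DecidableEq ι]
  (Q : QuadraticForm F (ι → F))

theorem comm_mem_Omega (g h : ↥(Cfsg.isometryGroup F ⇑Q)) : ⁅g, h⁆ ∈ Cfsg.Omega F ⇑Q :=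
  Subgroup.commutator_mem_commutator (Subgroup.mem_top _) (Subgroup.mem_top _)

theorem reflO_mul_of_move (h : ↥(Cfsg.isometryGroup F ⇑Q)) (a b : ι → F) (ha : Q a ≠ 0)
    (hb : Q b ≠ 0) (hab : ((h : GL ι F) : Matrix ι ι F) *ᵥ a = b) :
    reflO Q a ha * reflO Q b hb ∈ Cfsg.Omega F ⇑Q := by
  subst hab
  have e : reflO Q a ha * reflO Q (((h : GL ι F) : Matrix ι ι F) *ᵥ a) hb = ⁅reflO Q a ha, h⁆ := by
    rw [reflO_conj Q h a ha hb, commutatorElement_def, reflO_inv]
    group
  rw [e]
  exact comm_mem_Omega Q _ _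

theorem exists_ne_ne' [Fintype F] (h : 2 < Fintype.card F) (x y : F) : ∃ t : F, t ≠ x ∧ t ≠ y := by
  classical
  have hcard : ({x, y} : Finset F).card < (Finset.univ : Finset F).card := by
    rw [Finset.card_univ]
    exact lt_of_le_of_lt Finset.card_le_two h
  obtain ⟨t, -, ht⟩ := Finset.exists_mem_notMem_of_card_lt_card hcard
  simp only [Finset.mem_insert, Finset.mem_singleton, not_or] at ht
  exact ⟨t, ht.1, ht.2⟩

section nondeg

variable (hQ : (QuadraticMap.polarBilin Q).Nondegenerate)
include hQ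

theorem exists_nonorth' (a b : ι → F) (ha : a ≠ 0) (hb : b ≠ 0) :
    ∃ c, QuadraticMap.polar ⇑Q a c ≠ 0 ∧ QuadraticMap.polar ⇑Q b c ≠ 0 := by
  obtain ⟨x, hx⟩ : ∃ x, QuadraticMap.polar ⇑Q a x ≠ 0 := by
    by_contra hcon
    push Not at hcon
    exact ha (hQ.1 a hcon)
  obtain ⟨y, hy⟩ : ∃ y, QuadraticMap.polar ⇑Q b y ≠ 0 := by
    by_contra hcon
    push Not at hcon
    exact hb (hQ.1 b hcon)
  by_cases h1 : QuadraticMap.polar ⇑Q b x = 0
  · by_cases h3 : QuadraticMap.polar ⇑Q a y = 0
    · refine ⟨x + y, ?_, ?_⟩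
      · rw [QuadraticMap.polar_add_right, h3, add_zero]; exact hx
      · rw [QuadraticMap.polar_add_right, h1, zero_add]; exact hy
    · exact ⟨y, h3, hy⟩
  · exact ⟨x, hx, h1⟩

theorem mem_orth_pair (a b v : ι → F) :
    v ∈ LinearMap.BilinForm.orthogonal (QuadraticMap.polarBilin Q) (span F {a} ⊔ span F {b}) ↔
      QuadraticMap.polar ⇑Q a v = 0 ∧ QuadraticMap.polar ⇑Q b v = 0 := by
  rw [LinearMap.BilinForm.mem_orthogonal_iff]
  constructor
  · intro h
    exact ⟨h a (Submodule.mem_sup_left (Submodule.mem_span_singleton_self a)),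
      h b (Submodule.mem_sup_right (Submodule.mem_span_singleton_self b))⟩
  · rintro ⟨h1, h2⟩ n hn
    obtain ⟨x, hx, y, hy, rfl⟩ := Submodule.mem_sup.mp hn
    obtain ⟨s, rfl⟩ := Submodule.mem_span_singleton.mp hx
    obtain ⟨t, rfl⟩ := Submodule.mem_span_singleton.mp hy
    show QuadraticMap.polarBilin Q (s • a + t • b) v = 0
    rw [QuadraticMap.polarBilin_apply_apply, QuadraticMap.polar_add_left,
      QuadraticMap.polar_smul_left, QuadraticMap.polar_smul_left, h1, h2]
    simp

/-- large rank: a nonsingular vector in a coset of `⟨a, b⟩^⊥` -/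
theorem exists_good_of_five (hn : 5 ≤ Fintype.card ι) (a b c₀ : ι → F) :
    ∃ e, QuadraticMap.polar ⇑Q a e = 0 ∧ QuadraticMap.polar ⇑Q b e = 0 ∧ Q (c₀ + e) ≠ 0 := by
  set P := LinearMap.BilinForm.orthogonal (QuadraticMap.polarBilin Q) (span F {a} ⊔ span F {b}) with hP
  have hVn : finrank F (ι → F) = Fintype.card ι := Module.finrank_fintype_fun_eq_card F
  have hfin : Fintype.card ι - 2 ≤ finrank F P := by
    rw [hP, LinearMap.BilinForm.finrank_orthogonal hQ, hVn]
    have h1 := Submodule.finrank_add_le_finrank_add_finrank (span F {a}) (span F {b})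
    have h3 : finrank F (span F {a}) ≤ 1 := by
      have := finrank_span_le_card (R := F) ({a} : Set (ι → F))
      simpa using this
    have h4 : finrank F (span F {b}) ≤ 1 := by
      have := finrank_span_le_card (R := F) ({b} : Set (ι → F))
      simpa using this
    omega
  obtain ⟨d, hd, d', hd', hdd⟩ : ∃ d ∈ P, ∃ d' ∈ P, QuadraticMap.polar ⇑Q d d' ≠ 0 := by
    by_contra hcon
    push Not at hcon
    have hle : P ≤ LinearMap.BilinForm.orthogonal (QuadraticMap.polarBilin Q) P := by
      intro v hv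
      rw [LinearMap.BilinForm.mem_orthogonal_iff]
      intro n hn
      exact hcon n hn v hv
    have h1 := Submodule.finrank_mono hle
    have h5 : finrank F ↥(LinearMap.BilinForm.orthogonal (QuadraticMap.polarBilin Q) P) =
        Fintype.card ι - finrank F ↥P := by
      rw [LinearMap.BilinForm.finrank_orthogonal hQ P, hVn]
    omega
  by_contra hall
  push Not at hall
  have e0 := hall 0 (by simp) (by simp)
  have e1 := hall d ((mem_orth_pair Q hQ a b d).1 hd).1 ((mem_orth_pair Q hQ a b d).1 hd).2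
  have e2 := hall d' ((mem_orth_pair Q hQ a b d').1 hd').1 ((mem_orth_pair Q hQ a b d').1 hd').2
  have hdd' := P.add_mem hd hd'
  have e3 := hall (d + d') ((mem_orth_pair Q hQ a b _).1 hdd').1 ((mem_orth_pair Q hQ a b _).1 hdd').2
  rw [add_zero] at e0
  rw [QuadraticMap.map_add (⇑Q)] at e1 e2 e3
  rw [QuadraticMap.map_add (⇑Q) d d', QuadraticMap.polar_add_right] at e3
  apply hdd
  linear_combination e3 - e1 - e2 + e0

end nondeg

/-- large field: a nonsingular vector on the line `c₀ + F a` -/
theorem exists_good_of_card' [Fintype F] (hq : 2 < Fintype.card F) (a c₀ : ι → F) (ha : Q a ≠ 0) :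
    ∃ t : F, Q (c₀ + t • a) ≠ 0 := by
  by_cases h0 : Q c₀ = 0
  · obtain ⟨t, ht0, ht1⟩ := exists_ne_ne' hq (0 : F) (-(QuadraticMap.polar ⇑Q c₀ a) / Q a)
    refine ⟨t, ?_⟩
    rw [map_add_smul', h0, zero_add]
    have : t ^ 2 * Q a + t * QuadraticMap.polar ⇑Q c₀ a =
        t * Q a * (t - (-(QuadraticMap.polar ⇑Q c₀ a) / Q a)) := by
      field_simp
      ring
    rw [this]
    exact mul_ne_zero (mul_ne_zero ht0 ha) (sub_ne_zero.2 ht1)
  · exact ⟨0, by rw [zero_smul, add_zero]; exact h0⟩

section char2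

variable (h2 : (2 : F) = 0)
include h2

theorem neg_eq_self_vec (v : ι → F) : -v = v := by
  have : v + v = 0 := by rw [← two_smul F v, h2, zero_smul]
  exact neg_eq_of_add_eq_zero_left this

theorem polar_self_zero (v : ι → F) : QuadraticMap.polar ⇑Q v v = 0 := by
  rw [polar_self', h2, zero_mul]

theorem reflO_mul_of_polar (a b : ι → F) (ha : Q a ≠ 0) (hb : Q b ≠ 0) (hab : Q a = Q b)
    (hB : QuadraticMap.polar ⇑Q a b ≠ 0) :
    reflO Q a ha * reflO Q b hb ∈ Cfsg.Omega F ⇑Q := by
  have hQ' : Q (a + b) = QuadraticMap.polar ⇑Q a b := by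
    rw [QuadraticMap.map_add (⇑Q), ← hab]
    have : Q a + Q a = 0 := by rw [← two_mul, h2, zero_mul]
    rw [this, zero_add]
  have hc : Q (a + b) ≠ 0 := by rw [hQ']; exact hB
  apply reflO_mul_of_move Q (reflO Q (a + b) hc) a b ha hb
  rw [reflO_val, refl_move' Q hab hc, neg_eq_self_vec h2]

section fin

variable [Fintype F]

theorem exists_scale' (x : ι → F) (hx : Q x ≠ 0) (c : F) (hc : c ≠ 0) :
    ∃ t : F, t ≠ 0 ∧ Q (t • x) = c := by
  have hchar : ringChar F = 2 :=
    CharP.ringChar_of_prime_eq_zero Nat.prime_two (by exact_mod_cast h2)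
  obtain ⟨r, hr⟩ := FiniteField.isSquare_of_char_two hchar (c * (Q x)⁻¹)
  have hr0 : r ≠ 0 := by
    rintro rfl
    rw [mul_zero] at hr
    exact mul_ne_zero hc (inv_ne_zero hx) hr
  refine ⟨r, hr0, ?_⟩
  rw [QuadraticMap.map_smul, smul_eq_mul, ← hr, mul_assoc, inv_mul_cancel₀ hx, mul_one]

theorem eq_zero_or_one_of_card (hq : Fintype.card F = 2) (x : F) : x = 0 ∨ x = 1 := by
  by_cases hx : x = 0
  · exact Or.inl hx
  · right
    have := FiniteField.pow_card_sub_one_eq_one x hx
    rw [hq] at this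
    simpa using this

/-- a nonsingular vector of the same norm joined to both `a` and `b` -/
theorem exists_connector (hQ : (QuadraticMap.polarBilin Q).Nondegenerate)
    (hcard : Fintype.card F ≠ 2 ∨ Fintype.card ι ≠ 4) (a b : ι → F) (ha : Q a ≠ 0)
    (hab : Q a = Q b) (hB : QuadraticMap.polar ⇑Q a b = 0) (hne : a ≠ b) :
    ∃ c, Q c = Q a ∧ QuadraticMap.polar ⇑Q a c ≠ 0 ∧ QuadraticMap.polar ⇑Q b c ≠ 0 := by
  have hb : Q b ≠ 0 := by rw [← hab]; exact ha
  have ha0 : a ≠ 0 := by
    rintro rfl
    exact ha (map_zero Q)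
  have hb0 : b ≠ 0 := by
    rintro rfl
    exact hb (map_zero Q)
  obtain ⟨c₀, hc1, hc2⟩ := exists_nonorth' Q hQ a b ha0 hb0
  obtain ⟨c, hcQ, hca, hcb⟩ : ∃ c, Q c ≠ 0 ∧ QuadraticMap.polar ⇑Q a c ≠ 0 ∧
      QuadraticMap.polar ⇑Q b c ≠ 0 := by
    by_cases hq : 2 < Fintype.card F
    · obtain ⟨t, ht⟩ := exists_good_of_card' Q hq a c₀ ha
      refine ⟨c₀ + t • a, ht, ?_, ?_⟩
      · rw [QuadraticMap.polar_add_right, QuadraticMap.polar_smul_right, polar_self_zero Q h2,
          smul_zero, add_zero]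
        exact hc1
      · rw [QuadraticMap.polar_add_right, QuadraticMap.polar_smul_right,
          QuadraticMap.polar_comm (⇑Q) b a, hB, smul_zero, add_zero]
        exact hc2
    · have hq2 : Fintype.card F = 2 := by
        have : 1 < Fintype.card F := Fintype.one_lt_card
        omega
      -- `a, b` span a totally isotropic plane
      set P₂ := span F {a} ⊔ span F {b} with hP₂
      have hbn : b ∉ span F {a} := by
        intro hmem
        obtain ⟨s, hs⟩ := Submodule.mem_span_singleton.mp hmem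
        rcases eq_zero_or_one_of_card h2 hq2 s with h | h
        · rw [h, zero_smul] at hs
          exact hb0 hs.symm
        · rw [h, one_smul] at hs
          exact hne hs
      have hlt : span F {a} < P₂ := by
        refine lt_of_le_of_ne le_sup_left ?_
        intro heq
        apply hbn
        rw [heq]
        exact Submodule.mem_sup_right (Submodule.mem_span_singleton_self b)
      have h1 := Submodule.finrank_lt_finrank_of_lt hlt
      rw [finrank_span_singleton ha0] at h1
      have hle : P₂ ≤ LinearMap.BilinForm.orthogonal (QuadraticMap.polarBilin Q) P₂ := by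
        intro v hv
        rw [mem_orth_pair Q hQ]
        obtain ⟨x, hx, y, hy, rfl⟩ := Submodule.mem_sup.mp hv
        obtain ⟨s, rfl⟩ := Submodule.mem_span_singleton.mp hx
        obtain ⟨t, rfl⟩ := Submodule.mem_span_singleton.mp hy
        constructor
        · rw [QuadraticMap.polar_add_right, QuadraticMap.polar_smul_right,
            QuadraticMap.polar_smul_right, polar_self_zero Q h2, hB]
          simp
        · rw [QuadraticMap.polar_add_right, QuadraticMap.polar_smul_right,
            QuadraticMap.polar_smul_right, polar_self_zero Q h2, QuadraticMap.polar_comm (⇑Q) b a, hB]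
          simp
      have h3 := Submodule.finrank_mono hle
      have hVn : finrank F (ι → F) = Fintype.card ι := Module.finrank_fintype_fun_eq_card F
      have h5 : finrank F ↥(LinearMap.BilinForm.orthogonal (QuadraticMap.polarBilin Q) P₂) =
          Fintype.card ι - finrank F ↥P₂ := by
        rw [LinearMap.BilinForm.finrank_orthogonal hQ P₂, hVn]
      have hn5 : 5 ≤ Fintype.card ι := by
        rcases hcard with h | h
        · exact absurd hq2 h
        · omega
      obtain ⟨e, he1, he2, he3⟩ := exists_good_of_five Q hQ hn5 a b c₀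
      refine ⟨c₀ + e, he3, ?_, ?_⟩
      · rw [QuadraticMap.polar_add_right, he1, add_zero]; exact hc1
      · rw [QuadraticMap.polar_add_right, he2, add_zero]; exact hc2
  obtain ⟨t, ht0, ht1⟩ := exists_scale' Q h2 c hcQ (Q a) ha
  refine ⟨t • c, ht1, ?_, ?_⟩
  · rw [QuadraticMap.polar_smul_right, smul_eq_mul]; exact mul_ne_zero ht0 hca
  · rw [QuadraticMap.polar_smul_right, smul_eq_mul]; exact mul_ne_zero ht0 hcb

/-- a product of two reflections lies in `Ω` -/
theorem reflO_mul_reflO_mem (hQ : (QuadraticMap.polarBilin Q).Nondegenerate)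
    (hcard : Fintype.card F ≠ 2 ∨ Fintype.card ι ≠ 4) (a b : ι → F) (ha : Q a ≠ 0) (hb : Q b ≠ 0) :
    reflO Q a ha * reflO Q b hb ∈ Cfsg.Omega F ⇑Q := by
  obtain ⟨t, ht0, ht1⟩ := exists_scale' Q h2 b hb (Q a) ha
  have hb' : Q (t • b) ≠ 0 := by rw [ht1]; exact ha
  rw [← reflO_smul Q b hb ht0 hb']
  by_cases hB : QuadraticMap.polar ⇑Q a (t • b) = 0
  · by_cases hab : a = t • b
    · have : reflO Q (t • b) hb' = reflO Q a ha := by
        congr 1
        exact hab.symm
      rw [this, reflO_mul_self]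
      exact Subgroup.one_mem _
    · obtain ⟨c, hc1, hc2, hc3⟩ := exists_connector Q h2 hQ hcard a (t • b) ha ht1.symm hB hab
      have hc : Q c ≠ 0 := by rw [hc1]; exact ha
      have e1 := reflO_mul_of_polar Q h2 a c ha hc hc1.symm hc2
      have e2 := reflO_mul_of_polar Q h2 c (t • b) hc hb' (by rw [hc1, ht1])
        (by rw [QuadraticMap.polar_comm]; exact hc3)
      have e3 := Subgroup.mul_mem _ e1 e2
      have : reflO Q a ha * reflO Q c hc * (reflO Q c hc * reflO Q (t • b) hb') =
          reflO Q a ha * reflO Q (t • b) hb' := by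
        rw [mul_assoc, ← mul_assoc (reflO Q c hc), reflO_mul_self, one_mul]
      rw [this] at e3
      exact e3
  · exact reflO_mul_of_polar Q h2 a (t • b) ha hb' ht1.symm hB

end fin

end char2

end Cfsg.Agent.Helper28.Spin
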