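import Mathlib
import Cfsg.Prelude.Def_ClassicalGeometry

set_option autoImplicit false

namespace Cfsg.Agent.Helper28

open Matrix

variable {F : Type*} [CommRing F] {m : ℕ}

theorem sympForm_def (u v : Fin m ⊕ Fin m → F) :
    Cfsg.sympForm m F u v = u ⬝ᵥ (Matrix.J (Fin m) F *ᵥ v) := rfl

theorem sympForm_add_left (u u' v : Fin m ⊕ Fin m → F) :
    Cfsg.sympForm m F (u + u') v = Cfsg.sympForm m F u v + Cfsg.sympForm m F u' v := by
  simp [sympForm_def, add_dotProduct]

theorem sympForm_add_right (u v v' : Fin m ⊕ Fin m → F) :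
    Cfsg.sympForm m F u (v + v') = Cfsg.sympForm m F u v + Cfsg.sympForm m F u v' := by
  simp [sympForm_def, mulVec_add, dotProduct_add]

theorem sympForm_smul_left (c : F) (u v : Fin m ⊕ Fin m → F) :
    Cfsg.sympForm m F (c • u) v = c * Cfsg.sympForm m F u v := by
  simp [sympForm_def, smul_dotProduct]

theorem sympForm_smul_right (c : F) (u v : Fin m ⊕ Fin m → F) :
    Cfsg.sympForm m F u (c • v) = c * Cfsg.sympForm m F u v := by
  simp [sympForm_def, mulVec_smul, dotProduct_smul]

theorem sympForm_neg_left (u v : Fin m ⊕ Fin m → F) :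
    Cfsg.sympForm m F (-u) v = - Cfsg.sympForm m F u v := by
  simp [sympForm_def]

theorem sympForm_neg_right (u v : Fin m ⊕ Fin m → F) :
    Cfsg.sympForm m F u (-v) = - Cfsg.sympForm m F u v := by
  simp [sympForm_def, mulVec_neg]

theorem sympForm_sub_left (u u' v : Fin m ⊕ Fin m → F) :
    Cfsg.sympForm m F (u - u') v = Cfsg.sympForm m F u v - Cfsg.sympForm m F u' v := by
  simp [sub_eq_add_neg, sympForm_add_left, sympForm_neg_left]

theorem sympForm_sub_right (u v v' : Fin m ⊕ Fin m → F) :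
    Cfsg.sympForm m F u (v - v') = Cfsg.sympForm m F u v - Cfsg.sympForm m F u v' := by
  simp [sub_eq_add_neg, sympForm_add_right, sympForm_neg_right]

@[simp] theorem sympForm_zero_left (v : Fin m ⊕ Fin m → F) : Cfsg.sympForm m F 0 v = 0 := by
  simp [sympForm_def]

@[simp] theorem sympForm_zero_right (v : Fin m ⊕ Fin m → F) : Cfsg.sympForm m F v 0 = 0 := by
  simp [sympForm_def]

theorem sympForm_explicit (u v : Fin m ⊕ Fin m → F) :
    Cfsg.sympForm m F u v =
      ∑ i : Fin m, (u (Sum.inr i) * v (Sum.inl i) - u (Sum.inl i) * v (Sum.inr i)) := by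
  simp only [sympForm_def, dotProduct, mulVec, Matrix.J, Fintype.sum_sum_type, Matrix.fromBlocks_apply₁₁,
    Matrix.fromBlocks_apply₁₂, Matrix.fromBlocks_apply₂₁, Matrix.fromBlocks_apply₂₂, Matrix.zero_apply,
    zero_mul, Finset.sum_const_zero, zero_add, add_zero, Matrix.neg_apply, Matrix.one_apply, neg_mul,
    ite_mul, one_mul, Finset.sum_neg_distrib, Finset.sum_ite_eq, Finset.mem_univ, if_true, mul_neg]
  rw [Finset.sum_sub_distrib]
  ring

theorem sympForm_self (v : Fin m ⊕ Fin m → F) : Cfsg.sympForm m F v v = 0 := by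
  rw [sympForm_explicit]
  apply Finset.sum_eq_zero
  intro i _
  ring

theorem sympForm_swap (u v : Fin m ⊕ Fin m → F) :
    Cfsg.sympForm m F u v = - Cfsg.sympForm m F v u := by
  rw [sympForm_explicit, sympForm_explicit, ← Finset.sum_neg_distrib]
  apply Finset.sum_congr rfl
  intro i _
  ring

theorem sympForm_mulVec (A : Matrix (Fin m ⊕ Fin m) (Fin m ⊕ Fin m) F) (u v : Fin m ⊕ Fin m → F) :
    Cfsg.sympForm m F (A *ᵥ u) (A *ᵥ v) = u ⬝ᵥ ((Aᵀ * Matrix.J (Fin m) F * A) *ᵥ v) := by
  rw [sympForm_def, Matrix.mulVec_mulVec, Matrix.mul_assoc, ← Matrix.mulVec_mulVec _ Aᵀ,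
    Matrix.dotProduct_mulVec u Aᵀ, Matrix.vecMul_transpose]

/-- A matrix is symplectic iff it preserves `sympForm`. -/
theorem mem_symplecticGroup_iff_preserves (A : Matrix (Fin m ⊕ Fin m) (Fin m ⊕ Fin m) F) :
    A ∈ Matrix.symplecticGroup (Fin m) F ↔
      ∀ u v, Cfsg.sympForm m F (A *ᵥ u) (A *ᵥ v) = Cfsg.sympForm m F u v := by
  rw [SymplecticGroup.mem_iff']
  constructor
  · intro h u v
    rw [sympForm_mulVec, h, sympForm_def]
  · intro h
    ext i j
    have := h (Pi.single i 1) (Pi.single j 1)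
    rw [sympForm_mulVec, sympForm_def] at this
    simpa using this

theorem sympTransvection_mulVec (v : Fin m ⊕ Fin m → F) (c : F) (x : Fin m ⊕ Fin m → F) :
    Cfsg.sympTransvection m v c *ᵥ x = x + (c * Cfsg.sympForm m F x v) • v := by
  unfold Cfsg.sympTransvection
  rw [Matrix.add_mulVec, Matrix.one_mulVec, Matrix.smul_mulVec, Matrix.vecMulVec_mulVec]
  rw [sympForm_def, dotProduct_comm]
  ext i
  simp only [Pi.add_apply, Pi.smul_apply, MulOpposite.smul_eq_mul_unop, MulOpposite.unop_op, smul_eq_mul]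
  ring

theorem sympTransvection_mem (v : Fin m ⊕ Fin m → F) (c : F) :
    Cfsg.sympTransvection m v c ∈ Matrix.symplecticGroup (Fin m) F := by
  rw [mem_symplecticGroup_iff_preserves]
  intro x y
  simp only [sympTransvection_mulVec, sympForm_add_left, sympForm_add_right, sympForm_smul_left,
    sympForm_smul_right, sympForm_self, mul_zero, add_zero]
  rw [sympForm_swap v y]
  ring

theorem sympTransvection_mul (v : Fin m ⊕ Fin m → F) (c d : F) :
    Cfsg.sympTransvection m v c * Cfsg.sympTransvection m v d = Cfsg.sympTransvection m v (c + d) := by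
  apply Matrix.toLin'.injective
  apply LinearMap.ext
  intro x
  simp only [Matrix.toLin'_mul, LinearMap.comp_apply, Matrix.toLin'_apply, sympTransvection_mulVec,
    sympForm_add_left, sympForm_smul_left, sympForm_self, mul_zero, add_zero]
  rw [add_assoc, ← add_smul]
  congr 2
  ring

theorem sympTransvection_zero (v : Fin m ⊕ Fin m → F) : Cfsg.sympTransvection m v 0 = 1 := by
  unfold Cfsg.sympTransvection
  simp

end Cfsg.Agent.Helper28
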