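import Mathlib
import Cfsg.Prelude.Def_ClassicalGeometry
import Cfsg.Agent.Helper28.Symp

set_option autoImplicit false

namespace Cfsg.Agent.Helper28

open Matrix

variable {F : Type*} [Field F] {m : ℕ}

/-- The set of symplectic transvections, as elements of Mathlib's symplectic group. -/
def sympTransSet (m : ℕ) (F : Type*) [Field F] : Set (Matrix.symplecticGroup (Fin m) F) :=
  {A | ∃ (w : Fin m ⊕ Fin m → F) (c : F),
    (A : Matrix (Fin m ⊕ Fin m) (Fin m ⊕ Fin m) F) = Cfsg.sympTransvection m w c}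

/-- A symplectic transvection as an element of the symplectic group. -/
def sympT (w : Fin m ⊕ Fin m → F) (c : F) : Matrix.symplecticGroup (Fin m) F :=
  ⟨Cfsg.sympTransvection m w c, sympTransvection_mem w c⟩

theorem sympT_mem (w : Fin m ⊕ Fin m → F) (c : F) :
    sympT w c ∈ Subgroup.closure (sympTransSet m F) :=
  Subgroup.subset_closure ⟨w, c, rfl⟩

theorem sympForm_exists_ne_zero {u : Fin m ⊕ Fin m → F} (hu : u ≠ 0) :
    ∃ w, Cfsg.sympForm m F u w ≠ 0 := by
  by_contra hcon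
  push Not at hcon
  apply hu
  funext i
  rcases i with i | i
  · have := hcon (Pi.single (Sum.inr i) 1)
    rw [sympForm_explicit] at this
    simpa [Pi.single_apply, Finset.sum_ite_eq'] using this
  · have := hcon (Pi.single (Sum.inl i) 1)
    rw [sympForm_explicit] at this
    simpa [Pi.single_apply, Finset.sum_ite_eq'] using this

/-- If `f(u,u') ≠ 0`, one transvection moves `u` to `u'`. -/
theorem sympT_move {u u' : Fin m ⊕ Fin m → F} (h : Cfsg.sympForm m F u u' ≠ 0) :
    ((sympT (u - u') (Cfsg.sympForm m F u u')⁻¹ : Matrix.symplecticGroup (Fin m) F) :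
      Matrix (Fin m ⊕ Fin m) (Fin m ⊕ Fin m) F) *ᵥ u = u' := by
  show Cfsg.sympTransvection m (u - u') _ *ᵥ u = u'
  rw [sympTransvection_mulVec, sympForm_sub_right, sympForm_self, zero_sub, mul_neg,
    inv_mul_cancel₀ h]
  simp

/-- A transvection along `d` fixes vectors orthogonal to `d`. -/
theorem sympT_fix {d x : Fin m ⊕ Fin m → F} (c : F) (h : Cfsg.sympForm m F x d = 0) :
    ((sympT d c : Matrix.symplecticGroup (Fin m) F) :
      Matrix (Fin m ⊕ Fin m) (Fin m ⊕ Fin m) F) *ᵥ x = x := by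
  show Cfsg.sympTransvection m d c *ᵥ x = x
  rw [sympTransvection_mulVec, h]
  simp

theorem symp_coe_mul (A B : Matrix.symplecticGroup (Fin m) F) :
    ((A * B : Matrix.symplecticGroup (Fin m) F) : Matrix (Fin m ⊕ Fin m) (Fin m ⊕ Fin m) F) =
      (A : Matrix (Fin m ⊕ Fin m) (Fin m ⊕ Fin m) F) * B := rfl

/-- The transvection group is transitive on nonzero vectors. -/
theorem sympTrans_transitive {u u' : Fin m ⊕ Fin m → F} (hu : u ≠ 0) (hu' : u' ≠ 0) :
    ∃ A ∈ Subgroup.closure (sympTransSet m F),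
      (A : Matrix (Fin m ⊕ Fin m) (Fin m ⊕ Fin m) F) *ᵥ u = u' := by
  by_cases h : Cfsg.sympForm m F u u' ≠ 0
  · exact ⟨_, sympT_mem _ _, sympT_move h⟩
  · push Not at h
    obtain ⟨w1, hw1⟩ := sympForm_exists_ne_zero hu
    obtain ⟨w2, hw2⟩ := sympForm_exists_ne_zero hu'
    have hw2' : Cfsg.sympForm m F w2 u' ≠ 0 := by
      rw [sympForm_swap]; exact neg_ne_zero.mpr hw2
    -- find w with f(u,w) ≠ 0 and f(w,u') ≠ 0
    obtain ⟨w, hw, hw'⟩ : ∃ w, Cfsg.sympForm m F u w ≠ 0 ∧ Cfsg.sympForm m F w u' ≠ 0 := by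
      by_cases h1 : Cfsg.sympForm m F w1 u' ≠ 0
      · exact ⟨w1, hw1, h1⟩
      · push Not at h1
        by_cases h2 : Cfsg.sympForm m F u w2 ≠ 0
        · exact ⟨w2, h2, hw2'⟩
        · push Not at h2
          refine ⟨w1 + w2, ?_, ?_⟩
          · rw [sympForm_add_right, h2, add_zero]; exact hw1
          · rw [sympForm_add_left, h1, zero_add]; exact hw2'
    refine ⟨sympT (w - u') (Cfsg.sympForm m F w u')⁻¹ * sympT (u - w) (Cfsg.sympForm m F u w)⁻¹,
      Subgroup.mul_mem _ (sympT_mem _ _) (sympT_mem _ _), ?_⟩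
    rw [symp_coe_mul, ← Matrix.mulVec_mulVec, sympT_move hw, sympT_move hw']

/-- The transvection group is transitive on hyperbolic partners of a fixed vector. -/
theorem sympTrans_fix_move {u v v' : Fin m ⊕ Fin m → F} (h : Cfsg.sympForm m F u v = 1)
    (h' : Cfsg.sympForm m F u v' = 1) :
    ∃ A ∈ Subgroup.closure (sympTransSet m F),
      (A : Matrix (Fin m ⊕ Fin m) (Fin m ⊕ Fin m) F) *ᵥ u = u ∧
      (A : Matrix (Fin m ⊕ Fin m) (Fin m ⊕ Fin m) F) *ᵥ v = v' := by
  by_cases hvv : Cfsg.sympForm m F v v' ≠ 0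
  · refine ⟨_, sympT_mem _ _, sympT_fix _ ?_, sympT_move hvv⟩
    rw [sympForm_sub_right, h, h', sub_self]
  · push Not at hvv
    have huv : Cfsg.sympForm m F v u = -1 := by rw [sympForm_swap, h]
    have h1 : Cfsg.sympForm m F v (u + v) ≠ 0 := by
      rw [sympForm_add_right, sympForm_self, huv, add_zero]
      exact neg_ne_zero.mpr one_ne_zero
    have h2 : Cfsg.sympForm m F (u + v) v' ≠ 0 := by
      rw [sympForm_add_left, hvv, h', add_zero]
      exact one_ne_zero
    refine ⟨sympT ((u + v) - v') (Cfsg.sympForm m F (u + v) v')⁻¹ *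
      sympT (v - (u + v)) (Cfsg.sympForm m F v (u + v))⁻¹,
      Subgroup.mul_mem _ (sympT_mem _ _) (sympT_mem _ _), ?_, ?_⟩
    · have e1 : Cfsg.sympForm m F u (v - (u + v)) = 0 := by
        rw [sympForm_sub_right, sympForm_add_right, sympForm_self, h]; ring
      have e2 : Cfsg.sympForm m F u ((u + v) - v') = 0 := by
        rw [sympForm_sub_right, sympForm_add_right, sympForm_self, h, h']; ring
      rw [symp_coe_mul, ← Matrix.mulVec_mulVec, sympT_fix _ e1, sympT_fix _ e2]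
    · rw [symp_coe_mul, ← Matrix.mulVec_mulVec, sympT_move h1, sympT_move h2]

/-- The transvection group is transitive on hyperbolic pairs. -/
theorem sympTrans_transitive_pairs {u v u' v' : Fin m ⊕ Fin m → F}
    (h : Cfsg.sympForm m F u v = 1) (h' : Cfsg.sympForm m F u' v' = 1) :
    ∃ A ∈ Subgroup.closure (sympTransSet m F),
      (A : Matrix (Fin m ⊕ Fin m) (Fin m ⊕ Fin m) F) *ᵥ u = u' ∧
      (A : Matrix (Fin m ⊕ Fin m) (Fin m ⊕ Fin m) F) *ᵥ v = v' := by
  have hu : u ≠ 0 := by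
    rintro rfl
    rw [sympForm_zero_left] at h
    exact zero_ne_one h
  have hu' : u' ≠ 0 := by
    rintro rfl
    rw [sympForm_zero_left] at h'
    exact zero_ne_one h'
  obtain ⟨A1, hA1, hA1u⟩ := sympTrans_transitive hu hu'
  have hpres := (mem_symplecticGroup_iff_preserves
    (A1 : Matrix (Fin m ⊕ Fin m) (Fin m ⊕ Fin m) F)).mp A1.2
  have h1 : Cfsg.sympForm m F u' ((A1 : Matrix (Fin m ⊕ Fin m) (Fin m ⊕ Fin m) F) *ᵥ v) = 1 := by
    rw [← hA1u, hpres, h]
  obtain ⟨A2, hA2, hA2u, hA2v⟩ := sympTrans_fix_move h1 h'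
  refine ⟨A2 * A1, Subgroup.mul_mem _ hA2 hA1, ?_, ?_⟩
  · rw [symp_coe_mul, ← Matrix.mulVec_mulVec, hA1u, hA2u]
  · rw [symp_coe_mul, ← Matrix.mulVec_mulVec, hA2v]

end Cfsg.Agent.Helper28
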