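import Mathlib
import Cfsg.Prelude.Def_ClassicalGeometry
import Cfsg.Agent.Helper28.Symp
import Cfsg.Agent.Helper28.SympTrans

set_option autoImplicit false

namespace Cfsg.Agent.Helper28.SympFrame

open Module

/-- Symplectic (hyperbolic) frame in a subspace on which an alternating form is nondegenerate. -/
theorem exists_alt_frame {F V : Type*} [Field F] [AddCommGroup V] [Module F V]
    [FiniteDimensional F V] (B : LinearMap.BilinForm F V) (hA : B.IsAlt) :
    ∀ (j : ℕ) (U : Submodule F V), Module.finrank F U = 2 * j →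
      (∀ u ∈ U, (∀ v ∈ U, B u v = 0) → u = 0) →
      ∃ e f : Fin j → V, (∀ i, e i ∈ U) ∧ (∀ i, f i ∈ U) ∧ (∀ i i', B (e i) (e i') = 0) ∧
        (∀ i i', B (f i) (f i') = 0) ∧ (∀ i i', B (e i) (f i') = if i = i' then 1 else 0) := by
  intro j
  induction j with
  | zero =>
    intro U _ _
    exact ⟨Fin.elim0, Fin.elim0, fun i => i.elim0, fun i => i.elim0, fun i => i.elim0,
      fun i => i.elim0, fun i => i.elim0⟩
  | succ j ih =>
    intro U hdim hnd
    have hpos : 0 < Module.finrank F U := by omega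
    obtain ⟨u, hu0⟩ : ∃ u : U, u ≠ 0 := Module.finrank_pos_iff_exists_ne_zero.mp hpos
    obtain ⟨v, hvU, huv⟩ : ∃ v ∈ U, B u v ≠ 0 := by
      by_contra h
      push Not at h
      exact hu0 (Subtype.ext (hnd u u.2 h))
    set v' : V := (B u v)⁻¹ • v with hv'
    have hv'U : v' ∈ U := U.smul_mem _ hvU
    have huv' : B u v' = 1 := by
      rw [hv', map_smul, smul_eq_mul, inv_mul_cancel₀ huv]
    have hvu' : B v' u = -1 := by
      rw [← hA.neg_eq, huv']
    have huu : B u u = 0 := hA _
    have hvv : B v' v' = 0 := hA _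
    let φ : U →ₗ[F] F × F := ((B u).comp U.subtype).prod ((B v').comp U.subtype)
    have hφ : ∀ w : U, φ w = (B u w, B v' w) := fun w => rfl
    have hsurj : Function.Surjective φ := by
      rintro ⟨a, b⟩
      refine ⟨a • ⟨v', hv'U⟩ - b • ⟨(u : V), u.2⟩, ?_⟩
      rw [hφ]
      simp only [Submodule.coe_sub, Submodule.coe_smul, map_sub, map_smul, smul_eq_mul, huv', huu,
        hvv, hvu']
      ext <;> simp
    set U' : Submodule F V := (LinearMap.ker φ).map U.subtype with hU'
    have hU'mem : ∀ w, w ∈ U' ↔ w ∈ U ∧ B u w = 0 ∧ B v' w = 0 := by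
      intro w
      rw [hU', Submodule.mem_map]
      constructor
      · rintro ⟨x, hx, rfl⟩
        rw [LinearMap.mem_ker, hφ, Prod.mk_eq_zero] at hx
        exact ⟨x.2, hx.1, hx.2⟩
      · rintro ⟨hw, h1, h2⟩
        refine ⟨⟨w, hw⟩, ?_, rfl⟩
        rw [LinearMap.mem_ker, hφ, Prod.mk_eq_zero]
        exact ⟨h1, h2⟩
    have hdim' : Module.finrank F U' = 2 * j := by
      have := LinearMap.finrank_range_add_finrank_ker φ
      rw [LinearMap.range_eq_top.mpr hsurj, finrank_top, Module.finrank_prod, finrank_self] at this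
      rw [hU', Submodule.finrank_map_subtype_eq]
      omega
    have hnd' : ∀ w ∈ U', (∀ x ∈ U', B w x = 0) → w = 0 := by
      intro w hw h
      obtain ⟨hwU, hw1, hw2⟩ := (hU'mem w).mp hw
      have hwu : B w u = 0 := by rw [← hA.neg_eq, hw1, neg_zero]
      have hwv : B w v' = 0 := by rw [← hA.neg_eq, hw2, neg_zero]
      apply hnd w hwU
      intro x hx
      have hx' : x + B v' x • (u : V) - B u x • v' ∈ U' := by
        rw [hU'mem]
        refine ⟨U.sub_mem (U.add_mem hx (U.smul_mem _ u.2)) (U.smul_mem _ hv'U), ?_, ?_⟩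
        · simp only [map_sub, map_add, map_smul, smul_eq_mul, huu, huv']
          ring
        · simp only [map_sub, map_add, map_smul, smul_eq_mul, hvv, hvu']
          ring
      have := h _ hx'
      simp only [map_sub, map_add, map_smul, smul_eq_mul, hwu, hwv, mul_zero, add_zero,
        sub_zero] at this
      exact this
    obtain ⟨e, f, he, hf, hee, hff, hef⟩ := ih U' hdim' hnd'
    have heU : ∀ i, e i ∈ U := fun i => ((hU'mem _).mp (he i)).1
    have hfU : ∀ i, f i ∈ U := fun i => ((hU'mem _).mp (hf i)).1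
    have hue : ∀ i, B u (e i) = 0 := fun i => ((hU'mem _).mp (he i)).2.1
    have hve : ∀ i, B v' (e i) = 0 := fun i => ((hU'mem _).mp (he i)).2.2
    have huf : ∀ i, B u (f i) = 0 := fun i => ((hU'mem _).mp (hf i)).2.1
    have hvf : ∀ i, B v' (f i) = 0 := fun i => ((hU'mem _).mp (hf i)).2.2
    have heu : ∀ i, B (e i) u = 0 := fun i => by rw [← hA.neg_eq, hue, neg_zero]
    have hev : ∀ i, B (e i) v' = 0 := fun i => by rw [← hA.neg_eq, hve, neg_zero]
    have hfu : ∀ i, B (f i) u = 0 := fun i => by rw [← hA.neg_eq, huf, neg_zero]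
    have hfv : ∀ i, B (f i) v' = 0 := fun i => by rw [← hA.neg_eq, hvf, neg_zero]
    refine ⟨Fin.cons (u : V) e, Fin.cons v' f, ?_, ?_, ?_, ?_, ?_⟩
    · intro i
      refine Fin.cases ?_ (fun i => ?_) i
      · simp
      · simpa using heU i
    · intro i
      refine Fin.cases ?_ (fun i => ?_) i
      · simpa using hv'U
      · simpa using hfU i
    · intro i i'
      refine Fin.cases ?_ (fun i => ?_) i <;> refine Fin.cases ?_ (fun i' => ?_) i'
      · simpa using huu
      · simpa using hue i'
      · simpa using heu i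
      · simpa using hee i i'
    · intro i i'
      refine Fin.cases ?_ (fun i => ?_) i <;> refine Fin.cases ?_ (fun i' => ?_) i'
      · simpa using hvv
      · simpa using hvf i'
      · simpa using hfv i
      · simpa using hff i i'
    · intro i i'
      refine Fin.cases ?_ (fun i => ?_) i <;> refine Fin.cases ?_ (fun i' => ?_) i'
      · simpa using huv'
      · simp only [Fin.cons_zero, Fin.cons_succ]
        rw [huf i', if_neg (Fin.succ_ne_zero i').symm]
      · simp only [Fin.cons_zero, Fin.cons_succ]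
        rw [hev i, if_neg (Fin.succ_ne_zero i)]
      · simp only [Fin.cons_succ, Fin.succ_inj]
        exact hef i i'

/-- `sympForm` as a bilinear form. -/
noncomputable def sB (m : ℕ) (F : Type*) [Field F] : LinearMap.BilinForm F (Fin m ⊕ Fin m → F) :=
  LinearMap.mk₂ F (Cfsg.sympForm m F) sympForm_add_left sympForm_smul_left sympForm_add_right
    sympForm_smul_right

theorem sB_apply (m : ℕ) (F : Type*) [Field F] (u v : Fin m ⊕ Fin m → F) :
    sB m F u v = Cfsg.sympForm m F u v := rfl

theorem sB_isAlt (m : ℕ) (F : Type*) [Field F] : (sB m F).IsAlt := fun v => sympForm_self v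

theorem sB_nondeg (m : ℕ) (F : Type*) [Field F] : (sB m F).Nondegenerate := by
  constructor
  · intro u hu
    by_contra h
    obtain ⟨v, hv⟩ := sympForm_exists_ne_zero h
    exact hv (hu v)
  · intro u hu
    by_contra h
    obtain ⟨v, hv⟩ := sympForm_exists_ne_zero h
    apply hv
    rw [sympForm_swap]
    have := hu v
    rw [sB_apply] at this
    rw [this, neg_zero]

/-- A symplectic frame adapted to a nondegenerate subspace `W` of dimension `2k`: `x` is a frame of
`W`, `y` a frame of `W^⊥`, with Gram matrices the standard `J`. -/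
theorem exists_adapted_frame {F : Type*} [Field F] (m k : ℕ) (hk : k ≤ m)
    (W : Submodule F (Fin m ⊕ Fin m → F)) (hWk : Module.finrank F W = 2 * k)
    (hW : ∀ u ∈ W, (∀ v ∈ W, Cfsg.sympForm m F u v = 0) → u = 0) :
    ∃ (x : Fin k ⊕ Fin k → (Fin m ⊕ Fin m → F))
      (y : Fin (m - k) ⊕ Fin (m - k) → (Fin m ⊕ Fin m → F)),
      (∀ a, x a ∈ W) ∧ (∀ b, ∀ w ∈ W, Cfsg.sympForm m F w (y b) = 0) ∧
      (∀ a a', Cfsg.sympForm m F (x a) (x a') = Matrix.J (Fin k) F a a') ∧
      (∀ b b', Cfsg.sympForm m F (y b) (y b') = Matrix.J (Fin (m - k)) F b b') := by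
  classical
  have hA := sB_isAlt m F
  have hN := sB_nondeg m F
  obtain ⟨e, f, he, hf, hee, hff, hef⟩ := exists_alt_frame (sB m F) hA k W hWk hW
  set P := (sB m F).orthogonal W with hP
  have hPmem : ∀ z, z ∈ P ↔ ∀ w ∈ W, Cfsg.sympForm m F w z = 0 := fun z => Iff.rfl
  have hPdim : Module.finrank F P = 2 * (m - k) := by
    rw [hP, LinearMap.BilinForm.finrank_orthogonal hN, hWk]
    simp only [Module.finrank_fintype_fun_eq_card, Fintype.card_sum, Fintype.card_fin]
    omega
  have hdisj : Disjoint W P := by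
    rw [Submodule.disjoint_def]
    intro z hzW hzP
    apply hW z hzW
    intro v hv
    rw [sympForm_swap, (hPmem z).mp hzP v hv, neg_zero]
  have hcompl : IsCompl W P :=
    (LinearMap.BilinForm.isCompl_orthogonal_iff_disjoint hA.isRefl).mpr hdisj
  have hPnd : ∀ u ∈ P, (∀ v ∈ P, sB m F u v = 0) → u = 0 := by
    intro u hu h
    apply hN.1 u
    intro z
    have hz : z ∈ W ⊔ P := by rw [hcompl.sup_eq_top]; trivial
    obtain ⟨w, hw, p, hp, rfl⟩ := Submodule.mem_sup.mp hz
    rw [map_add, h p hp, add_zero, sB_apply, sympForm_swap, (hPmem u).mp hu w hw, neg_zero]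
  obtain ⟨e', f', he', hf', hee', hff', hef'⟩ :=
    exists_alt_frame (sB m F) hA (m - k) P hPdim hPnd
  have hfe : ∀ i i', Cfsg.sympForm m F (f i) (e i') = -(if i = i' then (1 : F) else 0) := by
    intro i i'
    rw [sympForm_swap, ← sB_apply, hef i' i]
    simp only [eq_comm]
  have hfe' : ∀ i i', Cfsg.sympForm m F (f' i) (e' i') = -(if i = i' then (1 : F) else 0) := by
    intro i i'
    rw [sympForm_swap, ← sB_apply, hef' i' i]
    simp only [eq_comm]
  refine ⟨Sum.elim f e, Sum.elim f' e', ?_, ?_, ?_, ?_⟩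
  · rintro (a | a)
    · exact hf a
    · exact he a
  · rintro (b | b) w hw
    · exact (hPmem _).mp (hf' b) w hw
    · exact (hPmem _).mp (he' b) w hw
  · rintro (a | a) (a' | a')
    · simpa [Matrix.J, sB_apply] using hff a a'
    · simp only [Sum.elim_inl, Sum.elim_inr, hfe, Matrix.J, Matrix.fromBlocks_apply₁₂,
        Matrix.neg_apply, Matrix.one_apply]
    · simp only [Sum.elim_inl, Sum.elim_inr, Matrix.J, Matrix.fromBlocks_apply₂₁,
        Matrix.one_apply]
      exact hef a a'
    · simpa [Matrix.J, sB_apply] using hee a a'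
  · rintro (a | a) (a' | a')
    · simpa [Matrix.J, sB_apply] using hff' a a'
    · simp only [Sum.elim_inl, Sum.elim_inr, hfe', Matrix.J, Matrix.fromBlocks_apply₁₂,
        Matrix.neg_apply, Matrix.one_apply]
    · simp only [Sum.elim_inl, Sum.elim_inr, Matrix.J, Matrix.fromBlocks_apply₂₁,
        Matrix.one_apply]
      exact hef' a a'
    · simpa [Matrix.J, sB_apply] using hee' a a'

end Cfsg.Agent.Helper28.SympFrame
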