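import Mathlib
import Cfsg.Agent.Helper28.Spin10
import Cfsg.Agent.Helper28.SympFrame
import Cfsg.Agent.Helper2.SpGen

set_option autoImplicit false
set_option linter.unusedSectionVars false

/-! Generation of the orthogonal group by reflections in characteristic two. -/

namespace Cfsg.Agent.Helper28.CD2

open Matrix Module Submodule Cfsg.Agent.Helper28.Spin

/-- Symplectic frame of a subspace on which an alternating form is nondegenerate (the dimension
is automatically even). -/
theorem exists_alt_frame' {F V : Type*} [Field F] [AddCommGroup V] [Module F V]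
    [FiniteDimensional F V] (B : LinearMap.BilinForm F V) (hA : B.IsAlt) :
    ∀ (d : ℕ) (U : Submodule F V), Module.finrank F U = d →
      (∀ u ∈ U, (∀ v ∈ U, B u v = 0) → u = 0) →
      ∃ (j : ℕ) (e f : Fin j → V), d = 2 * j ∧ (∀ i, e i ∈ U) ∧ (∀ i, f i ∈ U) ∧
        (∀ i i', B (e i) (e i') = 0) ∧
        (∀ i i', B (f i) (f i') = 0) ∧ (∀ i i', B (e i) (f i') = if i = i' then 1 else 0) := by
  intro d
  induction d using Nat.strong_induction_on with
  | _ d ih =>
  intro U hdim hnd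
  by_cases hd0 : d = 0
  · subst hd0
    exact ⟨0, Fin.elim0, Fin.elim0, rfl, fun i => i.elim0, fun i => i.elim0, fun i => i.elim0,
      fun i => i.elim0, fun i => i.elim0⟩
  · 
    have hpos : 0 < Module.finrank F U := by omega
    obtain ⟨u, hu0⟩ : ∃ u : U, u ≠ 0 := Module.finrank_pos_iff_exists_ne_zero.mp hpos
    obtain ⟨v, hvU, huv⟩ : ∃ v ∈ U, B u v ≠ 0 := by
      by_contra h
      push Not at h
      exact hu0 (Subtype.ext (hnd u u.2 h))
    set v' : V := (B u v)⁻¹ • v with hv'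
    have hv'U : v' ∈ U := U.smul_mem _ hvU
    have huv' : B u v' = 1 := by
      rw [hv', map_smul, smul_eq_mul, inv_mul_cancel₀ huv]
    have hvu' : B v' u = -1 := by
      rw [← hA.neg_eq, huv']
    have huu : B u u = 0 := hA _
    have hvv : B v' v' = 0 := hA _
    let φ : U →ₗ[F] F × F := ((B u).comp U.subtype).prod ((B v').comp U.subtype)
    have hφ : ∀ w : U, φ w = (B u w, B v' w) := fun w => rfl
    have hsurj : Function.Surjective φ := by
      rintro ⟨a, b⟩
      refine ⟨a • ⟨v', hv'U⟩ - b • ⟨(u : V), u.2⟩, ?_⟩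
      rw [hφ]
      simp only [Submodule.coe_sub, Submodule.coe_smul, map_sub, map_smul, smul_eq_mul, huv', huu,
        hvv, hvu']
      ext <;> simp
    set U' : Submodule F V := (LinearMap.ker φ).map U.subtype with hU'
    have hU'mem : ∀ w, w ∈ U' ↔ w ∈ U ∧ B u w = 0 ∧ B v' w = 0 := by
      intro w
      rw [hU', Submodule.mem_map]
      constructor
      · rintro ⟨x, hx, rfl⟩
        rw [LinearMap.mem_ker, hφ, Prod.mk_eq_zero] at hx
        exact ⟨x.2, hx.1, hx.2⟩
      · rintro ⟨hw, h1, h2⟩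
        refine ⟨⟨w, hw⟩, ?_, rfl⟩
        rw [LinearMap.mem_ker, hφ, Prod.mk_eq_zero]
        exact ⟨h1, h2⟩
    have hdim' : Module.finrank F U' + 2 = d := by
      have := LinearMap.finrank_range_add_finrank_ker φ
      rw [LinearMap.range_eq_top.mpr hsurj, finrank_top, Module.finrank_prod, finrank_self] at this
      rw [hU', Submodule.finrank_map_subtype_eq]
      omega
    have hnd' : ∀ w ∈ U', (∀ x ∈ U', B w x = 0) → w = 0 := by
      intro w hw h
      obtain ⟨hwU, hw1, hw2⟩ := (hU'mem w).mp hw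
      have hwu : B w u = 0 := by rw [← hA.neg_eq, hw1, neg_zero]
      have hwv : B w v' = 0 := by rw [← hA.neg_eq, hw2, neg_zero]
      apply hnd w hwU
      intro x hx
      have hx' : x + B v' x • (u : V) - B u x • v' ∈ U' := by
        rw [hU'mem]
        refine ⟨U.sub_mem (U.add_mem hx (U.smul_mem _ u.2)) (U.smul_mem _ hv'U), ?_, ?_⟩
        · simp only [map_sub, map_add, map_smul, smul_eq_mul, huu, huv']
          ring
        · simp only [map_sub, map_add, map_smul, smul_eq_mul, hvv, hvu']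
          ring
      have := h _ hx'
      simp only [map_sub, map_add, map_smul, smul_eq_mul, hwu, hwv, mul_zero, add_zero,
        sub_zero] at this
      exact this
    obtain ⟨j, e, f, hj, he, hf, hee, hff, hef⟩ := ih (Module.finrank F U') (by omega) U' rfl hnd'
    have heU : ∀ i, e i ∈ U := fun i => ((hU'mem _).mp (he i)).1
    have hfU : ∀ i, f i ∈ U := fun i => ((hU'mem _).mp (hf i)).1
    have hue : ∀ i, B u (e i) = 0 := fun i => ((hU'mem _).mp (he i)).2.1
    have hve : ∀ i, B v' (e i) = 0 := fun i => ((hU'mem _).mp (he i)).2.2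
    have huf : ∀ i, B u (f i) = 0 := fun i => ((hU'mem _).mp (hf i)).2.1
    have hvf : ∀ i, B v' (f i) = 0 := fun i => ((hU'mem _).mp (hf i)).2.2
    have heu : ∀ i, B (e i) u = 0 := fun i => by rw [← hA.neg_eq, hue, neg_zero]
    have hev : ∀ i, B (e i) v' = 0 := fun i => by rw [← hA.neg_eq, hve, neg_zero]
    have hfu : ∀ i, B (f i) u = 0 := fun i => by rw [← hA.neg_eq, huf, neg_zero]
    have hfv : ∀ i, B (f i) v' = 0 := fun i => by rw [← hA.neg_eq, hvf, neg_zero]
    refine ⟨j + 1, Fin.cons (u : V) e, Fin.cons v' f, by omega, ?_, ?_, ?_, ?_, ?_⟩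
    · intro i
      refine Fin.cases ?_ (fun i => ?_) i
      · simp
      · simpa using heU i
    · intro i
      refine Fin.cases ?_ (fun i => ?_) i
      · simpa using hv'U
      · simpa using hfU i
    · intro i i'
      refine Fin.cases ?_ (fun i => ?_) i <;> refine Fin.cases ?_ (fun i' => ?_) i'
      · simpa using huu
      · simpa using hue i'
      · simpa using heu i
      · simpa using hee i i'
    · intro i i'
      refine Fin.cases ?_ (fun i => ?_) i <;> refine Fin.cases ?_ (fun i' => ?_) i'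
      · simpa using hvv
      · simpa using hvf i'
      · simpa using hfv i
      · simpa using hff i i'
    · intro i i'
      refine Fin.cases ?_ (fun i => ?_) i <;> refine Fin.cases ?_ (fun i' => ?_) i'
      · simpa using huv'
      · simp only [Fin.cons_zero, Fin.cons_succ]
        rw [huf i', if_neg (Fin.succ_ne_zero i').symm]
      · simp only [Fin.cons_zero, Fin.cons_succ]
        rw [hev i, if_neg (Fin.succ_ne_zero i)]
      · simp only [Fin.cons_succ, Fin.succ_inj]
        exact hef i i'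


section frame

variable {F : Type*} [Field F] {ι : Type} [Fintype ι] [DecidableEq ι]
  (Q : QuadraticForm F (ι → F))

/-- the polar form -/
abbrev P (x y : ι → F) : F := QuadraticMap.polar ⇑Q x y

/-- a nonsingular vector `u`, a partner `v` and a symplectic frame of `⟨u, v⟩^⊥` -/
structure Frame (k : ℕ) where
  u : ι → F
  v : ι → F
  e : Fin k → ι → F
  f : Fin k → ι → F
  hu : Q u ≠ 0
  huv : P Q u v = 1
  hue : ∀ i, P Q u (e i) = 0
  huf : ∀ i, P Q u (f i) = 0
  hve : ∀ i, P Q v (e i) = 0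
  hvf : ∀ i, P Q v (f i) = 0
  hee : ∀ i j, P Q (e i) (e j) = 0
  hff : ∀ i j, P Q (f i) (f j) = 0
  hef : ∀ i j, P Q (e i) (f j) = if i = j then 1 else 0

variable {Q} {k : ℕ} (fr : Frame Q k)

/-- coordinates to vectors of `⟨u, v⟩^⊥` -/
def iW : (Fin k ⊕ Fin k → F) →ₗ[F] (ι → F) where
  toFun a := ∑ i, (a (Sum.inl i) • fr.e i + a (Sum.inr i) • fr.f i)
  map_add' a b := by
    simp only [Pi.add_apply, add_smul, ← Finset.sum_add_distrib]
    apply Finset.sum_congr rfl
    intro i _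
    abel
  map_smul' c a := by
    simp only [Pi.smul_apply, smul_eq_mul, mul_smul, RingHom.id_apply, Finset.smul_sum, smul_add]

theorem iW_apply (a : Fin k ⊕ Fin k → F) :
    iW fr a = ∑ i, (a (Sum.inl i) • fr.e i + a (Sum.inr i) • fr.f i) := rfl

/-- vectors to coordinates -/
def cW : (ι → F) →ₗ[F] (Fin k ⊕ Fin k → F) where
  toFun x := Sum.elim (fun i => P Q x (fr.f i)) (fun i => P Q x (fr.e i))
  map_add' x y := by
    funext s
    rcases s with i | i <;> simp [QuadraticMap.polar_add_left]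
  map_smul' c x := by
    funext s
    rcases s with i | i <;> simp [QuadraticMap.polar_smul_left]

theorem cW_inl (x : ι → F) (i : Fin k) : cW fr x (Sum.inl i) = P Q x (fr.f i) := rfl

theorem cW_inr (x : ι → F) (i : Fin k) : cW fr x (Sum.inr i) = P Q x (fr.e i) := rfl

theorem P_iW_right (x : ι → F) (a : Fin k ⊕ Fin k → F) :
    P Q x (iW fr a) = ∑ i, (a (Sum.inl i) * P Q x (fr.e i) + a (Sum.inr i) * P Q x (fr.f i)) := by
  have hlin : ∀ (s : Finset (Fin k)),
      P Q x (∑ i ∈ s, (a (Sum.inl i) • fr.e i + a (Sum.inr i) • fr.f i)) =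
        ∑ i ∈ s, (a (Sum.inl i) * P Q x (fr.e i) + a (Sum.inr i) * P Q x (fr.f i)) := by
    intro s
    induction s using Finset.induction_on with
    | empty => simp [P]
    | insert b s hb ih =>
      rw [Finset.sum_insert hb, Finset.sum_insert hb]
      unfold P at ih ⊢
      rw [QuadraticMap.polar_add_right, ih, QuadraticMap.polar_add_right,
        QuadraticMap.polar_smul_right, QuadraticMap.polar_smul_right, smul_eq_mul, smul_eq_mul]
  rw [iW_apply, hlin]

theorem P_iW_left (x : ι → F) (a : Fin k ⊕ Fin k → F) :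
    P Q (iW fr a) x = ∑ i, (a (Sum.inl i) * P Q (fr.e i) x + a (Sum.inr i) * P Q (fr.f i) x) := by
  unfold P
  rw [QuadraticMap.polar_comm]
  have := P_iW_right fr x a
  unfold P at this
  rw [this]
  apply Finset.sum_congr rfl
  intro i _
  rw [QuadraticMap.polar_comm (⇑Q) x (fr.e i), QuadraticMap.polar_comm (⇑Q) x (fr.f i)]

theorem P_u_iW (a : Fin k ⊕ Fin k → F) : P Q fr.u (iW fr a) = 0 := by
  rw [P_iW_right]
  apply Finset.sum_eq_zero
  intro i _
  rw [fr.hue, fr.huf, mul_zero, mul_zero, add_zero]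

theorem P_v_iW (a : Fin k ⊕ Fin k → F) : P Q fr.v (iW fr a) = 0 := by
  rw [P_iW_right]
  apply Finset.sum_eq_zero
  intro i _
  rw [fr.hve, fr.hvf, mul_zero, mul_zero, add_zero]

theorem hfe (i j : Fin k) : P Q (fr.f i) (fr.e j) = if i = j then 1 else 0 := by
  unfold P
  rw [QuadraticMap.polar_comm]
  have := fr.hef j i
  unfold P at this
  rw [this]
  simp only [eq_comm]

theorem cW_iW (a : Fin k ⊕ Fin k → F) : cW fr (iW fr a) = a := by
  funext s
  rcases s with j | j
  · rw [cW_inl, P_iW_left]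
    simp only [fr.hef, fr.hff, mul_zero, add_zero, mul_ite, mul_one, Finset.sum_ite_eq',
      Finset.mem_univ, if_true]
  · rw [cW_inr, P_iW_left]
    simp only [fr.hee, hfe fr, mul_zero, zero_add, mul_ite, mul_one, Finset.sum_ite_eq',
      Finset.mem_univ, if_true]

theorem cW_u : cW fr fr.u = 0 := by
  funext s
  rcases s with j | j
  · rw [cW_inl, fr.huf]; rfl
  · rw [cW_inr, fr.hue]; rfl

theorem cW_v : cW fr fr.v = 0 := by
  funext s
  rcases s with j | j
  · rw [cW_inl, fr.hvf]; rfl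
  · rw [cW_inr, fr.hve]; rfl

/-- the parametrisation `(s, t, a) ↦ s u + t v + ι(a)` -/
def Psi : (F × F × (Fin k ⊕ Fin k → F)) →ₗ[F] (ι → F) where
  toFun y := y.1 • fr.u + y.2.1 • fr.v + iW fr y.2.2
  map_add' y z := by
    simp only [Prod.fst_add, Prod.snd_add, add_smul, map_add]
    abel
  map_smul' c y := by
    simp only [Prod.smul_fst, Prod.smul_snd, smul_eq_mul, mul_smul, map_smul, RingHom.id_apply,
      smul_add]

theorem Psi_apply (y : F × F × (Fin k ⊕ Fin k → F)) :
    Psi fr y = y.1 • fr.u + y.2.1 • fr.v + iW fr y.2.2 := rfl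

section char2

variable (h2 : (2 : F) = 0)
include h2

theorem P_self (x : ι → F) : P Q x x = 0 := polar_self_zero Q h2 x

theorem P_Psi_v (y : F × F × (Fin k ⊕ Fin k → F)) : P Q (Psi fr y) fr.v = y.1 := by
  unfold P
  rw [Psi_apply, QuadraticMap.polar_add_left, QuadraticMap.polar_add_left,
    QuadraticMap.polar_smul_left, QuadraticMap.polar_smul_left,
    QuadraticMap.polar_comm (⇑Q) (iW fr y.2.2)]
  have e1 := fr.huv
  have e2 := P_self (Q := Q) h2 fr.v
  have e3 := P_v_iW fr y.2.2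
  unfold P at e1 e2 e3
  rw [e1, e2, e3]
  simp

theorem P_Psi_u (y : F × F × (Fin k ⊕ Fin k → F)) : P Q (Psi fr y) fr.u = y.2.1 := by
  unfold P
  rw [Psi_apply, QuadraticMap.polar_add_left, QuadraticMap.polar_add_left,
    QuadraticMap.polar_smul_left, QuadraticMap.polar_smul_left,
    QuadraticMap.polar_comm (⇑Q) (iW fr y.2.2), QuadraticMap.polar_comm (⇑Q) fr.v fr.u]
  have e1 := fr.huv
  have e2 := P_self (Q := Q) h2 fr.u
  have e3 := P_u_iW fr y.2.2
  unfold P at e1 e2 e3
  rw [e1, e2, e3]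
  simp

theorem cW_Psi (y : F × F × (Fin k ⊕ Fin k → F)) : cW fr (Psi fr y) = y.2.2 := by
  rw [Psi_apply, map_add, map_add, map_smul, map_smul, cW_u, cW_v, cW_iW]
  simp

theorem Psi_injective : Function.Injective (Psi fr) := by
  intro y z hyz
  have h1 := P_Psi_v fr h2 y
  have h3 := P_Psi_u fr h2 y
  have h4 := cW_Psi fr h2 y
  rw [hyz, P_Psi_v fr h2 z] at h1
  rw [hyz, P_Psi_u fr h2 z] at h3
  rw [hyz, cW_Psi fr h2 z] at h4
  exact Prod.ext h1.symm (Prod.ext h3.symm h4.symm)

theorem finrank_dom : finrank F (F × F × (Fin k ⊕ Fin k → F)) = 2 * k + 2 := by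
  rw [Module.finrank_prod, Module.finrank_prod, Module.finrank_self,
    Module.finrank_fintype_fun_eq_card, Fintype.card_sum, Fintype.card_fin]
  ring

theorem card_ge (fr' : Frame Q k) : 2 * k + 2 ≤ Fintype.card ι := by
  have := LinearMap.finrank_le_finrank_of_injective (Psi_injective fr' h2)
  rw [finrank_dom h2, Module.finrank_fintype_fun_eq_card] at this
  exact this

/-- the decomposition of a vector along `u`, `v` and the frame -/
theorem decomp (hdim : Fintype.card ι = 2 * k + 2) (x : ι → F) :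
    x = P Q x fr.v • fr.u + P Q x fr.u • fr.v + iW fr (cW fr x) := by
  have hsurj : Function.Surjective (Psi fr) := by
    apply (LinearMap.injective_iff_surjective_of_finrank_eq_finrank _).1 (Psi_injective fr h2)
    rw [finrank_dom h2, Module.finrank_fintype_fun_eq_card, hdim]
  obtain ⟨y, rfl⟩ := hsurj x
  rw [P_Psi_v fr h2, P_Psi_u fr h2, cW_Psi fr h2]
  rfl

theorem neg_eq_self' (x : F) : -x = x := by
  rw [neg_eq_iff_add_eq_zero, ← two_mul, h2, zero_mul]

open Cfsg.Agent.Helper2.Sp in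
theorem P_iW_iW (a b : Fin k ⊕ Fin k → F) : P Q (iW fr a) (iW fr b) = om a b := by
  rw [P_iW_right, om_eq_sum]
  apply Finset.sum_congr rfl
  intro i _
  have e1 : P Q (iW fr a) (fr.e i) = a (Sum.inr i) := by
    rw [← cW_inr, cW_iW]
  have e2 : P Q (iW fr a) (fr.f i) = a (Sum.inl i) := by
    rw [← cW_inl, cW_iW]
  rw [e1, e2, sub_eq_add_neg, neg_eq_self' h2]
  ring

/-- the induced matrix on the frame coordinates -/
noncomputable def Dm (M : Matrix ι ι F) : Matrix (Fin k ⊕ Fin k) (Fin k ⊕ Fin k) F :=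
  LinearMap.toMatrix' ((cW fr).comp (M.mulVecLin.comp (iW fr)))

omit h2 in
theorem Dm_mulVec (M : Matrix ι ι F) (a : Fin k ⊕ Fin k → F) :
    Dm fr M *ᵥ a = cW fr (M *ᵥ iW fr a) := by
  unfold Dm
  rw [LinearMap.toMatrix'_mulVec]
  rfl

omit h2 in
theorem Dm_one : Dm fr (1 : Matrix ι ι F) = 1 := by
  apply matrix_ext_mulVec
  intro a
  rw [Dm_mulVec, Matrix.one_mulVec, Matrix.one_mulVec, cW_iW]

/-- an isometry fixing `u` maps `u^⊥` to itself -/
theorem stab_form (hdim : Fintype.card ι = 2 * k + 2) {M : Matrix ι ι F}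
    (hM : ∀ x, Q (M *ᵥ x) = Q x) (hMu : M *ᵥ fr.u = fr.u) (x : ι → F) (hx : P Q x fr.u = 0) :
    M *ᵥ x = P Q (M *ᵥ x) fr.v • fr.u + iW fr (cW fr (M *ᵥ x)) := by
  have h1 : P Q (M *ᵥ x) fr.u = 0 := by
    have := polar_isom Q hM x fr.u
    rw [hMu] at this
    unfold P
    rw [this]
    exact hx
  have h3 := decomp fr h2 hdim (M *ᵥ x)
  rw [h1, zero_smul, add_zero] at h3
  exact h3

theorem P_iW_u (a : Fin k ⊕ Fin k → F) : P Q (iW fr a) fr.u = 0 := by
  unfold P
  rw [QuadraticMap.polar_comm]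
  exact P_u_iW fr a

theorem Dm_mul (hdim : Fintype.card ι = 2 * k + 2) {M N : Matrix ι ι F}
    (hMu : M *ᵥ fr.u = fr.u) (hN : ∀ x, Q (N *ᵥ x) = Q x) (hNu : N *ᵥ fr.u = fr.u) :
    Dm fr (M * N) = Dm fr M * Dm fr N := by
  apply matrix_ext_mulVec
  intro a
  rw [← Matrix.mulVec_mulVec, Dm_mulVec, Dm_mulVec, Dm_mulVec, ← Matrix.mulVec_mulVec]
  have h1 := stab_form fr h2 hdim hN hNu (iW fr a) (P_iW_u fr h2 a)
  conv_lhs => rw [h1]
  rw [Matrix.mulVec_add, Matrix.mulVec_smul, hMu, map_add, map_smul, cW_u, smul_zero, zero_add]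

open Cfsg.Agent.Helper2.Sp in
theorem Dm_symp (hdim : Fintype.card ι = 2 * k + 2) {M : Matrix ι ι F}
    (hM : ∀ x, Q (M *ᵥ x) = Q x) (hMu : M *ᵥ fr.u = fr.u) :
    Dm fr M ∈ Matrix.symplecticGroup (Fin k) F := by
  rw [mem_symplectic_iff_om]
  intro a b
  rw [Dm_mulVec, Dm_mulVec, ← P_iW_iW fr h2, ← P_iW_iW fr h2 a b]
  have h1 := stab_form fr h2 hdim hM hMu (iW fr a) (P_iW_u fr h2 a)
  have h3 := stab_form fr h2 hdim hM hMu (iW fr b) (P_iW_u fr h2 b)
  have h4 := polar_isom Q hM (iW fr a) (iW fr b)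
  unfold P
  rw [← h4]
  conv_rhs => rw [h1, h3]
  rw [QuadraticMap.polar_add_left, QuadraticMap.polar_add_right, QuadraticMap.polar_add_right,
    QuadraticMap.polar_smul_left, QuadraticMap.polar_smul_left, QuadraticMap.polar_smul_right,
    QuadraticMap.polar_smul_right]
  have e1 := P_self (Q := Q) h2 fr.u
  have e2 := P_u_iW fr (cW fr (M *ᵥ iW fr b))
  have e3 := P_iW_u fr h2 (cW fr (M *ᵥ iW fr a))
  unfold P at e1 e2 e3
  rw [e1, e2, e3]
  simp

open Cfsg.Agent.Helper2.Sp in
theorem Dm_refl (hdim : Fintype.card ι = 2 * k + 2) (w : ι → F) (hwu : P Q w fr.u = 0) :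
    Dm fr (Cfsg.reflectionMatrix ⇑Q w) = T (cW fr w) (Q w)⁻¹ := by
  apply matrix_ext_mulVec
  intro a
  rw [Dm_mulVec, refl_mulVec, T_mulVec, map_sub, map_smul, cW_iW]
  have h1 : QuadraticMap.polar ⇑Q w (iW fr a) = om (cW fr w) a := by
    have hd := decomp fr h2 hdim w
    rw [hwu, zero_smul, add_zero] at hd
    conv_lhs => rw [hd]
    rw [QuadraticMap.polar_add_left, QuadraticMap.polar_smul_left]
    have e1 := P_u_iW fr a
    have e2 := P_iW_iW fr h2 (cW fr w) a
    unfold P at e1 e2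
    rw [e1, e2, smul_zero, zero_add]
  rw [h1, sub_eq_add_neg, ← neg_smul, neg_eq_self' h2]

theorem exists_lift [Fintype F] (w : Fin k ⊕ Fin k → F) (c : F) :
    ∃ w' : ι → F, Q w' = c ∧ P Q w' fr.u = 0 ∧ cW fr w' = w := by
  have hchar : ringChar F = 2 :=
    CharP.ringChar_of_prime_eq_zero Nat.prime_two (by exact_mod_cast h2)
  obtain ⟨s, hs⟩ := FiniteField.isSquare_of_char_two hchar ((c + Q (iW fr w)) * (Q fr.u)⁻¹)
  refine ⟨iW fr w + s • fr.u, ?_, ?_, ?_⟩
  · rw [map_add_smul']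
    have e1 := P_iW_u fr h2 w
    unfold P at e1
    rw [e1, mul_zero, add_zero, pow_two, ← hs, mul_assoc, inv_mul_cancel₀ fr.hu, mul_one]
    have : Q (iW fr w) + Q (iW fr w) = 0 := by rw [← two_mul, h2, zero_mul]
    linear_combination this
  · unfold P
    rw [QuadraticMap.polar_add_left, QuadraticMap.polar_smul_left]
    have e1 := P_iW_u fr h2 w
    have e2 := P_self (Q := Q) h2 fr.u
    unfold P at e1 e2
    rw [e1, e2]
    simp
  · rw [map_add, map_smul, cW_iW, cW_u, smul_zero, add_zero]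

/-- the kernel of `g ↦ Dm g` on the stabiliser of `u` -/
theorem eq_of_Dm_eq_one (hdim : Fintype.card ι = 2 * k + 2) {M : Matrix ι ι F}
    (hM : ∀ x, Q (M *ᵥ x) = Q x) (hMu : M *ᵥ fr.u = fr.u) (hD : Dm fr M = 1) :
    M = 1 ∨ M = Cfsg.reflectionMatrix ⇑Q fr.u := by
  -- `M` fixes the image of `iW`
  have hfix : ∀ a, M *ᵥ iW fr a = iW fr a := by
    intro a
    have h1 := stab_form fr h2 hdim hM hMu (iW fr a) (P_iW_u fr h2 a)
    have h3 : cW fr (M *ᵥ iW fr a) = a := by
      rw [← Dm_mulVec, hD, Matrix.one_mulVec]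
    rw [h3] at h1
    set l := P Q (M *ᵥ iW fr a) fr.v with hl
    have h4 := hM (iW fr a)
    rw [h1, add_comm, map_add_smul'] at h4
    have e1 := P_iW_u fr h2 a
    unfold P at e1
    rw [e1, mul_zero, add_zero] at h4
    have h5 : l ^ 2 * Q fr.u = 0 := by linear_combination h4
    have h6 : l = 0 := by
      rcases mul_eq_zero.1 h5 with h | h
      · exact pow_eq_zero_iff (two_ne_zero) |>.1 h
      · exact absurd h fr.hu
    rw [h1, h6, zero_smul, zero_add]
  have hfix' : ∀ x, P Q x fr.u = 0 → P Q x fr.v = 0 → M *ᵥ x = x := by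
    intro x hxu hxv
    have hd := decomp fr h2 hdim x
    rw [hxu, hxv, zero_smul, zero_smul, zero_add, zero_add] at hd
    rw [hd, hfix]
  have hvu : P Q fr.v fr.u = 1 := by
    unfold P
    rw [QuadraticMap.polar_comm]
    exact fr.huv
  -- the image of `v`
  set l := P Q (M *ᵥ fr.v) fr.v with hl
  have hMv : M *ᵥ fr.v = fr.v + l • fr.u := by
    have hd := decomp fr h2 hdim (M *ᵥ fr.v)
    have h1 : P Q (M *ᵥ fr.v) fr.u = 1 := by
      have := polar_isom Q hM fr.v fr.u
      rw [hMu] at this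
      unfold P
      rw [this]
      exact hvu
    have h3 : cW fr (M *ᵥ fr.v) = 0 := by
      funext s
      rcases s with i | i
      · rw [cW_inl]
        have hf : M *ᵥ fr.f i = fr.f i := by
          apply hfix'
          · unfold P; rw [QuadraticMap.polar_comm]; exact fr.huf i
          · unfold P; rw [QuadraticMap.polar_comm]; exact fr.hvf i
        have := polar_isom Q hM fr.v (fr.f i)
        rw [hf] at this
        unfold P
        rw [this]
        exact fr.hvf i
      · rw [cW_inr]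
        have he : M *ᵥ fr.e i = fr.e i := by
          apply hfix'
          · unfold P; rw [QuadraticMap.polar_comm]; exact fr.hue i
          · unfold P; rw [QuadraticMap.polar_comm]; exact fr.hve i
        have := polar_isom Q hM fr.v (fr.e i)
        rw [he] at this
        unfold P
        rw [this]
        exact fr.hve i
    rw [h1, h3, map_zero, add_zero, one_smul] at hd
    rw [hd, add_comm]
  have hall : ∀ x, M *ᵥ x = x + (l * P Q x fr.u) • fr.u := by
    intro x
    have key : ∀ (α β : F) (c : Fin k ⊕ Fin k → F),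
        M *ᵥ (α • fr.u + β • fr.v + iW fr c) = (α • fr.u + β • fr.v + iW fr c) + (l * β) • fr.u := by
      intro α β c
      rw [Matrix.mulVec_add, Matrix.mulVec_add, Matrix.mulVec_smul, Matrix.mulVec_smul, hMu, hMv,
        hfix]
      module
    have hd := decomp fr h2 hdim x
    conv_lhs => rw [hd]
    rw [key, ← hd]
  have hl2 : l * (l * Q fr.u + 1) = 0 := by
    have h4 := hM fr.v
    rw [hMv, map_add_smul'] at h4
    unfold P at hvu
    rw [hvu] at h4
    linear_combination h4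
  rcases mul_eq_zero.1 hl2 with h | h
  · left
    apply matrix_ext_mulVec
    intro x
    rw [hall, h, zero_mul, zero_smul, add_zero, Matrix.one_mulVec]
  · right
    have hl' : l = (Q fr.u)⁻¹ := by
      have : l * Q fr.u = 1 := by
        linear_combination h - h2
      exact eq_inv_of_mul_eq_one_left this
    apply matrix_ext_mulVec
    intro x
    rw [hall, refl_mulVec, hl', sub_eq_add_neg, ← neg_smul, neg_eq_self' h2]
    unfold P
    rw [QuadraticMap.polar_comm]

end char2

end frame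

section exist

variable {F : Type*} [Field F] {ι : Type} [Fintype ι] [DecidableEq ι]
  (Q : QuadraticForm F (ι → F))

/-- existence of an adapted frame through a given nonsingular vector -/
theorem exists_frame (h2 : (2 : F) = 0) (hQ : (QuadraticMap.polarBilin Q).Nondegenerate)
    (u : ι → F) (hu : Q u ≠ 0) :
    ∃ (k : ℕ) (fr : Frame Q k), fr.u = u ∧ Fintype.card ι = 2 * k + 2 := by
  have hu0 : u ≠ 0 := by
    rintro rfl
    exact hu (map_zero Q)
  obtain ⟨v₀, hv₀⟩ : ∃ x, QuadraticMap.polar ⇑Q u x ≠ 0 := by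
    by_contra hcon
    push Not at hcon
    exact hu0 (hQ.1 u hcon)
  obtain ⟨v, huv⟩ : ∃ v, QuadraticMap.polar ⇑Q u v = 1 :=
    ⟨(QuadraticMap.polar ⇑Q u v₀)⁻¹ • v₀, by
      rw [QuadraticMap.polar_smul_right, smul_eq_mul, inv_mul_cancel₀ hv₀]⟩
  have hvu : QuadraticMap.polar ⇑Q v u = 1 := by rw [QuadraticMap.polar_comm]; exact huv
  set B := QuadraticMap.polarBilin Q with hB
  have hBa : ∀ x y, B x y = QuadraticMap.polar ⇑Q x y := fun x y => rfl
  have hA : B.IsAlt := fun x => by rw [hBa]; exact polar_self_zero Q h2 x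
  set W := LinearMap.BilinForm.orthogonal B (span F {u} ⊔ span F {v}) with hW
  have hWmem : ∀ x, x ∈ W ↔ QuadraticMap.polar ⇑Q u x = 0 ∧ QuadraticMap.polar ⇑Q v x = 0 :=
    fun x => mem_orth_pair Q hQ u v x
  have hneg : ∀ t : F, -t = t := fun t => by
    rw [neg_eq_iff_add_eq_zero, ← two_mul, h2, zero_mul]
  have hnd : ∀ x ∈ W, (∀ y ∈ W, B x y = 0) → x = 0 := by
    intro x hx hxy
    obtain ⟨hx1, hx2⟩ := (hWmem x).1 hx
    apply hQ.1
    intro y
    set yW : ι → F := y + QuadraticMap.polar ⇑Q y v • u + QuadraticMap.polar ⇑Q y u • v with hyW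
    have hyWmem : yW ∈ W := by
      rw [hWmem]
      constructor
      · rw [hyW, QuadraticMap.polar_add_right, QuadraticMap.polar_add_right,
          QuadraticMap.polar_smul_right, QuadraticMap.polar_smul_right, polar_self_zero Q h2, huv,
          QuadraticMap.polar_comm (⇑Q) y u]
        simp only [smul_eq_mul, mul_zero, add_zero, mul_one]
        rw [← two_mul, h2, zero_mul]
      · rw [hyW, QuadraticMap.polar_add_right, QuadraticMap.polar_add_right,
          QuadraticMap.polar_smul_right, QuadraticMap.polar_smul_right, polar_self_zero Q h2, hvu,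
          QuadraticMap.polar_comm (⇑Q) y v]
        simp only [smul_eq_mul, mul_zero, add_zero, mul_one]
        rw [← two_mul, h2, zero_mul]
    have h1 := hxy yW hyWmem
    rw [hBa, hyW, QuadraticMap.polar_add_right, QuadraticMap.polar_add_right,
      QuadraticMap.polar_smul_right, QuadraticMap.polar_smul_right,
      QuadraticMap.polar_comm (⇑Q) x u, QuadraticMap.polar_comm (⇑Q) x v, hx1, hx2] at h1
    rw [hBa]
    simpa using h1
  obtain ⟨j, e, f, hj, he, hf, hee, hff, hef⟩ := exists_alt_frame' B hA _ W rfl hnd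
  let fr : Frame Q j :=
    { u := u
      v := v
      e := e
      f := f
      hu := hu
      huv := huv
      hue := fun i => ((hWmem _).1 (he i)).1
      huf := fun i => ((hWmem _).1 (hf i)).1
      hve := fun i => ((hWmem _).1 (he i)).2
      hvf := fun i => ((hWmem _).1 (hf i)).2
      hee := hee
      hff := hff
      hef := hef }
  refine ⟨j, fr, rfl, ?_⟩
  have h1 := card_ge h2 fr
  have hVn : finrank F (ι → F) = Fintype.card ι := Module.finrank_fintype_fun_eq_card F
  have hfin : Fintype.card ι - 2 ≤ finrank F W := by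
    rw [hW, LinearMap.BilinForm.finrank_orthogonal hQ, hVn]
    have h1 := Submodule.finrank_add_le_finrank_add_finrank (span F {u}) (span F {v})
    have h3 : finrank F (span F {u}) ≤ 1 := by
      have := finrank_span_le_card (R := F) ({u} : Set (ι → F))
      simpa using this
    have h4 : finrank F (span F {v}) ≤ 1 := by
      have := finrank_span_le_card (R := F) ({v} : Set (ι → F))
      simpa using this
    omega
  omega

end exist

section main

variable {F : Type*} [Field F] [Fintype F] {ι : Type} [Fintype ι] [DecidableEq ι]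
  (Q : QuadraticForm F (ι → F))

/-- the subgroup generated by the reflections -/
def Rfl : Subgroup ↥(Cfsg.isometryGroup F ⇑Q) :=
  Subgroup.closure {g | ∃ v : ι → F, Q v ≠ 0 ∧
    ((g : GL ι F) : Matrix ι ι F) = Cfsg.reflectionMatrix ⇑Q v}

theorem reflO_mem_Rfl (v : ι → F) (hv : Q v ≠ 0) : reflO Q v hv ∈ Rfl Q :=
  Subgroup.subset_closure ⟨v, hv, rfl⟩

/-- matrix of an isometry -/
abbrev mt (g : ↥(Cfsg.isometryGroup F ⇑Q)) : Matrix ι ι F := ((g : GL ι F) : Matrix ι ι F)

theorem mt_mul (g h : ↥(Cfsg.isometryGroup F ⇑Q)) : mt Q (g * h) = mt Q g * mt Q h := rfl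

theorem mt_one : mt Q (1 : ↥(Cfsg.isometryGroup F ⇑Q)) = 1 := rfl

theorem mt_inv_mul (g : ↥(Cfsg.isometryGroup F ⇑Q)) : mt Q g⁻¹ * mt Q g = 1 := by
  rw [← mt_mul, inv_mul_cancel, mt_one]

theorem mt_inv_fix (g : ↥(Cfsg.isometryGroup F ⇑Q)) (u : ι → F) (h : mt Q g *ᵥ u = u) :
    mt Q g⁻¹ *ᵥ u = u := by
  conv_lhs => rw [← h]
  rw [Matrix.mulVec_mulVec, mt_inv_mul, Matrix.one_mulVec]

open Cfsg.Agent.Helper2.Sp in
/-- the stabiliser of a nonsingular vector is generated by reflections -/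
theorem stab_le_Rfl (h2 : (2 : F) = 0) (hQ : (QuadraticMap.polarBilin Q).Nondegenerate)
    (u : ι → F) (hu : Q u ≠ 0) (g : ↥(Cfsg.isometryGroup F ⇑Q)) (hg : mt Q g *ᵥ u = u) :
    g ∈ Rfl Q := by
  obtain ⟨k, fr, rfl, hdim⟩ := exists_frame Q h2 hQ u hu
  have claim : ∀ σ : Matrix.symplecticGroup (Fin k) F, ∃ h : ↥(Cfsg.isometryGroup F ⇑Q),
      h ∈ Rfl Q ∧ mt Q h *ᵥ fr.u = fr.u ∧
        Dm fr (mt Q h) = (σ : Matrix (Fin k ⊕ Fin k) (Fin k ⊕ Fin k) F) := by
    intro σ
    have hσ : σ ∈ TV (Fin k) F := by rw [TV_eq_top]; trivial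
    unfold TV at hσ
    refine Subgroup.closure_induction (G := Matrix.symplecticGroup (Fin k) F)
      (p := fun (σ : Matrix.symplecticGroup (Fin k) F) _ => ∃ h : ↥(Cfsg.isometryGroup F ⇑Q),
        h ∈ Rfl Q ∧ mt Q h *ᵥ fr.u = fr.u ∧
        Dm fr (mt Q h) = (σ : Matrix (Fin k ⊕ Fin k) (Fin k ⊕ Fin k) F)) ?_ ?_ ?_ ?_ hσ
    · rintro _ ⟨⟨w, c⟩, rfl⟩
      by_cases hc : c = 0
      · refine ⟨1, Subgroup.one_mem _, by rw [mt_one, Matrix.one_mulVec], ?_⟩
        rw [mt_one, Dm_one]
        show (1 : Matrix (Fin k ⊕ Fin k) (Fin k ⊕ Fin k) F) = T w c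
        rw [hc]
        unfold T
        simp
      · obtain ⟨w', hw'Q, hw'u, hw'c⟩ := exists_lift fr h2 w c⁻¹
        have hw' : Q w' ≠ 0 := by rw [hw'Q]; exact inv_ne_zero hc
        refine ⟨reflO Q w' hw', reflO_mem_Rfl Q w' hw', ?_, ?_⟩
        · exact refl_fix Q hw'u
        · show Dm fr (Cfsg.reflectionMatrix ⇑Q w') = T w c
          rw [Dm_refl fr h2 hdim w' hw'u, hw'c, hw'Q, inv_inv]
    · exact ⟨1, Subgroup.one_mem _, by rw [mt_one, Matrix.one_mulVec], by rw [mt_one, Dm_one]; rfl⟩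
    · rintro σ τ _ _ ⟨h₁, hR₁, hu₁, hD₁⟩ ⟨h₂, hR₂, hu₂, hD₂⟩
      refine ⟨h₁ * h₂, Subgroup.mul_mem _ hR₁ hR₂, ?_, ?_⟩
      · rw [mt_mul, ← Matrix.mulVec_mulVec, hu₂, hu₁]
      · rw [mt_mul, Dm_mul fr h2 hdim hu₁ (isom_apply Q h₂) hu₂, hD₁, hD₂]
        rfl
    · rintro σ _ ⟨h, hR, hu', hD⟩
      refine ⟨h⁻¹, Subgroup.inv_mem _ hR, mt_inv_fix Q h _ hu', ?_⟩
      have e1 : Dm fr (mt Q h⁻¹) * Dm fr (mt Q h) = 1 := by
        rw [← Dm_mul fr h2 hdim (mt_inv_fix Q h _ hu') (isom_apply Q h) hu', mt_inv_mul, Dm_one]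
      have e2 : (σ : Matrix (Fin k ⊕ Fin k) (Fin k ⊕ Fin k) F) *
          ((σ⁻¹ : Matrix.symplecticGroup (Fin k) F) : Matrix (Fin k ⊕ Fin k) (Fin k ⊕ Fin k) F) = 1 := by
        have := mul_inv_cancel σ
        exact congrArg Subtype.val this
      calc Dm fr (mt Q h⁻¹) = Dm fr (mt Q h⁻¹) * ((σ : Matrix (Fin k ⊕ Fin k) (Fin k ⊕ Fin k) F) *
            ((σ⁻¹ : Matrix.symplecticGroup (Fin k) F) : Matrix (Fin k ⊕ Fin k) (Fin k ⊕ Fin k) F)) := by
              rw [e2, mul_one]
        _ = (Dm fr (mt Q h⁻¹) * Dm fr (mt Q h)) *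
            ((σ⁻¹ : Matrix.symplecticGroup (Fin k) F) : Matrix (Fin k ⊕ Fin k) (Fin k ⊕ Fin k) F) := by
              rw [hD, mul_assoc]
        _ = _ := by rw [e1, one_mul]
  obtain ⟨h, hhR, hhu, hhD⟩ := claim ⟨Dm fr (mt Q g), Dm_symp fr h2 hdim (isom_apply Q g) hg⟩
  have hD1 : Dm fr (mt Q (h⁻¹ * g)) = 1 := by
    rw [mt_mul, Dm_mul fr h2 hdim (mt_inv_fix Q h _ hhu) (isom_apply Q g) hg]
    have : Dm fr (mt Q g) = Dm fr (mt Q h) := hhD.symm
    rw [this, ← Dm_mul fr h2 hdim (mt_inv_fix Q h _ hhu) (isom_apply Q h) hhu, mt_inv_mul, Dm_one]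
  have hfix : mt Q (h⁻¹ * g) *ᵥ fr.u = fr.u := by
    rw [mt_mul, ← Matrix.mulVec_mulVec, hg, mt_inv_fix Q h _ hhu]
  rcases eq_of_Dm_eq_one fr h2 hdim (isom_apply Q (h⁻¹ * g)) hfix hD1 with h1 | h1
  · have : h⁻¹ * g = 1 := Subtype.ext (Units.ext h1)
    have hgh : g = h := by
      rw [inv_mul_eq_one] at this
      exact this.symm
    rw [hgh]
    exact hhR
  · have : h⁻¹ * g = reflO Q fr.u fr.hu := Subtype.ext (Units.ext h1)
    have hgh : g = h * reflO Q fr.u fr.hu := by
      rw [← this]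
      group
    rw [hgh]
    exact Subgroup.mul_mem _ hhR (reflO_mem_Rfl Q _ _)

/-- `Rfl` is transitive on vectors of a given nonzero norm -/
theorem exists_move (h2 : (2 : F) = 0) (hQ : (QuadraticMap.polarBilin Q).Nondegenerate)
    (hcard : Fintype.card F ≠ 2 ∨ Fintype.card ι ≠ 4) (a b : ι → F) (ha : Q a ≠ 0)
    (hab : Q a = Q b) : ∃ h ∈ Rfl Q, mt Q h *ᵥ a = b := by
  have key : ∀ a b : ι → F, Q a ≠ 0 → Q a = Q b → QuadraticMap.polar ⇑Q a b ≠ 0 →
      ∃ h ∈ Rfl Q, mt Q h *ᵥ a = b := by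
    intro a b ha hab hB
    have hQ' : Q (a + b) = QuadraticMap.polar ⇑Q a b := by
      rw [QuadraticMap.map_add (⇑Q), ← hab]
      have : Q a + Q a = 0 := by rw [← two_mul, h2, zero_mul]
      rw [this, zero_add]
    have hc : Q (a + b) ≠ 0 := by rw [hQ']; exact hB
    refine ⟨reflO Q (a + b) hc, reflO_mem_Rfl Q _ _, ?_⟩
    show Cfsg.reflectionMatrix ⇑Q (a + b) *ᵥ a = b
    rw [refl_move' Q hab hc, neg_eq_self_vec h2]
  by_cases hB : QuadraticMap.polar ⇑Q a b = 0
  · by_cases hne : a = b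
    · exact ⟨1, Subgroup.one_mem _, by rw [mt_one, Matrix.one_mulVec, hne]⟩
    · obtain ⟨c, hc1, hc2, hc3⟩ := exists_connector Q h2 hQ hcard a b ha hab hB hne
      have hc : Q c ≠ 0 := by rw [hc1]; exact ha
      obtain ⟨h₁, hR₁, hm₁⟩ := key a c ha hc1.symm hc2
      obtain ⟨h₂, hR₂, hm₂⟩ := key c b hc (by rw [hc1, hab])
        (by rw [QuadraticMap.polar_comm]; exact hc3)
      refine ⟨h₂ * h₁, Subgroup.mul_mem _ hR₂ hR₁, ?_⟩
      rw [mt_mul, ← Matrix.mulVec_mulVec, hm₁, hm₂]
  · exact key a b ha hab hB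

/-- **Cartan–Dieudonné** in characteristic two: the reflections generate the orthogonal group. -/
theorem Rfl_eq_top (h2 : (2 : F) = 0) (hQ : (QuadraticMap.polarBilin Q).Nondegenerate)
    (hcard : Fintype.card F ≠ 2 ∨ Fintype.card ι ≠ 4) : Rfl Q = ⊤ := by
  rw [eq_top_iff]
  intro g _
  by_cases hex : ∃ u : ι → F, Q u ≠ 0
  · obtain ⟨u, hu⟩ := hex
    have hgu : Q (mt Q g *ᵥ u) = Q u := isom_apply Q g u
    obtain ⟨h, hR, hm⟩ := exists_move Q h2 hQ hcard (mt Q g *ᵥ u) u (by rw [hgu]; exact hu) hgu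
    have hfix : mt Q (h * g) *ᵥ u = u := by
      rw [mt_mul, ← Matrix.mulVec_mulVec, hm]
    have h1 := stab_le_Rfl Q h2 hQ u hu (h * g) hfix
    have : g = h⁻¹ * (h * g) := by group
    rw [this]
    exact Subgroup.mul_mem _ (Subgroup.inv_mem _ hR) h1
  · push Not at hex
    have hzero : ∀ x : ι → F, x = 0 := by
      intro x
      apply hQ.1
      intro y
      show QuadraticMap.polar ⇑Q x y = 0
      unfold QuadraticMap.polar
      rw [hex, hex, hex]
      simp
    have : g = 1 := by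
      apply Subtype.ext
      apply Units.ext
      apply matrix_ext_mulVec
      intro x
      rw [hzero x]
      simp
    rw [this]
    exact Subgroup.one_mem _

end main

end Cfsg.Agent.Helper28.CD2
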