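import Mathlib

set_option autoImplicit false
set_option linter.unusedSectionVars false

/-! Sets of pairwise commuting involutions of determinant `ε` on an `N`-dimensional space have at
most `2^(N-1)` elements (characteristic not two). -/

namespace Cfsg.Agent.Helper28.CI

open Module LinearMap

universe u

variable {F : Type*} [Field F]

section single

variable {V : Type u} [AddCommGroup V] [Module F V] (a : Module.End F V)

/-- the `1`-eigenspace -/
def Vp : Submodule F V := LinearMap.ker (a - 1)

/-- the `-1`-eigenspace -/
def Vm : Submodule F V := LinearMap.ker (a + 1)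

theorem mem_Vp (x : V) : x ∈ Vp a ↔ a x = x := by
  rw [Vp, LinearMap.mem_ker, LinearMap.sub_apply, Module.End.one_apply, sub_eq_zero]

theorem mem_Vm (x : V) : x ∈ Vm a ↔ a x = -x := by
  rw [Vm, LinearMap.mem_ker, LinearMap.add_apply, Module.End.one_apply, add_eq_zero_iff_eq_neg]

theorem isCompl (h2 : (2 : F) ≠ 0) (ha : a * a = 1) : IsCompl (Vp a) (Vm a) := by
  have haa : ∀ x, a (a x) = x := fun x => by
    have := congrArg (fun f : Module.End F V => f x) ha
    simpa using this
  constructor
  · rw [Submodule.disjoint_def]
    intro x hp hm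
    rw [mem_Vp] at hp
    rw [mem_Vm] at hm
    have : (2 : F) • x = 0 := by
      rw [two_smul]
      nth_rewrite 1 [← hp]
      rw [hm]
      simp
    exact (smul_eq_zero.1 this).resolve_left h2
  · rw [codisjoint_iff, eq_top_iff]
    intro x _
    have e : x = (2 : F)⁻¹ • (x + a x) + (2 : F)⁻¹ • (x - a x) := by
      rw [← smul_add]
      have : x + a x + (x - a x) = (2 : F) • x := by rw [two_smul]; abel
      rw [this, smul_smul, inv_mul_cancel₀ h2, one_smul]
    rw [e]
    apply Submodule.add_mem_sup
    · apply Submodule.smul_mem
      rw [mem_Vp, map_add, haa, add_comm]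
    · apply Submodule.smul_mem
      rw [mem_Vm, map_sub, haa]
      abel

theorem mapsTo_Vp (b : Module.End F V) (hab : a * b = b * a) : ∀ x ∈ Vp a, b x ∈ Vp a := by
  intro x hx
  rw [mem_Vp] at hx ⊢
  have := congrArg (fun f : Module.End F V => f x) hab
  simp only [Module.End.mul_apply] at this
  rw [this, hx]

theorem mapsTo_Vm (b : Module.End F V) (hab : a * b = b * a) : ∀ x ∈ Vm a, b x ∈ Vm a := by
  intro x hx
  rw [mem_Vm] at hx ⊢
  have := congrArg (fun f : Module.End F V => f x) hab
  simp only [Module.End.mul_apply] at this
  rw [this, hx, map_neg]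

open scoped Classical in
/-- restriction to the `1`-eigenspace -/
noncomputable def resP (b : Module.End F V) : Module.End F (Vp a) :=
  if h : a * b = b * a then b.restrict (mapsTo_Vp a b h) else 0

open scoped Classical in
/-- restriction to the `-1`-eigenspace -/
noncomputable def resM (b : Module.End F V) : Module.End F (Vm a) :=
  if h : a * b = b * a then b.restrict (mapsTo_Vm a b h) else 0

theorem resP_apply (b : Module.End F V) (hab : a * b = b * a) (x : Vp a) :
    ((resP a b x : Vp a) : V) = b x := by
  rw [resP, dif_pos hab]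
  rfl

theorem resM_apply (b : Module.End F V) (hab : a * b = b * a) (x : Vm a) :
    ((resM a b x : Vm a) : V) = b x := by
  rw [resM, dif_pos hab]
  rfl

theorem comm_mul (b c : Module.End F V) (hab : a * b = b * a) (hac : a * c = c * a) :
    a * (b * c) = (b * c) * a := by
  rw [← mul_assoc, hab, mul_assoc, hac, mul_assoc]

theorem resP_mul (b c : Module.End F V) (hab : a * b = b * a) (hac : a * c = c * a) :
    resP a (b * c) = resP a b * resP a c := by
  apply LinearMap.ext
  intro x
  apply Subtype.ext
  rw [resP_apply a _ (comm_mul a b c hab hac), Module.End.mul_apply]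
  show b (c (x : V)) = ((resP a b (resP a c x) : Vp a) : V)
  rw [resP_apply a b hab, resP_apply a c hac]

theorem resM_mul (b c : Module.End F V) (hab : a * b = b * a) (hac : a * c = c * a) :
    resM a (b * c) = resM a b * resM a c := by
  apply LinearMap.ext
  intro x
  apply Subtype.ext
  rw [resM_apply a _ (comm_mul a b c hab hac), Module.End.mul_apply]
  show b (c (x : V)) = ((resM a b (resM a c x) : Vm a) : V)
  rw [resM_apply a b hab, resM_apply a c hac]

theorem resP_one : resP a 1 = 1 := by
  apply LinearMap.ext
  intro x
  apply Subtype.ext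
  rw [resP_apply a 1 (by rw [mul_one, one_mul])]
  rfl

theorem resM_one : resM a 1 = 1 := by
  apply LinearMap.ext
  intro x
  apply Subtype.ext
  rw [resM_apply a 1 (by rw [mul_one, one_mul])]
  rfl

/-- an endomorphism commuting with `a` is determined by its two restrictions -/
theorem eq_of_res_eq (h2 : (2 : F) ≠ 0) (ha : a * a = 1) (b c : Module.End F V)
    (hab : a * b = b * a) (hac : a * c = c * a) (hP : resP a b = resP a c)
    (hM : resM a b = resM a c) : b = c := by
  apply LinearMap.ext
  intro x
  have hc := (isCompl a h2 ha).sup_eq_top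
  have hx : x ∈ Vp a ⊔ Vm a := by rw [hc]; trivial
  obtain ⟨y, hy, z, hz, rfl⟩ := Submodule.mem_sup.1 hx
  rw [map_add, map_add]
  have e1 : b y = c y := by
    have := congrArg (fun f : Module.End F (Vp a) => ((f ⟨y, hy⟩ : Vp a) : V)) hP
    simp only [resP_apply a b hab, resP_apply a c hac] at this
    exact this
  have e2 : b z = c z := by
    have := congrArg (fun f : Module.End F (Vm a) => ((f ⟨z, hz⟩ : Vm a) : V)) hM
    simp only [resM_apply a b hab, resM_apply a c hac] at this
    exact this
  rw [e1, e2]

variable [FiniteDimensional F V]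

/-- the determinant is the product of the determinants of the restrictions -/
theorem det_eq (h2 : (2 : F) ≠ 0) (ha : a * a = 1) (b : Module.End F V) (hab : a * b = b * a) :
    LinearMap.det b = LinearMap.det (resP a b) * LinearMap.det (resM a b) := by
  set e := Submodule.prodEquivOfIsCompl (Vp a) (Vm a) (isCompl a h2 ha) with he
  have hb : b = (e : (↥(Vp a) × ↥(Vm a)) →ₗ[F] V) ∘ₗ
      (LinearMap.prodMap (resP a b) (resM a b)) ∘ₗ (e.symm : V →ₗ[F] (↥(Vp a) × ↥(Vm a))) := by
    apply LinearMap.ext
    intro x
    obtain ⟨⟨y, z⟩, rfl⟩ := e.surjective x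
    simp only [LinearMap.comp_apply, LinearEquiv.coe_coe, LinearEquiv.symm_apply_apply,
      LinearMap.prodMap_apply]
    rw [he, Submodule.coe_prodEquivOfIsCompl', Submodule.coe_prodEquivOfIsCompl']
    simp only
    rw [map_add, resP_apply a b hab, resM_apply a b hab]
  conv_lhs => rw [hb]
  rw [LinearMap.det_conj, LinearMap.det_prodMap]

end single

section main

open scoped Classical

theorem det_invol {V : Type u} [AddCommGroup V] [Module F V] [FiniteDimensional F V]
    (b : Module.End F V) (hb : b * b = 1) : LinearMap.det b = 1 ∨ LinearMap.det b = -1 := by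
  have := congrArg LinearMap.det hb
  rw [map_mul, map_one] at this
  exact mul_self_eq_one_iff.1 this

/-- pairwise commuting involutions of a given determinant -/
theorem card_filter_le (h2 : (2 : F) ≠ 0) : ∀ (N : ℕ) (V : Type u) [AddCommGroup V] [Module F V]
    [FiniteDimensional F V], finrank F V = N → 1 ≤ N → ∀ S : Finset (Module.End F V),
    (∀ a ∈ S, a * a = 1) → (∀ a ∈ S, ∀ b ∈ S, a * b = b * a) →
    ∀ ε : F, (S.filter (fun b => LinearMap.det b = ε)).card ≤ 2 ^ (N - 1) := by
  intro N
  induction N using Nat.strong_induction_on with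
  | _ N ih =>
  intro V _ _ _ hN hN1 S hinv hcomm ε
  by_cases hsc : ∀ a ∈ S, a = 1 ∨ a = -1
  · -- all elements are scalar
    by_cases hN2 : 2 ≤ N
    · have hsub : S ⊆ ({1, -1} : Finset (Module.End F V)) := by
        intro x hx
        rcases hsc x hx with h | h <;> simp [h]
      calc (S.filter (fun b => LinearMap.det b = ε)).card ≤ S.card := Finset.card_filter_le _ _
        _ ≤ ({1, -1} : Finset (Module.End F V)).card := Finset.card_le_card hsub
        _ ≤ 2 := Finset.card_le_two
        _ = 2 ^ 1 := by norm_num
        _ ≤ 2 ^ (N - 1) := Nat.pow_le_pow_right (by norm_num) (by omega)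
    · have hN' : N = 1 := by omega
      subst hN'
      have hdetneg : LinearMap.det (-1 : Module.End F V) = -1 := by
        have : (-1 : Module.End F V) = (-1 : F) • (1 : Module.End F V) := by simp
        rw [this, LinearMap.det_smul, hN, map_one]
        simp
      rw [Nat.sub_self, pow_zero, Finset.card_le_one]
      intro x hx y hy
      rw [Finset.mem_filter] at hx hy
      rcases hsc x hx.1 with h | h <;> rcases hsc y hy.1 with h' | h'
      · rw [h, h']
      · exfalso
        have e1 := hx.2
        have e2 := hy.2
        rw [h, map_one] at e1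
        rw [h', hdetneg] at e2
        apply h2
        rw [← e1] at e2
        linear_combination -e2
      · exfalso
        have e1 := hx.2
        have e2 := hy.2
        rw [h, hdetneg] at e1
        rw [h', map_one] at e2
        apply h2
        rw [← e2] at e1
        linear_combination -e1
      · rw [h, h']
  · push Not at hsc
    obtain ⟨a, haS, ha1, ham1⟩ := hsc
    have ha := hinv a haS
    have hC := isCompl a h2 ha
    have hVp : Vp a ≠ ⊥ := by
      intro h
      apply ham1
      have htop : Vm a = ⊤ := by
        have := hC.sup_eq_top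
        rw [h, bot_sup_eq] at this
        exact this
      apply LinearMap.ext
      intro x
      have hx : x ∈ Vm a := by rw [htop]; trivial
      rw [mem_Vm] at hx
      rw [hx]; simp
    have hVm : Vm a ≠ ⊥ := by
      intro h
      apply ha1
      have htop : Vp a = ⊤ := by
        have := hC.sup_eq_top
        rw [h, sup_bot_eq] at this
        exact this
      apply LinearMap.ext
      intro x
      have hx : x ∈ Vp a := by rw [htop]; trivial
      rw [mem_Vp] at hx
      rw [hx]; simp
    have hNp : 1 ≤ finrank F (Vp a) := Submodule.one_le_finrank_iff.2 hVp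
    have hNm : 1 ≤ finrank F (Vm a) := Submodule.one_le_finrank_iff.2 hVm
    have hsum := Submodule.finrank_add_eq_of_isCompl hC
    rw [hN] at hsum
    have hcomm_a : ∀ b ∈ S, a * b = b * a := fun b hb => hcomm a haS b hb
    -- the restricted families
    have hinvP : ∀ x ∈ S.image (resP a), x * x = 1 := by
      intro x hx
      obtain ⟨b, hb, rfl⟩ := Finset.mem_image.1 hx
      rw [← resP_mul a b b (hcomm_a b hb) (hcomm_a b hb), hinv b hb, resP_one]
    have hinvM : ∀ x ∈ S.image (resM a), x * x = 1 := by
      intro x hx
      obtain ⟨b, hb, rfl⟩ := Finset.mem_image.1 hx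
      rw [← resM_mul a b b (hcomm_a b hb) (hcomm_a b hb), hinv b hb, resM_one]
    have hcommP : ∀ x ∈ S.image (resP a), ∀ y ∈ S.image (resP a), x * y = y * x := by
      intro x hx y hy
      obtain ⟨b, hb, rfl⟩ := Finset.mem_image.1 hx
      obtain ⟨c, hc, rfl⟩ := Finset.mem_image.1 hy
      rw [← resP_mul a b c (hcomm_a b hb) (hcomm_a c hc),
        ← resP_mul a c b (hcomm_a c hc) (hcomm_a b hb), hcomm b hb c hc]
    have hcommM : ∀ x ∈ S.image (resM a), ∀ y ∈ S.image (resM a), x * y = y * x := by
      intro x hx y hy
      obtain ⟨b, hb, rfl⟩ := Finset.mem_image.1 hx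
      obtain ⟨c, hc, rfl⟩ := Finset.mem_image.1 hy
      rw [← resM_mul a b c (hcomm_a b hb) (hcomm_a c hc),
        ← resM_mul a c b (hcomm_a c hc) (hcomm_a b hb), hcomm b hb c hc]
    have ihP := fun δ => ih (finrank F (Vp a)) (by omega) (Vp a) rfl hNp (S.image (resP a)) hinvP hcommP δ
    have ihM := fun δ => ih (finrank F (Vm a)) (by omega) (Vm a) rfl hNm (S.image (resM a)) hinvM hcommM δ
    -- the injection
    set φ : Module.End F V → Module.End F (Vp a) × Module.End F (Vm a) :=
      fun b => (resP a b, resM a b) with hφ
    have hinj : Set.InjOn φ (S.filter (fun b => LinearMap.det b = ε) : Finset (Module.End F V)) := by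
      intro b hb c hc hbc
      rw [Finset.mem_coe, Finset.mem_filter] at hb hc
      have h1 : resP a b = resP a c := congrArg Prod.fst hbc
      have h3 : resM a b = resM a c := congrArg Prod.snd hbc
      exact eq_of_res_eq a h2 ha b c (hcomm_a b hb.1) (hcomm_a c hc.1) h1 h3
    have hsub : (S.filter (fun b => LinearMap.det b = ε)).image φ ⊆
        (((S.image (resP a)).filter (fun x => LinearMap.det x = 1)) ×ˢ
          ((S.image (resM a)).filter (fun x => LinearMap.det x = ε))) ∪
        (((S.image (resP a)).filter (fun x => LinearMap.det x = -1)) ×ˢ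
          ((S.image (resM a)).filter (fun x => LinearMap.det x = -ε))) := by
      intro p hp
      obtain ⟨b, hb, rfl⟩ := Finset.mem_image.1 hp
      rw [Finset.mem_filter] at hb
      have hdet := det_eq a h2 ha b (hcomm_a b hb.1)
      rw [hb.2] at hdet
      have hPinv : resP a b * resP a b = 1 := hinvP _ (Finset.mem_image_of_mem _ hb.1)
      rw [Finset.mem_union]
      rcases det_invol (resP a b) hPinv with h | h
      · left
        rw [Finset.mem_product]
        refine ⟨Finset.mem_filter.2 ⟨Finset.mem_image_of_mem _ hb.1, h⟩,
          Finset.mem_filter.2 ⟨Finset.mem_image_of_mem _ hb.1, ?_⟩⟩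
        rw [h, one_mul] at hdet
        exact hdet.symm
      · right
        rw [Finset.mem_product]
        refine ⟨Finset.mem_filter.2 ⟨Finset.mem_image_of_mem _ hb.1, h⟩,
          Finset.mem_filter.2 ⟨Finset.mem_image_of_mem _ hb.1, ?_⟩⟩
        rw [h] at hdet
        show LinearMap.det (resM a b) = -ε
        rw [hdet]; ring
    calc (S.filter (fun b => LinearMap.det b = ε)).card
        = ((S.filter (fun b => LinearMap.det b = ε)).image φ).card :=
          (Finset.card_image_of_injOn hinj).symm
      _ ≤ _ := Finset.card_le_card hsub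
      _ ≤ _ := Finset.card_union_le _ _
      _ ≤ 2 ^ (finrank F (Vp a) - 1) * 2 ^ (finrank F (Vm a) - 1) +
          2 ^ (finrank F (Vp a) - 1) * 2 ^ (finrank F (Vm a) - 1) := by
          rw [Finset.card_product, Finset.card_product]
          exact Nat.add_le_add (Nat.mul_le_mul (ihP 1) (ihM ε)) (Nat.mul_le_mul (ihP (-1)) (ihM (-ε)))
      _ = 2 ^ (N - 1) := by
          rw [← pow_add, ← two_mul, ← pow_succ']
          congr 1
          omega

end main

end Cfsg.Agent.Helper28.CI
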