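import Mathlib
import Cfsg.Prelude.Def_Classical

set_option autoImplicit false

namespace Cfsg.Agent.Helper28.QPlus

open Module Submodule

variable {F : Type*} [Field F] {m : ℕ}

abbrev Vm (m : ℕ) (F : Type*) := Fin m ⊕ Fin m → F

/-- the polar form of `quadFormPlus` -/
def pB (m : ℕ) (F : Type*) [Field F] : LinearMap.BilinForm F (Vm m F) :=
  LinearMap.mk₂ F (fun u v => ∑ i, (u (Sum.inl i) * v (Sum.inr i) + u (Sum.inr i) * v (Sum.inl i)))
    (by intro u u' v; simp only [Pi.add_apply, ← Finset.sum_add_distrib]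
        apply Finset.sum_congr rfl; intro i _; ring)
    (by intro c u v; simp only [Pi.smul_apply, smul_eq_mul, Finset.mul_sum]
        apply Finset.sum_congr rfl; intro i _; ring)
    (by intro u v v'; simp only [Pi.add_apply, ← Finset.sum_add_distrib]
        apply Finset.sum_congr rfl; intro i _; ring)
    (by intro c u v; simp only [Pi.smul_apply, smul_eq_mul, Finset.mul_sum]
        apply Finset.sum_congr rfl; intro i _; ring)

theorem pB_apply (u v : Vm m F) :
    pB m F u v = ∑ i, (u (Sum.inl i) * v (Sum.inr i) + u (Sum.inr i) * v (Sum.inl i)) := rfl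

theorem Q_add (u v : Vm m F) : Cfsg.quadFormPlus m F (u + v) =
    Cfsg.quadFormPlus m F u + Cfsg.quadFormPlus m F v + pB m F u v := by
  simp only [Cfsg.quadFormPlus, pB_apply, Pi.add_apply, ← Finset.sum_add_distrib]
  apply Finset.sum_congr rfl; intro i _; ring

theorem Q_smul (c : F) (v : Vm m F) :
    Cfsg.quadFormPlus m F (c • v) = c ^ 2 * Cfsg.quadFormPlus m F v := by
  simp only [Cfsg.quadFormPlus, Pi.smul_apply, smul_eq_mul, Finset.mul_sum]
  apply Finset.sum_congr rfl; intro i _; ring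

theorem Q_zero : Cfsg.quadFormPlus m F (0 : Vm m F) = 0 := by
  simp [Cfsg.quadFormPlus]

theorem pB_comm (u v : Vm m F) : pB m F u v = pB m F v u := by
  simp only [pB_apply]
  apply Finset.sum_congr rfl; intro i _; ring

theorem pB_isSymm : (pB m F).IsSymm := ⟨fun u v => pB_comm u v⟩

theorem pB_isRefl : (pB m F).IsRefl := pB_isSymm.isRefl

theorem pB_self (v : Vm m F) : pB m F v v = 2 * Cfsg.quadFormPlus m F v := by
  simp only [pB_apply, Cfsg.quadFormPlus, Finset.mul_sum]
  apply Finset.sum_congr rfl; intro i _; ring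

theorem pB_single_inr (u : Vm m F) (i : Fin m) :
    pB m F u (Pi.single (Sum.inr i) 1) = u (Sum.inl i) := by
  classical
  simp [pB_apply, Pi.single_apply]

theorem pB_single_inl (u : Vm m F) (i : Fin m) :
    pB m F u (Pi.single (Sum.inl i) 1) = u (Sum.inr i) := by
  classical
  simp [pB_apply, Pi.single_apply]

theorem pB_nondeg : (pB m F).Nondegenerate := by
  have h : ∀ u : Vm m F, (∀ v, pB m F u v = 0) → u = 0 := by
    intro u hu
    funext s
    rcases s with i | i
    · rw [← pB_single_inr u i, hu]; rfl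
    · rw [← pB_single_inl u i, hu]; rfl
  constructor
  · intro u hu
    exact h u hu
  · intro v hv
    exact h v (fun u => by rw [pB_comm]; exact hv u)

/-- embedding of the first `m` coordinates -/
def iotaE (m : ℕ) (F : Type*) [Field F] : (Fin m → F) →ₗ[F] Vm m F where
  toFun x := Sum.elim x 0
  map_add' x y := by funext s; rcases s with i | i <;> simp
  map_smul' c x := by funext s; rcases s with i | i <;> simp

/-- the standard maximal totally singular subspace -/
def E (m : ℕ) (F : Type*) [Field F] : Submodule F (Vm m F) := LinearMap.range (iotaE m F)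

theorem finrank_E : finrank F (E m F) = m := by
  rw [E, LinearMap.finrank_range_of_inj, Module.finrank_fin_fun]
  intro x y h
  funext i
  exact congrFun h (Sum.inl i)

theorem Q_E (v : Vm m F) (hv : v ∈ E m F) : Cfsg.quadFormPlus m F v = 0 := by
  obtain ⟨x, rfl⟩ := hv
  simp [Cfsg.quadFormPlus, iotaE]

theorem orth_E_le : (pB m F).orthogonal (E m F) ≤ E m F := by
  classical
  intro v hv
  rw [LinearMap.BilinForm.mem_orthogonal_iff] at hv
  refine ⟨fun i => v (Sum.inl i), ?_⟩
  funext s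
  rcases s with i | i
  · rfl
  · have := hv (Pi.single (Sum.inl i) 1) ⟨Pi.single i 1, by
      funext s
      rcases s with j | j
      · simp [iotaE, Pi.single_apply]
      · simp [iotaE]⟩
    have h2 : pB m F (Pi.single (Sum.inl i) 1) v = v (Sum.inr i) := by
      rw [pB_comm, pB_single_inl]
    rw [h2] at this
    simp [iotaE, this]

theorem finrank_sup_span_singleton (U : Submodule F (Vm m F)) (w : Vm m F) (hw : w ∉ U) :
    finrank F ↥(U ⊔ span F {w}) = finrank F U + 1 := by
  have hinf : U ⊓ span F {w} = ⊥ := by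
    rw [eq_bot_iff]
    rintro x ⟨hxU, hxw⟩
    obtain ⟨c, rfl⟩ := Submodule.mem_span_singleton.mp hxw
    by_cases hc : c = 0
    · simp [hc]
    · exfalso
      apply hw
      have := U.smul_mem c⁻¹ hxU
      rwa [smul_smul, inv_mul_cancel₀ hc, one_smul] at this
  have hw0 : w ≠ 0 := by
    rintro rfl
    exact hw U.zero_mem
  have := Submodule.finrank_sup_add_finrank_inf_eq U (span F {w})
  rw [hinf, finrank_bot, add_zero, finrank_span_singleton hw0] at this
  exact this

theorem pB_eq_zero_of_TS (W : Submodule F (Vm m F))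
    (hW : ∀ w ∈ W, Cfsg.quadFormPlus m F w = 0) (u v : Vm m F) (hu : u ∈ W) (hv : v ∈ W) :
    pB m F u v = 0 := by
  have := Q_add u v
  rw [hW _ (W.add_mem hu hv), hW u hu, hW v hv] at this
  simpa using this.symm

/-- `Q` on `u + a w₀ + b w₁` -/
theorem Q_three (u w₀ w₁ : Vm m F) (a b : F) (hu : Cfsg.quadFormPlus m F u = 0)
    (hw₀ : Cfsg.quadFormPlus m F w₀ = 0) (huw₀ : pB m F u w₀ = 0) (huw₁ : pB m F u w₁ = 0) :
    Cfsg.quadFormPlus m F (u + a • w₀ + b • w₁) =
      b * (a * pB m F w₀ w₁ + b * Cfsg.quadFormPlus m F w₁) := by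
  rw [Q_add, Q_add, Q_smul, Q_smul, hu, hw₀]
  simp only [map_add, map_smul, LinearMap.add_apply, LinearMap.smul_apply, smul_eq_mul, huw₀,
    huw₁]
  have := pB_self w₀
  rw [hw₀] at this
  simp only [mul_zero] at this
  ring

theorem two_maximal (U : Submodule F (Vm m F)) (hUk : finrank F U + 1 = m)
    (hU : ∀ u ∈ U, Cfsg.quadFormPlus m F u = 0) :
    ∃ W₁ W₂ : Submodule F (Vm m F), W₁ ≠ W₂ ∧
      (finrank F W₁ = m ∧ (∀ w ∈ W₁, Cfsg.quadFormPlus m F w = 0) ∧ U ≤ W₁) ∧
      (finrank F W₂ = m ∧ (∀ w ∈ W₂, Cfsg.quadFormPlus m F w = 0) ∧ U ≤ W₂) ∧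
      ∀ W : Submodule F (Vm m F), (finrank F W = m ∧ (∀ w ∈ W, Cfsg.quadFormPlus m F w = 0) ∧
        U ≤ W) → W = W₁ ∨ W = W₂ := by
  classical
  set B := pB m F with hB
  set P := B.orthogonal U with hP
  have hV : finrank F (Vm m F) = 2 * m := by
    rw [Module.finrank_fintype_fun_eq_card, Fintype.card_sum, Fintype.card_fin]; ring
  have hPk : finrank F P = m + 1 := by
    rw [hP, LinearMap.BilinForm.finrank_orthogonal pB_nondeg, hV]
    omega
  have hUP : U ≤ P := by
    intro v hv
    rw [hP, LinearMap.BilinForm.mem_orthogonal_iff]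
    intro n hn
    exact pB_eq_zero_of_TS U hU n v hn hv
  have hPmem : ∀ v, v ∈ P ↔ ∀ u ∈ U, B u v = 0 := by
    intro v
    rw [hP, LinearMap.BilinForm.mem_orthogonal_iff]
  -- step 1: a singular vector in P outside U
  obtain ⟨w₀, hw₀P, hw₀E, hw₀U⟩ : ∃ w₀, w₀ ∈ P ∧ w₀ ∈ E m F ∧ w₀ ∉ U := by
    have h1 : B.orthogonal (U ⊔ E m F) ≤ P ⊓ E m F := by
      intro v hv
      rw [LinearMap.BilinForm.mem_orthogonal_iff] at hv
      refine Submodule.mem_inf.mpr ⟨?_, ?_⟩
      · rw [hPmem]
        intro u hu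
        exact hv u (Submodule.mem_sup_left hu)
      · apply orth_E_le
        rw [LinearMap.BilinForm.mem_orthogonal_iff]
        intro e he
        exact hv e (Submodule.mem_sup_right he)
    have h2 : finrank F (B.orthogonal (U ⊔ E m F)) = 2 * m - finrank F ↥(U ⊔ E m F) := by
      rw [LinearMap.BilinForm.finrank_orthogonal pB_nondeg, hV]
    have h3 := Submodule.finrank_sup_add_finrank_inf_eq U (E m F)
    rw [finrank_E] at h3
    have h4 := Submodule.finrank_mono h1
    have h5 : finrank F ↥(U ⊔ E m F) ≤ 2 * m := by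
      rw [← hV]; exact Submodule.finrank_le _
    by_contra hcon
    push Not at hcon
    have h6 : P ⊓ E m F ≤ U ⊓ E m F := by
      rintro v ⟨hvP, hvE⟩
      exact ⟨hcon v hvP hvE, hvE⟩
    have h7 := Submodule.finrank_mono h6
    omega
  have hQw₀ : Cfsg.quadFormPlus m F w₀ = 0 := Q_E w₀ hw₀E
  set W₁ := U ⊔ span F {w₀} with hW₁
  have hW₁k : finrank F W₁ = m := by
    rw [hW₁, finrank_sup_span_singleton U w₀ hw₀U]; exact hUk
  have hW₁P : W₁ ≤ P := by
    rw [hW₁, sup_le_iff, Submodule.span_singleton_le_iff_mem]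
    exact ⟨hUP, hw₀P⟩
  -- step 2: another vector
  obtain ⟨w₁, hw₁P, hw₁W⟩ : ∃ w₁, w₁ ∈ P ∧ w₁ ∉ W₁ := by
    by_contra hcon
    push Not at hcon
    have : P ≤ W₁ := hcon
    have := Submodule.finrank_mono this
    omega
  have hPeq : W₁ ⊔ span F {w₁} = P := by
    apply Submodule.eq_of_le_of_finrank_eq
    · rw [sup_le_iff, Submodule.span_singleton_le_iff_mem]
      exact ⟨hW₁P, hw₁P⟩
    · rw [finrank_sup_span_singleton W₁ w₁ hw₁W, hW₁k, hPk]
  have hdecomp : ∀ v ∈ P, ∃ u ∈ U, ∃ a b : F, v = u + a • w₀ + b • w₁ := by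
    intro v hv
    rw [← hPeq, Submodule.mem_sup] at hv
    obtain ⟨y, hy, z, hz, rfl⟩ := hv
    rw [hW₁, Submodule.mem_sup] at hy
    obtain ⟨u, hu, t, ht, rfl⟩ := hy
    obtain ⟨a, rfl⟩ := Submodule.mem_span_singleton.mp ht
    obtain ⟨b, rfl⟩ := Submodule.mem_span_singleton.mp hz
    exact ⟨u, hu, a, b, rfl⟩
  set β := B w₀ w₁ with hβ
  set γ := Cfsg.quadFormPlus m F w₁ with hγ
  have hβ0 : β ≠ 0 := by
    intro h0
    apply hw₀U
    have : w₀ ∈ B.orthogonal P := by
      rw [LinearMap.BilinForm.mem_orthogonal_iff]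
      intro v hv
      obtain ⟨u, hu, a, b, rfl⟩ := hdecomp v hv
      show B (u + a • w₀ + b • w₁) w₀ = 0
      have e1 : B u w₀ = 0 := (hPmem w₀).mp hw₀P u hu
      have e2 : B w₀ w₀ = 0 := by rw [hB, pB_self, hQw₀, mul_zero]
      have e3 : B w₁ w₀ = 0 := by rw [hB, pB_comm, ← hB, ← hβ, h0]
      simp only [map_add, map_smul, LinearMap.add_apply, LinearMap.smul_apply, e1, e2, e3,
        smul_zero, add_zero]
    rwa [hP, LinearMap.BilinForm.orthogonal_orthogonal pB_nondeg pB_isRefl] at this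
  have hQP : ∀ u ∈ U, ∀ a b : F, Cfsg.quadFormPlus m F (u + a • w₀ + b • w₁) =
      b * (a * β + b * γ) := by
    intro u hu a b
    exact Q_three u w₀ w₁ a b (hU u hu) hQw₀ ((hPmem w₀).mp hw₀P u hu) ((hPmem w₁).mp hw₁P u hu)
  set w₂ := w₁ - (γ / β) • w₀ with hw₂
  have hw₂P : w₂ ∈ P := P.sub_mem hw₁P (P.smul_mem _ hw₀P)
  have hw₂W : w₂ ∉ W₁ := by
    intro h
    apply hw₁W
    have : w₁ = w₂ + (γ / β) • w₀ := by rw [hw₂]; abel
    rw [this]
    exact W₁.add_mem h (W₁.smul_mem _ (Submodule.mem_sup_right (Submodule.mem_span_singleton_self _)))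
  have hQw₂ : Cfsg.quadFormPlus m F w₂ = 0 := by
    have := hQP 0 U.zero_mem (-(γ / β)) 1
    have e : (0 : Vm m F) + (-(γ / β)) • w₀ + (1 : F) • w₁ = w₂ := by
      rw [hw₂, zero_add, one_smul, neg_smul]; abel
    rw [e] at this
    rw [this]
    field_simp
    ring
  have hw₂U : w₂ ∉ U := fun h => hw₂W (Submodule.mem_sup_left h)
  set W₂ := U ⊔ span F {w₂} with hW₂
  have hW₂k : finrank F W₂ = m := by
    rw [hW₂, finrank_sup_span_singleton U w₂ hw₂U]; exact hUk
  -- totally singular
  have hTS : ∀ w : Vm m F, w ∈ P → Cfsg.quadFormPlus m F w = 0 →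
      ∀ v ∈ U ⊔ span F {w}, Cfsg.quadFormPlus m F v = 0 := by
    intro w hwP hQw v hv
    rw [Submodule.mem_sup] at hv
    obtain ⟨u, hu, t, ht, rfl⟩ := hv
    obtain ⟨c, rfl⟩ := Submodule.mem_span_singleton.mp ht
    rw [Q_add, Q_smul, hU u hu, hQw, map_smul, smul_eq_mul, (hPmem w).mp hwP u hu]
    ring
  refine ⟨W₁, W₂, ?_, ⟨hW₁k, hTS w₀ hw₀P hQw₀, le_sup_left⟩, ⟨hW₂k, hTS w₂ hw₂P hQw₂, le_sup_left⟩, ?_⟩
  · intro h
    apply hw₂W
    rw [h]
    exact Submodule.mem_sup_right (Submodule.mem_span_singleton_self _)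
  · rintro W ⟨hWk, hWQ, hUW⟩
    have hWP : W ≤ P := by
      intro w hw
      rw [hPmem]
      intro u hu
      exact pB_eq_zero_of_TS W hWQ u w (hUW hu) hw
    obtain ⟨w, hwW, hwU⟩ : ∃ w, w ∈ W ∧ w ∉ U := by
      by_contra hcon
      push Not at hcon
      have : W ≤ U := hcon
      have := Submodule.finrank_mono this
      omega
    obtain ⟨u, hu, a, b, hwdec⟩ := hdecomp w (hWP hwW)
    have hQw := hWQ w hwW
    rw [hwdec, hQP u hu a b] at hQw
    rcases mul_eq_zero.mp hQw with hb | hab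
    · left
      subst hb
      rw [zero_smul, add_zero] at hwdec
      have ha : a ≠ 0 := by
        rintro rfl
        apply hwU
        rw [hwdec, zero_smul, add_zero]
        exact hu
      have hw₀W : w₀ ∈ W := by
        have : w₀ = a⁻¹ • (w - u) := by
          rw [hwdec, add_sub_cancel_left, smul_smul, inv_mul_cancel₀ ha, one_smul]
        rw [this]
        exact W.smul_mem _ (W.sub_mem hwW (hUW hu))
      symm
      apply Submodule.eq_of_le_of_finrank_eq
      · rw [hW₁, sup_le_iff, Submodule.span_singleton_le_iff_mem]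
        exact ⟨hUW, hw₀W⟩
      · rw [hW₁k, hWk]
    · right
      have hb : b ≠ 0 := by
        rintro rfl
        rw [zero_mul, add_zero] at hab
        rcases mul_eq_zero.mp hab with ha | hβ'
        · apply hwU
          rw [hwdec, ha, zero_smul, zero_smul, add_zero, add_zero]
          exact hu
        · exact hβ0 hβ'
      have ha : a = -(b * (γ / β)) := by
        field_simp
        linear_combination hab
      have hw₂W' : w₂ ∈ W := by
        have h1 : w - u = b • w₂ := by
          rw [hwdec, ha, hw₂]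
          module
        have : w₂ = b⁻¹ • (w - u) := by
          rw [h1, smul_smul, inv_mul_cancel₀ hb, one_smul]
        rw [this]
        exact W.smul_mem _ (W.sub_mem hwW (hUW hu))
      symm
      apply Submodule.eq_of_le_of_finrank_eq
      · rw [hW₂, sup_le_iff, Submodule.span_singleton_le_iff_mem]
        exact ⟨hUW, hw₂W'⟩
      · rw [hW₂k, hWk]

end Cfsg.Agent.Helper28.QPlus
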