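import Mathlib
import Cfsg.Agent.Helper28.QPlus

set_option autoImplicit false

namespace Cfsg.Agent.Helper28.QPlus

open Module Submodule

variable {F : Type*} [Field F] {m : ℕ}

/-- maximal totally singular -/
def IsMax (m : ℕ) (U : Submodule F (Vm m F)) : Prop :=
  finrank F U = m ∧ ∀ w ∈ U, Cfsg.quadFormPlus m F w = 0

theorem finrank_Vm : finrank F (Vm m F) = 2 * m := by
  rw [Module.finrank_fintype_fun_eq_card, Fintype.card_sum, Fintype.card_fin]; ring

theorem orth_sup (A C : Submodule F (Vm m F)) :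
    (pB m F).orthogonal (A ⊔ C) = (pB m F).orthogonal A ⊓ (pB m F).orthogonal C := by
  ext v
  simp only [Submodule.mem_inf, LinearMap.BilinForm.mem_orthogonal_iff]
  constructor
  · intro h
    exact ⟨fun n hn => h n (Submodule.mem_sup_left hn), fun n hn => h n (Submodule.mem_sup_right hn)⟩
  · rintro ⟨h1, h2⟩ n hn
    obtain ⟨a, ha, c, hc, rfl⟩ := Submodule.mem_sup.mp hn
    have e1 := h1 a ha
    have e2 := h2 c hc
    show pB m F (a + c) v = 0
    rw [map_add, LinearMap.add_apply, e1, e2, add_zero]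

theorem TS_le_orth (U : Submodule F (Vm m F)) (hU : ∀ w ∈ U, Cfsg.quadFormPlus m F w = 0) :
    U ≤ (pB m F).orthogonal U := by
  intro v hv
  rw [LinearMap.BilinForm.mem_orthogonal_iff]
  intro n hn
  exact pB_eq_zero_of_TS U hU n v hn hv

theorem IsMax.orth_eq {U : Submodule F (Vm m F)} (hU : IsMax m U) :
    (pB m F).orthogonal U = U := by
  symm
  apply Submodule.eq_of_le_of_finrank_eq (TS_le_orth U hU.2)
  rw [LinearMap.BilinForm.finrank_orthogonal pB_nondeg, finrank_Vm, hU.1]
  omega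

theorem le_orth_of_le {U Y : Submodule F (Vm m F)}
    (hU : ∀ w ∈ U, Cfsg.quadFormPlus m F w = 0) (hYU : Y ≤ U) : U ≤ (pB m F).orthogonal Y := by
  intro v hv
  rw [LinearMap.BilinForm.mem_orthogonal_iff]
  intro n hn
  exact pB_eq_zero_of_TS U hU n v (hYU hn) hv

/-- Lemma B -/
theorem finrank_inf_orth {U Y : Submodule F (Vm m F)} (hU : IsMax m U)
    (hYk : finrank F Y + 1 = m) :
    finrank F ↥(U ⊓ (pB m F).orthogonal Y) = finrank F ↥(U ⊓ Y) + 1 := by
  have h1 : (pB m F).orthogonal (U ⊔ Y) = U ⊓ (pB m F).orthogonal Y := by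
    rw [orth_sup, hU.orth_eq]
  have h2 : finrank F ((pB m F).orthogonal (U ⊔ Y)) = 2 * m - finrank F ↥(U ⊔ Y) := by
    rw [LinearMap.BilinForm.finrank_orthogonal pB_nondeg, finrank_Vm]
  have h3 := Submodule.finrank_sup_add_finrank_inf_eq U Y
  have h4 : finrank F ↥(U ⊓ Y) ≤ finrank F Y := Submodule.finrank_mono inf_le_right
  rw [hU.1] at h3
  rw [← h1, h2]
  omega

/-- Lemma C -/
theorem isMax_T {U Y : Submodule F (Vm m F)} (hU : IsMax m U)
    (hYk : finrank F Y + 1 = m) (hY : ∀ w ∈ Y, Cfsg.quadFormPlus m F w = 0) :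
    IsMax m ((U ⊓ (pB m F).orthogonal Y) ⊔ Y) := by
  set P := (pB m F).orthogonal Y with hP
  have hYP : Y ≤ P := TS_le_orth Y hY
  constructor
  · have h1 := Submodule.finrank_sup_add_finrank_inf_eq (U ⊓ P) Y
    have h2 : (U ⊓ P) ⊓ Y = U ⊓ Y := by
      rw [inf_assoc, inf_eq_right.mpr hYP]
    rw [h2, finrank_inf_orth hU hYk] at h1
    omega
  · intro w hw
    obtain ⟨a, ha, y, hy, rfl⟩ := Submodule.mem_sup.mp hw
    rw [Q_add, hU.2 a ha.1, hY y hy, pB_comm]
    have := (LinearMap.BilinForm.mem_orthogonal_iff.mp ha.2) y hy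
    rw [this]
    ring

/-- Lemma D -/
theorem adjacent_parity {U W X : Submodule F (Vm m F)} (hU : IsMax m U) (hW : IsMax m W)
    (hX : IsMax m X) (hWX : W ≠ X) (hk : finrank F ↥(W ⊓ X) + 1 = m) :
    finrank F ↥(U ⊓ W) = finrank F ↥(U ⊓ X) + 1 ∨ finrank F ↥(U ⊓ X) = finrank F ↥(U ⊓ W) + 1 := by
  set Y := W ⊓ X with hY
  have hYts : ∀ w ∈ Y, Cfsg.quadFormPlus m F w = 0 := fun w hw => hW.2 w hw.1
  set P := (pB m F).orthogonal Y with hP
  have hT := isMax_T hU hk hYts
  set T := (U ⊓ P) ⊔ Y with hTdef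
  obtain ⟨W₁, W₂, _, _, _, hall⟩ := two_maximal Y hk hYts
  have hWP : W ≤ P := le_orth_of_le hW.2 inf_le_left
  have hXP : X ≤ P := le_orth_of_le hX.2 inf_le_right
  have hTW : T = W ∨ T = X := by
    have a1 := hall T ⟨hT.1, hT.2, le_sup_right⟩
    have a2 := hall W ⟨hW.1, hW.2, inf_le_left⟩
    have a3 := hall X ⟨hX.1, hX.2, inf_le_right⟩
    rcases a1 with a1 | a1 <;> rcases a2 with a2 | a2 <;> rcases a3 with a3 | a3
    · exact absurd (a2.trans a3.symm) hWX
    · left; rw [a1, a2]
    · right; rw [a1, a3]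
    · exact absurd (a2.trans a3.symm) hWX
    · exact absurd (a2.trans a3.symm) hWX
    · right; rw [a1, a3]
    · left; rw [a1, a2]
    · exact absurd (a2.trans a3.symm) hWX
  have hfr := finrank_inf_orth hU hk
  -- generic computation
  have key : ∀ W' X' : Submodule F (Vm m F), W' ≤ P → X' ≤ P → W' ⊓ X' = Y → T = W' →
      finrank F ↥(U ⊓ W') = finrank F ↥(U ⊓ X') + 1 := by
    intro W' X' hW'P hX'P hinf hTW'
    have e1 : U ⊓ W' = U ⊓ P := by
      apply le_antisymm
      · exact inf_le_inf_left U hW'P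
      · apply le_inf inf_le_left
        rw [← hTW']
        exact le_sup_left
    have e2 : U ⊓ X' = U ⊓ Y := by
      apply le_antisymm
      · apply le_inf inf_le_left
        rw [← hinf]
        apply le_inf
        · have : U ⊓ X' ≤ U ⊓ P := inf_le_inf_left U hX'P
          rw [← e1] at this
          exact this.trans inf_le_right
        · exact inf_le_right
      · apply inf_le_inf_left U
        rw [← hinf]
        exact inf_le_right
    rw [e1, e2, hfr]
  rcases hTW with h | h
  · left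
    exact key W X hWP hXP rfl h
  · right
    exact key X W hXP hWP (inf_comm X W) h

theorem IsMax.eq_of_le {W X : Submodule F (Vm m F)} (hW : IsMax m W) (hX : IsMax m X)
    (h : W ≤ X) : W = X :=
  Submodule.eq_of_le_of_finrank_eq h (by rw [hW.1, hX.1])

/-- Lemma E -/
theorem exists_adjacent {W X : Submodule F (Vm m F)} (hW : IsMax m W) (hX : IsMax m X)
    (hWX : W ≠ X) :
    ∃ W' : Submodule F (Vm m F), IsMax m W' ∧ W ≠ W' ∧ finrank F ↥(W ⊓ W') + 1 = m ∧
      finrank F ↥(W' ⊓ X) = finrank F ↥(W ⊓ X) + 1 := by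
  obtain ⟨w, hwW, hwX⟩ : ∃ w, w ∈ W ∧ w ∉ X := by
    by_contra hcon
    push Not at hcon
    exact hWX (hW.eq_of_le hX hcon)
  obtain ⟨x, hxX, hxw⟩ : ∃ x, x ∈ X ∧ pB m F x w ≠ 0 := by
    by_contra hcon
    push Not at hcon
    apply hwX
    rw [← hX.orth_eq, LinearMap.BilinForm.mem_orthogonal_iff]
    intro n hn
    exact hcon n hn
  have hxW : x ∉ W := fun h => hxw (pB_eq_zero_of_TS W hW.2 x w h hwW)
  set Y := W ⊓ (pB m F).orthogonal (span F {x}) with hY
  have hYk : finrank F Y + 1 = m := by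
    have h1 : (pB m F).orthogonal (W ⊔ span F {x}) = Y := by
      rw [orth_sup, hW.orth_eq]
    have h2 : finrank F ((pB m F).orthogonal (W ⊔ span F {x})) =
        2 * m - finrank F ↥(W ⊔ span F {x}) := by
      rw [LinearMap.BilinForm.finrank_orthogonal pB_nondeg, finrank_Vm]
    rw [finrank_sup_span_singleton W x hxW, hW.1, h1] at h2
    have : 1 ≤ m := by
      have := hW.1
      have hpos : 0 < finrank F W := by
        rw [Module.finrank_pos_iff_exists_ne_zero]
        refine ⟨⟨w, hwW⟩, ?_⟩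
        intro h0
        apply hwX
        have : w = 0 := congrArg Subtype.val h0
        rw [this]
        exact X.zero_mem
      omega
    omega
  have hYW : Y ≤ W := inf_le_left
  have hYts : ∀ y ∈ Y, Cfsg.quadFormPlus m F y = 0 := fun y hy => hW.2 y (hYW hy)
  have hxY : ∀ y ∈ Y, pB m F y x = 0 := by
    intro y hy
    have := (LinearMap.BilinForm.mem_orthogonal_iff.mp hy.2) x (Submodule.mem_span_singleton_self x)
    rw [pB_comm]
    exact this
  have hxnY : x ∉ Y := fun h => hxW (hYW h)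
  have hQx : Cfsg.quadFormPlus m F x = 0 := hX.2 x hxX
  set W' := Y ⊔ span F {x} with hW'
  have hW'max : IsMax m W' := by
    constructor
    · rw [hW', finrank_sup_span_singleton Y x hxnY]
      exact hYk
    · intro v hv
      obtain ⟨y, hy, t, ht, rfl⟩ := Submodule.mem_sup.mp hv
      obtain ⟨c, rfl⟩ := Submodule.mem_span_singleton.mp ht
      rw [Q_add, Q_smul, hYts y hy, hQx, map_smul, smul_eq_mul, hxY y hy]
      ring
  have hxW' : x ∈ W' := Submodule.mem_sup_right (Submodule.mem_span_singleton_self x)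
  have hne : W ≠ W' := by
    intro h
    apply hxW
    rw [h]
    exact hxW'
  have hk : finrank F ↥(W ⊓ W') + 1 = m := by
    have h1 : Y ≤ W ⊓ W' := le_inf hYW le_sup_left
    have h2 := Submodule.finrank_mono h1
    have h3 : finrank F ↥(W ⊓ W') < m := by
      by_contra hcon
      push Not at hcon
      have h4 : W ⊓ W' = W := by
        apply Submodule.eq_of_le_of_finrank_le inf_le_left
        rw [hW.1]
        exact hcon
      exact hne (hW.eq_of_le hW'max (inf_eq_left.mp h4))
    omega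
  refine ⟨W', hW'max, hne, hk, ?_⟩
  have hle : X ⊓ W ≤ X ⊓ W' := by
    intro v hv
    refine Submodule.mem_inf.mpr ⟨hv.1, ?_⟩
    apply Submodule.mem_sup_left
    refine Submodule.mem_inf.mpr ⟨hv.2, ?_⟩
    rw [LinearMap.BilinForm.mem_orthogonal_iff]
    intro n hn
    obtain ⟨c, rfl⟩ := Submodule.mem_span_singleton.mp hn
    show pB m F (c • x) v = 0
    rw [map_smul, LinearMap.smul_apply, pB_eq_zero_of_TS X hX.2 x v hxX hv.1, smul_zero]
  have hlt : X ⊓ W < X ⊓ W' := by
    apply lt_of_le_of_ne hle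
    intro h
    apply hxW
    have : x ∈ X ⊓ W' := Submodule.mem_inf.mpr ⟨hxX, hxW'⟩
    rw [← h] at this
    exact this.2
  have hfr := Submodule.finrank_lt_finrank_of_lt hlt
  rcases adjacent_parity hX hW hW'max hne hk with h | h
  · omega
  · rw [inf_comm W' X, inf_comm W X]
    exact h

theorem IsMax.inf_left_le {W : Submodule F (Vm m F)} (hW : IsMax m W)
    (X : Submodule F (Vm m F)) : finrank F ↥(W ⊓ X) ≤ m :=
  (Submodule.finrank_mono inf_le_left).trans_eq hW.1

theorem IsMax.inf_right_le {W : Submodule F (Vm m F)} (hW : IsMax m W)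
    (X : Submodule F (Vm m F)) : finrank F ↥(X ⊓ W) ≤ m :=
  (Submodule.finrank_mono inf_le_right).trans_eq hW.1

/-- the parity theorem -/
theorem parity_aux : ∀ (n : ℕ) (W X : Submodule F (Vm m F)), IsMax m W → IsMax m X →
    m - finrank F ↥(W ⊓ X) = n → ∀ U : Submodule F (Vm m F), IsMax m U →
    Even ((m - finrank F ↥(U ⊓ W)) + (m - finrank F ↥(W ⊓ X)) + (m - finrank F ↥(U ⊓ X))) := by
  intro n
  induction n with
  | zero =>
    intro W X hW hX hn U hU
    have h1 : finrank F ↥(W ⊓ X) ≤ m := hW.inf_left_le X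
    have h2 : W ⊓ X = W := by
      apply Submodule.eq_of_le_of_finrank_le inf_le_left
      rw [hW.1]
      omega
    have h3 : W = X := hW.eq_of_le hX (inf_eq_left.mp h2)
    subst h3
    rw [hn, Nat.even_iff]
    omega
  | succ n ih =>
    intro W X hW hX hn U hU
    have hWX : W ≠ X := by
      rintro rfl
      rw [inf_idem, hW.1] at hn
      omega
    obtain ⟨W', hW', hne, hk, hfr⟩ := exists_adjacent hW hX hWX
    have h1 : finrank F ↥(W' ⊓ X) ≤ m := hX.inf_right_le W'
    have ih' := ih W' X hW' hX (by omega) U hU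
    have h2 := adjacent_parity hU hW hW' hne hk
    have h3 : finrank F ↥(U ⊓ W) ≤ m := hW.inf_right_le U
    have h4 : finrank F ↥(U ⊓ W') ≤ m := hW'.inf_right_le U
    have h5 : finrank F ↥(U ⊓ X) ≤ m := hX.inf_right_le U
    rw [Nat.even_iff] at ih' ⊢
    omega

/-- embedding of the last `m` coordinates -/
def iotaE' (m : ℕ) (F : Type*) [Field F] : (Fin m → F) →ₗ[F] Vm m F where
  toFun x := Sum.elim 0 x
  map_add' x y := by funext s; rcases s with i | i <;> simp
  map_smul' c x := by funext s; rcases s with i | i <;> simp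

/-- the opposite standard maximal totally singular subspace -/
def E' (m : ℕ) (F : Type*) [Field F] : Submodule F (Vm m F) := LinearMap.range (iotaE' m F)

theorem isMax_E : IsMax m (E m F) := ⟨finrank_E, Q_E⟩

theorem isMax_E' : IsMax m (E' m F) := by
  constructor
  · rw [E', LinearMap.finrank_range_of_inj, Module.finrank_fin_fun]
    intro x y h
    funext i
    exact congrFun h (Sum.inr i)
  · rintro v ⟨x, rfl⟩
    simp [Cfsg.quadFormPlus, iotaE']

theorem E_ne_E' (hm : 1 ≤ m) : E m F ≠ E' m F := by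
  classical
  intro h
  have h1 : iotaE m F (Pi.single ⟨0, hm⟩ 1) ∈ E m F := ⟨_, rfl⟩
  rw [h] at h1
  obtain ⟨x, hx⟩ := h1
  have := congrFun hx (Sum.inl ⟨0, hm⟩)
  simp [iotaE, iotaE'] at this

theorem exists_codim_one (hm : 1 ≤ m) : ∃ U W : Submodule F (Vm m F), IsMax m U ∧ IsMax m W ∧
    finrank F ↥(U ⊓ W) + 1 = m := by
  obtain ⟨W', hW', _, hk, _⟩ := exists_adjacent (isMax_E (F := F)) isMax_E' (E_ne_E' hm)
  exact ⟨E m F, W', isMax_E, hW', hk⟩

end Cfsg.Agent.Helper28.QPlus
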