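import Mathlib
import Cfsg.Agent.Helper28.QPlus2
import Cfsg.Agent.Helper28.IsoTransport

set_option autoImplicit false

namespace Cfsg.Agent.Helper28.QPlus

open Module Submodule Matrix

variable {F : Type*} [Field F] {m : ℕ}

abbrev OQ (m : ℕ) (F : Type*) [Field F] := Cfsg.isometryGroup F (Cfsg.quadFormPlus m F)

/-- the matrix of an isometry -/
abbrev mat (g : OQ m F) : Matrix (Fin m ⊕ Fin m) (Fin m ⊕ Fin m) F :=
  ((g : GL (Fin m ⊕ Fin m) F) : Matrix (Fin m ⊕ Fin m) (Fin m ⊕ Fin m) F)

theorem mat_mul (g h : OQ m F) : mat (g * h) = mat g * mat h := rfl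

theorem mat_one : mat (1 : OQ m F) = 1 := rfl

theorem mat_inv_mul (g : OQ m F) : mat g⁻¹ * mat g = 1 := by
  rw [← mat_mul, inv_mul_cancel]
  rfl

theorem Q_mat (g : OQ m F) (v : Vm m F) :
    Cfsg.quadFormPlus m F (mat g *ᵥ v) = Cfsg.quadFormPlus m F v :=
  (IsoTransport.mem_isometryGroup_iff _ g.1).mp g.2 v

theorem mat_injective (g : OQ m F) : Function.Injective (Matrix.mulVecLin (mat g)) := by
  intro v w h
  have := congrArg (fun z => mat g⁻¹ *ᵥ z) h
  simpa [Matrix.mulVec_mulVec, mat_inv_mul] using this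

/-- image of a subspace under an isometry -/
def act (g : OQ m F) (U : Submodule F (Vm m F)) : Submodule F (Vm m F) :=
  U.map (Matrix.mulVecLin (mat g))

theorem act_mul (g h : OQ m F) (U : Submodule F (Vm m F)) : act (g * h) U = act g (act h U) := by
  unfold act
  rw [← Submodule.map_comp, mat_mul]
  congr 1
  apply LinearMap.ext
  intro v
  simp [Matrix.mulVec_mulVec]

theorem act_inf (g : OQ m F) (U W : Submodule F (Vm m F)) : act g (U ⊓ W) = act g U ⊓ act g W :=
  Submodule.map_inf _ (mat_injective g)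

theorem finrank_act (g : OQ m F) (U : Submodule F (Vm m F)) :
    finrank F (act g U) = finrank F U :=
  LinearEquiv.finrank_eq (Submodule.equivMapOfInjective _ (mat_injective g) U).symm

theorem isMax_act (g : OQ m F) {U : Submodule F (Vm m F)} (hU : IsMax m U) : IsMax m (act g U) := by
  constructor
  · rw [finrank_act, hU.1]
  · rintro _ ⟨v, hv, rfl⟩
    rw [Matrix.mulVecLin_apply, Q_mat]
    exact hU.2 v hv

/-- parity of the codimension of `E ∩ gE` -/
noncomputable def chi (g : OQ m F) : ZMod 2 := ((m - finrank F ↥(E m F ⊓ act g (E m F)) : ℕ) : ZMod 2)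

theorem zmod2_even (a : ℕ) : ((a : ℕ) : ZMod 2) = 0 ↔ Even a := by
  rw [ZMod.natCast_eq_zero_iff]
  exact even_iff_two_dvd.symm

theorem chi_mul (g h : OQ m F) : chi (g * h) = chi g + chi h := by
  have hE := isMax_E (F := F) (m := m)
  have h1 := parity_aux _ (act g (E m F)) (act (g * h) (E m F)) (isMax_act g hE)
    (isMax_act (g * h) hE) rfl (E m F) hE
  have h2 : finrank F ↥(act g (E m F) ⊓ act (g * h) (E m F)) =
      finrank F ↥(E m F ⊓ act h (E m F)) := by
    rw [act_mul, ← act_inf, finrank_act]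
  rw [h2] at h1
  rw [← zmod2_even] at h1
  unfold chi
  push_cast at h1 ⊢
  have e : ∀ a b c : ZMod 2, a + b + c = 0 → c = a + b := by decide
  exact e _ _ _ h1

/-- the class character as a homomorphism -/
noncomputable def chiHom : OQ m F →* Multiplicative (ZMod 2) where
  toFun g := Multiplicative.ofAdd (chi g)
  map_one' := by
    have : chi (1 : OQ m F) = 0 := by
      have := chi_mul (1 : OQ m F) 1
      rw [mul_one] at this
      have e : ∀ a : ZMod 2, a = a + a → a = 0 := by decide
      exact e _ this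
    rw [this]
    rfl
  map_mul' g h := by
    rw [chi_mul]
    rfl

theorem chi_eq_zero_of_mem_Omega (g : OQ m F) (hg : g ∈ Cfsg.Omega F (Cfsg.quadFormPlus m F)) :
    chi g = 0 := by
  have := Abelianization.commutator_subset_ker (chiHom (F := F) (m := m)) hg
  rw [MonoidHom.mem_ker] at this
  exact this

end Cfsg.Agent.Helper28.QPlus
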