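import Mathlib
import Cfsg.Agent.Helper28.QPlus3
import Cfsg.Agent.Helper28.Quad

set_option autoImplicit false

namespace Cfsg.Agent.Helper28.QPlus

open Module Submodule Matrix

variable {F : Type*} [Field F] {m : ℕ}

/-- the row vector of `pB · a` -/
def polarRow (a : Vm m F) : Fin m ⊕ Fin m → F := fun j => pB m F (Pi.single j 1) a

theorem polarRow_dot (a v : Vm m F) : polarRow a ⬝ᵥ v = pB m F v a := by
  have h1 : ∀ i, polarRow a (Sum.inl i) = a (Sum.inr i) := by
    intro i
    rw [polarRow, pB_comm, pB_single_inl]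
  have h2 : ∀ i, polarRow a (Sum.inr i) = a (Sum.inl i) := by
    intro i
    rw [polarRow, pB_comm, pB_single_inr]
  simp only [dotProduct, Fintype.sum_sum_type, h1, h2, pB_apply, ← Finset.sum_add_distrib]
  apply Finset.sum_congr rfl
  intro i _
  ring

/-- reflection matrix -/
noncomputable def reflM (a : Vm m F) : Matrix (Fin m ⊕ Fin m) (Fin m ⊕ Fin m) F :=
  1 + (-(Cfsg.quadFormPlus m F a)⁻¹) • Matrix.vecMulVec a (polarRow a)

theorem reflM_mulVec (a v : Vm m F) :
    reflM a *ᵥ v = v - ((Cfsg.quadFormPlus m F a)⁻¹ * pB m F v a) • a := by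
  rw [reflM, Matrix.add_mulVec, Matrix.one_mulVec, Matrix.smul_mulVec, Matrix.vecMulVec_mulVec,
    polarRow_dot, sub_eq_add_neg]
  congr 1
  funext i
  simp only [Pi.smul_apply, smul_eq_mul, Pi.neg_apply, MulOpposite.smul_eq_mul_unop,
    MulOpposite.unop_op]
  ring

theorem reflM_Q (a : Vm m F) (ha : Cfsg.quadFormPlus m F a ≠ 0) (v : Vm m F) :
    Cfsg.quadFormPlus m F (reflM a *ᵥ v) = Cfsg.quadFormPlus m F v := by
  rw [reflM_mulVec, sub_eq_add_neg, ← neg_smul, Q_add, Q_smul, map_smul, smul_eq_mul]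
  field_simp
  ring

theorem reflM_sq (a : Vm m F) (ha : Cfsg.quadFormPlus m F a ≠ 0) : reflM a * reflM a = 1 := by
  apply Matrix.toLin'.injective
  apply LinearMap.ext
  intro v
  rw [Matrix.toLin'_mul, LinearMap.comp_apply, Matrix.toLin'_apply, Matrix.toLin'_apply,
    Matrix.toLin'_one, LinearMap.id_apply, reflM_mulVec, reflM_mulVec]
  have h1 : pB m F (v - ((Cfsg.quadFormPlus m F a)⁻¹ * pB m F v a) • a) a = - pB m F v a := by
    rw [map_sub, LinearMap.sub_apply, map_smul, LinearMap.smul_apply, pB_self, smul_eq_mul]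
    field_simp
    ring
  rw [h1]
  module

theorem reflM_det (a : Vm m F) (ha : Cfsg.quadFormPlus m F a ≠ 0) :
    (reflM a).det = -1 := by
  have : reflM a = 1 + Matrix.vecMulVec ((-(Cfsg.quadFormPlus m F a)⁻¹) • a) (polarRow a) := by
    rw [reflM, Matrix.smul_vecMulVec]
  rw [this, det_one_add_vecMulVec, dotProduct_smul, polarRow_dot, pB_self, smul_eq_mul]
  field_simp
  ring

/-- reflection as an isometry -/
noncomputable def refl (a : Vm m F) (ha : Cfsg.quadFormPlus m F a ≠ 0) : OQ m F :=
  ⟨⟨reflM a, reflM a, reflM_sq a ha, reflM_sq a ha⟩,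
    (IsoTransport.mem_isometryGroup_iff _ _).mpr (fun u => reflM_Q a ha u)⟩

theorem mat_refl (a : Vm m F) (ha : Cfsg.quadFormPlus m F a ≠ 0) : mat (refl a ha) = reflM a := rfl

theorem mem_E_iff (v : Vm m F) : v ∈ E m F ↔ ∀ i, v (Sum.inr i) = 0 := by
  constructor
  · rintro ⟨x, rfl⟩ i
    simp [iotaE]
  · intro h
    refine ⟨fun i => v (Sum.inl i), ?_⟩
    funext s
    rcases s with i | i
    · rfl
    · simp [iotaE, h i]

theorem ker_funLeft_eq_E :
    LinearMap.ker (LinearMap.funLeft F F (Sum.inr : Fin m → Fin m ⊕ Fin m)) = E m F := by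
  ext v
  rw [LinearMap.mem_ker, mem_E_iff]
  constructor
  · intro h i
    exact congrFun h i
  · intro h
    funext i
    exact h i

theorem mem_orth_span_singleton (a v : Vm m F) :
    v ∈ (pB m F).orthogonal (span F {a}) ↔ pB m F v a = 0 := by
  rw [LinearMap.BilinForm.mem_orthogonal_iff]
  constructor
  · intro h
    have := h a (Submodule.mem_span_singleton_self a)
    rw [pB_comm]
    exact this
  · intro h n hn
    obtain ⟨c, rfl⟩ := Submodule.mem_span_singleton.mp hn
    show pB m F (c • a) v = 0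
    rw [map_smul, LinearMap.smul_apply, pB_comm, h, smul_zero]

theorem refl_fix (a : Vm m F) (v : Vm m F) (h : pB m F v a = 0) : reflM a *ᵥ v = v := by
  rw [reflM_mulVec, h, mul_zero, zero_smul, sub_zero]

theorem mem_act_iff (g : OQ m F) (U : Submodule F (Vm m F)) (v : Vm m F) :
    v ∈ act g U ↔ ∃ u ∈ U, mat g *ᵥ u = v := by
  unfold act
  rw [Submodule.mem_map]
  rfl

/-- (1) reflections switch the class -/
theorem chi_refl (a : Vm m F) (ha : Cfsg.quadFormPlus m F a ≠ 0) : chi (refl a ha) = 1 := by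
  set r := refl a ha with hr
  have hE := isMax_E (F := F) (m := m)
  have haE : a ∉ E m F := fun h => ha (Q_E a h)
  set H := (pB m F).orthogonal (span F {a}) with hH
  have h1 : E m F ⊓ H ≤ E m F ⊓ act r (E m F) := by
    rintro v ⟨hvE, hvH⟩
    refine Submodule.mem_inf.mpr ⟨hvE, ?_⟩
    rw [mem_act_iff]
    refine ⟨v, hvE, ?_⟩
    rw [hr, mat_refl]
    exact refl_fix a v ((mem_orth_span_singleton a v).mp hvH)
  have h2 : finrank F ↥(E m F ⊓ H) + 1 = m := by
    have e1 : (pB m F).orthogonal (E m F ⊔ span F {a}) = E m F ⊓ H := by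
      rw [orth_sup, hE.orth_eq]
    have e2 : finrank F ((pB m F).orthogonal (E m F ⊔ span F {a})) =
        2 * m - finrank F ↥(E m F ⊔ span F {a}) := by
      rw [LinearMap.BilinForm.finrank_orthogonal pB_nondeg, finrank_Vm]
    rw [finrank_sup_span_singleton _ a haE, hE.1, e1] at e2
    have : 1 ≤ m := by
      by_contra hm0
      have : m = 0 := by omega
      subst this
      apply ha
      simp [Cfsg.quadFormPlus]
    omega
  have h3 : act r (E m F) ≠ E m F := by
    intro heq
    obtain ⟨v, hvE, hva⟩ : ∃ v, v ∈ E m F ∧ pB m F v a ≠ 0 := by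
      by_contra hcon
      push Not at hcon
      apply haE
      rw [← hE.orth_eq, LinearMap.BilinForm.mem_orthogonal_iff]
      intro n hn
      exact hcon n hn
    have h4 : mat r *ᵥ v ∈ E m F := by
      rw [← heq, mem_act_iff]
      exact ⟨v, hvE, rfl⟩
    rw [hr, mat_refl, reflM_mulVec] at h4
    have h5 : ((Cfsg.quadFormPlus m F a)⁻¹ * pB m F v a) • a ∈ E m F := by
      have := (E m F).sub_mem hvE h4
      rwa [sub_sub_cancel] at this
    have h6 : (Cfsg.quadFormPlus m F a)⁻¹ * pB m F v a ≠ 0 := mul_ne_zero (inv_ne_zero ha) hva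
    have := (E m F).smul_mem ((Cfsg.quadFormPlus m F a)⁻¹ * pB m F v a)⁻¹ h5
    rw [smul_smul, inv_mul_cancel₀ h6, one_smul] at this
    exact haE this
  have h4 : finrank F ↥(E m F ⊓ act r (E m F)) < m := by
    by_contra hcon
    push Not at hcon
    have h5 : E m F ⊓ act r (E m F) = E m F := by
      apply Submodule.eq_of_le_of_finrank_le inf_le_left
      rw [hE.1]
      exact hcon
    exact h3 (hE.eq_of_le (isMax_act r hE) (inf_eq_left.mp h5)).symm
  have h5 := Submodule.finrank_mono h1
  unfold chi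
  have : m - finrank F ↥(E m F ⊓ act r (E m F)) = 1 := by omega
  rw [this]
  rfl

/-- (2) a reflection improving the intersection with `E` -/
theorem exists_refl_improve (g : OQ m F) (hne : act g (E m F) ≠ E m F) :
    ∃ (a : Vm m F) (ha : Cfsg.quadFormPlus m F a ≠ 0),
      finrank F ↥(E m F ⊓ act g (E m F)) < finrank F ↥(E m F ⊓ act (refl a ha * g) (E m F)) := by
  have hE := isMax_E (F := F) (m := m)
  set W := act g (E m F) with hW
  have hWmax : IsMax m W := isMax_act g hE
  obtain ⟨w, hwW, hwE⟩ : ∃ w, w ∈ W ∧ w ∉ E m F := by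
    by_contra hcon
    push Not at hcon
    exact hne (hWmax.eq_of_le hE hcon)
  obtain ⟨x, hxE, hxw⟩ : ∃ x, x ∈ E m F ∧ pB m F x w ≠ 0 := by
    by_contra hcon
    push Not at hcon
    apply hwE
    rw [← hE.orth_eq, LinearMap.BilinForm.mem_orthogonal_iff]
    intro n hn
    exact hcon n hn
  have hxW : x ∉ W := fun h => hxw (pB_eq_zero_of_TS W hWmax.2 x w h hwW)
  set a := w - x with ha_def
  have hQw : Cfsg.quadFormPlus m F w = 0 := hWmax.2 w hwW
  have hQx : Cfsg.quadFormPlus m F x = 0 := hE.2 x hxE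
  have hQa : Cfsg.quadFormPlus m F a = - pB m F x w := by
    have : a = w + (-1 : F) • x := by rw [ha_def]; module
    rw [this, Q_add, Q_smul, hQw, hQx, map_smul, smul_eq_mul, pB_comm w x]
    ring
  have ha : Cfsg.quadFormPlus m F a ≠ 0 := by
    rw [hQa]
    exact neg_ne_zero.mpr hxw
  have hBwa : pB m F w a = - pB m F x w := by
    rw [ha_def, map_sub, pB_self, hQw, pB_comm w x]
    ring
  refine ⟨a, ha, ?_⟩
  have hrw : reflM a *ᵥ w = x := by
    rw [reflM_mulVec, hBwa, hQa, inv_mul_cancel₀ (neg_ne_zero.mpr hxw), one_smul, ha_def]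
    abel
  have hfix : ∀ v ∈ E m F ⊓ W, reflM a *ᵥ v = v := by
    rintro v ⟨hvE, hvW⟩
    apply refl_fix
    rw [ha_def, map_sub, pB_eq_zero_of_TS W hWmax.2 v w hvW hwW,
      pB_eq_zero_of_TS (E m F) hE.2 v x hvE hxE, sub_zero]
  have hle : (E m F ⊓ W) ⊔ span F {x} ≤ E m F ⊓ act (refl a ha * g) (E m F) := by
    rw [act_mul, ← hW, sup_le_iff, Submodule.span_singleton_le_iff_mem]
    constructor
    · intro v hv
      refine Submodule.mem_inf.mpr ⟨hv.1, ?_⟩
      rw [mem_act_iff]
      exact ⟨v, hv.2, by rw [mat_refl]; exact hfix v hv⟩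
    · refine Submodule.mem_inf.mpr ⟨hxE, ?_⟩
      rw [mem_act_iff]
      exact ⟨w, hwW, by rw [mat_refl]; exact hrw⟩
  have h1 := Submodule.finrank_mono hle
  rw [finrank_sup_span_singleton _ x (fun h => hxW (Submodule.mem_inf.mp h).2)] at h1
  omega

theorem pB_mat (g : OQ m F) (u v : Vm m F) : pB m F (mat g *ᵥ u) (mat g *ᵥ v) = pB m F u v := by
  have h1 := Q_add (mat g *ᵥ u) (mat g *ᵥ v)
  rw [← Matrix.mulVec_add, Q_mat, Q_mat, Q_mat, Q_add] at h1
  linear_combination -h1

/-- (3) the stabiliser of `E` has determinant one -/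
theorem det_eq_one_of_act (g : OQ m F) (h : act g (E m F) = E m F) : (mat g).det = 1 := by
  classical
  set M := mat g with hM
  set A := M.toBlocks₁₁ with hA
  set B := M.toBlocks₁₂ with hB
  set D := M.toBlocks₂₂ with hD
  have h21 : M.toBlocks₂₁ = 0 := by
    ext i j
    have h1 : M *ᵥ (Pi.single (Sum.inl j) 1) ∈ E m F := by
      rw [← h, mem_act_iff]
      refine ⟨Pi.single (Sum.inl j) 1, ?_, rfl⟩
      rw [mem_E_iff]
      intro i
      simp
    rw [mem_E_iff] at h1
    have := h1 i
    rw [Matrix.mulVec_single_one] at this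
    exact this
  have hMb : M = Matrix.fromBlocks A B 0 D := by
    rw [← h21]
    exact (Matrix.fromBlocks_toBlocks M).symm
  have hAD : Aᵀ * D = 1 := by
    ext j k
    have h1 := pB_mat g (Pi.single (Sum.inl j) 1) (Pi.single (Sum.inr k) 1)
    rw [pB_single_inr] at h1
    rw [pB_apply] at h1
    simp only [Matrix.mulVec_single_one] at h1
    have h2 : ∀ i, (mat g).col (Sum.inl j) (Sum.inr i) = 0 := by
      intro i
      have := congrFun (congrFun h21 i) j
      exact this
    simp only [h2, zero_mul, add_zero] at h1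
    rw [Matrix.mul_apply, Matrix.one_apply]
    simp only [Matrix.transpose_apply]
    have e1 : (Pi.single (Sum.inl j) (1 : F) : Vm m F) (Sum.inl k) = if j = k then 1 else 0 := by
      simp [Pi.single_apply, eq_comm]
    rw [e1] at h1
    exact h1
  rw [hMb, Matrix.det_fromBlocks_zero₂₁, ← Matrix.det_transpose A, ← Matrix.det_mul, hAD,
    Matrix.det_one]

/-- (4) determinant and class character agree -/
theorem det_chi : ∀ (k : ℕ) (g : OQ m F), m - finrank F ↥(E m F ⊓ act g (E m F)) = k →
    (chi g = 0 ∧ (mat g).det = 1) ∨ (chi g = 1 ∧ (mat g).det = -1) := by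
  intro k
  induction k using Nat.strong_induction_on with
  | _ k ih =>
    intro g hk
    have hE := isMax_E (F := F) (m := m)
    by_cases hgE : act g (E m F) = E m F
    · left
      refine ⟨?_, det_eq_one_of_act g hgE⟩
      unfold chi
      rw [hgE, inf_idem, hE.1, Nat.sub_self]
      rfl
    · obtain ⟨a, ha, hlt⟩ := exists_refl_improve g hgE
      have hle : finrank F ↥(E m F ⊓ act (refl a ha * g) (E m F)) ≤ m := hE.inf_left_le _
      have ih' := ih (m - finrank F ↥(E m F ⊓ act (refl a ha * g) (E m F))) (by omega)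
        (refl a ha * g) rfl
      have hchi : chi (refl a ha * g) = 1 + chi g := by rw [chi_mul, chi_refl]
      have hdet : (mat (refl a ha * g)).det = - (mat g).det := by
        rw [mat_mul, Matrix.det_mul, mat_refl, reflM_det a ha]
        ring
      rw [hchi, hdet] at ih'
      rcases ih' with ⟨h1, h2⟩ | ⟨h1, h2⟩
      · right
        refine ⟨?_, by linear_combination -h2⟩
        have e : ∀ c : ZMod 2, 1 + c = 0 → c = 1 := by decide
        exact e _ h1
      · left
        refine ⟨?_, by linear_combination -h2⟩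
        have e : ∀ c : ZMod 2, 1 + c = 1 → c = 0 := by decide
        exact e _ h1

end Cfsg.Agent.Helper28.QPlus
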