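import Mathlib
import Cfsg.Prelude.Def_ClassicalGeometry
import Cfsg.Agent.Helper28.Spin1

set_option autoImplicit false
set_option linter.unusedSectionVars false

/-! A "spinor norm" for finite fields of odd order, as a permutation sign. -/

namespace Cfsg.Agent.Helper28.Spin

open Matrix Cfsg.Agent.Helper28.IsoTransport

variable {F : Type*} [Field F] {ι : Type} [Fintype ι] [DecidableEq ι]

section action

variable {κ : Type} [Fintype κ] [DecidableEq κ] (P : (κ → F) → F)

/-- vectors of norm one -/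
def N1 : Type _ := {x : κ → F // P x = 1}

noncomputable instance [Fintype F] : Fintype (N1 P) := by
  unfold N1; exact Fintype.ofFinite _
noncomputable instance : DecidableEq (N1 P) := Classical.decEq _

instance actN1 : MulAction ↥(Cfsg.isometryGroup F P) (N1 P) where
  smul g x := ⟨((g : GL κ F) : Matrix κ κ F) *ᵥ x.1, by
    rw [(mem_isometryGroup_iff _ _).1 g.2]; exact x.2⟩
  one_smul x := by
    apply Subtype.ext
    change ((1 : GL κ F) : Matrix κ κ F) *ᵥ x.1 = x.1
    simp
  mul_smul g h x := by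
    apply Subtype.ext
    change (((g : GL κ F) * (h : GL κ F) : GL κ F) : Matrix κ κ F) *ᵥ x.1 =
      ((g : GL κ F) : Matrix κ κ F) *ᵥ (((h : GL κ F) : Matrix κ κ F) *ᵥ x.1)
    simp [Matrix.mulVec_mulVec]

theorem smul_val (g : ↥(Cfsg.isometryGroup F P)) (x : N1 P) :
    (g • x).1 = ((g : GL κ F) : Matrix κ κ F) *ᵥ x.1 := rfl

/-- the sign of the permutation induced on the vectors of norm one -/
noncomputable def sgn [Fintype F] : ↥(Cfsg.isometryGroup F P) →* ℤˣ :=
  Equiv.Perm.sign.comp (MulAction.toPermHom ↥(Cfsg.isometryGroup F P) (N1 P))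

theorem sgn_apply [Fintype F] (g : ↥(Cfsg.isometryGroup F P)) :
    sgn P g = Equiv.Perm.sign (MulAction.toPerm g : Equiv.Perm (N1 P)) := rfl

end action

variable (Q : QuadraticForm F (ι → F))

/-- the orthogonal sum of a hyperbolic plane and `Q` -/
def extQ : QuadraticForm F (Fin 2 ⊕ ι → F) :=
  QuadraticMap.linMulLin (LinearMap.proj (Sum.inl 0)) (LinearMap.proj (Sum.inl 1))
    + Q.comp (LinearMap.funLeft F F Sum.inr)

theorem extQ_apply (x : Fin 2 ⊕ ι → F) :
    extQ Q x = x (Sum.inl 0) * x (Sum.inl 1) + Q (x ∘ Sum.inr) := by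
  simp [extQ, LinearMap.funLeft]

theorem extQ_elim (p : Fin 2 → F) (w : ι → F) :
    extQ Q (Sum.elim p w) = p 0 * p 1 + Q w := by
  rw [extQ_apply]
  rfl

theorem elim_eta (x : Fin 2 ⊕ ι → F) :
    Sum.elim ![x (Sum.inl 0), x (Sum.inl 1)] (x ∘ Sum.inr) = x := by
  funext i
  rcases i with i | i
  · fin_cases i <;> rfl
  · rfl

theorem polar_extQ (p p' : Fin 2 → F) (w w' : ι → F) :
    QuadraticMap.polar ⇑(extQ Q) (Sum.elim p w) (Sum.elim p' w') =
      p 0 * p' 1 + p' 0 * p 1 + QuadraticMap.polar ⇑Q w w' := by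
  have h : (Sum.elim p w + Sum.elim p' w' : Fin 2 ⊕ ι → F) = Sum.elim (p + p') (w + w') := by
    funext i
    rcases i with i | i <;> rfl
  simp only [QuadraticMap.polar, h, extQ_elim, Pi.add_apply]
  ring


/-- the vector `e - μ f` of the hyperbolic plane -/
def hv (μ : F) : Fin 2 ⊕ ι → F := Sum.elim ![1, -μ] 0

theorem extQ_hv (μ : F) : extQ Q (hv μ) = -μ := by
  rw [hv, extQ_elim]
  simp

theorem refl_hv (μ : F) (hμ : μ ≠ 0) (x : Fin 2 ⊕ ι → F) :
    Cfsg.reflectionMatrix ⇑(extQ Q) (hv μ) *ᵥ x =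
      Sum.elim ![μ⁻¹ * x (Sum.inl 1), μ * x (Sum.inl 0)] (x ∘ Sum.inr) := by
  rw [refl_mulVec, extQ_hv]
  conv_lhs => rw [← elim_eta x]
  rw [hv, polar_extQ]
  funext i
  rcases i with i | i
  · fin_cases i
    · simp
      field_simp
      ring
    · simp
      field_simp
      ring
  · simp

section key

variable [Fintype F]

open scoped Classical in
/-- decomposition of the norm-one vectors of the extended form -/
noncomputable def decomp :
    N1 ⇑(extQ Q) ≃ (Fˣ × (ι → F)) ⊕ (F × N1 ⇑Q) where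
  toFun x :=
    if h : x.1 (Sum.inl 0) = 0 then
      Sum.inr (x.1 (Sum.inl 1), ⟨x.1 ∘ Sum.inr, by
        have := x.2
        rw [extQ_apply, h, zero_mul, zero_add] at this
        exact this⟩)
    else Sum.inl (Units.mk0 _ h, x.1 ∘ Sum.inr)
  invFun y :=
    match y with
    | Sum.inl (s, w) => ⟨Sum.elim ![(s : F), (s : F)⁻¹ * (1 - Q w)] w, by
        rw [extQ_elim]
        simp⟩
    | Sum.inr (t, w) => ⟨Sum.elim ![0, t] w.1, by
        rw [extQ_elim]
        simpa using w.2⟩
  left_inv x := by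
    by_cases h : x.1 (Sum.inl 0) = 0
    · simp only [h, dite_true]
      apply Subtype.ext
      simp only
      conv_rhs => rw [← elim_eta x.1, h]
    · simp only [h, dite_false]
      apply Subtype.ext
      simp only [Units.val_mk0]
      conv_rhs => rw [← elim_eta x.1]
      have := x.2
      rw [extQ_apply] at this
      congr 2
      have h1 : (1 : F) - Q (x.1 ∘ Sum.inr) = x.1 (Sum.inl 0) * x.1 (Sum.inl 1) := by
        linear_combination -this
      rw [h1]
      field_simp
  right_inv y := by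
    rcases y with ⟨s, w⟩ | ⟨t, w⟩
    · simp
    · simp
      rfl


theorem hv_ne (μ : F) (hμ : μ ≠ 0) : extQ Q (hv μ) ≠ 0 := by
  rw [extQ_hv]; exact neg_ne_zero.2 hμ

/-- torus element as a product of two reflections -/
noncomputable def torO (μ : F) (hμ : μ ≠ 0) : ↥(Cfsg.isometryGroup F ⇑(extQ Q)) :=
  reflO (extQ Q) (hv 1) (hv_ne Q 1 one_ne_zero) * reflO (extQ Q) (hv μ) (hv_ne Q μ hμ)

theorem torO_smul (μ : F) (hμ : μ ≠ 0) (x : N1 ⇑(extQ Q)) :
    (torO Q μ hμ • x).1 =
      Sum.elim ![μ * x.1 (Sum.inl 0), μ⁻¹ * x.1 (Sum.inl 1)] (x.1 ∘ Sum.inr) := by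
  rw [smul_val, torO]
  simp only [Subgroup.coe_mul, Units.val_mul, reflO_val]
  rw [← Matrix.mulVec_mulVec, refl_hv Q μ hμ, refl_hv Q 1 one_ne_zero]
  funext i
  rcases i with i | i
  · fin_cases i <;> simp
  · simp

open scoped Classical in
theorem decomp_tor (μ : Fˣ) (x : N1 ⇑(extQ Q)) :
    decomp Q (torO Q μ μ.ne_zero • x) =
      (Equiv.sumCongr (Equiv.prodCongrLeft fun _ : ι → F => Equiv.mulLeft μ)
        (Equiv.prodCongrLeft fun _ : N1 ⇑Q =>
          Equiv.mulLeft₀ ((μ : F)⁻¹) (inv_ne_zero μ.ne_zero))) (decomp Q x) := by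
  have hT := torO_smul Q μ μ.ne_zero x
  by_cases h : x.1 (Sum.inl 0) = 0
  · have h' : (torO Q μ μ.ne_zero • x).1 (Sum.inl 0) = 0 := by
      rw [hT]; simp [h]
    simp only [decomp, Equiv.coe_fn_mk, dif_pos h, dif_pos h', Equiv.sumCongr_apply, Sum.map_inr,
      Equiv.prodCongrLeft_apply, Equiv.mulLeft₀_apply]
    congr 2
    · rw [hT]; simp
    · apply Subtype.ext
      simp only
      rw [hT]
      rfl
  · have h' : ¬ (torO Q μ μ.ne_zero • x).1 (Sum.inl 0) = 0 := by
      rw [hT]; simp [h]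
    simp only [decomp, Equiv.coe_fn_mk, dif_neg h, dif_neg h', Equiv.sumCongr_apply, Sum.map_inl,
      Equiv.prodCongrLeft_apply, Equiv.coe_mulLeft]
    congr 2
    · apply Units.ext
      simp only [Units.val_mk0, Units.val_mul]
      rw [hT]; simp
    · rw [hT]
      rfl


open scoped Classical in
theorem sgn_torO (μ : Fˣ) :
    sgn ⇑(extQ Q) (torO Q μ μ.ne_zero) =
      Equiv.Perm.sign (Equiv.mulLeft μ) ^ Fintype.card (ι → F) *
        Equiv.Perm.sign (Equiv.mulLeft₀ ((μ : F)⁻¹) (inv_ne_zero μ.ne_zero)) ^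
          Fintype.card (N1 ⇑Q) := by
  rw [sgn_apply]
  have h : (decomp Q).permCongr (MulAction.toPerm (torO Q μ μ.ne_zero)) =
      Equiv.sumCongr (Equiv.prodCongrLeft fun _ : ι → F => Equiv.mulLeft μ)
        (Equiv.prodCongrLeft fun _ : N1 ⇑Q =>
          Equiv.mulLeft₀ ((μ : F)⁻¹) (inv_ne_zero μ.ne_zero)) := by
    apply Equiv.ext
    intro y
    rw [Equiv.permCongr_apply, MulAction.toPerm_apply, decomp_tor, Equiv.apply_symm_apply]
  rw [← Equiv.Perm.sign_permCongr (decomp Q), h, Equiv.Perm.sign_sumCongr,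
    Equiv.Perm.sign_prodCongrLeft, Equiv.Perm.sign_prodCongrLeft]
  simp only [Finset.prod_const, Finset.card_univ]


theorem card_odd (h2 : (2 : F) ≠ 0) : Odd (Fintype.card F) := by
  rw [Nat.odd_iff]
  apply FiniteField.odd_card_of_char_ne_two
  intro h
  apply h2
  have := ringChar.Nat.cast_ringChar (R := F)
  rw [h] at this
  exact_mod_cast this

theorem card_N1_even (h2 : (2 : F) ≠ 0) : Even (Fintype.card (N1 ⇑Q)) := by
  let σ : Equiv.Perm (N1 ⇑Q) :=
    ⟨fun x => ⟨-x.1, by rw [QuadraticMap.map_neg]; exact x.2⟩,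
     fun x => ⟨-x.1, by rw [QuadraticMap.map_neg]; exact x.2⟩,
     fun x => by apply Subtype.ext; simp, fun x => by apply Subtype.ext; simp⟩
  have hσ : σ ^ 2 = 1 := by
    apply Equiv.ext
    intro x
    apply Subtype.ext
    rw [pow_two, Equiv.Perm.mul_apply]
    change - - x.1 = x.1
    simp
  have hsupp : σ.support = Finset.univ := by
    rw [Finset.eq_univ_iff_forall]
    intro x
    rw [Equiv.Perm.mem_support]
    intro hx
    have h1 : -x.1 = x.1 := congrArg Subtype.val hx
    have h3 : x.1 = 0 := by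
      have h4 : (2 : F) • x.1 = 0 := by
        rw [two_smul]
        nth_rewrite 1 [← h1]
        simp
      rcases smul_eq_zero.1 h4 with h | h
      · exact absurd h h2
      · exact h
    have := x.2
    rw [h3, map_zero] at this
    exact zero_ne_one this
  have := Equiv.Perm.two_dvd_card_support hσ
  rw [hsupp, Finset.card_univ] at this
  exact even_iff_two_dvd.2 this

open scoped Classical in
theorem sign_mulLeft_gen (h2 : (2 : F) ≠ 0) (ρ : Fˣ) (hρ : ∀ x : Fˣ, x ∈ Subgroup.zpowers ρ) :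
    Equiv.Perm.sign (Equiv.mulLeft ρ) = -1 := by
  have hodd := card_odd h2
  have hcard : Fintype.card Fˣ = Fintype.card F - 1 := Fintype.card_units F
  have hne : ρ ≠ 1 := by
    intro h
    have hall : ∀ x : Fˣ, x = 1 := by
      intro x
      have := hρ x
      rw [h] at this
      simpa using this
    have hone : Fintype.card Fˣ = 1 := by
      rw [Fintype.card_eq_one_iff]
      exact ⟨1, hall⟩
    have h3 : 2 ≤ Fintype.card F := Fintype.one_lt_card
    rcases hodd with ⟨k, hk⟩
    omega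
  have hpow : ∀ i : ℤ, ∀ y : Fˣ, ((Equiv.mulLeft ρ) ^ i) y = ρ ^ i * y := by
    intro i y
    have h1 : Equiv.mulLeft ρ = MulAction.toPermHom Fˣ Fˣ ρ := by
      apply Equiv.ext
      intro z
      rfl
    rw [h1, ← map_zpow]
    rfl
  have hcyc : (Equiv.mulLeft ρ).IsCycle := by
    refine ⟨1, ?_, ?_⟩
    · simpa using hne
    · intro y _
      obtain ⟨i, hi⟩ := Subgroup.mem_zpowers_iff.1 (hρ y)
      exact ⟨i, by rw [hpow, mul_one, hi]⟩
  have hsupp : (Equiv.mulLeft ρ).support = Finset.univ := by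
    rw [Finset.eq_univ_iff_forall]
    intro x
    rw [Equiv.Perm.mem_support]
    simpa using hne
  rw [hcyc.sign, hsupp, Finset.card_univ, hcard]
  rcases hodd with ⟨k, hk⟩
  have : Fintype.card F - 1 = 2 * k := by omega
  rw [this, pow_mul]
  simp

theorem sgn_torO_gen (h2 : (2 : F) ≠ 0) (ρ : Fˣ) (hρ : ∀ x : Fˣ, x ∈ Subgroup.zpowers ρ) :
    sgn ⇑(extQ Q) (torO Q ρ ρ.ne_zero) = -1 := by
  classical
  rw [sgn_torO]
  have h1 : Equiv.Perm.sign (Equiv.mulLeft ρ) = -1 := by
    convert sign_mulLeft_gen h2 ρ hρ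
  rw [h1]
  have hodd : Odd (Fintype.card (ι → F)) := by
    rw [Fintype.card_fun]
    exact (card_odd h2).pow
  have heven := card_N1_even Q h2
  rw [hodd.neg_one_pow]
  rcases heven with ⟨k, hk⟩
  rw [hk, ← two_mul, pow_mul, Int.units_sq, one_pow, mul_one]

end key

end Cfsg.Agent.Helper28.Spin
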