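import Mathlib
import Cfsg.Prelude.Def_ClassicalGeometry
import Cfsg.Agent.Helper28.Spin2

set_option autoImplicit false
set_option linter.unusedSectionVars false

/-! The spinor sign `theta` and its values on products of two reflections. -/

namespace Cfsg.Agent.Helper28.Spin

open Matrix Cfsg.Agent.Helper28.IsoTransport

variable {F : Type*} [Field F] {ι : Type} [Fintype ι] [DecidableEq ι]

section general

variable (P : QuadraticForm F (ι → F))

/-- A homomorphism to a commutative group takes the same value on reflections in vectors whose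
norms differ by a square. -/
theorem hom_refl_eq {A : Type*} [CommGroup A] (φ : ↥(Cfsg.isometryGroup F ⇑P) →* A)
    (h2 : (2 : F) ≠ 0) {x y : ι → F} (hx : P x ≠ 0) (hy : P y ≠ 0)
    (hsq : IsSquare (P x * P y)) : φ (reflO P x hx) = φ (reflO P y hy) := by
  obtain ⟨z, hz⟩ := hsq
  have hz0 : z ≠ 0 := by
    rintro rfl
    rw [mul_zero] at hz
    exact mul_ne_zero hx hy hz
  set t : F := z / P x with ht
  have ht0 : t ≠ 0 := div_ne_zero hz0 hx
  have hPt : P (t • x) = P y := by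
    rw [QuadraticMap.map_smul, smul_eq_mul, ht]
    field_simp
    rw [hz]; ring
  have hPt0 : P (t • x) ≠ 0 := hPt ▸ hy
  obtain ⟨h, hh⟩ := exists_move P h2 hPt hPt0
  have hy' : P (((h : GL ι F) : Matrix ι ι F) *ᵥ (t • x)) ≠ 0 := by rw [hh]; exact hy
  have e1 : reflO P y hy = reflO P (((h : GL ι F) : Matrix ι ι F) *ᵥ (t • x)) hy' := by
    congr 1
    exact hh.symm
  rw [e1, reflO_conj P h (t • x) hPt0, reflO_smul P x hx ht0]
  rw [map_mul, map_mul, map_inv, mul_comm, ← mul_assoc, inv_mul_cancel, one_mul]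

theorem hom_refl_sq {A : Type*} [Group A] (φ : ↥(Cfsg.isometryGroup F ⇑P) →* A)
    {x : ι → F} (hx : P x ≠ 0) : φ (reflO P x hx) * φ (reflO P x hx) = 1 := by
  rw [← map_mul, reflO_mul_self, map_one]

end general

variable (Q : QuadraticForm F (ι → F))

section ext

variable [Fintype F]

theorem sgn_mul_of_isSquare (h2 : (2 : F) ≠ 0) {x y : Fin 2 ⊕ ι → F}
    (hx : extQ Q x ≠ 0) (hy : extQ Q y ≠ 0) (hsq : IsSquare (extQ Q x * extQ Q y)) :
    sgn ⇑(extQ Q) (reflO (extQ Q) x hx) * sgn ⇑(extQ Q) (reflO (extQ Q) y hy) = 1 := by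
  rw [hom_refl_eq (extQ Q) (sgn ⇑(extQ Q)) h2 hx hy hsq]
  exact hom_refl_sq (extQ Q) _ hy

theorem sgn_mul_of_not_isSquare (h2 : (2 : F) ≠ 0) {x y : Fin 2 ⊕ ι → F}
    (hx : extQ Q x ≠ 0) (hy : extQ Q y ≠ 0) (hsq : ¬ IsSquare (extQ Q x * extQ Q y)) :
    sgn ⇑(extQ Q) (reflO (extQ Q) x hx) * sgn ⇑(extQ Q) (reflO (extQ Q) y hy) = -1 := by
  classical
  obtain ⟨ρ, hρ⟩ := IsCyclic.exists_generator (α := Fˣ)
  have hab := sgn_torO_gen Q h2 ρ hρ
  rw [torO, map_mul] at hab
  set a : Fin 2 ⊕ ι → F := hv 1 with ha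
  set b : Fin 2 ⊕ ι → F := hv (ρ : F) with hb
  have ha0 : extQ Q a ≠ 0 := hv_ne Q 1 one_ne_zero
  have hb0 : extQ Q b ≠ 0 := hv_ne Q ρ ρ.ne_zero
  set χ := quadraticChar F with hχ
  have hχab : χ (extQ Q a * extQ Q b) = -1 := by
    rw [quadraticChar_neg_one_iff_not_isSquare]
    intro hsq'
    have := sgn_mul_of_isSquare Q h2 ha0 hb0 hsq'
    rw [this] at hab
    exact absurd hab (by decide)
  have hχxy : χ (extQ Q x * extQ Q y) = -1 := quadraticChar_neg_one_iff_not_isSquare.2 hsq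
  have key : ∀ {u v : Fin 2 ⊕ ι → F} (hu : extQ Q u ≠ 0) (hv' : extQ Q v ≠ 0),
      χ (extQ Q u * extQ Q v) = 1 →
      sgn ⇑(extQ Q) (reflO (extQ Q) u hu) = sgn ⇑(extQ Q) (reflO (extQ Q) v hv') := by
    intro u v hu hv' h1
    exact hom_refl_eq (extQ Q) _ h2 hu hv' ((quadraticChar_one_iff_isSquare (mul_ne_zero hu hv')).1 h1)
  have hsqχ : ∀ {u : Fin 2 ⊕ ι → F}, extQ Q u ≠ 0 → χ (extQ Q u) * χ (extQ Q u) = 1 := by
    intro u hu
    have := quadraticChar_sq_one hu
    rw [pow_two] at this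
    exact this
  rw [map_mul] at hχab hχxy
  rcases quadraticChar_dichotomy (mul_ne_zero hx ha0) with h1 | h1
  · have h3 : χ (extQ Q y * extQ Q b) = 1 := by
      rw [map_mul] at h1 ⊢
      have e1 := hsqχ hx
      have e2 := hsqχ ha0
      have : χ (extQ Q y) * χ (extQ Q b) =
          (χ (extQ Q x) * χ (extQ Q y)) * (χ (extQ Q a) * χ (extQ Q b)) *
            (χ (extQ Q x) * χ (extQ Q a)) := by
        linear_combination (-(χ (extQ Q y) * χ (extQ Q b)) * (χ (extQ Q a) * χ (extQ Q a))) * e1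
          - (χ (extQ Q y) * χ (extQ Q b)) * e2
      rw [this, hχxy, hχab, h1]
      norm_num
    rw [key hx ha0 h1, key hy hb0 h3]
    exact hab
  · have h3 : χ (extQ Q x * extQ Q b) = 1 := by
      rw [map_mul] at h1 ⊢
      have e1 := hsqχ hx
      have e2 := hsqχ ha0
      have : χ (extQ Q x) * χ (extQ Q b) =
          (χ (extQ Q a) * χ (extQ Q b)) * (χ (extQ Q x) * χ (extQ Q a)) := by
        linear_combination (-(χ (extQ Q x) * χ (extQ Q b))) * e2
      rw [this, hχab, h1]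
      norm_num
    have h4 : χ (extQ Q y * extQ Q a) = 1 := by
      rw [map_mul] at h1 ⊢
      have e1 := hsqχ hx
      have : χ (extQ Q y) * χ (extQ Q a) =
          (χ (extQ Q x) * χ (extQ Q y)) * (χ (extQ Q x) * χ (extQ Q a)) := by
        linear_combination (-(χ (extQ Q y) * χ (extQ Q a))) * e1
      rw [this, hχxy, h1]
      norm_num
    rw [key hx hb0 h3, key hy ha0 h4, mul_comm]
    exact hab

end ext


/-- block embedding of the isometry group of `Q` into that of the extended form -/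
noncomputable def extO : ↥(Cfsg.isometryGroup F ⇑Q) →* ↥(Cfsg.isometryGroup F ⇑(extQ Q)) where
  toFun g := ⟨⟨Matrix.fromBlocks 1 0 0 ((g : GL ι F) : Matrix ι ι F),
      Matrix.fromBlocks 1 0 0 (((g : GL ι F)⁻¹ : GL ι F) : Matrix ι ι F),
      by
        rw [Matrix.fromBlocks_multiply]
        simp [Matrix.fromBlocks_one],
      by
        rw [Matrix.fromBlocks_multiply]
        simp [Matrix.fromBlocks_one]⟩, by
    rw [mem_isometryGroup_iff]
    intro u
    simp only [Matrix.fromBlocks_mulVec, Matrix.one_mulVec, Matrix.zero_mulVec, add_zero, zero_add]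
    rw [extQ_apply, extQ_apply]
    simp only [Sum.elim_inl, Function.comp_apply]
    congr 1
    have : (Sum.elim (u ∘ Sum.inl) (((g : GL ι F) : Matrix ι ι F) *ᵥ (u ∘ Sum.inr)) :
        Fin 2 ⊕ ι → F) ∘ Sum.inr = ((g : GL ι F) : Matrix ι ι F) *ᵥ (u ∘ Sum.inr) := rfl
    rw [this]
    exact isom_apply Q g _⟩
  map_one' := by
    apply Subtype.ext
    apply Units.ext
    simp [Matrix.fromBlocks_one]
  map_mul' g h := by
    apply Subtype.ext
    apply Units.ext
    simp [Matrix.fromBlocks_multiply]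

theorem extO_val (g : ↥(Cfsg.isometryGroup F ⇑Q)) :
    ((extO Q g : GL (Fin 2 ⊕ ι) F) : Matrix (Fin 2 ⊕ ι) (Fin 2 ⊕ ι) F) =
      Matrix.fromBlocks 1 0 0 ((g : GL ι F) : Matrix ι ι F) := rfl

theorem extQ_inr (u : ι → F) : extQ Q (Sum.elim 0 u) = Q u := by
  rw [extQ_elim]; simp

theorem extO_reflO (u : ι → F) (hu : Q u ≠ 0) (hu' : extQ Q (Sum.elim 0 u) ≠ 0) :
    extO Q (reflO Q u hu) = reflO (extQ Q) (Sum.elim 0 u) hu' := by
  apply Subtype.ext
  apply Units.ext
  rw [extO_val, reflO_val, reflO_val]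
  apply matrix_ext_mulVec
  intro x
  rw [Matrix.fromBlocks_mulVec, refl_mulVec, refl_mulVec, extQ_inr]
  conv_rhs => rw [← elim_eta x]
  rw [polar_extQ]
  funext i
  rcases i with i | i
  · fin_cases i <;> simp
  · simp

section theta

variable [Fintype F]

/-- the spinor sign -/
noncomputable def theta : ↥(Cfsg.isometryGroup F ⇑Q) →* ℤˣ :=
  (sgn ⇑(extQ Q)).comp (extO Q)

theorem theta_mul_of_isSquare (h2 : (2 : F) ≠ 0) {u v : ι → F} (hu : Q u ≠ 0) (hv : Q v ≠ 0)
    (hsq : IsSquare (Q u * Q v)) :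
    theta Q (reflO Q u hu) * theta Q (reflO Q v hv) = 1 := by
  have hu' : extQ Q (Sum.elim 0 u) ≠ 0 := by rw [extQ_inr]; exact hu
  have hv' : extQ Q (Sum.elim 0 v) ≠ 0 := by rw [extQ_inr]; exact hv
  simp only [theta, MonoidHom.comp_apply]
  rw [extO_reflO Q u hu hu', extO_reflO Q v hv hv']
  apply sgn_mul_of_isSquare Q h2
  rw [extQ_inr, extQ_inr]; exact hsq

theorem theta_mul_of_not_isSquare (h2 : (2 : F) ≠ 0) {u v : ι → F} (hu : Q u ≠ 0) (hv : Q v ≠ 0)
    (hsq : ¬ IsSquare (Q u * Q v)) :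
    theta Q (reflO Q u hu) * theta Q (reflO Q v hv) = -1 := by
  have hu' : extQ Q (Sum.elim 0 u) ≠ 0 := by rw [extQ_inr]; exact hu
  have hv' : extQ Q (Sum.elim 0 v) ≠ 0 := by rw [extQ_inr]; exact hv
  simp only [theta, MonoidHom.comp_apply]
  rw [extO_reflO Q u hu hu', extO_reflO Q v hv hv']
  apply sgn_mul_of_not_isSquare Q h2
  rw [extQ_inr, extQ_inr]; exact hsq

end theta

end Cfsg.Agent.Helper28.Spin
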