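import Mathlib
import Cfsg.Prelude.Def_ClassicalGeometry
import Cfsg.Agent.Helper28.Spin3

set_option autoImplicit false
set_option linter.unusedSectionVars false

/-! The spinor criterion: a product of reflections lies in `Ω` iff the number of reflections is even
and the product of the norms is a square (finite fields of odd order). -/

namespace Cfsg.Agent.Helper28.Spin

open Matrix Cfsg.Agent.Helper28.IsoTransport

variable {F : Type*} [Field F] [Fintype F] {ι : Type} [Fintype ι] [DecidableEq ι]

theorem isSquare_mul_iff (h2 : (2 : F) ≠ 0) {a b : F} (ha : a ≠ 0) (hb : b ≠ 0) :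
    IsSquare (a * b) ↔ (IsSquare a ↔ IsSquare b) := by
  classical
  rw [← quadraticChar_one_iff_isSquare (mul_ne_zero ha hb), ← quadraticChar_one_iff_isSquare ha,
    ← quadraticChar_one_iff_isSquare hb, map_mul]
  rcases quadraticChar_dichotomy ha with h | h <;> rcases quadraticChar_dichotomy hb with h' | h' <;>
    rw [h, h'] <;> norm_num

variable (Q : QuadraticForm F (ι → F))

/-- nonsingular vectors -/
abbrev NS : Type _ := {v : ι → F // Q v ≠ 0}

/-- product of reflections in the isometry group -/
noncomputable def prodO (L : List (NS Q)) : ↥(Cfsg.isometryGroup F ⇑Q) :=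
  (L.map (fun v => reflO Q v.1 v.2)).prod

theorem prodO_nil : prodO Q [] = 1 := rfl

theorem prodO_cons (v : NS Q) (L : List (NS Q)) : prodO Q (v :: L) = reflO Q v.1 v.2 * prodO Q L := by
  simp [prodO]

theorem prodO_val (L : List (NS Q)) :
    ((prodO Q L : GL ι F) : Matrix ι ι F) = (L.map (fun v => Cfsg.reflectionMatrix ⇑Q v.1)).prod := by
  induction L with
  | nil => simp [prodO]
  | cons v L ih =>
    rw [prodO_cons]
    simp only [Subgroup.coe_mul, Units.val_mul, reflO_val, List.map_cons, List.prod_cons, ih]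

open scoped Classical in
/-- number of vectors of square norm -/
noncomputable def nPlus (L : List (NS Q)) : ℕ := L.countP (fun v => IsSquare (Q v.1))

open scoped Classical in
/-- number of vectors of non-square norm -/
noncomputable def nMinus (L : List (NS Q)) : ℕ := L.countP (fun v => ¬ IsSquare (Q v.1))

theorem nPlus_add_nMinus (L : List (NS Q)) : nPlus Q L + nMinus Q L = L.length := by
  classical
  induction L with
  | nil => simp [nPlus, nMinus]
  | cons v L ih =>
    simp only [nPlus, nMinus, List.length_cons] at ih ⊢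
    by_cases h : IsSquare (Q v.1)
    · rw [List.countP_cons_of_pos (by simpa using h), List.countP_cons_of_neg (by simpa using h)]
      omega
    · rw [List.countP_cons_of_neg (by simpa using h), List.countP_cons_of_pos (by simpa using h)]
      omega

/-- product of the norms -/
noncomputable def normProd (L : List (NS Q)) : F := (L.map (fun v => Q v.1)).prod

theorem normProd_ne_zero (L : List (NS Q)) : normProd Q L ≠ 0 := by
  induction L with
  | nil => simp [normProd]
  | cons v L ih =>
    simp only [normProd, List.map_cons, List.prod_cons] at ih ⊢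
    exact mul_ne_zero v.2 ih

theorem isSquare_normProd_iff (h2 : (2 : F) ≠ 0) (L : List (NS Q)) :
    IsSquare (normProd Q L) ↔ Even (nMinus Q L) := by
  classical
  induction L with
  | nil => simp [normProd, nMinus]
  | cons v L ih =>
    have h0 := normProd_ne_zero Q L
    simp only [normProd, nMinus, List.map_cons, List.prod_cons] at ih h0 ⊢
    rw [isSquare_mul_iff h2 v.2 h0, ih]
    by_cases h : IsSquare (Q v.1)
    · rw [List.countP_cons_of_neg (by simpa using h)]
      simp [h]
    · rw [List.countP_cons_of_pos (by simpa using h)]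
      simp only [h, false_iff]
      rw [Nat.even_add_one]

section hom

variable {A : Type*} [CommGroup A] (φ : ↥(Cfsg.isometryGroup F ⇑Q) →* A)

open scoped Classical in
/-- value of `φ` on reflections in vectors of square norm -/
noncomputable def cPlus : A :=
  if h : ∃ v : NS Q, IsSquare (Q v.1) then φ (reflO Q h.choose.1 h.choose.2) else 1

open scoped Classical in
/-- value of `φ` on reflections in vectors of non-square norm -/
noncomputable def cMinus : A :=
  if h : ∃ v : NS Q, ¬ IsSquare (Q v.1) then φ (reflO Q h.choose.1 h.choose.2) else 1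

theorem cPlus_eq (h2 : (2 : F) ≠ 0) (v : NS Q) (hv : IsSquare (Q v.1)) :
    φ (reflO Q v.1 v.2) = cPlus Q φ := by
  classical
  have h : ∃ v : NS Q, IsSquare (Q v.1) := ⟨v, hv⟩
  rw [cPlus, dif_pos h]
  apply hom_refl_eq Q φ h2
  rw [isSquare_mul_iff h2 v.2 h.choose.2]
  exact ⟨fun _ => h.choose_spec, fun _ => hv⟩

theorem cMinus_eq (h2 : (2 : F) ≠ 0) (v : NS Q) (hv : ¬ IsSquare (Q v.1)) :
    φ (reflO Q v.1 v.2) = cMinus Q φ := by
  classical
  have h : ∃ v : NS Q, ¬ IsSquare (Q v.1) := ⟨v, hv⟩
  rw [cMinus, dif_pos h]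
  apply hom_refl_eq Q φ h2
  rw [isSquare_mul_iff h2 v.2 h.choose.2]
  exact ⟨fun h' => absurd h' hv, fun h' => absurd h' h.choose_spec⟩

theorem cPlus_sq : cPlus Q φ * cPlus Q φ = 1 := by
  classical
  rw [cPlus]
  split_ifs with h
  · exact hom_refl_sq Q φ _
  · simp

theorem cMinus_sq : cMinus Q φ * cMinus Q φ = 1 := by
  classical
  rw [cMinus]
  split_ifs with h
  · exact hom_refl_sq Q φ _
  · simp

theorem hom_prodO (h2 : (2 : F) ≠ 0) (L : List (NS Q)) :
    φ (prodO Q L) = cPlus Q φ ^ nPlus Q L * cMinus Q φ ^ nMinus Q L := by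
  classical
  induction L with
  | nil => simp [prodO_nil, nPlus, nMinus]
  | cons v L ih =>
    rw [prodO_cons, map_mul, ih]
    simp only [nPlus, nMinus]
    by_cases h : IsSquare (Q v.1)
    · rw [List.countP_cons_of_pos (by simpa using h), List.countP_cons_of_neg (by simpa using h),
        cPlus_eq Q φ h2 v h, pow_succ]
      rw [mul_comm (cPlus Q φ ^ _) (cPlus Q φ), mul_assoc]
    · rw [List.countP_cons_of_neg (by simpa using h), List.countP_cons_of_pos (by simpa using h),
        cMinus_eq Q φ h2 v h, pow_succ]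
      rw [mul_left_comm, mul_comm (cMinus Q φ)]

theorem hom_prodO_eq_one (h2 : (2 : F) ≠ 0) (L : List (NS Q)) (hlen : Even L.length)
    (hsq : IsSquare (normProd Q L)) : φ (prodO Q L) = 1 := by
  rw [hom_prodO Q φ h2]
  have hm : Even (nMinus Q L) := (isSquare_normProd_iff Q h2 L).1 hsq
  have hp : Even (nPlus Q L) := by
    have := nPlus_add_nMinus Q L
    rw [← this] at hlen
    exact (Nat.even_add.1 hlen).2 hm
  obtain ⟨a, ha⟩ := hm
  obtain ⟨b, hb⟩ := hp
  rw [ha, hb, ← two_mul, ← two_mul, pow_mul, pow_mul, pow_two, pow_two, cPlus_sq, cMinus_sq]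
  simp

end hom


/-- determinant as a homomorphism on the isometry group -/
noncomputable def detHom : ↥(Cfsg.isometryGroup F ⇑Q) →* Fˣ :=
  Matrix.GeneralLinearGroup.det.comp (Subgroup.subtype _)

theorem detHom_val (g : ↥(Cfsg.isometryGroup F ⇑Q)) :
    ((detHom Q g : Fˣ) : F) = ((g : GL ι F) : Matrix ι ι F).det := rfl

theorem detHom_reflO (v : NS Q) : detHom Q (reflO Q v.1 v.2) = -1 := by
  apply Units.ext
  rw [detHom_val, reflO_val, refl_det Q v.2]
  simp

theorem detHom_prodO (L : List (NS Q)) : detHom Q (prodO Q L) = (-1) ^ L.length := by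
  induction L with
  | nil => simp [prodO_nil]
  | cons v L ih =>
    rw [prodO_cons, map_mul, ih, detHom_reflO, List.length_cons, pow_succ, mul_comm]

theorem mem_Omega_iff_abel (g : ↥(Cfsg.isometryGroup F ⇑Q)) :
    g ∈ Cfsg.Omega F ⇑Q ↔ (Abelianization.of g : Abelianization ↥(Cfsg.isometryGroup F ⇑Q)) = 1 := by
  rw [← MonoidHom.mem_ker, Abelianization.ker_of]

theorem hom_eq_one_of_mem_Omega {A : Type*} [CommGroup A] (φ : ↥(Cfsg.isometryGroup F ⇑Q) →* A)
    {g : ↥(Cfsg.isometryGroup F ⇑Q)} (hg : g ∈ Cfsg.Omega F ⇑Q) : φ g = 1 :=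
  MonoidHom.mem_ker.1 (Abelianization.commutator_subset_ker φ hg)

theorem neg_one_units_ne (h2 : (2 : F) ≠ 0) : (-1 : Fˣ) ≠ 1 := by
  intro h
  have h1 : ((-1 : Fˣ) : F) = ((1 : Fˣ) : F) := by rw [h]
  simp only [Units.val_neg, Units.val_one] at h1
  apply h2
  linear_combination -h1

/-- The spinor criterion. -/
theorem prodO_mem_Omega_iff (h2 : (2 : F) ≠ 0) (L : List (NS Q)) :
    prodO Q L ∈ Cfsg.Omega F ⇑Q ↔ (Even L.length ∧ IsSquare (normProd Q L)) := by
  classical
  constructor
  · intro hg
    have hlen : Even L.length := by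
      have h1 := hom_eq_one_of_mem_Omega Q (detHom Q) hg
      rw [detHom_prodO] at h1
      by_contra hodd
      rw [Nat.not_even_iff_odd] at hodd
      rw [hodd.neg_one_pow] at h1
      exact neg_one_units_ne h2 h1
    refine ⟨hlen, ?_⟩
    rw [isSquare_normProd_iff Q h2]
    by_contra hm
    rw [Nat.not_even_iff_odd] at hm
    have hp : Odd (nPlus Q L) := by
      have := nPlus_add_nMinus Q L
      rw [← this] at hlen
      by_contra hp
      rw [Nat.not_odd_iff_even] at hp
      have := (Nat.even_add.1 hlen).1 hp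
      exact (Nat.not_even_iff_odd.2 hm) this
    have hθ := hom_eq_one_of_mem_Omega Q (theta Q) hg
    rw [hom_prodO Q (theta Q) h2] at hθ
    have hp0 : 0 < nPlus Q L := hp.pos
    have hm0 : 0 < nMinus Q L := hm.pos
    obtain ⟨vp, -, hvp⟩ := List.countP_pos_iff.1 hp0
    obtain ⟨vm, -, hvm⟩ := List.countP_pos_iff.1 hm0
    simp only [decide_eq_true_eq] at hvp hvm
    have hprod : cPlus Q (theta Q) * cMinus Q (theta Q) = -1 := by
      rw [← cPlus_eq Q (theta Q) h2 vp hvp, ← cMinus_eq Q (theta Q) h2 vm hvm]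
      apply theta_mul_of_not_isSquare Q h2
      rw [isSquare_mul_iff h2 vp.2 vm.2]
      intro h
      exact hvm (h.1 hvp)
    rw [Int.units_pow_eq_pow_mod_two (cPlus Q (theta Q)), Int.units_pow_eq_pow_mod_two (cMinus Q (theta Q)),
      Nat.odd_iff.1 hp, Nat.odd_iff.1 hm, pow_one, pow_one, hprod] at hθ
    exact absurd hθ (by decide)
  · rintro ⟨hlen, hsq⟩
    rw [mem_Omega_iff_abel]
    exact hom_prodO_eq_one Q _ h2 L hlen hsq

/-- The spinor criterion, in the form of a list of vectors. -/
theorem spinor_criterion (h2 : (2 : F) ≠ 0) (g : ↥(Cfsg.isometryGroup F ⇑Q)) (vs : List (ι → F))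
    (hvs : ∀ v ∈ vs, Q v ≠ 0)
    (hg : ((g : GL ι F) : Matrix ι ι F) = (vs.map (fun v => Cfsg.reflectionMatrix ⇑Q v)).prod) :
    g ∈ Cfsg.Omega F ⇑Q ↔ (Even vs.length ∧ IsSquare (vs.map (fun v => Q v)).prod) := by
  obtain ⟨L, hLv⟩ : ∃ L : List (NS Q), L.map (fun v => v.1) = vs := by
    refine ⟨vs.attach.map (fun v => ⟨v.1, hvs v.1 v.2⟩), ?_⟩
    rw [List.map_map]
    have : ((fun v : NS Q => v.1) ∘ fun v : {x // x ∈ vs} => (⟨v.1, hvs v.1 v.2⟩ : NS Q)) =
        fun v => v.1 := rfl
    rw [this, List.attach_map_subtype_val]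
  subst hLv
  have hgL : g = prodO Q L := by
    apply Subtype.ext
    apply Units.ext
    rw [hg, prodO_val, List.map_map]
    rfl
  have hnp : normProd Q L = ((L.map (fun v => v.1)).map (fun v => Q v)).prod := by
    rw [normProd, List.map_map]
    rfl
  rw [hgL, prodO_mem_Omega_iff Q h2, List.length_map, hnp]

end Cfsg.Agent.Helper28.Spin
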