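import Mathlib
import Cfsg.Prelude.Def_ClassicalGeometry
import Cfsg.Agent.Helper28.Spin4
import Cfsg.Agent.Helper13.Discr

set_option autoImplicit false
set_option linter.unusedSectionVars false

/-! `-1 ∈ Ω` iff the discriminant is a square (even dimension, odd characteristic). -/

namespace Cfsg.Agent.Helper28.Spin

open Matrix Cfsg.Agent.Helper28.IsoTransport

variable {F : Type*} [Field F] {ι : Type} [Fintype ι] [DecidableEq ι]
  (Q : QuadraticForm F (ι → F))

/-- Gram matrix of the polar form in the standard basis -/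
def gram0 : Matrix ι ι F :=
  Matrix.of (fun i j : ι => QuadraticMap.polar ⇑Q (Pi.single i 1) (Pi.single j 1))

theorem polar_eq_gram0 (u v : ι → F) :
    QuadraticMap.polar ⇑Q u v = u ⬝ᵥ gram0 Q *ᵥ v := by
  rw [← polarVec_dot]
  have h : Cfsg.polarVec ⇑Q u = Matrix.vecMul u (gram0 Q) := by
    funext j
    simp only [Cfsg.polarVec, Matrix.vecMul, dotProduct, gram0, Matrix.of_apply]
    rw [QuadraticMap.polar_comm, ← polarVec_dot]
    simp only [dotProduct, Cfsg.polarVec]
    apply Finset.sum_congr rfl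
    intro i _
    rw [QuadraticMap.polar_comm, mul_comm]
  rw [h, Matrix.dotProduct_mulVec]

/-- the product of the reflections in an orthogonal family, applied to a member of the family -/
theorem prod_refl_apply {k : ℕ} (v : Fin k → ι → F) (hv : ∀ i, Q (v i) ≠ 0)
    (horth : ∀ i j, i ≠ j → QuadraticMap.polar ⇑Q (v i) (v j) = 0) (l : List (Fin k))
    (hl : l.Nodup) (j : Fin k) :
    (l.map (fun i => Cfsg.reflectionMatrix ⇑Q (v i))).prod *ᵥ v j =
      if j ∈ l then - v j else v j := by
  induction l with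
  | nil => simp
  | cons i l ih =>
    rw [List.nodup_cons] at hl
    rw [List.map_cons, List.prod_cons, ← Matrix.mulVec_mulVec, ih hl.2]
    by_cases hij : j = i
    · subst hij
      rw [if_neg hl.1, if_pos (by simp), refl_self Q (hv j)]
    · by_cases hjl : j ∈ l
      · rw [if_pos hjl, if_pos (by simp [hjl]), Matrix.mulVec_neg,
          refl_fix Q (horth i j (Ne.symm hij))]
      · rw [if_neg hjl, if_neg (by simp [hjl, hij]), refl_fix Q (horth i j (Ne.symm hij))]

theorem prod_refl_basis {k : ℕ} (v : Module.Basis (Fin k) F (ι → F)) (hv : ∀ i, Q (v i) ≠ 0)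
    (horth : ∀ i j, i ≠ j → QuadraticMap.polar ⇑Q (v i) (v j) = 0) :
    ((List.finRange k).map (fun i => Cfsg.reflectionMatrix ⇑Q (v i))).prod = -1 := by
  apply Matrix.toLin'.injective
  apply v.ext
  intro j
  rw [Matrix.toLin'_apply, prod_refl_apply Q (fun i => v i) hv horth _ (List.nodup_finRange k) j,
    if_pos (List.mem_finRange j)]
  simp


theorem neg_one_aux [Fintype F] (h2 : (2 : F) ≠ 0) {k : ℕ} (v : Module.Basis (Fin k) F (ι → F))
    (horth : ∀ i j, i ≠ j → QuadraticMap.polar ⇑Q (v i) (v j) = 0) (hns : ∀ i, Q (v i) ≠ 0)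
    (hkeven : Even k) :
    (∃ g : ↥(Cfsg.isometryGroup F ⇑Q), g ∈ Cfsg.Omega F ⇑Q ∧
      ((g : GL ι F) : Matrix ι ι F) = -1) ↔ IsSquare (gram0 Q).det := by
  set L : List (NS Q) := (List.finRange k).map (fun i => ⟨v i, hns i⟩) with hL
  have hLval : ((prodO Q L : GL ι F) : Matrix ι ι F) = -1 := by
    rw [prodO_val, hL, List.map_map]
    exact prod_refl_basis Q v hns horth
  have hLlen : L.length = k := by rw [hL, List.length_map, List.length_finRange]
  have hLnorm : normProd Q L = ∏ i, Q (v i) := by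
    rw [normProd, hL, List.map_map, Fin.prod_univ_def]
    rfl
  obtain ⟨d, hd0, hd⟩ := Cfsg.Agent.Helper13.gram_det_eq (⇑Q) (gram0 Q) (polar_eq_gram0 Q) v
  have hdiag : (Matrix.of (fun i j : Fin k => QuadraticMap.polar ⇑Q (v i) (v j))) =
      Matrix.diagonal (fun i => 2 * Q (v i)) := by
    ext i j
    by_cases hij : i = j
    · subst hij
      simp [polar_self']
    · simp [hij, horth i j hij]
  rw [hdiag, Matrix.det_diagonal, Finset.prod_mul_distrib, Finset.prod_const, Finset.card_univ,
    Fintype.card_fin] at hd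
  obtain ⟨r, hr⟩ := hkeven
  have h2r : (2 : F) ^ r ≠ 0 := pow_ne_zero _ h2
  have h2k : (2 : F) ^ k = 2 ^ r * 2 ^ r := by rw [hr, pow_add]
  have hsqiff : IsSquare (normProd Q L) ↔ IsSquare (gram0 Q).det := by
    rw [← Cfsg.Agent.Helper13.isSquare_mul_self_mul_iff hd0 (x := (gram0 Q).det), ← hd, hLnorm, h2k]
    exact (Cfsg.Agent.Helper13.isSquare_mul_self_mul_iff h2r).symm
  have hcrit := prodO_mem_Omega_iff Q h2 L
  rw [hLlen, hsqiff] at hcrit
  constructor
  · rintro ⟨g, hgΩ, hg⟩
    have : g = prodO Q L := by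
      apply Subtype.ext
      apply Units.ext
      rw [hg, hLval]
    rw [this] at hgΩ
    exact (hcrit.1 hgΩ).2
  · intro hsq
    exact ⟨prodO Q L, hcrit.2 ⟨⟨r, hr⟩, hsq⟩, hLval⟩

/-- `-1 ∈ Ω` iff the discriminant is a square (even dimension). -/
theorem neg_one_mem_Omega_iff [Fintype F] (h2 : (2 : F) ≠ 0)
    (hQ : (QuadraticMap.polarBilin Q).Nondegenerate) (he : Even (Fintype.card ι)) :
    (∃ g : ↥(Cfsg.isometryGroup F ⇑Q), g ∈ Cfsg.Omega F ⇑Q ∧
      ((g : GL ι F) : Matrix ι ι F) = -1) ↔ IsSquare (gram0 Q).det := by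
  have : Invertible (2 : F) := invertibleOfNonzero h2
  have hsymm : LinearMap.IsSymm (QuadraticMap.polarBilin Q) :=
    ⟨fun x y => by simp [QuadraticMap.polar_comm]⟩
  obtain ⟨v, hv⟩ := LinearMap.BilinForm.exists_orthogonal_basis hsymm
  have hk : Module.finrank F (ι → F) = Fintype.card ι := Module.finrank_fintype_fun_eq_card F
  have horth : ∀ i j, i ≠ j → QuadraticMap.polar ⇑Q (v i) (v j) = 0 := by
    intro i j hij
    have := LinearMap.isOrthoᵢ_def.1 hv i j hij
    simpa using this
  have hns : ∀ i, Q (v i) ≠ 0 := by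
    intro i h0
    have := hv.not_isOrtho_basis_self_of_separatingLeft hQ.1 i
    apply this
    rw [QuadraticMap.polarBilin_apply_apply, polar_self', h0, mul_zero]
  exact neg_one_aux Q h2 v horth hns (hk ▸ he)

end Cfsg.Agent.Helper28.Spin
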