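import Mathlib
import Cfsg.Prelude.Def_ClassicalGeometry
import Cfsg.Agent.Helper28.Spin5
import Cfsg.Agent.Helper28.QPlus
import Cfsg.Agent.S2620
import Cfsg.Agent.S2621

set_option autoImplicit false
set_option linter.unusedSectionVars false

/-! Applications of the spinor criterion: negating hyperbolic pairs. -/

namespace Cfsg.Agent.Helper28.Spin

open Matrix Cfsg.Agent.Helper28.IsoTransport

variable {F : Type*} [Field F] {ι : Type} [Fintype ι] [DecidableEq ι]

theorem neg_one_mem_Omega_iff_of_det [Fintype F] (Q : QuadraticForm F (ι → F)) (h2 : (2 : F) ≠ 0)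
    (hdet : (gram0 Q).det ≠ 0) (he : Even (Fintype.card ι)) :
    (∃ g : ↥(Cfsg.isometryGroup F ⇑Q), g ∈ Cfsg.Omega F ⇑Q ∧
      ((g : GL ι F) : Matrix ι ι F) = -1) ↔ IsSquare (gram0 Q).det := by
  have : Invertible (2 : F) := invertibleOfNonzero h2
  have hsymm : LinearMap.IsSymm (QuadraticMap.polarBilin Q) :=
    ⟨fun x y => by simp [QuadraticMap.polar_comm]⟩
  obtain ⟨v, hv⟩ := LinearMap.BilinForm.exists_orthogonal_basis hsymm
  have hk : Module.finrank F (ι → F) = Fintype.card ι := Module.finrank_fintype_fun_eq_card F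
  have horth : ∀ i j, i ≠ j → QuadraticMap.polar ⇑Q (v i) (v j) = 0 := by
    intro i j hij
    have := LinearMap.isOrthoᵢ_def.1 hv i j hij
    simpa using this
  have hns : ∀ i, Q (v i) ≠ 0 := by
    obtain ⟨d, hd0, hd⟩ := Cfsg.Agent.Helper13.gram_det_eq (⇑Q) (gram0 Q) (polar_eq_gram0 Q) v
    have hdiag : (Matrix.of (fun i j => QuadraticMap.polar ⇑Q (v i) (v j))) =
        Matrix.diagonal (fun i => 2 * Q (v i)) := by
      ext i j
      by_cases hij : i = j
      · subst hij
        simp [polar_self']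
      · simp [hij, horth i j hij]
    rw [hdiag, Matrix.det_diagonal] at hd
    have hne : ∏ i, (2 * Q (v i)) ≠ 0 := by
      rw [hd]
      exact mul_ne_zero (mul_ne_zero hd0 hd0) hdet
    intro i h0
    apply hne
    apply Finset.prod_eq_zero (Finset.mem_univ i)
    rw [h0, mul_zero]
  exact neg_one_aux Q h2 v horth hns (hk ▸ he)

theorem pow_mod_four_iff {q : ℕ} (hq : Odd q) (m : ℕ) :
    q ^ m % 4 = 1 ↔ (Even m ∨ q % 4 = 1) := by
  have h4 : q % 4 = 1 ∨ q % 4 = 3 := by
    rcases hq with ⟨k, hk⟩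
    omega
  rw [Nat.pow_mod]
  rcases h4 with h | h
  · rw [h]
    simp
  · rw [h]
    rcases Nat.even_or_odd m with hm | hm
    · obtain ⟨r, hr⟩ := hm
      have : 3 ^ m % 4 = 1 := by
        rw [hr, ← two_mul, pow_mul, Nat.pow_mod]
        norm_num
      rw [this]
      simp [hr]
    · obtain ⟨r, hr⟩ := hm
      have : 3 ^ m % 4 = 3 := by
        rw [hr, pow_succ, pow_mul, Nat.mul_mod, Nat.pow_mod]
        norm_num
      rw [this]
      simp only [OfNat.ofNat_ne_one, or_false, false_iff, Nat.not_even_iff_odd]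
      exact ⟨r, hr⟩

theorem isSquare_neg_one_pow_iff' [Fintype F] {q : ℕ} (hF : Fintype.card F = q) (hq : Odd q)
    (i : ℕ) : IsSquare ((-1 : F) ^ i) ↔ q ^ i % 4 = 1 := by
  rw [pow_mod_four_iff hq]
  have hsq : IsSquare (-1 : F) ↔ q % 4 = 1 := by
    rw [FiniteField.isSquare_neg_one_iff, hF]
    rcases hq with ⟨k, hk⟩
    omega
  rcases Nat.even_or_odd i with hi | hi
  · obtain ⟨r, hr⟩ := hi
    have : (-1 : F) ^ i = 1 := by rw [hr, ← two_mul, pow_mul]; simp
    rw [this]
    simp [hr]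
  · rw [hi.neg_one_pow, hsq]
    constructor
    · intro h; exact Or.inr h
    · rintro (h | h)
      · exact absurd h (Nat.not_even_iff_odd.2 hi)
      · exact h

theorem even_iff_pow_mod_four {q : ℕ} (hq : Odd q) (m : ℕ) :
    Even (m * (q - 1) / 2) ↔ q ^ m % 4 = 1 := by
  rw [pow_mod_four_iff hq]
  obtain ⟨k, hk⟩ := hq
  have h1 : m * (q - 1) / 2 = m * k := by
    rw [hk, Nat.add_sub_cancel, mul_comm 2 k, ← mul_assoc, Nat.mul_div_cancel _ (by norm_num)]
  rw [h1, Nat.even_mul]
  have : Even k ↔ q % 4 = 1 := by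
    rw [Nat.even_iff]; omega
  rw [this]


section forms

open Cfsg.Agent.Helper28.QPlus

/-- `quadFormPlus` as a quadratic form -/
def QfPlus (m : ℕ) (F : Type*) [Field F] : QuadraticForm F (Fin m ⊕ Fin m → F) where
  toFun := Cfsg.quadFormPlus m F
  toFun_smul a x := by rw [Q_smul]; simp [pow_two]
  exists_companion' := ⟨pB m F, fun x y => Q_add x y⟩

theorem QfPlus_coe (m : ℕ) : ⇑(QfPlus m F) = Cfsg.quadFormPlus m F := rfl

theorem polar_QfPlus (m : ℕ) (x y : Fin m ⊕ Fin m → F) :
    QuadraticMap.polar ⇑(QfPlus m F) x y = pB m F x y := by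
  rw [QuadraticMap.polar, QfPlus_coe, Q_add]
  ring

theorem QfPlus_nondeg (m : ℕ) : (QuadraticMap.polarBilin (QfPlus m F)).Nondegenerate := by
  have : QuadraticMap.polarBilin (QfPlus m F) = pB m F := by
    apply LinearMap.ext
    intro x
    apply LinearMap.ext
    intro y
    rw [QuadraticMap.polarBilin_apply_apply, polar_QfPlus]
  rw [this]
  exact pB_nondeg

/-- `quadFormMinus` as a quadratic form -/
def QfMinus (m : ℕ) (F : Type*) [Field F] (a c : F) :
    QuadraticForm F ((Fin m ⊕ Fin m) ⊕ Fin 2 → F) where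
  toFun := Cfsg.quadFormMinus m F a c
  toFun_smul t x := by
    simp only [Cfsg.quadFormMinus, Pi.smul_apply, smul_eq_mul, Finset.mul_sum]
    rw [mul_add, Finset.mul_sum]
    congr 1
    · apply Finset.sum_congr rfl
      intro i _
      ring
    · ring
  exists_companion' := ⟨Matrix.toBilin' (Matrix.fromBlocks
        (Matrix.fromBlocks (0 : Matrix (Fin m) (Fin m) F) (1 : Matrix (Fin m) (Fin m) F)
          (1 : Matrix (Fin m) (Fin m) F) (0 : Matrix (Fin m) (Fin m) F))
        (0 : Matrix (Fin m ⊕ Fin m) (Fin 2) F) (0 : Matrix (Fin 2) (Fin m ⊕ Fin m) F)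
        (!![2, a; a, 2 * c] : Matrix (Fin 2) (Fin 2) F)), fun x y => by
      rw [Matrix.toBilin'_apply', ← Cfsg.Agent.S2621.polar_minus, QuadraticMap.polar]
      ring⟩

theorem QfMinus_coe (m : ℕ) (a c : F) : ⇑(QfMinus m F a c) = Cfsg.quadFormMinus m F a c := rfl

end forms

end Cfsg.Agent.Helper28.Spin
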