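import Mathlib
import Cfsg.Prelude.Def_ClassicalGeometry
import Cfsg.Agent.Helper28.Spin6

set_option autoImplicit false
set_option linter.unusedSectionVars false

/-! Negating hyperbolic pairs. -/

namespace Cfsg.Agent.Helper28.Spin

open Matrix Cfsg.Agent.Helper28.IsoTransport

variable {F : Type*} [Field F] {ι : Type} [Fintype ι] [DecidableEq ι]
  (Q : QuadraticForm F (ι → F))

/-- hypothesis: `a, b` index a hyperbolic pair split off from `Q` -/
def IsHypPair (a b : ι) : Prop :=
  ∀ (x : ι → F) (s t : F),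
    Q (x + s • Pi.single a 1 + t • Pi.single b 1) = Q x + s * x b + t * x a + s * t

theorem negPair {a b : ι} (hab : a ≠ b) (H : IsHypPair Q a b) :
    Q (Pi.single a 1 + Pi.single b 1) = 1 ∧ Q (Pi.single a 1 - Pi.single b 1) = -1 ∧
    Cfsg.reflectionMatrix ⇑Q (Pi.single a 1 + Pi.single b 1) *
      Cfsg.reflectionMatrix ⇑Q (Pi.single a 1 - Pi.single b 1) =
      Matrix.diagonal (fun k => if k = a ∨ k = b then (-1 : F) else 1) := by
  have h1 : Q (Pi.single a 1 + Pi.single b 1) = 1 := by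
    have := H 0 1 1
    simpa using this
  have h2 : Q (Pi.single a 1 - Pi.single b 1) = -1 := by
    have := H 0 1 (-1)
    simp only [one_smul, neg_smul, zero_add, map_zero, Pi.zero_apply, mul_zero, add_zero] at this
    rw [← sub_eq_add_neg] at this
    rw [this]; ring
  have hp1 : ∀ x, QuadraticMap.polar ⇑Q (Pi.single a 1 + Pi.single b 1) x = x b + x a := by
    intro x
    have := H x 1 1
    simp only [one_smul] at this
    rw [QuadraticMap.polar, h1]
    have e : (Pi.single a 1 + Pi.single b 1 + x : ι → F) = x + Pi.single a 1 + Pi.single b 1 := by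
      abel
    rw [e, this]; ring
  have hp2 : ∀ x, QuadraticMap.polar ⇑Q (Pi.single a 1 - Pi.single b 1) x = x b - x a := by
    intro x
    have := H x 1 (-1)
    simp only [one_smul, neg_smul] at this
    rw [QuadraticMap.polar, h2]
    have e : (Pi.single a 1 - Pi.single b 1 + x : ι → F) = x + Pi.single a 1 + -Pi.single b 1 := by
      abel
    rw [e, this]; ring
  refine ⟨h1, h2, ?_⟩
  apply matrix_ext_mulVec
  intro x
  rw [← Matrix.mulVec_mulVec, refl_mulVec, refl_mulVec, h1, h2, hp2, hp1]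
  funext k
  rw [Matrix.mulVec_diagonal]
  simp only [Pi.sub_apply, Pi.add_apply, Pi.smul_apply, Pi.single_apply, smul_eq_mul]
  by_cases hka : k = a
  · subst hka
    simp [hab, Ne.symm hab]
  · by_cases hkb : k = b
    · subst hkb
      simp [hab, Ne.symm hab]
    · simp [hka, hkb]

open scoped Classical in
/-- the diagonal matrix negating the first `i` pairs -/
noncomputable def negD {m : ℕ} (a b : Fin m → ι) (i : ℕ) : Matrix ι ι F :=
  Matrix.diagonal (fun t => if ∃ j : Fin m, j.1 < i ∧ (t = a j ∨ t = b j) then (-1 : F) else 1)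

theorem negPairs_exists [Fintype F] {m : ℕ} (a b : Fin m → ι) (hinj : Function.Injective (Sum.elim a b))
    (H : ∀ j, IsHypPair Q (a j) (b j)) (i : ℕ) (hi : i ≤ m) :
    ∃ L : List (NS Q), L.length = 2 * i ∧ normProd Q L = (-1) ^ i ∧
      ((prodO Q L : GL ι F) : Matrix ι ι F) = negD a b i := by
  classical
  induction i with
  | zero =>
    refine ⟨[], rfl, by simp [normProd], ?_⟩
    rw [prodO_nil, negD]
    simp
  | succ i ih =>
    obtain ⟨L, hlen, hnorm, hmat⟩ := ih (by omega)
    have hab : a ⟨i, hi⟩ ≠ b ⟨i, hi⟩ := by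
      intro h
      have := @hinj (Sum.inl ⟨i, hi⟩) (Sum.inr ⟨i, hi⟩) (by simpa using h)
      exact absurd this (by simp)
    obtain ⟨h1, h2, hm⟩ := negPair Q hab (H ⟨i, hi⟩)
    have hv1 : Q (Pi.single (a ⟨i, hi⟩) 1 + Pi.single (b ⟨i, hi⟩) 1) ≠ 0 := by rw [h1]; exact one_ne_zero
    have hv2 : Q (Pi.single (a ⟨i, hi⟩) 1 - Pi.single (b ⟨i, hi⟩) 1) ≠ 0 := by
      rw [h2]; exact neg_ne_zero.2 one_ne_zero
    refine ⟨⟨_, hv1⟩ :: ⟨_, hv2⟩ :: L, ?_, ?_, ?_⟩
    · simp only [List.length_cons, hlen]; ring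
    · simp only [normProd, List.map_cons, List.prod_cons] at hnorm ⊢
      rw [hnorm, h1, h2]; ring
    · rw [prodO_cons, prodO_cons]
      simp only [Subgroup.coe_mul, Units.val_mul, reflO_val]
      rw [hmat, ← Matrix.mul_assoc, hm, negD, negD, Matrix.diagonal_mul_diagonal]
      congr 1
      funext t
      by_cases ht : t = a ⟨i, hi⟩ ∨ t = b ⟨i, hi⟩
      · have hno : ¬ ∃ j : Fin m, j.1 < i ∧ (t = a j ∨ t = b j) := by
          rintro ⟨j, hji, hj⟩
          have hji' : j ≠ ⟨i, hi⟩ := by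
            intro h; rw [h] at hji; simp at hji
          rcases ht with ht | ht <;> rcases hj with hj | hj
          · exact hji' (Sum.inl.inj (@hinj (Sum.inl j) (Sum.inl ⟨i, hi⟩) (by simp [← hj, ← ht])))
          · exact absurd (@hinj (Sum.inr j) (Sum.inl ⟨i, hi⟩) (by simp [← hj, ← ht])) (by simp)
          · exact absurd (@hinj (Sum.inl j) (Sum.inr ⟨i, hi⟩) (by simp [← hj, ← ht])) (by simp)
          · exact hji' (Sum.inr.inj (@hinj (Sum.inr j) (Sum.inr ⟨i, hi⟩) (by simp [← hj, ← ht])))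
        have hyes : ∃ j : Fin m, j.1 < i + 1 ∧ (t = a j ∨ t = b j) := ⟨⟨i, hi⟩, by simp, ht⟩
        rw [if_pos ht, if_neg hno, if_pos hyes]
        ring
      · have hiff : (∃ j : Fin m, j.1 < i + 1 ∧ (t = a j ∨ t = b j)) ↔
            (∃ j : Fin m, j.1 < i ∧ (t = a j ∨ t = b j)) := by
          constructor
          · rintro ⟨j, hji, hj⟩
            refine ⟨j, ?_, hj⟩
            rcases Nat.lt_succ_iff_lt_or_eq.1 hji with h | h
            · exact h
            · exfalso
              apply ht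
              have : j = ⟨i, hi⟩ := Fin.ext h
              rw [← this]; exact hj
          · rintro ⟨j, hji, hj⟩
            exact ⟨j, by omega, hj⟩
        rw [if_neg ht, one_mul]
        by_cases hex : ∃ j : Fin m, j.1 < i ∧ (t = a j ∨ t = b j)
        · rw [if_pos hex, if_pos (hiff.2 hex)]
        · rw [if_neg hex, if_neg (fun h => hex (hiff.1 h))]

theorem negPairs_iff [Fintype F] {q : ℕ} (hF : Fintype.card F = q) (hq : Odd q) {m : ℕ}
    (a b : Fin m → ι) (hinj : Function.Injective (Sum.elim a b))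
    (H : ∀ j, IsHypPair Q (a j) (b j)) (i : ℕ) (hi : i ≤ m) (D : Matrix ι ι F)
    (hD : D = negD a b i) :
    (∃ g : ↥(Cfsg.isometryGroup F ⇑Q), g ∈ Cfsg.Omega F ⇑Q ∧ ((g : GL ι F) : Matrix ι ι F) = D) ↔
      q ^ i % 4 = 1 := by
  have h2 : (2 : F) ≠ 0 := by
    apply Ring.two_ne_zero
    intro h
    rw [FiniteField.even_card_iff_char_two, hF] at h
    rcases hq with ⟨k, hk⟩
    omega
  obtain ⟨L, hlen, hnorm, hmat⟩ := negPairs_exists Q a b hinj H i hi
  have hcrit := prodO_mem_Omega_iff Q h2 L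
  rw [hlen, hnorm, isSquare_neg_one_pow_iff' hF hq] at hcrit
  subst hD
  constructor
  · rintro ⟨g, hgΩ, hg⟩
    have : g = prodO Q L := by
      apply Subtype.ext
      apply Units.ext
      rw [hg, hmat]
    rw [this] at hgΩ
    exact (hcrit.1 hgΩ).2
  · intro h
    exact ⟨prodO Q L, hcrit.2 ⟨⟨i, by ring⟩, h⟩, hmat⟩

end Cfsg.Agent.Helper28.Spin
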