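import Mathlib
import Cfsg.Prelude.Def_ClassicalGeometry
import Cfsg.Agent.Helper28.Spin7

set_option autoImplicit false
set_option linter.unusedSectionVars false

/-! The Levi subgroup `GL_m` of `O^+_{2m}` and `Ω`. -/

namespace Cfsg.Agent.Helper28.Spin

open Matrix Cfsg.Agent.Helper28.IsoTransport Cfsg.Agent.Helper28.QPlus
open scoped commutatorElement

variable {F : Type*} [Field F] {m : ℕ}

theorem Qplus_dot (x : Fin m ⊕ Fin m → F) :
    Cfsg.quadFormPlus m F x = (x ∘ Sum.inl) ⬝ᵥ (x ∘ Sum.inr) := rfl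

/-- `A ↦ diag(A, A⁻ᵀ)` -/
noncomputable def embGL : GL (Fin m) F →* ↥(Cfsg.isometryGroup F ⇑(QfPlus m F)) where
  toFun A := ⟨⟨Matrix.fromBlocks (A : Matrix (Fin m) (Fin m) F) 0 0
        ((A⁻¹ : GL (Fin m) F) : Matrix (Fin m) (Fin m) F)ᵀ,
      Matrix.fromBlocks ((A⁻¹ : GL (Fin m) F) : Matrix (Fin m) (Fin m) F) 0 0
        (A : Matrix (Fin m) (Fin m) F)ᵀ,
      by
        rw [Matrix.fromBlocks_multiply, ← Matrix.transpose_mul]
        simp [Matrix.fromBlocks_one],
      by
        rw [Matrix.fromBlocks_multiply, ← Matrix.transpose_mul]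
        simp [Matrix.fromBlocks_one]⟩, by
    rw [mem_isometryGroup_iff]
    intro x
    rw [QfPlus_coe, Qplus_dot, Qplus_dot, Matrix.fromBlocks_mulVec]
    simp only [Matrix.zero_mulVec, add_zero, zero_add]
    have e1 : (Sum.elim ((A : Matrix (Fin m) (Fin m) F) *ᵥ (x ∘ Sum.inl))
        (((A⁻¹ : GL (Fin m) F) : Matrix (Fin m) (Fin m) F)ᵀ *ᵥ (x ∘ Sum.inr)) :
        Fin m ⊕ Fin m → F) ∘ Sum.inl = (A : Matrix (Fin m) (Fin m) F) *ᵥ (x ∘ Sum.inl) := rfl
    have e2 : (Sum.elim ((A : Matrix (Fin m) (Fin m) F) *ᵥ (x ∘ Sum.inl))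
        (((A⁻¹ : GL (Fin m) F) : Matrix (Fin m) (Fin m) F)ᵀ *ᵥ (x ∘ Sum.inr)) :
        Fin m ⊕ Fin m → F) ∘ Sum.inr =
          ((A⁻¹ : GL (Fin m) F) : Matrix (Fin m) (Fin m) F)ᵀ *ᵥ (x ∘ Sum.inr) := rfl
    rw [e1, e2, Matrix.mulVec_transpose, dotProduct_comm, Matrix.dotProduct_mulVec,
      Matrix.vecMul_vecMul, ← Units.val_mul, inv_mul_cancel, Units.val_one, Matrix.vecMul_one,
      dotProduct_comm]⟩
  map_one' := by
    apply Subtype.ext
    apply Units.ext
    simp [Matrix.fromBlocks_one]
  map_mul' A B := by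
    apply Subtype.ext
    apply Units.ext
    simp [Matrix.fromBlocks_multiply, Matrix.transpose_mul]

theorem embGL_val (A : GL (Fin m) F) :
    ((embGL A : GL (Fin m ⊕ Fin m) F) : Matrix (Fin m ⊕ Fin m) (Fin m ⊕ Fin m) F) =
      Matrix.fromBlocks (A : Matrix (Fin m) (Fin m) F) 0 0
        ((A⁻¹ : GL (Fin m) F) : Matrix (Fin m) (Fin m) F)ᵀ := rfl

theorem embGL_mem_Omega {A : GL (Fin m) F} (hA : A ∈ commutator (GL (Fin m) F)) :
    embGL A ∈ Cfsg.Omega F ⇑(QfPlus m F) := by
  have : (commutator (GL (Fin m) F)).map (embGL (F := F) (m := m)) ≤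
      commutator ↥(Cfsg.isometryGroup F ⇑(QfPlus m F)) := by
    rw [commutator_def, Subgroup.map_commutator]
    exact Subgroup.commutator_mono le_top le_top
  exact this (Subgroup.mem_map_of_mem _ hA)

/-- transvection as an element of `GL` -/
def tvGL (i j : Fin m) (hij : i ≠ j) (c : F) : GL (Fin m) F :=
  ⟨Matrix.transvection i j c, Matrix.transvection i j (-c),
    by rw [Matrix.transvection_mul_transvection_same i j hij, add_neg_cancel, Matrix.transvection_zero],
    by rw [Matrix.transvection_mul_transvection_same i j hij, neg_add_cancel, Matrix.transvection_zero]⟩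

theorem tvGL_mul (i j : Fin m) (hij : i ≠ j) (c d : F) :
    tvGL i j hij c * tvGL i j hij d = tvGL i j hij (c + d) := by
  apply Units.ext
  exact Matrix.transvection_mul_transvection_same i j hij c d

theorem tvGL_inv (i j : Fin m) (hij : i ≠ j) (c : F) : (tvGL i j hij c)⁻¹ = tvGL i j hij (-c) :=
  Units.ext rfl

/-- diagonal matrix with one entry changed, as an element of `GL` -/
def dgGL (i : Fin m) (l : F) (hl : l ≠ 0) : GL (Fin m) F :=
  ⟨Matrix.diagonal (Function.update 1 i l), Matrix.diagonal (Function.update 1 i l⁻¹),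
    by
      rw [Matrix.diagonal_mul_diagonal, ← Matrix.diagonal_one]
      congr 1
      funext k
      by_cases hk : k = i
      · subst hk; simp [hl]
      · simp [hk],
    by
      rw [Matrix.diagonal_mul_diagonal, ← Matrix.diagonal_one]
      congr 1
      funext k
      by_cases hk : k = i
      · subst hk; simp [hl]
      · simp [hk]⟩

theorem dg_mul_tv (i j : Fin m) (hij : i ≠ j) (l : F) (hl : l ≠ 0) (s : F) :
    dgGL i l hl * tvGL i j hij s = tvGL i j hij (l * s) * dgGL i l hl := by
  apply Units.ext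
  ext a b
  simp only [Units.val_mul, dgGL, tvGL, Matrix.diagonal_mul, Matrix.mul_diagonal, Matrix.transvection,
    Matrix.add_apply, Matrix.one_apply, Matrix.single_apply]
  by_cases h : i = a ∧ j = b
  · obtain ⟨rfl, rfl⟩ := h
    simp [hij, Ne.symm hij]
  · rw [if_neg h, if_neg h]
    by_cases hab : a = b
    · subst hab
      simp [mul_comm]
    · simp [hab]

theorem tv_mem_commutator_of_three (i j : Fin m) (hij : i ≠ j) (c : F) (l : F) (hl0 : l ≠ 0)
    (hl1 : l ≠ 1) : tvGL i j hij c ∈ commutator (GL (Fin m) F) := by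
  have hl' : l - 1 ≠ 0 := sub_ne_zero.2 hl1
  have : tvGL i j hij c = ⁅dgGL i l hl0, tvGL i j hij (c / (l - 1))⁆ := by
    rw [commutatorElement_def, dg_mul_tv, mul_assoc (tvGL i j hij _), mul_inv_cancel, mul_one, tvGL_inv,
      tvGL_mul]
    congr 1
    field_simp
    ring
  rw [this]
  exact Subgroup.commutator_mem_commutator (Subgroup.mem_top _) (Subgroup.mem_top _)

theorem tv_mem_commutator_of_third (i j k : Fin m) (hij : i ≠ j) (hik : i ≠ k) (hkj : k ≠ j) (c : F) :
    tvGL i j hij c ∈ commutator (GL (Fin m) F) := by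
  have key : tvGL i k hik c * tvGL k j hkj 1 =
      tvGL i j hij c * (tvGL k j hkj 1 * tvGL i k hik c) := by
    apply Units.ext
    simp only [Units.val_mul, tvGL, Matrix.transvection]
    simp only [add_mul, mul_add, one_mul, mul_one, Matrix.single_mul_single_same,
      Matrix.single_mul_single_of_ne _ _ _ _ (Ne.symm hij), Matrix.single_mul_single_of_ne _ _ _ _ (Ne.symm hik),
      Matrix.single_mul_single_of_ne _ _ _ _ (Ne.symm hkj), Matrix.single_mul_single_of_ne _ _ _ _ hkj,
      Matrix.single_mul_single_of_ne _ _ _ _ hij, Matrix.single_mul_single_of_ne _ _ _ _ hik]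
    simp only [mul_one, add_zero, zero_add, mul_zero]
    abel
  have : tvGL i j hij c = ⁅tvGL i k hik c, tvGL k j hkj 1⁆ := by
    rw [commutatorElement_def, key]
    group
  rw [this]
  exact Subgroup.commutator_mem_commutator (Subgroup.mem_top _) (Subgroup.mem_top _)


section scale

variable {ι : Type} [Fintype ι] [DecidableEq ι] (Q : QuadraticForm F (ι → F))

theorem scalePair {a b : ι} (hab : a ≠ b) (H : IsHypPair Q a b) (μ : F) (hμ : μ ≠ 0) :
    Q (Pi.single a 1 - μ • Pi.single b 1) = -μ ∧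
    Cfsg.reflectionMatrix ⇑Q (Pi.single a 1 - (1 : F) • Pi.single b 1) *
      Cfsg.reflectionMatrix ⇑Q (Pi.single a 1 - μ • Pi.single b 1) =
      Matrix.diagonal (fun k => if k = a then μ else if k = b then μ⁻¹ else 1) := by
  have hn : ∀ ν : F, Q (Pi.single a 1 - ν • Pi.single b 1) = -ν := by
    intro ν
    have := H 0 1 (-ν)
    simp only [one_smul, neg_smul, zero_add, map_zero, Pi.zero_apply, mul_zero, add_zero] at this
    rw [← sub_eq_add_neg] at this
    rw [this]; ring
  have hp : ∀ (ν : F) (x : ι → F),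
      QuadraticMap.polar ⇑Q (Pi.single a 1 - ν • Pi.single b 1) x = x b - ν * x a := by
    intro ν x
    have := H x 1 (-ν)
    simp only [one_smul, neg_smul] at this
    rw [QuadraticMap.polar, hn]
    have e : (Pi.single a 1 - ν • Pi.single b 1 + x : ι → F) =
        x + Pi.single a 1 + -(ν • Pi.single b 1) := by abel
    rw [e, this]; ring
  refine ⟨hn μ, ?_⟩
  apply matrix_ext_mulVec
  intro x
  rw [← Matrix.mulVec_mulVec, refl_mulVec, refl_mulVec, hn, hn, hp, hp]
  funext k
  rw [Matrix.mulVec_diagonal]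
  simp only [Pi.sub_apply, Pi.add_apply, Pi.smul_apply, Pi.single_apply, smul_eq_mul]
  by_cases hka : k = a
  · subst hka
    simp [hab, Ne.symm hab]
    field_simp
    ring
  · by_cases hkb : k = b
    · subst hkb
      simp [hab, Ne.symm hab]
      field_simp
      ring
    · simp [hka, hkb]

end scale


section diag

variable [Fintype F]

theorem hypPair_plus' (m : ℕ) (j : Fin m) :
    IsHypPair (QfPlus m F) (Sum.inl j) (Sum.inr j) := by
  classical
  intro x s t
  simp only [QfPlus_coe, Cfsg.quadFormPlus, Pi.add_apply, Pi.smul_apply, Pi.single_apply, smul_eq_mul,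
    Sum.inl.injEq, Sum.inr.injEq, reduceCtorEq, if_false, mul_zero, add_zero, mul_ite, mul_one]
  have : ∀ k : Fin m, (x (Sum.inl k) + if k = j then s else 0) * (x (Sum.inr k) + if k = j then t else 0)
      = x (Sum.inl k) * x (Sum.inr k) + ((if k = j then s * x (Sum.inr k) else 0) +
        (if k = j then t * x (Sum.inl k) else 0) + (if k = j then s * t else 0)) := by
    intro k
    split_ifs <;> ring
  simp only [this, Finset.sum_add_distrib, Finset.sum_ite_eq', Finset.mem_univ, if_true]
  ring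

/-- the vector `e_j - μ f_j` -/
def pv (j : Fin m) (μ : F) : Fin m ⊕ Fin m → F :=
  Pi.single (Sum.inl j) 1 - μ • Pi.single (Sum.inr j) 1

theorem Q_pv (j : Fin m) (μ : F) (hμ : μ ≠ 0) : QfPlus m F (pv j μ) = -μ :=
  (scalePair (QfPlus m F) (by simp) (hypPair_plus' m j) μ hμ).1

theorem Q_pv_ne (j : Fin m) (μ : F) (hμ : μ ≠ 0) : QfPlus m F (pv j μ) ≠ 0 := by
  rw [Q_pv j μ hμ]; exact neg_ne_zero.2 hμ

/-- the entries of the diagonal matrix scaling the `j`-th hyperbolic pair -/
def dfun (j : Fin m) (μ : F) : Fin m ⊕ Fin m → F :=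
  fun k => if k = Sum.inl j then μ else if k = Sum.inr j then μ⁻¹ else 1

/-- the isometry scaling the `j`-th hyperbolic pair -/
noncomputable def pj (j : Fin m) (μ : F) (hμ : μ ≠ 0) : ↥(Cfsg.isometryGroup F ⇑(QfPlus m F)) :=
  reflO (QfPlus m F) (pv j 1) (Q_pv_ne j 1 one_ne_zero) * reflO (QfPlus m F) (pv j μ) (Q_pv_ne j μ hμ)

theorem pj_val (j : Fin m) (μ : F) (hμ : μ ≠ 0) :
    ((pj j μ hμ : GL (Fin m ⊕ Fin m) F) : Matrix (Fin m ⊕ Fin m) (Fin m ⊕ Fin m) F) =
      Matrix.diagonal (dfun j μ) := by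
  simp only [pj, Subgroup.coe_mul, Units.val_mul, reflO_val]
  exact (scalePair (QfPlus m F) (by simp) (hypPair_plus' m j) μ hμ).2

theorem pj_mul (j : Fin m) (μ ν : F) (hμ : μ ≠ 0) (hν : ν ≠ 0) :
    pj j μ hμ * pj j ν hν = pj j (μ * ν) (mul_ne_zero hμ hν) := by
  apply Subtype.ext
  apply Units.ext
  simp only [Subgroup.coe_mul, Units.val_mul, pj_val, Matrix.diagonal_mul_diagonal]
  congr 1
  funext k
  simp only [dfun]
  split_ifs
  · rfl
  · rw [mul_inv]
  · ring

theorem pj_one (j : Fin m) : pj j (1 : F) one_ne_zero = 1 := by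
  apply Subtype.ext
  apply Units.ext
  rw [pj_val]
  simp only [Subgroup.coe_one, Units.val_one]
  rw [← Matrix.diagonal_one]
  congr 1
  funext k
  simp only [dfun]
  split_ifs <;> simp

/-- squares scale into `Ω` -/
theorem pj_sq_mem_Omega (j : Fin m) (ν : F) (hν : ν ≠ 0) :
    pj j (ν * ν) (mul_ne_zero hν hν) ∈ Cfsg.Omega F ⇑(QfPlus m F) := by
  set s := reflO (QfPlus m F) (pv j 1) (Q_pv_ne j 1 one_ne_zero) with hs
  set r := reflO (QfPlus m F) (pv j ν⁻¹) (Q_pv_ne j ν⁻¹ (inv_ne_zero hν)) with hr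
  have hss : s * s = 1 := reflO_mul_self _ _ _
  have hrr : r * r = 1 := reflO_mul_self _ _ _
  have hsi : s⁻¹ = s := reflO_inv _ _ _
  have hri : r⁻¹ = r := reflO_inv _ _ _
  have hp : pj j ν⁻¹ (inv_ne_zero hν) = s * r := rfl
  have hpinv : (pj j ν⁻¹ (inv_ne_zero hν))⁻¹ = pj j ν hν := by
    apply inv_eq_of_mul_eq_one_right
    rw [pj_mul]
    have : ν⁻¹ * ν = 1 := inv_mul_cancel₀ hν
    simp only [this]
    exact pj_one j
  have key : pj j (ν * ν) (mul_ne_zero hν hν) = ⁅s, pj j ν⁻¹ (inv_ne_zero hν)⁆ := by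
    rw [← pj_mul j ν ν hν hν, ← hpinv, hp, commutatorElement_def, _root_.mul_inv_rev, hsi, hri]
    calc r * s * (r * s) = 1 * (r * s * (r * s)) := by rw [one_mul]
      _ = (s * s) * (r * s * (r * s)) := by rw [hss]
      _ = s * (s * r) * s * (r * s) := by simp only [mul_assoc]
  rw [key]
  exact Subgroup.commutator_mem_commutator (Subgroup.mem_top _) (Subgroup.mem_top _)

theorem list_prod_diagonal {α ι : Type*} [Fintype ι] [DecidableEq ι] (l : List α) (d : α → ι → F) :
    (l.map (fun j => Matrix.diagonal (d j))).prod =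
      Matrix.diagonal (fun k => (l.map (fun j => d j k)).prod) := by
  induction l with
  | nil => simp
  | cons a l ih =>
    rw [List.map_cons, List.prod_cons, ih, Matrix.diagonal_mul_diagonal]
    simp

/-- the diagonal element of `GL` -/
def diagGL (D : Fin m → F) (hD : ∀ j, D j ≠ 0) : GL (Fin m) F :=
  ⟨Matrix.diagonal D, Matrix.diagonal (fun j => (D j)⁻¹),
    by
      rw [Matrix.diagonal_mul_diagonal, ← Matrix.diagonal_one]
      congr 1
      funext j
      exact mul_inv_cancel₀ (hD j),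
    by
      rw [Matrix.diagonal_mul_diagonal, ← Matrix.diagonal_one]
      congr 1
      funext j
      exact inv_mul_cancel₀ (hD j)⟩

theorem embGL_diag (D : Fin m → F) (hD : ∀ j, D j ≠ 0) :
    embGL (diagGL D hD) = ((List.finRange m).map (fun j => pj j (D j) (hD j))).prod := by
  apply Subtype.ext
  apply Units.ext
  rw [embGL_val]
  have h1 : ((((List.finRange m).map (fun j => pj j (D j) (hD j))).prod :
      ↥(Cfsg.isometryGroup F ⇑(QfPlus m F))) : GL (Fin m ⊕ Fin m) F).1 =
      ((List.finRange m).map (fun j => Matrix.diagonal (dfun j (D j)))).prod := by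
    generalize List.finRange m = l
    induction l with
    | nil => simp
    | cons a l ih =>
      simp only [List.map_cons, List.prod_cons, Subgroup.coe_mul, Units.val_mul]
      rw [pj_val]
      congr 1
  rw [h1, list_prod_diagonal]
  have h2 : ((diagGL D hD)⁻¹ : GL (Fin m) F).1 = Matrix.diagonal (fun j => (D j)⁻¹) := rfl
  have h3 : ((diagGL D hD : GL (Fin m) F) : Matrix (Fin m) (Fin m) F) = Matrix.diagonal D := rfl
  rw [h2, h3, Matrix.diagonal_transpose, Matrix.fromBlocks_diagonal]
  congr 1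
  funext k
  rw [← Fin.prod_univ_def]
  rcases k with j0 | j0
  · simp only [Sum.elim_inl, dfun, Sum.inl.injEq, reduceCtorEq, if_false]
    rw [Finset.prod_eq_single j0]
    · simp
    · intro b _ hb; simp [Ne.symm hb]
    · intro h; exact absurd (Finset.mem_univ _) h
  · simp only [Sum.elim_inr, dfun, Sum.inr.injEq, reduceCtorEq, if_false]
    rw [Finset.prod_eq_single j0]
    · simp
    · intro b _ hb; simp [Ne.symm hb]
    · intro h; exact absurd (Finset.mem_univ _) h


theorem embGL_diag_mem_iff (D : Fin m → F) (hD : ∀ j, D j ≠ 0) :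
    embGL (diagGL D hD) ∈ Cfsg.Omega F ⇑(QfPlus m F) ↔ IsSquare (∏ j, D j) := by
  rw [embGL_diag]
  by_cases h2 : (2 : F) = 0
  · have hchar : ringChar F = 2 := CharP.ringChar_of_prime_eq_zero Nat.prime_two (by exact_mod_cast h2)
    have hsq : ∀ a : F, IsSquare a := FiniteField.isSquare_of_char_two hchar
    refine ⟨fun _ => hsq _, fun _ => ?_⟩
    apply Subgroup.list_prod_mem
    intro x hx
    obtain ⟨j, -, rfl⟩ := List.mem_map.1 hx
    obtain ⟨ν, hν⟩ := hsq (D j)
    have hν0 : ν ≠ 0 := by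
      rintro rfl
      exact hD j (by rw [hν, mul_zero])
    have : pj j (D j) (hD j) = pj j (ν * ν) (mul_ne_zero hν0 hν0) := by
      congr 1
    rw [this]
    exact pj_sq_mem_Omega j ν hν0
  · set g : Fin m → List (NS (QfPlus m F)) := fun j =>
      [⟨pv j 1, Q_pv_ne j 1 one_ne_zero⟩, ⟨pv j (D j), Q_pv_ne j (D j) (hD j)⟩] with hg
    have hind : ∀ l : List (Fin m),
        prodO (QfPlus m F) (l.flatMap g) = (l.map (fun j => pj j (D j) (hD j))).prod ∧
        (l.flatMap g).length = 2 * l.length ∧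
        normProd (QfPlus m F) (l.flatMap g) = (l.map D).prod := by
      intro l
      induction l with
      | nil => simp [prodO_nil, normProd]
      | cons a l ih =>
        obtain ⟨ih1, ih2, ih3⟩ := ih
        refine ⟨?_, ?_, ?_⟩
        · rw [List.flatMap_cons, hg]
          simp only [List.cons_append, List.nil_append, List.map_cons, List.prod_cons]
          rw [prodO_cons, prodO_cons, ih1, ← mul_assoc]
          rfl
        · rw [List.flatMap_cons, List.length_append, ih2, hg]
          simp only [List.length_cons, List.length_nil]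
          ring
        · rw [List.flatMap_cons, hg]
          simp only [List.cons_append, List.nil_append, List.map_cons, List.prod_cons]
          simp only [normProd, List.map_cons, List.prod_cons] at ih3 ⊢
          rw [ih3, Q_pv a 1 one_ne_zero, Q_pv a (D a) (hD a)]
          ring
    obtain ⟨h1, h2', h3⟩ := hind (List.finRange m)
    rw [← h1, prodO_mem_Omega_iff (QfPlus m F) h2, h2', h3, ← Fin.prod_univ_def]
    constructor
    · intro h; exact h.2
    · intro h; exact ⟨⟨(List.finRange m).length, by ring⟩, h⟩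

end diag

end Cfsg.Agent.Helper28.Spin
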