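import Mathlib
import Cfsg.Agent.Helper28.QPlus4
import Cfsg.Agent.Helper28.Spin9

set_option autoImplicit false
set_option linter.unusedSectionVars false

/-! Transitivity of products of norm-one reflections on maximal totally singular subspaces. -/

namespace Cfsg.Agent.Helper28.QPlus

open Module Submodule Matrix Cfsg.Agent.Helper28.Spin

variable {F : Type*} [Field F] {m : ℕ}

theorem refl_eq_reflO (a : Vm m F) (ha : Cfsg.quadFormPlus m F a ≠ 0) :
    refl a ha = reflO (QfPlus m F) a ha := by
  apply Subtype.ext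
  apply Units.ext
  apply matrix_ext_mulVec
  intro v
  change reflM a *ᵥ v = Cfsg.reflectionMatrix ⇑(QfPlus m F) a *ᵥ v
  rw [reflM_mulVec, refl_mulVec, polar_QfPlus, pB_comm]
  rfl

/-- a norm-one reflection improving the intersection with `W` -/
theorem exists_refl_improve' {U W : Submodule F (Vm m F)} (hU : IsMax m U) (hW : IsMax m W)
    (hne : U ≠ W) :
    ∃ (a : Vm m F) (ha : Cfsg.quadFormPlus m F a ≠ 0), Cfsg.quadFormPlus m F a = 1 ∧
      finrank F ↥(W ⊓ U) < finrank F ↥(W ⊓ act (refl a ha) U) := by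
  obtain ⟨w, hwU, hwW⟩ : ∃ w, w ∈ U ∧ w ∉ W := by
    by_contra hcon
    push Not at hcon
    exact hne (hU.eq_of_le hW hcon)
  obtain ⟨x0, hx0W, hx0w⟩ : ∃ x, x ∈ W ∧ pB m F x w ≠ 0 := by
    by_contra hcon
    push Not at hcon
    apply hwW
    rw [← hW.orth_eq, LinearMap.BilinForm.mem_orthogonal_iff]
    intro n hn
    exact hcon n hn
  -- normalise so that `pB x w = -1`
  set x : Vm m F := (-(pB m F x0 w)⁻¹) • x0 with hx
  have hxW : x ∈ W := W.smul_mem _ hx0W
  have hxw : pB m F x w = -1 := by
    rw [hx, map_smul, LinearMap.smul_apply, smul_eq_mul]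
    field_simp
  have hxw0 : pB m F x w ≠ 0 := by rw [hxw]; simp
  have hxU : x ∉ U := fun h => hxw0 (pB_eq_zero_of_TS U hU.2 x w h hwU)
  set a := w - x with ha_def
  have hQw : Cfsg.quadFormPlus m F w = 0 := hU.2 w hwU
  have hQx : Cfsg.quadFormPlus m F x = 0 := hW.2 x hxW
  have hQa : Cfsg.quadFormPlus m F a = 1 := by
    have : a = w + (-1 : F) • x := by rw [ha_def]; module
    rw [this, Q_add, Q_smul, hQw, hQx, map_smul, smul_eq_mul, pB_comm w x, hxw]
    ring
  have ha : Cfsg.quadFormPlus m F a ≠ 0 := by rw [hQa]; exact one_ne_zero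
  have hBwa : pB m F w a = 1 := by
    rw [ha_def, map_sub, pB_self, hQw, pB_comm w x, hxw]
    ring
  refine ⟨a, ha, hQa, ?_⟩
  have hrw : reflM a *ᵥ w = x := by
    rw [reflM_mulVec, hBwa, hQa, inv_one, one_mul, one_smul, ha_def]
    abel
  have hfix : ∀ v ∈ W ⊓ U, reflM a *ᵥ v = v := by
    rintro v ⟨hvW, hvU⟩
    apply refl_fix
    rw [ha_def, map_sub, pB_eq_zero_of_TS U hU.2 v w hvU hwU,
      pB_eq_zero_of_TS W hW.2 v x hvW hxW, sub_zero]
  have hle : (W ⊓ U) ⊔ span F {x} ≤ W ⊓ act (refl a ha) U := by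
    rw [sup_le_iff, Submodule.span_singleton_le_iff_mem]
    constructor
    · intro v hv
      refine Submodule.mem_inf.mpr ⟨hv.1, ?_⟩
      rw [mem_act_iff]
      exact ⟨v, hv.2, by rw [mat_refl]; exact hfix v hv⟩
    · refine Submodule.mem_inf.mpr ⟨hxW, ?_⟩
      rw [mem_act_iff]
      exact ⟨w, hwU, by rw [mat_refl]; exact hrw⟩
  have h1 := Submodule.finrank_mono hle
  rw [finrank_sup_span_singleton _ x (fun h => hxU (Submodule.mem_inf.mp h).2)] at h1
  omega

section fin

variable [Fintype F]

/-- nonsingular vectors -/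
abbrev NSq (m : ℕ) (F : Type*) [Field F] : Type _ := {a : Vm m F // Cfsg.quadFormPlus m F a ≠ 0}

/-- product of reflections -/
noncomputable def prodR (L : List (NSq m F)) : OQ m F := (L.map (fun v => refl v.1 v.2)).prod

theorem prodR_nil : prodR ([] : List (NSq m F)) = 1 := rfl

theorem prodR_cons (v : NSq m F) (L : List (NSq m F)) : prodR (v :: L) = refl v.1 v.2 * prodR L := by
  simp [prodR]

theorem prodR_append (L₁ L₂ : List (NSq m F)) : prodR (L₁ ++ L₂) = prodR L₁ * prodR L₂ := by
  simp [prodR]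

theorem prodR_eq (L : List (NSq m F)) :
    prodR L = (prodO (QfPlus m F) (L : List (NS (QfPlus m F))) : OQ m F) := by
  induction L with
  | nil => rfl
  | cons v L ih =>
    rw [prodR_cons, ih, refl_eq_reflO]
    exact (prodO_cons (QfPlus m F) (v : NS (QfPlus m F)) (L : List (NS (QfPlus m F)))).symm

theorem act_one (U : Submodule F (Vm m F)) : act (1 : OQ m F) U = U := by
  unfold act
  have : Matrix.mulVecLin (mat (1 : OQ m F)) = LinearMap.id := by
    apply LinearMap.ext
    intro v
    simp [mat_one]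
  rw [this, Submodule.map_id]

/-- a product of norm-one reflections carrying `U` to `W` -/
theorem exists_path (W : Submodule F (Vm m F)) (hW : IsMax m W) :
    ∀ (n : ℕ) (U : Submodule F (Vm m F)), IsMax m U → m - finrank F ↥(W ⊓ U) = n →
      ∃ L : List (NSq m F), (∀ v ∈ L, Cfsg.quadFormPlus m F v.1 = 1) ∧ act (prodR L) U = W := by
  intro n
  induction n using Nat.strong_induction_on with
  | _ n ih =>
    intro U hU hn
    by_cases hUW : U = W
    · refine ⟨[], by simp, ?_⟩
      rw [prodR_nil, hUW, act_one]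
    · obtain ⟨a, ha, hQa, hlt⟩ := exists_refl_improve' hU hW hUW
      set U' := act (refl a ha) U with hU'
      have hU'max : IsMax m U' := isMax_act _ hU
      have hle : finrank F ↥(W ⊓ U') ≤ m := by
        have := Submodule.finrank_mono (inf_le_left : W ⊓ U' ≤ W)
        rw [hW.1] at this
        exact this
      obtain ⟨L', hL'1, hL'2⟩ := ih (m - finrank F ↥(W ⊓ U')) (by omega) U' hU'max rfl
      refine ⟨L' ++ [⟨a, ha⟩], ?_, ?_⟩
      · intro v hv
        rcases List.mem_append.1 hv with h | h
        · exact hL'1 v h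
        · rw [List.mem_singleton] at h
          rw [h]; exact hQa
      · rw [prodR_append, act_mul]
        have : prodR [(⟨a, ha⟩ : NSq m F)] = refl a ha := by
          simp [prodR]
        rw [this, ← hU']
        exact hL'2

theorem chi_one : chi (1 : OQ m F) = 0 := by
  have := chi_mul (1 : OQ m F) 1
  rw [one_mul] at this
  exact left_eq_add.mp this

theorem chi_prodR (L : List (NSq m F)) : chi (prodR L) = (L.length : ZMod 2) := by
  induction L with
  | nil =>
    rw [prodR_nil, chi_one]
    simp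
  | cons v L ih =>
    rw [prodR_cons, chi_mul, ih, chi_refl]
    simp only [List.length_cons, Nat.cast_add, Nat.cast_one]
    ring

theorem chi_eq_zero_of_act {g : OQ m F} {U : Submodule F (Vm m F)} (hU : IsMax m U)
    (he : Even (m - finrank F ↥(U ⊓ act g U))) : chi g = 0 := by
  have hE := isMax_E (F := F) (m := m)
  have hgU := isMax_act g hU
  have hgE := isMax_act g hE
  -- par(gE, gU) = par(E, U)
  have h1 : finrank F ↥(act g (E m F) ⊓ act g U) = finrank F ↥(E m F ⊓ U) := by
    rw [← act_inf, finrank_act]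
  have t1 := parity_aux _ U (act g U) hU hgU rfl (E m F) hE
  have t2 := parity_aux _ (act g U) (act g (E m F)) hgU hgE rfl (E m F) hE
  rw [inf_comm (act g U) (act g (E m F)), h1] at t2
  unfold chi
  rw [zmod2_even]
  rw [Nat.even_add, Nat.even_add] at t1 t2
  rcases Nat.even_or_odd (m - finrank F ↥(E m F ⊓ U)) with h | h <;>
    rcases Nat.even_or_odd (m - finrank F ↥(E m F ⊓ act g U)) with h' | h' <;>
    simp_all [Nat.not_even_iff_odd]

end fin

end Cfsg.Agent.Helper28.QPlus
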