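import Mathlib
import Cfsg.Agent.Helper28.QPlus5

set_option autoImplicit false
set_option linter.unusedSectionVars false

/-! Products of two reflections lie in `Ω` (characteristic two, hyperbolic form). -/

namespace Cfsg.Agent.Helper28.QPlus

open Module Submodule Matrix Cfsg.Agent.Helper28.Spin
open scoped commutatorElement

variable {F : Type*} [Field F] {m : ℕ}

theorem comm_mem_Om (g h : OQ m F) : ⁅g, h⁆ ∈ Cfsg.Omega F (Cfsg.quadFormPlus m F) :=
  Subgroup.commutator_mem_commutator (Subgroup.mem_top _) (Subgroup.mem_top _)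

theorem refl_mul_self (a : Vm m F) (ha : Cfsg.quadFormPlus m F a ≠ 0) :
    refl a ha * refl a ha = 1 := by
  apply Subtype.ext
  apply Units.ext
  exact reflM_sq a ha

theorem refl_inv (a : Vm m F) (ha : Cfsg.quadFormPlus m F a ≠ 0) : (refl a ha)⁻¹ = refl a ha :=
  inv_eq_of_mul_eq_one_left (refl_mul_self a ha)

theorem refl_conj (h : OQ m F) (a : Vm m F) (ha : Cfsg.quadFormPlus m F a ≠ 0)
    (ha' : Cfsg.quadFormPlus m F (mat h *ᵥ a) ≠ 0) :
    h * refl a ha * h⁻¹ = refl (mat h *ᵥ a) ha' := by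
  rw [mul_inv_eq_iff_eq_mul]
  apply Subtype.ext
  apply Units.ext
  apply matrix_ext_mulVec
  intro v
  change (mat h * reflM a) *ᵥ v = (reflM (mat h *ᵥ a) * mat h) *ᵥ v
  rw [← Matrix.mulVec_mulVec, ← Matrix.mulVec_mulVec, reflM_mulVec, reflM_mulVec, Q_mat, pB_mat,
    Matrix.mulVec_sub, Matrix.mulVec_smul]

theorem refl_mul_refl_of_move (h : OQ m F) (a b : Vm m F) (ha : Cfsg.quadFormPlus m F a ≠ 0)
    (hb : Cfsg.quadFormPlus m F b ≠ 0) (hab : mat h *ᵥ a = b) :
    refl a ha * refl b hb ∈ Cfsg.Omega F (Cfsg.quadFormPlus m F) := by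
  subst hab
  have e : refl a ha * refl (mat h *ᵥ a) hb = ⁅refl a ha, h⁆ := by
    rw [← refl_conj h a ha hb, commutatorElement_def, refl_inv]
    group
  rw [e]
  exact comm_mem_Om _ _

theorem refl_smul' (a : Vm m F) (ha : Cfsg.quadFormPlus m F a ≠ 0) (t : F) (ht : t ≠ 0)
    (hta : Cfsg.quadFormPlus m F (t • a) ≠ 0) : refl (t • a) hta = refl a ha := by
  apply Subtype.ext
  apply Units.ext
  apply matrix_ext_mulVec
  intro v
  change reflM (t • a) *ᵥ v = reflM a *ᵥ v
  rw [reflM_mulVec, reflM_mulVec, Q_smul, map_smul, smul_eq_mul, smul_smul]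
  congr 2
  field_simp

theorem exists_nonorth (a b : Vm m F) (ha : a ≠ 0) (hb : b ≠ 0) :
    ∃ c, pB m F a c ≠ 0 ∧ pB m F b c ≠ 0 := by
  obtain ⟨x, hx⟩ : ∃ x, pB m F a x ≠ 0 := by
    by_contra hcon
    push Not at hcon
    exact ha (pB_nondeg.1 a hcon)
  obtain ⟨y, hy⟩ : ∃ y, pB m F b y ≠ 0 := by
    by_contra hcon
    push Not at hcon
    exact hb (pB_nondeg.1 b hcon)
  by_cases h1 : pB m F b x = 0
  · by_cases h3 : pB m F a y = 0
    · refine ⟨x + y, ?_, ?_⟩
      · rw [map_add, h3, add_zero]; exact hx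
      · rw [map_add, h1, zero_add]; exact hy
    · exact ⟨y, h3, hy⟩
  · exact ⟨x, hx, h1⟩

/-- large rank: a nonsingular vector in a coset of `⟨a, b⟩^⊥` -/
theorem exists_good_of_three (hm : 3 ≤ m) (a b c₀ : Vm m F) :
    ∃ e, pB m F e a = 0 ∧ pB m F e b = 0 ∧ Cfsg.quadFormPlus m F (c₀ + e) ≠ 0 := by
  set P := (pB m F).orthogonal (span F {a} ⊔ span F {b}) with hP
  have hmem : ∀ v, v ∈ P ↔ pB m F v a = 0 ∧ pB m F v b = 0 := by
    intro v
    rw [hP, orth_sup, Submodule.mem_inf, mem_orth_span_singleton, mem_orth_span_singleton]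
  have hfin : 2 * m - 2 ≤ finrank F P := by
    rw [hP, LinearMap.BilinForm.finrank_orthogonal pB_nondeg, finrank_Vm]
    have h1 := Submodule.finrank_add_le_finrank_add_finrank (span F {a}) (span F {b})
    have h3 : finrank F (span F {a}) ≤ 1 := by
      have := finrank_span_le_card (R := F) ({a} : Set (Vm m F))
      simpa using this
    have h4 : finrank F (span F {b}) ≤ 1 := by
      have := finrank_span_le_card (R := F) ({b} : Set (Vm m F))
      simpa using this
    omega
  obtain ⟨d, hd, d', hd', hdd⟩ : ∃ d ∈ P, ∃ d' ∈ P, pB m F d d' ≠ 0 := by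
    by_contra hcon
    push Not at hcon
    have hle : P ≤ (pB m F).orthogonal P := by
      intro v hv
      rw [LinearMap.BilinForm.mem_orthogonal_iff]
      intro n hn
      exact hcon n hn v hv
    have h1 := Submodule.finrank_mono hle
    have h5 : finrank F ↥((pB m F).orthogonal P) = 2 * m - finrank F ↥P := by
      rw [LinearMap.BilinForm.finrank_orthogonal pB_nondeg P, finrank_Vm]
    omega
  by_contra hall
  push Not at hall
  have e0 := hall 0 (by simp) (by simp)
  have e1 := hall d ((hmem d).1 hd).1 ((hmem d).1 hd).2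
  have e2 := hall d' ((hmem d').1 hd').1 ((hmem d').1 hd').2
  have hdd' := P.add_mem hd hd'
  have e3 := hall (d + d') ((hmem _).1 hdd').1 ((hmem _).1 hdd').2
  rw [add_zero] at e0
  rw [Q_add] at e1 e2 e3
  rw [Q_add d d', map_add] at e3
  apply hdd
  linear_combination e3 - e1 - e2 + e0

theorem exists_ne_ne [Fintype F] (h : 2 < Fintype.card F) (x y : F) : ∃ t : F, t ≠ x ∧ t ≠ y := by
  classical
  have hcard : ({x, y} : Finset F).card < (Finset.univ : Finset F).card := by
    rw [Finset.card_univ]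
    exact lt_of_le_of_lt Finset.card_le_two h
  obtain ⟨t, -, ht⟩ := Finset.exists_mem_notMem_of_card_lt_card hcard
  simp only [Finset.mem_insert, Finset.mem_singleton, not_or] at ht
  exact ⟨t, ht.1, ht.2⟩

section char2

variable (h2 : (2 : F) = 0)
include h2

theorem add_self_vec (v : Vm m F) : v + v = 0 := by
  rw [← two_smul F v, h2, zero_smul]

theorem pB_self_zero (v : Vm m F) : pB m F v v = 0 := by
  rw [pB_self, h2, zero_mul]

/-- adjacent (non-orthogonal) vectors of equal norm -/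
theorem refl_mul_refl_of_pB (a b : Vm m F) (ha : Cfsg.quadFormPlus m F a ≠ 0)
    (hb : Cfsg.quadFormPlus m F b ≠ 0) (hab : Cfsg.quadFormPlus m F a = Cfsg.quadFormPlus m F b)
    (hB : pB m F a b ≠ 0) : refl a ha * refl b hb ∈ Cfsg.Omega F (Cfsg.quadFormPlus m F) := by
  have hQ : Cfsg.quadFormPlus m F (a + b) = pB m F a b := by
    rw [Q_add, ← hab]
    have : Cfsg.quadFormPlus m F a + Cfsg.quadFormPlus m F a = 0 := by
      rw [← two_mul, h2, zero_mul]
    rw [this, zero_add]
  have hc : Cfsg.quadFormPlus m F (a + b) ≠ 0 := by rw [hQ]; exact hB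
  apply refl_mul_refl_of_move (refl (a + b) hc) a b ha hb
  rw [mat_refl, reflM_mulVec, hQ, map_add, pB_self_zero h2, zero_add, inv_mul_cancel₀ hB, one_smul]
  have := add_self_vec h2 b
  rw [sub_add_eq_sub_sub, sub_self, zero_sub]
  exact neg_eq_of_add_eq_zero_left this

section fin

variable [Fintype F]

/-- large field: a nonsingular vector on the line `c₀ + F a` -/
theorem exists_good_of_card (hq : 2 < Fintype.card F) (a c₀ : Vm m F)
    (ha : Cfsg.quadFormPlus m F a ≠ 0) :
    ∃ t : F, Cfsg.quadFormPlus m F (c₀ + t • a) ≠ 0 := by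
  by_cases h0 : Cfsg.quadFormPlus m F c₀ = 0
  · obtain ⟨t, ht0, ht1⟩ := exists_ne_ne hq (0 : F) (-(pB m F c₀ a) / Cfsg.quadFormPlus m F a)
    refine ⟨t, ?_⟩
    rw [Q_add, Q_smul, h0, map_smul, smul_eq_mul, zero_add]
    have : t ^ 2 * Cfsg.quadFormPlus m F a + t * pB m F c₀ a =
        t * Cfsg.quadFormPlus m F a * (t - (-(pB m F c₀ a) / Cfsg.quadFormPlus m F a)) := by
      field_simp
      ring
    rw [this]
    exact mul_ne_zero (mul_ne_zero ht0 ha) (sub_ne_zero.2 ht1)
  · exact ⟨0, by rw [zero_smul, add_zero]; exact h0⟩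

theorem exists_scale (x : Vm m F) (hx : Cfsg.quadFormPlus m F x ≠ 0) :
    ∃ t : F, t ≠ 0 ∧ Cfsg.quadFormPlus m F (t • x) = 1 := by
  have hchar : ringChar F = 2 :=
    CharP.ringChar_of_prime_eq_zero Nat.prime_two (by exact_mod_cast h2)
  obtain ⟨r, hr⟩ := FiniteField.isSquare_of_char_two hchar (Cfsg.quadFormPlus m F x)⁻¹
  have hr0 : r ≠ 0 := by
    rintro rfl
    rw [mul_zero, inv_eq_zero] at hr
    exact hx hr
  refine ⟨r, hr0, ?_⟩
  rw [Q_smul, pow_two, ← hr, inv_mul_cancel₀ hx]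

theorem eq_of_small (hq : Fintype.card F = 2) (a b : Vm 1 F)
    (ha : Cfsg.quadFormPlus 1 F a = 1) (hb : Cfsg.quadFormPlus 1 F b = 1) : a = b := by
  have key : ∀ x : F, x ≠ 0 → x = 1 := by
    intro x hx
    have := FiniteField.pow_card_sub_one_eq_one x hx
    rw [hq] at this
    simpa using this
  have hone : ∀ v : Vm 1 F, Cfsg.quadFormPlus 1 F v = 1 → v = fun _ => 1 := by
    intro v hv
    have h1 : v (Sum.inl 0) * v (Sum.inr 0) = 1 := by
      rw [← hv]
      simp [Cfsg.quadFormPlus]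
    have hl : v (Sum.inl 0) = 1 := key _ (left_ne_zero_of_mul_eq_one h1)
    have hr : v (Sum.inr 0) = 1 := key _ (right_ne_zero_of_mul_eq_one h1)
    funext s
    rcases s with i | i
    · rw [Subsingleton.elim i 0, hl]
    · rw [Subsingleton.elim i 0, hr]
  rw [hone a ha, hone b hb]

/-- norm-one case -/
theorem refl_mul_refl_one (hm : 1 ≤ m) (h : Fintype.card F ≠ 2 ∨ m ≠ 2) (a b : Vm m F)
    (ha : Cfsg.quadFormPlus m F a ≠ 0) (hb : Cfsg.quadFormPlus m F b ≠ 0)
    (ha1 : Cfsg.quadFormPlus m F a = 1) (hb1 : Cfsg.quadFormPlus m F b = 1) :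
    refl a ha * refl b hb ∈ Cfsg.Omega F (Cfsg.quadFormPlus m F) := by
  by_cases hB : pB m F a b = 0
  · by_cases hsmall : Fintype.card F = 2 ∧ m = 1
    · obtain ⟨hq, rfl⟩ := hsmall
      have hab := eq_of_small h2 hq a b ha1 hb1
      subst hab
      rw [refl_mul_self]
      exact Subgroup.one_mem _
    · have ha0 : a ≠ 0 := by
        rintro rfl
        exact ha Q_zero
      have hb0 : b ≠ 0 := by
        rintro rfl
        exact hb Q_zero
      obtain ⟨c₀, hc1, hc2⟩ := exists_nonorth a b ha0 hb0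
      obtain ⟨c, hcQ, hca, hcb⟩ : ∃ c, Cfsg.quadFormPlus m F c ≠ 0 ∧ pB m F a c ≠ 0 ∧
          pB m F b c ≠ 0 := by
        by_cases hq : 2 < Fintype.card F
        · obtain ⟨t, ht⟩ := exists_good_of_card h2 hq a c₀ ha
          refine ⟨c₀ + t • a, ht, ?_, ?_⟩
          · rw [map_add, map_smul, pB_self_zero h2, smul_zero, add_zero]; exact hc1
          · rw [map_add, map_smul, pB_comm b a, hB, smul_zero, add_zero]; exact hc2
        · have hq2 : Fintype.card F = 2 := by
            have : 1 < Fintype.card F := Fintype.one_lt_card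
            omega
          have hm3 : 3 ≤ m := by
            rcases h with h | h
            · exact absurd hq2 h
            · by_contra hlt
              apply hsmall
              exact ⟨hq2, by omega⟩
          obtain ⟨e, he1, he2, he3⟩ := exists_good_of_three hm3 a b c₀
          refine ⟨c₀ + e, he3, ?_, ?_⟩
          · rw [map_add, pB_comm a e, he1, add_zero]; exact hc1
          · rw [map_add, pB_comm b e, he2, add_zero]; exact hc2
      obtain ⟨t, ht0, ht1⟩ := exists_scale h2 c hcQ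
      have hc' : Cfsg.quadFormPlus m F (t • c) ≠ 0 := by rw [ht1]; exact one_ne_zero
      have e1 := refl_mul_refl_of_pB h2 a (t • c) ha hc' (by rw [ha1, ht1])
        (by rw [map_smul, smul_eq_mul]; exact mul_ne_zero ht0 hca)
      have e2 := refl_mul_refl_of_pB h2 (t • c) b hc' hb (by rw [hb1, ht1])
        (by rw [map_smul, LinearMap.smul_apply, smul_eq_mul, pB_comm c b]; exact mul_ne_zero ht0 hcb)
      have e3 := Subgroup.mul_mem _ e1 e2
      have : refl a ha * refl (t • c) hc' * (refl (t • c) hc' * refl b hb) = refl a ha * refl b hb := by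
        rw [mul_assoc, ← mul_assoc (refl (t • c) hc'), refl_mul_self, one_mul]
      rw [this] at e3
      exact e3
  · exact refl_mul_refl_of_pB h2 a b ha hb (by rw [ha1, hb1]) hB

/-- a product of two reflections lies in `Ω` -/
theorem refl_mul_refl_mem (hm : 1 ≤ m) (h : Fintype.card F ≠ 2 ∨ m ≠ 2) (a b : Vm m F)
    (ha : Cfsg.quadFormPlus m F a ≠ 0) (hb : Cfsg.quadFormPlus m F b ≠ 0) :
    refl a ha * refl b hb ∈ Cfsg.Omega F (Cfsg.quadFormPlus m F) := by
  obtain ⟨s, hs0, hs1⟩ := exists_scale h2 a ha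
  obtain ⟨t, ht0, ht1⟩ := exists_scale h2 b hb
  have ha' : Cfsg.quadFormPlus m F (s • a) ≠ 0 := by rw [hs1]; exact one_ne_zero
  have hb' : Cfsg.quadFormPlus m F (t • b) ≠ 0 := by rw [ht1]; exact one_ne_zero
  rw [← refl_smul' a ha s hs0 ha', ← refl_smul' b hb t ht0 hb']
  exact refl_mul_refl_one h2 hm h _ _ ha' hb' hs1 ht1

/-- even products of reflections lie in `Ω` -/
theorem prodR_mem_aux (hm : 1 ≤ m) (h : Fintype.card F ≠ 2 ∨ m ≠ 2) (L : List (NSq m F)) :
    (Even L.length → prodR L ∈ Cfsg.Omega F (Cfsg.quadFormPlus m F)) ∧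
    (¬ Even L.length → ∀ c : NSq m F,
      refl c.1 c.2 * prodR L ∈ Cfsg.Omega F (Cfsg.quadFormPlus m F)) := by
  induction L with
  | nil =>
    refine ⟨fun _ => ?_, fun hne => absurd (by simp) hne⟩
    rw [prodR_nil]
    exact Subgroup.one_mem _
  | cons a L ih =>
    rw [List.length_cons, Nat.even_add_one, not_not]
    refine ⟨fun hodd => ?_, fun hev c => ?_⟩
    · rw [prodR_cons]
      exact ih.2 hodd a
    · rw [prodR_cons, ← mul_assoc]
      exact Subgroup.mul_mem _ (refl_mul_refl_mem h2 hm h _ _ c.2 a.2) (ih.1 hev)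

theorem prodR_mem_Omega (hm : 1 ≤ m) (h : Fintype.card F ≠ 2 ∨ m ≠ 2) (L : List (NSq m F))
    (hL : Even L.length) : prodR L ∈ Cfsg.Omega F (Cfsg.quadFormPlus m F) :=
  (prodR_mem_aux h2 hm h L).1 hL

end fin

end char2

end Cfsg.Agent.Helper28.QPlus
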