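import Mathlib
import Cfsg.Agent.Helper28.QPlus6
import Cfsg.Agent.S2611

set_option autoImplicit false
set_option linter.unusedSectionVars false

/-! The stabiliser of the standard maximal totally singular subspace lies in `Ω`
(characteristic two). -/

namespace Cfsg.Agent.Helper28.QPlus

open Module Submodule Matrix Cfsg.Agent.Helper28.Spin
open scoped commutatorElement

variable {F : Type*} [Field F] {m : ℕ}

/-- alternating matrices -/
def IsAlt (S : Matrix (Fin m) (Fin m) F) : Prop := ∀ y : Fin m → F, y ⬝ᵥ S *ᵥ y = 0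

theorem IsAlt.add {S T : Matrix (Fin m) (Fin m) F} (hS : IsAlt S) (hT : IsAlt T) : IsAlt (S + T) := by
  intro y
  rw [Matrix.add_mulVec, dotProduct_add, hS y, hT y, add_zero]

theorem IsAlt.neg {S : Matrix (Fin m) (Fin m) F} (hS : IsAlt S) : IsAlt (-S) := by
  intro y
  rw [Matrix.neg_mulVec, dotProduct_neg, hS y, neg_zero]

theorem IsAlt.zero : IsAlt (0 : Matrix (Fin m) (Fin m) F) := by
  intro y
  simp

theorem IsAlt.smul {S : Matrix (Fin m) (Fin m) F} (hS : IsAlt S) (c : F) : IsAlt (c • S) := by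
  intro y
  rw [Matrix.smul_mulVec, dotProduct_smul, hS y, smul_zero]

theorem IsAlt.conj {S : Matrix (Fin m) (Fin m) F} (hS : IsAlt S) (A : Matrix (Fin m) (Fin m) F) :
    IsAlt (A * S * Aᵀ) := by
  intro y
  rw [← Matrix.mulVec_mulVec, ← Matrix.mulVec_mulVec, Matrix.dotProduct_mulVec,
    ← Matrix.mulVec_transpose]
  exact hS _

theorem uS_Q (S : Matrix (Fin m) (Fin m) F) (hS : IsAlt S) (v : Vm m F) :
    Cfsg.quadFormPlus m F (Matrix.fromBlocks 1 S 0 1 *ᵥ v) = Cfsg.quadFormPlus m F v := by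
  rw [Qplus_dot, Qplus_dot, Matrix.fromBlocks_mulVec]
  simp only [Matrix.one_mulVec, Matrix.zero_mulVec, zero_add, Sum.elim_comp_inl, Sum.elim_comp_inr]
  rw [add_dotProduct, dotProduct_comm (S *ᵥ (v ∘ Sum.inr)), hS, add_zero]

/-- the unipotent element `[[1, S], [0, 1]]` -/
noncomputable def uS (S : Matrix (Fin m) (Fin m) F) (hS : IsAlt S) : OQ m F :=
  ⟨⟨Matrix.fromBlocks 1 S 0 1, Matrix.fromBlocks 1 (-S) 0 1,
    by simp [Matrix.fromBlocks_multiply, Matrix.fromBlocks_one],
    by simp [Matrix.fromBlocks_multiply, Matrix.fromBlocks_one]⟩,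
    (IsoTransport.mem_isometryGroup_iff _ _).mpr (fun v => uS_Q S hS v)⟩

theorem mat_uS (S : Matrix (Fin m) (Fin m) F) (hS : IsAlt S) :
    mat (uS S hS) = Matrix.fromBlocks 1 S 0 1 := rfl

theorem uS_mul {S T : Matrix (Fin m) (Fin m) F} (hS : IsAlt S) (hT : IsAlt T) :
    uS S hS * uS T hT = uS (S + T) (hS.add hT) := by
  apply Subtype.ext
  apply Units.ext
  change Matrix.fromBlocks 1 S 0 1 * Matrix.fromBlocks 1 T 0 1 = Matrix.fromBlocks 1 (S + T) 0 1
  rw [Matrix.fromBlocks_multiply]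
  simp [add_comm]

theorem uS_congr {S T : Matrix (Fin m) (Fin m) F} (hS : IsAlt S) (hT : IsAlt T) (h : S = T) :
    uS S hS = uS T hT := by
  subst h
  rfl

theorem uS_zero : uS (0 : Matrix (Fin m) (Fin m) F) IsAlt.zero = 1 := by
  apply Subtype.ext
  apply Units.ext
  change Matrix.fromBlocks 1 (0 : Matrix (Fin m) (Fin m) F) 0 1 = 1
  rw [Matrix.fromBlocks_one]

theorem uS_inv {S : Matrix (Fin m) (Fin m) F} (hS : IsAlt S) :
    (uS S hS)⁻¹ = uS (-S) hS.neg := by
  apply inv_eq_of_mul_eq_one_right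
  rw [uS_mul, ← uS_zero]
  apply uS_congr
  rw [add_neg_cancel]

/-- the Levi element `diag(A, A⁻ᵀ)` in the `quadFormPlus` world -/
noncomputable def embO (A : GL (Fin m) F) : OQ m F := embGL A

theorem mat_embO (A : GL (Fin m) F) :
    mat (embO A) = Matrix.fromBlocks (A : Matrix (Fin m) (Fin m) F) 0 0
      ((A⁻¹ : GL (Fin m) F) : Matrix (Fin m) (Fin m) F)ᵀ := rfl

theorem embO_mul_uS (A : GL (Fin m) F) {S : Matrix (Fin m) (Fin m) F} (hS : IsAlt S) :
    embO A * uS S hS =
      uS ((A : Matrix (Fin m) (Fin m) F) * S * (A : Matrix (Fin m) (Fin m) F)ᵀ) (hS.conj _) *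
        embO A := by
  apply Subtype.ext
  apply Units.ext
  change Matrix.fromBlocks (A : Matrix (Fin m) (Fin m) F) 0 0
      ((A⁻¹ : GL (Fin m) F) : Matrix (Fin m) (Fin m) F)ᵀ * Matrix.fromBlocks 1 S 0 1 =
    Matrix.fromBlocks 1 ((A : Matrix (Fin m) (Fin m) F) * S * (A : Matrix (Fin m) (Fin m) F)ᵀ) 0 1 *
      Matrix.fromBlocks (A : Matrix (Fin m) (Fin m) F) 0 0
      ((A⁻¹ : GL (Fin m) F) : Matrix (Fin m) (Fin m) F)ᵀ
  rw [Matrix.fromBlocks_multiply, Matrix.fromBlocks_multiply]
  simp only [mul_one, mul_zero, zero_mul, add_zero, zero_add, one_mul]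
  congr 1
  rw [mul_assoc ((A : Matrix (Fin m) (Fin m) F) * S), ← Matrix.transpose_mul, ← Units.val_mul,
    inv_mul_cancel, Units.val_one, Matrix.transpose_one, mul_one]

theorem uS_comm_mem (A : GL (Fin m) F) {S : Matrix (Fin m) (Fin m) F} (hS : IsAlt S)
    {T : Matrix (Fin m) (Fin m) F} (hT : IsAlt T)
    (h : T = (A : Matrix (Fin m) (Fin m) F) * S * (A : Matrix (Fin m) (Fin m) F)ᵀ - S) :
    uS T hT ∈ Cfsg.Omega F (Cfsg.quadFormPlus m F) := by
  have e : uS T hT = ⁅embO A, uS S hS⁆ := by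
    rw [commutatorElement_def, embO_mul_uS, mul_assoc (uS _ _), mul_inv_cancel, mul_one, uS_inv,
      uS_mul]
    apply uS_congr
    rw [h, sub_eq_add_neg]
  rw [e]
  exact comm_mem_Om _ _

/-- large fields: scalars -/
theorem uS_mem_of_scalar (l : F) (hl0 : l ≠ 0) (hl1 : l * l ≠ 1) {S : Matrix (Fin m) (Fin m) F}
    (hS : IsAlt S) : uS S hS ∈ Cfsg.Omega F (Cfsg.quadFormPlus m F) := by
  have hd : l * l - 1 ≠ 0 := sub_ne_zero.2 hl1
  apply uS_comm_mem (diagGL (fun _ => l) (fun _ => hl0)) (hS.smul (l * l - 1)⁻¹) hS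
  ext i j
  change S i j = (((Matrix.diagonal fun _ => l) * ((l * l - 1)⁻¹ • S) *
    (Matrix.diagonal fun _ => l)ᵀ - (l * l - 1)⁻¹ • S : Matrix (Fin m) (Fin m) F)) i j
  rw [Matrix.diagonal_transpose, Matrix.sub_apply, Matrix.mul_diagonal, Matrix.diagonal_mul,
    Matrix.smul_apply, smul_eq_mul]
  have : l * ((l * l - 1)⁻¹ * S i j) * l - (l * l - 1)⁻¹ * S i j =
      (l * l - 1) * (l * l - 1)⁻¹ * S i j := by ring
  rw [this, mul_inv_cancel₀ hd, one_mul]

/-- elementary alternating matrices -/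
theorem isAlt_el (i j : Fin m) (c : F) :
    IsAlt (Matrix.single i j c - Matrix.single j i c) := by
  intro y
  rw [Matrix.sub_mulVec, dotProduct_sub, Matrix.single_mulVec, Matrix.single_mulVec]
  change y ⬝ᵥ Pi.single i (c * y j) - y ⬝ᵥ Pi.single j (c * y i) = 0
  rw [dotProduct_single, dotProduct_single]
  ring

theorem uS_el_mem (i j k : Fin m) (hij : i ≠ j) (hik : i ≠ k) (hkj : k ≠ j) (c : F) :
    uS (Matrix.single i j c - Matrix.single j i c) (isAlt_el i j c) ∈
      Cfsg.Omega F (Cfsg.quadFormPlus m F) := by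
  apply uS_comm_mem (tvGL i k hik c) (isAlt_el k j 1) (isAlt_el i j c)
  change _ = Matrix.transvection i k c * _ * (Matrix.transvection i k c)ᵀ - _
  simp only [Matrix.transvection, Matrix.transpose_add, Matrix.transpose_one, Matrix.transpose_single,
    add_mul, mul_add, one_mul, mul_one, sub_mul, mul_sub, Matrix.single_mul_single_same,
    Matrix.single_mul_single_of_ne _ _ _ _ (Ne.symm hij), Matrix.single_mul_single_of_ne _ _ _ _ (Ne.symm hik),
    Matrix.single_mul_single_of_ne _ _ _ _ (Ne.symm hkj), Matrix.single_mul_single_of_ne _ _ _ _ hkj,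
    Matrix.single_mul_single_of_ne _ _ _ _ hij, Matrix.single_mul_single_of_ne _ _ _ _ hik]
  simp only [mul_one, add_zero, zero_add, mul_zero, zero_mul, sub_zero, zero_sub]
  abel

/-- the alternating matrices `S` with `u(S) ∈ Ω` -/
def altOm (m : ℕ) (F : Type*) [Field F] : AddSubgroup (Matrix (Fin m) (Fin m) F) where
  carrier := {S | ∃ hS : IsAlt S, uS S hS ∈ Cfsg.Omega F (Cfsg.quadFormPlus m F)}
  zero_mem' := ⟨IsAlt.zero, by rw [uS_zero]; exact Subgroup.one_mem _⟩
  add_mem' := by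
    rintro S T ⟨hS, hS'⟩ ⟨hT, hT'⟩
    exact ⟨hS.add hT, by rw [← uS_mul hS hT]; exact Subgroup.mul_mem _ hS' hT'⟩
  neg_mem' := by
    rintro S ⟨hS, hS'⟩
    exact ⟨hS.neg, by rw [← uS_inv hS]; exact Subgroup.inv_mem _ hS'⟩

theorem IsAlt.diag {S : Matrix (Fin m) (Fin m) F} (hS : IsAlt S) (i : Fin m) : S i i = 0 := by
  have := hS (Pi.single i 1)
  rw [Matrix.mulVec_single_one, single_dotProduct, one_mul] at this
  exact this

theorem IsAlt.skew {S : Matrix (Fin m) (Fin m) F} (hS : IsAlt S) (i j : Fin m) :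
    S i j = - S j i := by
  have := hS (Pi.single i 1 + Pi.single j 1)
  rw [Matrix.mulVec_add, Matrix.mulVec_single_one, Matrix.mulVec_single_one, add_dotProduct,
    single_dotProduct, single_dotProduct, one_mul, one_mul] at this
  simp only [Pi.add_apply, Matrix.col_apply] at this
  rw [hS.diag, hS.diag] at this
  linear_combination this

theorem uS_mem_of_three (hm : 3 ≤ m) {S : Matrix (Fin m) (Fin m) F} (hS : IsAlt S) :
    uS S hS ∈ Cfsg.Omega F (Cfsg.quadFormPlus m F) := by
  classical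
  set R : Matrix (Fin m) (Fin m) F := Matrix.of (fun i j => if i < j then S i j else 0) with hR
  have hSR : S = R - Rᵀ := by
    ext a b
    rw [Matrix.sub_apply, Matrix.transpose_apply, hR, Matrix.of_apply, Matrix.of_apply]
    rcases lt_trichotomy a b with h | h | h
    · rw [if_pos h, if_neg (not_lt.2 h.le), sub_zero]
    · subst h
      rw [if_neg (lt_irrefl _), sub_zero, hS.diag]
    · rw [if_neg (not_lt.2 h.le), if_pos h, zero_sub]
      exact hS.skew a b
  have hsum : S = ∑ i, ∑ j, (Matrix.single i j (R i j) - Matrix.single j i (R i j)) := by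
    conv_lhs => rw [hSR]
    conv_lhs => rw [Matrix.matrix_eq_sum_single R]
    rw [Matrix.transpose_sum, ← Finset.sum_sub_distrib]
    apply Finset.sum_congr rfl
    intro i _
    rw [Matrix.transpose_sum, ← Finset.sum_sub_distrib]
    apply Finset.sum_congr rfl
    intro j _
    rw [Matrix.transpose_single]
  have hmem : S ∈ altOm m F := by
    rw [hsum]
    apply AddSubgroup.sum_mem
    intro i _
    apply AddSubgroup.sum_mem
    intro j _
    by_cases hij : i < j
    · have hne : i ≠ j := ne_of_lt hij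
      -- a third index
      have hcard : ({i, j} : Finset (Fin m)).card < (Finset.univ : Finset (Fin m)).card := by
        rw [Finset.card_pair hne, Finset.card_univ, Fintype.card_fin]
        omega
      obtain ⟨k, -, hk⟩ := Finset.exists_mem_notMem_of_card_lt_card hcard
      simp only [Finset.mem_insert, Finset.mem_singleton, not_or] at hk
      exact ⟨isAlt_el i j _, uS_el_mem i j k hne (Ne.symm hk.1) hk.2 _⟩
    · have : R i j = 0 := by rw [hR, Matrix.of_apply, if_neg hij]
      rw [this, Matrix.single_zero, Matrix.single_zero, sub_zero]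
      exact (altOm m F).zero_mem
  obtain ⟨hS', h⟩ := hmem
  exact h

/-- block decomposition of the stabiliser of `E` -/
theorem stab_decomp (g : OQ m F) (h : act g (E m F) = E m F) :
    ∃ (A : GL (Fin m) F) (S : Matrix (Fin m) (Fin m) F) (hS : IsAlt S), g = embO A * uS S hS := by
  classical
  set M := mat g with hM
  set A₀ := M.toBlocks₁₁ with hA
  set B₀ := M.toBlocks₁₂ with hB
  set D₀ := M.toBlocks₂₂ with hD
  have h21 : M.toBlocks₂₁ = 0 := by
    ext i j
    have h1 : M *ᵥ (Pi.single (Sum.inl j) 1) ∈ E m F := by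
      rw [← h, mem_act_iff]
      refine ⟨Pi.single (Sum.inl j) 1, ?_, rfl⟩
      rw [mem_E_iff]
      intro i
      simp
    rw [mem_E_iff] at h1
    have := h1 i
    rw [Matrix.mulVec_single_one] at this
    exact this
  have hMb : M = Matrix.fromBlocks A₀ B₀ 0 D₀ := by
    rw [← h21]
    exact (Matrix.fromBlocks_toBlocks M).symm
  have hAD : A₀ᵀ * D₀ = 1 := by
    ext j k
    have h1 := pB_mat g (Pi.single (Sum.inl j) 1) (Pi.single (Sum.inr k) 1)
    rw [pB_single_inr] at h1
    rw [pB_apply] at h1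
    simp only [Matrix.mulVec_single_one] at h1
    have h2 : ∀ i, (mat g).col (Sum.inl j) (Sum.inr i) = 0 := by
      intro i
      have := congrFun (congrFun h21 i) j
      exact this
    simp only [h2, zero_mul, add_zero] at h1
    rw [Matrix.mul_apply, Matrix.one_apply]
    simp only [Matrix.transpose_apply]
    have e1 : (Pi.single (Sum.inl j) (1 : F) : Vm m F) (Sum.inl k) = if j = k then 1 else 0 := by
      simp [Pi.single_apply, eq_comm]
    rw [e1] at h1
    exact h1
  have hDA : D₀ᵀ * A₀ = 1 := by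
    have := congrArg Matrix.transpose hAD
    rw [Matrix.transpose_mul, Matrix.transpose_transpose, Matrix.transpose_one] at this
    exact this
  have hAD' : A₀ * D₀ᵀ = 1 := mul_eq_one_comm.1 hDA
  set A : GL (Fin m) F := ⟨A₀, D₀ᵀ, hAD', hDA⟩ with hAdef
  set S : Matrix (Fin m) (Fin m) F := D₀ᵀ * B₀ with hSdef
  have hS : IsAlt S := by
    intro y
    have h1 := Q_mat g (Sum.elim 0 y)
    rw [← hM, hMb, Qplus_dot, Qplus_dot, Matrix.fromBlocks_mulVec] at h1
    simp only [Sum.elim_comp_inl, Sum.elim_comp_inr, Matrix.mulVec_zero, Matrix.zero_mulVec, zero_add,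
      zero_dotProduct] at h1
    rw [hSdef, ← Matrix.mulVec_mulVec, Matrix.mulVec_transpose, dotProduct_comm,
      ← Matrix.dotProduct_mulVec]
    exact h1
  refine ⟨A, S, hS, ?_⟩
  apply Subtype.ext
  apply Units.ext
  change M = Matrix.fromBlocks A₀ 0 0 D₀ᵀᵀ * Matrix.fromBlocks 1 S 0 1
  rw [Matrix.fromBlocks_multiply, hMb, Matrix.transpose_transpose]
  simp only [mul_one, mul_zero, zero_mul, add_zero, zero_add]
  congr 1
  rw [hSdef, ← mul_assoc, hAD', one_mul]

section fin

variable [Fintype F]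

theorem embO_mem_Omega (h2 : (2 : F) = 0) (hm : 1 ≤ m) (h : Fintype.card F ≠ 2 ∨ m ≠ 2)
    (A : GL (Fin m) F) : embO A ∈ Cfsg.Omega F (Cfsg.quadFormPlus m F) := by
  have hchar : ringChar F = 2 :=
    CharP.ringChar_of_prime_eq_zero Nat.prime_two (by exact_mod_cast h2)
  obtain ⟨g, hg, hgm⟩ := (Cfsg.Agent.S2611.result hm h A).2
    (FiniteField.isSquare_of_char_two hchar _)
  have : embO A = g := by
    apply Subtype.ext
    apply Units.ext
    rw [hgm]
    change Matrix.fromBlocks (A : Matrix (Fin m) (Fin m) F) 0 0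
      ((A⁻¹ : GL (Fin m) F) : Matrix (Fin m) (Fin m) F)ᵀ = _
    rw [Matrix.coe_units_inv]
  rw [this]
  exact hg

theorem uS_mem_Omega (h2 : (2 : F) = 0) (hm : 1 ≤ m) (h : Fintype.card F ≠ 2 ∨ m ≠ 2)
    {S : Matrix (Fin m) (Fin m) F} (hS : IsAlt S) :
    uS S hS ∈ Cfsg.Omega F (Cfsg.quadFormPlus m F) := by
  by_cases hm3 : 3 ≤ m
  · exact uS_mem_of_three hm3 hS
  · by_cases hm1 : m = 1
    · subst hm1
      have : S = 0 := by
        ext i j
        rw [Subsingleton.elim j i, hS.diag]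
        rfl
      subst this
      rw [uS_zero]
      exact Subgroup.one_mem _
    · have hm2 : m = 2 := by omega
      have hq : 2 < Fintype.card F := by
        have : 1 < Fintype.card F := Fintype.one_lt_card
        rcases h with h | h
        · omega
        · exact absurd hm2 h
      obtain ⟨l, hl0, hl1⟩ := exists_ne_ne hq (0 : F) 1
      apply uS_mem_of_scalar l hl0 _ hS
      intro hll
      apply hl1
      have h3 : (l + 1) * (l + 1) = 0 := by
        have : (l + 1) * (l + 1) = l * l + 2 * l + 1 := by ring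
        rw [this, hll, h2, zero_mul, add_zero, one_add_one_eq_two, h2]
      have h4 : l + 1 = 0 := by
        rcases mul_eq_zero.1 h3 with h | h <;> exact h
      have h5 : (1 : F) + 1 = 0 := by rw [one_add_one_eq_two, h2]
      linear_combination h4 - h5

/-- the stabiliser of `E` lies in `Ω` -/
theorem stab_le_Omega (h2 : (2 : F) = 0) (hm : 1 ≤ m) (h : Fintype.card F ≠ 2 ∨ m ≠ 2)
    (g : OQ m F) (hg : act g (E m F) = E m F) : g ∈ Cfsg.Omega F (Cfsg.quadFormPlus m F) := by
  obtain ⟨A, S, hS, rfl⟩ := stab_decomp g hg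
  exact Subgroup.mul_mem _ (embO_mem_Omega h2 hm h A) (uS_mem_Omega h2 hm h hS)

/-- the kernel of the class character is `Ω` -/
theorem mem_Omega_of_chi (h2 : (2 : F) = 0) (hm : 1 ≤ m) (h : Fintype.card F ≠ 2 ∨ m ≠ 2)
    (g : OQ m F) (hg : chi g = 0) : g ∈ Cfsg.Omega F (Cfsg.quadFormPlus m F) := by
  have hE := isMax_E (F := F) (m := m)
  obtain ⟨L, -, hL⟩ := exists_path (E m F) hE _ (act g (E m F)) (isMax_act g hE) rfl
  rw [← act_mul] at hL
  have h1 : chi (prodR L * g) = 0 := by
    unfold chi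
    rw [hL, inf_idem, hE.1, Nat.sub_self]
    rfl
  rw [chi_mul, hg, add_zero, chi_prodR, zmod2_even] at h1
  have h3 := prodR_mem_Omega h2 hm h L h1
  have h4 := stab_le_Omega h2 hm h _ hL
  have : g = (prodR L)⁻¹ * (prodR L * g) := by group
  rw [this]
  exact Subgroup.mul_mem _ (Subgroup.inv_mem _ h3) h4

end fin

end Cfsg.Agent.Helper28.QPlus
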