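import Mathlib
import Cfsg.Agent.Helper28.QPlus7
import Cfsg.Agent.Helper13.OrthEmbed

set_option autoImplicit false
set_option linter.unusedSectionVars false

/-! The Dickson invariant `rank (g - 1) mod 2` in characteristic two, via doubling. -/

namespace Cfsg.Agent.Helper28.Dickson

open Module Submodule Matrix Cfsg.Agent.Helper28.QPlus

section chi

variable {F : Type*} [Field F] {m : ℕ}

/-- the class character can be computed on any maximal totally singular subspace -/
theorem chi_eq_of_max (g : OQ m F) {U : Submodule F (Vm m F)} (hU : IsMax m U) :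
    chi g = ((m - finrank F ↥(U ⊓ act g U) : ℕ) : ZMod 2) := by
  have hE := isMax_E (F := F) (m := m)
  have hgU := isMax_act g hU
  have hgE := isMax_act g hE
  have h1 : finrank F ↥(act g U ⊓ act g (E m F)) = finrank F ↥(U ⊓ E m F) := by
    rw [← act_inf, finrank_act]
  have t1 := parity_aux _ U (act g U) hU hgU rfl (E m F) hE
  have t2 := parity_aux _ (act g U) (act g (E m F)) hgU hgE rfl (E m F) hE
  rw [h1, inf_comm U (E m F)] at t2
  rw [← zmod2_even] at t1 t2
  unfold chi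
  push_cast at t1 t2 ⊢
  have e : ∀ a b c d : ZMod 2, a + b + c = 0 → c + a + d = 0 → d = b := by decide
  exact e _ _ _ _ t1 t2

end chi

section transport

variable {F : Type*} [Field F]

/-- transport of a linear action preserving `QV` along a linear isometry to coordinates -/
theorem exists_transport {G : Type*} [Group G] {V : Type*} [AddCommGroup V] [Module F V]
    {I : Type} [Fintype I] [DecidableEq I]
    (ρ : G →* Module.End F V) (QV : V → F) (hQ : ∀ g v, QV (ρ g v) = QV v) (Q₀ : (I → F) → F)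
    (g₀ : V ≃ₗ[F] (I → F)) (hg₀ : ∀ v, Q₀ (g₀ v) = QV v) :
    ∃ φ : G →* ↥(Cfsg.isometryGroup F Q₀),
      ∀ g u, ((φ g : GL I F) : Matrix I I F) *ᵥ u = g₀ (ρ g (g₀.symm u)) := by
  classical
  let c : Module.End F V →* Matrix I I F :=
    ((LinearMap.toMatrixAlgEquiv' (R := F) (n := I)) : Module.End F (I → F) →* Matrix I I F).comp
      (g₀.conjRingEquiv : Module.End F V →* Module.End F (I → F))
  have hc : ∀ f : Module.End F V, ∀ u : I → F, c f *ᵥ u = g₀ (f (g₀.symm u)) := by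
    intro f u
    show LinearMap.toMatrix' (g₀.conj f) *ᵥ u = _
    rw [LinearMap.toMatrix'_mulVec, LinearEquiv.conj_apply]
    rfl
  let φ₀ : G →* GL I F := (c.comp ρ).toHomUnits
  have hφ₀ : ∀ g, ((φ₀ g : GL I F) : Matrix I I F) = c (ρ g) := fun g =>
    MonoidHom.coe_toHomUnits _ g
  have hmem : ∀ g, φ₀ g ∈ Cfsg.isometryGroup F Q₀ := by
    intro g u _
    show Q₀ (((φ₀ g : GL I F) : Matrix I I F) *ᵥ u) = Q₀ u
    rw [hφ₀, hc, hg₀, hQ, ← hg₀, LinearEquiv.apply_symm_apply]
  refine ⟨φ₀.codRestrict _ hmem, ?_⟩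
  intro g u
  show ((φ₀ g : GL I F) : Matrix I I F) *ᵥ u = _
  rw [hφ₀, hc]

end transport

section double

variable {F : Type*} [Field F] {ι : Type} [Fintype ι] [DecidableEq ι] (Q : QuadraticForm F (ι → F))

/-- the orthogonal sum `Q ⊕ Q` -/
noncomputable def Q2 : QuadraticForm F (ι ⊕ ι → F) :=
  Q.comp (LinearMap.funLeft F F Sum.inl) + Q.comp (LinearMap.funLeft F F Sum.inr)

theorem Q2_apply (v : ι ⊕ ι → F) : Q2 Q v = Q (v ∘ Sum.inl) + Q (v ∘ Sum.inr) := rfl

theorem polar_Q2 (x y : ι ⊕ ι → F) :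
    QuadraticMap.polar ⇑(Q2 Q) x y =
      QuadraticMap.polar ⇑Q (x ∘ Sum.inl) (y ∘ Sum.inl) +
        QuadraticMap.polar ⇑Q (x ∘ Sum.inr) (y ∘ Sum.inr) := by
  simp only [QuadraticMap.polar, Q2_apply]
  have e1 : (x + y) ∘ Sum.inl = x ∘ Sum.inl + y ∘ (Sum.inl : ι → ι ⊕ ι) := rfl
  have e2 : (x + y) ∘ Sum.inr = x ∘ Sum.inr + y ∘ (Sum.inr : ι → ι ⊕ ι) := rfl
  rw [e1, e2]
  ring

theorem Q2_nondeg (hQ : (QuadraticMap.polarBilin Q).Nondegenerate) :
    (QuadraticMap.polarBilin (Q2 Q)).Nondegenerate := by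
  have h : ∀ x : ι ⊕ ι → F, (∀ y, QuadraticMap.polar ⇑(Q2 Q) x y = 0) → x = 0 := by
    intro x hx
    have h1 : x ∘ Sum.inl = 0 := by
      apply hQ.1
      intro y₁
      have := hx (Sum.elim y₁ 0)
      rw [polar_Q2, Sum.elim_comp_inl, Sum.elim_comp_inr, QuadraticMap.polar_zero_right,
        add_zero] at this
      exact this
    have h2 : x ∘ Sum.inr = 0 := by
      apply hQ.1
      intro y₁
      have := hx (Sum.elim 0 y₁)
      rw [polar_Q2, Sum.elim_comp_inl, Sum.elim_comp_inr, QuadraticMap.polar_zero_right,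
        zero_add] at this
      exact this
    funext s
    rcases s with i | i
    · exact congrFun h1 i
    · exact congrFun h2 i
  constructor
  · intro x hx
    exact h x hx
  · intro y hy
    apply h y
    intro x
    rw [QuadraticMap.polar_comm]
    exact hy x

/-- the diagonal embedding -/
def diagL (ι : Type) (F : Type*) [Field F] : (ι → F) →ₗ[F] (ι ⊕ ι → F) :=
  LinearMap.funLeft F F (Sum.elim id id : ι ⊕ ι → ι)

theorem diagL_apply (v : ι → F) : diagL ι F v = Sum.elim v v := by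
  funext s
  rcases s with i | i <;> rfl

theorem diagL_injective : Function.Injective (diagL ι F) := by
  intro v w h
  rw [diagL_apply, diagL_apply] at h
  funext i
  have := congrFun h (Sum.inl i)
  simpa using this

/-- the action `g ⊕ 1` on the double -/
noncomputable def rho : ↥(Cfsg.isometryGroup F ⇑Q) →* Module.End F (ι ⊕ ι → F) where
  toFun g := Matrix.toLin' (Matrix.fromBlocks ((g : GL ι F) : Matrix ι ι F) 0 0 1)
  map_one' := by
    simp [Matrix.fromBlocks_one]
    rfl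
  map_mul' g h := by
    rw [Module.End.mul_eq_comp, ← Matrix.toLin'_mul, Matrix.fromBlocks_multiply]
    simp

theorem rho_apply (g : ↥(Cfsg.isometryGroup F ⇑Q)) (v : ι ⊕ ι → F) :
    rho Q g v = Sum.elim (((g : GL ι F) : Matrix ι ι F) *ᵥ (v ∘ Sum.inl))
      (v ∘ Sum.inr) := by
  show Matrix.toLin' _ v = _
  rw [Matrix.toLin'_apply, Matrix.fromBlocks_mulVec]
  simp

end double

section reflrank

variable {F : Type*} [Field F] {ι : Type} [Fintype ι] [DecidableEq ι] (Q : QuadraticForm F (ι → F))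

/-- `r_v - 1` has rank one -/
theorem rank_refl_sub_one (hQ : (QuadraticMap.polarBilin Q).Nondegenerate) (v : ι → F)
    (hv : Q v ≠ 0) : (Cfsg.reflectionMatrix ⇑Q v - 1).rank = 1 := by
  have hv0 : v ≠ 0 := by
    rintro rfl
    exact hv (map_zero Q)
  apply le_antisymm
  · have : Cfsg.reflectionMatrix ⇑Q v - 1 =
        Matrix.vecMulVec ((-(Q v)⁻¹) • v) (Cfsg.polarVec ⇑Q v) := by
      unfold Cfsg.reflectionMatrix
      rw [Matrix.smul_vecMulVec]
      simp
    rw [this]
    exact Matrix.rank_vecMulVec_le _ _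
  · obtain ⟨x, hx⟩ : ∃ x, QuadraticMap.polar ⇑Q v x ≠ 0 := by
      by_contra hcon
      push Not at hcon
      exact hv0 (hQ.1 v hcon)
    have hne : (Cfsg.reflectionMatrix ⇑Q v - 1) *ᵥ x ≠ 0 := by
      rw [Matrix.sub_mulVec, Matrix.one_mulVec, Cfsg.Agent.Helper28.Spin.refl_mulVec, sub_sub_cancel_left,
        neg_ne_zero]
      exact smul_ne_zero (mul_ne_zero (inv_ne_zero hv) hx) hv0
    unfold Matrix.rank
    rw [Nat.succ_le_iff, Module.finrank_pos_iff_exists_ne_zero]
    refine ⟨⟨(Cfsg.reflectionMatrix ⇑Q v - 1) *ᵥ x, ⟨x, rfl⟩⟩, ?_⟩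
    intro h0
    exact hne (congrArg Subtype.val h0)

end reflrank

section main

variable {F : Type*} [Field F] [Fintype F] {ι : Type} [Fintype ι] [DecidableEq ι]
  (Q : QuadraticForm F (ι → F))

theorem rho_Q2 (g : ↥(Cfsg.isometryGroup F ⇑Q)) (v : ι ⊕ ι → F) :
    Q2 Q (rho Q g v) = Q2 Q v := by
  rw [rho_apply, Q2_apply, Q2_apply, Sum.elim_comp_inl, Sum.elim_comp_inr,
    Cfsg.Agent.Helper28.Spin.isom_apply Q g]

/-- The Dickson invariant: `g ↦ rank (g - 1) mod 2` is a homomorphism on the orthogonal group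
(characteristic two, finite field, non-degenerate polar form). -/
theorem exists_dickson (h2 : (2 : F) = 0) (hQ : (QuadraticMap.polarBilin Q).Nondegenerate) :
    ∃ D : ↥(Cfsg.isometryGroup F ⇑Q) →* Multiplicative (ZMod 2),
      ∀ g, D g = Multiplicative.ofAdd
        (((((g : GL ι F) : Matrix ι ι F) - 1).rank : ℕ) : ZMod 2) := by
  classical
  set Δ : Submodule F (ι ⊕ ι → F) := LinearMap.range (diagL ι F) with hΔ
  have hΔfin : finrank F Δ = Fintype.card ι := by
    rw [hΔ, LinearMap.finrank_range_of_inj diagL_injective, Module.finrank_fintype_fun_eq_card]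
  have hΔts : ∀ w ∈ Δ, Q2 Q w = 0 := by
    rintro w ⟨v, rfl⟩
    rw [diagL_apply, Q2_apply, Sum.elim_comp_inl, Sum.elim_comp_inr, ← two_mul, h2, zero_mul]
  have hV : finrank F (ι ⊕ ι → F) = 2 * Fintype.card ι := by
    rw [Module.finrank_fintype_fun_eq_card, Fintype.card_sum]; ring
  obtain ⟨φ, hφ⟩ := Cfsg.Agent.Helper13.exists_isometry_plus hV (Q2 Q) (Q2_nondeg Q hQ) Δ hΔts hΔfin
  obtain ⟨Φ, hΦ⟩ := exists_transport (rho Q) (Q2 Q) (rho_Q2 Q) (Cfsg.quadFormPlus (Fintype.card ι) F) φ hφ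
  refine ⟨(chiHom (F := F) (m := Fintype.card ι)).comp Φ, ?_⟩
  intro g
  show Multiplicative.ofAdd (chi (Φ g)) = _
  congr 1
  set U : Submodule F (Vm (Fintype.card ι) F) := Δ.map (φ : (ι ⊕ ι → F) →ₗ[F] Vm (Fintype.card ι) F) with hU
  have hUmax : IsMax (Fintype.card ι) U := by
    refine ⟨?_, ?_⟩
    · rw [hU, LinearEquiv.finrank_map_eq, hΔfin]
    · rintro w ⟨d, hd, rfl⟩
      show Cfsg.quadFormPlus (Fintype.card ι) F (φ d) = 0
      rw [hφ]
      exact hΔts d hd
  rw [chi_eq_of_max (Φ g) hUmax]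
  set M : Matrix ι ι F := ((g : GL ι F) : Matrix ι ι F) with hM
  set K : Submodule F (ι → F) := LinearMap.ker (M - 1).mulVecLin with hK
  -- the image of `U`
  have hact : act (Φ g) U = (Δ.map (rho Q g)).map (φ : (ι ⊕ ι → F) →ₗ[F] Vm (Fintype.card ι) F) := by
    ext x
    rw [mem_act_iff]
    constructor
    · rintro ⟨u, ⟨d, hd, rfl⟩, rfl⟩
      refine ⟨rho Q g d, ⟨d, hd, rfl⟩, ?_⟩
      show φ (rho Q g d) = mat (Φ g) *ᵥ (φ d)
      rw [hΦ, LinearEquiv.symm_apply_apply]
    · rintro ⟨y, ⟨d, hd, rfl⟩, rfl⟩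
      refine ⟨φ d, ⟨d, hd, rfl⟩, ?_⟩
      show mat (Φ g) *ᵥ (φ d) = φ (rho Q g d)
      rw [hΦ, LinearEquiv.symm_apply_apply]
  have hinf : U ⊓ act (Φ g) U =
      (Δ ⊓ Δ.map (rho Q g)).map (φ : (ι ⊕ ι → F) →ₗ[F] Vm (Fintype.card ι) F) := by
    rw [hact, hU]
    exact (Submodule.map_inf _ φ.injective).symm
  have hKmem : ∀ v, v ∈ K ↔ M *ᵥ v = v := by
    intro v
    rw [hK, LinearMap.mem_ker, Matrix.mulVecLin_apply, Matrix.sub_mulVec, Matrix.one_mulVec,
      sub_eq_zero]
  have hfix : Δ ⊓ Δ.map (rho Q g) = K.map (diagL ι F) := by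
    ext x
    constructor
    · rintro ⟨⟨v, rfl⟩, ⟨y, ⟨w, rfl⟩, hy⟩⟩
      rw [rho_apply, diagL_apply, diagL_apply, Sum.elim_comp_inl, Sum.elim_comp_inr] at hy
      have h1 : M *ᵥ w = v := by
        funext i
        have := congrFun hy (Sum.inl i)
        simpa using this
      have h3 : w = v := by
        funext i
        have := congrFun hy (Sum.inr i)
        simpa using this
      subst h3
      exact ⟨w, (hKmem w).2 h1, rfl⟩
    · rintro ⟨v, hv, rfl⟩
      replace hv := (hKmem v).1 hv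
      refine ⟨⟨v, rfl⟩, ⟨diagL ι F v, ⟨v, rfl⟩, ?_⟩⟩
      rw [rho_apply, diagL_apply, Sum.elim_comp_inl, Sum.elim_comp_inr, hv]
  have hfin : finrank F ↥(U ⊓ act (Φ g) U) = finrank F K := by
    rw [hinf, LinearEquiv.finrank_map_eq, hfix]
    exact LinearEquiv.finrank_eq (Submodule.equivMapOfInjective _ diagL_injective K).symm
  have hrank : (M - 1).rank + finrank F K = Fintype.card ι := by
    have := LinearMap.finrank_range_add_finrank_ker (M - 1).mulVecLin
    rw [Module.finrank_fintype_fun_eq_card] at this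
    exact this
  rw [hfin]
  congr 1
  omega

end main

end Cfsg.Agent.Helper28.Dickson
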