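import Mathlib
import Cfsg.Agent.Helper28.CD2
import Cfsg.Agent.Helper28.Dickson

set_option autoImplicit false
set_option linter.unusedSectionVars false

/-! Characteristic two: `Ω` is the group of even products of reflections, of index two, the kernel
of the Dickson invariant. -/

namespace Cfsg.Agent.Helper28.CD2

open Module Submodule Matrix Cfsg.Agent.Helper28.Spin Cfsg.Agent.Helper28.IsoTransport

variable {F : Type*} [Field F] [Fintype F] {ι : Type} [Fintype ι] [DecidableEq ι]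
  (Q : QuadraticForm F (ι → F))

/-- the subgroup generated by the products of two reflections -/
def Rfl2 : Subgroup ↥(Cfsg.isometryGroup F ⇑Q) :=
  Subgroup.closure {g | ∃ u v : ι → F, Q u ≠ 0 ∧ Q v ≠ 0 ∧
    ((g : GL ι F) : Matrix ι ι F) = Cfsg.reflectionMatrix ⇑Q u * Cfsg.reflectionMatrix ⇑Q v}

theorem reflO_mul_mem_Rfl2 (u v : ι → F) (hu : Q u ≠ 0) (hv : Q v ≠ 0) :
    reflO Q u hu * reflO Q v hv ∈ Rfl2 Q :=
  Subgroup.subset_closure ⟨u, v, hu, hv, rfl⟩

theorem Rfl2_le_Omega (h2 : (2 : F) = 0) (hQ : (QuadraticMap.polarBilin Q).Nondegenerate)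
    (hcard : Fintype.card F ≠ 2 ∨ Fintype.card ι ≠ 4) : Rfl2 Q ≤ Cfsg.Omega F ⇑Q := by
  unfold Rfl2
  rw [Subgroup.closure_le]
  rintro g ⟨u, v, hu, hv, hg⟩
  have : g = reflO Q u hu * reflO Q v hv := Subtype.ext (Units.ext hg)
  rw [this]
  exact reflO_mul_reflO_mem Q h2 hQ hcard u v hu hv

instance Rfl2_normal : (Rfl2 Q).Normal := by
  constructor
  intro n hn g
  unfold Rfl2 at hn
  induction hn using Subgroup.closure_induction with
  | mem x hx =>
    obtain ⟨u, v, hu, hv, hx⟩ := hx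
    have e : x = reflO Q u hu * reflO Q v hv := Subtype.ext (Units.ext hx)
    have hu' : Q (((g : GL ι F) : Matrix ι ι F) *ᵥ u) ≠ 0 := by rw [isom_apply]; exact hu
    have hv' : Q (((g : GL ι F) : Matrix ι ι F) *ᵥ v) ≠ 0 := by rw [isom_apply]; exact hv
    have e2 : g * x * g⁻¹ = reflO Q _ hu' * reflO Q _ hv' := by
      rw [reflO_conj Q g u hu hu', reflO_conj Q g v hv hv', e]
      group
    rw [e2]
    exact reflO_mul_mem_Rfl2 Q _ _ _ _
  | one =>
    rw [mul_one, mul_inv_cancel]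
    exact Subgroup.one_mem _
  | mul a b _ _ iha ihb =>
    have : g * (a * b) * g⁻¹ = (g * a * g⁻¹) * (g * b * g⁻¹) := by group
    rw [this]
    exact Subgroup.mul_mem _ iha ihb
  | inv a _ iha =>
    have : g * a⁻¹ * g⁻¹ = (g * a * g⁻¹)⁻¹ := by group
    rw [this]
    exact Subgroup.inv_mem _ iha

/-- `Rfl2` has index at most two -/
theorem mem_or_mul_mem (h2 : (2 : F) = 0) (hQ : (QuadraticMap.polarBilin Q).Nondegenerate)
    (hcard : Fintype.card F ≠ 2 ∨ Fintype.card ι ≠ 4) (w : ι → F) (hw : Q w ≠ 0)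
    (g : ↥(Cfsg.isometryGroup F ⇑Q)) : g ∈ Rfl2 Q ∨ reflO Q w hw * g ∈ Rfl2 Q := by
  have hg : g ∈ Rfl Q := by rw [Rfl_eq_top Q h2 hQ hcard]; trivial
  set r := reflO Q w hw with hr
  have hrr : r * r = 1 := reflO_mul_self Q w hw
  have hrinv : r⁻¹ = r := reflO_inv Q w hw
  unfold Rfl at hg
  induction hg using Subgroup.closure_induction with
  | mem x hx =>
    obtain ⟨v, hv, hx⟩ := hx
    have e : x = reflO Q v hv := Subtype.ext (Units.ext hx)
    right
    rw [e]
    exact reflO_mul_mem_Rfl2 Q _ _ _ _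
  | one => exact Or.inl (Subgroup.one_mem _)
  | mul a b _ _ iha ihb =>
    rcases iha with ha | ha <;> rcases ihb with hb | hb
    · exact Or.inl (Subgroup.mul_mem _ ha hb)
    · right
      have : r * (a * b) = (r * a * r⁻¹) * (r * b) := by group
      rw [this]
      exact Subgroup.mul_mem _ ((Rfl2_normal Q).conj_mem a ha r) hb
    · right
      rw [← mul_assoc]
      exact Subgroup.mul_mem _ ha hb
    · left
      have : a * b = (r * (r * a) * r⁻¹) * (r * b) := by
        rw [hrinv]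
        calc a * b = a * (r * r) * b := by rw [hrr, mul_one]
          _ = (r * r) * a * (r * r) * b := by rw [hrr, one_mul, mul_one]
          _ = _ := by group
      rw [this]
      exact Subgroup.mul_mem _ ((Rfl2_normal Q).conj_mem _ ha r) hb
  | inv a _ iha =>
    rcases iha with ha | ha
    · exact Or.inl (Subgroup.inv_mem _ ha)
    · right
      have : r * a⁻¹ = r * (r * a)⁻¹ * r⁻¹ := by
        rw [hrinv, _root_.mul_inv_rev, hrinv]
        calc r * a⁻¹ = r * a⁻¹ * (r * r) := by rw [hrr, mul_one]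
          _ = _ := by group
      rw [this]
      exact (Rfl2_normal Q).conj_mem _ (Subgroup.inv_mem _ ha) r

/-- if there is no nonsingular vector, the space (hence the group) is trivial -/
theorem eq_one_of_forall (hQ : (QuadraticMap.polarBilin Q).Nondegenerate)
    (hex : ∀ w : ι → F, Q w = 0) (g : ↥(Cfsg.isometryGroup F ⇑Q)) : g = 1 := by
  have hzero : ∀ x : ι → F, x = 0 := by
    intro x
    apply hQ.1
    intro y
    show QuadraticMap.polar ⇑Q x y = 0
    unfold QuadraticMap.polar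
    rw [hex, hex, hex]
    simp
  apply Subtype.ext
  apply Units.ext
  apply matrix_ext_mulVec
  intro x
  rw [hzero x]
  simp

theorem Omega_le_Rfl2 (h2 : (2 : F) = 0) (hQ : (QuadraticMap.polarBilin Q).Nondegenerate)
    (hcard : Fintype.card F ≠ 2 ∨ Fintype.card ι ≠ 4) : Cfsg.Omega F ⇑Q ≤ Rfl2 Q := by
  by_cases hex : ∃ w : ι → F, Q w ≠ 0
  · obtain ⟨w, hw⟩ := hex
    apply Subgroup.Normal.commutator_le_of_self_sup_commutative_eq_top
      (H := Subgroup.zpowers (reflO Q w hw))
    · rw [eq_top_iff]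
      intro g _
      rcases mem_or_mul_mem Q h2 hQ hcard w hw g with h | h
      · exact Subgroup.mem_sup_left h
      · have : g = (reflO Q w hw)⁻¹ * (reflO Q w hw * g) := by group
        rw [this]
        apply Subgroup.mul_mem
        · exact Subgroup.mem_sup_right (Subgroup.inv_mem _ (Subgroup.mem_zpowers _))
        · exact Subgroup.mem_sup_left h
    · infer_instance
  · push Not at hex
    intro g _
    rw [eq_one_of_forall Q hQ hex g]
    exact Subgroup.one_mem _

theorem Omega_eq_Rfl2 (h2 : (2 : F) = 0) (hQ : (QuadraticMap.polarBilin Q).Nondegenerate)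
    (hcard : Fintype.card F ≠ 2 ∨ Fintype.card ι ≠ 4) : Cfsg.Omega F ⇑Q = Rfl2 Q :=
  le_antisymm (Omega_le_Rfl2 Q h2 hQ hcard) (Rfl2_le_Omega Q h2 hQ hcard)

/-- a reflection is not in `Ω` -/
theorem reflO_not_mem_Omega (h2 : (2 : F) = 0) (hQ : (QuadraticMap.polarBilin Q).Nondegenerate)
    (w : ι → F) (hw : Q w ≠ 0) : reflO Q w hw ∉ Cfsg.Omega F ⇑Q := by
  obtain ⟨D, hD⟩ := Cfsg.Agent.Helper28.Dickson.exists_dickson Q h2 hQ
  intro hmem
  have h1 : D (reflO Q w hw) = 1 := by
    have := Abelianization.commutator_subset_ker D hmem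
    exact this
  rw [hD] at h1
  have h3 : ((reflO Q w hw : GL ι F) : Matrix ι ι F) = Cfsg.reflectionMatrix ⇑Q w := rfl
  rw [h3, Cfsg.Agent.Helper28.Dickson.rank_refl_sub_one Q hQ w hw] at h1
  revert h1
  decide

/-- `Ω` is the kernel of the Dickson invariant: `g ∈ Ω` iff `rank (g - 1)` is even. -/
theorem mem_Omega_iff_even_rank (h2 : (2 : F) = 0) (hQ : (QuadraticMap.polarBilin Q).Nondegenerate)
    (hcard : Fintype.card F ≠ 2 ∨ Fintype.card ι ≠ 4) (g : ↥(Cfsg.isometryGroup F ⇑Q)) :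
    g ∈ Cfsg.Omega F ⇑Q ↔ Even (((g : GL ι F) : Matrix ι ι F) - 1).rank := by
  obtain ⟨D, hD⟩ := Cfsg.Agent.Helper28.Dickson.exists_dickson Q h2 hQ
  have hker : ∀ x, x ∈ Cfsg.Omega F ⇑Q → D x = 1 := fun x hx =>
    Abelianization.commutator_subset_ker D hx
  have hev : ∀ x : ↥(Cfsg.isometryGroup F ⇑Q),
      D x = 1 ↔ Even (((x : GL ι F) : Matrix ι ι F) - 1).rank := by
    intro x
    rw [hD, ← ofAdd_zero, Multiplicative.ofAdd.apply_eq_iff_eq,
      ZMod.natCast_eq_zero_iff_even]
  rw [← hev]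
  constructor
  · exact hker g
  · intro hg
    by_cases hex : ∃ w : ι → F, Q w ≠ 0
    · obtain ⟨w, hw⟩ := hex
      rcases mem_or_mul_mem Q h2 hQ hcard w hw g with h | h
      · exact Rfl2_le_Omega Q h2 hQ hcard h
      · exfalso
        have h1 := hker _ (Rfl2_le_Omega Q h2 hQ hcard h)
        rw [map_mul, hg, mul_one] at h1
        have h3 : ((reflO Q w hw : GL ι F) : Matrix ι ι F) = Cfsg.reflectionMatrix ⇑Q w := rfl
        rw [hD, h3, Cfsg.Agent.Helper28.Dickson.rank_refl_sub_one Q hQ w hw] at h1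
        revert h1
        decide
    · push Not at hex
      rw [eq_one_of_forall Q hQ hex g]
      exact Subgroup.one_mem _

/-- `Ω` has index two -/
theorem index_Omega (h2 : (2 : F) = 0) (hQ : (QuadraticMap.polarBilin Q).Nondegenerate)
    (hcard : Fintype.card F ≠ 2 ∨ Fintype.card ι ≠ 4) (hne : Nonempty ι) :
    (Cfsg.Omega F ⇑Q).index = 2 := by
  obtain ⟨w, hw⟩ : ∃ w : ι → F, Q w ≠ 0 := by
    by_contra hcon
    push Not at hcon
    obtain ⟨i⟩ := hne
    have hzero : ∀ x : ι → F, x = 0 := by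
      intro x
      apply hQ.1
      intro y
      show QuadraticMap.polar ⇑Q x y = 0
      unfold QuadraticMap.polar
      rw [hcon, hcon, hcon]
      simp
    have := congrFun (hzero (Pi.single i 1)) i
    simp at this
  rw [Subgroup.index_eq_two_iff]
  refine ⟨reflO Q w hw, fun b => ?_⟩
  have hr := reflO_not_mem_Omega Q h2 hQ w hw
  have hΩ := Omega_eq_Rfl2 Q h2 hQ hcard
  have hN : (Cfsg.Omega F ⇑Q).Normal := inferInstance
  by_cases hb : b ∈ Cfsg.Omega F ⇑Q
  · right
    refine ⟨hb, ?_⟩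
    intro hbr
    apply hr
    have : reflO Q w hw = b⁻¹ * (b * reflO Q w hw) := by group
    rw [this]
    exact Subgroup.mul_mem _ (Subgroup.inv_mem _ hb) hbr
  · left
    refine ⟨?_, hb⟩
    rcases mem_or_mul_mem Q h2 hQ hcard w hw b with h | h
    · exact absurd (Rfl2_le_Omega Q h2 hQ hcard h) hb
    · have h1 := Rfl2_le_Omega Q h2 hQ hcard h
      have : b * reflO Q w hw = (reflO Q w hw)⁻¹ * (reflO Q w hw * b) * ((reflO Q w hw)⁻¹)⁻¹ := by
        group
      rw [this]
      exact hN.conj_mem _ h1 _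

end Cfsg.Agent.Helper28.CD2
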