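import Mathlib
import Cfsg.Prelude.Def_ClassicalGeometry
import Cfsg.Agent.Helper28.Spin4

set_option autoImplicit false
set_option linter.unusedSectionVars false

/-! Cartan–Dieudonné (characteristic ≠ 2) for a general finite index type. -/

namespace Cfsg.Agent.Helper28.CDG

open Matrix LinearMap.BilinForm Module

variable {F : Type*} [Field F] {ι : Type} [Fintype ι] [DecidableEq ι]
  (Q : QuadraticForm F (ι → F))

theorem map_sub' (y v : ι → F) :
    Q (y - v) = Q y + Q v - QuadraticMap.polar ⇑Q y v := by
  have : y - v = y + (-1 : F) • v := by simp [sub_eq_add_neg]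
  rw [this, Spin.map_add_smul']
  ring

theorem map_add' (y v : ι → F) :
    Q (y + v) = Q y + Q v + QuadraticMap.polar ⇑Q y v :=
  QuadraticMap.map_add (⇑Q) y v


/-- The product of reflections along a list of nonsingular vectors. -/
def reflProd (L : List {v : ι → F // Q v ≠ 0}) : Matrix ι ι F :=
  (L.map (fun v => Cfsg.reflectionMatrix ⇑Q v.1)).prod

/-- Cartan–Dieudonné, relative version, characteristic ≠ 2. -/
theorem cd_rel (h2 : (2 : F) ≠ 0) (hQ : (QuadraticMap.polarBilin Q).Nondegenerate) :
    ∀ (k : ℕ) (U : Submodule F (ι → F)), Fintype.card ι ≤ finrank F U + k →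
      U ⊓ LinearMap.BilinForm.orthogonal (QuadraticMap.polarBilin Q) U = ⊥ →
      ∀ M : Matrix ι ι F, (∀ x, Q (M *ᵥ x) = Q x) → (∀ u ∈ U, M *ᵥ u = u) →
      ∃ L : List {v : ι → F // Q v ≠ 0}, M = reflProd Q L := by
  set B : LinearMap.BilinForm F (ι → F) := QuadraticMap.polarBilin Q with hB
  have hBa : ∀ x y, B x y = QuadraticMap.polar ⇑Q x y := fun x y => rfl
  have hrefl : B.IsRefl := by
    intro x y h
    rw [hBa] at h ⊢
    rw [QuadraticMap.polar_comm]; exact h
  have htop : ∀ M : Matrix ι ι F, (∀ u ∈ (⊤ : Submodule F (ι → F)), M *ᵥ u = u) →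
      ∃ L : List {v : ι → F // Q v ≠ 0}, M = reflProd Q L := by
    intro M hM
    refine ⟨[], ?_⟩
    simp only [reflProd, List.map_nil, List.prod_nil]
    apply Spin.matrix_ext_mulVec
    intro x
    rw [hM x Submodule.mem_top, Matrix.one_mulVec]
  intro k
  induction k with
  | zero =>
    intro U hk _ M _ hMU
    have hU : U = ⊤ := by
      apply Submodule.eq_top_of_finrank_eq
      have := Submodule.finrank_le U
      rw [Module.finrank_fintype_fun_eq_card] at this ⊢
      omega
    subst hU
    exact htop M hMU
  | succ k ih =>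
    intro U hk hUnd M hM hMU
    by_cases hU : U = ⊤
    · subst hU
      exact htop M hMU
    · set W := B.orthogonal U with hW
      have hfrW : finrank F W = Fintype.card ι - finrank F U := by
        rw [hW, finrank_orthogonal hQ, Module.finrank_fintype_fun_eq_card]
      have hUlt : finrank F U < Fintype.card ι := by
        have h1 := Submodule.finrank_le U
        rw [Module.finrank_fintype_fun_eq_card] at h1
        rcases Nat.lt_or_ge (finrank F U) (Fintype.card ι) with h | h
        · exact h
        · exfalso
          apply hU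
          apply Submodule.eq_top_of_finrank_eq
          rw [Module.finrank_fintype_fun_eq_card]
          omega
      -- a nonsingular vector in W
      have hexv : ∃ v ∈ W, Q v ≠ 0 := by
        by_contra hcon
        push Not at hcon
        have hWW : W ≤ B.orthogonal W := by
          intro x hx
          rw [mem_orthogonal_iff]
          intro y hy
          show B y x = 0
          rw [hBa, QuadraticMap.polar, hcon _ (W.add_mem hy hx), hcon _ hy, hcon _ hx]
          simp
        rw [hW, orthogonal_orthogonal hQ hrefl, ← hW] at hWW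
        have : W ≤ U ⊓ W := le_inf hWW le_rfl
        rw [hUnd] at this
        have hWbot : W = ⊥ := le_bot_iff.mp this
        rw [hWbot, finrank_bot] at hfrW
        omega
      obtain ⟨v, hvW, hv⟩ := hexv
      have hvU : ∀ u ∈ U, QuadraticMap.polar ⇑Q u v = 0 := by
        intro u hu
        have := (mem_orthogonal_iff.mp hvW) u hu
        exact this
      set y := M *ᵥ v with hy
      have hQy : Q y = Q v := hM v
      have hyU : ∀ u ∈ U, QuadraticMap.polar ⇑Q u y = 0 := by
        intro u hu
        have := Spin.polar_isom Q hM u v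
        rw [hMU u hu] at this
        rw [this, hvU u hu]
      -- the enlarged subspace
      have hvnotU : v ∉ U := by
        intro hvU'
        have : v ∈ U ⊓ W := ⟨hvU', hvW⟩
        rw [hUnd] at this
        have hv0 : v = 0 := by simpa using this
        apply hv
        rw [hv0]; simp
      set U' := U ⊔ Submodule.span F {v} with hU'
      have hmem : ∀ x ∈ U', ∃ u ∈ U, ∃ a : F, x = u + a • v := by
        intro x hx
        obtain ⟨u, hu, z, hz, rfl⟩ := Submodule.mem_sup.mp hx
        obtain ⟨a, rfl⟩ := Submodule.mem_span_singleton.mp hz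
        exact ⟨u, hu, a, rfl⟩
      have hlt : U < U' := by
        apply lt_of_le_of_ne le_sup_left
        intro h
        apply hvnotU
        rw [h]
        exact Submodule.mem_sup_right (Submodule.mem_span_singleton_self v)
      have hfr' := Submodule.finrank_lt_finrank_of_lt hlt
      have hU'nd : U' ⊓ B.orthogonal U' = ⊥ := by
        rw [eq_bot_iff]
        rintro x ⟨hx1, hx2⟩
        obtain ⟨u, hu, a, rfl⟩ := hmem x hx1
        have hvU'mem : v ∈ U' := Submodule.mem_sup_right (Submodule.mem_span_singleton_self v)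
        have e1 := (mem_orthogonal_iff.mp hx2) v hvU'mem
        change B v (u + a • v) = 0 at e1
        rw [hBa, QuadraticMap.polar_add_right, QuadraticMap.polar_smul_right, Spin.polar_self',
          QuadraticMap.polar_comm, hvU u hu, zero_add, smul_eq_mul] at e1
        have ha : a = 0 := by
          rcases mul_eq_zero.mp e1 with h | h
          · exact h
          · rcases mul_eq_zero.mp h with h | h
            · exact absurd h h2
            · exact absurd h hv
        subst ha
        simp only [zero_smul, add_zero] at hx2 ⊢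
        have : u ∈ U ⊓ B.orthogonal U := by
          refine ⟨hu, ?_⟩
          show u ∈ B.orthogonal U
          rw [mem_orthogonal_iff]
          intro u' hu'
          exact (mem_orthogonal_iff.mp hx2) u' (Submodule.mem_sup_left hu')
        rw [hUnd] at this
        exact this
      have hfixU' : ∀ M' : Matrix ι ι F, (∀ u ∈ U, M' *ᵥ u = u) → M' *ᵥ v = v →
          ∀ x ∈ U', M' *ᵥ x = x := by
        intro M' h1 h2' x hx
        obtain ⟨u, hu, a, rfl⟩ := hmem x hx
        rw [Matrix.mulVec_add, Matrix.mulVec_smul, h1 u hu, h2']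
      have hsum : Q (y - v) + Q (y + v) = 4 * Q v := by
        rw [map_sub', map_add', hQy]; ring
      have hcases : Q (y - v) ≠ 0 ∨ Q (y + v) ≠ 0 := by
        by_contra hcon
        push Not at hcon
        rw [hcon.1, hcon.2, zero_add] at hsum
        have h4 : (4 : F) = 2 * 2 := by norm_num
        rw [h4] at hsum
        rcases mul_eq_zero.mp hsum.symm with h | h
        · rcases mul_eq_zero.mp h with h | h <;> exact h2 h
        · exact hv h
      rcases hcases with hd | hd
      · -- one reflection
        set ρ := Cfsg.reflectionMatrix ⇑Q (y - v) with hρ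
        have hρU : ∀ u ∈ U, ρ *ᵥ u = u := by
          intro u hu
          apply Spin.refl_fix Q
          rw [QuadraticMap.polar_sub_left, QuadraticMap.polar_comm, hyU u hu,
            QuadraticMap.polar_comm, hvU u hu, sub_zero]
        have hρv : ρ *ᵥ v = y := Spin.refl_move Q hQy hd
        have hρy : ρ *ᵥ y = v := by
          rw [← hρv, Matrix.mulVec_mulVec, Spin.refl_sq Q hd, Matrix.one_mulVec]
        obtain ⟨L', hL'⟩ := ih U' (by omega) hU'nd (ρ * M)
          (fun x => by rw [← Matrix.mulVec_mulVec, Spin.refl_pres Q hd, hM])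
          (hfixU' (ρ * M) (fun u hu => by rw [← Matrix.mulVec_mulVec, hMU u hu, hρU u hu])
            (by rw [← Matrix.mulVec_mulVec, ← hy, hρy]))
        refine ⟨⟨y - v, hd⟩ :: L', ?_⟩
        simp only [reflProd, List.map_cons, List.prod_cons]
        rw [← reflProd, ← hL', ← Matrix.mul_assoc, Spin.refl_sq Q hd, Matrix.one_mul]
      · -- two reflections
        set ρ₁ := Cfsg.reflectionMatrix ⇑Q (y + v) with hρ₁
        set ρ₂ := Cfsg.reflectionMatrix ⇑Q v with hρ₂
        have hρ₁U : ∀ u ∈ U, ρ₁ *ᵥ u = u := by
          intro u hu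
          apply Spin.refl_fix Q
          rw [QuadraticMap.polar_add_left, QuadraticMap.polar_comm, hyU u hu,
            QuadraticMap.polar_comm, hvU u hu, add_zero]
        have hρ₂U : ∀ u ∈ U, ρ₂ *ᵥ u = u := by
          intro u hu
          apply Spin.refl_fix Q
          rw [QuadraticMap.polar_comm, hvU u hu]
        have hρ₁y : ρ₁ *ᵥ y = -v := Spin.refl_move' Q hQy hd
        have hρ₂v : ρ₂ *ᵥ (-v) = v := by
          rw [Matrix.mulVec_neg, Spin.refl_self Q hv, neg_neg]
        obtain ⟨L', hL'⟩ := ih U' (by omega) hU'nd (ρ₂ * (ρ₁ * M))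
          (fun x => by rw [← Matrix.mulVec_mulVec, ← Matrix.mulVec_mulVec, Spin.refl_pres Q hv,
            Spin.refl_pres Q hd, hM])
          (hfixU' (ρ₂ * (ρ₁ * M)) (fun u hu => by
              rw [← Matrix.mulVec_mulVec, ← Matrix.mulVec_mulVec, hMU u hu, hρ₁U u hu, hρ₂U u hu])
            (by rw [← Matrix.mulVec_mulVec, ← Matrix.mulVec_mulVec, ← hy, hρ₁y, hρ₂v]))
        refine ⟨⟨y + v, hd⟩ :: ⟨v, hv⟩ :: L', ?_⟩
        simp only [reflProd, List.map_cons, List.prod_cons]
        rw [← reflProd, ← hL', ← Matrix.mul_assoc ρ₂, Spin.refl_sq Q hv,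
          Matrix.one_mul, ← Matrix.mul_assoc, Spin.refl_sq Q hd, Matrix.one_mul]

/-- Cartan–Dieudonné in characteristic ≠ 2: every isometry is a product of reflections. -/
theorem cartan_dieudonne (h2 : (2 : F) ≠ 0) (hQ : (QuadraticMap.polarBilin Q).Nondegenerate)
    (M : Matrix ι ι F) (hM : ∀ x, Q (M *ᵥ x) = Q x) :
    ∃ L : List {v : ι → F // Q v ≠ 0}, M = reflProd Q L := by
  apply cd_rel Q h2 hQ (Fintype.card ι) ⊥ (by omega) (by simp) M hM
  intro u hu
  rw [Submodule.mem_bot] at hu
  rw [hu, Matrix.mulVec_zero]


/-- Cartan–Dieudonné as a list of reflections, general index type -/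
theorem cd_list [Fintype F] (h2 : (2 : F) ≠ 0) (hQ : (QuadraticMap.polarBilin Q).Nondegenerate)
    (g : ↥(Cfsg.isometryGroup F ⇑Q)) : ∃ L : List (Spin.NS Q), g = Spin.prodO Q L := by
  obtain ⟨L, hL⟩ := cartan_dieudonne Q h2 hQ
    ((g : Matrix.GeneralLinearGroup ι F) : Matrix ι ι F)
    (fun x => Spin.isom_apply Q g x)
  refine ⟨L, ?_⟩
  apply Subtype.ext
  apply Units.ext
  rw [hL, Spin.prodO_val]
  rfl

end Cfsg.Agent.Helper28.CDG
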