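import Mathlib

set_option autoImplicit false
set_option linter.unusedSectionVars false

/-! Witt's extension theorem for quadratic forms with non-degenerate polar form (any characteristic). -/

namespace Cfsg.Agent.Helper28.QWitt

open Module Submodule

variable {F V : Type*} [Field F] [AddCommGroup V] [Module F V] (Q : QuadraticForm F V)

/-- the polar form -/
abbrev P (x y : V) : F := QuadraticMap.polar ⇑Q x y

theorem P_comm (x y : V) : P Q x y = P Q y x := QuadraticMap.polar_comm _ _ _

theorem P_self (x : V) : P Q x x = 2 * Q x := by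
  show QuadraticMap.polar ⇑Q x x = 2 * Q x
  rw [QuadraticMap.polar_self]
  simp

theorem Q_add (x y : V) : Q (x + y) = Q x + Q y + P Q x y := by
  show Q (x + y) = Q x + Q y + QuadraticMap.polar ⇑Q x y
  unfold QuadraticMap.polar
  ring

theorem Q_add_smul (v z : V) (a : F) : Q (v + a • z) = Q v + a * a * Q z + a * P Q v z := by
  rw [Q_add, QuadraticMap.map_smul]
  show _ + _ + QuadraticMap.polar ⇑Q v (a • z) = _
  rw [QuadraticMap.polar_smul_right]
  simp only [smul_eq_mul]

theorem P_add_right (x y z : V) : P Q x (y + z) = P Q x y + P Q x z :=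
  QuadraticMap.polar_add_right _ _ _ _

theorem P_add_left (x y z : V) : P Q (x + y) z = P Q x z + P Q y z :=
  QuadraticMap.polar_add_left _ _ _ _

theorem P_smul_right (a : F) (x y : V) : P Q x (a • y) = a * P Q x y := by
  show QuadraticMap.polar ⇑Q x (a • y) = _
  rw [QuadraticMap.polar_smul_right, smul_eq_mul]

theorem P_smul_left (a : F) (x y : V) : P Q (a • x) y = a * P Q x y := by
  show QuadraticMap.polar ⇑Q (a • x) y = _
  rw [QuadraticMap.polar_smul_left, smul_eq_mul]

theorem P_sub_left (x y z : V) : P Q (x - y) z = P Q x z - P Q y z := by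
  show QuadraticMap.polar ⇑Q (x - y) z = _
  rw [QuadraticMap.polar_sub_left]

theorem P_sub_right (x y z : V) : P Q x (y - z) = P Q x y - P Q x z := by
  show QuadraticMap.polar ⇑Q x (y - z) = _
  rw [QuadraticMap.polar_sub_right]

/-- the linear functional `v ↦ P v z` -/
noncomputable def fn (z : V) : V →ₗ[F] F := QuadraticMap.polarBilin Q z

theorem fn_apply (z v : V) : fn Q z v = P Q z v := rfl

/-- a `Q`-preserving linear map preserves the polar form -/
theorem P_of_isom {g : V →ₗ[F] V} (hg : ∀ v, Q (g v) = Q v) (x y : V) :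
    P Q (g x) (g y) = P Q x y := by
  show QuadraticMap.polar ⇑Q (g x) (g y) = QuadraticMap.polar ⇑Q x y
  unfold QuadraticMap.polar
  rw [← map_add, hg, hg, hg]

/-- the reflection along `z` -/
noncomputable def reflL (z : V) : V →ₗ[F] V :=
  LinearMap.id - (Q z)⁻¹ • (fn Q z).smulRight z

theorem reflL_apply (z v : V) : reflL Q z v = v - ((Q z)⁻¹ * P Q z v) • z := by
  unfold reflL
  simp only [LinearMap.sub_apply, LinearMap.id_coe, id_eq, LinearMap.smul_apply,
    LinearMap.smulRight_apply, fn_apply, smul_smul]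

theorem reflL_isom (z : V) (hz : Q z ≠ 0) (v : V) : Q (reflL Q z v) = Q v := by
  rw [reflL_apply, sub_eq_add_neg, ← neg_smul, Q_add_smul, P_comm Q v z]
  field_simp
  ring

/-- the Eichler transformation -/
noncomputable def eich (z w : V) : V →ₗ[F] V :=
  LinearMap.id + (fn Q z).smulRight w - (fn Q w).smulRight z - Q w • (fn Q z).smulRight z

theorem eich_apply (z w v : V) :
    eich Q z w v = v + P Q z v • w - P Q w v • z - (Q w * P Q z v) • z := by
  unfold eich
  simp only [LinearMap.sub_apply, LinearMap.add_apply, LinearMap.id_coe, id_eq,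
    LinearMap.smul_apply, LinearMap.smulRight_apply, fn_apply, smul_smul]

theorem eich_isom (z w : V) (hz : Q z = 0) (hzw : P Q z w = 0) (v : V) :
    Q (eich Q z w v) = Q v := by
  rw [eich_apply]
  have e : v + P Q z v • w - P Q w v • z - (Q w * P Q z v) • z =
      (v + P Q z v • w) + (-(P Q w v) - Q w * P Q z v) • z := by
    rw [sub_smul, neg_smul]
    abel
  rw [e, Q_add_smul, Q_add_smul, hz, P_add_left, P_smul_left, P_comm Q w z, hzw, P_comm Q v w,
    P_comm Q v z]
  ring

/-- the hyperbolic rotation -/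
noncomputable def rot (l : F) (z y : V) : V →ₗ[F] V :=
  LinearMap.id + (l - 1) • (fn Q y).smulRight z + (l⁻¹ - 1) • (fn Q z).smulRight y

theorem rot_apply (l : F) (z y v : V) :
    rot Q l z y v = v + ((l - 1) * P Q y v) • z + ((l⁻¹ - 1) * P Q z v) • y := by
  unfold rot
  simp only [LinearMap.add_apply, LinearMap.id_coe, id_eq,
    LinearMap.smul_apply, LinearMap.smulRight_apply, fn_apply, smul_smul]

theorem rot_isom (l : F) (hl : l ≠ 0) (z y : V) (hz : Q z = 0) (hy : Q y = 0) (hzy : P Q z y = 1)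
    (v : V) : Q (rot Q l z y v) = Q v := by
  rw [rot_apply, Q_add_smul, Q_add_smul, hz, hy, P_add_left, P_smul_left, hzy, P_comm Q v y,
    P_comm Q v z]
  field_simp
  ring

section fd

variable [FiniteDimensional F V]

theorem exists_dual_vec (hQ : (QuadraticMap.polarBilin Q).Nondegenerate) (S : Submodule F V)
    (v : V) (hv : v ∉ S) : ∃ w : V, (∀ s ∈ S, P Q s w = 0) ∧ P Q v w = 1 := by
  set B := QuadraticMap.polarBilin Q with hB
  have hBa : ∀ x y, B x y = P Q x y := fun x y => rfl
  have hrefl : B.IsRefl := by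
    intro x y h
    rw [hBa] at h ⊢
    rw [P_comm]; exact h
  obtain ⟨w₀, hw₀S, hw₀v⟩ : ∃ w₀, (∀ s ∈ S, P Q s w₀ = 0) ∧ P Q v w₀ ≠ 0 := by
    by_contra hcon
    push Not at hcon
    apply hv
    rw [← LinearMap.BilinForm.orthogonal_orthogonal hQ hrefl S]
    rw [LinearMap.BilinForm.mem_orthogonal_iff]
    intro w hw
    rw [LinearMap.BilinForm.mem_orthogonal_iff] at hw
    show B w v = 0
    rw [hBa, P_comm]
    apply hcon
    intro s hs
    exact hw s hs
  refine ⟨(P Q v w₀)⁻¹ • w₀, ?_, ?_⟩
  · intro s hs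
    rw [P_smul_right, hw₀S s hs, mul_zero]
  · rw [P_smul_right, inv_mul_cancel₀ hw₀v]

/-- the key step: moving one more vector -/
theorem step (hQ : (QuadraticMap.polarBilin Q).Nondegenerate) (H : Submodule F V) (x y : V)
    (hx : x ∉ H) (hy : y ∉ H) (hQxy : Q x = Q y) (hB : ∀ h ∈ H, P Q h x = P Q h y) :
    ∃ g : V →ₗ[F] V, (∀ v, Q (g v) = Q v) ∧ (∀ h ∈ H, g h = h) ∧ g x = y := by
  obtain ⟨z, hz⟩ : ∃ z, z = y - x := ⟨_, rfl⟩
  have hyz : y = x + z := by rw [hz]; abel
  have hzH : ∀ h ∈ H, P Q z h = 0 := by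
    intro h hh
    rw [hz, P_comm, P_sub_right, hB h hh, sub_self]
  have hQz : Q z = 2 * Q x - P Q x y := by
    have h1 : Q y = Q x + Q z + P Q x z := by rw [hyz, Q_add]
    have h2 : P Q x y = P Q x x + P Q x z := by rw [hyz, P_add_right]
    rw [P_self] at h2
    rw [← hQxy] at h1
    linear_combination h2 - h1
  have hPzx : P Q z x = - Q z := by
    have h1 : P Q z x = P Q y x - P Q x x := by rw [hz, P_sub_left]
    rw [h1, P_self, hQz, P_comm Q y x]
    ring
  by_cases hQz0 : Q z = 0
  · have hzx : P Q z x = 0 := by rw [hPzx, hQz0, neg_zero]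
    by_cases hxS : x ∈ H ⊔ span F {z}
    · -- hyperbolic rotation
      obtain ⟨h₁, hh₁, zz, hzz, hxe⟩ := Submodule.mem_sup.1 hxS
      obtain ⟨d, rfl⟩ := Submodule.mem_span_singleton.1 hzz
      have hd : d ≠ 0 := by
        rintro rfl
        rw [zero_smul, add_zero] at hxe
        exact hx (hxe ▸ hh₁)
      have hzn : z ∉ H := by
        intro hzmem
        apply hx
        rw [← hxe]
        exact H.add_mem hh₁ (H.smul_mem d hzmem)
      have hye : y = h₁ + (d + 1) • z := by
        rw [hyz, ← hxe, add_smul, one_smul, add_assoc]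
      have hd1 : d + 1 ≠ 0 := by
        intro h0
        rw [h0, zero_smul, add_zero] at hye
        exact hy (hye ▸ hh₁)
      obtain ⟨w, hwH, hzw⟩ := exists_dual_vec Q hQ H z hzn
      have hPzz : P Q z z = 0 := by rw [P_self, hQz0, mul_zero]
      obtain ⟨y', hy'⟩ : ∃ y', y' = w + (- Q w) • z := ⟨_, rfl⟩
      have hzy' : P Q z y' = 1 := by
        rw [hy', P_add_right, P_smul_right, hPzz, mul_zero, add_zero, hzw]
      have hQy' : Q y' = 0 := by
        rw [hy', Q_add_smul, hQz0, P_comm Q w z, hzw]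
        ring
      have hHy' : ∀ h ∈ H, P Q y' h = 0 := by
        intro h hh
        rw [P_comm, hy', P_add_right, P_smul_right, hwH h hh, P_comm Q h z, hzH h hh]
        ring
      refine ⟨rot Q ((d + 1) / d) z y', rot_isom Q _ (div_ne_zero hd1 hd) z y' hQz0 hQy' hzy', ?_, ?_⟩
      · intro h hh
        rw [rot_apply, hHy' h hh, hzH h hh]
        simp
      · have e1 : rot Q ((d + 1) / d) z y' h₁ = h₁ := by
          rw [rot_apply, hHy' h₁ hh₁, hzH h₁ hh₁]
          simp
        have e2 : rot Q ((d + 1) / d) z y' z = ((d + 1) / d) • z := by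
          rw [rot_apply, hPzz, P_comm Q y' z, hzy', mul_zero, zero_smul, add_zero, mul_one]
          rw [sub_smul, one_smul]
          abel
        rw [← hxe, map_add, map_smul, e1, e2, hye, smul_smul]
        congr 2
        field_simp
    · -- Eichler transformation
      obtain ⟨w, hwS, hxw⟩ := exists_dual_vec Q hQ (H ⊔ span F {z}) x hxS
      have hwz : P Q z w = 0 :=
        hwS z (Submodule.mem_sup_right (Submodule.mem_span_singleton_self z))
      have hwH : ∀ h ∈ H, P Q h w = 0 := fun h hh => hwS h (Submodule.mem_sup_left hh)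
      refine ⟨eich Q z (-w), eich_isom Q z (-w) hQz0 ?_, ?_, ?_⟩
      · rw [← neg_one_smul F w, P_smul_right, hwz, mul_zero]
      · intro h hh
        rw [eich_apply, hzH h hh, ← neg_one_smul F w, P_smul_left, P_comm Q w h, hwH h hh]
        simp
      · rw [eich_apply, hzx, ← neg_one_smul F w, P_smul_left, P_comm Q w x, hxw, hyz]
        simp
  · -- reflection
    refine ⟨reflL Q z, reflL_isom Q z hQz0, ?_, ?_⟩
    · intro h hh
      rw [reflL_apply, hzH h hh]
      simp
    · rw [reflL_apply, hPzx, hyz]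
      have : (Q z)⁻¹ * -Q z = -1 := by
        field_simp
      rw [this]
      simp

theorem isom_injective (hQ : (QuadraticMap.polarBilin Q).Nondegenerate) {g : V →ₗ[F] V}
    (hg : ∀ v, Q (g v) = Q v) : Function.Injective g := by
  rw [injective_iff_map_eq_zero]
  intro v hv
  apply hQ.1
  intro w
  show P Q v w = 0
  rw [← P_of_isom Q hg, hv]
  exact QuadraticMap.polar_zero_left _ _

universe w

theorem witt_aux (hQ : (QuadraticMap.polarBilin Q).Nondegenerate) :
    ∀ (d : ℕ) (U : Type w) [AddCommGroup U] [Module F U] [FiniteDimensional F U]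
      (ι σ : U →ₗ[F] V), finrank F U = d → Function.Injective ι → Function.Injective σ →
      (∀ u, Q (ι u) = Q (σ u)) →
      ∃ g : V →ₗ[F] V, (∀ v, Q (g v) = Q v) ∧ ∀ u, g (ι u) = σ u := by
  intro d
  induction d with
  | zero =>
    intro U _ _ _ ι σ hd _ _ _
    haveI : Subsingleton U := Module.finrank_zero_iff.1 hd
    refine ⟨LinearMap.id, fun v => rfl, fun u => ?_⟩
    rw [Subsingleton.elim u 0, map_zero, map_zero, map_zero]
  | succ d ih =>
    intro U _ _ _ ι σ hd hι hσ hQι
    have hpos : 0 < finrank F U := by omega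
    obtain ⟨x, hx0⟩ := Module.finrank_pos_iff_exists_ne_zero.1 hpos
    obtain ⟨φ, hφx⟩ := Module.Projective.exists_dual_eq_one F hx0
    set K : Submodule F U := LinearMap.ker φ with hK
    have hsurj : Function.Surjective φ := by
      intro c
      exact ⟨c • x, by rw [map_smul, hφx, smul_eq_mul, mul_one]⟩
    have hKd : finrank F K = d := by
      have h1 := LinearMap.finrank_range_add_finrank_ker φ
      rw [LinearMap.range_eq_top.2 hsurj, finrank_top, Module.finrank_self, hd, ← hK] at h1
      omega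
    obtain ⟨g₁, hg₁Q, hg₁⟩ := ih K (ι.comp K.subtype) (σ.comp K.subtype) hKd
      (hι.comp K.subtype_injective) (hσ.comp K.subtype_injective) (fun u => hQι u)
    have hg₁inj := isom_injective Q hQ hg₁Q
    set e₁ : V ≃ₗ[F] V := LinearEquiv.ofInjectiveEndo g₁ hg₁inj with he₁
    have he₁a : ∀ v, e₁ v = g₁ v := fun v => rfl
    have he₁s : ∀ v, Q (e₁.symm v) = Q v := by
      intro v
      rw [← hg₁Q (e₁.symm v), ← he₁a, LinearEquiv.apply_symm_apply]
    have hPs : ∀ a b, P Q (e₁.symm a) (e₁.symm b) = P Q a b :=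
      fun a b => P_of_isom Q (g := e₁.symm.toLinearMap) he₁s a b
    have hPισ : ∀ a b, P Q (σ a) (σ b) = P Q (ι a) (ι b) := by
      intro a b
      show QuadraticMap.polar ⇑Q (σ a) (σ b) = QuadraticMap.polar ⇑Q (ι a) (ι b)
      unfold QuadraticMap.polar
      rw [← map_add, ← map_add, hQι, hQι, hQι]
    have hιk : ∀ k : K, ι k = e₁.symm (σ k) := by
      intro k
      rw [LinearEquiv.eq_symm_apply, he₁a]
      exact hg₁ k
    have hxK : x ∉ K := by
      intro hmem
      rw [hK, LinearMap.mem_ker, hφx] at hmem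
      exact one_ne_zero hmem
    obtain ⟨g₂, hg₂Q, hg₂H, hg₂x⟩ := step Q hQ (K.map ι) (ι x) (e₁.symm (σ x))
      (by
        rintro ⟨k, hk, hkx⟩
        exact hxK (hι hkx ▸ hk))
      (by
        rintro ⟨k, hk, hkx⟩
        rw [hιk ⟨k, hk⟩] at hkx
        have := hσ (e₁.symm.injective hkx)
        exact hxK (this ▸ hk))
      (by rw [he₁s, hQι])
      (by
        rintro _ ⟨k, hk, rfl⟩
        have := hιk ⟨k, hk⟩
        conv_rhs => rw [this, hPs, hPισ])
    refine ⟨g₁.comp g₂, fun v => by rw [LinearMap.comp_apply, hg₁Q, hg₂Q], ?_⟩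
    intro u
    have hkmem : u - φ u • x ∈ K := by
      rw [hK, LinearMap.mem_ker, map_sub, map_smul, hφx, smul_eq_mul, mul_one, sub_self]
    have hu : u = (u - φ u • x) + φ u • x := by abel
    have e1 : g₂ (ι (u - φ u • x)) = ι (u - φ u • x) := hg₂H _ ⟨_, hkmem, rfl⟩
    have e2 : g₁ (ι (u - φ u • x)) = σ (u - φ u • x) := hg₁ ⟨_, hkmem⟩
    have e3 : g₁ (e₁.symm (σ x)) = σ x := by
      rw [← he₁a, LinearEquiv.apply_symm_apply]
    conv_lhs => rw [hu]
    rw [map_add, map_smul, LinearMap.comp_apply, map_add, map_smul, e1, hg₂x, map_add, map_smul,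
      e2, e3, ← map_smul, ← map_add, ← hu]

/-- **Witt's extension theorem** for quadratic forms with non-degenerate polar form. -/
theorem witt_extension (hQ : (QuadraticMap.polarBilin Q).Nondegenerate) (X Y : Submodule F V)
    (φ : X ≃ₗ[F] Y) (hφ : ∀ x : X, Q (φ x : V) = Q (x : V)) :
    ∃ g : V ≃ₗ[F] V, (∀ v : V, Q (g v) = Q v) ∧ ∀ x : X, g (x : V) = (φ x : V) := by
  obtain ⟨g, hgQ, hg⟩ := witt_aux Q hQ (finrank F X) X X.subtype (Y.subtype.comp φ.toLinearMap) rfl
    X.subtype_injective (Y.subtype_injective.comp φ.injective) (fun u => (hφ u).symm)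
  exact ⟨LinearEquiv.ofInjectiveEndo g (isom_injective Q hQ hgQ), hgQ, hg⟩

end fd

end Cfsg.Agent.Helper28.QWitt
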