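import Mathlib
import Cfsg.Prelude.Def_ClassicalGeometry
import Cfsg.Agent.Helper28.Quad
import Cfsg.Agent.S0784

set_option autoImplicit false

namespace Cfsg.Agent.Helper28

open Matrix LinearMap.BilinForm Module

variable {F : Type*} [Field F] {n : ℕ} (Q : QuadraticForm F (Fin n → F))

theorem matrix_ext_mulVec {A B : Matrix (Fin n) (Fin n) F} (h : ∀ x, A *ᵥ x = B *ᵥ x) : A = B := by
  apply Matrix.toLin'.injective
  apply LinearMap.ext
  intro x
  simpa using h x

theorem polar_mulVec {M : Matrix (Fin n) (Fin n) F} (hM : ∀ x, Q (M *ᵥ x) = Q x) (x y : Fin n → F) :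
    QuadraticMap.polar ⇑Q (M *ᵥ x) (M *ᵥ y) = QuadraticMap.polar ⇑Q x y := by
  simp only [QuadraticMap.polar, ← Matrix.mulVec_add, hM]

theorem refl_pres {v : Fin n → F} (hv : Q v ≠ 0) (x : Fin n → F) :
    Q (Cfsg.reflectionMatrix ⇑Q v *ᵥ x) = Q x :=
  (Cfsg.Agent.S0784.result Q v hv).1 x

theorem refl_self {v : Fin n → F} (hv : Q v ≠ 0) :
    Cfsg.reflectionMatrix ⇑Q v *ᵥ v = -v :=
  (Cfsg.Agent.S0784.result Q v hv).2.1

theorem refl_fix {v : Fin n → F} (hv : Q v ≠ 0) {x : Fin n → F} (hx : QuadraticMap.polar ⇑Q v x = 0) :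
    Cfsg.reflectionMatrix ⇑Q v *ᵥ x = x :=
  (Cfsg.Agent.S0784.result Q v hv).2.2.1 x hx

theorem refl_det {v : Fin n → F} (hv : Q v ≠ 0) :
    (Cfsg.reflectionMatrix ⇑Q v).det = -1 :=
  (Cfsg.Agent.S0784.result Q v hv).2.2.2

theorem refl_sq {v : Fin n → F} (hv : Q v ≠ 0) :
    Cfsg.reflectionMatrix ⇑Q v * Cfsg.reflectionMatrix ⇑Q v = 1 := by
  apply matrix_ext_mulVec
  intro x
  rw [← Matrix.mulVec_mulVec, Matrix.one_mulVec]
  rw [reflectionMatrix_mulVec Q v x, Matrix.mulVec_sub, Matrix.mulVec_smul, refl_self Q hv]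
  rw [reflectionMatrix_mulVec]
  simp

theorem map_sub' (y v : Fin n → F) :
    Q (y - v) = Q y + Q v - QuadraticMap.polar ⇑Q y v := by
  have : y - v = y + (-1 : F) • v := by simp [sub_eq_add_neg]
  rw [this, map_add_smul]
  ring

theorem map_add' (y v : Fin n → F) :
    Q (y + v) = Q y + Q v + QuadraticMap.polar ⇑Q y v :=
  QuadraticMap.map_add (⇑Q) y v

/-- If `Q y = Q v` and `Q (y - v) ≠ 0`, the reflection in `y - v` maps `v` to `y`. -/
theorem refl_move {y v : Fin n → F} (hyv : Q y = Q v) (hd : Q (y - v) ≠ 0) :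
    Cfsg.reflectionMatrix ⇑Q (y - v) *ᵥ v = y := by
  rw [reflectionMatrix_mulVec]
  have h1 : QuadraticMap.polar ⇑Q (y - v) v = - Q (y - v) := by
    rw [QuadraticMap.polar_sub_left, polar_self, map_sub', hyv]
    ring
  rw [h1, mul_neg, inv_mul_cancel₀ hd]
  simp

/-- If `Q y = Q v` and `Q (y + v) ≠ 0`, the reflection in `y + v` maps `y` to `-v`. -/
theorem refl_move' {y v : Fin n → F} (hyv : Q y = Q v) (hd : Q (y + v) ≠ 0) :
    Cfsg.reflectionMatrix ⇑Q (y + v) *ᵥ y = -v := by
  rw [reflectionMatrix_mulVec]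
  have h1 : QuadraticMap.polar ⇑Q (y + v) y = Q (y + v) := by
    rw [QuadraticMap.polar_add_left, polar_self, map_add', hyv, QuadraticMap.polar_comm]
    ring
  rw [h1, inv_mul_cancel₀ hd]
  simp

/-- The product of reflections along a list of nonsingular vectors. -/
def reflProd (L : List {v : Fin n → F // Q v ≠ 0}) : Matrix (Fin n) (Fin n) F :=
  (L.map (fun v => Cfsg.reflectionMatrix ⇑Q v.1)).prod

/-- Cartan–Dieudonné, relative version, characteristic ≠ 2. -/
theorem cd_rel (h2 : (2 : F) ≠ 0) (hQ : (QuadraticMap.polarBilin Q).Nondegenerate) :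
    ∀ (k : ℕ) (U : Submodule F (Fin n → F)), n ≤ finrank F U + k →
      U ⊓ LinearMap.BilinForm.orthogonal (QuadraticMap.polarBilin Q) U = ⊥ →
      ∀ M : Matrix (Fin n) (Fin n) F, (∀ x, Q (M *ᵥ x) = Q x) → (∀ u ∈ U, M *ᵥ u = u) →
      ∃ L : List {v : Fin n → F // Q v ≠ 0}, M = reflProd Q L := by
  set B : LinearMap.BilinForm F (Fin n → F) := QuadraticMap.polarBilin Q with hB
  have hBa : ∀ x y, B x y = QuadraticMap.polar ⇑Q x y := fun x y => rfl
  have hrefl : B.IsRefl := by
    intro x y h
    rw [hBa] at h ⊢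
    rw [QuadraticMap.polar_comm]; exact h
  have htop : ∀ M : Matrix (Fin n) (Fin n) F, (∀ u ∈ (⊤ : Submodule F (Fin n → F)), M *ᵥ u = u) →
      ∃ L : List {v : Fin n → F // Q v ≠ 0}, M = reflProd Q L := by
    intro M hM
    refine ⟨[], ?_⟩
    simp only [reflProd, List.map_nil, List.prod_nil]
    apply matrix_ext_mulVec
    intro x
    rw [hM x Submodule.mem_top, Matrix.one_mulVec]
  intro k
  induction k with
  | zero =>
    intro U hk _ M _ hMU
    have hU : U = ⊤ := by
      apply Submodule.eq_top_of_finrank_eq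
      have := Submodule.finrank_le U
      rw [Module.finrank_fin_fun] at this ⊢
      omega
    subst hU
    exact htop M hMU
  | succ k ih =>
    intro U hk hUnd M hM hMU
    by_cases hU : U = ⊤
    · subst hU
      exact htop M hMU
    · set W := B.orthogonal U with hW
      have hfrW : finrank F W = n - finrank F U := by
        rw [hW, finrank_orthogonal hQ, Module.finrank_fin_fun]
      have hUlt : finrank F U < n := by
        have h1 := Submodule.finrank_le U
        rw [Module.finrank_fin_fun] at h1
        rcases Nat.lt_or_ge (finrank F U) n with h | h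
        · exact h
        · exfalso
          apply hU
          apply Submodule.eq_top_of_finrank_eq
          rw [Module.finrank_fin_fun]
          omega
      -- a nonsingular vector in W
      have hexv : ∃ v ∈ W, Q v ≠ 0 := by
        by_contra hcon
        push Not at hcon
        have hWW : W ≤ B.orthogonal W := by
          intro x hx
          rw [mem_orthogonal_iff]
          intro y hy
          show B y x = 0
          rw [hBa, QuadraticMap.polar, hcon _ (W.add_mem hy hx), hcon _ hy, hcon _ hx]
          simp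
        rw [hW, orthogonal_orthogonal hQ hrefl, ← hW] at hWW
        have : W ≤ U ⊓ W := le_inf hWW le_rfl
        rw [hUnd] at this
        have hWbot : W = ⊥ := le_bot_iff.mp this
        rw [hWbot, finrank_bot] at hfrW
        omega
      obtain ⟨v, hvW, hv⟩ := hexv
      have hvU : ∀ u ∈ U, QuadraticMap.polar ⇑Q u v = 0 := by
        intro u hu
        have := (mem_orthogonal_iff.mp hvW) u hu
        exact this
      set y := M *ᵥ v with hy
      have hQy : Q y = Q v := hM v
      have hyU : ∀ u ∈ U, QuadraticMap.polar ⇑Q u y = 0 := by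
        intro u hu
        have := polar_mulVec Q hM u v
        rw [hMU u hu] at this
        rw [this, hvU u hu]
      -- the enlarged subspace
      have hvnotU : v ∉ U := by
        intro hvU'
        have : v ∈ U ⊓ W := ⟨hvU', hvW⟩
        rw [hUnd] at this
        have hv0 : v = 0 := by simpa using this
        apply hv
        rw [hv0]; simp
      set U' := U ⊔ Submodule.span F {v} with hU'
      have hmem : ∀ x ∈ U', ∃ u ∈ U, ∃ a : F, x = u + a • v := by
        intro x hx
        obtain ⟨u, hu, z, hz, rfl⟩ := Submodule.mem_sup.mp hx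
        obtain ⟨a, rfl⟩ := Submodule.mem_span_singleton.mp hz
        exact ⟨u, hu, a, rfl⟩
      have hlt : U < U' := by
        apply lt_of_le_of_ne le_sup_left
        intro h
        apply hvnotU
        rw [h]
        exact Submodule.mem_sup_right (Submodule.mem_span_singleton_self v)
      have hfr' := Submodule.finrank_lt_finrank_of_lt hlt
      have hU'nd : U' ⊓ B.orthogonal U' = ⊥ := by
        rw [eq_bot_iff]
        rintro x ⟨hx1, hx2⟩
        obtain ⟨u, hu, a, rfl⟩ := hmem x hx1
        have hvU'mem : v ∈ U' := Submodule.mem_sup_right (Submodule.mem_span_singleton_self v)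
        have e1 := (mem_orthogonal_iff.mp hx2) v hvU'mem
        change B v (u + a • v) = 0 at e1
        rw [hBa, QuadraticMap.polar_add_right, QuadraticMap.polar_smul_right, polar_self,
          QuadraticMap.polar_comm, hvU u hu, zero_add, smul_eq_mul] at e1
        have ha : a = 0 := by
          rcases mul_eq_zero.mp e1 with h | h
          · exact h
          · rcases mul_eq_zero.mp h with h | h
            · exact absurd h h2
            · exact absurd h hv
        subst ha
        simp only [zero_smul, add_zero] at hx2 ⊢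
        have : u ∈ U ⊓ B.orthogonal U := by
          refine ⟨hu, ?_⟩
          show u ∈ B.orthogonal U
          rw [mem_orthogonal_iff]
          intro u' hu'
          exact (mem_orthogonal_iff.mp hx2) u' (Submodule.mem_sup_left hu')
        rw [hUnd] at this
        exact this
      have hfixU' : ∀ M' : Matrix (Fin n) (Fin n) F, (∀ u ∈ U, M' *ᵥ u = u) → M' *ᵥ v = v →
          ∀ x ∈ U', M' *ᵥ x = x := by
        intro M' h1 h2' x hx
        obtain ⟨u, hu, a, rfl⟩ := hmem x hx
        rw [Matrix.mulVec_add, Matrix.mulVec_smul, h1 u hu, h2']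
      have hsum : Q (y - v) + Q (y + v) = 4 * Q v := by
        rw [map_sub', map_add', hQy]; ring
      have hcases : Q (y - v) ≠ 0 ∨ Q (y + v) ≠ 0 := by
        by_contra hcon
        push Not at hcon
        rw [hcon.1, hcon.2, zero_add] at hsum
        have h4 : (4 : F) = 2 * 2 := by norm_num
        rw [h4] at hsum
        rcases mul_eq_zero.mp hsum.symm with h | h
        · rcases mul_eq_zero.mp h with h | h <;> exact h2 h
        · exact hv h
      rcases hcases with hd | hd
      · -- one reflection
        set ρ := Cfsg.reflectionMatrix ⇑Q (y - v) with hρ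
        have hρU : ∀ u ∈ U, ρ *ᵥ u = u := by
          intro u hu
          apply refl_fix Q hd
          rw [QuadraticMap.polar_sub_left, QuadraticMap.polar_comm, hyU u hu,
            QuadraticMap.polar_comm, hvU u hu, sub_zero]
        have hρv : ρ *ᵥ v = y := refl_move Q hQy hd
        have hρy : ρ *ᵥ y = v := by
          rw [← hρv, Matrix.mulVec_mulVec, refl_sq Q hd, Matrix.one_mulVec]
        obtain ⟨L', hL'⟩ := ih U' (by omega) hU'nd (ρ * M)
          (fun x => by rw [← Matrix.mulVec_mulVec, refl_pres Q hd, hM])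
          (hfixU' (ρ * M) (fun u hu => by rw [← Matrix.mulVec_mulVec, hMU u hu, hρU u hu])
            (by rw [← Matrix.mulVec_mulVec, ← hy, hρy]))
        refine ⟨⟨y - v, hd⟩ :: L', ?_⟩
        simp only [reflProd, List.map_cons, List.prod_cons]
        rw [← reflProd, ← hL', ← Matrix.mul_assoc, refl_sq Q hd, Matrix.one_mul]
      · -- two reflections
        set ρ₁ := Cfsg.reflectionMatrix ⇑Q (y + v) with hρ₁
        set ρ₂ := Cfsg.reflectionMatrix ⇑Q v with hρ₂
        have hρ₁U : ∀ u ∈ U, ρ₁ *ᵥ u = u := by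
          intro u hu
          apply refl_fix Q hd
          rw [QuadraticMap.polar_add_left, QuadraticMap.polar_comm, hyU u hu,
            QuadraticMap.polar_comm, hvU u hu, add_zero]
        have hρ₂U : ∀ u ∈ U, ρ₂ *ᵥ u = u := by
          intro u hu
          apply refl_fix Q hv
          rw [QuadraticMap.polar_comm, hvU u hu]
        have hρ₁y : ρ₁ *ᵥ y = -v := refl_move' Q hQy hd
        have hρ₂v : ρ₂ *ᵥ (-v) = v := by
          rw [Matrix.mulVec_neg, refl_self Q hv, neg_neg]
        obtain ⟨L', hL'⟩ := ih U' (by omega) hU'nd (ρ₂ * (ρ₁ * M))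
          (fun x => by rw [← Matrix.mulVec_mulVec, ← Matrix.mulVec_mulVec, refl_pres Q hv,
            refl_pres Q hd, hM])
          (hfixU' (ρ₂ * (ρ₁ * M)) (fun u hu => by
              rw [← Matrix.mulVec_mulVec, ← Matrix.mulVec_mulVec, hMU u hu, hρ₁U u hu, hρ₂U u hu])
            (by rw [← Matrix.mulVec_mulVec, ← Matrix.mulVec_mulVec, ← hy, hρ₁y, hρ₂v]))
        refine ⟨⟨y + v, hd⟩ :: ⟨v, hv⟩ :: L', ?_⟩
        simp only [reflProd, List.map_cons, List.prod_cons]
        rw [← reflProd, ← hL', ← Matrix.mul_assoc ρ₂, refl_sq Q hv,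
          Matrix.one_mul, ← Matrix.mul_assoc, refl_sq Q hd, Matrix.one_mul]

/-- Cartan–Dieudonné in characteristic ≠ 2: every isometry is a product of reflections. -/
theorem cartan_dieudonne (h2 : (2 : F) ≠ 0) (hQ : (QuadraticMap.polarBilin Q).Nondegenerate)
    (M : Matrix (Fin n) (Fin n) F) (hM : ∀ x, Q (M *ᵥ x) = Q x) :
    ∃ L : List {v : Fin n → F // Q v ≠ 0}, M = reflProd Q L := by
  apply cd_rel Q h2 hQ n ⊥ (by omega) (by simp) M hM
  intro u hu
  rw [Submodule.mem_bot] at hu
  rw [hu, Matrix.mulVec_zero]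

theorem reflProd_det (L : List {v : Fin n → F // Q v ≠ 0}) :
    (reflProd Q L).det = (-1) ^ L.length := by
  induction L with
  | nil => simp [reflProd]
  | cons a L ih =>
    simp only [reflProd, List.map_cons, List.prod_cons, List.length_cons] at ih ⊢
    rw [Matrix.det_mul, ih, refl_det Q a.2]
    ring

end Cfsg.Agent.Helper28
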