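import Mathlib
import Cfsg.Prelude.Def_ClassicalGeometry
import Cfsg.Agent.Helper28.Spin5
import Cfsg.Agent.Helper28.CartanDieudonne

set_option autoImplicit false
set_option linter.unusedSectionVars false

/-! The index of `Ω` in the orthogonal group (odd characteristic). -/

namespace Cfsg.Agent.Helper28.Spin

open Matrix Cfsg.Agent.Helper28.IsoTransport

variable {F : Type*} [Field F] {ι : Type} [Fintype ι] [DecidableEq ι]
  (Q : QuadraticForm F (ι → F))

theorem exists_ortho_basis (h2 : (2 : F) ≠ 0) (hQ : (QuadraticMap.polarBilin Q).Nondegenerate) :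
    ∃ v : Module.Basis (Fin (Module.finrank F (ι → F))) F (ι → F),
      (∀ i j, i ≠ j → QuadraticMap.polar ⇑Q (v i) (v j) = 0) ∧ ∀ i, Q (v i) ≠ 0 := by
  have : Invertible (2 : F) := invertibleOfNonzero h2
  have hsymm : LinearMap.IsSymm (QuadraticMap.polarBilin Q) :=
    ⟨fun x y => by simp [QuadraticMap.polar_comm]⟩
  obtain ⟨v, hv⟩ := LinearMap.BilinForm.exists_orthogonal_basis hsymm
  refine ⟨v, ?_, ?_⟩
  · intro i j hij
    have := LinearMap.isOrthoᵢ_def.1 hv i j hij
    simpa using this
  · intro i h0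
    have := hv.not_isOrtho_basis_self_of_separatingLeft hQ.1 i
    apply this
    rw [QuadraticMap.polarBilin_apply_apply, polar_self', h0, mul_zero]

/-- a non-degenerate form in dimension at least two over a finite field of odd order is universal -/
theorem exists_norm_eq [Fintype F] (h2 : (2 : F) ≠ 0) (hQ : (QuadraticMap.polarBilin Q).Nondegenerate)
    (hn : 2 ≤ Fintype.card ι) (c : F) : ∃ x : ι → F, Q x = c := by
  obtain ⟨v, horth, hns⟩ := exists_ortho_basis Q h2 hQ
  have hk : Module.finrank F (ι → F) = Fintype.card ι := Module.finrank_fintype_fun_eq_card F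
  have h0 : 0 < Module.finrank F (ι → F) := by omega
  have h1 : 1 < Module.finrank F (ι → F) := by omega
  set i0 : Fin (Module.finrank F (ι → F)) := ⟨0, h0⟩
  set i1 : Fin (Module.finrank F (ι → F)) := ⟨1, h1⟩
  have hne : i0 ≠ i1 := by
    intro h
    have := congrArg Fin.val h
    simp [i0, i1] at this
  have hodd : Fintype.card F % 2 = 1 := Nat.odd_iff.1 (card_odd h2)
  have hf : (Polynomial.C (Q (v i0)) * Polynomial.X ^ 2).degree = 2 :=
    Polynomial.degree_C_mul_X_pow 2 (hns i0)
  have hg : (Polynomial.C (Q (v i1)) * Polynomial.X ^ 2 - Polynomial.C c).degree = 2 := by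
    have hd := Polynomial.degree_C_mul_X_pow 2 (hns i1)
    rw [Polynomial.degree_sub_C (by rw [hd]; norm_num), hd]
    rfl
  obtain ⟨a, b, hab⟩ := FiniteField.exists_root_sum_quadratic hf hg hodd
  simp only [Polynomial.eval_mul, Polynomial.eval_C, Polynomial.eval_pow, Polynomial.eval_X,
    Polynomial.eval_sub] at hab
  refine ⟨a • v i0 + b • v i1, ?_⟩
  rw [QuadraticMap.map_add (⇑Q), QuadraticMap.map_smul, QuadraticMap.map_smul,
    QuadraticMap.polar_smul_left, QuadraticMap.polar_smul_right, horth i0 i1 hne]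
  simp only [smul_eq_mul, mul_zero, add_zero]
  linear_combination hab


theorem index_Omega [Fintype F] (h2 : (2 : F) ≠ 0) (hQ : (QuadraticMap.polarBilin Q).Nondegenerate)
    (hn : 2 ≤ Fintype.card ι)
    (hCD : ∀ g : ↥(Cfsg.isometryGroup F ⇑Q), ∃ L : List (NS Q), g = prodO Q L) :
    (Cfsg.Omega F ⇑Q).index = 4 := by
  classical
  -- representatives of the two classes
  obtain ⟨vp, hvp⟩ := exists_norm_eq Q h2 hQ hn 1
  obtain ⟨δ, hδ⟩ := FiniteField.exists_nonsquare (F := F) (by
    intro h
    apply h2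
    have := ringChar.Nat.cast_ringChar (R := F)
    rw [h] at this
    exact_mod_cast this)
  obtain ⟨vm, hvm⟩ := exists_norm_eq Q h2 hQ hn δ
  have hvp0 : Q vp ≠ 0 := by rw [hvp]; exact one_ne_zero
  have hδ0 : δ ≠ 0 := by
    rintro rfl
    exact hδ ⟨0, by simp⟩
  have hvm0 : Q vm ≠ 0 := by rw [hvm]; exact hδ0
  have hsqp : IsSquare (Q (⟨vp, hvp0⟩ : NS Q).1) := by
    change IsSquare (Q vp); rw [hvp]; exact ⟨1, by simp⟩
  have hsqm : ¬ IsSquare (Q (⟨vm, hvm0⟩ : NS Q).1) := by
    change ¬ IsSquare (Q vm); rw [hvm]; exact hδ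
  set G := ↥(Cfsg.isometryGroup F ⇑Q)
  set φ : G →* Abelianization G := Abelianization.of with hφ
  set cp := cPlus Q φ with hcp
  set cm := cMinus Q φ with hcm
  have hcp2 : cp ^ 2 = 1 := by rw [pow_two]; exact cPlus_sq Q φ
  have hcm2 : cm ^ 2 = 1 := by rw [pow_two]; exact cMinus_sq Q φ
  -- the two homomorphisms on the abelianization
  set D : Abelianization G →* Fˣ := Abelianization.lift (detHom Q) with hD
  set T : Abelianization G →* ℤˣ := Abelianization.lift (theta Q) with hT
  have hDp : D cp = -1 := by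
    rw [hcp, ← cPlus_eq Q φ h2 ⟨vp, hvp0⟩ hsqp, hD, hφ, Abelianization.lift_apply_of, detHom_reflO]
  have hDm : D cm = -1 := by
    rw [hcm, ← cMinus_eq Q φ h2 ⟨vm, hvm0⟩ hsqm, hD, hφ, Abelianization.lift_apply_of, detHom_reflO]
  have hTpm : T cp * T cm = -1 := by
    rw [hcp, hcm, ← cPlus_eq Q φ h2 ⟨vp, hvp0⟩ hsqp, ← cMinus_eq Q φ h2 ⟨vm, hvm0⟩ hsqm, hT, hφ,
      Abelianization.lift_apply_of, Abelianization.lift_apply_of]
    apply theta_mul_of_not_isSquare Q h2
    change ¬ IsSquare (Q vp * Q vm)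
    rw [hvp, hvm, one_mul]
    exact hδ
  have hTm : T cm = - T cp := by
    have h1 : T cp * T cp = 1 := Int.units_mul_self _
    calc T cm = (T cp * T cp) * T cm := by rw [h1, one_mul]
      _ = T cp * (T cp * T cm) := by rw [mul_assoc]
      _ = - T cp := by rw [hTpm]; simp
  have hneg := neg_one_units_ne (F := F) h2
  -- the bijection
  let f : Bool × Bool → Abelianization G := fun pq =>
    (if pq.1 then cp else 1) * (if pq.2 then cm else 1)
  have hsurj : Function.Surjective f := by
    intro a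
    obtain ⟨g, rfl⟩ := QuotientGroup.mk_surjective a
    obtain ⟨L, rfl⟩ := hCD g
    have := hom_prodO Q φ h2 L
    change φ (prodO Q L) = _ at this
    rw [pow_eq_pow_mod _ hcp2, pow_eq_pow_mod _ hcm2] at this
    refine ⟨(decide (nPlus Q L % 2 = 1), decide (nMinus Q L % 2 = 1)), ?_⟩
    change _ = φ (prodO Q L)
    rw [this]
    simp only [f]
    rcases Nat.mod_two_eq_zero_or_one (nPlus Q L) with h | h <;>
      rcases Nat.mod_two_eq_zero_or_one (nMinus Q L) with h' | h' <;> simp [h, h']
  have hinj : Function.Injective f := by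
    intro x y hxy
    have h1 := congrArg D hxy
    have h3 := congrArg T hxy
    rcases x with ⟨p, q⟩
    rcases y with ⟨p', q'⟩
    simp only [f, map_mul] at h1 h3
    rcases p <;> rcases q <;> rcases p' <;> rcases q' <;>
      simp only [if_true, if_false, Bool.false_eq_true, map_one, hDp, hDm, hTm, mul_one, one_mul,
        mul_neg, neg_mul, neg_neg, Int.units_mul_self] at h1 h3 <;>
      first
        | rfl
        | exact absurd h1 hneg
        | exact absurd h1.symm hneg
        | exact absurd h3 (by decide)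
        | exact absurd h3.symm (by decide)
        | exact absurd h3 (units_ne_neg_self _)
        | exact absurd h3.symm (units_ne_neg_self _)
  have hcard : Nat.card (Abelianization G) = 4 := by
    rw [← Nat.card_congr (Equiv.ofBijective f ⟨hinj, hsurj⟩)]
    simp
  rw [Subgroup.index_eq_card]
  exact hcard


theorem abel_exp_two [Fintype F] (h2 : (2 : F) ≠ 0)
    (hCD : ∀ g : ↥(Cfsg.isometryGroup F ⇑Q), ∃ L : List (NS Q), g = prodO Q L)
    (a : Abelianization ↥(Cfsg.isometryGroup F ⇑Q)) : a * a = 1 := by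
  obtain ⟨g, rfl⟩ := QuotientGroup.mk_surjective a
  obtain ⟨L, rfl⟩ := hCD g
  have := hom_prodO Q (Abelianization.of) h2 L
  change (Abelianization.of (prodO Q L)) * (Abelianization.of (prodO Q L)) = 1
  rw [this]
  have h1 := cPlus_sq Q (Abelianization.of : ↥(Cfsg.isometryGroup F ⇑Q) →* _)
  have h3 := cMinus_sq Q (Abelianization.of : ↥(Cfsg.isometryGroup F ⇑Q) →* _)
  rw [mul_mul_mul_comm, ← mul_pow, ← mul_pow, h1, h3, one_pow, one_pow, one_mul]

end Cfsg.Agent.Helper28.Spin
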