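import Mathlib
import Cfsg.Agent.Helper28.CD2b
import Cfsg.Prelude.Def_SporadicB

set_option autoImplicit false
set_option linter.unusedSectionVars false

/-! Orthogonal transvections over the field of two elements form a class of 3-transpositions. -/

namespace Cfsg.Agent.Helper28.CD2

open Module Submodule Matrix Cfsg.Agent.Helper28.Spin Cfsg.Agent.Helper28.IsoTransport

section rankone

variable {F : Type*} [Field F] {ι : Type} [Fintype ι] [DecidableEq ι]
  (Q : QuadraticForm F (ι → F))

/-- an isometry `M` with `M - 1` of rank one is a reflection -/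
theorem eq_refl_of_rank_one (hQ : (QuadraticMap.polarBilin Q).Nondegenerate)
    (M : Matrix ι ι F) (hM : ∀ x, Q (M *ᵥ x) = Q x) (hr : (M - 1).rank = 1) :
    ∃ a : ι → F, Q a ≠ 0 ∧ M = Cfsg.reflectionMatrix ⇑Q a := by
  set N := M - 1 with hN
  have hMN : ∀ x, M *ᵥ x = x + N *ᵥ x := by
    intro x
    rw [hN, Matrix.sub_mulVec, Matrix.one_mulVec]
    abel
  have hfr : finrank F ↥(LinearMap.range N.mulVecLin) = 1 := hr
  obtain ⟨a, ha0, hspan⟩ := finrank_eq_one_iff'.1 hfr
  have hc : ∀ x, ∃ c : F, N *ᵥ x = c • (a : ι → F) := by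
    intro x
    obtain ⟨c, hc⟩ := hspan ⟨N *ᵥ x, ⟨x, rfl⟩⟩
    exact ⟨c, (congrArg Subtype.val hc).symm⟩
  have ha0' : (a : ι → F) ≠ 0 := fun h => ha0 (Subtype.ext h)
  choose c hc using hc
  have hcadd : ∀ x y, c (x + y) = c x + c y := by
    intro x y
    have h1 : N *ᵥ (x + y) = N *ᵥ x + N *ᵥ y := Matrix.mulVec_add _ _ _
    rw [hc, hc, hc, ← add_smul] at h1
    exact smul_left_injective F ha0' h1
  -- the isometry condition
  have hiso : ∀ x, c x * (c x * Q a + QuadraticMap.polar ⇑Q x a) = 0 := by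
    intro x
    have h1 := hM x
    rw [hMN, hc, QuadraticMap.map_add (⇑Q), QuadraticMap.map_smul, QuadraticMap.polar_smul_right,
      smul_eq_mul, smul_eq_mul] at h1
    linear_combination h1
  obtain ⟨x₀, hx₀⟩ : ∃ x₀, c x₀ ≠ 0 := by
    by_contra hcon
    push Not at hcon
    have : N = 0 := by
      apply matrix_ext_mulVec
      intro x
      rw [hc, hcon, zero_smul, Matrix.zero_mulVec]
    rw [this, Matrix.rank_zero] at hr
    exact zero_ne_one hr
  have hx₀' : c x₀ * Q a + QuadraticMap.polar ⇑Q x₀ a = 0 := by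
    rcases mul_eq_zero.1 (hiso x₀) with h | h
    · exact absurd h hx₀
    · exact h
  have hall : ∀ x, c x * Q a + QuadraticMap.polar ⇑Q x a = 0 := by
    intro x
    by_cases hx : c x = 0
    · have h1 : c (x + x₀) ≠ 0 := by rw [hcadd, hx, zero_add]; exact hx₀
      have h2 : c (x + x₀) * Q a + QuadraticMap.polar ⇑Q (x + x₀) a = 0 := by
        rcases mul_eq_zero.1 (hiso (x + x₀)) with h | h
        · exact absurd h h1
        · exact h
      rw [hcadd, QuadraticMap.polar_add_left] at h2
      linear_combination h2 - hx₀'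
    · rcases mul_eq_zero.1 (hiso x) with h | h
      · exact absurd h hx
      · exact h
  have hQa : Q a ≠ 0 := by
    intro h
    apply ha0'
    apply hQ.1
    intro y
    show QuadraticMap.polar ⇑Q a y = 0
    have := hall y
    rw [h, mul_zero, zero_add] at this
    rw [QuadraticMap.polar_comm]
    exact this
  refine ⟨a, hQa, ?_⟩
  apply matrix_ext_mulVec
  intro x
  rw [hMN, hc, refl_mulVec, sub_eq_add_neg, ← neg_smul]
  congr 2
  have := hall x
  rw [QuadraticMap.polar_comm (⇑Q) a x]
  field_simp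
  linear_combination this

end rankone

section three

variable {F : Type*} [Field F] [Fintype F] {ι : Type} [Fintype ι] [DecidableEq ι]
  (Q : QuadraticForm F (ι → F))

/-- the set of orthogonal transvections -/
def Trv : Set ↥(Cfsg.isometryGroup F ⇑Q) :=
  {g | (((g : GL ι F) : Matrix ι ι F) - 1).rank = 1}

theorem mem_Trv_iff (hQ : (QuadraticMap.polarBilin Q).Nondegenerate)
    (g : ↥(Cfsg.isometryGroup F ⇑Q)) :
    g ∈ Trv Q ↔ ∃ a : ι → F, ∃ ha : Q a ≠ 0, g = reflO Q a ha := by
  constructor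
  · intro hg
    obtain ⟨a, ha, hM⟩ := eq_refl_of_rank_one Q hQ _ (isom_apply Q g) hg
    exact ⟨a, ha, Subtype.ext (Units.ext hM)⟩
  · rintro ⟨a, ha, rfl⟩
    exact Cfsg.Agent.Helper28.Dickson.rank_refl_sub_one Q hQ a ha

theorem orderOf_reflO (hQ : (QuadraticMap.polarBilin Q).Nondegenerate) (a : ι → F)
    (ha : Q a ≠ 0) : orderOf (reflO Q a ha) = 2 := by
  haveI : Fact (Nat.Prime 2) := ⟨Nat.prime_two⟩
  apply orderOf_eq_prime
  · rw [pow_two]
    exact reflO_mul_self Q a ha
  · intro h
    have h1 := Cfsg.Agent.Helper28.Dickson.rank_refl_sub_one Q hQ a ha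
    have h2 : Cfsg.reflectionMatrix ⇑Q a = 1 := by
      have := congrArg (fun g : ↥(Cfsg.isometryGroup F ⇑Q) => ((g : GL ι F) : Matrix ι ι F)) h
      exact this
    rw [h2, sub_self, Matrix.rank_zero] at h1
    exact zero_ne_one h1

theorem three_trans (h2 : (2 : F) = 0) (hq : Fintype.card F = 2) (a b : ι → F) (ha : Q a ≠ 0)
    (hb : Q b ≠ 0) :
    (reflO Q a ha * reflO Q b hb) ^ 2 = 1 ∨ (reflO Q a ha * reflO Q b hb) ^ 3 = 1 := by
  have hQa : Q a = 1 := by
    rcases eq_zero_or_one_of_card h2 hq (Q a) with h | h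
    · exact absurd h ha
    · exact h
  have hQb : Q b = 1 := by
    rcases eq_zero_or_one_of_card h2 hq (Q b) with h | h
    · exact absurd h hb
    · exact h
  set ra := reflO Q a ha with hra
  set rb := reflO Q b hb with hrb
  have hra2 : ra * ra = 1 := reflO_mul_self Q a ha
  have hrb2 : rb * rb = 1 := reflO_mul_self Q b hb
  have hrai : ra⁻¹ = ra := reflO_inv Q a ha
  have hb' : Q (((ra : GL ι F) : Matrix ι ι F) *ᵥ b) ≠ 0 := by rw [isom_apply]; exact hb
  have hconj := reflO_conj Q ra b hb hb'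
  rw [hrai] at hconj
  rcases eq_zero_or_one_of_card h2 hq (QuadraticMap.polar ⇑Q a b) with hP | hP
  · left
    have e1 : ((ra : GL ι F) : Matrix ι ι F) *ᵥ b = b := by
      show Cfsg.reflectionMatrix ⇑Q a *ᵥ b = b
      exact refl_fix Q hP
    have e2 : ra * rb * ra = rb := by
      rw [← hconj]
      congr 1
    rw [pow_two]
    calc ra * rb * (ra * rb) = (ra * rb * ra) * rb := by group
      _ = 1 := by rw [e2, hrb2]
  · right
    have e1 : ((ra : GL ι F) : Matrix ι ι F) *ᵥ b = a + b := by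
      show Cfsg.reflectionMatrix ⇑Q a *ᵥ b = a + b
      rw [refl_mulVec, hQa, hP, inv_one, one_mul, one_smul, sub_eq_add_neg, neg_eq_self_vec h2,
        add_comm]
    have ha' : Q (((rb : GL ι F) : Matrix ι ι F) *ᵥ a) ≠ 0 := by rw [isom_apply]; exact ha
    have hconj' := reflO_conj Q rb a ha ha'
    rw [reflO_inv Q b hb] at hconj'
    have e1' : ((rb : GL ι F) : Matrix ι ι F) *ᵥ a = a + b := by
      show Cfsg.reflectionMatrix ⇑Q b *ᵥ a = a + b
      rw [refl_mulVec, hQb, QuadraticMap.polar_comm, hP, inv_one, one_mul, one_smul,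
        sub_eq_add_neg, neg_eq_self_vec h2]
    have hab : Q (a + b) ≠ 0 := by rw [← e1]; exact hb'
    have e2 : ra * rb * ra = reflO Q (a + b) hab := by
      rw [← hconj]
      congr 1
    have e3 : rb * ra * rb = reflO Q (a + b) hab := by
      rw [← hconj']
      congr 1
    calc (ra * rb) ^ 3 = (ra * rb * ra) * (rb * ra * rb) := by
          rw [pow_succ, pow_two]
          simp only [mul_assoc]
      _ = 1 := by rw [e2, e3, reflO_mul_self]

/-- over the field of two elements, the orthogonal transvections form a class of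
3-transpositions generating the orthogonal group -/
theorem isThreeTranspositionClass_Trv (h2 : (2 : F) = 0) (hq : Fintype.card F = 2)
    (hQ : (QuadraticMap.polarBilin Q).Nondegenerate) (hι : Fintype.card ι ≠ 4)
    (hne : Nonempty ι) : Cfsg.IsThreeTranspositionClass (Trv Q) := by
  have hcard : Fintype.card F ≠ 2 ∨ Fintype.card ι ≠ 4 := Or.inr hι
  refine ⟨⟨?_, ?_⟩, ?_, ?_⟩
  · intro d hd
    obtain ⟨a, ha, rfl⟩ := (mem_Trv_iff Q hQ d).1 hd
    exact orderOf_reflO Q hQ a ha
  · intro d hd e he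
    obtain ⟨a, ha, rfl⟩ := (mem_Trv_iff Q hQ d).1 hd
    obtain ⟨b, hb, rfl⟩ := (mem_Trv_iff Q hQ e).1 he
    exact three_trans Q h2 hq a b ha hb
  · obtain ⟨w, hw⟩ : ∃ w : ι → F, Q w ≠ 0 := by
      by_contra hcon
      push Not at hcon
      obtain ⟨i⟩ := hne
      have hzero : ∀ x : ι → F, x = 0 := by
        intro x
        apply hQ.1
        intro y
        show QuadraticMap.polar ⇑Q x y = 0
        unfold QuadraticMap.polar
        rw [hcon, hcon, hcon]
        simp
      have := congrFun (hzero (Pi.single i 1)) i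
      simp at this
    refine ⟨reflO Q w hw, (mem_Trv_iff Q hQ _).2 ⟨w, hw, rfl⟩, ?_⟩
    ext g
    show g ∈ Trv Q ↔ IsConj (reflO Q w hw) g
    rw [isConj_iff]
    constructor
    · intro hg
      obtain ⟨a, ha, rfl⟩ := (mem_Trv_iff Q hQ g).1 hg
      have hQw : Q w = 1 := by
        rcases eq_zero_or_one_of_card h2 hq (Q w) with h | h
        · exact absurd h hw
        · exact h
      have hQa : Q a = 1 := by
        rcases eq_zero_or_one_of_card h2 hq (Q a) with h | h
        · exact absurd h ha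
        · exact h
      obtain ⟨h, _, hm⟩ := exists_move Q h2 hQ hcard w a hw (by rw [hQw, hQa])
      refine ⟨h, ?_⟩
      have ha' : Q (((h : GL ι F) : Matrix ι ι F) *ᵥ w) ≠ 0 := by rw [isom_apply]; exact hw
      rw [← reflO_conj Q h w hw ha']
      congr 1
    · rintro ⟨c, rfl⟩
      have ha' : Q (((c : GL ι F) : Matrix ι ι F) *ᵥ w) ≠ 0 := by rw [isom_apply]; exact hw
      rw [← reflO_conj Q c w hw ha']
      exact (mem_Trv_iff Q hQ _).2 ⟨_, ha', rfl⟩
  · rw [eq_top_iff, ← Rfl_eq_top Q h2 hQ hcard]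
    unfold Rfl
    apply Subgroup.closure_mono
    rintro g ⟨v, hv, hg⟩
    have : g = reflO Q v hv := Subtype.ext (Units.ext hg)
    rw [this]
    exact (mem_Trv_iff Q hQ _).2 ⟨v, hv, rfl⟩

end three

end Cfsg.Agent.Helper28.CD2
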