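import Mathlib
import Cfsg.Agent.Helper28.CD2b
import Cfsg.Agent.Helper28.Spin4
import Cfsg.Agent.Helper28.CartanDieudonne

set_option autoImplicit false
set_option linter.unusedSectionVars false

/-! Orthogonal direct sums: the embeddings `O(Q₁) → O(Q₁ ⊕ Q₂)` and `Ω`. -/

namespace Cfsg.Agent.Helper28.OrthSum

open Module Submodule Matrix Cfsg.Agent.Helper28.Spin Cfsg.Agent.Helper28.IsoTransport

section rank

variable {F : Type*} [Field F] {ι₁ ι₂ : Type} [Fintype ι₁] [DecidableEq ι₁] [Fintype ι₂]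
  [DecidableEq ι₂]

/-- `v ↦ (v, 0)` -/
def inlL (ι₁ ι₂ : Type) (F : Type*) [Field F] : (ι₁ → F) →ₗ[F] (ι₁ ⊕ ι₂ → F) where
  toFun v := Sum.elim v 0
  map_add' v w := by
    funext s
    rcases s with i | i <;> simp
  map_smul' t v := by
    funext s
    rcases s with i | i <;> simp

/-- `v ↦ (0, v)` -/
def inrL (ι₁ ι₂ : Type) (F : Type*) [Field F] : (ι₂ → F) →ₗ[F] (ι₁ ⊕ ι₂ → F) where
  toFun v := Sum.elim 0 v
  map_add' v w := by
    funext s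
    rcases s with i | i <;> simp
  map_smul' t v := by
    funext s
    rcases s with i | i <;> simp

theorem inlL_apply (v : ι₁ → F) : inlL ι₁ ι₂ F v = Sum.elim v 0 := rfl

theorem inrL_apply (v : ι₂ → F) : inrL ι₁ ι₂ F v = Sum.elim (0 : ι₁ → F) v := rfl

theorem inlL_injective : Function.Injective (inlL ι₁ ι₂ F) := by
  intro v w h
  funext i
  have := congrFun h (Sum.inl i)
  simpa [inlL_apply] using this

theorem inrL_injective : Function.Injective (inrL ι₁ ι₂ F) := by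
  intro v w h
  funext i
  have := congrFun h (Sum.inr i)
  simpa [inrL_apply] using this

theorem rank_fromBlocks_left (A : Matrix ι₁ ι₁ F) :
    (Matrix.fromBlocks A 0 0 (0 : Matrix ι₂ ι₂ F)).rank = A.rank := by
  have hrange : LinearMap.range (Matrix.fromBlocks A 0 0 (0 : Matrix ι₂ ι₂ F)).mulVecLin =
      (LinearMap.range A.mulVecLin).map (inlL ι₁ ι₂ F) := by
    ext x
    constructor
    · rintro ⟨y, rfl⟩
      refine ⟨A *ᵥ (y ∘ Sum.inl), ⟨y ∘ Sum.inl, rfl⟩, ?_⟩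
      rw [inlL_apply, Matrix.mulVecLin_apply, Matrix.fromBlocks_mulVec]
      simp
    · rintro ⟨z, ⟨y, rfl⟩, rfl⟩
      refine ⟨Sum.elim y 0, ?_⟩
      rw [inlL_apply, Matrix.mulVecLin_apply, Matrix.fromBlocks_mulVec]
      simp
  show finrank F ↥(LinearMap.range (Matrix.fromBlocks A 0 0 (0 : Matrix ι₂ ι₂ F)).mulVecLin) =
    finrank F ↥(LinearMap.range A.mulVecLin)
  rw [hrange]
  exact LinearEquiv.finrank_eq (Submodule.equivMapOfInjective _ inlL_injective _).symm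

theorem rank_fromBlocks_right (B : Matrix ι₂ ι₂ F) :
    (Matrix.fromBlocks (0 : Matrix ι₁ ι₁ F) 0 0 B).rank = B.rank := by
  have hrange : LinearMap.range (Matrix.fromBlocks (0 : Matrix ι₁ ι₁ F) 0 0 B).mulVecLin =
      (LinearMap.range B.mulVecLin).map (inrL ι₁ ι₂ F) := by
    ext x
    constructor
    · rintro ⟨y, rfl⟩
      refine ⟨B *ᵥ (y ∘ Sum.inr), ⟨y ∘ Sum.inr, rfl⟩, ?_⟩
      rw [inrL_apply, Matrix.mulVecLin_apply, Matrix.fromBlocks_mulVec]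
      simp
    · rintro ⟨z, ⟨y, rfl⟩, rfl⟩
      refine ⟨Sum.elim 0 y, ?_⟩
      rw [inrL_apply, Matrix.mulVecLin_apply, Matrix.fromBlocks_mulVec]
      simp
  show finrank F ↥(LinearMap.range (Matrix.fromBlocks (0 : Matrix ι₁ ι₁ F) 0 0 B).mulVecLin) =
    finrank F ↥(LinearMap.range B.mulVecLin)
  rw [hrange]
  exact LinearEquiv.finrank_eq (Submodule.equivMapOfInjective _ inrL_injective _).symm

end rank

section sum

variable {F : Type*} [Field F] {ι₁ ι₂ : Type} [Fintype ι₁] [DecidableEq ι₁] [Fintype ι₂]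
  [DecidableEq ι₂] (Q₁ : QuadraticForm F (ι₁ → F)) (Q₂ : QuadraticForm F (ι₂ → F))

/-- the orthogonal sum `Q₁ ⊕ Q₂` -/
noncomputable def Qs : QuadraticForm F (ι₁ ⊕ ι₂ → F) :=
  Q₁.comp (LinearMap.funLeft F F Sum.inl) + Q₂.comp (LinearMap.funLeft F F Sum.inr)

theorem Qs_apply (v : ι₁ ⊕ ι₂ → F) : Qs Q₁ Q₂ v = Q₁ (v ∘ Sum.inl) + Q₂ (v ∘ Sum.inr) := rfl

theorem Qs_coe : ⇑(Qs Q₁ Q₂) = fun v : ι₁ ⊕ ι₂ → F => Q₁ (v ∘ Sum.inl) + Q₂ (v ∘ Sum.inr) := rfl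

theorem polar_Qs (x y : ι₁ ⊕ ι₂ → F) :
    QuadraticMap.polar ⇑(Qs Q₁ Q₂) x y =
      QuadraticMap.polar ⇑Q₁ (x ∘ Sum.inl) (y ∘ Sum.inl) +
        QuadraticMap.polar ⇑Q₂ (x ∘ Sum.inr) (y ∘ Sum.inr) := by
  simp only [QuadraticMap.polar, Qs_apply]
  have e1 : (x + y) ∘ Sum.inl = x ∘ Sum.inl + y ∘ (Sum.inl : ι₁ → ι₁ ⊕ ι₂) := rfl
  have e2 : (x + y) ∘ Sum.inr = x ∘ Sum.inr + y ∘ (Sum.inr : ι₂ → ι₁ ⊕ ι₂) := rfl
  rw [e1, e2]
  ring

theorem Qs_nondeg (h₁ : (QuadraticMap.polarBilin Q₁).Nondegenerate)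
    (h₂ : (QuadraticMap.polarBilin Q₂).Nondegenerate) :
    (QuadraticMap.polarBilin (Qs Q₁ Q₂)).Nondegenerate := by
  have h : ∀ x : ι₁ ⊕ ι₂ → F, (∀ y, QuadraticMap.polar ⇑(Qs Q₁ Q₂) x y = 0) → x = 0 := by
    intro x hx
    have e1 : x ∘ Sum.inl = 0 := by
      apply h₁.1
      intro y₁
      have := hx (Sum.elim y₁ 0)
      rw [polar_Qs, Sum.elim_comp_inl, Sum.elim_comp_inr, QuadraticMap.polar_zero_right,
        add_zero] at this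
      exact this
    have e2 : x ∘ Sum.inr = 0 := by
      apply h₂.1
      intro y₁
      have := hx (Sum.elim 0 y₁)
      rw [polar_Qs, Sum.elim_comp_inl, Sum.elim_comp_inr, QuadraticMap.polar_zero_right,
        zero_add] at this
      exact this
    funext s
    rcases s with i | i
    · exact congrFun e1 i
    · exact congrFun e2 i
  constructor
  · intro x hx
    exact h x hx
  · intro y hy
    apply h y
    intro x
    rw [QuadraticMap.polar_comm]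
    exact hy x

/-- the embedding `g ↦ g ⊕ 1` -/
noncomputable def embL : ↥(Cfsg.isometryGroup F ⇑Q₁) →* ↥(Cfsg.isometryGroup F ⇑(Qs Q₁ Q₂)) where
  toFun g := ⟨⟨Matrix.fromBlocks ((g : GL ι₁ F) : Matrix ι₁ ι₁ F) 0 0 1,
      Matrix.fromBlocks ((g⁻¹ : ↥(Cfsg.isometryGroup F ⇑Q₁)) : GL ι₁ F).1 0 0 1, by
        rw [Matrix.fromBlocks_multiply]
        have : ((g : GL ι₁ F) : Matrix ι₁ ι₁ F) * ((g⁻¹ : ↥(Cfsg.isometryGroup F ⇑Q₁)) : GL ι₁ F).1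
            = 1 := by
          have := congrArg (fun x : ↥(Cfsg.isometryGroup F ⇑Q₁) => ((x : GL ι₁ F) : Matrix ι₁ ι₁ F))
            (mul_inv_cancel g)
          exact this
        simp [this, Matrix.fromBlocks_one], by
        rw [Matrix.fromBlocks_multiply]
        have : ((g⁻¹ : ↥(Cfsg.isometryGroup F ⇑Q₁)) : GL ι₁ F).1 * ((g : GL ι₁ F) : Matrix ι₁ ι₁ F)
            = 1 := by
          have := congrArg (fun x : ↥(Cfsg.isometryGroup F ⇑Q₁) => ((x : GL ι₁ F) : Matrix ι₁ ι₁ F))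
            (inv_mul_cancel g)
          exact this
        simp [this, Matrix.fromBlocks_one]⟩, by
      rw [mem_isometryGroup_iff]
      intro u
      show Qs Q₁ Q₂ (Matrix.fromBlocks ((g : GL ι₁ F) : Matrix ι₁ ι₁ F) 0 0 1 *ᵥ u) = Qs Q₁ Q₂ u
      rw [Qs_apply, Qs_apply, Matrix.fromBlocks_mulVec]
      simp only [Sum.elim_comp_inl, Sum.elim_comp_inr, Matrix.zero_mulVec, add_zero, zero_add,
        Matrix.one_mulVec]
      rw [isom_apply]⟩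
  map_one' := by
    apply Subtype.ext
    apply Units.ext
    show Matrix.fromBlocks (1 : Matrix ι₁ ι₁ F) 0 0 1 = 1
    exact Matrix.fromBlocks_one
  map_mul' g h := by
    apply Subtype.ext
    apply Units.ext
    show Matrix.fromBlocks (((g : GL ι₁ F) : Matrix ι₁ ι₁ F) * ((h : GL ι₁ F) : Matrix ι₁ ι₁ F)) 0 0 1
      = Matrix.fromBlocks ((g : GL ι₁ F) : Matrix ι₁ ι₁ F) 0 0 1 *
        Matrix.fromBlocks ((h : GL ι₁ F) : Matrix ι₁ ι₁ F) 0 0 1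
    rw [Matrix.fromBlocks_multiply]
    simp

theorem embL_val (g : ↥(Cfsg.isometryGroup F ⇑Q₁)) :
    ((embL Q₁ Q₂ g : GL (ι₁ ⊕ ι₂) F) : Matrix (ι₁ ⊕ ι₂) (ι₁ ⊕ ι₂) F) =
      Matrix.fromBlocks ((g : GL ι₁ F) : Matrix ι₁ ι₁ F) 0 0 1 := rfl

/-- the embedding `g ↦ 1 ⊕ g` -/
noncomputable def embR : ↥(Cfsg.isometryGroup F ⇑Q₂) →* ↥(Cfsg.isometryGroup F ⇑(Qs Q₁ Q₂)) where
  toFun g := ⟨⟨Matrix.fromBlocks 1 0 0 ((g : GL ι₂ F) : Matrix ι₂ ι₂ F),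
      Matrix.fromBlocks 1 0 0 ((g⁻¹ : ↥(Cfsg.isometryGroup F ⇑Q₂)) : GL ι₂ F).1, by
        rw [Matrix.fromBlocks_multiply]
        have : ((g : GL ι₂ F) : Matrix ι₂ ι₂ F) * ((g⁻¹ : ↥(Cfsg.isometryGroup F ⇑Q₂)) : GL ι₂ F).1
            = 1 := by
          have := congrArg (fun x : ↥(Cfsg.isometryGroup F ⇑Q₂) => ((x : GL ι₂ F) : Matrix ι₂ ι₂ F))
            (mul_inv_cancel g)
          exact this
        simp [this, Matrix.fromBlocks_one], by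
        rw [Matrix.fromBlocks_multiply]
        have : ((g⁻¹ : ↥(Cfsg.isometryGroup F ⇑Q₂)) : GL ι₂ F).1 * ((g : GL ι₂ F) : Matrix ι₂ ι₂ F)
            = 1 := by
          have := congrArg (fun x : ↥(Cfsg.isometryGroup F ⇑Q₂) => ((x : GL ι₂ F) : Matrix ι₂ ι₂ F))
            (inv_mul_cancel g)
          exact this
        simp [this, Matrix.fromBlocks_one]⟩, by
      rw [mem_isometryGroup_iff]
      intro u
      show Qs Q₁ Q₂ (Matrix.fromBlocks 1 0 0 ((g : GL ι₂ F) : Matrix ι₂ ι₂ F) *ᵥ u) = Qs Q₁ Q₂ u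
      rw [Qs_apply, Qs_apply, Matrix.fromBlocks_mulVec]
      simp only [Sum.elim_comp_inl, Sum.elim_comp_inr, Matrix.zero_mulVec, add_zero, zero_add,
        Matrix.one_mulVec]
      rw [isom_apply]⟩
  map_one' := by
    apply Subtype.ext
    apply Units.ext
    show Matrix.fromBlocks (1 : Matrix ι₁ ι₁ F) 0 0 1 = 1
    exact Matrix.fromBlocks_one
  map_mul' g h := by
    apply Subtype.ext
    apply Units.ext
    show Matrix.fromBlocks 1 0 0 (((g : GL ι₂ F) : Matrix ι₂ ι₂ F) * ((h : GL ι₂ F) : Matrix ι₂ ι₂ F))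
      = Matrix.fromBlocks 1 0 0 ((g : GL ι₂ F) : Matrix ι₂ ι₂ F) *
        Matrix.fromBlocks 1 0 0 ((h : GL ι₂ F) : Matrix ι₂ ι₂ F)
    rw [Matrix.fromBlocks_multiply]
    simp

theorem embR_val (g : ↥(Cfsg.isometryGroup F ⇑Q₂)) :
    ((embR Q₁ Q₂ g : GL (ι₁ ⊕ ι₂) F) : Matrix (ι₁ ⊕ ι₂) (ι₁ ⊕ ι₂) F) =
      Matrix.fromBlocks 1 0 0 ((g : GL ι₂ F) : Matrix ι₂ ι₂ F) := rfl

theorem Qs_inl (v : ι₁ → F) : Qs Q₁ Q₂ (Sum.elim v 0) = Q₁ v := by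
  rw [Qs_apply, Sum.elim_comp_inl, Sum.elim_comp_inr, map_zero, add_zero]

theorem Qs_inr (v : ι₂ → F) : Qs Q₁ Q₂ (Sum.elim 0 v) = Q₂ v := by
  rw [Qs_apply, Sum.elim_comp_inl, Sum.elim_comp_inr, map_zero, zero_add]

theorem refl_inl (v : ι₁ → F) :
    Cfsg.reflectionMatrix ⇑(Qs Q₁ Q₂) (Sum.elim v 0) =
      Matrix.fromBlocks (Cfsg.reflectionMatrix ⇑Q₁ v) 0 0 1 := by
  apply Spin.matrix_ext_mulVec
  intro x
  rw [refl_mulVec, Matrix.fromBlocks_mulVec, Qs_inl, polar_Qs, Sum.elim_comp_inl,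
    Sum.elim_comp_inr, QuadraticMap.polar_zero_left, add_zero, refl_mulVec]
  funext s
  rcases s with i | i <;> simp

theorem refl_inr (v : ι₂ → F) :
    Cfsg.reflectionMatrix ⇑(Qs Q₁ Q₂) (Sum.elim 0 v) =
      Matrix.fromBlocks 1 0 0 (Cfsg.reflectionMatrix ⇑Q₂ v) := by
  apply Spin.matrix_ext_mulVec
  intro x
  rw [refl_mulVec, Matrix.fromBlocks_mulVec, Qs_inr, polar_Qs, Sum.elim_comp_inl,
    Sum.elim_comp_inr, QuadraticMap.polar_zero_left, zero_add, refl_mulVec]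
  funext s
  rcases s with i | i <;> simp

/-- lifting nonsingular vectors -/
def liftL (v : NS Q₁) : NS (Qs Q₁ Q₂) := ⟨Sum.elim v.1 0, by rw [Qs_inl]; exact v.2⟩

/-- lifting nonsingular vectors -/
def liftR (v : NS Q₂) : NS (Qs Q₁ Q₂) := ⟨Sum.elim 0 v.1, by rw [Qs_inr]; exact v.2⟩

theorem embL_reflO (v : NS Q₁) :
    embL Q₁ Q₂ (reflO Q₁ v.1 v.2) = reflO (Qs Q₁ Q₂) (liftL Q₁ Q₂ v).1 (liftL Q₁ Q₂ v).2 := by
  apply Subtype.ext
  apply Units.ext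
  show Matrix.fromBlocks (Cfsg.reflectionMatrix ⇑Q₁ v.1) 0 0 1 =
    Cfsg.reflectionMatrix ⇑(Qs Q₁ Q₂) (Sum.elim v.1 0)
  rw [refl_inl]

theorem embR_reflO (v : NS Q₂) :
    embR Q₁ Q₂ (reflO Q₂ v.1 v.2) = reflO (Qs Q₁ Q₂) (liftR Q₁ Q₂ v).1 (liftR Q₁ Q₂ v).2 := by
  apply Subtype.ext
  apply Units.ext
  show Matrix.fromBlocks 1 0 0 (Cfsg.reflectionMatrix ⇑Q₂ v.1) =
    Cfsg.reflectionMatrix ⇑(Qs Q₁ Q₂) (Sum.elim 0 v.1)
  rw [refl_inr]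

variable [Fintype F]

theorem embL_prodO (L : List (NS Q₁)) :
    embL Q₁ Q₂ (prodO Q₁ L) = prodO (Qs Q₁ Q₂) (L.map (liftL Q₁ Q₂)) := by
  induction L with
  | nil => simp [prodO_nil]
  | cons v L ih =>
    rw [prodO_cons, map_mul, ih, List.map_cons, prodO_cons, embL_reflO]

theorem embR_prodO (L : List (NS Q₂)) :
    embR Q₁ Q₂ (prodO Q₂ L) = prodO (Qs Q₁ Q₂) (L.map (liftR Q₁ Q₂)) := by
  induction L with
  | nil => simp [prodO_nil]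
  | cons v L ih =>
    rw [prodO_cons, map_mul, ih, List.map_cons, prodO_cons, embR_reflO]

theorem normProd_liftL (L : List (NS Q₁)) :
    normProd (Qs Q₁ Q₂) (L.map (liftL Q₁ Q₂)) = normProd Q₁ L := by
  unfold normProd
  rw [List.map_map]
  congr 1
  apply List.map_congr_left
  intro v _
  exact Qs_inl Q₁ Q₂ v.1

theorem normProd_liftR (L : List (NS Q₂)) :
    normProd (Qs Q₁ Q₂) (L.map (liftR Q₁ Q₂)) = normProd Q₂ L := by
  unfold normProd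
  rw [List.map_map]
  congr 1
  apply List.map_congr_left
  intro v _
  exact Qs_inr Q₁ Q₂ v.1

theorem prodO_append (Q : QuadraticForm F (ι₁ → F)) (L L' : List (NS Q)) :
    prodO Q (L ++ L') = prodO Q L * prodO Q L' := by
  unfold prodO
  rw [List.map_append, List.prod_append]

theorem normProd_append (Q : QuadraticForm F (ι₁ → F)) (L L' : List (NS Q)) :
    normProd Q (L ++ L') = normProd Q L * normProd Q L' := by
  unfold normProd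
  rw [List.map_append, List.prod_append]

/-- characteristic two: `g ⊕ 1 ∈ Ω(Q₁ ⊕ Q₂)` iff `g ∈ Ω(Q₁)` -/
theorem embL_mem_Omega_iff_even (h2 : (2 : F) = 0)
    (h₁ : (QuadraticMap.polarBilin Q₁).Nondegenerate)
    (h₂ : (QuadraticMap.polarBilin Q₂).Nondegenerate)
    (hc1 : Fintype.card F ≠ 2 ∨ Fintype.card ι₁ ≠ 4)
    (hc : Fintype.card F ≠ 2 ∨ Fintype.card (ι₁ ⊕ ι₂) ≠ 4) (g : ↥(Cfsg.isometryGroup F ⇑Q₁)) :
    embL Q₁ Q₂ g ∈ Cfsg.Omega F ⇑(Qs Q₁ Q₂) ↔ g ∈ Cfsg.Omega F ⇑Q₁ := by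
  rw [Cfsg.Agent.Helper28.CD2.mem_Omega_iff_even_rank (Qs Q₁ Q₂) h2 (Qs_nondeg Q₁ Q₂ h₁ h₂) hc,
    Cfsg.Agent.Helper28.CD2.mem_Omega_iff_even_rank Q₁ h2 h₁ hc1, embL_val]
  have : Matrix.fromBlocks ((g : GL ι₁ F) : Matrix ι₁ ι₁ F) 0 0 (1 : Matrix ι₂ ι₂ F) - 1 =
      Matrix.fromBlocks (((g : GL ι₁ F) : Matrix ι₁ ι₁ F) - 1) 0 0 0 := by
    rw [← Matrix.fromBlocks_one, sub_eq_add_neg, Matrix.fromBlocks_neg, Matrix.fromBlocks_add]
    simp [sub_eq_add_neg]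
  rw [this, rank_fromBlocks_left]

/-- characteristic two: `diag(g, h) ∈ Ω(Q₁ ⊕ Q₂)` iff the ranks of `g - 1`, `h - 1` have the same
parity -/
theorem rank_embR (g : ↥(Cfsg.isometryGroup F ⇑Q₂)) :
    (((embR Q₁ Q₂ g : GL (ι₁ ⊕ ι₂) F) : Matrix (ι₁ ⊕ ι₂) (ι₁ ⊕ ι₂) F) - 1).rank =
      (((g : GL ι₂ F) : Matrix ι₂ ι₂ F) - 1).rank := by
  rw [embR_val]
  have : Matrix.fromBlocks (1 : Matrix ι₁ ι₁ F) 0 0 ((g : GL ι₂ F) : Matrix ι₂ ι₂ F) - 1 =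
      Matrix.fromBlocks 0 0 0 (((g : GL ι₂ F) : Matrix ι₂ ι₂ F) - 1) := by
    rw [← Matrix.fromBlocks_one, sub_eq_add_neg, Matrix.fromBlocks_neg, Matrix.fromBlocks_add]
    simp [sub_eq_add_neg]
  rw [this, rank_fromBlocks_right]

theorem rank_embL (g : ↥(Cfsg.isometryGroup F ⇑Q₁)) :
    (((embL Q₁ Q₂ g : GL (ι₁ ⊕ ι₂) F) : Matrix (ι₁ ⊕ ι₂) (ι₁ ⊕ ι₂) F) - 1).rank =
      (((g : GL ι₁ F) : Matrix ι₁ ι₁ F) - 1).rank := by
  rw [embL_val]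
  have : Matrix.fromBlocks ((g : GL ι₁ F) : Matrix ι₁ ι₁ F) 0 0 (1 : Matrix ι₂ ι₂ F) - 1 =
      Matrix.fromBlocks (((g : GL ι₁ F) : Matrix ι₁ ι₁ F) - 1) 0 0 0 := by
    rw [← Matrix.fromBlocks_one, sub_eq_add_neg, Matrix.fromBlocks_neg, Matrix.fromBlocks_add]
    simp [sub_eq_add_neg]
  rw [this, rank_fromBlocks_left]

end sum

section fin

variable {F : Type*} [Field F] [Fintype F] {k : ℕ} {ι₂ : Type} [Fintype ι₂] [DecidableEq ι₂]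
  (Q₁ : QuadraticForm F (Fin k → F)) (Q₂ : QuadraticForm F (ι₂ → F))

theorem exists_prodO_eq (h2 : (2 : F) ≠ 0) (h₁ : (QuadraticMap.polarBilin Q₁).Nondegenerate)
    (g : ↥(Cfsg.isometryGroup F ⇑Q₁)) : ∃ L : List (NS Q₁), g = prodO Q₁ L := by
  obtain ⟨L, hL⟩ := Cfsg.Agent.Helper28.cartan_dieudonne Q₁ h2 h₁ _ (isom_apply Q₁ g)
  refine ⟨L, ?_⟩
  apply Subtype.ext
  apply Units.ext
  rw [hL, prodO_val]
  rfl

/-- odd characteristic: `g ⊕ 1 ∈ Ω(Q₁ ⊕ Q₂)` iff `g ∈ Ω(Q₁)` -/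
theorem embL_mem_Omega_iff_odd (h2 : (2 : F) ≠ 0)
    (h₁ : (QuadraticMap.polarBilin Q₁).Nondegenerate) (g : ↥(Cfsg.isometryGroup F ⇑Q₁)) :
    embL Q₁ Q₂ g ∈ Cfsg.Omega F ⇑(Qs Q₁ Q₂) ↔ g ∈ Cfsg.Omega F ⇑Q₁ := by
  obtain ⟨L, rfl⟩ := exists_prodO_eq Q₁ h2 h₁ g
  rw [embL_prodO, prodO_mem_Omega_iff _ h2, prodO_mem_Omega_iff _ h2, List.length_map,
    normProd_liftL]

end fin

end Cfsg.Agent.Helper28.OrthSum
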