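import Mathlib
import Cfsg.Agent.Helper28.QWitt
import Cfsg.Agent.Helper28.OrthSum
import Cfsg.Agent.Helper13.QuadWitt

set_option autoImplicit false
set_option linter.unusedSectionVars false

/-! Transitivity of `Ω` on subspaces via Witt's theorem. -/

namespace Cfsg.Agent.Helper28.WO

open Module Submodule Matrix Cfsg.Agent.Helper28.Spin Cfsg.Agent.Helper28.IsoTransport
open Cfsg.Agent.Helper28.CD2

section basic

variable {F : Type*} [Field F] {ι : Type} [Fintype ι] [DecidableEq ι]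
  (Q : QuadraticForm F (ι → F))

/-- a linear isometry as an element of the isometry group -/
theorem exists_isom (g : (ι → F) ≃ₗ[F] (ι → F)) (hg : ∀ v, Q (g v) = Q v) :
    ∃ M : ↥(Cfsg.isometryGroup F ⇑Q), ∀ x, ((M : GL ι F) : Matrix ι ι F) *ᵥ x = g x := by
  have h1 : LinearMap.toMatrix' g.toLinearMap * LinearMap.toMatrix' g.symm.toLinearMap = 1 := by
    rw [← LinearMap.toMatrix'_comp]
    simp
  have h2 : LinearMap.toMatrix' g.symm.toLinearMap * LinearMap.toMatrix' g.toLinearMap = 1 := by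
    rw [← LinearMap.toMatrix'_comp]
    simp
  refine ⟨⟨⟨LinearMap.toMatrix' g.toLinearMap, LinearMap.toMatrix' g.symm.toLinearMap, h1, h2⟩, ?_⟩, ?_⟩
  · rw [mem_isometryGroup_iff]
    intro u
    show Q (LinearMap.toMatrix' g.toLinearMap *ᵥ u) = Q u
    rw [LinearMap.toMatrix'_mulVec]
    exact hg u
  · intro x
    show LinearMap.toMatrix' g.toLinearMap *ᵥ x = g x
    rw [LinearMap.toMatrix'_mulVec]
    rfl

/-- the stabiliser of a subspace -/
def stab (W : Submodule F (ι → F)) : Subgroup ↥(Cfsg.isometryGroup F ⇑Q) where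
  carrier := {g | W.map (Matrix.mulVecLin ((g : GL ι F) : Matrix ι ι F)) = W}
  mul_mem' := by
    intro a b ha hb
    show W.map (Matrix.mulVecLin (((a : GL ι F) : Matrix ι ι F) * ((b : GL ι F) : Matrix ι ι F))) = W
    rw [Matrix.mulVecLin_mul, Submodule.map_comp]
    have ha' : W.map (Matrix.mulVecLin ((a : GL ι F) : Matrix ι ι F)) = W := ha
    have hb' : W.map (Matrix.mulVecLin ((b : GL ι F) : Matrix ι ι F)) = W := hb
    rw [hb', ha']
  one_mem' := by
    show W.map (Matrix.mulVecLin (1 : Matrix ι ι F)) = W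
    rw [Matrix.mulVecLin_one]
    exact Submodule.map_id W
  inv_mem' := by
    intro a ha
    have ha' : W.map (Matrix.mulVecLin ((a : GL ι F) : Matrix ι ι F)) = W := ha
    show W.map (Matrix.mulVecLin ((a⁻¹ : ↥(Cfsg.isometryGroup F ⇑Q)) : GL ι F).1) = W
    conv_lhs => rw [← ha']
    rw [← Submodule.map_comp, ← Matrix.mulVecLin_mul]
    have : ((a⁻¹ : ↥(Cfsg.isometryGroup F ⇑Q)) : GL ι F).1 * ((a : GL ι F) : Matrix ι ι F) = 1 := by
      have := congrArg (fun x : ↥(Cfsg.isometryGroup F ⇑Q) => ((x : GL ι F) : Matrix ι ι F))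
        (inv_mul_cancel a)
      exact this
    rw [this, Matrix.mulVecLin_one]
    exact Submodule.map_id W

theorem mem_stab_iff (W : Submodule F (ι → F)) (g : ↥(Cfsg.isometryGroup F ⇑Q)) :
    g ∈ stab Q W ↔ W.map (Matrix.mulVecLin ((g : GL ι F) : Matrix ι ι F)) = W := Iff.rfl

theorem mulVec_injective (g : ↥(Cfsg.isometryGroup F ⇑Q)) :
    Function.Injective (Matrix.mulVecLin ((g : GL ι F) : Matrix ι ι F)) := by
  intro x y hxy
  have h1 : ((g⁻¹ : ↥(Cfsg.isometryGroup F ⇑Q)) : GL ι F).1 * ((g : GL ι F) : Matrix ι ι F) = 1 := by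
    have := congrArg (fun x : ↥(Cfsg.isometryGroup F ⇑Q) => ((x : GL ι F) : Matrix ι ι F))
      (inv_mul_cancel g)
    exact this
  have h2 : ∀ v : ι → F, ((g⁻¹ : ↥(Cfsg.isometryGroup F ⇑Q)) : GL ι F).1 *ᵥ
      (((g : GL ι F) : Matrix ι ι F) *ᵥ v) = v := by
    intro v
    rw [Matrix.mulVec_mulVec, h1, Matrix.one_mulVec]
  rw [← h2 x, ← h2 y]
  congr 1

theorem mem_stab_of_le (W : Submodule F (ι → F)) (g : ↥(Cfsg.isometryGroup F ⇑Q))
    (h : ∀ w ∈ W, ((g : GL ι F) : Matrix ι ι F) *ᵥ w ∈ W) : g ∈ stab Q W := by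
  rw [mem_stab_iff]
  apply Submodule.eq_of_le_of_finrank_eq
  · rintro _ ⟨w, hw, rfl⟩
    exact h w hw
  · exact LinearEquiv.finrank_eq
      (Submodule.equivMapOfInjective _ (mulVec_injective Q g) W).symm

theorem reflO_mem_stab_of_orth (W : Submodule F (ι → F)) (v : ι → F) (hv : Q v ≠ 0)
    (h : ∀ w ∈ W, QuadraticMap.polar ⇑Q v w = 0) : reflO Q v hv ∈ stab Q W := by
  apply mem_stab_of_le
  intro w hw
  show Cfsg.reflectionMatrix ⇑Q v *ᵥ w ∈ W
  rw [Spin.refl_fix Q (h w hw)]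
  exact hw

theorem reflO_mem_stab_of_mem (W : Submodule F (ι → F)) (v : ι → F) (hv : Q v ≠ 0)
    (h : v ∈ W) : reflO Q v hv ∈ stab Q W := by
  apply mem_stab_of_le
  intro w hw
  show Cfsg.reflectionMatrix ⇑Q v *ᵥ w ∈ W
  rw [Spin.refl_mulVec]
  exact W.sub_mem hw (W.smul_mem _ h)

end basic

section adjust

variable {F : Type*} [Field F] [Fintype F] {n : ℕ} (Q : QuadraticForm F (Fin n → F))

/-- a subgroup containing enough reflections covers `O/Ω` -/
theorem exists_adjust (hQ : (QuadraticMap.polarBilin Q).Nondegenerate)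
    (hcard : Fintype.card F ≠ 2 ∨ n ≠ 4) (S : Subgroup ↥(Cfsg.isometryGroup F ⇑Q))
    (h1 : ∃ (v : Fin n → F) (hv : Q v ≠ 0), reflO Q v hv ∈ S)
    (h2 : (2 : F) ≠ 0 → ∀ l : F, l ≠ 0 → ∃ (a b : Fin n → F) (ha : Q a ≠ 0) (hb : Q b ≠ 0),
      Q a * Q b = l ∧ reflO Q a ha * reflO Q b hb ∈ S)
    (g₀ : ↥(Cfsg.isometryGroup F ⇑Q)) : ∃ h ∈ S, h * g₀ ∈ Cfsg.Omega F ⇑Q := by
  obtain ⟨v, hv, hvS⟩ := h1
  by_cases h20 : (2 : F) = 0
  · have hcard' : Fintype.card F ≠ 2 ∨ Fintype.card (Fin n) ≠ 4 := by simpa using hcard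
    rcases mem_or_mul_mem Q h20 hQ hcard' v hv g₀ with h | h
    · exact ⟨1, S.one_mem, by rw [one_mul]; exact Rfl2_le_Omega Q h20 hQ hcard' h⟩
    · exact ⟨reflO Q v hv, hvS, Rfl2_le_Omega Q h20 hQ hcard' h⟩
  · obtain ⟨L, rfl⟩ := OrthSum.exists_prodO_eq Q h20 hQ g₀
    have hnp := normProd_ne_zero Q L
    rcases Nat.even_or_odd L.length with hev | hodd
    · obtain ⟨a, b, ha, hb, hab, habS⟩ := h2 h20 (normProd Q L) hnp
      refine ⟨reflO Q a ha * reflO Q b hb, habS, ?_⟩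
      have e : reflO Q a ha * reflO Q b hb * prodO Q L = prodO Q (⟨a, ha⟩ :: ⟨b, hb⟩ :: L) := by
        rw [prodO_cons, prodO_cons, mul_assoc]
      rw [e, prodO_mem_Omega_iff Q h20]
      constructor
      · rw [List.length_cons, List.length_cons]
        obtain ⟨k, hk⟩ := hev
        exact ⟨k + 1, by omega⟩
      · have : normProd Q (⟨a, ha⟩ :: ⟨b, hb⟩ :: L) = Q a * Q b * normProd Q L := by
          simp only [normProd, List.map_cons, List.prod_cons]
          ring
        rw [this, hab]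
        exact ⟨_, rfl⟩
    · obtain ⟨a, b, ha, hb, hab, habS⟩ := h2 h20 (Q v * normProd Q L) (mul_ne_zero hv hnp)
      refine ⟨reflO Q v hv * (reflO Q a ha * reflO Q b hb), S.mul_mem hvS habS, ?_⟩
      have e : reflO Q v hv * (reflO Q a ha * reflO Q b hb) * prodO Q L =
          prodO Q (⟨v, hv⟩ :: ⟨a, ha⟩ :: ⟨b, hb⟩ :: L) := by
        rw [prodO_cons, prodO_cons, prodO_cons, mul_assoc, mul_assoc]
      rw [e, prodO_mem_Omega_iff Q h20]
      constructor
      · rw [List.length_cons, List.length_cons, List.length_cons]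
        obtain ⟨k, hk⟩ := hodd
        exact ⟨k + 2, by omega⟩
      · have : normProd Q (⟨v, hv⟩ :: ⟨a, ha⟩ :: ⟨b, hb⟩ :: L) =
            Q v * (Q a * Q b) * normProd Q L := by
          simp only [normProd, List.map_cons, List.prod_cons]
          ring
        rw [this, hab]
        exact ⟨Q v * normProd Q L, by ring⟩

end adjust

section hyp

variable {F : Type*} [Field F] {ι : Type} [Fintype ι] [DecidableEq ι]
  (Q : QuadraticForm F (ι → F))

/-- the product of two reflections in a hyperbolic plane is a hyperbolic rotation -/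
theorem refl_refl_hyp (z y : ι → F) (hz : Q z = 0) (hy : Q y = 0)
    (hzy : QuadraticMap.polar ⇑Q z y = 1) (l : F) (hl : l ≠ 0) (x : ι → F) :
    Cfsg.reflectionMatrix ⇑Q (z + y) *ᵥ (Cfsg.reflectionMatrix ⇑Q (z + l • y) *ᵥ x) =
      x + ((l - 1) * QuadraticMap.polar ⇑Q y x) • z +
        ((l⁻¹ - 1) * QuadraticMap.polar ⇑Q z x) • y := by
  have hQa : Q (z + y) = 1 := by
    rw [QuadraticMap.map_add (⇑Q), hz, hy, hzy]; ring
  have hQb : Q (z + l • y) = l := by
    rw [QuadraticMap.map_add (⇑Q), QuadraticMap.map_smul, hz, hy, QuadraticMap.polar_smul_right,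
      hzy]
    simp
  have hzz : QuadraticMap.polar ⇑Q z z = 0 := by rw [Spin.polar_self', hz, mul_zero]
  have hyy : QuadraticMap.polar ⇑Q y y = 0 := by rw [Spin.polar_self', hy, mul_zero]
  have hyz : QuadraticMap.polar ⇑Q y z = 1 := by rw [QuadraticMap.polar_comm]; exact hzy
  rw [Spin.refl_mulVec, Spin.refl_mulVec, hQa, hQb]
  simp only [QuadraticMap.polar_add_left, QuadraticMap.polar_add_right, QuadraticMap.polar_sub_right,
    QuadraticMap.polar_smul_left, QuadraticMap.polar_smul_right, hzz, hyy, hzy, hyz, smul_eq_mul]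
  funext i
  simp only [Pi.add_apply, Pi.sub_apply, Pi.smul_apply, smul_eq_mul]
  field_simp
  ring

end hyp

section univ

variable {F : Type*} [Field F] [Fintype F] {ι : Type} [Fintype ι] [DecidableEq ι]
  (Q : QuadraticForm F (ι → F))

/-- a non-degenerate subspace of dimension at least two represents every scalar -/
theorem exists_mem_eq (T : Submodule F (ι → F))
    (hT : T ⊓ LinearMap.BilinForm.orthogonal (QuadraticMap.polarBilin Q) T = ⊥)
    (h2 : 2 ≤ finrank F T) (c : F) : ∃ v ∈ T, Q v = c := by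
  set QT : QuadraticForm F T := Q.comp T.subtype with hQT
  have hQTa : ∀ t : T, QT t = Q (t : ι → F) := fun t => rfl
  have hnd : ∀ t : T, (∀ t' : T, QuadraticMap.polar QT t t' = 0) → t = 0 := by
    intro t ht
    have hmem : (t : ι → F) ∈ T ⊓ LinearMap.BilinForm.orthogonal (QuadraticMap.polarBilin Q) T := by
      refine ⟨t.2, ?_⟩
      show (t : ι → F) ∈ LinearMap.BilinForm.orthogonal (QuadraticMap.polarBilin Q) T
      rw [LinearMap.BilinForm.mem_orthogonal_iff]
      intro t' ht'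
      show QuadraticMap.polar ⇑Q t' t = 0
      have := ht ⟨t', ht'⟩
      rw [Cfsg.Agent.Helper13.polar_comp_subtype] at this
      rw [QuadraticMap.polar_comm]
      exact this
    rw [hT, Submodule.mem_bot] at hmem
    exact Subtype.ext hmem
  by_cases haniso : ∀ t : T, QT t = 0 → t = 0
  · obtain ⟨t, ht⟩ := Cfsg.Agent.Helper13.represents_of_aniso QT h2 haniso c
    exact ⟨t, t.2, ht⟩
  · push Not at haniso
    obtain ⟨t, ht0, htne⟩ := haniso
    obtain ⟨f, hf0, hf1⟩ := Cfsg.Agent.Helper13.exists_hyperbolic_partner QT hnd t htne ht0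
    refine ⟨((t + c • f : T) : ι → F), (t + c • f).2, ?_⟩
    rw [← hQTa, QuadraticMap.map_add (⇑QT), QuadraticMap.map_smul, ht0, hf0,
      QuadraticMap.polar_smul_right, hf1]
    simp

/-- the polar form vanishes on a totally singular subspace -/
theorem polar_eq_zero_of_singular (W : Submodule F (ι → F)) (hW0 : ∀ w ∈ W, Q w = 0)
    {x y : ι → F} (hx : x ∈ W) (hy : y ∈ W) : QuadraticMap.polar ⇑Q x y = 0 := by
  unfold QuadraticMap.polar
  rw [hW0 _ (W.add_mem hx hy), hW0 x hx, hW0 y hy]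
  ring

/-- a small totally singular subspace is orthogonal to some nonsingular vector -/
theorem exists_nonsingular_orth (hQ : (QuadraticMap.polarBilin Q).Nondegenerate)
    (W : Submodule F (ι → F)) (hk : 2 * finrank F W < Fintype.card ι) :
    ∃ v, Q v ≠ 0 ∧ ∀ w ∈ W, QuadraticMap.polar ⇑Q v w = 0 := by
  set B := QuadraticMap.polarBilin Q with hB
  have hrefl : B.IsRefl := by
    intro x y h
    show QuadraticMap.polar ⇑Q y x = 0
    rw [QuadraticMap.polar_comm]
    exact h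
  by_contra hcon
  push Not at hcon
  have hall : ∀ v ∈ LinearMap.BilinForm.orthogonal B W, Q v = 0 := by
    intro v hv
    by_contra hne
    obtain ⟨w, hw, hvw⟩ := hcon v hne
    apply hvw
    rw [LinearMap.BilinForm.mem_orthogonal_iff] at hv
    have := hv w hw
    show QuadraticMap.polar ⇑Q v w = 0
    rw [QuadraticMap.polar_comm]
    exact this
  have hle : LinearMap.BilinForm.orthogonal B W ≤
      LinearMap.BilinForm.orthogonal B (LinearMap.BilinForm.orthogonal B W) := by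
    intro v hv
    rw [LinearMap.BilinForm.mem_orthogonal_iff]
    intro u hu
    exact polar_eq_zero_of_singular Q _ hall hu hv
  rw [LinearMap.BilinForm.orthogonal_orthogonal hQ hrefl] at hle
  have h1 := Submodule.finrank_mono hle
  have h2 := LinearMap.BilinForm.finrank_orthogonal hQ W
  rw [Module.finrank_fintype_fun_eq_card] at h2
  omega

end univ

section main

variable {F : Type*} [Field F] [Fintype F] {n : ℕ} (Q : QuadraticForm F (Fin n → F))

/-- Witt's theorem in group form: an isometry between subspaces is induced by an element of the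
isometry group -/
theorem exists_map_eq (hQ : (QuadraticMap.polarBilin Q).Nondegenerate)
    (U W : Submodule F (Fin n → F)) (e : U ≃ₗ[F] W)
    (he : ∀ u : U, Q (e u : Fin n → F) = Q (u : Fin n → F)) :
    ∃ g : ↥(Cfsg.isometryGroup F ⇑Q),
      U.map (Matrix.mulVecLin ((g : GL (Fin n) F) : Matrix (Fin n) (Fin n) F)) = W := by
  obtain ⟨g₀, hg₀Q, hg₀⟩ := Cfsg.Agent.Helper28.QWitt.witt_extension Q hQ U W e he
  obtain ⟨M, hM⟩ := exists_isom Q g₀ hg₀Q
  refine ⟨M, ?_⟩
  ext x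
  constructor
  · rintro ⟨u, hu, rfl⟩
    rw [Matrix.mulVecLin_apply, hM, hg₀ ⟨u, hu⟩]
    exact (e ⟨u, hu⟩).2
  · intro hx
    refine ⟨(e.symm ⟨x, hx⟩ : Fin n → F), (e.symm ⟨x, hx⟩).2, ?_⟩
    rw [Matrix.mulVecLin_apply, hM, hg₀, LinearEquiv.apply_symm_apply]

/-- moving into `Ω` -/
theorem exists_map_eq_Omega (hQ : (QuadraticMap.polarBilin Q).Nondegenerate)
    (hcard : Fintype.card F ≠ 2 ∨ n ≠ 4) (U W : Submodule F (Fin n → F))
    (g₀ : ↥(Cfsg.isometryGroup F ⇑Q))
    (hg₀ : U.map (Matrix.mulVecLin ((g₀ : GL (Fin n) F) : Matrix (Fin n) (Fin n) F)) = W)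
    (h1 : ∃ (v : Fin n → F) (hv : Q v ≠ 0), reflO Q v hv ∈ stab Q W)
    (h2 : (2 : F) ≠ 0 → ∀ l : F, l ≠ 0 → ∃ (a b : Fin n → F) (ha : Q a ≠ 0) (hb : Q b ≠ 0),
      Q a * Q b = l ∧ reflO Q a ha * reflO Q b hb ∈ stab Q W) :
    ∃ g : ↥(Cfsg.isometryGroup F ⇑Q), g ∈ Cfsg.Omega F ⇑Q ∧
      U.map (Matrix.mulVecLin ((g : GL (Fin n) F) : Matrix (Fin n) (Fin n) F)) = W := by
  obtain ⟨h, hhS, hhΩ⟩ := exists_adjust Q hQ hcard (stab Q W) h1 h2 g₀
  refine ⟨h * g₀, hhΩ, ?_⟩
  show U.map (Matrix.mulVecLin (((h : GL (Fin n) F) : Matrix (Fin n) (Fin n) F) *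
    ((g₀ : GL (Fin n) F) : Matrix (Fin n) (Fin n) F))) = W
  rw [Matrix.mulVecLin_mul, Submodule.map_comp, hg₀]
  exact hhS

/-- `Ω` is transitive on totally singular subspaces of a given small dimension -/
theorem omega_trans_singular (hQ : (QuadraticMap.polarBilin Q).Nondegenerate)
    (hcard : Fintype.card F ≠ 2 ∨ n ≠ 4) (U W : Submodule F (Fin n → F)) {k : ℕ}
    (hk : 2 * k < n) (hU : finrank F U = k) (hW : finrank F W = k)
    (hU0 : ∀ u ∈ U, Q u = 0) (hW0 : ∀ w ∈ W, Q w = 0) :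
    ∃ g : ↥(Cfsg.isometryGroup F ⇑Q), g ∈ Cfsg.Omega F ⇑Q ∧
      U.map (Matrix.mulVecLin ((g : GL (Fin n) F) : Matrix (Fin n) (Fin n) F)) = W := by
  by_cases hk0 : k = 0
  · subst hk0
    rw [Submodule.finrank_eq_zero] at hU hW
    refine ⟨1, Subgroup.one_mem _, ?_⟩
    rw [hU, hW, Submodule.map_bot]
  let e : U ≃ₗ[F] W := LinearEquiv.ofFinrankEq U W (hU.trans hW.symm)
  obtain ⟨g₀, hg₀⟩ := exists_map_eq Q hQ U W e
    (fun u => by rw [hU0 _ u.2, hW0 _ (e u).2])
  apply exists_map_eq_Omega Q hQ hcard U W g₀ hg₀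
  · obtain ⟨v, hv, hvW⟩ := exists_nonsingular_orth Q hQ W (by rw [hW]; simpa using hk)
    exact ⟨v, hv, reflO_mem_stab_of_orth Q W v hv hvW⟩
  · intro _ l hl
    have hpos : 0 < finrank F W := by omega
    obtain ⟨⟨z, hzW⟩, hz0⟩ := Module.finrank_pos_iff_exists_ne_zero.1 hpos
    have hz0' : z ≠ 0 := fun h => hz0 (Subtype.ext h)
    have hQz : Q z = 0 := hW0 z hzW
    obtain ⟨y, hQy, hzy⟩ := Cfsg.Agent.Helper13.exists_hyperbolic_partner Q
      (fun v hv => hQ.1 v hv) z hz0' hQz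
    have hQa : Q (z + y) = 1 := by
      rw [QuadraticMap.map_add (⇑Q), hQz, hQy, hzy]; ring
    have hQb : Q (z + l • y) = l := by
      rw [QuadraticMap.map_add (⇑Q), QuadraticMap.map_smul, hQz, hQy,
        QuadraticMap.polar_smul_right, hzy]
      simp
    have ha : Q (z + y) ≠ 0 := by rw [hQa]; exact one_ne_zero
    have hb : Q (z + l • y) ≠ 0 := by rw [hQb]; exact hl
    refine ⟨z + y, z + l • y, ha, hb, by rw [hQa, hQb, one_mul], ?_⟩
    apply mem_stab_of_le
    intro w hw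
    show (Cfsg.reflectionMatrix ⇑Q (z + y) * Cfsg.reflectionMatrix ⇑Q (z + l • y)) *ᵥ w ∈ W
    rw [← Matrix.mulVec_mulVec, refl_refl_hyp Q z y hQz hQy hzy l hl,
      polar_eq_zero_of_singular Q W hW0 hzW hw, mul_zero, zero_smul, add_zero]
    exact W.add_mem hw (W.smul_mem _ hzW)

/-- `Ω` is transitive on non-degenerate subspaces of a given isometry type -/
theorem omega_trans_nondeg (hn : 3 ≤ n) (hQ : (QuadraticMap.polarBilin Q).Nondegenerate)
    (hcard : Fintype.card F ≠ 2 ∨ n ≠ 4) (U W : Submodule F (Fin n → F))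
    (hW : W ⊓ LinearMap.BilinForm.orthogonal (QuadraticMap.polarBilin Q) W = ⊥)
    (e : U ≃ₗ[F] W) (he : ∀ u : U, Q (e u : Fin n → F) = Q (u : Fin n → F)) :
    ∃ g : ↥(Cfsg.isometryGroup F ⇑Q), g ∈ Cfsg.Omega F ⇑Q ∧
      U.map (Matrix.mulVecLin ((g : GL (Fin n) F) : Matrix (Fin n) (Fin n) F)) = W := by
  obtain ⟨g₀, hg₀⟩ := exists_map_eq Q hQ U W e he
  set B := QuadraticMap.polarBilin Q with hB
  have hrefl : B.IsRefl := by
    intro x y h
    show QuadraticMap.polar ⇑Q y x = 0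
    rw [QuadraticMap.polar_comm]
    exact h
  -- a universal subspace whose reflections stabilise `W`
  obtain ⟨T, hTnd, hT2, hTS⟩ : ∃ T : Submodule F (Fin n → F),
      T ⊓ LinearMap.BilinForm.orthogonal B T = ⊥ ∧ 2 ≤ finrank F T ∧
      ∀ v (hv : Q v ≠ 0), v ∈ T → reflO Q v hv ∈ stab Q W := by
    have h2 := LinearMap.BilinForm.finrank_orthogonal hQ W
    rw [Module.finrank_fintype_fun_eq_card, Fintype.card_fin] at h2
    by_cases hW2 : 2 ≤ finrank F W
    · exact ⟨W, hW, hW2, fun v hv hvW => reflO_mem_stab_of_mem Q W v hv hvW⟩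
    · refine ⟨LinearMap.BilinForm.orthogonal B W, ?_, by omega, ?_⟩
      · rw [LinearMap.BilinForm.orthogonal_orthogonal hQ hrefl, inf_comm]
        exact hW
      · intro v hv hvW
        apply reflO_mem_stab_of_orth Q W v hv
        intro w hw
        rw [LinearMap.BilinForm.mem_orthogonal_iff] at hvW
        have := hvW w hw
        show QuadraticMap.polar ⇑Q v w = 0
        rw [QuadraticMap.polar_comm]
        exact this
  apply exists_map_eq_Omega Q hQ hcard U W g₀ hg₀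
  · obtain ⟨v, hvT, hv1⟩ := exists_mem_eq Q T hTnd hT2 1
    have hv : Q v ≠ 0 := by rw [hv1]; exact one_ne_zero
    exact ⟨v, hv, hTS v hv hvT⟩
  · intro _ l hl
    obtain ⟨a, haT, ha1⟩ := exists_mem_eq Q T hTnd hT2 1
    obtain ⟨b, hbT, hb1⟩ := exists_mem_eq Q T hTnd hT2 l
    have ha : Q a ≠ 0 := by rw [ha1]; exact one_ne_zero
    have hb : Q b ≠ 0 := by rw [hb1]; exact hl
    exact ⟨a, b, ha, hb, by rw [ha1, hb1, one_mul],
      (stab Q W).mul_mem (hTS a ha haT) (hTS b hb hbT)⟩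

end main

end Cfsg.Agent.Helper28.WO
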