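import Mathlib
import Cfsg.Prelude.Def_ClassicalGeometry
import Cfsg.Agent.Helper28.Spin8
import Cfsg.Agent.Helper28.ThreeTrans
import Cfsg.Agent.Helper28.WittOmega

set_option autoImplicit false
set_option linter.unusedSectionVars false

/-! Reflections in vectors of one square class of norms generate a subgroup of index two
(odd characteristic). -/

namespace Cfsg.Agent.Helper28.RC

open Matrix Module Cfsg.Agent.Helper28.Spin Cfsg.Agent.Helper28.IsoTransport

section basic

variable {F : Type*} [Field F] {ι : Type} [Fintype ι] [DecidableEq ι]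
  (Q : QuadraticForm F (ι → F))

/-- the subgroup generated by the reflections in vectors with norm in `c (Fˣ)²` -/
def R (c : F) : Subgroup ↥(Cfsg.isometryGroup F ⇑Q) :=
  Subgroup.closure {g | ∃ (v : ι → F) (t : F), t ≠ 0 ∧ Q v = c * t ^ 2 ∧
    ((g : GL ι F) : Matrix ι ι F) = Cfsg.reflectionMatrix ⇑Q v}

theorem reflO_mem_R (c : F) (v : ι → F) (hv : Q v ≠ 0) (t : F) (ht : t ≠ 0)
    (h : Q v = c * t ^ 2) : reflO Q v hv ∈ R Q c :=
  Subgroup.subset_closure ⟨v, t, ht, h, rfl⟩

instance R_normal (c : F) : (R Q c).Normal := by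
  constructor
  intro x hx g
  by_cases hc : c = 0
  · -- degenerate: the generating set consists of "reflections" in singular vectors
    subst hc
    unfold R at hx
    induction hx using Subgroup.closure_induction with
    | mem x hx =>
      obtain ⟨v, t, ht, hv, hx⟩ := hx
      apply Subgroup.subset_closure
      refine ⟨((g : GL ι F) : Matrix ι ι F) *ᵥ v, t, ht, ?_, ?_⟩
      · rw [isom_apply, hv]
      · rw [zero_mul] at hv
        have h1 : Cfsg.reflectionMatrix ⇑Q v = 1 := by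
          unfold Cfsg.reflectionMatrix
          rw [hv]; simp
        have h2 : Cfsg.reflectionMatrix ⇑Q (((g : GL ι F) : Matrix ι ι F) *ᵥ v) = 1 := by
          unfold Cfsg.reflectionMatrix
          rw [isom_apply, hv]; simp
        rw [h2]
        have : x = 1 := Subtype.ext (Units.ext (by rw [hx, h1]; rfl))
        rw [this]; simp
    | one =>
      rw [mul_one, mul_inv_cancel]
      exact Subgroup.one_mem _
    | mul a b _ _ iha ihb =>
      have : g * (a * b) * g⁻¹ = (g * a * g⁻¹) * (g * b * g⁻¹) := by group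
      rw [this]
      exact Subgroup.mul_mem _ iha ihb
    | inv a _ iha =>
      have : g * a⁻¹ * g⁻¹ = (g * a * g⁻¹)⁻¹ := by group
      rw [this]
      exact Subgroup.inv_mem _ iha
  unfold R at hx
  induction hx using Subgroup.closure_induction with
  | mem x hx =>
    obtain ⟨v, t, ht, hv, hx⟩ := hx
    have hv0 : Q v ≠ 0 := by rw [hv]; exact mul_ne_zero hc (pow_ne_zero 2 ht)
    have e : x = reflO Q v hv0 := Subtype.ext (Units.ext hx)
    have hv' : Q (((g : GL ι F) : Matrix ι ι F) *ᵥ v) ≠ 0 := by rw [isom_apply]; exact hv0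
    have e2 : g * x * g⁻¹ = reflO Q _ hv' := by
      rw [reflO_conj Q g v hv0 hv', e]
    rw [e2]
    exact reflO_mem_R Q c _ _ t ht (by rw [isom_apply, hv])
  | one =>
    rw [mul_one, mul_inv_cancel]
    exact Subgroup.one_mem _
  | mul a b _ _ iha ihb =>
    have : g * (a * b) * g⁻¹ = (g * a * g⁻¹) * (g * b * g⁻¹) := by group
    rw [this]
    exact Subgroup.mul_mem _ iha ihb
  | inv a _ iha =>
    have : g * a⁻¹ * g⁻¹ = (g * a * g⁻¹)⁻¹ := by group
    rw [this]
    exact Subgroup.inv_mem _ iha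

/-- the product of two reflections in orthogonal vectors -/
theorem refl_refl_orth (a b : ι → F) (ha : Q a ≠ 0) (hab : QuadraticMap.polar ⇑Q a b = 0)
    (x : ι → F) :
    Cfsg.reflectionMatrix ⇑Q a *ᵥ (Cfsg.reflectionMatrix ⇑Q b *ᵥ x) =
      x - ((Q a)⁻¹ * QuadraticMap.polar ⇑Q a x) • a - ((Q b)⁻¹ * QuadraticMap.polar ⇑Q b x) • b := by
  rw [Spin.refl_mulVec, Spin.refl_mulVec]
  simp only [QuadraticMap.polar_sub_right, QuadraticMap.polar_smul_right, hab, smul_eq_mul,
    mul_zero, sub_zero]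
  abel

/-- rotating an orthogonal pair of vectors of equal norm -/
theorem reflO_mul_rot (u v : ι → F) (d : F) (hd : d ≠ 0) (hu : Q u = d) (hv : Q v = d)
    (huv : QuadraticMap.polar ⇑Q u v = 0) (α β : F) (he : α ^ 2 + β ^ 2 ≠ 0)
    (hu0 : Q u ≠ 0) (hv0 : Q v ≠ 0) (ha0 : Q (α • u + β • v) ≠ 0)
    (hb0 : Q (-β • u + α • v) ≠ 0) :
    reflO Q u hu0 * reflO Q v hv0 =
      reflO Q (α • u + β • v) ha0 * reflO Q (-β • u + α • v) hb0 := by
  have hvu : QuadraticMap.polar ⇑Q v u = 0 := by rw [QuadraticMap.polar_comm]; exact huv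
  have hQa : Q (α • u + β • v) = (α ^ 2 + β ^ 2) * d := by
    rw [QuadraticMap.map_add (⇑Q), QuadraticMap.map_smul, QuadraticMap.map_smul,
      QuadraticMap.polar_smul_left, QuadraticMap.polar_smul_right, huv, hu, hv]
    simp only [smul_eq_mul]; ring
  have hQb : Q (-β • u + α • v) = (α ^ 2 + β ^ 2) * d := by
    rw [QuadraticMap.map_add (⇑Q), QuadraticMap.map_smul, QuadraticMap.map_smul,
      QuadraticMap.polar_smul_left, QuadraticMap.polar_smul_right, huv, hu, hv]
    simp only [smul_eq_mul]; ring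
  have huu : QuadraticMap.polar ⇑Q u u = 2 * d := by rw [Spin.polar_self', hu]
  have hvv : QuadraticMap.polar ⇑Q v v = 2 * d := by rw [Spin.polar_self', hv]
  have hab : QuadraticMap.polar ⇑Q (α • u + β • v) (-β • u + α • v) = 0 := by
    simp only [QuadraticMap.polar_add_left, QuadraticMap.polar_add_right,
      QuadraticMap.polar_smul_left, QuadraticMap.polar_smul_right, huv, hvu, huu, hvv, smul_eq_mul]
    ring
  apply Subtype.ext
  apply Units.ext
  apply Spin.matrix_ext_mulVec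
  intro x
  show (Cfsg.reflectionMatrix ⇑Q u * Cfsg.reflectionMatrix ⇑Q v) *ᵥ x =
    (Cfsg.reflectionMatrix ⇑Q (α • u + β • v) * Cfsg.reflectionMatrix ⇑Q (-β • u + α • v)) *ᵥ x
  rw [← Matrix.mulVec_mulVec, ← Matrix.mulVec_mulVec, refl_refl_orth Q u v hu0 huv,
    refl_refl_orth Q _ _ ha0 hab, hQa, hQb, hu, hv]
  simp only [QuadraticMap.polar_add_left, QuadraticMap.polar_smul_left, smul_eq_mul]
  funext i
  simp only [Pi.add_apply, Pi.sub_apply, Pi.smul_apply, smul_eq_mul]
  field_simp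
  ring

end basic

section fin

variable {F : Type*} [Field F] [Fintype F] {ι : Type} [Fintype ι] [DecidableEq ι]
  (Q : QuadraticForm F (ι → F))

theorem exists_sq_add_sq (h2 : (2 : F) ≠ 0) (e : F) : ∃ α β : F, α ^ 2 + β ^ 2 = e := by
  have hodd : Fintype.card F % 2 = 1 := Nat.odd_iff.1 (card_odd h2)
  have hf : (Polynomial.X ^ 2 : Polynomial F).degree = 2 := Polynomial.degree_X_pow 2
  have hg : (Polynomial.X ^ 2 - Polynomial.C e : Polynomial F).degree = 2 := by
    have hd : (Polynomial.X ^ 2 : Polynomial F).degree = 2 := Polynomial.degree_X_pow 2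
    rw [Polynomial.degree_sub_C (by rw [hd]; norm_num), hd]
  obtain ⟨a, b, hab⟩ := FiniteField.exists_root_sum_quadratic hf hg hodd
  simp only [Polynomial.eval_pow, Polynomial.eval_X, Polynomial.eval_sub, Polynomial.eval_C] at hab
  exact ⟨a, b, by linear_combination hab⟩

/-- the product of the reflections in two orthogonal vectors of equal norm lies in `R c` -/
theorem mul_mem_R_of_orth (h2 : (2 : F) ≠ 0) (c : F) (hc : c ≠ 0) (u v : ι → F)
    (hu0 : Q u ≠ 0) (hv0 : Q v ≠ 0) (huv : Q u = Q v)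
    (horth : QuadraticMap.polar ⇑Q u v = 0) :
    reflO Q u hu0 * reflO Q v hv0 ∈ R Q c := by
  obtain ⟨α, β, hαβ⟩ := exists_sq_add_sq h2 (c / Q u)
  have he : α ^ 2 + β ^ 2 ≠ 0 := by rw [hαβ]; exact div_ne_zero hc hu0
  have hQa : Q (α • u + β • v) = c := by
    rw [QuadraticMap.map_add (⇑Q), QuadraticMap.map_smul, QuadraticMap.map_smul,
      QuadraticMap.polar_smul_left, QuadraticMap.polar_smul_right, horth, ← huv]
    simp only [smul_eq_mul, mul_zero, add_zero]
    have : α * α * Q u + β * β * Q u = (α ^ 2 + β ^ 2) * Q u := by ring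
    rw [this, hαβ]
    field_simp
  have hQb : Q (-β • u + α • v) = c := by
    rw [QuadraticMap.map_add (⇑Q), QuadraticMap.map_smul, QuadraticMap.map_smul,
      QuadraticMap.polar_smul_left, QuadraticMap.polar_smul_right, horth, ← huv]
    simp only [smul_eq_mul, mul_zero, add_zero]
    have : -β * -β * Q u + α * α * Q u = (α ^ 2 + β ^ 2) * Q u := by ring
    rw [this, hαβ]
    field_simp
  have ha0 : Q (α • u + β • v) ≠ 0 := by rw [hQa]; exact hc
  have hb0 : Q (-β • u + α • v) ≠ 0 := by rw [hQb]; exact hc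
  rw [reflO_mul_rot Q u v (Q u) hu0 rfl huv.symm horth α β he hu0 hv0 ha0 hb0]
  exact Subgroup.mul_mem _ (reflO_mem_R Q c _ ha0 1 one_ne_zero (by rw [hQa]; ring))
    (reflO_mem_R Q c _ hb0 1 one_ne_zero (by rw [hQb]; ring))

/-- two vectors of equal norm with a common perpendicular of the same norm -/
theorem mul_mem_R_of_perp (h2 : (2 : F) ≠ 0) (c : F) (hc : c ≠ 0) (u v w : ι → F)
    (hu0 : Q u ≠ 0) (hv0 : Q v ≠ 0) (hw0 : Q w ≠ 0) (huw : Q u = Q w) (hvw : Q v = Q w)
    (hwu : QuadraticMap.polar ⇑Q u w = 0) (hwv : QuadraticMap.polar ⇑Q w v = 0) :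
    reflO Q u hu0 * reflO Q v hv0 ∈ R Q c := by
  have e : reflO Q u hu0 * reflO Q v hv0 =
      (reflO Q u hu0 * reflO Q w hw0) * (reflO Q w hw0 * reflO Q v hv0) := by
    rw [mul_assoc, ← mul_assoc (reflO Q w hw0), reflO_mul_self, one_mul]
  rw [e]
  exact Subgroup.mul_mem _ (mul_mem_R_of_orth Q h2 c hc u w hu0 hw0 huw hwu)
    (mul_mem_R_of_orth Q h2 c hc w v hw0 hv0 hvw.symm hwv)

/-- a subspace whose radical has codimension at least two in it represents every scalar -/
theorem exists_mem_eq' (T : Submodule F (ι → F))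
    (h : finrank F ↥(T ⊓ LinearMap.BilinForm.orthogonal (QuadraticMap.polarBilin Q) T) + 2 ≤
      finrank F T) (c : F) : ∃ v ∈ T, Q v = c := by
  set B := QuadraticMap.polarBilin Q with hB
  set R₀ := T ⊓ LinearMap.BilinForm.orthogonal B T with hR₀
  obtain ⟨C, hC⟩ := Submodule.exists_isCompl R₀
  have h1 : (C ⊓ T) ⊓ R₀ = ⊥ := by
    rw [eq_bot_iff]
    calc (C ⊓ T) ⊓ R₀ ≤ C ⊓ R₀ := inf_le_inf_right _ inf_le_left
      _ = R₀ ⊓ C := inf_comm _ _
      _ = ⊥ := hC.inf_eq_bot
  have h2' : R₀ ⊔ C ⊓ T = T := by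
    rw [← sup_inf_assoc_of_le C (inf_le_left : R₀ ≤ T), hC.sup_eq_top, top_inf_eq]
  have hnd : (C ⊓ T) ⊓ LinearMap.BilinForm.orthogonal B (C ⊓ T) = ⊥ := by
    rw [eq_bot_iff]
    intro x hx
    have hxT₁ : x ∈ C ⊓ T := hx.1
    have hxo : x ∈ LinearMap.BilinForm.orthogonal B (C ⊓ T) := hx.2
    rw [LinearMap.BilinForm.mem_orthogonal_iff] at hxo
    have hxR : x ∈ R₀ := by
      refine ⟨hxT₁.2, ?_⟩
      show x ∈ LinearMap.BilinForm.orthogonal B T
      rw [LinearMap.BilinForm.mem_orthogonal_iff]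
      intro t ht
      rw [← h2'] at ht
      obtain ⟨r, hr, t₁, ht₁, rfl⟩ := Submodule.mem_sup.1 ht
      have hr' : r ∈ LinearMap.BilinForm.orthogonal B T := hr.2
      rw [LinearMap.BilinForm.mem_orthogonal_iff] at hr'
      have e1 : B x r = 0 := hr' x hxT₁.2
      have e2 : B t₁ x = 0 := hxo t₁ ht₁
      show B (r + t₁) x = 0
      rw [map_add, LinearMap.add_apply, e2, add_zero]
      show QuadraticMap.polar ⇑Q r x = 0
      rw [QuadraticMap.polar_comm]
      exact e1
    have : x ∈ (C ⊓ T) ⊓ R₀ := ⟨hxT₁, hxR⟩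
    rw [h1] at this
    exact this
  have hdim : finrank F ↥(C ⊓ T) + finrank F R₀ = finrank F T := by
    have := Submodule.finrank_sup_add_finrank_inf_eq (C ⊓ T) R₀
    rw [h1, finrank_bot, add_zero, sup_comm, h2'] at this
    exact this.symm
  obtain ⟨v, hvT, hv⟩ := Cfsg.Agent.Helper28.WO.exists_mem_eq Q (C ⊓ T) hnd (by omega) c
  exact ⟨v, hvT.2, hv⟩

/-- two vectors of equal norm whose orthogonal complement is large enough -/
theorem mul_mem_R_of_finrank (h2 : (2 : F) ≠ 0) (c : F) (hc : c ≠ 0) (u v : ι → F)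
    (hu0 : Q u ≠ 0) (hv0 : Q v ≠ 0) (huv : Q u = Q v)
    (h : finrank F ↥(LinearMap.BilinForm.orthogonal (QuadraticMap.polarBilin Q) (Submodule.span F {u, v}) ⊓
      LinearMap.BilinForm.orthogonal (QuadraticMap.polarBilin Q)
        (LinearMap.BilinForm.orthogonal (QuadraticMap.polarBilin Q) (Submodule.span F {u, v}))) + 2 ≤
      finrank F ↥(LinearMap.BilinForm.orthogonal (QuadraticMap.polarBilin Q) (Submodule.span F {u, v}))) :
    reflO Q u hu0 * reflO Q v hv0 ∈ R Q c := by
  obtain ⟨w, hwT, hw⟩ := exists_mem_eq' Q _ h (Q u)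
  rw [LinearMap.BilinForm.mem_orthogonal_iff] at hwT
  have hw0 : Q w ≠ 0 := by rw [hw]; exact hu0
  have hu_mem : u ∈ Submodule.span F ({u, v} : Set (ι → F)) := Submodule.subset_span (by simp)
  have hv_mem : v ∈ Submodule.span F ({u, v} : Set (ι → F)) := Submodule.subset_span (by simp)
  have huw : QuadraticMap.polar ⇑Q u w = 0 := hwT u hu_mem
  have hvw : QuadraticMap.polar ⇑Q v w = 0 := hwT v hv_mem
  exact mul_mem_R_of_perp Q h2 c hc u v w hu0 hv0 hw0 hw.symm (huv.symm.trans hw.symm) huw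
    (by rw [QuadraticMap.polar_comm]; exact hvw)

theorem polarBilin_isRefl : (QuadraticMap.polarBilin Q).IsRefl := by
  intro x y h
  show QuadraticMap.polar ⇑Q y x = 0
  rw [QuadraticMap.polar_comm]
  exact h

/-- the case of dimension at least five, or dimension four and a non-degenerate plane -/
theorem mul_mem_R_of_card (h2 : (2 : F) ≠ 0) (hQ : (QuadraticMap.polarBilin Q).Nondegenerate)
    (c : F) (hc : c ≠ 0) (u v : ι → F)
    (hu0 : Q u ≠ 0) (hv0 : Q v ≠ 0) (huv : Q u = Q v)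
    (hcases : 5 ≤ Fintype.card ι ∨ (4 ≤ Fintype.card ι ∧
      Submodule.span F {u, v} ⊓
        LinearMap.BilinForm.orthogonal (QuadraticMap.polarBilin Q) (Submodule.span F {u, v}) = ⊥)) :
    reflO Q u hu0 * reflO Q v hv0 ∈ R Q c := by
  classical
  apply mul_mem_R_of_finrank Q h2 c hc u v hu0 hv0 huv
  set B := QuadraticMap.polarBilin Q with hB
  set S := Submodule.span F ({u, v} : Set (ι → F)) with hS
  have hT := LinearMap.BilinForm.finrank_orthogonal hQ S
  rw [Module.finrank_fintype_fun_eq_card] at hT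
  rw [LinearMap.BilinForm.orthogonal_orthogonal hQ (polarBilin_isRefl Q)]
  have hS2 : finrank F S ≤ 2 := by
    have := finrank_span_finset_le_card (R := F) ({u, v} : Finset (ι → F))
    have h3 : (({u, v} : Finset (ι → F)) : Set (ι → F)) = {u, v} := by simp
    rw [h3] at this
    exact this.trans Finset.card_le_two
  have hu_mem : u ∈ S := Submodule.subset_span (by simp)
  have hlt : LinearMap.BilinForm.orthogonal B S ⊓ S < S := by
    refine lt_of_le_of_ne inf_le_right ?_
    intro heq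
    have : u ∈ LinearMap.BilinForm.orthogonal B S ⊓ S := by rw [heq]; exact hu_mem
    have h1 : u ∈ LinearMap.BilinForm.orthogonal B S := this.1
    rw [LinearMap.BilinForm.mem_orthogonal_iff] at h1
    have h3 : QuadraticMap.polar ⇑Q u u = 0 := h1 u hu_mem
    rw [Spin.polar_self'] at h3
    exact hu0 ((mul_eq_zero.1 h3).resolve_left h2)
  have hlt' := Submodule.finrank_lt_finrank_of_lt hlt
  rcases hcases with h5 | ⟨h4, hnd⟩
  · omega
  · rw [inf_comm, hnd, finrank_bot]
    omega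

/-- a plane spanned by two vectors of equal norm `d` with `P(w,v)² ≠ 4d²` is non-degenerate -/
theorem span_pair_nondeg (w v : ι → F) (d : F) (hw : Q w = d) (hv : Q v = d)
    (hp : (QuadraticMap.polar ⇑Q w v) ^ 2 ≠ 4 * d ^ 2) :
    Submodule.span F {w, v} ⊓
      LinearMap.BilinForm.orthogonal (QuadraticMap.polarBilin Q) (Submodule.span F {w, v}) = ⊥ := by
  rw [eq_bot_iff]
  intro x hx
  have hxS : x ∈ Submodule.span F ({w, v} : Set (ι → F)) := hx.1
  have hxo : x ∈ LinearMap.BilinForm.orthogonal (QuadraticMap.polarBilin Q)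
      (Submodule.span F ({w, v} : Set (ι → F))) := hx.2
  rw [LinearMap.BilinForm.mem_orthogonal_iff] at hxo
  have hw_mem : w ∈ Submodule.span F ({w, v} : Set (ι → F)) := Submodule.subset_span (by simp)
  have hv_mem : v ∈ Submodule.span F ({w, v} : Set (ι → F)) := Submodule.subset_span (by simp)
  have e1 : QuadraticMap.polar ⇑Q w x = 0 := hxo w hw_mem
  have e2 : QuadraticMap.polar ⇑Q v x = 0 := hxo v hv_mem
  obtain ⟨α, β, rfl⟩ := Submodule.mem_span_pair.1 hxS
  have hww : QuadraticMap.polar ⇑Q w w = 2 * d := by rw [Spin.polar_self', hw]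
  have hvv : QuadraticMap.polar ⇑Q v v = 2 * d := by rw [Spin.polar_self', hv]
  have hvw : QuadraticMap.polar ⇑Q v w = QuadraticMap.polar ⇑Q w v := QuadraticMap.polar_comm _ _ _
  simp only [QuadraticMap.polar_add_right, QuadraticMap.polar_smul_right, hww, hvv, hvw,
    smul_eq_mul] at e1 e2
  have hne : 4 * d ^ 2 - (QuadraticMap.polar ⇑Q w v) ^ 2 ≠ 0 := by
    intro h
    apply hp
    linear_combination -h
  have hα : α = 0 := by
    have : α * (4 * d ^ 2 - (QuadraticMap.polar ⇑Q w v) ^ 2) = 0 := by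
      linear_combination (2 * d) * e1 - (QuadraticMap.polar ⇑Q w v) * e2
    exact (mul_eq_zero.1 this).resolve_right hne
  have hβ : β = 0 := by
    have : β * (4 * d ^ 2 - (QuadraticMap.polar ⇑Q w v) ^ 2) = 0 := by
      linear_combination (2 * d) * e2 - (QuadraticMap.polar ⇑Q w v) * e1
    exact (mul_eq_zero.1 this).resolve_right hne
  rw [hα, hβ]
  simp

theorem exists_avoid (hF : 3 < Fintype.card F) (a b c : F) : ∃ t : F, t ≠ a ∧ t ≠ b ∧ t ≠ c := by
  classical
  have hcard : ({a, b, c} : Finset F).card < (Finset.univ : Finset F).card := by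
    rw [Finset.card_univ]
    exact lt_of_le_of_lt Finset.card_le_three hF
  obtain ⟨t, -, ht⟩ := Finset.exists_mem_notMem_of_card_lt_card hcard
  simp only [Finset.mem_insert, Finset.mem_singleton, not_or] at ht
  exact ⟨t, ht.1, ht.2.1, ht.2.2⟩

/-- dimension four, degenerate plane, more than three scalars -/
theorem mul_mem_R_of_degenerate (h2 : (2 : F) ≠ 0) (hQ : (QuadraticMap.polarBilin Q).Nondegenerate)
    (hF : 3 < Fintype.card F) (h4 : 4 ≤ Fintype.card ι)
    (c : F) (hc : c ≠ 0) (u v : ι → F)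
    (hu0 : Q u ≠ 0) (hv0 : Q v ≠ 0) (huv : Q u = Q v)
    (hdeg : Submodule.span F {u, v} ⊓
        LinearMap.BilinForm.orthogonal (QuadraticMap.polarBilin Q) (Submodule.span F {u, v}) ≠ ⊥) :
    reflO Q u hu0 * reflO Q v hv0 ∈ R Q c := by
  obtain ⟨z, hz, hz0⟩ := Submodule.exists_mem_ne_zero_of_ne_bot hdeg
  have hzS : z ∈ Submodule.span F ({u, v} : Set (ι → F)) := hz.1
  have hzo : z ∈ LinearMap.BilinForm.orthogonal (QuadraticMap.polarBilin Q)
      (Submodule.span F ({u, v} : Set (ι → F))) := hz.2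
  rw [LinearMap.BilinForm.mem_orthogonal_iff] at hzo
  have hu_mem : u ∈ Submodule.span F ({u, v} : Set (ι → F)) := Submodule.subset_span (by simp)
  have hv_mem : v ∈ Submodule.span F ({u, v} : Set (ι → F)) := Submodule.subset_span (by simp)
  have huz : QuadraticMap.polar ⇑Q u z = 0 := hzo u hu_mem
  have hvz : QuadraticMap.polar ⇑Q v z = 0 := hzo v hv_mem
  have hzz : QuadraticMap.polar ⇑Q z z = 0 := hzo z hzS
  have hQz : Q z = 0 := by
    rw [Spin.polar_self'] at hzz
    exact (mul_eq_zero.1 hzz).resolve_left h2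
  obtain ⟨y, hQy, hzy⟩ := Cfsg.Agent.Helper13.exists_hyperbolic_partner Q
    (fun v hv => hQ.1 v hv) z hz0 hQz
  obtain ⟨d, hd⟩ : ∃ d, d = Q u := ⟨_, rfl⟩
  have hd0 : d ≠ 0 := by rw [hd]; exact hu0
  have hQu : Q u = d := hd.symm
  have hQv : Q v = d := by rw [← huv]; exact hQu
  obtain ⟨k, hk⟩ : ∃ k, k = QuadraticMap.polar ⇑Q u y / (2 * d) := ⟨_, rfl⟩
  have huy : QuadraticMap.polar ⇑Q u y = 2 * d * k := by rw [hk]; field_simp
  have hyu : QuadraticMap.polar ⇑Q y u = 2 * d * k := by rw [QuadraticMap.polar_comm]; exact huy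
  have hyz : QuadraticMap.polar ⇑Q y z = 1 := by rw [QuadraticMap.polar_comm]; exact hzy
  have hzu : QuadraticMap.polar ⇑Q z u = 0 := by rw [QuadraticMap.polar_comm]; exact huz
  have hzv : QuadraticMap.polar ⇑Q z v = 0 := by rw [QuadraticMap.polar_comm]; exact hvz
  have huu : QuadraticMap.polar ⇑Q u u = 2 * d := by rw [Spin.polar_self', hQu]
  obtain ⟨z', hz'⟩ : ∃ z', z' = y + (-k) • u + (k ^ 2 * d) • z := ⟨_, rfl⟩
  have hQz' : Q z' = 0 := by
    rw [hz', QuadraticMap.map_add (⇑Q), QuadraticMap.map_add (⇑Q), QuadraticMap.map_smul,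
      QuadraticMap.map_smul, hQy, hQu, hQz]
    simp only [QuadraticMap.polar_add_left, QuadraticMap.polar_smul_left,
      QuadraticMap.polar_smul_right, hyu, hyz, huz, smul_eq_mul]
    ring
  have huz' : QuadraticMap.polar ⇑Q u z' = 0 := by
    rw [hz']
    simp only [QuadraticMap.polar_add_right, QuadraticMap.polar_smul_right, huy, huu, huz,
      smul_eq_mul]
    ring
  have hzz' : QuadraticMap.polar ⇑Q z z' = 1 := by
    rw [hz']
    simp only [QuadraticMap.polar_add_right, QuadraticMap.polar_smul_right, hzy, hzu, hzz,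
      smul_eq_mul]
    ring
  obtain ⟨m, hm⟩ : ∃ m, m = QuadraticMap.polar ⇑Q z' v := ⟨_, rfl⟩
  obtain ⟨t, ht0, htm⟩ : ∃ t : F, t ≠ 0 ∧ (t * m) ^ 2 ≠ 4 * d ^ 2 := by
    by_cases hm0 : m = 0
    · refine ⟨1, one_ne_zero, ?_⟩
      rw [hm0]
      intro h
      have h4 : (4 : F) = 2 * 2 := by norm_num
      have : (2 * d) ^ 2 = 0 := by linear_combination -h
      exact (mul_ne_zero h2 hd0) ((pow_eq_zero_iff (two_ne_zero)).1 this)
    · obtain ⟨t, h1, h3, h4⟩ := exists_avoid hF (0 : F) (2 * d / m) (-(2 * d) / m)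
      refine ⟨t, h1, ?_⟩
      intro h
      have hfac : (t * m - 2 * d) * (t * m + 2 * d) = 0 := by linear_combination h
      rcases mul_eq_zero.1 hfac with h5 | h5
      · apply h3
        field_simp
        linear_combination h5
      · apply h4
        field_simp
        linear_combination h5
  obtain ⟨w, hw⟩ : ∃ w, w = (d / t) • z + t • z' := ⟨_, rfl⟩
  have hQw : Q w = d := by
    rw [hw, QuadraticMap.map_add (⇑Q), QuadraticMap.map_smul, QuadraticMap.map_smul, hQz, hQz']
    simp only [QuadraticMap.polar_smul_left, QuadraticMap.polar_smul_right, hzz', smul_eq_mul]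
    field_simp
    ring
  have huw : QuadraticMap.polar ⇑Q u w = 0 := by
    rw [hw]
    simp only [QuadraticMap.polar_add_right, QuadraticMap.polar_smul_right, huz, huz',
      smul_eq_mul]
    ring
  have hwv : QuadraticMap.polar ⇑Q w v = t * m := by
    rw [hw, hm]
    simp only [QuadraticMap.polar_add_left, QuadraticMap.polar_smul_left, hzv, smul_eq_mul]
    ring
  have hw0 : Q w ≠ 0 := by rw [hQw]; exact hd0
  have e : reflO Q u hu0 * reflO Q v hv0 =
      (reflO Q u hu0 * reflO Q w hw0) * (reflO Q w hw0 * reflO Q v hv0) := by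
    rw [mul_assoc, ← mul_assoc (reflO Q w hw0), reflO_mul_self, one_mul]
  rw [e]
  refine Subgroup.mul_mem _ (mul_mem_R_of_orth Q h2 c hc u w hu0 hw0 (hQu.trans hQw.symm) huw) ?_
  apply mul_mem_R_of_card Q h2 hQ c hc w v hw0 hv0 (hQw.trans hQv.symm)
  right
  refine ⟨h4, span_pair_nondeg Q w v d hQw hQv ?_⟩
  rw [hwv]
  exact htm

end fin

section two

variable {F : Type*} [Field F] {ι : Type} [Fintype ι] [DecidableEq ι]
  (Q : QuadraticForm F (ι → F))

theorem gram_eq (A : Matrix ι ι F) (hA : ∀ x, Q (A *ᵥ x) = Q x) :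
    Aᵀ * LinearMap.BilinForm.toMatrix' (QuadraticMap.polarBilin Q) * A =
      LinearMap.BilinForm.toMatrix' (QuadraticMap.polarBilin Q) := by
  set B : LinearMap.BilinForm F (ι → F) := QuadraticMap.polarBilin Q with hB
  have hpol : ∀ x y, B (A *ᵥ x) (A *ᵥ y) = B x y := by
    intro x y
    simp only [hB, QuadraticMap.polarBilin_apply_apply, QuadraticMap.polar, ← Matrix.mulVec_add, hA]
  have hcomp : LinearMap.BilinForm.comp B (Matrix.toLin' A) (Matrix.toLin' A) = B := by
    apply LinearMap.ext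
    intro x
    apply LinearMap.ext
    intro y
    rw [LinearMap.BilinForm.comp_apply, Matrix.toLin'_apply, Matrix.toLin'_apply, hpol]
  have hM := congrArg LinearMap.BilinForm.toMatrix' hcomp
  rw [LinearMap.BilinForm.toMatrix'_comp, LinearMap.toMatrix'_toLin'] at hM
  exact hM

/-- in even dimension an isometry of determinant `-1` has a fixed vector -/
theorem det_sub_one_eq_zero (h2 : (2 : F) ≠ 0) (hQ : (QuadraticMap.polarBilin Q).Nondegenerate)
    (heven : Even (Fintype.card ι)) (A : Matrix ι ι F) (hA : ∀ x, Q (A *ᵥ x) = Q x)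
    (hdet : A.det = -1) : (A - 1).det = 0 := by
  set G := LinearMap.BilinForm.toMatrix' (QuadraticMap.polarBilin Q) with hG
  have hGA := gram_eq Q A hA
  have key : Aᵀ * G * (A - 1) = -((A - 1)ᵀ * G) := by
    rw [Matrix.mul_sub, hGA, Matrix.mul_one, Matrix.transpose_sub, Matrix.transpose_one,
      Matrix.sub_mul, Matrix.one_mul]
    abel
  have hdet' := congrArg Matrix.det key
  rw [Matrix.det_mul, Matrix.det_mul, Matrix.det_transpose, Matrix.det_neg, Matrix.det_mul,
    Matrix.det_transpose, heven.neg_one_pow, one_mul, hdet] at hdet'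
  have hne : G.det ≠ 0 := by
    rw [← Matrix.nondegenerate_iff_det_ne_zero]
    exact LinearMap.BilinForm.Nondegenerate.toMatrix' hQ
  have h3 : 2 * G.det * (A - 1).det = 0 := by linear_combination -hdet'
  exact (mul_eq_zero.1 h3).resolve_left (mul_ne_zero h2 hne)

/-- in dimension two an isometry of determinant `-1` is a reflection -/
theorem eq_refl_of_det_neg_one (h2 : (2 : F) ≠ 0) (hQ : (QuadraticMap.polarBilin Q).Nondegenerate)
    (hcard : Fintype.card ι = 2) (A : Matrix ι ι F) (hA : ∀ x, Q (A *ᵥ x) = Q x)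
    (hdet : A.det = -1) : ∃ b : ι → F, Q b ≠ 0 ∧ A = Cfsg.reflectionMatrix ⇑Q b := by
  apply Cfsg.Agent.Helper28.CD2.eq_refl_of_rank_one Q hQ A hA
  have h0 := det_sub_one_eq_zero Q h2 hQ (by rw [hcard]; exact even_two) A hA hdet
  obtain ⟨x, hx0, hx⟩ := Matrix.exists_mulVec_eq_zero_iff.2 h0
  show finrank F ↥(LinearMap.range (A - 1).mulVecLin) = 1
  have hrn := LinearMap.finrank_range_add_finrank_ker (A - 1).mulVecLin
  rw [Module.finrank_fintype_fun_eq_card, hcard] at hrn
  have hker : 1 ≤ finrank F ↥(LinearMap.ker (A - 1).mulVecLin) := by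
    rw [Submodule.one_le_finrank_iff]
    intro h
    have : x ∈ LinearMap.ker (A - 1).mulVecLin := by
      rw [LinearMap.mem_ker, Matrix.mulVecLin_apply]; exact hx
    rw [h, Submodule.mem_bot] at this
    exact hx0 this
  have hrange : 1 ≤ finrank F ↥(LinearMap.range (A - 1).mulVecLin) := by
    rw [Submodule.one_le_finrank_iff]
    intro h
    have hA1 : A - 1 = 0 := by
      apply Spin.matrix_ext_mulVec
      intro y
      have : (A - 1).mulVecLin y ∈ LinearMap.range (A - 1).mulVecLin := LinearMap.mem_range_self _ y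
      rw [h, Submodule.mem_bot, Matrix.mulVecLin_apply] at this
      rw [this, Matrix.zero_mulVec]
    have : A = 1 := sub_eq_zero.1 hA1
    rw [this, Matrix.det_one] at hdet
    apply h2
    linear_combination hdet
  omega

end two

section main

variable {F : Type*} [Field F] [Fintype F] {ι : Type} [Fintype ι] [DecidableEq ι]
  (Q : QuadraticForm F (ι → F))

/-- dimension two -/
theorem mul_mem_R_of_two (h2 : (2 : F) ≠ 0) (hQ : (QuadraticMap.polarBilin Q).Nondegenerate)
    (hcard : Fintype.card ι = 2) (c : F) (hc : c ≠ 0) (u v : ι → F)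
    (hu0 : Q u ≠ 0) (hv0 : Q v ≠ 0) (huv : Q u = Q v) :
    reflO Q u hu0 * reflO Q v hv0 ∈ R Q c := by
  obtain ⟨a, ha⟩ := exists_norm_eq Q h2 hQ (by omega) c
  have ha0 : Q a ≠ 0 := by rw [ha]; exact hc
  obtain ⟨g, hg⟩ : ∃ g, g = prodO Q [⟨u, hu0⟩, ⟨v, hv0⟩, ⟨a, ha0⟩] := ⟨_, rfl⟩
  have hgdet : ((g : GL ι F) : Matrix ι ι F).det = -1 := by
    have := detHom_prodO Q [⟨u, hu0⟩, ⟨v, hv0⟩, ⟨a, ha0⟩]
    rw [← hg] at this
    rw [← detHom_val, this]
    simp only [List.length_cons, List.length_nil]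
    norm_num
  obtain ⟨b, hb0, hb⟩ := eq_refl_of_det_neg_one Q h2 hQ hcard _ (isom_apply Q g) hgdet
  have hgb : g = reflO Q b hb0 := Subtype.ext (Units.ext hb)
  have hg' : g = reflO Q u hu0 * reflO Q v hv0 * reflO Q a ha0 := by
    rw [hg]
    simp only [prodO_cons, prodO_nil, mul_one, mul_assoc]
  have h1 : prodO Q [⟨u, hu0⟩, ⟨v, hv0⟩, ⟨a, ha0⟩, ⟨b, hb0⟩] = 1 := by
    have : prodO Q [⟨u, hu0⟩, ⟨v, hv0⟩, ⟨a, ha0⟩, ⟨b, hb0⟩] = g * reflO Q b hb0 := by
      rw [hg']
      simp only [prodO_cons, prodO_nil, mul_one, mul_assoc]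
    rw [this, hgb, reflO_mul_self]
  have hΩ : prodO Q [⟨u, hu0⟩, ⟨v, hv0⟩, ⟨a, ha0⟩, ⟨b, hb0⟩] ∈ Cfsg.Omega F ⇑Q := by
    rw [h1]; exact Subgroup.one_mem _
  rw [prodO_mem_Omega_iff Q h2] at hΩ
  obtain ⟨-, s, hs⟩ := hΩ
  simp only [normProd, List.map_cons, List.map_nil, List.prod_cons, List.prod_nil, mul_one] at hs
  have e : reflO Q u hu0 * reflO Q v hv0 = reflO Q b hb0 * reflO Q a ha0 := by
    rw [← hgb, hg', mul_assoc, reflO_mul_self, mul_one]
  rw [e]
  refine Subgroup.mul_mem _ ?_ (reflO_mem_R Q c a ha0 1 one_ne_zero (by rw [ha]; ring))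
  have hs0 : s ≠ 0 := by
    rintro rfl
    rw [mul_zero] at hs
    exact mul_ne_zero hu0 (mul_ne_zero hv0 (mul_ne_zero ha0 hb0)) hs
  refine reflO_mem_R Q c b hb0 (s / (Q u * c)) (div_ne_zero hs0 (mul_ne_zero hu0 hc)) ?_
  rw [← huv, ha] at hs
  field_simp
  linear_combination hs

/-- the main point: the product of two reflections in vectors of equal norm lies in `R c` -/
theorem mul_mem_R (h2 : (2 : F) ≠ 0) (hQ : (QuadraticMap.polarBilin Q).Nondegenerate)
    (hdim : Fintype.card ι = 2 ∨ 4 ≤ Fintype.card ι)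
    (h43 : ¬ (Fintype.card ι = 4 ∧ Fintype.card F = 3)) (c : F) (hc : c ≠ 0) (u v : ι → F)
    (hu0 : Q u ≠ 0) (hv0 : Q v ≠ 0) (huv : Q u = Q v) :
    reflO Q u hu0 * reflO Q v hv0 ∈ R Q c := by
  rcases hdim with h | h
  · exact mul_mem_R_of_two Q h2 hQ h c hc u v hu0 hv0 huv
  · by_cases h5 : 5 ≤ Fintype.card ι
    · exact mul_mem_R_of_card Q h2 hQ c hc u v hu0 hv0 huv (Or.inl h5)
    · have h4 : Fintype.card ι = 4 := by omega
      by_cases hnd : Submodule.span F {u, v} ⊓
          LinearMap.BilinForm.orthogonal (QuadraticMap.polarBilin Q) (Submodule.span F {u, v}) = ⊥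
      · exact mul_mem_R_of_card Q h2 hQ c hc u v hu0 hv0 huv (Or.inr ⟨h, hnd⟩)
      · have hF : 3 < Fintype.card F := by
          obtain ⟨k, hk⟩ := card_odd h2
          have h1 := Fintype.one_lt_card (α := F)
          by_contra hcon
          have : Fintype.card F = 3 := by omega
          exact h43 ⟨h4, this⟩
        exact mul_mem_R_of_degenerate Q h2 hQ hF h c hc u v hu0 hv0 huv hnd

/-- the same for norms in one square class -/
theorem mul_mem_R' (h2 : (2 : F) ≠ 0) (hQ : (QuadraticMap.polarBilin Q).Nondegenerate)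
    (hdim : Fintype.card ι = 2 ∨ 4 ≤ Fintype.card ι)
    (h43 : ¬ (Fintype.card ι = 4 ∧ Fintype.card F = 3)) (c : F) (hc : c ≠ 0) (u v : ι → F)
    (hu0 : Q u ≠ 0) (hv0 : Q v ≠ 0) (hsq : IsSquare (Q u * Q v)) :
    reflO Q u hu0 * reflO Q v hv0 ∈ R Q c := by
  obtain ⟨z, hz⟩ := hsq
  have hz0 : z ≠ 0 := by
    rintro rfl
    rw [mul_zero] at hz
    exact mul_ne_zero hu0 hv0 hz
  obtain ⟨t, ht⟩ : ∃ t, t = z / Q u := ⟨_, rfl⟩
  have ht0 : t ≠ 0 := by rw [ht]; exact div_ne_zero hz0 hu0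
  have hQt : Q (t • u) = Q v := by
    rw [QuadraticMap.map_smul, smul_eq_mul, ht]
    field_simp
    rw [hz]; ring
  have hQt0 : Q (t • u) ≠ 0 := hQt ▸ hv0
  rw [← reflO_smul Q u hu0 ht0 hQt0]
  exact mul_mem_R Q h2 hQ hdim h43 c hc (t • u) v hQt0 hv0 hQt

/-- `R c` has index at most two -/
theorem mem_or_mul_mem (h2 : (2 : F) ≠ 0) (hQ : (QuadraticMap.polarBilin Q).Nondegenerate)
    (hdim : Fintype.card ι = 2 ∨ 4 ≤ Fintype.card ι)
    (h43 : ¬ (Fintype.card ι = 4 ∧ Fintype.card F = 3)) (c : F) (hc : c ≠ 0)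
    (u₀ : ι → F) (hu₀ : Q u₀ ≠ 0) (hns : ¬ IsSquare (c * Q u₀)) (L : List (NS Q)) :
    prodO Q L ∈ R Q c ∨ reflO Q u₀ hu₀ * prodO Q L ∈ R Q c := by
  have hN : (R Q c).Normal := inferInstance
  have hrr : reflO Q u₀ hu₀ * reflO Q u₀ hu₀ = 1 := reflO_mul_self Q u₀ hu₀
  have hrinv : (reflO Q u₀ hu₀)⁻¹ = reflO Q u₀ hu₀ := reflO_inv Q u₀ hu₀
  induction L with
  | nil =>
    left
    rw [prodO_nil]
    exact Subgroup.one_mem _
  | cons v L ih =>
    rw [prodO_cons]
    -- the class of `v`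
    have hv : reflO Q v.1 v.2 ∈ R Q c ∨ reflO Q u₀ hu₀ * reflO Q v.1 v.2 ∈ R Q c := by
      by_cases hsq : IsSquare (c * Q v.1)
      · left
        obtain ⟨s, hs⟩ := hsq
        have hs0 : s ≠ 0 := by
          rintro rfl
          rw [mul_zero] at hs
          exact mul_ne_zero hc v.2 hs
        refine reflO_mem_R Q c v.1 v.2 (s / c) (div_ne_zero hs0 hc) ?_
        field_simp
        linear_combination hs
      · right
        apply mul_mem_R' Q h2 hQ hdim h43 c hc u₀ v.1 hu₀ v.2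
        have h3 : IsSquare ((c * Q u₀) * (c * Q v.1)) := by
          rw [isSquare_mul_iff h2 (mul_ne_zero hc hu₀) (mul_ne_zero hc v.2)]
          exact ⟨fun h => absurd h hns, fun h => absurd h hsq⟩
        obtain ⟨s, hs⟩ := h3
        refine ⟨s / c, ?_⟩
        field_simp
        linear_combination hs
    rcases hv with hv | hv <;> rcases ih with ih | ih
    · left
      exact Subgroup.mul_mem _ hv ih
    · right
      have : reflO Q u₀ hu₀ * (reflO Q v.1 v.2 * prodO Q L) =
          (reflO Q u₀ hu₀ * reflO Q v.1 v.2 * (reflO Q u₀ hu₀)⁻¹) *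
            (reflO Q u₀ hu₀ * prodO Q L) := by group
      rw [this]
      exact Subgroup.mul_mem _ (hN.conj_mem _ hv _) ih
    · right
      rw [← mul_assoc]
      exact Subgroup.mul_mem _ hv ih
    · left
      have : reflO Q v.1 v.2 * prodO Q L =
          (reflO Q u₀ hu₀ * reflO Q v.1 v.2)⁻¹ * (reflO Q u₀ hu₀ * prodO Q L) := by
        rw [_root_.mul_inv_rev, hrinv, reflO_inv]
        rw [mul_assoc, ← mul_assoc (reflO Q u₀ hu₀), hrr, one_mul]
      rw [this]
      exact Subgroup.mul_mem _ (Subgroup.inv_mem _ hv) ih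

/-- a reflection in a vector of the other class is not in `R c` -/
theorem reflO_not_mem_R (h2 : (2 : F) ≠ 0) (c : F) (hc : c ≠ 0) (a : ι → F) (ha : Q a = c)
    (u₀ : ι → F) (hu₀ : Q u₀ ≠ 0) (hns : ¬ IsSquare (c * Q u₀)) :
    reflO Q u₀ hu₀ ∉ R Q c := by
  have ha0 : Q a ≠ 0 := by rw [ha]; exact hc
  have hθu : theta Q (reflO Q u₀ hu₀) * theta Q (reflO Q a ha0) = -1 := by
    apply theta_mul_of_not_isSquare Q h2
    rw [ha, mul_comm]
    exact hns
  have hθgen : ∀ (v : ι → F) (hv : Q v ≠ 0) (t : F), t ≠ 0 → Q v = c * t ^ 2 →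
      theta Q (reflO Q v hv) = theta Q (reflO Q a ha0) := by
    intro v hv t _ hvt
    apply hom_refl_eq Q (theta Q) h2
    rw [hvt, ha]
    exact ⟨c * t, by ring⟩
  rcases Int.units_eq_one_or (theta Q (reflO Q a ha0)) with hε | hε
  · -- `theta` kills the generators
    have hle : R Q c ≤ (theta Q).ker := by
      unfold R
      rw [Subgroup.closure_le]
      rintro g ⟨v, t, ht, hvt, hg⟩
      have hv : Q v ≠ 0 := by rw [hvt]; exact mul_ne_zero hc (pow_ne_zero 2 ht)
      have e : g = reflO Q v hv := Subtype.ext (Units.ext hg)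
      show g ∈ (theta Q).ker
      rw [MonoidHom.mem_ker, e, hθgen v hv t ht hvt, hε]
    intro hmem
    have := MonoidHom.mem_ker.1 (hle hmem)
    rw [hε, mul_one, this] at hθu
    exact absurd hθu (by decide)
  · -- `det * theta` kills the generators
    set θ' : ↥(Cfsg.isometryGroup F ⇑Q) →* Fˣ :=
      (Units.map (Int.castRingHom F : ℤ →* F)).comp (theta Q) with hθ'
    have hle : R Q c ≤ (detHom Q * θ').ker := by
      unfold R
      rw [Subgroup.closure_le]
      rintro g ⟨v, t, ht, hvt, hg⟩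
      have hv : Q v ≠ 0 := by rw [hvt]; exact mul_ne_zero hc (pow_ne_zero 2 ht)
      have e : g = reflO Q v hv := Subtype.ext (Units.ext hg)
      show g ∈ (detHom Q * θ').ker
      rw [MonoidHom.mem_ker, e, MonoidHom.mul_apply, detHom_reflO Q ⟨v, hv⟩, hθ',
        MonoidHom.comp_apply, hθgen v hv t ht hvt, hε]
      apply Units.ext
      simp
    intro hmem
    have h1 := MonoidHom.mem_ker.1 (hle hmem)
    have hθ1 : theta Q (reflO Q u₀ hu₀) = 1 := by
      rw [hε] at hθu
      have h3 : theta Q (reflO Q u₀ hu₀) = theta Q (reflO Q u₀ hu₀) * -1 * -1 := by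
        rw [mul_assoc]; simp
      rw [h3, hθu]; simp
    rw [MonoidHom.mul_apply, detHom_reflO Q ⟨u₀, hu₀⟩, hθ', MonoidHom.comp_apply, hθ1, map_one,
      mul_one] at h1
    exact neg_one_units_ne h2 h1

/-- the subgroup generated by the reflections of one square class has index two -/
theorem index_R (h2 : (2 : F) ≠ 0) (hQ : (QuadraticMap.polarBilin Q).Nondegenerate)
    (hdim : Fintype.card ι = 2 ∨ 4 ≤ Fintype.card ι)
    (h43 : ¬ (Fintype.card ι = 4 ∧ Fintype.card F = 3))
    (hCD : ∀ g : ↥(Cfsg.isometryGroup F ⇑Q), ∃ L : List (NS Q), g = prodO Q L)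
    (c : F) (hc : c ≠ 0) : (R Q c).index = 2 := by
  have hn2 : 2 ≤ Fintype.card ι := by omega
  obtain ⟨e, he⟩ := FiniteField.exists_nonsquare (F := F) (by
    intro h
    apply h2
    have := CharP.cast_eq_zero F (ringChar F)
    rw [h] at this
    exact_mod_cast this)
  obtain ⟨a, ha⟩ := exists_norm_eq Q h2 hQ hn2 c
  obtain ⟨u₀, hu₀e⟩ := exists_norm_eq Q h2 hQ hn2 (c * e)
  have he0 : e ≠ 0 := by
    rintro rfl
    exact he ⟨0, by ring⟩
  have hu₀ : Q u₀ ≠ 0 := by rw [hu₀e]; exact mul_ne_zero hc he0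
  have hns : ¬ IsSquare (c * Q u₀) := by
    rw [hu₀e]
    rintro ⟨s, hs⟩
    apply he
    refine ⟨s / c, ?_⟩
    field_simp
    linear_combination hs
  have hr := reflO_not_mem_R Q h2 c hc a ha u₀ hu₀ hns
  have hN : (R Q c).Normal := inferInstance
  rw [Subgroup.index_eq_two_iff]
  refine ⟨reflO Q u₀ hu₀, fun b => ?_⟩
  by_cases hb : b ∈ R Q c
  · right
    refine ⟨hb, ?_⟩
    intro hbr
    apply hr
    have : reflO Q u₀ hu₀ = b⁻¹ * (b * reflO Q u₀ hu₀) := by group
    rw [this]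
    exact Subgroup.mul_mem _ (Subgroup.inv_mem _ hb) hbr
  · left
    refine ⟨?_, hb⟩
    obtain ⟨L, hL⟩ := hCD b
    rcases mem_or_mul_mem Q h2 hQ hdim h43 c hc u₀ hu₀ hns L with h | h
    · rw [← hL] at h
      exact absurd h hb
    · rw [← hL] at h
      have : b * reflO Q u₀ hu₀ = (reflO Q u₀ hu₀)⁻¹ * (reflO Q u₀ hu₀ * b) * ((reflO Q u₀ hu₀)⁻¹)⁻¹ := by
        group
      rw [this]
      exact hN.conj_mem _ h _

end main

section finn

variable {F : Type*} [Field F] [Fintype F] {n : ℕ} (Q : QuadraticForm F (Fin n → F))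

/-- Cartan–Dieudonné as a list of reflections -/
theorem cd_list (h2 : (2 : F) ≠ 0) (hQ : (QuadraticMap.polarBilin Q).Nondegenerate)
    (g : ↥(Cfsg.isometryGroup F ⇑Q)) : ∃ L : List (NS Q), g = prodO Q L := by
  obtain ⟨L, hL⟩ := Cfsg.Agent.Helper28.cartan_dieudonne Q h2 hQ
    ((g : Matrix.GeneralLinearGroup (Fin n) F) : Matrix (Fin n) (Fin n) F)
    (fun x => isom_apply Q g x)
  refine ⟨L, ?_⟩
  apply Subtype.ext
  apply Units.ext
  rw [hL, prodO_val]
  rfl

/-- index two, for `Fin n` -/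
theorem index_R_fin (h2 : (2 : F) ≠ 0) (hQ : (QuadraticMap.polarBilin Q).Nondegenerate)
    (hdim : n = 2 ∨ 4 ≤ n) (h43 : ¬ (n = 4 ∧ Fintype.card F = 3))
    (c : F) (hc : c ≠ 0) : (R Q c).index = 2 :=
  index_R Q h2 hQ (by rw [Fintype.card_fin]; exact hdim) (by rw [Fintype.card_fin]; exact h43)
    (cd_list Q h2 hQ) c hc

end finn

end Cfsg.Agent.Helper28.RC
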