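import Mathlib
import Cfsg.Prelude.Def_ClassicalGeometry
import Cfsg.Agent.Helper28.ReflClass
import Cfsg.Agent.Helper28.CD2b
import Cfsg.Agent.Helper28.QWitt
import Cfsg.Agent.Helper28.CDGen

set_option autoImplicit false
set_option linter.unusedSectionVars false

/-! The centraliser of `Ω` in the isometry group consists of `±1` (dimension at least six). -/

namespace Cfsg.Agent.Helper28.OC

open Matrix Module Cfsg.Agent.Helper28.Spin Cfsg.Agent.Helper28.IsoTransport

variable {F : Type*} [Field F] [Fintype F] {ι : Type} [Fintype ι] [DecidableEq ι]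
  (Q : QuadraticForm F (ι → F))

/-- the product of two reflections in vectors of equal norm lies in `Ω` -/
theorem reflO_mul_mem_Omega (hQ : (QuadraticMap.polarBilin Q).Nondegenerate)
    (hcard : Fintype.card F ≠ 2 ∨ Fintype.card ι ≠ 4) (u v : ι → F) (hu : Q u ≠ 0) (hv : Q v ≠ 0)
    (huv : Q u = Q v) : reflO Q u hu * reflO Q v hv ∈ Cfsg.Omega F ⇑Q := by
  by_cases h2 : (2 : F) = 0
  · exact reflO_mul_reflO_mem Q h2 hQ hcard u v hu hv
  · have h := (prodO_mem_Omega_iff Q h2 [⟨u, hu⟩, ⟨v, hv⟩]).2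
      ⟨by simp, ⟨Q u, by simp [normProd, huv]⟩⟩
    simpa [prodO_cons, prodO_nil] using h

/-- an isometry commuting with `r_u r_v` preserves the common perpendicular of `u, v` -/
theorem perp_of_commute (z : ↥(Cfsg.isometryGroup F ⇑Q)) (u v : ι → F) (hu : Q u ≠ 0) (hv : Q v ≠ 0)
    (hcomm : z * (reflO Q u hu * reflO Q v hv) = (reflO Q u hu * reflO Q v hv) * z)
    (hind : v ∉ Submodule.span F {u}) (x : ι → F)
    (hux : QuadraticMap.polar ⇑Q u x = 0) (hvx : QuadraticMap.polar ⇑Q v x = 0) :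
    QuadraticMap.polar ⇑Q u (((z : GL ι F) : Matrix ι ι F) *ᵥ x) = 0 ∧
      QuadraticMap.polar ⇑Q v (((z : GL ι F) : Matrix ι ι F) *ᵥ x) = 0 := by
  obtain ⟨A, hA⟩ : ∃ A, A = ((z : GL ι F) : Matrix ι ι F) := ⟨_, rfl⟩
  rw [← hA]
  have hmat : A * (Cfsg.reflectionMatrix ⇑Q u * Cfsg.reflectionMatrix ⇑Q v) =
      (Cfsg.reflectionMatrix ⇑Q u * Cfsg.reflectionMatrix ⇑Q v) * A := by
    have := congrArg (fun g : ↥(Cfsg.isometryGroup F ⇑Q) => ((g : GL ι F) : Matrix ι ι F)) hcomm
    rw [hA]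
    exact this
  obtain ⟨y, hy⟩ : ∃ y, y = A *ᵥ x := ⟨_, rfl⟩
  rw [← hy]
  have h1 : Cfsg.reflectionMatrix ⇑Q u *ᵥ (Cfsg.reflectionMatrix ⇑Q v *ᵥ y) = y := by
    have := congrArg (fun M : Matrix ι ι F => M *ᵥ x) hmat
    simp only [← Matrix.mulVec_mulVec] at this
    rw [Spin.refl_fix Q hvx, Spin.refl_fix Q hux] at this
    rw [hy]
    exact this.symm
  have h3 : Cfsg.reflectionMatrix ⇑Q v *ᵥ y = Cfsg.reflectionMatrix ⇑Q u *ᵥ y := by
    have h5 : Cfsg.reflectionMatrix ⇑Q u *ᵥ (Cfsg.reflectionMatrix ⇑Q u *ᵥ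
        (Cfsg.reflectionMatrix ⇑Q v *ᵥ y)) = Cfsg.reflectionMatrix ⇑Q u *ᵥ y := by rw [h1]
    rw [Matrix.mulVec_mulVec, Spin.refl_sq Q hu, Matrix.one_mulVec] at h5
    exact h5
  rw [Spin.refl_mulVec, Spin.refl_mulVec] at h3
  have h4 : ((Q v)⁻¹ * QuadraticMap.polar ⇑Q v y) • v = ((Q u)⁻¹ * QuadraticMap.polar ⇑Q u y) • u := by
    have := congrArg (fun w => y - w) h3
    simpa using this
  have hu0 : u ≠ 0 := by
    rintro rfl
    apply hu
    simp
  have hvy : QuadraticMap.polar ⇑Q v y = 0 := by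
    by_contra hne
    apply hind
    have hc : (Q v)⁻¹ * QuadraticMap.polar ⇑Q v y ≠ 0 := mul_ne_zero (inv_ne_zero hv) hne
    have : v = (((Q v)⁻¹ * QuadraticMap.polar ⇑Q v y)⁻¹ * ((Q u)⁻¹ * QuadraticMap.polar ⇑Q u y)) • u := by
      rw [mul_smul, ← h4, smul_smul, inv_mul_cancel₀ hc, one_smul]
    rw [this]
    exact Submodule.smul_mem _ _ (Submodule.mem_span_singleton_self u)
  refine ⟨?_, hvy⟩
  rw [hvy, mul_zero, zero_smul] at h4
  have := smul_eq_zero.1 h4.symm
  rcases this with h | h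
  · exact (mul_eq_zero.1 h).resolve_left (inv_ne_zero hu)
  · exact absurd h hu0

/-- an isometry commuting with `r_u r_v` maps `u` into the plane of `u, v` -/
theorem mulVec_mem_span_pair (hQ : (QuadraticMap.polarBilin Q).Nondegenerate)
    (z : ↥(Cfsg.isometryGroup F ⇑Q)) (u v : ι → F) (hu : Q u ≠ 0) (hv : Q v ≠ 0)
    (hcomm : z * (reflO Q u hu * reflO Q v hv) = (reflO Q u hu * reflO Q v hv) * z)
    (hind : v ∉ Submodule.span F {u}) :
    ((z : GL ι F) : Matrix ι ι F) *ᵥ u ∈ Submodule.span F ({u, v} : Set (ι → F)) := by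
  have hcomm' : z⁻¹ * (reflO Q u hu * reflO Q v hv) = (reflO Q u hu * reflO Q v hv) * z⁻¹ := by
    rw [inv_mul_eq_iff_eq_mul, ← mul_assoc, hcomm, mul_assoc, mul_inv_cancel, mul_one]
  rw [← LinearMap.BilinForm.orthogonal_orthogonal hQ (RC.polarBilin_isRefl Q)
    (Submodule.span F ({u, v} : Set (ι → F)))]
  rw [LinearMap.BilinForm.mem_orthogonal_iff]
  intro x hx
  rw [LinearMap.BilinForm.mem_orthogonal_iff] at hx
  have hu_mem : u ∈ Submodule.span F ({u, v} : Set (ι → F)) := Submodule.subset_span (by simp)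
  have hv_mem : v ∈ Submodule.span F ({u, v} : Set (ι → F)) := Submodule.subset_span (by simp)
  have hux : QuadraticMap.polar ⇑Q u x = 0 := hx u hu_mem
  have hvx : QuadraticMap.polar ⇑Q v x = 0 := hx v hv_mem
  have h1 := (perp_of_commute Q z⁻¹ u v hu hv hcomm' hind x hux hvx).1
  show QuadraticMap.polar ⇑Q x (((z : GL ι F) : Matrix ι ι F) *ᵥ u) = 0
  have hxx : x = ((z : GL ι F) : Matrix ι ι F) *ᵥ ((((z⁻¹ : ↥(Cfsg.isometryGroup F ⇑Q)) : GL ι F) :
      Matrix ι ι F) *ᵥ x) := by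
    rw [Matrix.mulVec_mulVec]
    have : ((z : GL ι F) : Matrix ι ι F) * (((z⁻¹ : ↥(Cfsg.isometryGroup F ⇑Q)) : GL ι F) :
        Matrix ι ι F) = 1 := by
      have := congrArg (fun g : ↥(Cfsg.isometryGroup F ⇑Q) => ((g : GL ι F) : Matrix ι ι F))
        (mul_inv_cancel z)
      exact this
    rw [this, Matrix.one_mulVec]
  rw [hxx, Spin.polar_isom Q (isom_apply Q z), QuadraticMap.polar_comm]
  exact h1

/-- the perpendicular of a small subspace represents every scalar -/
theorem exists_mem_orth_eq (hQ : (QuadraticMap.polarBilin Q).Nondegenerate)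
    (W : Submodule F (ι → F)) (hW : 2 * finrank F W + 2 ≤ Fintype.card ι) (c : F) :
    ∃ v ∈ LinearMap.BilinForm.orthogonal (QuadraticMap.polarBilin Q) W, Q v = c := by
  apply RC.exists_mem_eq' Q
  rw [LinearMap.BilinForm.orthogonal_orthogonal hQ (RC.polarBilin_isRefl Q)]
  have hT := LinearMap.BilinForm.finrank_orthogonal hQ W
  rw [Module.finrank_fintype_fun_eq_card] at hT
  have hle : finrank F ↥(LinearMap.BilinForm.orthogonal (QuadraticMap.polarBilin Q) W ⊓ W) ≤
      finrank F W := Submodule.finrank_mono inf_le_right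
  omega

theorem polar_dual_comm (x y : ι → F) :
    QuadraticMap.polar ⇑Q x y = QuadraticMap.polar ⇑Q y x := QuadraticMap.polar_comm _ _ _

/-- a vector of prescribed norm outside a given line -/
theorem exists_norm_not_mem (hQ : (QuadraticMap.polarBilin Q).Nondegenerate)
    (h4 : 4 ≤ Fintype.card ι) (u : ι → F) (hu0 : u ≠ 0) (d : F) (hd : d ≠ 0) :
    ∃ v, Q v = d ∧ v ∉ Submodule.span F {u} := by
  obtain ⟨w, -, hw⟩ := QWitt.exists_dual_vec Q hQ ⊥ u (by simpa using hu0)
  have hw' : QuadraticMap.polar ⇑Q u w = 1 := hw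
  have hfr : finrank F ↥(Submodule.span F ({w} : Set (ι → F))) ≤ 1 := by
    classical
    have := finrank_span_finset_le_card (R := F) ({w} : Finset (ι → F))
    have h3 : (({w} : Finset (ι → F)) : Set (ι → F)) = {w} := by simp
    rw [h3] at this
    exact this.trans (by simp)
  obtain ⟨v, hvT, hv⟩ := exists_mem_orth_eq Q hQ (Submodule.span F {w}) (by omega) d
  refine ⟨v, hv, ?_⟩
  intro hmem
  obtain ⟨a, rfl⟩ := Submodule.mem_span_singleton.1 hmem
  rw [LinearMap.BilinForm.mem_orthogonal_iff] at hvT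
  have h1 : QuadraticMap.polar ⇑Q w (a • u) = 0 := hvT w (Submodule.mem_span_singleton_self w)
  rw [QuadraticMap.polar_smul_right, QuadraticMap.polar_comm, hw', smul_eq_mul, mul_one] at h1
  rw [h1, zero_smul, map_zero] at hv
  exact hd hv.symm

/-- a vector of prescribed norm outside a given plane -/
theorem exists_norm_not_mem_pair (hQ : (QuadraticMap.polarBilin Q).Nondegenerate)
    (h6 : 6 ≤ Fintype.card ι) (u v : ι → F) (hu0 : u ≠ 0) (hv : v ∉ Submodule.span F {u})
    (d : F) (hd : d ≠ 0) :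
    ∃ v', Q v' = d ∧ v' ∉ Submodule.span F ({u, v} : Set (ι → F)) := by
  classical
  have hu' : u ∉ Submodule.span F {v} := by
    intro hmem
    obtain ⟨a, ha⟩ := Submodule.mem_span_singleton.1 hmem
    have ha0 : a ≠ 0 := by
      rintro rfl
      rw [zero_smul] at ha
      exact hu0 ha.symm
    apply hv
    have : v = a⁻¹ • u := by rw [← ha, smul_smul, inv_mul_cancel₀ ha0, one_smul]
    rw [this]
    exact Submodule.smul_mem _ _ (Submodule.mem_span_singleton_self u)
  obtain ⟨wa, hwa1, hwa2⟩ := QWitt.exists_dual_vec Q hQ (Submodule.span F {v}) u hu'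
  obtain ⟨wb, hwb1, hwb2⟩ := QWitt.exists_dual_vec Q hQ (Submodule.span F {u}) v hv
  have hva : QuadraticMap.polar ⇑Q v wa = 0 := hwa1 v (Submodule.mem_span_singleton_self v)
  have hua : QuadraticMap.polar ⇑Q u wa = 1 := hwa2
  have hub : QuadraticMap.polar ⇑Q u wb = 0 := hwb1 u (Submodule.mem_span_singleton_self u)
  have hvb : QuadraticMap.polar ⇑Q v wb = 1 := hwb2
  have hfr : finrank F ↥(Submodule.span F ({wa, wb} : Set (ι → F))) ≤ 2 := by
    have := finrank_span_finset_le_card (R := F) ({wa, wb} : Finset (ι → F))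
    have h3 : (({wa, wb} : Finset (ι → F)) : Set (ι → F)) = {wa, wb} := by simp
    rw [h3] at this
    exact this.trans Finset.card_le_two
  obtain ⟨v', hvT, hv'⟩ := exists_mem_orth_eq Q hQ (Submodule.span F {wa, wb}) (by omega) d
  refine ⟨v', hv', ?_⟩
  intro hmem
  obtain ⟨a, b, rfl⟩ := Submodule.mem_span_pair.1 hmem
  rw [LinearMap.BilinForm.mem_orthogonal_iff] at hvT
  have h1 : QuadraticMap.polar ⇑Q wa (a • u + b • v) = 0 :=
    hvT wa (Submodule.subset_span (by simp))
  have h2 : QuadraticMap.polar ⇑Q wb (a • u + b • v) = 0 :=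
    hvT wb (Submodule.subset_span (by simp))
  rw [QuadraticMap.polar_add_right, QuadraticMap.polar_smul_right, QuadraticMap.polar_smul_right,
    QuadraticMap.polar_comm _ wa u, QuadraticMap.polar_comm _ wa v, hua, hva] at h1
  rw [QuadraticMap.polar_add_right, QuadraticMap.polar_smul_right, QuadraticMap.polar_smul_right,
    QuadraticMap.polar_comm _ wb u, QuadraticMap.polar_comm _ wb v, hub, hvb] at h2
  simp only [smul_eq_mul, mul_one, mul_zero, add_zero, zero_add] at h1 h2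
  rw [h1, h2, zero_smul, zero_smul, add_zero, map_zero] at hv'
  exact hd hv'.symm

/-- an isometry centralising `Ω` maps every nonsingular vector to a multiple of itself -/
theorem exists_eig (hQ : (QuadraticMap.polarBilin Q).Nondegenerate)
    (h6 : 6 ≤ Fintype.card ι) (z : ↥(Cfsg.isometryGroup F ⇑Q))
    (hz : ∀ g ∈ Cfsg.Omega F ⇑Q, z * g = g * z) (u : ι → F) (hu : Q u ≠ 0) :
    ∃ l : F, ((z : GL ι F) : Matrix ι ι F) *ᵥ u = l • u := by
  have hcard : Fintype.card F ≠ 2 ∨ Fintype.card ι ≠ 4 := Or.inr (by omega)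
  have hu0 : u ≠ 0 := by
    rintro rfl
    apply hu
    simp
  obtain ⟨v, hQv, hv⟩ := exists_norm_not_mem Q hQ (by omega) u hu0 (Q u) hu
  obtain ⟨v', hQv', hv'⟩ := exists_norm_not_mem_pair Q hQ h6 u v hu0 hv (Q u) hu
  have hv0 : Q v ≠ 0 := by rw [hQv]; exact hu
  have hv'0 : Q v' ≠ 0 := by rw [hQv']; exact hu
  have hv'u : v' ∉ Submodule.span F {u} := by
    intro h
    apply hv'
    have hle : Submodule.span F ({u} : Set (ι → F)) ≤ Submodule.span F ({u, v} : Set (ι → F)) :=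
      Submodule.span_mono (by simp)
    exact hle h
  have h1 := mulVec_mem_span_pair Q hQ z u v hu hv0
    (hz _ (reflO_mul_mem_Omega Q hQ hcard u v hu hv0 hQv.symm)) hv
  have h2 := mulVec_mem_span_pair Q hQ z u v' hu hv'0
    (hz _ (reflO_mul_mem_Omega Q hQ hcard u v' hu hv'0 hQv'.symm)) hv'u
  obtain ⟨a, b, hab⟩ := Submodule.mem_span_pair.1 h1
  obtain ⟨a', b', hab'⟩ := Submodule.mem_span_pair.1 h2
  have hb' : b' = 0 := by
    by_contra hne
    apply hv'
    have : v' = (b'⁻¹ * (a - a')) • u + (b'⁻¹ * b) • v := by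
      have e : b' • v' = (a - a') • u + b • v := by
        have := hab.trans hab'.symm
        rw [sub_smul]
        have e2 : b' • v' = a • u + b • v - a' • u := by rw [this]; abel
        rw [e2]; abel
      rw [mul_smul, mul_smul, ← smul_add, ← e, smul_smul, inv_mul_cancel₀ hne, one_smul]
    rw [this]
    exact Submodule.add_mem _ (Submodule.smul_mem _ _ (Submodule.subset_span (by simp)))
      (Submodule.smul_mem _ _ (Submodule.subset_span (by simp)))
  refine ⟨a', ?_⟩
  rw [← hab', hb', zero_smul, add_zero]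

theorem eig_sq (A : Matrix ι ι F) (hA : ∀ x, Q (A *ᵥ x) = Q x) (u : ι → F) (hu : Q u ≠ 0) (l : F)
    (h : A *ᵥ u = l • u) : l ^ 2 = 1 := by
  have h1 := hA u
  rw [h, QuadraticMap.map_smul, smul_eq_mul] at h1
  have : (l ^ 2 - 1) * Q u = 0 := by linear_combination h1
  have := (mul_eq_zero.1 this).resolve_right hu
  linear_combination this

theorem eig_eq_of_add (A : Matrix ι ι F) (a b : ι → F) (la lb lab : F) (ha : A *ᵥ a = la • a)
    (hb : A *ᵥ b = lb • b) (hab : A *ᵥ (a + b) = lab • (a + b)) (ha0 : a ≠ 0) (hb0 : b ≠ 0) :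
    la = lb := by
  rw [Matrix.mulVec_add, ha, hb, smul_add] at hab
  have e : (la - lab) • a = (lab - lb) • b := by
    rw [sub_smul, sub_smul]
    have e2 : la • a = lab • a + lab • b - lb • b := by rw [← hab]; abel
    rw [e2]; abel
  by_cases h : la = lab
  · rw [h, sub_self, zero_smul] at e
    have := smul_eq_zero.1 e.symm
    rcases this with h3 | h3
    · rw [h]; exact sub_eq_zero.1 h3
    · exact absurd h3 hb0
  · have hne : la - lab ≠ 0 := sub_ne_zero.2 h
    have hak : a = ((la - lab)⁻¹ * (lab - lb)) • b := by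
      rw [mul_smul, ← e, smul_smul, inv_mul_cancel₀ hne, one_smul]
    have h4 : A *ᵥ a = lb • a := by
      rw [hak, Matrix.mulVec_smul, hb, smul_smul, smul_smul, mul_comm]
    rw [ha] at h4
    have h5 : (la - lb) • a = 0 := by rw [sub_smul, h4, sub_self]
    rcases smul_eq_zero.1 h5 with h6 | h6
    · exact sub_eq_zero.1 h6
    · exact absurd h6 ha0

theorem ne_zero_of_Q_ne {x : ι → F} (hx : Q x ≠ 0) : x ≠ 0 := by
  rintro rfl
  apply hx
  simp

/-- in odd characteristic the eigenvalue does not depend on the nonsingular vector -/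
theorem eig_const (h2 : (2 : F) ≠ 0) (hQ : (QuadraticMap.polarBilin Q).Nondegenerate)
    (h6 : 6 ≤ Fintype.card ι) (A : Matrix ι ι F)
    (heig : ∀ x, Q x ≠ 0 → ∃ l : F, A *ᵥ x = l • x) (u x : ι → F) (hu : Q u ≠ 0) (hx : Q x ≠ 0)
    (lu lx : F) (hlu : A *ᵥ u = lu • u) (hlx : A *ᵥ x = lx • x) : lu = lx := by
  classical
  have hu0 := ne_zero_of_Q_ne Q hu
  have hx0 := ne_zero_of_Q_ne Q hx
  by_cases h1 : Q (x + u) ≠ 0
  · obtain ⟨l, hl⟩ := heig _ h1
    exact (eig_eq_of_add A x u lx lu l hlx hlu hl hx0 hu0).symm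
  by_cases h3 : Q (x - u) ≠ 0
  · have hnu : A *ᵥ (-u) = lu • (-u) := by rw [Matrix.mulVec_neg, hlu, smul_neg]
    have h3' : Q (x + -u) ≠ 0 := by rw [← sub_eq_add_neg]; exact h3
    obtain ⟨l, hl⟩ := heig _ h3'
    exact (eig_eq_of_add A x (-u) lx lu l hlx hnu hl hx0 (neg_ne_zero.2 hu0)).symm
  push Not at h1 h3
  have e1 := QuadraticMap.map_add (⇑Q) x u
  have e2 := CDG.map_sub' Q x u
  rw [h1] at e1
  rw [h3] at e2
  have hP : QuadraticMap.polar ⇑Q x u = 0 := by
    have : 2 * QuadraticMap.polar ⇑Q x u = 0 := by linear_combination e2 - e1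
    exact (mul_eq_zero.1 this).resolve_left h2
  have hQx : Q x = -Q u := by
    rw [hP] at e1
    linear_combination -e1
  have hfr : finrank F ↥(Submodule.span F ({u, x} : Set (ι → F))) ≤ 2 := by
    have := finrank_span_finset_le_card (R := F) ({u, x} : Finset (ι → F))
    have h3 : (({u, x} : Finset (ι → F)) : Set (ι → F)) = {u, x} := by simp
    rw [h3] at this
    exact this.trans Finset.card_le_two
  obtain ⟨t, htT, ht⟩ := exists_mem_orth_eq Q hQ (Submodule.span F {u, x}) (by omega) (Q u)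
  rw [LinearMap.BilinForm.mem_orthogonal_iff] at htT
  have hut : QuadraticMap.polar ⇑Q u t = 0 := htT u (Submodule.subset_span (by simp))
  have hxt : QuadraticMap.polar ⇑Q x t = 0 := htT x (Submodule.subset_span (by simp))
  have ht0 : Q t ≠ 0 := by rw [ht]; exact hu
  have hQut : Q (u + t) = 2 * Q u := by
    rw [QuadraticMap.map_add (⇑Q), ht, hut]; ring
  have hut0 : Q (u + t) ≠ 0 := by rw [hQut]; exact mul_ne_zero h2 hu
  obtain ⟨lt, hlt⟩ := heig t ht0
  obtain ⟨l1, hl1⟩ := heig _ hut0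
  have e3 : lu = lt := eig_eq_of_add A u t lu lt l1 hlu hlt hl1 hu0 (ne_zero_of_Q_ne Q ht0)
  have hAut : A *ᵥ (u + t) = lu • (u + t) := by
    rw [Matrix.mulVec_add, hlu, hlt, ← e3, smul_add]
  have hQxut : Q (x + (u + t)) = Q u := by
    rw [QuadraticMap.map_add (⇑Q), QuadraticMap.polar_add_right, hP, hxt, hQut, hQx]; ring
  have hxut0 : Q (x + (u + t)) ≠ 0 := by rw [hQxut]; exact hu
  obtain ⟨l2, hl2⟩ := heig _ hxut0
  exact (eig_eq_of_add A x (u + t) lx lu l2 hlx hAut hl2 hx0 (ne_zero_of_Q_ne Q hut0)).symm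

/-- a matrix preserving `Q` with every nonsingular vector an eigenvector is `±1` -/
theorem eq_smul_one (hQ : (QuadraticMap.polarBilin Q).Nondegenerate)
    (h6 : 6 ≤ Fintype.card ι) (A : Matrix ι ι F) (hA : ∀ x, Q (A *ᵥ x) = Q x)
    (heig : ∀ x, Q x ≠ 0 → ∃ l : F, A *ᵥ x = l • x) :
    A = 1 ∨ A = -1 := by
  classical
  obtain ⟨u₀, -, hu₀⟩ := exists_mem_orth_eq Q hQ ⊥ (by rw [finrank_bot]; omega) 1
  have hu₀0 : Q u₀ ≠ 0 := by rw [hu₀]; exact one_ne_zero
  obtain ⟨l, hl⟩ := heig u₀ hu₀0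
  have hl2 := eig_sq Q A hA u₀ hu₀0 l hl
  have hall : ∀ x, Q x ≠ 0 → A *ᵥ x = l • x := by
    intro x hx
    obtain ⟨lx, hlx⟩ := heig x hx
    by_cases h2 : (2 : F) = 0
    · have hlx2 := eig_sq Q A hA x hx lx hlx
      have e1 : (lx - l) ^ 2 = 0 := by linear_combination hlx2 + hl2 + (1 - lx * l) * h2
      have : lx = l := sub_eq_zero.1 ((pow_eq_zero_iff two_ne_zero).1 e1)
      rw [hlx, this]
    · rw [hlx, eig_const Q h2 hQ h6 A heig u₀ x hu₀0 hx l lx hl hlx]
  have hall' : ∀ y, A *ᵥ y = l • y := by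
    intro y
    by_cases hy : Q y ≠ 0
    · exact hall y hy
    push Not at hy
    have hfr : finrank F ↥(Submodule.span F ({y} : Set (ι → F))) ≤ 1 := by
      have := finrank_span_finset_le_card (R := F) ({y} : Finset (ι → F))
      have h3 : (({y} : Finset (ι → F)) : Set (ι → F)) = {y} := by simp
      rw [h3] at this
      exact this.trans (by simp)
    obtain ⟨w, hwT, hw⟩ := exists_mem_orth_eq Q hQ (Submodule.span F {y}) (by omega) 1
    rw [LinearMap.BilinForm.mem_orthogonal_iff] at hwT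
    have hyw : QuadraticMap.polar ⇑Q y w = 0 := hwT y (Submodule.mem_span_singleton_self y)
    have hw0 : Q w ≠ 0 := by rw [hw]; exact one_ne_zero
    have hyw0 : Q (y + w) ≠ 0 := by
      rw [QuadraticMap.map_add (⇑Q), hy, hw, hyw]; simp
    have e1 := hall _ hyw0
    have e2 := hall _ hw0
    rw [Matrix.mulVec_add, e2, smul_add] at e1
    exact add_right_cancel e1
  have hAl : A = l • (1 : Matrix ι ι F) := by
    apply Spin.matrix_ext_mulVec
    intro y
    rw [hall' y, Matrix.smul_mulVec, Matrix.one_mulVec]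
  have hfac : (l - 1) * (l + 1) = 0 := by linear_combination hl2
  rcases mul_eq_zero.1 hfac with h | h
  · left
    rw [hAl, sub_eq_zero.1 h, one_smul]
  · right
    rw [hAl, eq_neg_of_add_eq_zero_left h]
    simp

/-- the centraliser of `Ω` in the isometry group is `{±1}` -/
theorem centralizer_Omega (hQ : (QuadraticMap.polarBilin Q).Nondegenerate)
    (h6 : 6 ≤ Fintype.card ι) (z : ↥(Cfsg.isometryGroup F ⇑Q))
    (hz : ∀ g ∈ Cfsg.Omega F ⇑Q, z * g = g * z) :
    ((z : GL ι F) : Matrix ι ι F) = 1 ∨ ((z : GL ι F) : Matrix ι ι F) = -1 :=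
  eq_smul_one Q hQ h6 _ (isom_apply Q z) (fun x hx => exists_eig Q hQ h6 z hz x hx)

end Cfsg.Agent.Helper28.OC
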