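import Mathlib
import Cfsg.Prelude.Def_ClassicalGeometry
import Cfsg.Agent.Helper28.OmegaCenter

set_option autoImplicit false
set_option linter.unusedSectionVars false

/-! The centre of `Ω` and the order of `PΩ`. -/

namespace Cfsg.Agent.Helper28.OC

open Matrix Module Cfsg.Agent.Helper28.Spin Cfsg.Agent.Helper28.IsoTransport

variable {F : Type*} [Field F] [Fintype F] {ι : Type} [Fintype ι] [DecidableEq ι]
  (Q : QuadraticForm F (ι → F))

/-- elements of the centre of `Ω` are `±1` -/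
theorem center_Omega_cases (hQ : (QuadraticMap.polarBilin Q).Nondegenerate)
    (h6 : 6 ≤ Fintype.card ι) (z : ↥(Cfsg.Omega F ⇑Q))
    (hz : z ∈ Subgroup.center ↥(Cfsg.Omega F ⇑Q)) :
    (((z : ↥(Cfsg.isometryGroup F ⇑Q)) : GL ι F) : Matrix ι ι F) = 1 ∨
      (((z : ↥(Cfsg.isometryGroup F ⇑Q)) : GL ι F) : Matrix ι ι F) = -1 := by
  apply centralizer_Omega Q hQ h6
  intro g hg
  have := (Subgroup.mem_center_iff.1 hz) ⟨g, hg⟩
  exact (congrArg Subtype.val this).symm

theorem card_center_Omega_eq_one (hQ : (QuadraticMap.polarBilin Q).Nondegenerate)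
    (h6 : 6 ≤ Fintype.card ι)
    (h : ¬ ((2 : F) ≠ 0 ∧ ∃ g : ↥(Cfsg.isometryGroup F ⇑Q), g ∈ Cfsg.Omega F ⇑Q ∧
      ((g : GL ι F) : Matrix ι ι F) = -1)) :
    Nat.card ↥(Subgroup.center ↥(Cfsg.Omega F ⇑Q)) = 1 := by
  rw [Subgroup.card_eq_one, Subgroup.eq_bot_iff_forall]
  intro z hz
  rcases center_Omega_cases Q hQ h6 z hz with h1 | h1
  · exact Subtype.ext (Subtype.ext (Units.ext h1))
  · by_cases h2 : (2 : F) = 0
    · have hneg : (-1 : Matrix ι ι F) = 1 := by
        have h3 : (-1 : F) = 1 := by linear_combination (-1 : F) * h2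
        ext i j
        by_cases hij : i = j
        · subst hij
          simp [h3]
        · simp [hij]
      rw [hneg] at h1
      exact Subtype.ext (Subtype.ext (Units.ext h1))
    · exact absurd ⟨h2, (z : ↥(Cfsg.isometryGroup F ⇑Q)), z.2, h1⟩ h

theorem card_center_Omega_eq_two (hQ : (QuadraticMap.polarBilin Q).Nondegenerate)
    (h6 : 6 ≤ Fintype.card ι) (h2 : (2 : F) ≠ 0)
    (h : ∃ g : ↥(Cfsg.isometryGroup F ⇑Q), g ∈ Cfsg.Omega F ⇑Q ∧
      ((g : GL ι F) : Matrix ι ι F) = -1) :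
    Nat.card ↥(Subgroup.center ↥(Cfsg.Omega F ⇑Q)) = 2 := by
  obtain ⟨g, hgΩ, hg⟩ := h
  have hne : Nonempty ι := by
    by_contra hcon
    rw [not_nonempty_iff] at hcon
    have := Fintype.card_eq_zero (α := ι)
    omega
  have hz0 : (⟨g, hgΩ⟩ : ↥(Cfsg.Omega F ⇑Q)) ∈ Subgroup.center ↥(Cfsg.Omega F ⇑Q) := by
    rw [Subgroup.mem_center_iff]
    intro x
    apply Subtype.ext
    apply Subtype.ext
    apply Units.ext
    show (((x : ↥(Cfsg.isometryGroup F ⇑Q)) : GL ι F) : Matrix ι ι F) * ((g : GL ι F) : Matrix ι ι F)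
      = ((g : GL ι F) : Matrix ι ι F) * (((x : ↥(Cfsg.isometryGroup F ⇑Q)) : GL ι F) : Matrix ι ι F)
    rw [hg]
    simp
  have hg1 : g ≠ 1 := by
    intro h1
    rw [h1] at hg
    obtain ⟨i⟩ := hne
    have := congrFun (congrFun hg i) i
    simp only [OneMemClass.coe_one, Units.val_one, Matrix.one_apply_eq, Matrix.neg_apply] at this
    apply h2
    linear_combination this
  rw [Nat.card_eq_two_iff]
  refine ⟨⟨1, Subgroup.one_mem _⟩, ⟨⟨g, hgΩ⟩, hz0⟩, ?_, ?_⟩
  · intro heq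
    apply hg1
    have := congrArg (fun z : ↥(Subgroup.center ↥(Cfsg.Omega F ⇑Q)) =>
      ((z : ↥(Cfsg.Omega F ⇑Q)) : ↥(Cfsg.isometryGroup F ⇑Q))) heq
    exact this.symm
  · rw [Set.eq_univ_iff_forall]
    rintro ⟨z, hz⟩
    rcases center_Omega_cases Q hQ h6 z hz with h1 | h1
    · left
      exact Subtype.ext (Subtype.ext (Subtype.ext (Units.ext h1)))
    · right
      rw [Set.mem_singleton_iff]
      apply Subtype.ext
      apply Subtype.ext
      apply Subtype.ext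
      apply Units.ext
      rw [h1]
      exact hg.symm

/-- the order of the isometry group in terms of `PΩ` -/
theorem card_POmega_mul :
    Nat.card (Cfsg.POmega F ⇑Q) * Nat.card ↥(Subgroup.center ↥(Cfsg.Omega F ⇑Q)) *
      (Cfsg.Omega F ⇑Q).index = Nat.card ↥(Cfsg.isometryGroup F ⇑Q) := by
  rw [← Subgroup.card_mul_index (Cfsg.Omega F ⇑Q),
    Subgroup.card_eq_card_quotient_mul_card_subgroup (Subgroup.center ↥(Cfsg.Omega F ⇑Q))]

/-- index of `Ω`, odd characteristic, general index type -/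
theorem index_Omega_odd (h2 : (2 : F) ≠ 0) (hQ : (QuadraticMap.polarBilin Q).Nondegenerate)
    (hn : 2 ≤ Fintype.card ι) : (Cfsg.Omega F ⇑Q).index = 4 :=
  Spin.index_Omega Q h2 hQ hn (CDG.cd_list Q h2 hQ)

end Cfsg.Agent.Helper28.OC
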