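import Mathlib
import Cfsg.Prelude.Def_ClassicalGeometry
import Cfsg.Agent.Helper28.CommInvol
import Cfsg.Agent.Helper28.POmegaCard

set_option autoImplicit false
set_option linter.unusedSectionVars false

/-! 2-ranks of `Ω` in odd characteristic. -/

namespace Cfsg.Agent.Helper28.TR

open Matrix Module Cfsg.Agent.Helper28.Spin Cfsg.Agent.Helper28.IsoTransport

section mat

variable {F : Type*} [Field F] {ι : Type} [Fintype ι] [DecidableEq ι]

open scoped Classical in
/-- pairwise commuting involutory matrices of determinant one -/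
theorem card_le_of_det_one (h2 : (2 : F) ≠ 0) (hN : 1 ≤ Fintype.card ι) (S : Finset (Matrix ι ι F))
    (hinv : ∀ a ∈ S, a * a = 1) (hcomm : ∀ a ∈ S, ∀ b ∈ S, a * b = b * a)
    (hdet : ∀ a ∈ S, a.det = 1) : S.card ≤ 2 ^ (Fintype.card ι - 1) := by
  have hinj : Function.Injective (Matrix.toLin' : Matrix ι ι F → Module.End F (ι → F)) :=
    Matrix.toLin'.injective
  have h := CI.card_filter_le h2 (Fintype.card ι) (ι → F) (Module.finrank_fintype_fun_eq_card F) hN
    (S.image Matrix.toLin')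
    (by
      intro x hx
      obtain ⟨a, ha, rfl⟩ := Finset.mem_image.1 hx
      rw [Module.End.mul_eq_comp, ← Matrix.toLin'_mul, hinv a ha, Matrix.toLin'_one]
      rfl)
    (by
      intro x hx y hy
      obtain ⟨a, ha, rfl⟩ := Finset.mem_image.1 hx
      obtain ⟨b, hb, rfl⟩ := Finset.mem_image.1 hy
      rw [Module.End.mul_eq_comp, Module.End.mul_eq_comp, ← Matrix.toLin'_mul, ← Matrix.toLin'_mul,
        hcomm a ha b hb])
    1
  have hfil : (S.image Matrix.toLin').filter (fun b => LinearMap.det b = 1) = S.image Matrix.toLin' := by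
    apply Finset.filter_true_of_mem
    intro x hx
    obtain ⟨a, ha, rfl⟩ := Finset.mem_image.1 hx
    rw [LinearMap.det_toLin', hdet a ha]
  rw [hfil, Finset.card_image_of_injective _ hinj] at h
  exact h

end mat

section omega

variable {F : Type*} [Field F] [Fintype F] {ι : Type} [Fintype ι] [DecidableEq ι]
  (Q : QuadraticForm F (ι → F))

/-- the matrix of an element of `Ω` -/
def mat (a : ↥(Cfsg.Omega F ⇑Q)) : Matrix ι ι F :=
  (((a : ↥(Cfsg.isometryGroup F ⇑Q)) : GL ι F) : Matrix ι ι F)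

theorem mat_injective : Function.Injective (mat Q) := by
  intro a b h
  exact Subtype.ext (Subtype.ext (Units.ext h))

theorem mat_mul (a b : ↥(Cfsg.Omega F ⇑Q)) : mat Q (a * b) = mat Q a * mat Q b := rfl

theorem mat_one : mat Q 1 = 1 := rfl

theorem det_mat (a : ↥(Cfsg.Omega F ⇑Q)) : (mat Q a).det = 1 := by
  have h1 := hom_eq_one_of_mem_Omega Q (detHom Q) a.2
  have h3 : ((detHom Q (a : ↥(Cfsg.isometryGroup F ⇑Q)) : Fˣ) : F) = 1 := by rw [h1]; rfl
  rw [detHom_val] at h3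
  exact h3

open scoped Classical in
/-- elementary abelian 2-subgroups of `Ω` have order at most `2^(N-1)` -/
theorem card_le (h2 : (2 : F) ≠ 0) (hN : 1 ≤ Fintype.card ι) (A : Subgroup ↥(Cfsg.Omega F ⇑Q))
    (hA : IsMulCommutative A) (hexp : ∀ a ∈ A, a ^ 2 = 1) :
    Nat.card A ≤ 2 ^ (Fintype.card ι - 1) := by
  haveI : Fintype ↥A := Fintype.ofFinite _
  set S : Finset (Matrix ι ι F) := Finset.univ.image (fun a : ↥A => mat Q (a : ↥(Cfsg.Omega F ⇑Q)))
    with hS
  have hcard : S.card = Nat.card A := by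
    rw [hS, Finset.card_image_of_injective, Finset.card_univ, Nat.card_eq_fintype_card]
    intro a b h
    exact Subtype.ext (mat_injective Q h)
  rw [← hcard]
  apply card_le_of_det_one h2 hN
  · intro x hx
    obtain ⟨a, -, rfl⟩ := Finset.mem_image.1 hx
    rw [← mat_mul, ← pow_two, hexp a.1 a.2, mat_one]
  · intro x hx y hy
    obtain ⟨a, -, rfl⟩ := Finset.mem_image.1 hx
    obtain ⟨b, -, rfl⟩ := Finset.mem_image.1 hy
    rw [← mat_mul, ← mat_mul]
    have := hA.is_comm.comm a b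
    have h3 : (a : ↥(Cfsg.Omega F ⇑Q)) * b = b * a := congrArg Subtype.val this
    rw [h3]
  · intro x hx
    obtain ⟨a, -, rfl⟩ := Finset.mem_image.1 hx
    exact det_mat Q _

open scoped Classical in
/-- if `-1 ∉ Ω` and the dimension is even, the bound improves by one -/
theorem card_le' (h2 : (2 : F) ≠ 0) (hN : 2 ≤ Fintype.card ι) (heven : Even (Fintype.card ι))
    (hneg : ¬ ∃ g : ↥(Cfsg.isometryGroup F ⇑Q), g ∈ Cfsg.Omega F ⇑Q ∧
      ((g : GL ι F) : Matrix ι ι F) = -1)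
    (A : Subgroup ↥(Cfsg.Omega F ⇑Q))
    (hA : IsMulCommutative A) (hexp : ∀ a ∈ A, a ^ 2 = 1) :
    Nat.card A ≤ 2 ^ (Fintype.card ι - 2) := by
  haveI : Fintype ↥A := Fintype.ofFinite _
  set S : Finset (Matrix ι ι F) := Finset.univ.image (fun a : ↥A => mat Q (a : ↥(Cfsg.Omega F ⇑Q)))
    with hS
  have hcard : S.card = Nat.card A := by
    rw [hS, Finset.card_image_of_injective, Finset.card_univ, Nat.card_eq_fintype_card]
    intro a b h
    exact Subtype.ext (mat_injective Q h)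
  have hSmem : ∀ x ∈ S, ∃ a : ↥A, x = mat Q (a : ↥(Cfsg.Omega F ⇑Q)) := by
    intro x hx
    obtain ⟨a, -, rfl⟩ := Finset.mem_image.1 hx
    exact ⟨a, rfl⟩
  have hcomm : ∀ a b : ↥A, mat Q (a : ↥(Cfsg.Omega F ⇑Q)) * mat Q (b : ↥(Cfsg.Omega F ⇑Q)) =
      mat Q (b : ↥(Cfsg.Omega F ⇑Q)) * mat Q (a : ↥(Cfsg.Omega F ⇑Q)) := by
    intro a b
    rw [← mat_mul, ← mat_mul]
    have := hA.is_comm.comm a b
    have h3 : (a : ↥(Cfsg.Omega F ⇑Q)) * b = b * a := congrArg Subtype.val this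
    rw [h3]
  have hsq : ∀ a : ↥A, mat Q (a : ↥(Cfsg.Omega F ⇑Q)) * mat Q (a : ↥(Cfsg.Omega F ⇑Q)) = 1 := by
    intro a
    rw [← mat_mul, ← pow_two, hexp a.1 a.2, mat_one]
  set S' : Finset (Matrix ι ι F) := S.image (fun x => -x) with hS'
  have hdisj : Disjoint S S' := by
    rw [Finset.disjoint_left]
    intro x hx hx'
    obtain ⟨a, rfl⟩ := hSmem x hx
    obtain ⟨y, hy, hya⟩ := Finset.mem_image.1 hx'
    obtain ⟨b, rfl⟩ := hSmem y hy
    apply hneg
    refine ⟨((a * b : ↥A) : ↥(Cfsg.Omega F ⇑Q)), ((a * b : ↥A) : ↥(Cfsg.Omega F ⇑Q)).2, ?_⟩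
    show mat Q (a * b : ↥A) = -1
    have : mat Q ((a * b : ↥A) : ↥(Cfsg.Omega F ⇑Q)) =
        mat Q (a : ↥(Cfsg.Omega F ⇑Q)) * mat Q (b : ↥(Cfsg.Omega F ⇑Q)) := rfl
    rw [this, ← hya, Matrix.neg_mul, hsq b]
  have hcard' : S'.card = S.card := Finset.card_image_of_injective _ neg_injective
  have hbound := card_le_of_det_one h2 (by omega : 1 ≤ Fintype.card ι) (S ∪ S')
    (by
      intro x hx
      rcases Finset.mem_union.1 hx with hx | hx
      · obtain ⟨a, rfl⟩ := hSmem x hx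
        exact hsq a
      · obtain ⟨y, hy, rfl⟩ := Finset.mem_image.1 hx
        obtain ⟨a, rfl⟩ := hSmem y hy
        rw [Matrix.neg_mul, Matrix.mul_neg, neg_neg]
        exact hsq a)
    (by
      intro x hx y hy
      rcases Finset.mem_union.1 hx with hx | hx <;> rcases Finset.mem_union.1 hy with hy | hy
      · obtain ⟨a, rfl⟩ := hSmem x hx
        obtain ⟨b, rfl⟩ := hSmem y hy
        exact hcomm a b
      · obtain ⟨a, rfl⟩ := hSmem x hx
        obtain ⟨y', hy', rfl⟩ := Finset.mem_image.1 hy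
        obtain ⟨b, rfl⟩ := hSmem y' hy'
        rw [Matrix.mul_neg, Matrix.neg_mul, hcomm a b]
      · obtain ⟨x', hx', rfl⟩ := Finset.mem_image.1 hx
        obtain ⟨a, rfl⟩ := hSmem x' hx'
        obtain ⟨b, rfl⟩ := hSmem y hy
        rw [Matrix.mul_neg, Matrix.neg_mul, hcomm a b]
      · obtain ⟨x', hx', rfl⟩ := Finset.mem_image.1 hx
        obtain ⟨a, rfl⟩ := hSmem x' hx'
        obtain ⟨y', hy', rfl⟩ := Finset.mem_image.1 hy
        obtain ⟨b, rfl⟩ := hSmem y' hy'
        rw [Matrix.mul_neg, Matrix.neg_mul, Matrix.mul_neg, Matrix.neg_mul, hcomm a b])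
    (by
      intro x hx
      rcases Finset.mem_union.1 hx with hx | hx
      · obtain ⟨a, rfl⟩ := hSmem x hx
        exact det_mat Q _
      · obtain ⟨y, hy, rfl⟩ := Finset.mem_image.1 hx
        obtain ⟨a, rfl⟩ := hSmem y hy
        rw [Matrix.det_neg, heven.neg_one_pow, one_mul]
        exact det_mat Q _)
  rw [Finset.card_union_of_disjoint hdisj, hcard', hcard] at hbound
  have hpow : 2 ^ (Fintype.card ι - 1) = 2 * 2 ^ (Fintype.card ι - 2) := by
    rw [← pow_succ']
    congr 1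
    omega
  rw [hpow] at hbound
  omega

end omega

end Cfsg.Agent.Helper28.TR
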