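import Mathlib
import Cfsg.Prelude.Def_ClassicalGeometry
import Cfsg.Agent.Helper28.TwoRank

set_option autoImplicit false
set_option linter.unusedSectionVars false

/-! Lower bounds for the 2-rank of `Ω` in odd characteristic: diagonal subgroups. -/

namespace Cfsg.Agent.Helper28.TR

open Matrix Module Cfsg.Agent.Helper28.Spin Cfsg.Agent.Helper28.IsoTransport

section low

variable {F : Type*} [Field F] [Fintype F] {ι : Type} [Fintype ι] [DecidableEq ι]
  (Q : QuadraticForm F (ι → F))

/-- reflections in orthogonal vectors commute -/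
theorem reflO_comm (u v : ι → F) (hu : Q u ≠ 0) (hv : Q v ≠ 0)
    (huv : QuadraticMap.polar ⇑Q u v = 0) :
    reflO Q u hu * reflO Q v hv = reflO Q v hv * reflO Q u hu := by
  apply Subtype.ext
  apply Units.ext
  show Cfsg.reflectionMatrix ⇑Q u * Cfsg.reflectionMatrix ⇑Q v =
    Cfsg.reflectionMatrix ⇑Q v * Cfsg.reflectionMatrix ⇑Q u
  apply Spin.matrix_ext_mulVec
  intro x
  rw [← Matrix.mulVec_mulVec, ← Matrix.mulVec_mulVec, RC.refl_refl_orth Q u v hu huv,
    RC.refl_refl_orth Q v u hv (by rw [QuadraticMap.polar_comm]; exact huv)]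
  abel

theorem neg_ne_self (h2 : (2 : F) ≠ 0) {x : ι → F} (hx : Q x ≠ 0) : - x ≠ x := by
  intro h
  have h0 : (2 : F) • x = 0 := by
    rw [two_smul]
    nth_rewrite 1 [← h]
    simp
  rcases smul_eq_zero.1 h0 with h | h
  · exact h2 h
  · exact OC.ne_zero_of_Q_ne Q hx h

open scoped Classical in
/-- the even part of the diagonal group of an orthogonal family of vectors of equal norm -/
theorem exists_elem_abelian (h2 : (2 : F) ≠ 0) (k : ℕ) (w : Fin (k + 1) → ι → F) (d : F)
    (hd : d ≠ 0) (hw : ∀ i, Q (w i) = d)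
    (horth : ∀ i j, i ≠ j → QuadraticMap.polar ⇑Q (w i) (w j) = 0) :
    ∃ A : Subgroup ↥(Cfsg.Omega F ⇑Q), IsMulCommutative A ∧ (∀ a ∈ A, a ^ 2 = 1) ∧
      2 ^ k ≤ Nat.card A := by
  have hns : ∀ i, Q (w i) ≠ 0 := fun i => by rw [hw i]; exact hd
  set r : Fin (k + 1) → ↥(Cfsg.isometryGroup F ⇑Q) := fun i => reflO Q (w i) (hns i) with hr
  set D : Subgroup ↥(Cfsg.isometryGroup F ⇑Q) := Subgroup.closure (Set.range r) with hD
  haveI hDcomm : IsMulCommutative D := by
    apply Subgroup.isMulCommutative_closure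
    rintro x ⟨i, rfl⟩ y ⟨j, rfl⟩
    by_cases hij : i = j
    · subst hij; rfl
    · exact reflO_comm Q _ _ _ _ (horth i j hij)
  have hDexp : ∀ g ∈ D, g * g = 1 := by
    intro g hg
    induction hg using Subgroup.closure_induction with
    | mem x hx =>
      obtain ⟨i, rfl⟩ := hx
      exact reflO_mul_self Q _ _
    | one => simp
    | mul x y hx hy ihx ihy =>
      have hc : x * y = y * x := Subgroup.mul_comm_of_mem_isMulCommutative (H := D) hx hy
      calc x * y * (x * y) = x * (y * x) * y := by group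
        _ = x * (x * y) * y := by rw [hc]
        _ = (x * x) * (y * y) := by group
        _ = 1 := by rw [ihx, ihy, one_mul]
    | inv x hx ih =>
      rw [← _root_.mul_inv_rev, ih, inv_one]
  set gS : Finset (Fin (k + 1)) → ↥(Cfsg.isometryGroup F ⇑Q) := fun S =>
    prodO Q (S.toList.map (fun i => (⟨w i, hns i⟩ : NS Q))) with hgS
  have hgD : ∀ S, gS S ∈ D := by
    intro S
    show (List.map (fun v : NS Q => reflO Q v.1 v.2)
      (S.toList.map (fun i => (⟨w i, hns i⟩ : NS Q)))).prod ∈ D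
    apply Subgroup.list_prod_mem
    intro x hx
    rw [List.map_map] at hx
    obtain ⟨i, -, rfl⟩ := List.mem_map.1 hx
    exact Subgroup.subset_closure ⟨i, rfl⟩
  have hgΩ : ∀ S : Finset (Fin (k + 1)), Even S.card → gS S ∈ Cfsg.Omega F ⇑Q := by
    intro S hS
    rw [prodO_mem_Omega_iff Q h2]
    have hlen : (S.toList.map (fun i => (⟨w i, hns i⟩ : NS Q))).length = S.card := by
      rw [List.length_map, Finset.length_toList]
    refine ⟨by rw [hlen]; exact hS, ?_⟩
    have hnp : normProd Q (S.toList.map (fun i => (⟨w i, hns i⟩ : NS Q))) = d ^ S.card := by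
      unfold normProd
      rw [List.map_map]
      have : ((fun v : NS Q => Q v.1) ∘ fun i => (⟨w i, hns i⟩ : NS Q)) = fun _ => d := by
        funext i; exact hw i
      rw [this, List.map_const', List.prod_replicate, Finset.length_toList]
    rw [hnp]
    obtain ⟨r, hr⟩ := hS
    exact ⟨d ^ r, by rw [hr, pow_add]⟩
  have hgact : ∀ (S : Finset (Fin (k + 1))) (j : Fin (k + 1)),
      ((gS S : GL ι F) : Matrix ι ι F) *ᵥ w j = if j ∈ S then - w j else w j := by
    intro S j
    rw [prodO_val, List.map_map]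
    have := prod_refl_apply Q w hns horth S.toList (Finset.nodup_toList S) j
    simp only [Finset.mem_toList] at this
    exact this
  have hginj : ∀ S S' : Finset (Fin (k + 1)), gS S = gS S' → S = S' := by
    intro S S' h
    ext j
    have h1 := hgact S j
    rw [h, hgact S' j] at h1
    by_cases hj : j ∈ S <;> by_cases hj' : j ∈ S'
    · simp [hj, hj']
    · rw [if_pos hj, if_neg hj'] at h1
      exact absurd h1.symm (neg_ne_self Q h2 (hns j))
    · rw [if_neg hj, if_pos hj'] at h1
      exact absurd h1 (neg_ne_self Q h2 (hns j))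
    · simp [hj, hj']
  set ST : Finset (Fin k) → Finset (Fin (k + 1)) := fun T =>
    if Even T.card then T.map Fin.castSuccEmb else insert (Fin.last k) (T.map Fin.castSuccEmb)
    with hST
  have hSTmem : ∀ (T : Finset (Fin k)) (j : Fin k), j.castSucc ∈ ST T ↔ j ∈ T := by
    intro T j
    simp only [hST]
    split_ifs with h
    · simp
    · simp [Fin.castSucc_ne_last]
  have hSTeven : ∀ T : Finset (Fin k), Even (ST T).card := by
    intro T
    simp only [hST]
    split_ifs with h
    · rw [Finset.card_map]; exact h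
    · rw [Finset.card_insert_of_notMem (by simp [Fin.castSucc_ne_last]), Finset.card_map]
      exact (Nat.not_even_iff_odd.1 h).add_one
  refine ⟨D.subgroupOf (Cfsg.Omega F ⇑Q), inferInstance, ?_, ?_⟩
  · intro a ha
    have := hDexp _ (Subgroup.mem_subgroupOf.1 ha)
    apply Subtype.ext
    rw [pow_two]
    exact this
  · set Φ : Finset (Fin k) → ↥(D.subgroupOf (Cfsg.Omega F ⇑Q)) := fun T =>
      ⟨⟨gS (ST T), hgΩ _ (hSTeven T)⟩, Subgroup.mem_subgroupOf.2 (hgD _)⟩ with hΦ
    have hΦinj : Function.Injective Φ := by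
      intro T T' h
      have h1 : gS (ST T) = gS (ST T') := by
        have := congrArg (fun a : ↥(D.subgroupOf (Cfsg.Omega F ⇑Q)) =>
          ((a : ↥(Cfsg.Omega F ⇑Q)) : ↥(Cfsg.isometryGroup F ⇑Q))) h
        exact this
      have h2' := hginj _ _ h1
      ext j
      rw [← hSTmem T j, ← hSTmem T' j, h2']
    have := Nat.card_le_card_of_injective Φ hΦinj
    rw [Nat.card_eq_fintype_card, Fintype.card_finset, Fintype.card_fin] at this
    exact this

/-- the perpendicular of an orthogonal family of non-singular vectors -/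
theorem orth_family_compl (h2 : (2 : F) ≠ 0) (hQ : (QuadraticMap.polarBilin Q).Nondegenerate)
    {k : ℕ} (w : Fin k → ι → F) (hns : ∀ i, Q (w i) ≠ 0)
    (horth : ∀ i j, i ≠ j → QuadraticMap.polar ⇑Q (w i) (w j) = 0) :
    (LinearMap.BilinForm.orthogonal (QuadraticMap.polarBilin Q) (Submodule.span F (Set.range w)) ⊓
      LinearMap.BilinForm.orthogonal (QuadraticMap.polarBilin Q)
        (LinearMap.BilinForm.orthogonal (QuadraticMap.polarBilin Q)
          (Submodule.span F (Set.range w))) = ⊥) ∧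
    Fintype.card ι ≤ k + finrank F ↥(LinearMap.BilinForm.orthogonal (QuadraticMap.polarBilin Q)
      (Submodule.span F (Set.range w))) := by
  set B := QuadraticMap.polarBilin Q with hB
  set W := Submodule.span F (Set.range w) with hW
  constructor
  · rw [LinearMap.BilinForm.orthogonal_orthogonal hQ (RC.polarBilin_isRefl Q), eq_bot_iff]
    rintro x ⟨hx1, hx2⟩
    rw [Submodule.mem_bot]
    have hx2' : x ∈ Submodule.span F (Set.range w) := hx2
    obtain ⟨c, rfl⟩ := (Submodule.mem_span_range_iff_exists_fun F).1 hx2'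
    have hx1' : ∑ i, c i • w i ∈ LinearMap.BilinForm.orthogonal B W := hx1
    rw [LinearMap.BilinForm.mem_orthogonal_iff] at hx1'
    have hc : ∀ j, c j = 0 := by
      intro j
      have h1 : B (w j) (∑ i, c i • w i) = 0 := hx1' (w j) (Submodule.subset_span ⟨j, rfl⟩)
      rw [map_sum, Finset.sum_eq_single j] at h1
      · rw [map_smul, smul_eq_mul, hB, QuadraticMap.polarBilin_apply_apply, polar_self'] at h1
        rcases mul_eq_zero.1 h1 with h | h
        · exact h
        · exact absurd h (mul_ne_zero h2 (hns j))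
      · intro i _ hij
        rw [map_smul, hB, QuadraticMap.polarBilin_apply_apply, horth j i (Ne.symm hij), smul_zero]
      · intro h
        exact absurd (Finset.mem_univ j) h
    simp [hc]
  · have hT := LinearMap.BilinForm.finrank_orthogonal hQ W
    rw [Module.finrank_fintype_fun_eq_card] at hT
    have hle : finrank F W ≤ k := by
      have := finrank_range_le_card (R := F) w
      rw [Fintype.card_fin] at this
      exact this
    have hle2 : finrank F W ≤ Fintype.card ι := by
      have := Submodule.finrank_le W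
      rw [Module.finrank_fintype_fun_eq_card] at this
      exact this
    omega

/-- orthogonal families of vectors of a prescribed norm -/
theorem exists_orth_norm (h2 : (2 : F) ≠ 0) (hQ : (QuadraticMap.polarBilin Q).Nondegenerate)
    (d : F) (hd : d ≠ 0) : ∀ k, k + 1 ≤ Fintype.card ι → ∃ w : Fin k → ι → F,
      (∀ i, Q (w i) = d) ∧ ∀ i j, i ≠ j → QuadraticMap.polar ⇑Q (w i) (w j) = 0 := by
  intro k
  induction k with
  | zero =>
    intro _
    exact ⟨fun i => i.elim0, fun i => i.elim0, fun i => i.elim0⟩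
  | succ k ih =>
    intro hk
    obtain ⟨w, hw, horth⟩ := ih (by omega)
    have hns : ∀ i, Q (w i) ≠ 0 := fun i => by rw [hw i]; exact hd
    obtain ⟨hT, hfin⟩ := orth_family_compl Q h2 hQ w hns horth
    obtain ⟨u, huT, hu⟩ := WO.exists_mem_eq Q _ hT (by omega) d
    rw [LinearMap.BilinForm.mem_orthogonal_iff] at huT
    have huw : ∀ i, QuadraticMap.polar ⇑Q (w i) u = 0 := fun i =>
      huT (w i) (Submodule.subset_span ⟨i, rfl⟩)
    refine ⟨Fin.cons u w, ?_, ?_⟩
    · intro i
      refine Fin.cases ?_ (fun i' => ?_) i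
      · simpa using hu
      · simpa using hw i'
    · intro i j
      refine Fin.cases ?_ (fun i' => ?_) i <;> refine Fin.cases ?_ (fun j' => ?_) j
      · intro h; exact absurd rfl h
      · intro _
        simp only [Fin.cons_zero, Fin.cons_succ]
        rw [QuadraticMap.polar_comm]; exact huw j'
      · intro _
        simp only [Fin.cons_zero, Fin.cons_succ]
        exact huw i'
      · intro h
        simp only [Fin.cons_succ]
        exact horth i' j' (fun h' => h (by rw [h']))

/-- an orthogonal basis with all norms but one prescribed -/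
theorem exists_orth_norm' (h2 : (2 : F) ≠ 0) (hQ : (QuadraticMap.polarBilin Q).Nondegenerate)
    (d : F) (hd : d ≠ 0) (m : ℕ) (hm : Fintype.card ι = m + 1) :
    ∃ (x : ι → F) (w : Fin m → ι → F), Q x ≠ 0 ∧
      (∀ i, Q (w i) = d) ∧ (∀ i j, i ≠ j → QuadraticMap.polar ⇑Q (w i) (w j) = 0) ∧
      ∀ i, QuadraticMap.polar ⇑Q x (w i) = 0 := by
  obtain ⟨w, hw, horth⟩ := exists_orth_norm Q h2 hQ d hd m (by omega)
  have hns : ∀ i, Q (w i) ≠ 0 := fun i => by rw [hw i]; exact hd
  obtain ⟨hT, hfin⟩ := orth_family_compl Q h2 hQ w hns horth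
  set T := LinearMap.BilinForm.orthogonal (QuadraticMap.polarBilin Q)
    (Submodule.span F (Set.range w)) with hTdef
  have hex : ∃ x ∈ T, Q x ≠ 0 := by
    by_contra hcon
    push Not at hcon
    have hle : T ≤ LinearMap.BilinForm.orthogonal (QuadraticMap.polarBilin Q) T := by
      intro x hx
      rw [LinearMap.BilinForm.mem_orthogonal_iff]
      intro y hy
      exact WO.polar_eq_zero_of_singular Q T hcon hy hx
    have hbot : T = ⊥ := by
      rw [← hT]
      exact (inf_eq_left.2 hle).symm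
    rw [hbot, finrank_bot] at hfin
    omega
  obtain ⟨x, hxT, hx⟩ := hex
  rw [hTdef, LinearMap.BilinForm.mem_orthogonal_iff] at hxT
  refine ⟨x, w, hx, hw, horth, fun i => ?_⟩
  rw [QuadraticMap.polar_comm]
  exact hxT (w i) (Submodule.subset_span ⟨i, rfl⟩)

/-- orthogonality of an extended family -/
theorem orth_cons {m : ℕ} (x : ι → F) (w : Fin m → ι → F)
    (horth : ∀ i j, i ≠ j → QuadraticMap.polar ⇑Q (w i) (w j) = 0)
    (hxw : ∀ i, QuadraticMap.polar ⇑Q x (w i) = 0) :
    ∀ i j : Fin (m + 1), i ≠ j →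
      QuadraticMap.polar ⇑Q ((Fin.cons x w : Fin (m + 1) → ι → F) i)
        ((Fin.cons x w : Fin (m + 1) → ι → F) j) = 0 := by
  intro i j
  refine Fin.cases ?_ (fun i' => ?_) i <;> refine Fin.cases ?_ (fun j' => ?_) j
  · intro h; exact absurd rfl h
  · intro _
    simp only [Fin.cons_zero, Fin.cons_succ]
    exact hxw j'
  · intro _
    simp only [Fin.cons_zero, Fin.cons_succ]
    rw [QuadraticMap.polar_comm]; exact hxw i'
  · intro h
    simp only [Fin.cons_succ]
    exact horth i' j' (fun h' => h (by rw [h']))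

/-- the reflections in an orthogonal basis multiply to `-1` -/
theorem exists_list_neg_one (h2 : (2 : F) ≠ 0) (m : ℕ) (hm : Fintype.card ι = m + 1)
    (v : Fin (m + 1) → ι → F) (hns : ∀ i, Q (v i) ≠ 0)
    (horth : ∀ i j, i ≠ j → QuadraticMap.polar ⇑Q (v i) (v j) = 0) :
    ∃ L : List (NS Q), L.length = m + 1 ∧ ((prodO Q L : GL ι F) : Matrix ι ι F) = -1 ∧
      normProd Q L = ∏ i, Q (v i) := by
  have hli : LinearIndependent F v :=
    Cfsg.Agent.Helper13.linearIndependent_of_dual_polar Q v v horth (fun i => by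
      rw [polar_self']
      exact mul_ne_zero h2 (hns i))
  have hcard : Fintype.card (Fin (m + 1)) = finrank F (ι → F) := by
    rw [Fintype.card_fin, Module.finrank_fintype_fun_eq_card, hm]
  set b := basisOfLinearIndependentOfCardEqFinrank hli hcard with hb
  have hbv : ∀ i, b i = v i := fun i => by
    rw [hb, coe_basisOfLinearIndependentOfCardEqFinrank]
  have hns' : ∀ i, Q (b i) ≠ 0 := fun i => by rw [hbv]; exact hns i
  have horth' : ∀ i j, i ≠ j → QuadraticMap.polar ⇑Q (b i) (b j) = 0 := fun i j hij => by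
    rw [hbv, hbv]; exact horth i j hij
  refine ⟨(List.finRange (m + 1)).map (fun i => ⟨b i, hns' i⟩), ?_, ?_, ?_⟩
  · rw [List.length_map, List.length_finRange]
  · rw [prodO_val, List.map_map]
    exact prod_refl_basis Q b hns' horth'
  · rw [normProd, List.map_map, Fin.prod_univ_def]
    congr 1
    apply List.map_congr_left
    intro i _
    show Q (b i) = Q (v i)
    rw [hbv]

/-- rescaling a vector whose norm lies in the square class of `d` -/
theorem exists_rescale (d : F) (hd : d ≠ 0) (x : ι → F) (hx : Q x ≠ 0)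
    (hsq : IsSquare (Q x * d)) : ∃ s : F, Q (s • x) = d := by
  obtain ⟨t, ht⟩ := hsq
  have ht0 : t ≠ 0 := by
    intro h
    rw [h, mul_zero] at ht
    exact mul_ne_zero hx hd ht
  refine ⟨d / t, ?_⟩
  rw [QuadraticMap.map_smul, smul_eq_mul, div_mul_div_comm, div_mul_eq_mul_div,
    div_eq_iff (mul_ne_zero ht0 ht0)]
  linear_combination d * ht

theorem prodO_append' (L L' : List (NS Q)) : prodO Q (L ++ L') = prodO Q L * prodO Q L' := by
  unfold prodO
  rw [List.map_append, List.prod_append]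

theorem normProd_append' (L L' : List (NS Q)) :
    normProd Q (L ++ L') = normProd Q L * normProd Q L' := by
  unfold normProd
  rw [List.map_append, List.prod_append]

open scoped Classical in
/-- rank at least `N - 2`, unconditionally -/
theorem prank_ge_sub_two (h2 : (2 : F) ≠ 0) (hQ : (QuadraticMap.polarBilin Q).Nondegenerate)
    (hN : 2 ≤ Fintype.card ι) :
    ∃ A : Subgroup ↥(Cfsg.Omega F ⇑Q), IsMulCommutative A ∧ (∀ a ∈ A, a ^ 2 = 1) ∧
      2 ^ (Fintype.card ι - 2) ≤ Nat.card A := by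
  obtain ⟨k, hk⟩ : ∃ k, Fintype.card ι = k + 2 := ⟨Fintype.card ι - 2, by omega⟩
  obtain ⟨w, hw, horth⟩ := exists_orth_norm Q h2 hQ 1 one_ne_zero (k + 1) (by omega)
  have := exists_elem_abelian Q h2 k w 1 one_ne_zero hw horth
  rw [hk]
  exact this

open scoped Classical in
/-- rank at least `N - 1` if `N` is even and `-1 ∈ Ω` -/
theorem prank_ge_of_neg_one (h2 : (2 : F) ≠ 0) (hQ : (QuadraticMap.polarBilin Q).Nondegenerate)
    (hN : 2 ≤ Fintype.card ι)
    (hneg : ∃ g : ↥(Cfsg.isometryGroup F ⇑Q), g ∈ Cfsg.Omega F ⇑Q ∧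
      ((g : GL ι F) : Matrix ι ι F) = -1) :
    ∃ A : Subgroup ↥(Cfsg.Omega F ⇑Q), IsMulCommutative A ∧ (∀ a ∈ A, a ^ 2 = 1) ∧
      2 ^ (Fintype.card ι - 1) ≤ Nat.card A := by
  obtain ⟨m, hm⟩ : ∃ m, Fintype.card ι = m + 1 := ⟨Fintype.card ι - 1, by omega⟩
  obtain ⟨x, w, hx, hw, horth, hxw⟩ := exists_orth_norm' Q h2 hQ 1 one_ne_zero m hm
  have hns : ∀ i, Q ((Fin.cons x w : Fin (m + 1) → ι → F) i) ≠ 0 := by
    intro i
    refine Fin.cases ?_ (fun i' => ?_) i
    · simpa using hx
    · simp only [Fin.cons_succ]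
      rw [hw]; exact one_ne_zero
  obtain ⟨L, hLlen, hLval, hLnorm⟩ := exists_list_neg_one Q h2 m hm _ hns
    (orth_cons Q x w horth hxw)
  obtain ⟨g, hgΩ, hg⟩ := hneg
  have hgL : g = prodO Q L := by
    apply Subtype.ext
    apply Units.ext
    rw [hg, hLval]
  rw [hgL, prodO_mem_Omega_iff Q h2, hLnorm, Fin.prod_univ_succ] at hgΩ
  simp only [Fin.cons_zero, Fin.cons_succ, hw, Finset.prod_const_one, mul_one] at hgΩ
  obtain ⟨s, hs⟩ := exists_rescale Q 1 one_ne_zero x hx (by rw [mul_one]; exact hgΩ.2)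
  have hxw' : ∀ i, QuadraticMap.polar ⇑Q (s • x) (w i) = 0 := fun i => by
    rw [QuadraticMap.polar_smul_left, hxw i, smul_zero]
  have := exists_elem_abelian Q h2 m (Fin.cons (s • x) w) 1 one_ne_zero (by
    intro i
    refine Fin.cases ?_ (fun i' => ?_) i
    · simpa using hs
    · simpa using hw i') (orth_cons Q (s • x) w horth hxw')
  rw [hm]
  exact this

open scoped Classical in
/-- rank at least `N - 1` if `N` is odd -/
theorem prank_ge_of_odd (h2 : (2 : F) ≠ 0) (hQ : (QuadraticMap.polarBilin Q).Nondegenerate)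
    (hodd : Odd (Fintype.card ι)) :
    ∃ A : Subgroup ↥(Cfsg.Omega F ⇑Q), IsMulCommutative A ∧ (∀ a ∈ A, a ^ 2 = 1) ∧
      2 ^ (Fintype.card ι - 1) ≤ Nat.card A := by
  obtain ⟨r, hr⟩ := hodd
  have hm : Fintype.card ι = 2 * r + 1 := hr
  obtain ⟨x₁, w₁, hx₁, hw₁, horth₁, hxw₁⟩ := exists_orth_norm' Q h2 hQ 1 one_ne_zero (2 * r) hm
  set c := Q x₁ with hc
  obtain ⟨x₂, w₂, hx₂, hw₂, horth₂, hxw₂⟩ := exists_orth_norm' Q h2 hQ c hx₁ (2 * r) hm
  have hns₁ : ∀ i, Q ((Fin.cons x₁ w₁ : Fin (2 * r + 1) → ι → F) i) ≠ 0 := by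
    intro i
    refine Fin.cases ?_ (fun i' => ?_) i
    · simpa using hx₁
    · simp only [Fin.cons_succ]
      rw [hw₁]; exact one_ne_zero
  have hns₂ : ∀ i, Q ((Fin.cons x₂ w₂ : Fin (2 * r + 1) → ι → F) i) ≠ 0 := by
    intro i
    refine Fin.cases ?_ (fun i' => ?_) i
    · simpa using hx₂
    · simp only [Fin.cons_succ]
      rw [hw₂]; exact hx₁
  obtain ⟨L₁, hLlen₁, hLval₁, hLnorm₁⟩ := exists_list_neg_one Q h2 _ hm _ hns₁
    (orth_cons Q x₁ w₁ horth₁ hxw₁)
  obtain ⟨L₂, hLlen₂, hLval₂, hLnorm₂⟩ := exists_list_neg_one Q h2 _ hm _ hns₂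
    (orth_cons Q x₂ w₂ horth₂ hxw₂)
  have hone : prodO Q (L₁ ++ L₂) = 1 := by
    rw [prodO_append']
    apply Subtype.ext
    apply Units.ext
    show ((prodO Q L₁ : GL ι F) : Matrix ι ι F) * ((prodO Q L₂ : GL ι F) : Matrix ι ι F) = 1
    rw [hLval₁, hLval₂]
    simp
  have hmem : prodO Q (L₁ ++ L₂) ∈ Cfsg.Omega F ⇑Q := by
    rw [hone]; exact one_mem _
  rw [prodO_mem_Omega_iff Q h2, normProd_append', hLnorm₁, hLnorm₂, Fin.prod_univ_succ,
    Fin.prod_univ_succ] at hmem
  simp only [Fin.cons_zero, Fin.cons_succ, hw₁, hw₂, Finset.prod_const_one, mul_one,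
    Finset.prod_const, Finset.card_univ, Fintype.card_fin] at hmem
  have hsq : IsSquare (Q x₂ * c) := by
    obtain ⟨t, ht⟩ := hmem.2
    have hcr : c ^ r ≠ 0 := pow_ne_zero _ hx₁
    refine ⟨t / c ^ r, ?_⟩
    field_simp
    rw [← hc] at ht
    linear_combination ht
  obtain ⟨s, hs⟩ := exists_rescale Q c hx₁ x₂ hx₂ hsq
  have hxw' : ∀ i, QuadraticMap.polar ⇑Q (s • x₂) (w₂ i) = 0 := fun i => by
    rw [QuadraticMap.polar_smul_left, hxw₂ i, smul_zero]
  have := exists_elem_abelian Q h2 (2 * r) (Fin.cons (s • x₂) w₂) c hx₁ (by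
    intro i
    refine Fin.cases ?_ (fun i' => ?_) i
    · simpa using hs
    · simpa using hw₂ i') (orth_cons Q (s • x₂) w₂ horth₂ hxw')
  rw [hm]
  exact this

end low

end Cfsg.Agent.Helper28.TR
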