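import Mathlib
import Cfsg.Prelude.Def_ClassicalGeometry
import Cfsg.Agent.Helper28.TwoRankLow

set_option autoImplicit false
set_option linter.unusedSectionVars false

/-! `Ω(Q)` is perfect: odd characteristic, dimension at least five. -/

namespace Cfsg.Agent.Helper28.OP

open Matrix Module Cfsg.Agent.Helper28.Spin Cfsg.Agent.Helper28.IsoTransport
open scoped commutatorElement

variable {F : Type*} [Field F] [Fintype F] {ι : Type} [Fintype ι] [DecidableEq ι]
  (Q : QuadraticForm F (ι → F))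

/-- the derived subgroup of `Ω`, inside the isometry group -/
def P : Subgroup ↥(Cfsg.isometryGroup F ⇑Q) := ⁅Cfsg.Omega F ⇑Q, Cfsg.Omega F ⇑Q⁆

instance Omega_normal : (Cfsg.Omega F ⇑Q).Normal := by
  unfold Cfsg.Omega
  infer_instance

instance P_normal : (P Q).Normal := by
  unfold P
  infer_instance

theorem reflO_congr {u v : ι → F} (h : u = v) (hu : Q u ≠ 0) (hv : Q v ≠ 0) :
    reflO Q u hu = reflO Q v hv := by
  subst h
  rfl

/-- four pairwise orthogonal vectors of equal norm -/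
theorem refl_pair_mem_P (hQ : (QuadraticMap.polarBilin Q).Nondegenerate) (h2 : (2 : F) ≠ 0)
    (a b c e : ι → F) (d : F) (hd : d ≠ 0)
    (ha : Q a = d) (hb : Q b = d) (hc : Q c = d) (he : Q e = d)
    (hab : QuadraticMap.polar ⇑Q a b = 0) (hac : QuadraticMap.polar ⇑Q a c = 0)
    (hae : QuadraticMap.polar ⇑Q a e = 0) (hbc : QuadraticMap.polar ⇑Q b c = 0)
    (hbe : QuadraticMap.polar ⇑Q b e = 0) (hce : QuadraticMap.polar ⇑Q c e = 0)
    (hb0 : Q b ≠ 0) (hc0 : Q c ≠ 0) :
    reflO Q b hb0 * reflO Q c hc0 ∈ P Q := by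
  have hcard : Fintype.card F ≠ 2 ∨ Fintype.card ι ≠ 4 := by
    left
    intro h
    have := card_odd h2
    rw [h] at this
    exact absurd this (by decide)
  have ha0 : Q a ≠ 0 := by rw [ha]; exact hd
  have h2d : (2 : F) * d ≠ 0 := mul_ne_zero h2 hd
  have hQp : Q (c - b) = 2 * d := by
    rw [Spin.map_sub'', hc, hb, QuadraticMap.polar_comm, hbc]; ring
  have hQs : Q (e - c) = 2 * d := by
    rw [Spin.map_sub'', he, hc, QuadraticMap.polar_comm, hce]; ring
  have hp0 : Q (c - b) ≠ 0 := by rw [hQp]; exact h2d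
  have hs0 : Q (e - c) ≠ 0 := by rw [hQs]; exact h2d
  set σ := reflO Q (c - b) hp0 * reflO Q (e - c) hs0 with hσ
  set δ := reflO Q a ha0 * reflO Q b hb0 with hδ
  have hσΩ : σ ∈ Cfsg.Omega F ⇑Q :=
    OC.reflO_mul_mem_Omega Q hQ hcard _ _ hp0 hs0 (by rw [hQp, hQs])
  have hδΩ : δ ∈ Cfsg.Omega F ⇑Q :=
    OC.reflO_mul_mem_Omega Q hQ hcard _ _ ha0 hb0 (by rw [ha, hb])
  have hpa : QuadraticMap.polar ⇑Q (c - b) a = 0 := by
    rw [QuadraticMap.polar_sub_left, QuadraticMap.polar_comm, hac, QuadraticMap.polar_comm _ b,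
      hab, sub_zero]
  have hsa : QuadraticMap.polar ⇑Q (e - c) a = 0 := by
    rw [QuadraticMap.polar_sub_left, QuadraticMap.polar_comm, hae, QuadraticMap.polar_comm _ c,
      hac, sub_zero]
  have hsb : QuadraticMap.polar ⇑Q (e - c) b = 0 := by
    rw [QuadraticMap.polar_sub_left, QuadraticMap.polar_comm, hbe, QuadraticMap.polar_comm _ c b,
      hbc, sub_zero]
  have hσa : ((σ : GL ι F) : Matrix ι ι F) *ᵥ a = a := by
    show (Cfsg.reflectionMatrix ⇑Q (c - b) * Cfsg.reflectionMatrix ⇑Q (e - c)) *ᵥ a = a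
    rw [← Matrix.mulVec_mulVec, Spin.refl_fix Q hsa, Spin.refl_fix Q hpa]
  have hσb : ((σ : GL ι F) : Matrix ι ι F) *ᵥ b = c := by
    show (Cfsg.reflectionMatrix ⇑Q (c - b) * Cfsg.reflectionMatrix ⇑Q (e - c)) *ᵥ b = c
    rw [← Matrix.mulVec_mulVec, Spin.refl_fix Q hsb, Spin.refl_move Q (hc.trans hb.symm) hp0]
  have hconj : σ * δ * σ⁻¹ = reflO Q a ha0 * reflO Q c hc0 := by
    have h1 : σ * δ * σ⁻¹ = (σ * reflO Q a ha0 * σ⁻¹) * (σ * reflO Q b hb0 * σ⁻¹) := by
      rw [hδ]; group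
    have hva : Q (((σ : GL ι F) : Matrix ι ι F) *ᵥ a) ≠ 0 := by rw [hσa]; exact ha0
    have hvb : Q (((σ : GL ι F) : Matrix ι ι F) *ᵥ b) ≠ 0 := by rw [hσb]; exact hc0
    rw [h1, ← reflO_conj Q σ a ha0 hva, ← reflO_conj Q σ b hb0 hvb,
      reflO_congr Q hσa hva ha0, reflO_congr Q hσb hvb hc0]
  have hcomm_ac := TR.reflO_comm Q a c ha0 hc0 hac
  have hcomm_ab := TR.reflO_comm Q a b ha0 hb0 hab
  have hcomm_bc := TR.reflO_comm Q b c hb0 hc0 hbc
  have hkey : ⁅σ, δ⁆ = reflO Q b hb0 * reflO Q c hc0 := by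
    rw [commutatorElement_def, hconj, hδ, _root_.mul_inv_rev, reflO_inv, reflO_inv]
    calc reflO Q a ha0 * reflO Q c hc0 * (reflO Q b hb0 * reflO Q a ha0)
        = reflO Q c hc0 * reflO Q a ha0 * (reflO Q a ha0 * reflO Q b hb0) := by
          rw [hcomm_ac, hcomm_ab]
      _ = reflO Q c hc0 * (reflO Q a ha0 * reflO Q a ha0) * reflO Q b hb0 := by group
      _ = reflO Q c hc0 * reflO Q b hb0 := by rw [reflO_mul_self, mul_one]
      _ = reflO Q b hb0 * reflO Q c hc0 := hcomm_bc.symm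
  rw [← hkey]
  exact Subgroup.commutator_mem_commutator hσΩ hδΩ

/-- the next member of an orthogonal family of vectors of norm `d` -/
theorem exists_orth_next (h2 : (2 : F) ≠ 0) (hQ : (QuadraticMap.polarBilin Q).Nondegenerate)
    (d : F) {k : ℕ} (w : Fin k → ι → F) (hns : ∀ i, Q (w i) ≠ 0)
    (horth : ∀ i j, i ≠ j → QuadraticMap.polar ⇑Q (w i) (w j) = 0)
    (hk : k + 2 ≤ Fintype.card ι) :
    ∃ u, Q u = d ∧ ∀ i, QuadraticMap.polar ⇑Q (w i) u = 0 := by
  obtain ⟨hT, hfin⟩ := TR.orth_family_compl Q h2 hQ w hns horth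
  obtain ⟨u, huT, hu⟩ := WO.exists_mem_eq Q _ hT (by omega) d
  rw [LinearMap.BilinForm.mem_orthogonal_iff] at huT
  exact ⟨u, hu, fun i => huT (w i) (Submodule.subset_span ⟨i, rfl⟩)⟩

/-- two orthogonal vectors of equal norm -/
theorem refl_orth_mem_P (hQ : (QuadraticMap.polarBilin Q).Nondegenerate) (h2 : (2 : F) ≠ 0)
    (h5 : 5 ≤ Fintype.card ι) (u w : ι → F) (hu0 : Q u ≠ 0) (hw0 : Q w ≠ 0) (huw : Q u = Q w)
    (horth : QuadraticMap.polar ⇑Q u w = 0) :
    reflO Q u hu0 * reflO Q w hw0 ∈ P Q := by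
  have horth' : QuadraticMap.polar ⇑Q w u = 0 := by rw [QuadraticMap.polar_comm]; exact horth
  obtain ⟨z, hz, hzo⟩ := exists_orth_next Q h2 hQ (Q u) ![u, w]
    (by intro i; fin_cases i <;> simp [hu0, hw0])
    (by intro i j hij; fin_cases i <;> fin_cases j <;> simp_all)
    (by omega)
  have hzu : QuadraticMap.polar ⇑Q u z = 0 := hzo 0
  have hzw : QuadraticMap.polar ⇑Q w z = 0 := hzo 1
  have hzu' : QuadraticMap.polar ⇑Q z u = 0 := by rw [QuadraticMap.polar_comm]; exact hzu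
  have hzw' : QuadraticMap.polar ⇑Q z w = 0 := by rw [QuadraticMap.polar_comm]; exact hzw
  have hz0 : Q z ≠ 0 := by rw [hz]; exact hu0
  obtain ⟨t, ht, hto⟩ := exists_orth_next Q h2 hQ (Q u) ![u, w, z]
    (by intro i; fin_cases i <;> simp [hu0, hw0, hz0])
    (by intro i j hij; fin_cases i <;> fin_cases j <;> simp_all)
    (by omega)
  have htu : QuadraticMap.polar ⇑Q u t = 0 := hto 0
  have htw : QuadraticMap.polar ⇑Q w t = 0 := hto 1
  have htz : QuadraticMap.polar ⇑Q z t = 0 := hto 2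
  exact refl_pair_mem_P Q hQ h2 z u w t (Q u) hu0 hz rfl huw.symm ht hzu' hzw' htz horth htu htw
    hu0 hw0

/-- two vectors of equal norm -/
theorem refl_mul_mem_P (hQ : (QuadraticMap.polarBilin Q).Nondegenerate) (h2 : (2 : F) ≠ 0)
    (h5 : 5 ≤ Fintype.card ι) (u v : ι → F) (hu0 : Q u ≠ 0) (hv0 : Q v ≠ 0) (huv : Q u = Q v) :
    reflO Q u hu0 * reflO Q v hv0 ∈ P Q := by
  classical
  set B := QuadraticMap.polarBilin Q with hB
  set S := Submodule.span F ({u, v} : Set (ι → F)) with hS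
  have hu_mem : u ∈ S := Submodule.subset_span (by simp)
  have hv_mem : v ∈ S := Submodule.subset_span (by simp)
  have h : finrank F ↥(LinearMap.BilinForm.orthogonal B S ⊓
      LinearMap.BilinForm.orthogonal B (LinearMap.BilinForm.orthogonal B S)) + 2 ≤
      finrank F ↥(LinearMap.BilinForm.orthogonal B S) := by
    have hT := LinearMap.BilinForm.finrank_orthogonal hQ S
    rw [Module.finrank_fintype_fun_eq_card] at hT
    rw [LinearMap.BilinForm.orthogonal_orthogonal hQ (RC.polarBilin_isRefl Q)]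
    have hS2 : finrank F S ≤ 2 := by
      have := finrank_span_finset_le_card (R := F) ({u, v} : Finset (ι → F))
      have h3 : (({u, v} : Finset (ι → F)) : Set (ι → F)) = {u, v} := by simp
      rw [h3] at this
      exact this.trans Finset.card_le_two
    have hlt : LinearMap.BilinForm.orthogonal B S ⊓ S < S := by
      refine lt_of_le_of_ne inf_le_right ?_
      intro heq
      have : u ∈ LinearMap.BilinForm.orthogonal B S ⊓ S := by rw [heq]; exact hu_mem
      have h1 : u ∈ LinearMap.BilinForm.orthogonal B S := this.1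
      rw [LinearMap.BilinForm.mem_orthogonal_iff] at h1
      have h3 : QuadraticMap.polar ⇑Q u u = 0 := h1 u hu_mem
      rw [Spin.polar_self'] at h3
      exact hu0 ((mul_eq_zero.1 h3).resolve_left h2)
    have hlt' := Submodule.finrank_lt_finrank_of_lt hlt
    omega
  obtain ⟨w, hwT, hw⟩ := RC.exists_mem_eq' Q _ h (Q u)
  rw [LinearMap.BilinForm.mem_orthogonal_iff] at hwT
  have hw0 : Q w ≠ 0 := by rw [hw]; exact hu0
  have huw : QuadraticMap.polar ⇑Q u w = 0 := hwT u hu_mem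
  have hvw : QuadraticMap.polar ⇑Q v w = 0 := hwT v hv_mem
  have hsplit : reflO Q u hu0 * reflO Q v hv0 =
      (reflO Q u hu0 * reflO Q w hw0) * (reflO Q w hw0 * reflO Q v hv0) := by
    rw [mul_assoc, ← mul_assoc (reflO Q w hw0), reflO_mul_self, one_mul]
  rw [hsplit]
  exact Subgroup.mul_mem _ (refl_orth_mem_P Q hQ h2 h5 u w hu0 hw0 hw.symm huw)
    (refl_orth_mem_P Q hQ h2 h5 w v hw0 hv0 (hw.trans huv)
      (by rw [QuadraticMap.polar_comm]; exact hvw))

/-- a subgroup containing all reflections is everything -/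
theorem mem_of_refl_mem (h2 : (2 : F) ≠ 0) (hQ : (QuadraticMap.polarBilin Q).Nondegenerate)
    (H : Subgroup ↥(Cfsg.isometryGroup F ⇑Q))
    (hH : ∀ (v : ι → F) (hv : Q v ≠ 0), reflO Q v hv ∈ H) (g : ↥(Cfsg.isometryGroup F ⇑Q)) :
    g ∈ H := by
  obtain ⟨L, rfl⟩ := CDG.cd_list Q h2 hQ g
  induction L with
  | nil => rw [prodO_nil]; exact H.one_mem
  | cons v L ih => rw [prodO_cons]; exact H.mul_mem (hH v.1 v.2) ih

theorem Omega_le_P (hQ : (QuadraticMap.polarBilin Q).Nondegenerate) (h2 : (2 : F) ≠ 0)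
    (h5 : 5 ≤ Fintype.card ι) : Cfsg.Omega F ⇑Q ≤ P Q := by
  set π := QuotientGroup.mk' (P Q) with hπ
  -- reflections commute modulo `P`
  have hA : ∀ (u v : ι → F) (hu : Q u ≠ 0) (hv : Q v ≠ 0),
      π (reflO Q u hu) * π (reflO Q v hv) = π (reflO Q v hv) * π (reflO Q u hu) := by
    intro u v hu hv
    rw [← map_mul, ← map_mul, hπ, QuotientGroup.mk'_apply, QuotientGroup.mk'_apply,
      QuotientGroup.eq, _root_.mul_inv_rev, reflO_inv, reflO_inv]
    have hv' : Q (((reflO Q u hu : GL ι F) : Matrix ι ι F) *ᵥ v) ≠ 0 := by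
      rw [isom_apply]; exact hv
    have h1 : reflO Q v hv * reflO Q u hu * (reflO Q v hv * reflO Q u hu) =
        reflO Q v hv * reflO Q (((reflO Q u hu : GL ι F) : Matrix ι ι F) *ᵥ v) hv' := by
      rw [reflO_conj Q (reflO Q u hu) v hv hv', reflO_inv]
      group
    rw [h1]
    exact refl_mul_mem_P Q hQ h2 h5 _ _ hv hv' (by rw [isom_apply])
  have hB : ∀ (u : ι → F) (hu : Q u ≠ 0) (h : ↥(Cfsg.isometryGroup F ⇑Q)),
      π (reflO Q u hu) * π h = π h * π (reflO Q u hu) := by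
    intro u hu h
    have := mem_of_refl_mem Q h2 hQ
      ((Subgroup.centralizer {π (reflO Q u hu)}).comap π)
      (by
        intro v hv
        rw [Subgroup.mem_comap, Subgroup.mem_centralizer_iff]
        intro x hx
        rw [Set.mem_singleton_iff] at hx
        rw [hx]
        exact hA u v hu hv) h
    rw [Subgroup.mem_comap, Subgroup.mem_centralizer_iff] at this
    exact this _ rfl
  have hC : ∀ g h : ↥(Cfsg.isometryGroup F ⇑Q), π g * π h = π h * π g := by
    intro g h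
    have := mem_of_refl_mem Q h2 hQ
      ((Subgroup.centralizer {π h}).comap π)
      (by
        intro v hv
        rw [Subgroup.mem_comap, Subgroup.mem_centralizer_iff]
        intro x hx
        rw [Set.mem_singleton_iff] at hx
        rw [hx]
        exact (hB v hv h).symm) g
    rw [Subgroup.mem_comap, Subgroup.mem_centralizer_iff] at this
    exact (this _ rfl).symm
  unfold Cfsg.Omega
  rw [commutator_def, Subgroup.commutator_le]
  intro g _ h _
  have hker : ⁅g, h⁆ ∈ π.ker := by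
    rw [MonoidHom.mem_ker, commutatorElement_def, map_mul, map_mul, map_mul, map_inv, map_inv,
      hC g h]
    group
  rw [hπ, QuotientGroup.ker_mk'] at hker
  exact hker

/-- `Ω` is perfect -/
theorem Omega_perfect (hQ : (QuadraticMap.polarBilin Q).Nondegenerate) (h2 : (2 : F) ≠ 0)
    (h5 : 5 ≤ Fintype.card ι) : commutator ↥(Cfsg.Omega F ⇑Q) = ⊤ := by
  rw [eq_top_iff]
  intro x _
  have hx : (x : ↥(Cfsg.isometryGroup F ⇑Q)) ∈ P Q := Omega_le_P Q hQ h2 h5 x.2
  unfold P at hx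
  rw [← Subgroup.map_subtype_commutator] at hx
  obtain ⟨y, hy, hyx⟩ := hx
  have : y = x := Subtype.ext hyx
  rw [← this]
  exact hy

end Cfsg.Agent.Helper28.OP
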