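import Mathlib
import Cfsg.Prelude.Def_ClassicalGeometry
import Cfsg.Agent.Helper28.Spin1
import Cfsg.Agent.Helper28.QWitt

set_option autoImplicit false
set_option linter.unusedSectionVars false

/-! Siegel (Eichler) transformations as elements of the isometry group of a quadratic form on
`ι → F` (any characteristic). -/

namespace Cfsg.Agent.Helper28.Sg

open Matrix Cfsg.Agent.Helper28.IsoTransport Cfsg.Agent.Helper28.Spin

variable {F : Type*} [Field F] {ι : Type} [Fintype ι] [DecidableEq ι]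
  (Q : QuadraticForm F (ι → F))

/-- the polar form -/
abbrev B (x y : ι → F) : F := QuadraticMap.polar ⇑Q x y

/-- matrix of an isometry -/
abbrev mt (g : ↥(Cfsg.isometryGroup F ⇑Q)) : Matrix ι ι F := ((g : GL ι F) : Matrix ι ι F)

theorem B_comm (x y : ι → F) : B Q x y = B Q y x := QuadraticMap.polar_comm _ _ _

theorem B_self (x : ι → F) : B Q x x = 2 * Q x := Spin.polar_self' Q x

theorem B_self_of_singular {x : ι → F} (hx : Q x = 0) : B Q x x = 0 := by
  rw [B_self, hx, mul_zero]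

theorem Q_add (x y : ι → F) : Q (x + y) = Q x + Q y + B Q x y :=
  QuadraticMap.map_add (⇑Q) x y

theorem Q_smul (a : F) (x : ι → F) : Q (a • x) = a * a * Q x := by
  rw [QuadraticMap.map_smul]; simp

theorem B_isom (g : ↥(Cfsg.isometryGroup F ⇑Q)) (x y : ι → F) :
    B Q (mt Q g *ᵥ x) (mt Q g *ᵥ y) = B Q x y :=
  Spin.polar_isom Q (Spin.isom_apply Q g) x y

theorem O_ext {g h : ↥(Cfsg.isometryGroup F ⇑Q)} (H : ∀ x, mt Q g *ᵥ x = mt Q h *ᵥ x) : g = h := by
  apply Subtype.ext
  apply Units.ext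
  exact Spin.matrix_ext_mulVec H

theorem mt_mul (g h : ↥(Cfsg.isometryGroup F ⇑Q)) : mt Q (g * h) = mt Q g * mt Q h := rfl

theorem mt_one : mt Q (1 : ↥(Cfsg.isometryGroup F ⇑Q)) = 1 := rfl

theorem mt_mul_mulVec (g h : ↥(Cfsg.isometryGroup F ⇑Q)) (x : ι → F) :
    mt Q (g * h) *ᵥ x = mt Q g *ᵥ (mt Q h *ᵥ x) := by
  rw [mt_mul, Matrix.mulVec_mulVec]

theorem mt_one_mulVec (x : ι → F) : mt Q (1 : ↥(Cfsg.isometryGroup F ⇑Q)) *ᵥ x = x := by
  rw [mt_one, Matrix.one_mulVec]

theorem mt_inv_mulVec (g : ↥(Cfsg.isometryGroup F ⇑Q)) (x : ι → F) :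
    mt Q g⁻¹ *ᵥ (mt Q g *ᵥ x) = x := by
  rw [← mt_mul_mulVec, inv_mul_cancel, mt_one_mulVec]

theorem mt_mulVec_inv (g : ↥(Cfsg.isometryGroup F ⇑Q)) (x : ι → F) :
    mt Q g *ᵥ (mt Q g⁻¹ *ᵥ x) = x := by
  rw [← mt_mul_mulVec, mul_inv_cancel, mt_one_mulVec]

/-- the Siegel matrix `x ↦ x + B(u,x) v - B(v,x) u - Q(v) B(u,x) u` -/
def siegM (u v : ι → F) : Matrix ι ι F :=
  1 + Matrix.vecMulVec v (Cfsg.polarVec ⇑Q u) - Matrix.vecMulVec u (Cfsg.polarVec ⇑Q v)
    - Q v • Matrix.vecMulVec u (Cfsg.polarVec ⇑Q u)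

theorem siegM_mulVec (u v x : ι → F) :
    siegM Q u v *ᵥ x = x + B Q u x • v - B Q v x • u - (Q v * B Q u x) • u := by
  unfold siegM
  rw [Matrix.sub_mulVec, Matrix.sub_mulVec, Matrix.add_mulVec, Matrix.one_mulVec,
    Matrix.smul_mulVec, Matrix.vecMulVec_mulVec, Matrix.vecMulVec_mulVec, Matrix.vecMulVec_mulVec,
    Spin.polarVec_dot, Spin.polarVec_dot]
  ext i
  simp only [Pi.sub_apply, Pi.add_apply, Pi.smul_apply, MulOpposite.smul_eq_mul_unop,
    MulOpposite.unop_op, smul_eq_mul]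
  ring

theorem siegM_pres {u v : ι → F} (hu : Q u = 0) (huv : B Q u v = 0) (x : ι → F) :
    Q (siegM Q u v *ᵥ x) = Q x := by
  rw [siegM_mulVec, ← Cfsg.Agent.Helper28.QWitt.eich_apply]
  exact Cfsg.Agent.Helper28.QWitt.eich_isom Q u v hu huv x

theorem siegM_mul {u v w : ι → F} (hu : Q u = 0) (huv : B Q u v = 0) (huw : B Q u w = 0) :
    siegM Q u v * siegM Q u w = siegM Q u (v + w) := by
  apply Spin.matrix_ext_mulVec
  intro x
  rw [← Matrix.mulVec_mulVec, siegM_mulVec Q u w x, siegM_mulVec, siegM_mulVec]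
  have huu : B Q u u = 0 := B_self_of_singular Q hu
  have hvu : B Q v u = 0 := by rw [B_comm]; exact huv
  simp only [B, QuadraticMap.polar_add_right, QuadraticMap.polar_sub_right,
    QuadraticMap.polar_smul_right, QuadraticMap.polar_add_left, smul_eq_mul]
  simp only [B] at huu hvu huv huw
  rw [huu, huw, hvu, Q_add]
  simp only [B]
  module

theorem siegM_zero (u : ι → F) : siegM Q u 0 = 1 := by
  apply Spin.matrix_ext_mulVec
  intro x
  rw [siegM_mulVec, Matrix.one_mulVec]
  simp [B]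

theorem B_neg_right (x y : ι → F) : B Q x (-y) = - B Q x y := QuadraticMap.polar_neg_right _ _ _

/-- the Siegel transformation as an element of the isometry group -/
noncomputable def siegO (u v : ι → F) (hu : Q u = 0) (huv : B Q u v = 0) :
    ↥(Cfsg.isometryGroup F ⇑Q) :=
  ⟨⟨siegM Q u v, siegM Q u (-v), by
      rw [siegM_mul Q hu huv (by rw [B_neg_right, huv, neg_zero]), add_neg_cancel, siegM_zero],
    by
      rw [siegM_mul Q hu (by rw [B_neg_right, huv, neg_zero]) huv, neg_add_cancel, siegM_zero]⟩,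
   by
    rw [mem_isometryGroup_iff]
    intro x
    exact siegM_pres Q hu huv x⟩

theorem siegO_val (u v : ι → F) (hu : Q u = 0) (huv : B Q u v = 0) :
    mt Q (siegO Q u v hu huv) = siegM Q u v := rfl

theorem siegO_mulVec (u v : ι → F) (hu : Q u = 0) (huv : B Q u v = 0) (x : ι → F) :
    mt Q (siegO Q u v hu huv) *ᵥ x = x + B Q u x • v - B Q v x • u - (Q v * B Q u x) • u := by
  rw [siegO_val, siegM_mulVec]

theorem siegO_congr {u u' v v' : ι → F} (hu : Q u = 0) (huv : B Q u v = 0) (hu' : Q u' = 0)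
    (huv' : B Q u' v' = 0) (h1 : u = u') (h2 : v = v') :
    siegO Q u v hu huv = siegO Q u' v' hu' huv' := by
  subst h1; subst h2; rfl

theorem siegO_mul {u v w : ι → F} (hu : Q u = 0) (huv : B Q u v = 0) (huw : B Q u w = 0)
    (huvw : B Q u (v + w) = 0) :
    siegO Q u v hu huv * siegO Q u w hu huw = siegO Q u (v + w) hu huvw := by
  apply Subtype.ext
  apply Units.ext
  exact siegM_mul Q hu huv huw

theorem B_add_right_zero {u v w : ι → F} (huv : B Q u v = 0) (huw : B Q u w = 0) :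
    B Q u (v + w) = 0 := by
  show QuadraticMap.polar ⇑Q u (v + w) = 0
  rw [QuadraticMap.polar_add_right]
  simp only [B] at huv huw
  rw [huv, huw, add_zero]

theorem B_smul_right_zero {u v : ι → F} (c : F) (huv : B Q u v = 0) : B Q u (c • v) = 0 := by
  show QuadraticMap.polar ⇑Q u (c • v) = 0
  rw [QuadraticMap.polar_smul_right]
  simp only [B] at huv
  rw [huv, smul_zero]

theorem B_smul_left_zero {u v : ι → F} (c : F) (huv : B Q u v = 0) : B Q (c • u) v = 0 := by
  show QuadraticMap.polar ⇑Q (c • u) v = 0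
  rw [QuadraticMap.polar_smul_left]
  simp only [B] at huv
  rw [huv, smul_zero]

theorem siegO_zero (u : ι → F) (hu : Q u = 0) (h0 : B Q u 0 = 0) : siegO Q u 0 hu h0 = 1 := by
  apply Subtype.ext
  apply Units.ext
  exact siegM_zero Q u

theorem siegO_inv {u v : ι → F} (hu : Q u = 0) (huv : B Q u v = 0) (huv' : B Q u (-v) = 0) :
    (siegO Q u v hu huv)⁻¹ = siegO Q u (-v) hu huv' := by
  apply inv_eq_of_mul_eq_one_right
  rw [siegO_mul Q hu huv huv' (by rw [add_neg_cancel]; exact QuadraticMap.polar_zero_right _ _)]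
  apply Subtype.ext
  apply Units.ext
  show siegM Q u (v + -v) = 1
  rw [add_neg_cancel, siegM_zero]

/-- conjugating a Siegel transformation by an isometry -/
theorem siegO_conj (h : ↥(Cfsg.isometryGroup F ⇑Q)) {u v : ι → F} (hu : Q u = 0)
    (huv : B Q u v = 0) (hu' : Q (mt Q h *ᵥ u) = 0) (huv' : B Q (mt Q h *ᵥ u) (mt Q h *ᵥ v) = 0) :
    h * siegO Q u v hu huv * h⁻¹ = siegO Q (mt Q h *ᵥ u) (mt Q h *ᵥ v) hu' huv' := by
  rw [mul_inv_eq_iff_eq_mul]
  apply O_ext
  intro x
  rw [mt_mul_mulVec, mt_mul_mulVec, siegO_mulVec, siegO_mulVec, B_isom, B_isom,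
    Spin.isom_apply Q h v]
  simp only [Matrix.mulVec_add, Matrix.mulVec_sub, Matrix.mulVec_smul]

/-- scaling the singular vector -/
theorem siegO_smul (c : F) {u v : ι → F} (hu : Q u = 0) (_huv : B Q u v = 0)
    (hu' : Q (c • u) = 0) (huv' : B Q (c • u) v = 0) (huv'' : B Q u (c • v) = 0) :
    siegO Q (c • u) v hu' huv' = siegO Q u (c • v) hu huv'' := by
  apply O_ext
  intro x
  rw [siegO_mulVec, siegO_mulVec]
  simp only [B, QuadraticMap.polar_smul_left, smul_eq_mul, Q_smul]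
  module

/-- adding a multiple of `u` does not change the Siegel transformation -/
theorem siegO_add_smul_self (c : F) {u v : ι → F} (hu : Q u = 0) (huv : B Q u v = 0)
    (huv' : B Q u (v + c • u) = 0) :
    siegO Q u (v + c • u) hu huv' = siegO Q u v hu huv := by
  apply O_ext
  intro x
  rw [siegO_mulVec, siegO_mulVec]
  have hvu : B Q v u = 0 := by rw [B_comm]; exact huv
  have e1 : Q (v + c • u) = Q v := by
    rw [Q_add, Q_smul, hu]
    show _ + _ + QuadraticMap.polar ⇑Q v (c • u) = _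
    rw [QuadraticMap.polar_smul_right]
    simp only [B] at hvu
    rw [hvu]
    simp
  rw [e1]
  simp only [B, QuadraticMap.polar_add_left, QuadraticMap.polar_smul_left, smul_eq_mul]
  module

/-- a product of two reflections in vectors differing by a singular vector is a Siegel
transformation -/
theorem reflO_mul_reflO (t : F) {u v : ι → F} (hu : Q u = 0) (huv : B Q u v = 0)
    (hv : Q v ≠ 0) (hv' : Q (v + t • u) ≠ 0) (h' : B Q u ((t * (Q v)⁻¹) • v) = 0) :
    reflO Q v hv * reflO Q (v + t • u) hv' = siegO Q u ((t * (Q v)⁻¹) • v) hu h' := by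
  have hvu : B Q v u = 0 := by rw [B_comm]; exact huv
  have huu : B Q u u = 0 := B_self_of_singular Q hu
  have e1 : Q (v + t • u) = Q v := by
    rw [Q_add, Q_smul, hu]
    show _ + _ + QuadraticMap.polar ⇑Q v (t • u) = _
    rw [QuadraticMap.polar_smul_right]
    simp only [B] at hvu
    rw [hvu]
    simp
  apply O_ext
  intro x
  rw [mt_mul_mulVec, siegO_mulVec]
  show Cfsg.reflectionMatrix ⇑Q v *ᵥ (Cfsg.reflectionMatrix ⇑Q (v + t • u) *ᵥ x) = _
  rw [Spin.refl_mulVec Q (v + t • u) x, Spin.refl_mulVec, e1, Q_smul]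
  simp only [B] at hvu huu huv
  simp only [B, QuadraticMap.polar_add_left, QuadraticMap.polar_smul_left,
    QuadraticMap.polar_sub_right, QuadraticMap.polar_smul_right,
    QuadraticMap.polar_add_right, smul_eq_mul, hvu, huv]
  rw [show QuadraticMap.polar ⇑Q v v = 2 * Q v from Spin.polar_self' Q v]
  have : Q v * (Q v)⁻¹ = 1 := mul_inv_cancel₀ hv
  match_scalars <;> field_simp <;> ring

end Cfsg.Agent.Helper28.Sg
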