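import Mathlib
import Cfsg.Agent.Helper28.Siegel1
import Cfsg.Agent.Helper28.WittOmega

set_option autoImplicit false
set_option linter.unusedSectionVars false

/-! Three orthogonal hyperbolic pairs, Witt's theorem for pairs of vectors, and general position
lemmas. -/

namespace Cfsg.Agent.Helper28.Sg

open Matrix Module Cfsg.Agent.Helper28.IsoTransport Cfsg.Agent.Helper28.Spin

variable {F : Type*} [Field F] {ι : Type} [Fintype ι] [DecidableEq ι]
  (Q : QuadraticForm F (ι → F))

/-- three mutually orthogonal hyperbolic pairs -/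
structure Frame3 where
  e : Fin 3 → ι → F
  f : Fin 3 → ι → F
  Qe : ∀ i, Q (e i) = 0
  Qf : ∀ i, Q (f i) = 0
  Bee : ∀ i j, QuadraticMap.polar ⇑Q (e i) (e j) = 0
  Bff : ∀ i j, QuadraticMap.polar ⇑Q (f i) (f j) = 0
  Bef : ∀ i j, QuadraticMap.polar ⇑Q (e i) (f j) = if i = j then 1 else 0

variable {Q}

theorem Frame3.Bfe (fr : Frame3 Q) (i j : Fin 3) :
    QuadraticMap.polar ⇑Q (fr.f i) (fr.e j) = if i = j then 1 else 0 := by
  rw [QuadraticMap.polar_comm, fr.Bef]
  by_cases h : i = j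
  · subst h; simp
  · rw [if_neg h, if_neg (fun h' => h h'.symm)]

variable (Q)

/-- linear independence of two vectors -/
def Indep (a b : ι → F) : Prop := ∀ x y : F, x • a + y • b = 0 → x = 0 ∧ y = 0

theorem Q_lin2 (a b : ι → F) (x y : F) :
    Q (x • a + y • b) = x * x * Q a + y * y * Q b + x * y * B Q a b := by
  rw [Q_add, Q_smul, Q_smul]
  simp only [B, QuadraticMap.polar_smul_left, QuadraticMap.polar_smul_right, smul_eq_mul]
  ring

variable {Q}

/-- **Witt's theorem for pairs**: every independent pair is the image of a standard pair. -/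
theorem witt_pair (hQ : (QuadraticMap.polarBilin Q).Nondegenerate) (fr : Frame3 Q)
    (a b : ι → F) (hab : Indep a b) :
    ∃ g : ↥(Cfsg.isometryGroup F ⇑Q), mt Q g *ᵥ (fr.e 0 + Q a • fr.f 0) = a ∧
      mt Q g *ᵥ (fr.e 1 + Q b • fr.f 1 + B Q a b • fr.f 0) = b := by
  set a₀ : ι → F := fr.e 0 + Q a • fr.f 0 with ha₀
  set b₀ : ι → F := fr.e 1 + Q b • fr.f 1 + B Q a b • fr.f 0 with hb₀
  have hQa₀ : Q a₀ = Q a := by
    rw [ha₀, Q_add, Q_smul, fr.Qe, fr.Qf]
    simp only [B, QuadraticMap.polar_smul_right, fr.Bef, smul_eq_mul]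
    simp
  have hQb₀ : Q b₀ = Q b := by
    rw [hb₀, Q_add, Q_add, Q_smul, Q_smul, fr.Qe, fr.Qf, fr.Qf]
    simp only [B, QuadraticMap.polar_smul_right, QuadraticMap.polar_add_left,
      QuadraticMap.polar_smul_left, fr.Bef, fr.Bff, smul_eq_mul]
    simp
  have hBab₀ : B Q a₀ b₀ = B Q a b := by
    rw [ha₀, hb₀]
    simp only [B, QuadraticMap.polar_smul_right, QuadraticMap.polar_add_left,
      QuadraticMap.polar_add_right, QuadraticMap.polar_smul_left, fr.Bef, fr.Bff, fr.Bee, fr.Bfe,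
      smul_eq_mul]
    simp
  have hBa₀f0 : B Q a₀ (fr.f 0) = 1 := by
    rw [ha₀]
    simp only [B, QuadraticMap.polar_add_left, QuadraticMap.polar_smul_left, fr.Bef, fr.Bff]
    simp
  have hBa₀f1 : B Q a₀ (fr.f 1) = 0 := by
    rw [ha₀]
    simp only [B, QuadraticMap.polar_add_left, QuadraticMap.polar_smul_left, fr.Bef, fr.Bff]
    simp
  have hBb₀f0 : B Q b₀ (fr.f 0) = 0 := by
    rw [hb₀]
    simp only [B, QuadraticMap.polar_add_left, QuadraticMap.polar_smul_left, fr.Bef, fr.Bff]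
    simp
  have hBb₀f1 : B Q b₀ (fr.f 1) = 1 := by
    rw [hb₀]
    simp only [B, QuadraticMap.polar_add_left, QuadraticMap.polar_smul_left, fr.Bef, fr.Bff]
    simp
  let i₀ : F × F →ₗ[F] (ι → F) :=
    (LinearMap.fst F F F).smulRight a₀ + (LinearMap.snd F F F).smulRight b₀
  let s₀ : F × F →ₗ[F] (ι → F) :=
    (LinearMap.fst F F F).smulRight a + (LinearMap.snd F F F).smulRight b
  have hi₀ : ∀ p : F × F, i₀ p = p.1 • a₀ + p.2 • b₀ := fun p => rfl
  have hs₀ : ∀ p : F × F, s₀ p = p.1 • a + p.2 • b := fun p => rfl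
  have hinj_i : Function.Injective i₀ := by
    rw [injective_iff_map_eq_zero]
    intro p hp
    rw [hi₀] at hp
    have h0 := congrArg (fun z => B Q z (fr.f 0)) hp
    have h1 := congrArg (fun z => B Q z (fr.f 1)) hp
    simp only [B, QuadraticMap.polar_add_left, QuadraticMap.polar_smul_left, smul_eq_mul,
      QuadraticMap.polar_zero_left] at h0 h1
    simp only [B] at hBa₀f0 hBa₀f1 hBb₀f0 hBb₀f1
    rw [hBa₀f0, hBb₀f0] at h0
    rw [hBa₀f1, hBb₀f1] at h1
    ext
    · simpa using h0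
    · simpa using h1
  have hinj_s : Function.Injective s₀ := by
    rw [injective_iff_map_eq_zero]
    intro p hp
    rw [hs₀] at hp
    obtain ⟨h1, h2⟩ := hab _ _ hp
    ext
    · exact h1
    · exact h2
  have hfr : finrank F (F × F) = 2 := by
    rw [Module.finrank_prod, Module.finrank_self]
  obtain ⟨gL, hgQ, hg⟩ := Cfsg.Agent.Helper28.QWitt.witt_aux Q hQ 2 (F × F) i₀ s₀ hfr hinj_i hinj_s
    (by
      intro p
      rw [hi₀, hs₀, Q_lin2, Q_lin2, hQa₀, hQb₀, hBab₀])
  obtain ⟨M, hM⟩ := Cfsg.Agent.Helper28.WO.exists_isom Q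
    (LinearEquiv.ofInjectiveEndo gL (Cfsg.Agent.Helper28.QWitt.isom_injective Q hQ hgQ)) hgQ
  refine ⟨M, ?_, ?_⟩
  · have := hg (1, 0)
    rw [hi₀, hs₀] at this
    simp only [one_smul, zero_smul, add_zero] at this
    show ((M : GL ι F) : Matrix ι ι F) *ᵥ a₀ = a
    rw [hM]
    exact this
  · have := hg (0, 1)
    rw [hi₀, hs₀] at this
    simp only [one_smul, zero_smul, zero_add] at this
    show ((M : GL ι F) : Matrix ι ι F) *ᵥ b₀ = b
    rw [hM]
    exact this


variable (Q)

theorem B_map_eq (g : ↥(Cfsg.isometryGroup F ⇑Q)) {x y a : ι → F} (h : mt Q g *ᵥ y = a) :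
    B Q (mt Q g *ᵥ x) a = B Q x y := by
  rw [← h, B_isom]

theorem B_map_eq' (g : ↥(Cfsg.isometryGroup F ⇑Q)) {x y a : ι → F} (h : mt Q g *ᵥ y = a) :
    B Q a (mt Q g *ᵥ x) = B Q y x := by
  rw [← h, B_isom]

variable {Q}

/-- a vector pairing to one with a given non-zero vector -/
theorem exists_pair_one (hQ : (QuadraticMap.polarBilin Q).Nondegenerate) {u : ι → F}
    (hu0 : u ≠ 0) : ∃ y, B Q u y = 1 := by
  have : ∃ w, B Q u w ≠ 0 := by
    by_contra hcon
    push Not at hcon
    exact hu0 (hQ.1 u hcon)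
  obtain ⟨w, hw⟩ := this
  refine ⟨(B Q u w)⁻¹ • w, ?_⟩
  show QuadraticMap.polar ⇑Q u ((B Q u w)⁻¹ • w) = 1
  rw [QuadraticMap.polar_smul_right, smul_eq_mul]
  exact inv_mul_cancel₀ hw

theorem indep_of_pair {u y : ι → F} (hu : Q u = 0) (hu0 : u ≠ 0) (huy : B Q u y ≠ 0) :
    Indep u y := by
  intro a b hab
  have h1 := congrArg (fun z => B Q u z) hab
  simp only [B, QuadraticMap.polar_add_right, QuadraticMap.polar_smul_right, smul_eq_mul,
    QuadraticMap.polar_zero_right] at h1
  rw [show QuadraticMap.polar ⇑Q u u = 0 from B_self_of_singular Q hu, mul_zero, zero_add] at h1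
  have hb : b = 0 := by
    rcases mul_eq_zero.1 h1 with h | h
    · exact h
    · exact absurd h huy
  subst hb
  rw [zero_smul, add_zero] at hab
  rcases smul_eq_zero.1 hab with h | h
  · exact ⟨h, rfl⟩
  · exact absurd h hu0

theorem Indep.symm {a b : ι → F} (h : Indep a b) : Indep b a := by
  intro x y hxy
  rw [add_comm] at hxy
  exact (h y x hxy).symm

theorem Indep.ne_zero_left {a b : ι → F} (h : Indep a b) : a ≠ 0 := by
  intro ha
  have := h 1 0 (by rw [ha]; simp)
  exact one_ne_zero this.1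

/-- a singular vector which is not proportional to `u` is independent of `u` -/
theorem indep_of_not_smul {u w : ι → F} (hu0 : u ≠ 0) (hw : ¬ ∃ c : F, w = c • u) :
    Indep u w := by
  intro x y hxy
  by_cases hy : y = 0
  · subst hy
    rw [zero_smul, add_zero] at hxy
    rcases smul_eq_zero.1 hxy with h | h
    · exact ⟨h, rfl⟩
    · exact absurd h hu0
  · exfalso
    apply hw
    refine ⟨-(y⁻¹ * x), ?_⟩
    have h1 : y • w = -(x • u) := by
      rw [eq_neg_iff_add_eq_zero, add_comm]; exact hxy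
    calc w = y⁻¹ • (y • w) := by rw [smul_smul, inv_mul_cancel₀ hy, one_smul]
      _ = -(y⁻¹ * x) • u := by rw [h1, smul_neg, smul_smul, neg_smul]

/-- every non-zero singular vector is the image of `e 0` under an isometry -/
theorem witt_single (hQ : (QuadraticMap.polarBilin Q).Nondegenerate) (fr : Frame3 Q)
    {u : ι → F} (hu : Q u = 0) (hu0 : u ≠ 0) :
    ∃ g : ↥(Cfsg.isometryGroup F ⇑Q), mt Q g *ᵥ (fr.e 0) = u := by
  obtain ⟨y, hy⟩ := exists_pair_one hQ hu0
  obtain ⟨g, hg, -⟩ := witt_pair hQ fr u y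
    (indep_of_pair hu hu0 (by rw [hy]; exact one_ne_zero))
  refine ⟨g, ?_⟩
  rw [hu, zero_smul, add_zero] at hg
  exact hg

/-- general position: two independent singular vectors have a common singular "partner" -/
theorem exists_common_partner (hQ : (QuadraticMap.polarBilin Q).Nondegenerate) (fr : Frame3 Q)
    {a b : ι → F} (ha : Q a = 0) (hb : Q b = 0) (hab : Indep a b) :
    ∃ u, Q u = 0 ∧ B Q u a = 1 ∧ B Q u b = 1 := by
  obtain ⟨g, hga, hgb⟩ := witt_pair hQ fr a b hab
  refine ⟨mt Q g *ᵥ (fr.f 0 + fr.f 1), ?_, ?_, ?_⟩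
  · rw [Spin.isom_apply, Q_add, fr.Qf, fr.Qf]
    simp only [B, fr.Bff]
    simp
  · rw [B_map_eq Q g hga]
    simp only [B, QuadraticMap.polar_add_left, QuadraticMap.polar_add_right,
      QuadraticMap.polar_smul_right, fr.Bfe, fr.Bff]
    simp
  · rw [B_map_eq Q g hgb]
    simp only [B, QuadraticMap.polar_add_left, QuadraticMap.polar_add_right,
      QuadraticMap.polar_smul_right, fr.Bfe, fr.Bff]
    simp

/-- a hyperbolic pair orthogonal to two given independent vectors -/
theorem exists_hyp_orth (hQ : (QuadraticMap.polarBilin Q).Nondegenerate) (fr : Frame3 Q)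
    {a b : ι → F} (hab : Indep a b) :
    ∃ e' f', Q e' = 0 ∧ Q f' = 0 ∧ B Q e' f' = 1 ∧ B Q e' a = 0 ∧ B Q e' b = 0 ∧
      B Q f' a = 0 ∧ B Q f' b = 0 := by
  obtain ⟨g, hga, hgb⟩ := witt_pair hQ fr a b hab
  refine ⟨mt Q g *ᵥ (fr.e 2), mt Q g *ᵥ (fr.f 2), ?_, ?_, ?_, ?_, ?_, ?_, ?_⟩
  · rw [Spin.isom_apply, fr.Qe]
  · rw [Spin.isom_apply, fr.Qf]
  · rw [B_isom]
    simp only [B, fr.Bef]
    simp
  · rw [B_map_eq Q g hga]
    simp only [B, QuadraticMap.polar_add_right, QuadraticMap.polar_smul_right, fr.Bee, fr.Bef]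
    simp
  · rw [B_map_eq Q g hgb]
    simp only [B, QuadraticMap.polar_add_right, QuadraticMap.polar_smul_right, fr.Bee, fr.Bef]
    simp
  · rw [B_map_eq Q g hga]
    simp only [B, QuadraticMap.polar_add_right, QuadraticMap.polar_smul_right, fr.Bfe, fr.Bff]
    simp
  · rw [B_map_eq Q g hgb]
    simp only [B, QuadraticMap.polar_add_right, QuadraticMap.polar_smul_right, fr.Bfe, fr.Bff]
    simp

variable (Q)

/-- the subgroup generated by the Siegel transformations -/
def S : Subgroup ↥(Cfsg.isometryGroup F ⇑Q) :=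
  Subgroup.closure {g | ∃ (u v : ι → F) (hu : Q u = 0) (huv : B Q u v = 0), g = siegO Q u v hu huv}

theorem siegO_mem_S (u v : ι → F) (hu : Q u = 0) (huv : B Q u v = 0) :
    siegO Q u v hu huv ∈ S Q :=
  Subgroup.subset_closure ⟨u, v, hu, huv, rfl⟩

theorem closure_normal_of_conj {G : Type*} [Group G] (s : Set G)
    (h : ∀ g x, x ∈ s → g * x * g⁻¹ ∈ s) : (Subgroup.closure s).Normal := by
  constructor
  intro n hn g
  induction hn using Subgroup.closure_induction with
  | mem x hx => exact Subgroup.subset_closure (h g x hx)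
  | one => simp
  | mul x y _ _ hx hy =>
    have : g * (x * y) * g⁻¹ = (g * x * g⁻¹) * (g * y * g⁻¹) := by group
    rw [this]
    exact Subgroup.mul_mem _ hx hy
  | inv x _ hx =>
    have : g * x⁻¹ * g⁻¹ = (g * x * g⁻¹)⁻¹ := by group
    rw [this]
    exact Subgroup.inv_mem _ hx

instance S_normal : (S Q).Normal := by
  apply closure_normal_of_conj
  rintro g x ⟨u, v, hu, huv, rfl⟩
  exact ⟨mt Q g *ᵥ u, mt Q g *ᵥ v, by rw [Spin.isom_apply]; exact hu,
    by rw [B_isom]; exact huv, siegO_conj Q g hu huv _ _⟩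

variable {Q}

/-- the Siegel transformations attached to `u` act transitively on the singular vectors pairing
to one with `u` -/
theorem siegO_move {u x y : ι → F} (hu : Q u = 0) (hx : Q x = 0) (hy : Q y = 0)
    (hux : B Q u x = 1) (huy : B Q u y = 1) (h : B Q u (y - x) = 0) :
    mt Q (siegO Q u (y - x) hu h) *ᵥ x = y := by
  rw [siegO_mulVec, hux]
  have h1 : B Q (y - x) x = B Q x y := by
    show QuadraticMap.polar ⇑Q (y - x) x = _
    rw [QuadraticMap.polar_sub_left, show QuadraticMap.polar ⇑Q x x = 0 from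
      B_self_of_singular Q hx, sub_zero, QuadraticMap.polar_comm]
  have h2 : Q (y - x) = - B Q x y := by
    rw [Spin.map_sub'' Q y x, hx, hy, QuadraticMap.polar_comm]
    simp
  rw [h1, h2]
  module

theorem siegO_fix {u v : ι → F} (hu : Q u = 0) (huv : B Q u v = 0) :
    mt Q (siegO Q u v hu huv) *ᵥ u = u := by
  rw [siegO_mulVec, B_self_of_singular Q hu, B_comm Q v u, huv]
  simp

/-- two independent orthogonal singular vectors: a Siegel transformation fixing the first and
moving the second to a non-orthogonal vector -/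
theorem exists_sieg_nonorth (hQ : (QuadraticMap.polarBilin Q).Nondegenerate) (fr : Frame3 Q)
    {u w : ι → F} (hu : Q u = 0) (hw : Q w = 0) (huw : B Q u w = 0) (hind : Indep u w) :
    ∃ s ∈ S Q, mt Q s *ᵥ u = u ∧ B Q (mt Q s *ᵥ w) w ≠ 0 := by
  obtain ⟨g, hgu, hgw⟩ := witt_pair hQ fr u w hind
  set x := mt Q g *ᵥ (fr.f 1) with hx
  set v := mt Q g *ᵥ (fr.e 2 + fr.f 2) with hv
  have hQx : Q x = 0 := by rw [hx, Spin.isom_apply, fr.Qf]
  have hQv : Q v = 1 := by
    rw [hv, Spin.isom_apply, Q_add, fr.Qe, fr.Qf]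
    simp only [B, fr.Bef]
    simp
  have hxv : B Q x v = 0 := by
    rw [hx, hv, B_isom]
    simp only [B, QuadraticMap.polar_add_right, fr.Bfe, fr.Bff]
    simp
  have hxu : B Q x u = 0 := by
    rw [hx, B_map_eq Q g hgu]
    simp only [B, QuadraticMap.polar_add_right, QuadraticMap.polar_smul_right, fr.Bfe, fr.Bff]
    simp
  have hvu : B Q v u = 0 := by
    rw [hv, B_map_eq Q g hgu]
    simp only [B, QuadraticMap.polar_add_right, QuadraticMap.polar_add_left,
      QuadraticMap.polar_smul_right, fr.Bfe, fr.Bff, fr.Bee, fr.Bef]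
    simp
  have hxw : B Q x w = 1 := by
    rw [hx, B_map_eq Q g hgw]
    simp only [B, QuadraticMap.polar_add_right, QuadraticMap.polar_smul_right, fr.Bfe, fr.Bff]
    simp
  have hvw : B Q v w = 0 := by
    rw [hv, B_map_eq Q g hgw]
    simp only [B, QuadraticMap.polar_add_right, QuadraticMap.polar_add_left,
      QuadraticMap.polar_smul_right, fr.Bfe, fr.Bff, fr.Bee, fr.Bef]
    simp
  refine ⟨siegO Q x v hQx hxv, siegO_mem_S Q x v hQx hxv, ?_, ?_⟩
  · rw [siegO_mulVec, hxu, hvu]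
    simp
  · rw [siegO_mulVec, hxw, hvw, hQv]
    simp only [B, QuadraticMap.polar_add_left, QuadraticMap.polar_sub_left,
      QuadraticMap.polar_smul_left, smul_eq_mul]
    simp only [B] at hvw hxw
    rw [hvw, hxw, show QuadraticMap.polar ⇑Q w w = 0 from B_self_of_singular Q hw]
    simp

end Cfsg.Agent.Helper28.Sg
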