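import Mathlib
import Cfsg.Agent.Helper28.Siegel2

set_option autoImplicit false
set_option linter.unusedSectionVars false

/-! The Siegel subgroup is perfect and equals `Ω`. -/

namespace Cfsg.Agent.Helper28.Sg

open Matrix Module Cfsg.Agent.Helper28.IsoTransport Cfsg.Agent.Helper28.Spin
open scoped commutatorElement

variable {F : Type*} [Field F] {ι : Type} [Fintype ι] [DecidableEq ι]
  {Q : QuadraticForm F (ι → F)}

/-- the commutator of an isometry fixing `u` with a Siegel transformation attached to `u` -/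
theorem comm_siegO (g : ↥(Cfsg.isometryGroup F ⇑Q)) {u v : ι → F} (hu : Q u = 0)
    (huv : B Q u v = 0) (hgu : mt Q g *ᵥ u = u) (h' : B Q u (mt Q g *ᵥ v - v) = 0) :
    ⁅g, siegO Q u v hu huv⁆ = siegO Q u (mt Q g *ᵥ v - v) hu h' := by
  have hu' : Q (mt Q g *ᵥ u) = 0 := by rw [hgu]; exact hu
  have huv' : B Q (mt Q g *ᵥ u) (mt Q g *ᵥ v) = 0 := by rw [B_isom]; exact huv
  have hgv : B Q u (mt Q g *ᵥ v) = 0 := by
    have := huv'
    rw [hgu] at this
    exact this
  have hneg : B Q u (-v) = 0 := by rw [B_neg_right, huv, neg_zero]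
  rw [commutatorElement_def, siegO_conj Q g hu huv hu' huv', siegO_inv Q hu huv hneg,
    siegO_congr Q hu' huv' hu hgv hgu rfl,
    siegO_mul Q hu hgv hneg (by rw [← sub_eq_add_neg]; exact h')]
  exact siegO_congr Q hu _ hu _ rfl (sub_eq_add_neg _ _).symm

theorem siegO_zero_left (v : ι → F) (h0 : Q (0 : ι → F) = 0) (h0v : B Q 0 v = 0) :
    siegO Q 0 v h0 h0v = 1 := by
  apply O_ext
  intro x
  rw [siegO_mulVec, mt_one_mulVec]
  simp [B]

section perfect


/-- `v` is good if the Siegel transformation `(e 0, v)` is a product of commutators -/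
def Good (fr : Frame3 Q) (v : ι → F) : Prop :=
  ∃ h : B Q (fr.e 0) v = 0, siegO Q (fr.e 0) v (fr.Qe 0) h ∈ ⁅S Q, S Q⁆

theorem Good.add {fr : Frame3 Q} {v w : ι → F} (hv : Good fr v) (hw : Good fr w) : Good fr (v + w) := by
  obtain ⟨h1, h1'⟩ := hv
  obtain ⟨h2, h2'⟩ := hw
  refine ⟨B_add_right_zero Q h1 h2, ?_⟩
  rw [← siegO_mul Q (fr.Qe 0) h1 h2]
  exact Subgroup.mul_mem _ h1' h2'

theorem good_smul_e1 (fr : Frame3 Q) (c : F) : Good fr (c • fr.e 1) := by
  have h1 : B Q (fr.e 1) ((-c) • fr.e 2) = 0 := by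
    simp only [B, QuadraticMap.polar_smul_right, fr.Bee]; simp
  have h2 : B Q (fr.e 0) (fr.f 2) = 0 := by
    simp only [B, fr.Bef]; simp
  have hfix : mt Q (siegO Q (fr.e 1) ((-c) • fr.e 2) (fr.Qe 1) h1) *ᵥ (fr.e 0) = fr.e 0 := by
    rw [siegO_mulVec]
    simp only [B, QuadraticMap.polar_smul_left, fr.Bee]
    simp
  have hmove : mt Q (siegO Q (fr.e 1) ((-c) • fr.e 2) (fr.Qe 1) h1) *ᵥ (fr.f 2) - fr.f 2 =
      c • fr.e 1 := by
    rw [siegO_mulVec]
    simp only [B, QuadraticMap.polar_smul_left, fr.Bef]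
    simp
  have h3 : B Q (fr.e 0) (c • fr.e 1) = 0 := by
    simp only [B, QuadraticMap.polar_smul_right, fr.Bee]; simp
  refine ⟨h3, ?_⟩
  have := comm_siegO (siegO Q (fr.e 1) ((-c) • fr.e 2) (fr.Qe 1) h1) (fr.Qe 0) h2 hfix
    (by rw [hmove]; exact h3)
  rw [siegO_congr Q (fr.Qe 0) _ (fr.Qe 0) h3 rfl hmove] at this
  rw [← this]
  exact Subgroup.commutator_mem_commutator (siegO_mem_S Q _ _ _ _) (siegO_mem_S Q _ _ _ _)

theorem good_smul_f1 (fr : Frame3 Q) (c : F) : Good fr (c • fr.f 1) := by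
  have h1 : B Q (fr.f 1) ((-c) • fr.e 2) = 0 := by
    simp only [B, QuadraticMap.polar_smul_right, fr.Bfe]; simp
  have h2 : B Q (fr.e 0) (fr.f 2) = 0 := by
    simp only [B, fr.Bef]; simp
  have hfix : mt Q (siegO Q (fr.f 1) ((-c) • fr.e 2) (fr.Qf 1) h1) *ᵥ (fr.e 0) = fr.e 0 := by
    rw [siegO_mulVec]
    simp only [B, QuadraticMap.polar_smul_left, fr.Bee, fr.Bfe]
    simp
  have hmove : mt Q (siegO Q (fr.f 1) ((-c) • fr.e 2) (fr.Qf 1) h1) *ᵥ (fr.f 2) - fr.f 2 =
      c • fr.f 1 := by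
    rw [siegO_mulVec]
    simp only [B, QuadraticMap.polar_smul_left, fr.Bef, fr.Bff]
    simp
  have h3 : B Q (fr.e 0) (c • fr.f 1) = 0 := by
    simp only [B, QuadraticMap.polar_smul_right, fr.Bef]; simp
  refine ⟨h3, ?_⟩
  have := comm_siegO (siegO Q (fr.f 1) ((-c) • fr.e 2) (fr.Qf 1) h1) (fr.Qe 0) h2 hfix
    (by rw [hmove]; exact h3)
  rw [siegO_congr Q (fr.Qe 0) _ (fr.Qe 0) h3 rfl hmove] at this
  rw [← this]
  exact Subgroup.commutator_mem_commutator (siegO_mem_S Q _ _ _ _) (siegO_mem_S Q _ _ _ _)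

theorem good_orth (fr : Frame3 Q) {x : ι → F} (hx0 : B Q (fr.e 0) x = 0) (hx1 : B Q (fr.e 1) x = 0)
    (hx2 : B Q (fr.f 1) x = 0) : Good fr (x - Q x • fr.e 1) := by
  have h2 : B Q (fr.e 0) (fr.f 1) = 0 := by
    simp only [B, fr.Bef]; simp
  have hfix : mt Q (siegO Q (fr.e 1) x (fr.Qe 1) hx1) *ᵥ (fr.e 0) = fr.e 0 := by
    rw [siegO_mulVec, B_comm Q x (fr.e 0), hx0]
    simp only [B, fr.Bee]
    simp
  have hmove : mt Q (siegO Q (fr.e 1) x (fr.Qe 1) hx1) *ᵥ (fr.f 1) - fr.f 1 =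
      x - Q x • fr.e 1 := by
    rw [siegO_mulVec, B_comm Q x (fr.f 1), hx2]
    simp only [B, fr.Bef]
    simp
    module
  have h3 : B Q (fr.e 0) (x - Q x • fr.e 1) = 0 := by
    show QuadraticMap.polar ⇑Q (fr.e 0) (x - Q x • fr.e 1) = 0
    rw [QuadraticMap.polar_sub_right, QuadraticMap.polar_smul_right, fr.Bee]
    simp only [B] at hx0
    rw [hx0]; simp
  refine ⟨h3, ?_⟩
  have := comm_siegO (siegO Q (fr.e 1) x (fr.Qe 1) hx1) (fr.Qe 0) h2 hfix
    (by rw [hmove]; exact h3)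
  rw [siegO_congr Q (fr.Qe 0) _ (fr.Qe 0) h3 rfl hmove] at this
  rw [← this]
  exact Subgroup.commutator_mem_commutator (siegO_mem_S Q _ _ _ _) (siegO_mem_S Q _ _ _ _)

theorem good_of_orth (fr : Frame3 Q) {v : ι → F} (hv : B Q (fr.e 0) v = 0) : Good fr v := by
  set α := B Q v (fr.f 1) with hα
  set γ := B Q v (fr.e 1) with hγ
  set x := v - α • fr.e 1 - γ • fr.f 1 with hx
  have hx0 : B Q (fr.e 0) x = 0 := by
    rw [hx]
    simp only [B, QuadraticMap.polar_sub_right, QuadraticMap.polar_smul_right, fr.Bee, fr.Bef]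
    simp only [B] at hv
    rw [hv]; simp
  have hx1 : B Q (fr.e 1) x = 0 := by
    rw [hx]
    simp only [B, QuadraticMap.polar_sub_right, QuadraticMap.polar_smul_right, fr.Bee, fr.Bef]
    rw [hγ, B_comm Q v (fr.e 1)]
    simp
  have hx2 : B Q (fr.f 1) x = 0 := by
    rw [hx]
    simp only [B, QuadraticMap.polar_sub_right, QuadraticMap.polar_smul_right, fr.Bfe, fr.Bff]
    rw [hα, B_comm Q v (fr.f 1)]
    simp
  have e : v = (x - Q x • fr.e 1) + Q x • fr.e 1 + α • fr.e 1 + γ • fr.f 1 := by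
    rw [hx]; abel
  rw [e]
  exact (((good_orth fr hx0 hx1 hx2).add (good_smul_e1 fr _)).add (good_smul_e1 fr _)).add
    (good_smul_f1 fr _)

/-- the Siegel subgroup is perfect -/
theorem S_le_comm (hQ : (QuadraticMap.polarBilin Q).Nondegenerate) (fr : Frame3 Q) :
    S Q ≤ ⁅S Q, S Q⁆ := by
  unfold S
  rw [Subgroup.closure_le]
  rintro g ⟨u, v, hu, huv, rfl⟩
  by_cases hu0 : u = 0
  · subst hu0
    rw [siegO_zero_left]
    exact Subgroup.one_mem _
  obtain ⟨g, hg⟩ := witt_single hQ fr hu hu0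
  set v' := mt Q g⁻¹ *ᵥ v with hv'
  have hgv : mt Q g *ᵥ v' = v := by rw [hv', mt_mulVec_inv]
  have h0 : B Q (fr.e 0) v' = 0 := by
    rw [← B_isom Q g, hg, hgv]; exact huv
  obtain ⟨_, hgood⟩ := good_of_orth fr h0
  have hu' : Q (mt Q g *ᵥ fr.e 0) = 0 := by rw [hg]; exact hu
  have huv' : B Q (mt Q g *ᵥ fr.e 0) (mt Q g *ᵥ v') = 0 := by rw [hg, hgv]; exact huv
  have := siegO_conj Q g (fr.Qe 0) h0 hu' huv'
  rw [siegO_congr Q hu' huv' hu huv hg hgv] at this
  rw [SetLike.mem_coe, ← this]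
  exact (inferInstance : (⁅S Q, S Q⁆).Normal).conj_mem _ hgood g

theorem S_le_Omega (hQ : (QuadraticMap.polarBilin Q).Nondegenerate) (fr : Frame3 Q) :
    S Q ≤ Cfsg.Omega F ⇑Q := by
  refine (S_le_comm hQ fr).trans ?_
  unfold Cfsg.Omega
  rw [commutator_def]
  exact Subgroup.commutator_mono le_top le_top

end perfect


section gen

theorem reflO_congr' {u v : ι → F} (h : u = v) (hu : Q u ≠ 0) (hv : Q v ≠ 0) :
    reflO Q u hu = reflO Q v hv := by
  subst h
  rfl

/-- two reflections in vectors of equal norm, both orthogonal to a hyperbolic pair, have their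
product in the Siegel subgroup -/
theorem refl_mul_mem_S {a c e' f' : ι → F} (ha : Q a ≠ 0) (hc : Q c ≠ 0) (hac : Q a = Q c)
    (he' : Q e' = 0) (hf' : Q f' = 0) (hef : B Q e' f' = 1) (hea : B Q e' a = 0)
    (hec : B Q e' c = 0) (hfa : B Q f' a = 0) (hfc : B Q f' c = 0) :
    reflO Q a ha * reflO Q c hc ∈ S Q := by
  have hfe : B Q f' e' = 1 := by rw [B_comm]; exact hef
  have hae : B Q a e' = 0 := by rw [B_comm]; exact hea
  have hce : B Q c e' = 0 := by rw [B_comm]; exact hec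
  have haf : B Q a f' = 0 := by rw [B_comm]; exact hfa
  have hcf : B Q c f' = 0 := by rw [B_comm]; exact hfc
  have hee : B Q e' e' = 0 := B_self_of_singular Q he'
  have hff : B Q f' f' = 0 := B_self_of_singular Q hf'
  have haa : B Q a a = 2 * Q a := B_self Q a
  have hcc : B Q c c = 2 * Q c := B_self Q c
  have hacB : B Q a c = B Q c a := B_comm Q a c
  set d := c - a with hd
  set qd := Q d with hqd
  have hQd : qd = Q c + Q a - B Q c a := Spin.map_sub'' Q c a
  set a₁ := a + (1 : F) • e' with ha₁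
  set δ := d + qd • f' - e' with hδ
  set a₂ := a₁ + (1 : F) • δ with ha₂
  set c' := a₂ + (-qd) • f' with hc'
  simp only [B] at hfe hae hce haf hcf hee hff haa hcc hacB hef hea hec hfa hfc
  have hde : B Q d e' = 0 := by
    rw [hd]
    simp only [B, QuadraticMap.polar_sub_left, hce, hae, sub_zero]
  have hdf : B Q d f' = 0 := by
    rw [hd]
    simp only [B, QuadraticMap.polar_sub_left, hcf, haf, sub_zero]
  have hda : B Q d a = - qd := by
    rw [hQd, hd]
    simp only [B, QuadraticMap.polar_sub_left, haa]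
    rw [hac]
    ring
  simp only [B] at hde hdf hda
  have hQδ : Q δ = 0 := by
    rw [hδ, Spin.map_sub'' Q (d + qd • f') e', Q_add, Q_smul, he', hf']
    simp only [B, QuadraticMap.polar_add_left, QuadraticMap.polar_smul_left,
      QuadraticMap.polar_smul_right, smul_eq_mul, hde, hdf, hfe]
    rw [← hqd]
    ring
  have hQa₁ : Q a₁ = Q a := by
    rw [ha₁, Q_add, Q_smul, he']
    simp only [B, QuadraticMap.polar_smul_right, smul_eq_mul, hae]
    ring
  have hδa₁ : B Q δ a₁ = 0 := by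
    rw [hδ, ha₁]
    simp only [B, QuadraticMap.polar_add_left, QuadraticMap.polar_sub_left,
      QuadraticMap.polar_smul_left, QuadraticMap.polar_add_right,
      QuadraticMap.polar_smul_right, smul_eq_mul, hde, hda, hfa, hfe, hea, hee]
    ring
  have hQa₂ : Q a₂ = Q a := by
    rw [ha₂, Q_add, Q_smul, hQδ, hQa₁]
    simp only [B, QuadraticMap.polar_smul_right, smul_eq_mul]
    rw [QuadraticMap.polar_comm]
    simp only [B] at hδa₁
    rw [hδa₁]
    ring
  have hf'a₂ : B Q f' a₂ = 0 := by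
    rw [ha₂, ha₁, hδ]
    simp only [B, QuadraticMap.polar_add_right, QuadraticMap.polar_sub_right,
      QuadraticMap.polar_smul_right, smul_eq_mul, hfa, hfe, hff]
    rw [QuadraticMap.polar_comm (⇑Q) f' d, hdf]
    ring
  have hc'c : c' = c := by
    rw [hc', ha₂, ha₁, hδ, hd]
    module
  have hQc' : Q c' = Q a := by rw [hc'c, hac]
  have n1 : Q a₁ ≠ 0 := by rw [hQa₁]; exact ha
  have n2 : Q a₂ ≠ 0 := by rw [hQa₂]; exact ha
  have n3 : Q c' ≠ 0 := by rw [hQc']; exact ha
  have s1 : reflO Q a ha * reflO Q a₁ n1 ∈ S Q := by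
    rw [reflO_mul_reflO Q 1 he' hea ha n1 (B_smul_right_zero Q _ hea)]
    exact siegO_mem_S Q _ _ _ _
  have s2 : reflO Q a₁ n1 * reflO Q a₂ n2 ∈ S Q := by
    rw [reflO_mul_reflO Q 1 hQδ hδa₁ n1 n2 (B_smul_right_zero Q _ hδa₁)]
    exact siegO_mem_S Q _ _ _ _
  have s3 : reflO Q a₂ n2 * reflO Q c' n3 ∈ S Q := by
    rw [reflO_mul_reflO Q (-qd) hf' hf'a₂ n2 n3 (B_smul_right_zero Q _ hf'a₂)]
    exact siegO_mem_S Q _ _ _ _
  rw [reflO_congr' hc'c n3 hc] at s3
  have h1 := reflO_mul_self Q a₁ n1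
  have h2 := reflO_mul_self Q a₂ n2
  have : reflO Q a ha * reflO Q c hc =
      (reflO Q a ha * reflO Q a₁ n1) * (reflO Q a₁ n1 * reflO Q a₂ n2) *
        (reflO Q a₂ n2 * reflO Q c hc) := by
    calc reflO Q a ha * reflO Q c hc
        = reflO Q a ha * (reflO Q a₁ n1 * reflO Q a₁ n1) * (reflO Q a₂ n2 * reflO Q a₂ n2) *
            reflO Q c hc := by rw [h1, h2]; group
      _ = _ := by group
  rw [this]
  exact Subgroup.mul_mem _ (Subgroup.mul_mem _ s1 s2) s3


/-- if the reflections generate the isometry group, then `Ω ≤ S` -/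
theorem Omega_le_S (hQ : (QuadraticMap.polarBilin Q).Nondegenerate) (fr : Frame3 Q)
    (hgen : ∀ (H : Subgroup ↥(Cfsg.isometryGroup F ⇑Q)),
      (∀ (v : ι → F) (hv : Q v ≠ 0), reflO Q v hv ∈ H) → ∀ g, g ∈ H) :
    Cfsg.Omega F ⇑Q ≤ S Q := by
  set π := QuotientGroup.mk' (S Q) with hπ
  -- reflections commute modulo `S`
  have hA : ∀ (u v : ι → F) (hu : Q u ≠ 0) (hv : Q v ≠ 0),
      π (reflO Q u hu) * π (reflO Q v hv) = π (reflO Q v hv) * π (reflO Q u hu) := by
    intro u v hu hv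
    by_cases hind : Indep v u
    · rw [← map_mul, ← map_mul, hπ, QuotientGroup.mk'_apply, QuotientGroup.mk'_apply,
        QuotientGroup.eq, _root_.mul_inv_rev, reflO_inv, reflO_inv]
      have hv' : Q (((reflO Q u hu : GL ι F) : Matrix ι ι F) *ᵥ v) ≠ 0 := by
        rw [isom_apply]; exact hv
      have h1 : reflO Q v hv * reflO Q u hu * (reflO Q v hv * reflO Q u hu) =
          reflO Q v hv * reflO Q (((reflO Q u hu : GL ι F) : Matrix ι ι F) *ᵥ v) hv' := by
        rw [reflO_conj Q (reflO Q u hu) v hv hv', reflO_inv]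
        group
      rw [h1]
      obtain ⟨e', f', he', hf', hef, hev, heu, hfv, hfu⟩ := exists_hyp_orth hQ fr hind
      have hc : ((reflO Q u hu : GL ι F) : Matrix ι ι F) *ᵥ v =
          v - ((Q u)⁻¹ * QuadraticMap.polar ⇑Q u v) • u := by
        rw [reflO_val, Spin.refl_mulVec]
      apply refl_mul_mem_S hv hv' (by rw [isom_apply]) he' hf' hef hev _ hfv _
      · rw [hc]
        simp only [B, QuadraticMap.polar_sub_right, QuadraticMap.polar_smul_right] at hev heu ⊢
        rw [hev, heu]; simp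
      · rw [hc]
        simp only [B, QuadraticMap.polar_sub_right, QuadraticMap.polar_smul_right] at hfv hfu ⊢
        rw [hfv, hfu]; simp
    · unfold Indep at hind
      push Not at hind
      obtain ⟨x, y, hxy, hne⟩ := hind
      have hv0 : v ≠ 0 := by
        intro h; apply hv; rw [h]; exact QuadraticMap.map_zero _
      have hu0 : u ≠ 0 := by
        intro h; apply hu; rw [h]; exact QuadraticMap.map_zero _
      have hy : y ≠ 0 := by
        intro hy
        subst hy
        rw [zero_smul, add_zero] at hxy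
        rcases smul_eq_zero.1 hxy with h | h
        · exact hne h rfl
        · exact hv0 h
      have hut : u = (-(y⁻¹ * x)) • v := by
        have h1 : y • u = -(x • v) := by
          rw [eq_neg_iff_add_eq_zero, add_comm]; exact hxy
        calc u = y⁻¹ • (y • u) := by rw [smul_smul, inv_mul_cancel₀ hy, one_smul]
          _ = (-(y⁻¹ * x)) • v := by rw [h1, smul_neg, smul_smul, neg_smul]
      have ht : -(y⁻¹ * x) ≠ 0 := by
        intro h
        rw [h, zero_smul] at hut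
        exact hu0 hut
      have hv' : Q ((-(y⁻¹ * x)) • v) ≠ 0 := by rw [← hut]; exact hu
      have : reflO Q u hu = reflO Q v hv := by
        rw [reflO_congr' hut hu hv', reflO_smul Q v hv ht hv']
      rw [this]
  have hB : ∀ (u : ι → F) (hu : Q u ≠ 0) (h : ↥(Cfsg.isometryGroup F ⇑Q)),
      π (reflO Q u hu) * π h = π h * π (reflO Q u hu) := by
    intro u hu h
    have := hgen
      ((Subgroup.centralizer {π (reflO Q u hu)}).comap π)
      (by
        intro v hv
        rw [Subgroup.mem_comap, Subgroup.mem_centralizer_iff]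
        intro x hx
        rw [Set.mem_singleton_iff] at hx
        rw [hx]
        exact hA u v hu hv) h
    rw [Subgroup.mem_comap, Subgroup.mem_centralizer_iff] at this
    exact this _ rfl
  have hC : ∀ g h : ↥(Cfsg.isometryGroup F ⇑Q), π g * π h = π h * π g := by
    intro g h
    have := hgen
      ((Subgroup.centralizer {π h}).comap π)
      (by
        intro v hv
        rw [Subgroup.mem_comap, Subgroup.mem_centralizer_iff]
        intro x hx
        rw [Set.mem_singleton_iff] at hx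
        rw [hx]
        exact (hB v hv h).symm) g
    rw [Subgroup.mem_comap, Subgroup.mem_centralizer_iff] at this
    exact (this _ rfl).symm
  unfold Cfsg.Omega
  rw [commutator_def, Subgroup.commutator_le]
  intro g _ h _
  have hker : ⁅g, h⁆ ∈ π.ker := by
    rw [MonoidHom.mem_ker, commutatorElement_def, map_mul, map_mul, map_mul, map_inv, map_inv,
      hC g h]
    group
  rw [hπ, QuotientGroup.ker_mk'] at hker
  exact hker

theorem Omega_eq_S (hQ : (QuadraticMap.polarBilin Q).Nondegenerate) (fr : Frame3 Q)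
    (hgen : ∀ (H : Subgroup ↥(Cfsg.isometryGroup F ⇑Q)),
      (∀ (v : ι → F) (hv : Q v ≠ 0), reflO Q v hv ∈ H) → ∀ g, g ∈ H) :
    Cfsg.Omega F ⇑Q = S Q :=
  le_antisymm (Omega_le_S hQ fr hgen) (S_le_Omega hQ fr)

/-- `Ω` is perfect -/
theorem Omega_perfect' (hQ : (QuadraticMap.polarBilin Q).Nondegenerate) (fr : Frame3 Q)
    (hgen : ∀ (H : Subgroup ↥(Cfsg.isometryGroup F ⇑Q)),
      (∀ (v : ι → F) (hv : Q v ≠ 0), reflO Q v hv ∈ H) → ∀ g, g ∈ H) :
    commutator ↥(Cfsg.Omega F ⇑Q) = ⊤ := by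
  rw [eq_top_iff]
  intro x _
  have hx : (x : ↥(Cfsg.isometryGroup F ⇑Q)) ∈ ⁅Cfsg.Omega F ⇑Q, Cfsg.Omega F ⇑Q⁆ := by
    have h1 : (x : ↥(Cfsg.isometryGroup F ⇑Q)) ∈ S Q := by
      rw [← Omega_eq_S hQ fr hgen]; exact x.2
    have h2 := S_le_comm hQ fr h1
    have h3 : ⁅S Q, S Q⁆ ≤ ⁅Cfsg.Omega F ⇑Q, Cfsg.Omega F ⇑Q⁆ :=
      Subgroup.commutator_mono (S_le_Omega hQ fr) (S_le_Omega hQ fr)
    exact h3 h2
  rw [← Subgroup.map_subtype_commutator] at hx
  obtain ⟨y, hy, hyx⟩ := hx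
  have : y = x := Subtype.ext hyx
  rw [← this]
  exact hy

end gen

end Cfsg.Agent.Helper28.Sg
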