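import Mathlib
import Cfsg.Agent.Helper28.Siegel3

set_option autoImplicit false
set_option linter.unusedSectionVars false

/-! The Iwasawa argument for `Ω` acting on singular points. -/

namespace Cfsg.Agent.Helper28.Sg

open Matrix Module Cfsg.Agent.Helper28.IsoTransport Cfsg.Agent.Helper28.Spin
open scoped commutatorElement

variable {F : Type*} [Field F] {ι : Type} [Fintype ι] [DecidableEq ι]
  {Q : QuadraticForm F (ι → F)}

/-- `S` is transitive on singular points -/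
theorem S_trans (hQ : (QuadraticMap.polarBilin Q).Nondegenerate) (fr : Frame3 Q)
    {a u : ι → F} (ha : Q a = 0) (hu : Q u = 0) (ha0 : a ≠ 0) (hu0 : u ≠ 0) :
    ∃ s ∈ S Q, ∃ c : F, c ≠ 0 ∧ mt Q s *ᵥ a = c • u := by
  by_cases hprop : ∃ c : F, u = c • a
  · obtain ⟨c, hc⟩ := hprop
    have hc0 : c ≠ 0 := by
      intro h; rw [h, zero_smul] at hc; exact hu0 hc
    refine ⟨1, Subgroup.one_mem _, c⁻¹, inv_ne_zero hc0, ?_⟩
    rw [mt_one_mulVec, hc, smul_smul, inv_mul_cancel₀ hc0, one_smul]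
  · have hind := indep_of_not_smul ha0 hprop
    obtain ⟨z, hz, hza, hzu⟩ := exists_common_partner hQ fr ha hu hind
    have h : B Q z (u - a) = 0 := by
      show QuadraticMap.polar ⇑Q z (u - a) = 0
      rw [QuadraticMap.polar_sub_right]
      simp only [B] at hza hzu
      rw [hza, hzu, sub_self]
    refine ⟨siegO Q z (u - a) hz h, siegO_mem_S Q _ _ _ _, 1, one_ne_zero, ?_⟩
    rw [siegO_move hz ha hu hza hzu h, one_smul]

section rel

variable (N₀ : Subgroup ↥(Cfsg.isometryGroup F ⇑Q))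

/-- two vectors are related if some element of `N₀` maps the first to a multiple of the second -/
def Rel (u y : ι → F) : Prop := ∃ n ∈ N₀, ∃ c : F, c ≠ 0 ∧ mt Q n *ᵥ u = c • y

variable {N₀}

theorem Rel.refl (u : ι → F) : Rel N₀ u u :=
  ⟨1, Subgroup.one_mem _, 1, one_ne_zero, by rw [mt_one_mulVec, one_smul]⟩

theorem Rel.symm {u y : ι → F} (h : Rel N₀ u y) : Rel N₀ y u := by
  obtain ⟨n, hn, c, hc, h⟩ := h
  refine ⟨n⁻¹, Subgroup.inv_mem _ hn, c⁻¹, inv_ne_zero hc, ?_⟩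
  have h1 : mt Q n⁻¹ *ᵥ (c • y) = u := by rw [← h, mt_inv_mulVec]
  rw [Matrix.mulVec_smul] at h1
  rw [← h1, smul_smul, inv_mul_cancel₀ hc, one_smul]

theorem Rel.trans {u y z : ι → F} (h1 : Rel N₀ u y) (h2 : Rel N₀ y z) : Rel N₀ u z := by
  obtain ⟨n, hn, c, hc, h⟩ := h1
  obtain ⟨m, hm, d, hd, h'⟩ := h2
  refine ⟨m * n, Subgroup.mul_mem _ hm hn, c * d, mul_ne_zero hc hd, ?_⟩
  rw [mt_mul_mulVec, h, Matrix.mulVec_smul, h', smul_smul]

theorem Rel.of_smul_right {u y : ι → F} {c : F} (hc : c ≠ 0) (h : Rel N₀ u (c • y)) :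
    Rel N₀ u y := by
  obtain ⟨n, hn, d, hd, h⟩ := h
  exact ⟨n, hn, d * c, mul_ne_zero hd hc, by rw [h, smul_smul]⟩

theorem Rel.conj {u y : ι → F} (h : Rel N₀ u y) (s : ↥(Cfsg.isometryGroup F ⇑Q))
    (hs : ∀ n ∈ N₀, s * n * s⁻¹ ∈ N₀) : Rel N₀ (mt Q s *ᵥ u) (mt Q s *ᵥ y) := by
  obtain ⟨n, hn, c, hc, h⟩ := h
  refine ⟨s * n * s⁻¹, hs n hn, c, hc, ?_⟩
  rw [mt_mul_mulVec, mt_mul_mulVec, mt_inv_mulVec, h, Matrix.mulVec_smul]

variable (hN2 : ∀ s ∈ S Q, ∀ n ∈ N₀, s * n * s⁻¹ ∈ N₀)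

include hN2 in
theorem step2a {u w y : ι → F} (hu : Q u = 0) (hw : Q w = 0) (hy : Q y = 0)
    (huw : B Q u w ≠ 0) (huy : B Q u y ≠ 0) (h : Rel N₀ u w) : Rel N₀ u y := by
  set w' := (B Q u w)⁻¹ • w with hw'
  set y' := (B Q u y)⁻¹ • y with hy'
  have hQw' : Q w' = 0 := by rw [hw', Q_smul, hw, mul_zero]
  have hQy' : Q y' = 0 := by rw [hy', Q_smul, hy, mul_zero]
  have huw' : B Q u w' = 1 := by
    show QuadraticMap.polar ⇑Q u w' = 1
    rw [hw', QuadraticMap.polar_smul_right, smul_eq_mul]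
    exact inv_mul_cancel₀ huw
  have huy' : B Q u y' = 1 := by
    show QuadraticMap.polar ⇑Q u y' = 1
    rw [hy', QuadraticMap.polar_smul_right, smul_eq_mul]
    exact inv_mul_cancel₀ huy
  have hd : B Q u (y' - w') = 0 := by
    show QuadraticMap.polar ⇑Q u (y' - w') = 0
    rw [QuadraticMap.polar_sub_right]
    simp only [B] at huw' huy'
    rw [huw', huy', sub_self]
  have h1 := h.conj (siegO Q u (y' - w') hu hd) (hN2 _ (siegO_mem_S Q _ _ _ _))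
  rw [siegO_fix hu hd] at h1
  have h2 : mt Q (siegO Q u (y' - w') hu hd) *ᵥ w = (B Q u w * (B Q u y)⁻¹) • y := by
    have : w = B Q u w • w' := by rw [hw', smul_smul, mul_inv_cancel₀ huw, one_smul]
    conv_lhs => rw [this]
    rw [Matrix.mulVec_smul, siegO_move hu hQw' hQy' huw' huy' hd, hy', smul_smul]
  rw [h2] at h1
  exact h1.of_smul_right (mul_ne_zero huw (inv_ne_zero huy))

include hN2 in
theorem step2b (hQ : (QuadraticMap.polarBilin Q).Nondegenerate) (fr : Frame3 Q)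
    {u w : ι → F} (hu : Q u = 0) (hw : Q w = 0)
    (huw : B Q u w ≠ 0) (h : Rel N₀ u w) {x : ι → F} (hx : Q x = 0) (hx0 : x ≠ 0) :
    Rel N₀ u x := by
  have hu0 : u ≠ 0 := by
    intro h0
    apply huw
    rw [h0]
    exact QuadraticMap.polar_zero_left _ _
  by_cases hux : B Q u x ≠ 0
  · exact step2a hN2 hu hw hx huw hux h
  · push Not at hux
    by_cases hprop : ∃ c : F, x = c • u
    · obtain ⟨c, hc⟩ := hprop
      have hc0 : c ≠ 0 := by
        intro h; rw [h, zero_smul] at hc; exact hx0 hc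
      refine ⟨1, Subgroup.one_mem _, c⁻¹, inv_ne_zero hc0, ?_⟩
      rw [mt_one_mulVec, hc, smul_smul, inv_mul_cancel₀ hc0, one_smul]
    · have hind := indep_of_not_smul hu0 hprop
      obtain ⟨y, hy, hyu, hyx⟩ := exists_common_partner hQ fr hu hx hind
      have huy : B Q u y ≠ 0 := by rw [B_comm, hyu]; exact one_ne_zero
      have h1 : Rel N₀ u y := step2a hN2 hu hw hy huw huy h
      have h2 : Rel N₀ y x := step2a hN2 hy hu hx (by rw [hyu]; exact one_ne_zero)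
        (by rw [hyx]; exact one_ne_zero) h1.symm
      exact h1.trans h2

include hN2 in
theorem step1' (hQ : (QuadraticMap.polarBilin Q).Nondegenerate) (fr : Frame3 Q)
    {n₀ : ↥(Cfsg.isometryGroup F ⇑Q)} (hn₀ : n₀ ∈ N₀) {a : ι → F} (ha : Q a = 0)
    (hna : ¬ ∃ c : F, mt Q n₀ *ᵥ a = c • a) {u : ι → F} (hu : Q u = 0) (hu0 : u ≠ 0) :
    ∃ n ∈ N₀, ¬ ∃ c : F, mt Q n *ᵥ u = c • u := by
  have ha0 : a ≠ 0 := by
    intro h
    apply hna
    exact ⟨0, by rw [h, Matrix.mulVec_zero, smul_zero]⟩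
  obtain ⟨s, hs, c, hc, hsa⟩ := S_trans hQ fr ha hu ha0 hu0
  refine ⟨s * n₀ * s⁻¹, hN2 s hs n₀ hn₀, ?_⟩
  rintro ⟨d, hd⟩
  apply hna
  refine ⟨d, ?_⟩
  have h1 : mt Q s⁻¹ *ᵥ u = c⁻¹ • a := by
    have : u = c⁻¹ • (mt Q s *ᵥ a) := by rw [hsa, smul_smul, inv_mul_cancel₀ hc, one_smul]
    rw [this, Matrix.mulVec_smul, mt_inv_mulVec]
  rw [mt_mul_mulVec, mt_mul_mulVec, h1, Matrix.mulVec_smul, Matrix.mulVec_smul] at hd
  have h2 : mt Q s *ᵥ (mt Q n₀ *ᵥ a) = mt Q s *ᵥ (d • a) := by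
    rw [Matrix.mulVec_smul, hsa]
    have := congrArg (fun z => c • z) hd
    simp only [smul_smul, mul_inv_cancel₀ hc, one_smul] at this
    rw [this, mul_comm, smul_smul]
  have := congrArg (fun z => mt Q s⁻¹ *ᵥ z) h2
  simp only [mt_inv_mulVec] at this
  exact this

include hN2 in
theorem step2c (hQ : (QuadraticMap.polarBilin Q).Nondegenerate) (fr : Frame3 Q)
    {n₀ : ↥(Cfsg.isometryGroup F ⇑Q)} (hn₀ : n₀ ∈ N₀) {a : ι → F} (ha : Q a = 0)
    (hna : ¬ ∃ c : F, mt Q n₀ *ᵥ a = c • a) {u x : ι → F} (hu : Q u = 0) (hu0 : u ≠ 0)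
    (hx : Q x = 0) (hx0 : x ≠ 0) : Rel N₀ u x := by
  obtain ⟨n, hn, hnu⟩ := step1' hN2 hQ fr hn₀ ha hna hu hu0
  set w := mt Q n *ᵥ u with hw
  have hQw : Q w = 0 := by rw [hw, Spin.isom_apply]; exact hu
  have huw : Rel N₀ u w := ⟨n, hn, 1, one_ne_zero, by rw [one_smul]⟩
  by_cases hB : B Q u w ≠ 0
  · exact step2b hN2 hQ fr hu hQw hB huw hx hx0
  · push Not at hB
    have hind := indep_of_not_smul hu0 hnu
    obtain ⟨s, hs, hsu, hsw⟩ := exists_sieg_nonorth hQ fr hu hQw hB hind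
    have h1 := huw.conj s (hN2 s hs)
    rw [hsu] at h1
    have h2 : Rel N₀ w (mt Q s *ᵥ w) := huw.symm.trans h1
    have hQsw : Q (mt Q s *ᵥ w) = 0 := by rw [Spin.isom_apply]; exact hQw
    have h3 : Rel N₀ w x := step2b hN2 hQ fr hQw hQsw (by rw [B_comm]; exact hsw) h2 hx hx0
    exact huw.trans h3

end rel

/-- the (abelian) group of Siegel transformations attached to a singular vector -/
def T (u : ι → F) (hu : Q u = 0) : Subgroup ↥(Cfsg.isometryGroup F ⇑Q) where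
  carrier := {g | ∃ (v : ι → F) (h : B Q u v = 0), g = siegO Q u v hu h}
  one_mem' := ⟨0, QuadraticMap.polar_zero_right _ _, (siegO_zero Q u hu _).symm⟩
  mul_mem' := by
    rintro a b ⟨v, hv, rfl⟩ ⟨w, hw, rfl⟩
    exact ⟨v + w, B_add_right_zero Q hv hw, siegO_mul Q hu hv hw _⟩
  inv_mem' := by
    rintro a ⟨v, hv, rfl⟩
    exact ⟨-v, by rw [B_neg_right, hv, neg_zero], siegO_inv Q hu hv _⟩

theorem T_le_S (u : ι → F) (hu : Q u = 0) : T u hu ≤ S Q := by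
  rintro g ⟨v, hv, rfl⟩
  exact siegO_mem_S Q _ _ _ _

theorem T_comm (u : ι → F) (hu : Q u = 0) {a b : ↥(Cfsg.isometryGroup F ⇑Q)}
    (ha : a ∈ T u hu) (hb : b ∈ T u hu) : a * b = b * a := by
  obtain ⟨v, hv, rfl⟩ := ha
  obtain ⟨w, hw, rfl⟩ := hb
  rw [siegO_mul Q hu hv hw (B_add_right_zero Q hv hw),
    siegO_mul Q hu hw hv (B_add_right_zero Q hw hv)]
  exact siegO_congr Q hu _ hu _ rfl (add_comm v w)

/-- the Iwasawa step: `S ≤ N₀ ⊔ T u` -/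
theorem S_le_sup (hQ : (QuadraticMap.polarBilin Q).Nondegenerate) (fr : Frame3 Q)
    {N₀ : Subgroup ↥(Cfsg.isometryGroup F ⇑Q)}
    (hN2 : ∀ s ∈ S Q, ∀ n ∈ N₀, s * n * s⁻¹ ∈ N₀)
    {n₀ : ↥(Cfsg.isometryGroup F ⇑Q)} (hn₀ : n₀ ∈ N₀) {a : ι → F} (ha : Q a = 0)
    (hna : ¬ ∃ c : F, mt Q n₀ *ᵥ a = c • a) {u : ι → F} (hu : Q u = 0) (hu0 : u ≠ 0) :
    S Q ≤ N₀ ⊔ T u hu := by
  unfold S
  rw [Subgroup.closure_le]
  rintro g ⟨y, v, hy, hyv, rfl⟩
  rw [SetLike.mem_coe]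
  by_cases hy0 : y = 0
  · subst hy0
    rw [siegO_zero_left]
    exact Subgroup.one_mem _
  obtain ⟨n, hn, c, hc, hnu⟩ := step2c hN2 hQ fr hn₀ ha hna hu hu0 hy hy0
  -- `y = c⁻¹ • n u`
  set v' := mt Q n⁻¹ *ᵥ (c⁻¹ • v) with hv'
  have hnv' : mt Q n *ᵥ v' = c⁻¹ • v := by rw [hv', mt_mulVec_inv]
  have hy' : y = c⁻¹ • (mt Q n *ᵥ u) := by rw [hnu, smul_smul, inv_mul_cancel₀ hc, one_smul]
  have huv' : B Q u v' = 0 := by
    rw [← B_isom Q n, hnu, hnv']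
    simp only [B, QuadraticMap.polar_smul_left, QuadraticMap.polar_smul_right, smul_eq_mul]
    simp only [B] at hyv
    rw [hyv]; simp
  have hnu' : Q (mt Q n *ᵥ u) = 0 := by rw [Spin.isom_apply]; exact hu
  have hnuv' : B Q (mt Q n *ᵥ u) (mt Q n *ᵥ v') = 0 := by rw [B_isom]; exact huv'
  have h1 := siegO_conj Q n hu huv' hnu' hnuv'
  have hnuv : B Q (mt Q n *ᵥ u) (c⁻¹ • v) = 0 := by rw [← hnv']; exact hnuv'
  have hcnu : Q (c⁻¹ • (mt Q n *ᵥ u)) = 0 := by rw [← hy']; exact hy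
  have hcnuv : B Q (c⁻¹ • (mt Q n *ᵥ u)) v = 0 := by rw [← hy']; exact hyv
  have hnuv0 : B Q (mt Q n *ᵥ u) v = 0 := by
    have := hnuv
    simp only [B, QuadraticMap.polar_smul_right, smul_eq_mul] at this
    rcases mul_eq_zero.1 this with h | h
    · exact absurd h (inv_ne_zero hc)
    · exact h
  have h2 : siegO Q y v hy hyv = siegO Q (mt Q n *ᵥ u) (c⁻¹ • v) hnu' hnuv := by
    rw [siegO_congr Q hy hyv hcnu hcnuv hy' rfl]
    exact siegO_smul Q c⁻¹ hnu' hnuv0 hcnu hcnuv hnuv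
  rw [h2, ← siegO_congr Q hnu' hnuv' hnu' hnuv rfl hnv', ← h1]
  apply Subgroup.mul_mem _ (Subgroup.mul_mem _ (Subgroup.mem_sup_left hn) _)
    (Subgroup.mem_sup_left (Subgroup.inv_mem _ hn))
  exact Subgroup.mem_sup_right ⟨v', huv', rfl⟩

end Cfsg.Agent.Helper28.Sg
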