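import Mathlib
import Cfsg.Agent.Helper28.Siegel4

set_option autoImplicit false
set_option linter.unusedSectionVars false

/-! Simplicity of `PΩ` for a quadratic form with non-degenerate polar form containing three
orthogonal hyperbolic pairs, provided the reflections generate the isometry group. -/

namespace Cfsg.Agent.Helper28.Sg

open Matrix Module Cfsg.Agent.Helper28.IsoTransport Cfsg.Agent.Helper28.Spin
open scoped commutatorElement

variable {F : Type*} [Field F] {ι : Type} [Fintype ι] [DecidableEq ι]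
  {Q : QuadraticForm F (ι → F)}

theorem indep_of_third {a e' f' : ι → F} (ha0 : a ≠ 0) (hef : B Q e' f' = 1)
    (hfa : B Q f' a = 0) : Indep a e' := by
  intro x y hxy
  have h1 := congrArg (fun z => B Q z f') hxy
  simp only [B, QuadraticMap.polar_add_left, QuadraticMap.polar_smul_left, smul_eq_mul,
    QuadraticMap.polar_zero_left] at h1
  simp only [B] at hef hfa
  rw [QuadraticMap.polar_comm (⇑Q) a f', hfa, hef, mul_zero, zero_add, mul_one] at h1
  subst h1
  rw [zero_smul, add_zero] at hxy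
  rcases smul_eq_zero.1 hxy with h | h
  · exact ⟨h, rfl⟩
  · exact absurd h ha0

theorem Frame3.e_ne_zero (fr : Frame3 Q) (i : Fin 3) : fr.e i ≠ 0 := by
  intro h
  have := fr.Bef i i
  rw [h, QuadraticMap.polar_zero_left, if_pos rfl] at this
  exact zero_ne_one this

section scalar

variable (g : ↥(Cfsg.isometryGroup F ⇑Q))
  (hfix : ∀ x, Q x = 0 → ∃ c : F, mt Q g *ᵥ x = c • x)

include hfix in
theorem eig_orth {x y : ι → F} (hx : Q x = 0) (hy : Q y = 0) (hxy : B Q x y = 0)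
    (hind : Indep x y) {c d : F} (hgx : mt Q g *ᵥ x = c • x) (hgy : mt Q g *ᵥ y = d • y) :
    c = d := by
  have hxy' : Q (x + y) = 0 := by rw [Q_add, hx, hy, hxy]; simp
  obtain ⟨m, hm⟩ := hfix (x + y) hxy'
  rw [Matrix.mulVec_add, hgx, hgy, smul_add] at hm
  have h0 : (c - m) • x + (d - m) • y = 0 := by
    rw [sub_smul, sub_smul]
    have : c • x + d • y - (m • x + m • y) = 0 := by rw [hm, sub_self]
    rw [← this]; abel
  obtain ⟨h1, h2⟩ := hind _ _ h0
  rw [sub_eq_zero] at h1 h2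
  rw [h1, h2]

include hfix in
theorem eig_all (hQ : (QuadraticMap.polarBilin Q).Nondegenerate) (fr : Frame3 Q) {l : F}
    (hl : mt Q g *ᵥ (fr.e 0) = l • fr.e 0) {x : ι → F} (hx : Q x = 0) :
    mt Q g *ᵥ x = l • x := by
  by_cases hx0 : x = 0
  · rw [hx0, Matrix.mulVec_zero, smul_zero]
  by_cases hprop : ∃ t : F, x = t • fr.e 0
  · obtain ⟨t, ht⟩ := hprop
    rw [ht, Matrix.mulVec_smul, hl, smul_comm]
  · have hind := indep_of_not_smul (fr.e_ne_zero 0) hprop
    obtain ⟨e', f', he', hf', hef, hee0, hex, hfe0, hfx⟩ := exists_hyp_orth hQ fr hind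
    obtain ⟨c, hc⟩ := hfix x hx
    obtain ⟨m, hm⟩ := hfix e' he'
    have h1 : l = m := eig_orth g hfix (fr.Qe 0) he' (by rw [B_comm]; exact hee0)
      (indep_of_third (fr.e_ne_zero 0) hef hfe0) hl hm
    have h2 : c = m := eig_orth g hfix hx he' (by rw [B_comm]; exact hex)
      (indep_of_third hx0 hef hfx) hc hm
    rw [hc, h2, ← h1]

include hfix in
/-- an isometry fixing all singular points is a scalar -/
theorem scalar_of_fix_singular (hQ : (QuadraticMap.polarBilin Q).Nondegenerate)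
    (fr : Frame3 Q) : ∃ l : F, ∀ x, mt Q g *ᵥ x = l • x := by
  obtain ⟨l, hl⟩ := hfix (fr.e 0) (fr.Qe 0)
  refine ⟨l, fun x => ?_⟩
  have hsing : ∀ y, Q y = 0 → mt Q g *ᵥ y = l • y := fun y hy => eig_all g hfix hQ fr hl hy
  set α := B Q x (fr.f 0) with hα
  set γ := B Q x (fr.e 0) with hγ
  set x' := x - α • fr.e 0 - γ • fr.f 0 with hx'
  have h1 : B Q (fr.e 0) x' = 0 := by
    rw [hx']
    simp only [B, QuadraticMap.polar_sub_right, QuadraticMap.polar_smul_right, fr.Bee, fr.Bef]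
    rw [hγ, B_comm Q x (fr.e 0)]
    simp
  have h2 : B Q (fr.f 0) x' = 0 := by
    rw [hx']
    simp only [B, QuadraticMap.polar_sub_right, QuadraticMap.polar_smul_right, fr.Bfe, fr.Bff]
    rw [hα, B_comm Q x (fr.f 0)]
    simp
  set s := fr.e 0 + (-(Q x')) • fr.f 0 + x' with hs
  have hQs : Q s = 0 := by
    rw [hs, Q_add, Q_add, Q_smul, fr.Qe, fr.Qf]
    simp only [B, QuadraticMap.polar_add_left, QuadraticMap.polar_smul_left,
      QuadraticMap.polar_smul_right, fr.Bef, smul_eq_mul]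
    simp only [B] at h1 h2
    rw [h1, h2]
    simp
  have hx : x = s + (α - 1) • fr.e 0 + (γ + Q x') • fr.f 0 := by
    rw [hs, hx']
    module
  rw [hx, Matrix.mulVec_add, Matrix.mulVec_add, Matrix.mulVec_smul, Matrix.mulVec_smul,
    hsing s hQs, hsing _ (fr.Qe 0), hsing _ (fr.Qf 0)]
  module

end scalar

theorem comm_of_scalar {g : ↥(Cfsg.isometryGroup F ⇑Q)} {l : F}
    (hl : ∀ x, mt Q g *ᵥ x = l • x) (h : ↥(Cfsg.isometryGroup F ⇑Q)) : h * g = g * h := by
  apply O_ext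
  intro x
  rw [mt_mul_mulVec, mt_mul_mulVec, hl, hl, Matrix.mulVec_smul]

/-- every normal subgroup of `Ω` is central or everything -/
theorem normal_cases (hQ : (QuadraticMap.polarBilin Q).Nondegenerate) (fr : Frame3 Q)
    (hgen : ∀ (H : Subgroup ↥(Cfsg.isometryGroup F ⇑Q)),
      (∀ (v : ι → F) (hv : Q v ≠ 0), reflO Q v hv ∈ H) → ∀ g, g ∈ H)
    (N : Subgroup ↥(Cfsg.Omega F ⇑Q)) [hN : N.Normal] :
    N ≤ Subgroup.center ↥(Cfsg.Omega F ⇑Q) ∨ N = ⊤ := by
  have hΩ := Omega_eq_S hQ fr hgen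
  by_cases hsc : ∀ n ∈ N, ∀ x, Q x = 0 →
      ∃ c : F, mt Q (n : ↥(Cfsg.isometryGroup F ⇑Q)) *ᵥ x = c • x
  · left
    intro n hn
    obtain ⟨l, hl⟩ := scalar_of_fix_singular (n : ↥(Cfsg.isometryGroup F ⇑Q)) (hsc n hn) hQ fr
    rw [Subgroup.mem_center_iff]
    intro h
    apply Subtype.ext
    exact comm_of_scalar hl (h : ↥(Cfsg.isometryGroup F ⇑Q))
  · right
    push Not at hsc
    obtain ⟨n₁, hn₁, a, ha, hna⟩ := hsc
    set N₀ : Subgroup ↥(Cfsg.isometryGroup F ⇑Q) := N.map (Cfsg.Omega F ⇑Q).subtype with hN₀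
    have hN2 : ∀ s ∈ S Q, ∀ n ∈ N₀, s * n * s⁻¹ ∈ N₀ := by
      intro s hs n hn
      rw [← hΩ] at hs
      obtain ⟨n', hn', rfl⟩ := hn
      let s' : ↥(Cfsg.Omega F ⇑Q) := ⟨s, hs⟩
      have h1 : s' * n' * s'⁻¹ ∈ N := hN.conj_mem n' hn' s'
      have h2 : (Cfsg.Omega F ⇑Q).subtype (s' * n' * s'⁻¹) =
          s * (Cfsg.Omega F ⇑Q).subtype n' * s⁻¹ := by
        rw [map_mul, map_mul, map_inv]
        rfl
      rw [← h2]
      exact Subgroup.mem_map_of_mem _ h1
    have hn₀ : (n₁ : ↥(Cfsg.isometryGroup F ⇑Q)) ∈ N₀ := ⟨n₁, hn₁, rfl⟩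
    have hna' : ¬ ∃ c : F, mt Q (n₁ : ↥(Cfsg.isometryGroup F ⇑Q)) *ᵥ a = c • a := by
      rintro ⟨c, hc⟩
      exact hna c hc
    have hle := S_le_sup hQ fr hN2 hn₀ ha hna' (fr.Qe 0) (fr.e_ne_zero 0)
    set T' : Subgroup ↥(Cfsg.Omega F ⇑Q) := (T (fr.e 0) (fr.Qe 0)).subgroupOf (Cfsg.Omega F ⇑Q)
      with hT'
    have hTΩ : T (fr.e 0) (fr.Qe 0) ≤ Cfsg.Omega F ⇑Q := by
      rw [hΩ]; exact T_le_S _ _
    have hsup : N ⊔ T' = ⊤ := by
      rw [eq_top_iff]
      rw [← Subgroup.map_le_map_iff_of_injective (Cfsg.Omega F ⇑Q).subtype_injective,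
        Subgroup.map_sup, hT', Subgroup.subgroupOf_map_subtype, inf_eq_left.2 hTΩ, ← hN₀,
        ← MonoidHom.range_eq_map, Subgroup.range_subtype, hΩ]
      exact hle
    have hcomm : IsMulCommutative T' := by
      refine ⟨⟨fun x y => ?_⟩⟩
      apply Subtype.ext
      apply Subtype.ext
      exact T_comm (fr.e 0) (fr.Qe 0) x.2 y.2
    have h1 := hN.commutator_le_of_self_sup_commutative_eq_top hsup hcomm
    rw [Omega_perfect' hQ fr hgen] at h1
    exact top_le_iff.1 h1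

/-- **Simplicity of `PΩ`**. -/
theorem POmega_simple (hQ : (QuadraticMap.polarBilin Q).Nondegenerate) (fr : Frame3 Q)
    (hgen : ∀ (H : Subgroup ↥(Cfsg.isometryGroup F ⇑Q)),
      (∀ (v : ι → F) (hv : Q v ≠ 0), reflO Q v hv ∈ H) → ∀ g, g ∈ H) :
    IsSimpleGroup (Cfsg.POmega F ⇑Q) := by
  have hΩ := Omega_eq_S hQ fr hgen
  have : Nontrivial (Cfsg.POmega F ⇑Q) := by
    by_contra hcon
    rw [not_nontrivial_iff_subsingleton] at hcon
    have hZ : Subgroup.center ↥(Cfsg.Omega F ⇑Q) = ⊤ :=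
      QuotientGroup.subgroup_eq_top_of_subsingleton _ hcon
    have hbot : commutator ↥(Cfsg.Omega F ⇑Q) = ⊥ := by
      rw [commutator_def, Subgroup.commutator_eq_bot_iff_le_centralizer,
        Subgroup.coe_top, Subgroup.centralizer_univ, hZ]
    rw [Omega_perfect' hQ fr hgen] at hbot
    have h01 : B Q (fr.e 0) (fr.e 1) = 0 := fr.Bee 0 1
    have hmem : siegO Q (fr.e 0) (fr.e 1) (fr.Qe 0) h01 ∈ Cfsg.Omega F ⇑Q := by
      rw [hΩ]; exact siegO_mem_S Q _ _ _ _
    have h1 : (⟨_, hmem⟩ : ↥(Cfsg.Omega F ⇑Q)) ∈ (⊤ : Subgroup ↥(Cfsg.Omega F ⇑Q)) :=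
      Subgroup.mem_top _
    rw [hbot, Subgroup.mem_bot] at h1
    have h2 : siegO Q (fr.e 0) (fr.e 1) (fr.Qe 0) h01 = 1 := congrArg Subtype.val h1
    have h3 := congrArg (fun z => mt Q z *ᵥ (fr.f 0)) h2
    simp only [siegO_mulVec, mt_one_mulVec] at h3
    simp only [B, fr.Bef] at h3
    have h4 : fr.e 1 = 0 := by
      have : fr.f 0 + (1 : F) • fr.e 1 - (0 : F) • fr.e 0 - (Q (fr.e 1) * 1) • fr.e 0 = fr.f 0 := by
        simpa using h3
      rw [fr.Qe] at this
      simpa using this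
    exact fr.e_ne_zero 1 h4
  refine ⟨fun N hN => ?_⟩
  set π := QuotientGroup.mk' (Subgroup.center ↥(Cfsg.Omega F ⇑Q)) with hπ
  have hsurj : Function.Surjective π := QuotientGroup.mk'_surjective _
  have : (N.comap π).Normal := hN.comap π
  rcases normal_cases hQ fr hgen (N.comap π) with h | h
  · left
    rw [Subgroup.eq_bot_iff_forall]
    intro x hx
    obtain ⟨g, rfl⟩ := hsurj x
    have hg : g ∈ Subgroup.center ↥(Cfsg.Omega F ⇑Q) := h (Subgroup.mem_comap.2 hx)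
    rw [hπ, QuotientGroup.mk'_apply, QuotientGroup.eq_one_iff]
    exact hg
  · right
    rw [eq_top_iff]
    intro x _
    obtain ⟨g, rfl⟩ := hsurj x
    have : g ∈ N.comap π := by rw [h]; exact Subgroup.mem_top _
    exact Subgroup.mem_comap.1 this

end Cfsg.Agent.Helper28.Sg
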