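import Mathlib
import Cfsg.Agent.Helper28.Siegel5
import Cfsg.Agent.Helper28.Spin7
import Cfsg.Agent.Helper28.OmegaPerfect
import Cfsg.Agent.Helper28.CD2

set_option autoImplicit false
set_option linter.unusedSectionVars false

/-! Frames from coordinate hyperbolic pairs, and the generation hypotheses. -/

namespace Cfsg.Agent.Helper28.Sg

open Matrix Module Cfsg.Agent.Helper28.IsoTransport Cfsg.Agent.Helper28.Spin

variable {F : Type*} [Field F] {ι : Type} [Fintype ι] [DecidableEq ι]
  {Q : QuadraticForm F (ι → F)}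

theorem Q_single_left {a b : ι} (H : IsHypPair Q a b) : Q (Pi.single a 1) = 0 := by
  have := H 0 1 0
  simpa using this

theorem Q_single_right {a b : ι} (H : IsHypPair Q a b) : Q (Pi.single b 1) = 0 := by
  have := H 0 0 1
  simpa using this

theorem polar_single_left {a b : ι} (H : IsHypPair Q a b) (y : ι → F) :
    QuadraticMap.polar ⇑Q (Pi.single a 1) y = y b := by
  have := H y 1 0
  simp only [one_smul, zero_smul, add_zero, one_mul, zero_mul, mul_zero] at this
  rw [QuadraticMap.polar, add_comm (Pi.single a 1) y, this, Q_single_left H]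
  ring

theorem polar_single_right {a b : ι} (H : IsHypPair Q a b) (y : ι → F) :
    QuadraticMap.polar ⇑Q (Pi.single b 1) y = y a := by
  have := H y 0 1
  simp only [one_smul, zero_smul, add_zero, one_mul, zero_mul, mul_zero, zero_add] at this
  rw [QuadraticMap.polar, add_comm (Pi.single b 1) y, this, Q_single_right H]
  ring

/-- three coordinate hyperbolic pairs give a frame -/
noncomputable def frameOf (a b : Fin 3 → ι) (hinj : Function.Injective (Sum.elim a b))
    (H : ∀ j, IsHypPair Q (a j) (b j)) : Frame3 Q where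
  e j := Pi.single (a j) 1
  f j := Pi.single (b j) 1
  Qe j := Q_single_left (H j)
  Qf j := Q_single_right (H j)
  Bee i j := by
    rw [polar_single_left (H i), Pi.single_apply, if_neg]
    intro h
    have := @hinj (Sum.inr i) (Sum.inl j) (by simpa using h)
    simp at this
  Bff i j := by
    rw [polar_single_right (H i), Pi.single_apply, if_neg]
    intro h
    have := @hinj (Sum.inl i) (Sum.inr j) (by simpa using h)
    simp at this
  Bef i j := by
    rw [polar_single_left (H i), Pi.single_apply]
    by_cases hij : i = j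
    · subst hij; simp
    · rw [if_neg hij, if_neg]
      intro h
      have := @hinj (Sum.inr i) (Sum.inr j) (by simpa using h)
      simp at this
      exact hij this

theorem hgen_odd [Fintype F] (h2 : (2 : F) ≠ 0) (hQ : (QuadraticMap.polarBilin Q).Nondegenerate) :
    ∀ (H : Subgroup ↥(Cfsg.isometryGroup F ⇑Q)),
      (∀ (v : ι → F) (hv : Q v ≠ 0), reflO Q v hv ∈ H) → ∀ g, g ∈ H :=
  fun H hH g => Cfsg.Agent.Helper28.OP.mem_of_refl_mem Q h2 hQ H hH g

theorem hgen_even [Fintype F] (h2 : (2 : F) = 0) (hQ : (QuadraticMap.polarBilin Q).Nondegenerate)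
    (hcard : Fintype.card F ≠ 2 ∨ Fintype.card ι ≠ 4) :
    ∀ (H : Subgroup ↥(Cfsg.isometryGroup F ⇑Q)),
      (∀ (v : ι → F) (hv : Q v ≠ 0), reflO Q v hv ∈ H) → ∀ g, g ∈ H := by
  intro H hH g
  have htop := Cfsg.Agent.Helper28.CD2.Rfl_eq_top Q h2 hQ hcard
  have hle : Cfsg.Agent.Helper28.CD2.Rfl Q ≤ H := by
    unfold Cfsg.Agent.Helper28.CD2.Rfl
    rw [Subgroup.closure_le]
    rintro g ⟨v, hv, hg⟩
    have : g = reflO Q v hv := Subtype.ext (Units.ext hg)
    rw [SetLike.mem_coe, this]
    exact hH v hv
  apply hle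
  rw [htop]
  exact Subgroup.mem_top g

end Cfsg.Agent.Helper28.Sg
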