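import Mathlib
import Cfsg.Prelude.Def_GeometricClasses
import Cfsg.Agent.Helper28.OmegaPerfect

set_option autoImplicit false
set_option linter.unusedSectionVars false

/-! Non-maximality of the stabiliser of a hyperbolic plane in `Ω`, for `q ≤ 3`. -/

namespace Cfsg.Agent.Helper28.NM

open Matrix Module Cfsg.Agent.Helper28.Spin Cfsg.Agent.Helper28.IsoTransport

variable {F : Type*} [Field F] [Fintype F] {ι : Type} [Fintype ι] [DecidableEq ι]
  (Q : QuadraticForm F (ι → F))

theorem mem_omegaGL_iff (g : GL ι F) :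
    g ∈ Cfsg.Geo.omegaGL ⇑Q ↔ ∃ h : ↥(Cfsg.isometryGroup F ⇑Q), h ∈ Cfsg.Omega F ⇑Q ∧ (h : GL ι F) = g := by
  unfold Cfsg.Geo.omegaGL
  rw [Subgroup.mem_map]
  rfl

theorem mem_subspaceStabilizer_iff (W : Submodule F (ι → F)) (g : GL ι F) :
    g ∈ Cfsg.Geo.subspaceStabilizer W ↔ ∀ v, v ∈ W ↔ (g : Matrix ι ι F) *ᵥ v ∈ W := Iff.rfl

theorem mem_subspaceStabilizer_of_le (W : Submodule F (ι → F)) (g : GL ι F)
    (h : ∀ w ∈ W, (g : Matrix ι ι F) *ᵥ w ∈ W) : g ∈ Cfsg.Geo.subspaceStabilizer W := by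
  rw [mem_subspaceStabilizer_iff]
  have hinj : Function.Injective (Matrix.mulVecLin (g : Matrix ι ι F)) := by
    intro x y hxy
    have h2 : ∀ v : ι → F, ((g⁻¹ : GL ι F) : Matrix ι ι F) *ᵥ ((g : Matrix ι ι F) *ᵥ v) = v := by
      intro v
      rw [Matrix.mulVec_mulVec, ← Units.val_mul, inv_mul_cancel, Units.val_one, Matrix.one_mulVec]
    rw [← h2 x, ← h2 y]
    congr 1
  have hmap : W.map (Matrix.mulVecLin (g : Matrix ι ι F)) = W := by
    apply Submodule.eq_of_le_of_finrank_eq
    · rintro _ ⟨w, hw, rfl⟩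
      exact h w hw
    · exact LinearEquiv.finrank_eq (Submodule.equivMapOfInjective _ hinj W).symm
  intro v
  constructor
  · exact h v
  · intro hv
    rw [← hmap] at hv
    obtain ⟨w, hw, hwv⟩ := hv
    have : w = v := hinj hwv
    rw [← this]
    exact hw

/-- a non-zero singular vector perpendicular to a small subspace -/
theorem exists_singular_orth (hQ : (QuadraticMap.polarBilin Q).Nondegenerate)
    (W : Submodule F (ι → F)) (hW : 2 * (finrank F W + 2) + 2 ≤ Fintype.card ι) :
    ∃ z : ι → F, z ≠ 0 ∧ Q z = 0 ∧ ∀ w ∈ W, QuadraticMap.polar ⇑Q w z = 0 := by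
  classical
  obtain ⟨z₁, hz₁W, hz₁⟩ := OC.exists_mem_orth_eq Q hQ W (by omega) 1
  have hz₁0 : z₁ ≠ 0 := OC.ne_zero_of_Q_ne Q (by rw [hz₁]; exact one_ne_zero)
  obtain ⟨w₀, hw₀⟩ : ∃ w₀, QuadraticMap.polar ⇑Q z₁ w₀ ≠ 0 := by
    by_contra hcon
    push Not at hcon
    exact hz₁0 (hQ.1 z₁ (fun y => hcon y))
  set W' := W ⊔ Submodule.span F ({z₁, w₀} : Set (ι → F)) with hW'
  have hS2 : finrank F (Submodule.span F ({z₁, w₀} : Set (ι → F))) ≤ 2 := by
    have := finrank_span_finset_le_card (R := F) ({z₁, w₀} : Finset (ι → F))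
    have h3 : (({z₁, w₀} : Finset (ι → F)) : Set (ι → F)) = {z₁, w₀} := by simp
    rw [h3] at this
    exact this.trans Finset.card_le_two
  have hfin : finrank F W' ≤ finrank F W + 2 :=
    (Submodule.finrank_add_le_finrank_add_finrank _ _).trans (by omega)
  obtain ⟨z₃, hz₃W', hz₃⟩ := OC.exists_mem_orth_eq Q hQ W' (by omega) (-1)
  rw [LinearMap.BilinForm.mem_orthogonal_iff] at hz₁W hz₃W'
  have hz₁mem : z₁ ∈ W' := Submodule.mem_sup_right (Submodule.subset_span (by simp))
  have hw₀mem : w₀ ∈ W' := Submodule.mem_sup_right (Submodule.subset_span (by simp))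
  have h13 : QuadraticMap.polar ⇑Q z₁ z₃ = 0 := hz₃W' z₁ hz₁mem
  have h03 : QuadraticMap.polar ⇑Q w₀ z₃ = 0 := hz₃W' w₀ hw₀mem
  refine ⟨z₁ + z₃, ?_, ?_, ?_⟩
  · intro h0
    have h1 : QuadraticMap.polar ⇑Q (z₁ + z₃) w₀ = 0 := by
      rw [h0]; simp [QuadraticMap.polar]
    rw [QuadraticMap.polar_add_left, QuadraticMap.polar_comm (⇑Q) z₃ w₀, h03, add_zero] at h1
    exact hw₀ h1
  · rw [QuadraticMap.map_add (⇑Q), hz₁, hz₃, h13]; ring
  · intro w hw
    rw [QuadraticMap.polar_add_right]
    have e1 : QuadraticMap.polar ⇑Q w z₁ = 0 := hz₁W w hw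
    have e2 : QuadraticMap.polar ⇑Q w z₃ = 0 := hz₃W' w (Submodule.mem_sup_left hw)
    rw [e1, e2, add_zero]

/-- the stabiliser in `Ω` of a hyperbolic plane is not maximal when `q ≤ 3` -/
theorem plane_not_maximal (hQ : (QuadraticMap.polarBilin Q).Nondegenerate)
    (hN : 13 ≤ Fintype.card ι) (hq : Fintype.card F ≤ 3) (W : Submodule F (ι → F))
    (hdim : finrank F W = 2)
    (hW : Cfsg.Geo.IsNondegenerateOn (QuadraticMap.polar ⇑Q) W)
    (hplus : Cfsg.Geo.IsPlusTypeOn ⇑Q W) :
    ∃ K : Subgroup (GL ι F), Cfsg.Geo.subspaceStabilizer W ⊓ Cfsg.Geo.omegaGL ⇑Q < K ∧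
      K < Cfsg.Geo.omegaGL ⇑Q := by
  classical
  have hcard : Fintype.card F ≠ 2 ∨ Fintype.card ι ≠ 4 := Or.inr (by omega)
  -- `W ∩ W^⊥ = 0`
  have hrad : ∀ z ∈ W, (∀ w ∈ W, QuadraticMap.polar ⇑Q w z = 0) → z = 0 := by
    intro z hz hzo
    by_contra hz0
    obtain ⟨⟨x', hx'W, hx'⟩, -⟩ := hW z hz hz0
    exact hx' (hzo x' hx'W)
  -- a hyperbolic pair
  obtain ⟨U, hUW, hU0, hUdim⟩ := hplus
  have hU1 : 0 < finrank F U := by omega
  obtain ⟨⟨e, heU⟩, he0'⟩ := Module.finrank_pos_iff_exists_ne_zero.1 hU1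
  have he0 : e ≠ 0 := fun h => he0' (Subtype.ext h)
  have heW : e ∈ W := hUW heU
  have hQe : Q e = 0 := hU0 e heU
  set QT : QuadraticForm F W := Q.comp W.subtype with hQT
  have hnd : ∀ t : W, (∀ t' : W, QuadraticMap.polar QT t t' = 0) → t = 0 := by
    intro t ht
    apply Subtype.ext
    apply hrad t t.2
    intro w hw
    have := ht ⟨w, hw⟩
    rw [Cfsg.Agent.Helper13.polar_comp_subtype] at this
    rw [QuadraticMap.polar_comm]
    exact this
  obtain ⟨⟨f, hfW⟩, hQf', hef'⟩ := Cfsg.Agent.Helper13.exists_hyperbolic_partner QT hnd ⟨e, heW⟩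
    (fun h => he0 (congrArg Subtype.val h)) hQe
  have hQf : Q f = 0 := hQf'
  have hef : QuadraticMap.polar ⇑Q e f = 1 := by
    rw [Cfsg.Agent.Helper13.polar_comp_subtype] at hef'
    exact hef'
  have hfe : QuadraticMap.polar ⇑Q f e = 1 := by rw [QuadraticMap.polar_comm]; exact hef
  have hee : QuadraticMap.polar ⇑Q e e = 0 := by rw [Spin.polar_self', hQe, mul_zero]
  have hff : QuadraticMap.polar ⇑Q f f = 0 := by rw [Spin.polar_self', hQf, mul_zero]
  -- `W = span {e, f}`
  have hli : LinearIndependent F ![e, f] := by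
    rw [LinearIndependent.pair_iff]
    intro s t hst
    have h1 : QuadraticMap.polar ⇑Q (s • e + t • f) f = 0 := by rw [hst]; simp [QuadraticMap.polar]
    have h2 : QuadraticMap.polar ⇑Q (s • e + t • f) e = 0 := by rw [hst]; simp [QuadraticMap.polar]
    rw [QuadraticMap.polar_add_left, QuadraticMap.polar_smul_left, QuadraticMap.polar_smul_left,
      hef, hff] at h1
    rw [QuadraticMap.polar_add_left, QuadraticMap.polar_smul_left, QuadraticMap.polar_smul_left,
      hee, hfe] at h2
    simp only [smul_eq_mul, mul_one, mul_zero, add_zero, zero_add] at h1 h2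
    exact ⟨h1, h2⟩
  have hspan : Submodule.span F ({e, f} : Set (ι → F)) = W := by
    apply Submodule.eq_of_le_of_finrank_eq
    · rw [Submodule.span_le]
      intro v hv
      rcases hv with rfl | hv
      · exact heW
      · rw [Set.mem_singleton_iff] at hv
        rw [hv]; exact hfW
    · have := finrank_span_eq_card hli
      rw [Fintype.card_fin] at this
      have hr : Set.range ![e, f] = {e, f} := by
        ext v
        simp only [Matrix.range_cons, Matrix.range_empty, Set.union_empty, Set.union_singleton,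
          Set.mem_insert_iff, Set.mem_singleton_iff]
        exact or_comm
      rw [hr] at this
      rw [this, hdim]
  have hcoord : ∀ w ∈ W, ∃ a b : F, a • e + b • f = w := by
    intro w hw
    rw [← hspan] at hw
    exact Submodule.mem_span_pair.1 hw
  have hQab : ∀ a b : F, Q (a • e + b • f) = a * b := by
    intro a b
    rw [QuadraticMap.map_add (⇑Q), QuadraticMap.map_smul, QuadraticMap.map_smul, hQe, hQf,
      QuadraticMap.polar_smul_left, QuadraticMap.polar_smul_right, hef]
    simp only [smul_eq_mul, mul_zero, zero_add, mul_one]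
  -- the distinguished vector
  set x : ι → F := e + f with hx
  have hxW : x ∈ W := W.add_mem heW hfW
  have hQx : Q x = 1 := by
    have := hQab 1 1
    rw [one_smul, one_smul, mul_one] at this
    exact this
  have hsq : ∀ a : F, a ≠ 0 → a * a = 1 := by
    intro a ha
    have h1 := FiniteField.pow_card_sub_one_eq_one a ha
    have h2 := Fintype.one_lt_card (α := F)
    rcases (by omega : Fintype.card F = 2 ∨ Fintype.card F = 3) with h | h
    · rw [h] at h1
      simp only [Nat.add_one_sub_one, pow_one] at h1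
      rw [h1, mul_one]
    · rw [h] at h1
      simp only [Nat.add_one_sub_one] at h1
      rw [← pow_two]; exact h1
  have hkey : ∀ w ∈ W, Q w = 1 → w ∈ Submodule.span F ({x} : Set (ι → F)) := by
    intro w hw hQw
    obtain ⟨a, b, rfl⟩ := hcoord w hw
    rw [hQab] at hQw
    have ha : a ≠ 0 := by
      rintro rfl
      rw [zero_mul] at hQw
      exact zero_ne_one hQw
    have hb : b = a := by
      have h1 := hsq a ha
      have : a * b = a * a := by rw [hQw, h1]
      exact (mul_left_cancel₀ ha this)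
    rw [hb, ← smul_add]
    exact Submodule.smul_mem _ _ (Submodule.subset_span rfl)
  have hspanW : Submodule.span F ({x} : Set (ι → F)) ≤ W := by
    rw [Submodule.span_le]
    intro v hv
    rw [Set.mem_singleton_iff] at hv
    rw [hv]; exact hxW
  refine ⟨Cfsg.Geo.subspaceStabilizer (Submodule.span F ({x} : Set (ι → F))) ⊓
    Cfsg.Geo.omegaGL ⇑Q, ?_, ?_⟩
  · rw [SetLike.lt_iff_le_and_exists]
    constructor
    · rintro g ⟨hgW, hgΩ⟩
      refine ⟨?_, hgΩ⟩
      obtain ⟨h, -, rfl⟩ := (mem_omegaGL_iff Q g).1 hgΩ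
      apply mem_subspaceStabilizer_of_le
      intro w hw
      obtain ⟨a, rfl⟩ := Submodule.mem_span_singleton.1 hw
      rw [Matrix.mulVec_smul]
      apply Submodule.smul_mem
      apply hkey
      · exact ((mem_subspaceStabilizer_iff W _).1 hgW x).1 hxW
      · rw [isom_apply, hQx]
    · -- an element fixing `x` and moving `W`
      obtain ⟨z', hz'0, hQz', hz'W⟩ := exists_singular_orth Q hQ W (by rw [hdim]; omega)
      obtain ⟨v, hvW, hQv⟩ := OC.exists_mem_orth_eq Q hQ W (by rw [hdim]; omega) (-1)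
      rw [LinearMap.BilinForm.mem_orthogonal_iff] at hvW
      have hvW' : ∀ w ∈ W, QuadraticMap.polar ⇑Q v w = 0 := fun w hw => by
        rw [QuadraticMap.polar_comm]; exact hvW w hw
      have hz'W' : ∀ w ∈ W, QuadraticMap.polar ⇑Q z' w = 0 := fun w hw => by
        rw [QuadraticMap.polar_comm]; exact hz'W w hw
      set u : ι → F := e - f + z' with hu
      have hQef : Q (e - f) = -1 := by
        rw [Spin.map_sub'', hQe, hQf, hef]; ring
      have hQu : Q u = -1 := by
        rw [hu, QuadraticMap.map_add (⇑Q), hQef, hQz', QuadraticMap.polar_comm,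
          hz'W' _ (W.sub_mem heW hfW)]
        ring
      have hu0 : Q u ≠ 0 := by rw [hQu]; exact neg_ne_zero.2 one_ne_zero
      have hv0 : Q v ≠ 0 := by rw [hQv]; exact neg_ne_zero.2 one_ne_zero
      have hux : QuadraticMap.polar ⇑Q u x = 0 := by
        rw [hu, hx, QuadraticMap.polar_add_left, hz'W' _ hxW, QuadraticMap.polar_sub_left,
          QuadraticMap.polar_add_right, QuadraticMap.polar_add_right, hee, hef, hfe, hff]
        ring
      have hue : QuadraticMap.polar ⇑Q u e = -1 := by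
        rw [hu, QuadraticMap.polar_add_left, hz'W' _ heW, QuadraticMap.polar_sub_left, hee, hfe]
        ring
      set g := reflO Q u hu0 * reflO Q v hv0 with hg
      have hgΩ : g ∈ Cfsg.Omega F ⇑Q :=
        OC.reflO_mul_mem_Omega Q hQ hcard u v hu0 hv0 (by rw [hQu, hQv])
      have hgx : ((g : GL ι F) : Matrix ι ι F) *ᵥ x = x := by
        show (Cfsg.reflectionMatrix ⇑Q u * Cfsg.reflectionMatrix ⇑Q v) *ᵥ x = x
        rw [← Matrix.mulVec_mulVec, Spin.refl_fix Q (hvW' x hxW), Spin.refl_fix Q hux]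
      have hge : ((g : GL ι F) : Matrix ι ι F) *ᵥ e = f - z' := by
        show (Cfsg.reflectionMatrix ⇑Q u * Cfsg.reflectionMatrix ⇑Q v) *ᵥ e = f - z'
        rw [← Matrix.mulVec_mulVec, Spin.refl_fix Q (hvW' e heW), Spin.refl_mulVec, hQu, hue, hu]
        have : ((-1 : F)⁻¹ * -1) = 1 := by
          rw [inv_neg, inv_one]; ring
        rw [this, one_smul]
        abel
      refine ⟨(g : GL ι F), ⟨?_, (mem_omegaGL_iff Q _).2 ⟨g, hgΩ, rfl⟩⟩, ?_⟩
      · apply mem_subspaceStabilizer_of_le
        intro w hw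
        obtain ⟨a, rfl⟩ := Submodule.mem_span_singleton.1 hw
        rw [Matrix.mulVec_smul, hgx]
        exact Submodule.smul_mem _ _ (Submodule.subset_span rfl)
      · rintro ⟨hgW, -⟩
        have h1 := ((mem_subspaceStabilizer_iff W _).1 hgW e).1 heW
        rw [hge] at h1
        have hz'mem : z' ∈ W := by
          have : z' = f - (f - z') := by abel
          rw [this]
          exact W.sub_mem hfW h1
        exact hz'0 (hrad z' hz'mem hz'W)
  · rw [SetLike.lt_iff_le_and_exists]
    refine ⟨inf_le_right, ?_⟩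
    obtain ⟨z, hzW, hQz⟩ := OC.exists_mem_orth_eq Q hQ W (by rw [hdim]; omega) 1
    rw [LinearMap.BilinForm.mem_orthogonal_iff] at hzW
    have hzW' : ∀ w ∈ W, QuadraticMap.polar ⇑Q z w = 0 := fun w hw => by
      rw [QuadraticMap.polar_comm]; exact hzW w hw
    set u : ι → F := e + z with hu
    have hQu : Q u = 1 := by
      rw [hu, QuadraticMap.map_add (⇑Q), hQe, hQz,
        (show QuadraticMap.polar ⇑Q e z = 0 from hzW e heW)]; ring
    have hu0 : Q u ≠ 0 := by rw [hQu]; exact one_ne_zero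
    have hz0 : Q z ≠ 0 := by rw [hQz]; exact one_ne_zero
    have hux : QuadraticMap.polar ⇑Q u x = 1 := by
      rw [hu, hx, QuadraticMap.polar_add_left, hzW' _ hxW, QuadraticMap.polar_add_right, hee, hef]
      ring
    set g := reflO Q u hu0 * reflO Q z hz0 with hg
    have hgΩ : g ∈ Cfsg.Omega F ⇑Q :=
      OC.reflO_mul_mem_Omega Q hQ hcard u z hu0 hz0 (by rw [hQu, hQz])
    have hgx : ((g : GL ι F) : Matrix ι ι F) *ᵥ x = f - z := by
      show (Cfsg.reflectionMatrix ⇑Q u * Cfsg.reflectionMatrix ⇑Q z) *ᵥ x = f - z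
      rw [← Matrix.mulVec_mulVec, Spin.refl_fix Q (hzW' x hxW), Spin.refl_mulVec, hQu, hux, hu, hx]
      rw [inv_one, one_mul, one_smul]
      abel
    refine ⟨(g : GL ι F), (mem_omegaGL_iff Q _).2 ⟨g, hgΩ, rfl⟩, ?_⟩
    rintro ⟨hgS, -⟩
    have h1 := ((mem_subspaceStabilizer_iff _ _).1 hgS x).1 (Submodule.subset_span rfl)
    rw [hgx] at h1
    have hzmem : z ∈ W := by
      have : z = f - (f - z) := by abel
      rw [this]
      exact W.sub_mem hfW (hspanW h1)
    have := hrad z hzmem hzW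
    rw [this, QuadraticMap.map_zero] at hQz
    exact zero_ne_one hQz

section ofFun

variable {F : Type*} [Field F] {ι : Type} [Fintype ι] [DecidableEq ι]

/-- a quadratic form given as a function, as a `QuadraticForm` -/
noncomputable def ofFun (Q : (ι → F) → F) (hQ : Cfsg.Geo.IsNondegenerateQuadraticForm Q) :
    QuadraticForm F (ι → F) :=
  { toFun := Q
    toFun_smul := fun a x => by
      rw [hQ.smul, smul_eq_mul, pow_two]
    exists_companion' := ⟨LinearMap.mk₂ F (QuadraticMap.polar Q) hQ.polar_bilinear.add_left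
      (fun c x v => by rw [hQ.polar_bilinear.smul_left, smul_eq_mul])
      hQ.polar_bilinear.add_right
      (fun c v x => by rw [hQ.polar_bilinear.smul_right, smul_eq_mul]),
      fun x y => by
        simp only [LinearMap.mk₂_apply, QuadraticMap.polar]
        ring⟩ }

theorem ofFun_coe (Q : (ι → F) → F) (hQ : Cfsg.Geo.IsNondegenerateQuadraticForm Q) :
    ⇑(ofFun Q hQ) = Q := rfl

theorem ofFun_nondeg (Q : (ι → F) → F) (hQ : Cfsg.Geo.IsNondegenerateQuadraticForm Q) :
    (QuadraticMap.polarBilin (ofFun Q hQ)).Nondegenerate := by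
  constructor
  · intro x hx
    by_contra hx0
    obtain ⟨-, y, hy⟩ := hQ.nondegenerate x hx0
    exact hy (hx y)
  · intro x hx
    by_contra hx0
    obtain ⟨⟨y, hy⟩, -⟩ := hQ.nondegenerate x hx0
    exact hy (hx y)

end ofFun

end Cfsg.Agent.Helper28.NM
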