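import Mathlib
import Cfsg.Agent.Helper1.S4504MDefs
import Cfsg.Agent.Lead.S4504CNTA
import Cfsg.Agent.Helper3.S4504LAUNI
import Cfsg.Agent.Helper13.S4504NILDIM
import Cfsg.Agent.Helper3.S4504LASS
import Cfsg.Agent.Helper25.S4504LACENT
import Cfsg.Agent.Helper25.S4504LACOMM

set_option autoImplicit false
set_option linter.unusedSectionVars false

/-! # S4504 piece M-DICK: the Dickson index count for a 3-dimensional orthogonal `kG`-module. -/

namespace Cfsg.Agent.Helper28.S4504DICK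

open Cfsg.Agent.Helper5.GC Module Cfsg.Agent.S4504P

section basic

variable {k : Type*} [Field k] {G : Type*} [Group G]
  {U : Type*} [AddCommGroup U] [Module k U]

theorem scalarKer_normal (θ : Representation k G U) : (scalarKer θ).Normal := by
  constructor
  rintro n ⟨c, hc⟩ g
  refine ⟨c, ?_⟩
  rw [map_mul, map_mul, hc, mul_smul_comm, mul_one, smul_mul_assoc, ← map_mul, mul_inv_cancel,
    map_one]

theorem rep_pow_orderOf (θ : Representation k G U) (g : G) : θ g ^ orderOf g = 1 := by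
  rw [← map_pow, pow_orderOf_eq_one, map_one]

/-- a scalar `c • 1` with `c ≠ 0` fixes every subspace -/
theorem map_scalar (W : Submodule k U) (c : k) (hc : c ≠ 0) :
    W.map (c • (1 : Module.End k U)) = W := by
  rw [Submodule.map_smul _ _ _ hc, Module.End.one_eq_id, Submodule.map_id]

theorem scalar_ne_zero [Nontrivial U] (θ : Representation k G U) (g : G) (c : k)
    (hc : θ g = c • (1 : Module.End k U)) : c ≠ 0 := by
  rintro rfl
  obtain ⟨v, hv⟩ := exists_ne (0 : U)
  have h1 : θ g v = 0 := by rw [hc, zero_smul]; rfl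
  have h2 : θ g v = θ g 0 := by rw [h1, map_zero]
  exact hv (rep_injective θ g h2)

end basic

section grp

variable {G : Type*} [Group G] [Finite G]

theorem orderOf_eq_of_sylow (p : ℕ) [Fact p.Prime] (P : Sylow p G) (hP : Nat.card P = p) {x : G}
    (hPx : (P : Subgroup G) = Subgroup.zpowers x) : orderOf x = p := by
  rw [← Nat.card_zpowers, ← hPx]
  exact hP

theorem not_sq_dvd (p : ℕ) [Fact p.Prime] (P : Sylow p G) (hP : Nat.card P = p) :
    ¬ p ^ 2 ∣ Nat.card G := by
  have hp : p.Prime := Fact.out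
  intro h
  have h1 := P.card_eq_multiplicity
  rw [hP] at h1
  have h2 : 2 ≤ (Nat.card G).factorization p :=
    (hp.pow_dvd_iff_le_factorization Nat.card_pos.ne').mp h
  have h3 : p ^ 2 ∣ p := by
    conv_rhs => rw [h1]
    exact pow_dvd_pow p h2
  have h4 := Nat.le_of_dvd hp.pos h3
  have : p * p ≤ p := by rw [← sq]; exact h4
  nlinarith [hp.two_le]

/-- an element whose order divides `p` in a subgroup of order prime to `p` is trivial -/
theorem eq_one_of_pow_p (p : ℕ) [Fact p.Prime] (K : Subgroup G) (hKp : ¬ p ∣ Nat.card K) (c : G)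
    (hc : c ∈ K) (hcp : c ^ p = 1) : c = 1 := by
  have hp : p.Prime := Fact.out
  have h1 : orderOf c ∣ p := orderOf_dvd_of_pow_eq_one hcp
  have h2 : orderOf c ∣ Nat.card K := by
    have := orderOf_dvd_natCard (⟨c, hc⟩ : K)
    rwa [Subgroup.orderOf_mk] at this
  rcases (Nat.dvd_prime hp).mp h1 with h | h
  · exact orderOf_eq_one_iff.mp h
  · rw [h] at h2
    exact absurd h2 hKp

/-- a `p`-element commuting with a generator of a Sylow subgroup lies in it -/
theorem mem_of_commute (p : ℕ) [Fact p.Prime] (P : Sylow p G) {x : G}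
    (hPx : (P : Subgroup G) = Subgroup.zpowers x) (y : G) (hy : y ^ p = 1)
    (hxy : y * x = x * y) : y ∈ Subgroup.zpowers x := by
  have hpy : IsPGroup p (Subgroup.zpowers y) := by
    rintro ⟨g, hg⟩
    obtain ⟨i, rfl⟩ := Subgroup.mem_zpowers_iff.mp hg
    refine ⟨1, ?_⟩
    apply Subtype.ext
    show (y ^ i) ^ p ^ 1 = 1
    rw [pow_one, ← zpow_natCast, ← zpow_mul, mul_comm, zpow_mul, zpow_natCast, hy, one_zpow]
  have hle : Subgroup.zpowers y ≤ Subgroup.normalizer ((P : Subgroup G) : Set G) := by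
    rw [Subgroup.zpowers_le]
    apply Subgroup.centralizer_le_normalizer
    rw [Subgroup.mem_centralizer_iff]
    intro h hh
    rw [SetLike.mem_coe, hPx] at hh
    obtain ⟨i, rfl⟩ := Subgroup.mem_zpowers_iff.mp hh
    have hc : Commute x y := hxy.symm
    exact (hc.zpow_left i).eq
  have h1 := IsPGroup.to_sup_of_normal_right' hpy P.isPGroup' hle
  have h2 := P.is_maximal' h1 le_sup_right
  rw [← hPx, ← h2]
  exact Subgroup.mem_sup_left (Subgroup.mem_zpowers y)

end grp

section main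

variable {k : Type*} [Field k] [IsAlgClosed k] {p : ℕ} [Fact p.Prime] [CharP k p]
  {G : Type*} [Group G] [Finite G]
  {U : Type*} [AddCommGroup U] [Module k U]

theorem natCast_ne_zero_of_not_dvd (m : ℕ) (h : ¬ p ∣ m) : (m : k) ≠ 0 := by
  intro h0
  exact h ((CharP.cast_eq_zero_iff k p m).mp h0)

theorem two_ne_zero_of_five_le (hp5 : 5 ≤ p) : (2 : k) ≠ 0 := by
  have h : ((2 : ℕ) : k) ≠ 0 := by
    apply natCast_ne_zero_of_not_dvd (p := p)
    intro h
    have := Nat.le_of_dvd (by norm_num) h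
    omega
  exact_mod_cast h

/-- `θ x` is not a scalar when `(θ x - 1)^2 ≠ 0` and `x^p = 1` -/
theorem x_not_scalar [Nontrivial U] (θ : Representation k G U) (x : G) (hxp : x ^ p = 1)
    (hx2 : (θ x - 1) ^ 2 ≠ 0) : x ∉ scalarKer θ := by
  rintro ⟨c, hc⟩
  apply hx2
  have h1 : θ x ^ p = 1 := by rw [← map_pow, hxp, map_one]
  rw [hc, smul_pow, one_pow] at h1
  obtain ⟨v, hv⟩ := exists_ne (0 : U)
  have h2 : c ^ p = 1 := by
    have h3 := LinearMap.congr_fun h1 v
    rw [LinearMap.smul_apply, Module.End.one_apply] at h3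
    have h4 : (c ^ p - 1) • v = 0 := by rw [sub_smul, h3, one_smul, sub_self]
    rcases smul_eq_zero.mp h4 with h5 | h5
    · exact sub_eq_zero.mp h5
    · exact absurd h5 hv
  have h6 : (c - 1) ^ p = 0 := by
    rw [sub_pow_char, one_pow, h2, sub_self]
  have h7 : c = 1 := sub_eq_zero.mp (pow_eq_zero_iff (Fact.out : p.Prime).ne_zero |>.mp h6)
  rw [hc, h7, one_smul, sub_self, zero_pow (by norm_num)]

theorem not_dvd_card_scalarKer [Nontrivial U] (P : Sylow p G) (hP : Nat.card P = p) {x : G}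
    (hPx : (P : Subgroup G) = Subgroup.zpowers x) (θ : Representation k G U)
    (hx2 : (θ x - 1) ^ 2 ≠ 0) : ¬ p ∣ Nat.card (scalarKer θ) := by
  have hp : p.Prime := Fact.out
  have hox := orderOf_eq_of_sylow p P hP hPx
  have hxp : x ^ p = 1 := by rw [← hox]; exact pow_orderOf_eq_one x
  have hxK := x_not_scalar θ x hxp hx2
  have hN := scalarKer_normal θ
  intro hdvd
  have hcard := Subgroup.card_eq_card_quotient_mul_card_subgroup (scalarKer θ)
  have h1 : ¬ p ∣ Nat.card (G ⧸ scalarKer θ) := by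
    intro h
    apply not_sq_dvd p P hP
    rw [hcard, sq]
    exact Nat.mul_dvd_mul h hdvd
  apply hxK
  rw [← QuotientGroup.eq_one_iff]
  have h2 : orderOf ((x : G) : G ⧸ scalarKer θ) ∣ p := by
    apply orderOf_dvd_of_pow_eq_one
    rw [← QuotientGroup.mk_pow, hxp, QuotientGroup.mk_one]
  have h3 : orderOf ((x : G) : G ⧸ scalarKer θ) ∣ Nat.card (G ⧸ scalarKer θ) :=
    orderOf_dvd_natCard _
  rcases (Nat.dvd_prime hp).mp h2 with h | h
  · exact orderOf_eq_one_iff.mp h
  · rw [h] at h3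
    exact absurd h3 h1

theorem cube_eq_zero (hU : finrank k U = 3) (θ : Representation k G U) (y : G) (hy : y ^ p = 1) :
    (θ y - 1) ^ 3 = 0 := by
  have : FiniteDimensional k U := FiniteDimensional.of_finrank_pos (by omega)
  have h := uop_pow_finrank (p := p) θ y hy
  rw [hU] at h
  exact h

theorem pprime_comm_mem (hU : finrank k U = 3) (θ : Representation k G U) (x : G)
    (hxp : x ^ p = 1) (hx2 : (θ x - 1) ^ 2 ≠ 0) (s : G) (hs : s * x = x * s) (m : ℕ)
    (hsm : s ^ m = 1) (hm : ¬ p ∣ m) : s ∈ scalarKer θ := by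
  have hn3 := cube_eq_zero (p := p) hU θ x hxp
  have hcomm : Commute (θ s) (θ x) := by
    show θ s * θ x = θ x * θ s
    rw [← map_mul, ← map_mul, hs]
  have hpow : θ s ^ m = 1 := by rw [← map_pow, hsm, map_one]
  exact scalar_of_commute_regular hU (θ x) (θ s) hn3 hx2 hcomm m hpow
    (natCast_ne_zero_of_not_dvd (p := p) m hm)

theorem cent_decomp (P : Sylow p G) (hP : Nat.card P = p) {x : G}
    (hPx : (P : Subgroup G) = Subgroup.zpowers x) (hU : finrank k U = 3)
    (θ : Representation k G U) (hx2 : (θ x - 1) ^ 2 ≠ 0) (g : G) (hg : g * x = x * g) :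
    ∃ a ∈ Subgroup.zpowers x, ∃ b ∈ scalarKer θ, g = a * b := by
  have hp : p.Prime := Fact.out
  have hox := orderOf_eq_of_sylow p P hP hPx
  have hxp : x ^ p = 1 := by rw [← hox]; exact pow_orderOf_eq_one x
  by_cases hdvd : p ∣ orderOf g
  · obtain ⟨m', hm'⟩ := hdvd
    have hpm' : ¬ p ∣ m' := by
      rintro ⟨m'', rfl⟩
      apply not_sq_dvd p P hP
      have h1 : orderOf g ∣ Nat.card G := orderOf_dvd_natCard g
      refine dvd_trans ?_ h1
      rw [hm', sq, ← mul_assoc]
      exact Dvd.intro _ rfl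
    have hcomm : Commute g x := hg
    have hs : g ^ p * x = x * g ^ p := (hcomm.pow_left p).eq
    have hy : g ^ m' * x = x * g ^ m' := (hcomm.pow_left m').eq
    have hsm : (g ^ p) ^ m' = 1 := by rw [← pow_mul, ← hm', pow_orderOf_eq_one]
    have hyp : (g ^ m') ^ p = 1 := by rw [← pow_mul, mul_comm, ← hm', pow_orderOf_eq_one]
    have hsK := pprime_comm_mem (p := p) hU θ x hxp hx2 (g ^ p) hs m' hsm hpm'
    have hyx := mem_of_commute p P hPx (g ^ m') hyp hy
    have hcop : Nat.Coprime p m' := (Nat.Prime.coprime_iff_not_dvd hp).mpr hpm'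
    have hbez := Nat.gcd_eq_gcd_ab p m'
    rw [hcop.gcd_eq_one] at hbez
    refine ⟨(g ^ m') ^ (Nat.gcdB p m'), Subgroup.zpow_mem _ hyx _, (g ^ p) ^ (Nat.gcdA p m'),
      Subgroup.zpow_mem _ hsK _, ?_⟩
    rw [← zpow_natCast, ← zpow_natCast, ← zpow_mul, ← zpow_mul, ← zpow_add, add_comm, ← hbez]
    simp
  · refine ⟨1, Subgroup.one_mem _, g, ?_, (one_mul g).symm⟩
    exact pprime_comm_mem (p := p) hU θ x hxp hx2 g hg (orderOf g) (pow_orderOf_eq_one g) hdvd

theorem mem_normalizer_zpowers {G : Type*} [Group G] (g x : G)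
    (h1 : g * x * g⁻¹ ∈ Subgroup.zpowers x) (h2 : g⁻¹ * x * g ∈ Subgroup.zpowers x) :
    g ∈ Subgroup.normalizer ((Subgroup.zpowers x : Subgroup G) : Set G) := by
  rw [Subgroup.mem_normalizer_iff]
  intro h
  constructor
  · intro hh
    obtain ⟨i, rfl⟩ := Subgroup.mem_zpowers_iff.mp hh
    rw [← conj_zpow]
    exact Subgroup.zpow_mem _ h1 i
  · intro hh
    obtain ⟨j, hj⟩ := Subgroup.mem_zpowers_iff.mp hh
    have e : h = (g⁻¹ * x * g) ^ j := by
      have h3 : g⁻¹ * x * g = g⁻¹ * x * g⁻¹⁻¹ := by rw [inv_inv]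
      rw [h3, conj_zpow, hj]
      group
    rw [e]
    exact Subgroup.zpow_mem _ h2 j

theorem conj_mem (hp5 : 5 ≤ p) (P : Sylow p G) (hP : Nat.card P = p) {x : G}
    (hPx : (P : Subgroup G) = Subgroup.zpowers x)
    (hK : ∀ K : Subgroup G, K.Normal → ¬ p ∣ Nat.card K → K ≤ Subgroup.center G)
    (hU : finrank k U = 3) (θ : Representation k G U)
    (B : LinearMap.BilinForm k U) (hBs : B.IsSymm) (hBn : B.Nondegenerate)
    (hBinv : ∀ g v w, B (θ g v) (θ g w) = B v w) (hx2 : (θ x - 1) ^ 2 ≠ 0)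
    (ℓ₀ : IsoLine B) (hℓ₀ : ℓ₀.line = LinearMap.ker (θ x - 1))
    (g : G) (hgℓ : ℓ₀.line.map (θ g⁻¹) = ℓ₀.line) : g * x * g⁻¹ ∈ Subgroup.zpowers x := by
  have hp : p.Prime := Fact.out
  have : Nontrivial U := Module.nontrivial_of_finrank_pos (R := k) (by omega)
  have hox := orderOf_eq_of_sylow p P hP hPx
  have hxp : x ^ p = 1 := by rw [← hox]; exact pow_orderOf_eq_one x
  have hKN := scalarKer_normal θ
  have hKp := not_dvd_card_scalarKer P hP hPx θ hx2
  have hKc := hK _ hKN hKp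
  have hn3 := cube_eq_zero (p := p) hU θ x hxp
  -- a nonzero vector of `ℓ₀`
  have hne : ℓ₀.line ≠ ⊥ := by
    intro h0
    have h1 := ℓ₀.rank_one
    rw [h0, finrank_bot] at h1
    exact zero_ne_one h1
  obtain ⟨z, hzℓ, hz⟩ := Submodule.exists_mem_ne_zero_of_ne_bot hne
  have hzz : B z z = 0 := ℓ₀.iso z hzℓ
  have hfixmem : ∀ w ∈ ℓ₀.line, θ x w = w := by
    intro w hw
    rw [hℓ₀, LinearMap.mem_ker, LinearMap.sub_apply, Module.End.one_apply, sub_eq_zero] at hw
    exact hw
  have hxz : θ x z = z := hfixmem z hzℓ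
  set y := g * x * g⁻¹ with hy
  have hw : θ g⁻¹ z ∈ ℓ₀.line := by
    rw [← hgℓ]
    exact Submodule.mem_map_of_mem hzℓ
  have hyz : θ y z = z := by
    rw [hy, map_mul, map_mul, Module.End.mul_apply, Module.End.mul_apply, hfixmem _ hw]
    have := rep_inv_apply θ g⁻¹ z
    rw [inv_inv] at this
    exact this
  have hyp : y ^ p = 1 := by rw [hy, conj_pow, hxp, mul_one, mul_inv_cancel]
  have hn3' := cube_eq_zero (p := p) hU θ y hyp
  have hcomm : Commute (θ x) (θ y) :=
    commute_of_common_fixed (two_ne_zero_of_five_le (p := p) hp5) hU B hBs hBn (θ x) (θ y)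
      (hBinv x) (hBinv y) hn3 hn3' z hz hzz hxz hyz
  -- the commutator lies in `K`
  set c := y * x * y⁻¹ * x⁻¹ with hc
  have hθc : θ c = 1 := by
    rw [hc, map_mul, map_mul, map_mul, ← hcomm.eq, mul_assoc (θ x), ← map_mul, mul_inv_cancel,
      map_one, mul_one, ← map_mul, mul_inv_cancel, map_one]
  have hcK : c ∈ scalarKer θ := ⟨1, by rw [hθc, one_smul]⟩
  have hcx : Commute c x := by
    have := Subgroup.mem_center_iff.mp (hKc hcK) x
    exact this.symm
  have hyx : y * x * y⁻¹ = c * x := by rw [hc]; group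
  have hcp : c ^ p = 1 := by
    have h1 : (y * x * y⁻¹) ^ p = 1 := by rw [conj_pow, hxp, mul_one, mul_inv_cancel]
    rw [hyx, hcx.mul_pow, hxp, mul_one] at h1
    exact h1
  have hc1 : c = 1 := eq_one_of_pow_p p _ hKp c hcK hcp
  have hyxc : y * x = x * y := by
    have h1 : y * x * y⁻¹ = x := by rw [hyx, hc1, one_mul]
    calc y * x = (y * x * y⁻¹) * y := by group
      _ = x * y := by rw [h1]
  obtain ⟨a, ha, b, hb, hab⟩ := cent_decomp (p := p) P hP hPx hU θ hx2 y hyxc
  have hba : Commute a b := by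
    have := Subgroup.mem_center_iff.mp (hKc hb) a
    exact this
  have hap : a ^ p = 1 := by
    obtain ⟨i, rfl⟩ := Subgroup.mem_zpowers_iff.mp ha
    rw [← zpow_natCast, ← zpow_mul, mul_comm, zpow_mul, zpow_natCast, hxp, one_zpow]
  have hbp : b ^ p = 1 := by
    have h1 := hyp
    rw [hab, hba.mul_pow, hap, one_mul] at h1
    exact h1
  have hb1 : b = 1 := eq_one_of_pow_p p _ hKp b hb hbp
  rw [hab, hb1, mul_one]
  exact ha

end main

end Cfsg.Agent.Helper28.S4504DICK

namespace Cfsg.Agent.S4504P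

open Cfsg.Agent.Helper5.GC Module Cfsg.Agent.Helper28.S4504DICK

theorem dickson_index {k : Type*} [Field k] [IsAlgClosed k] {p : ℕ} [Fact p.Prime] [CharP k p]
    (hp5 : 5 ≤ p) {G : Type*} [Group G] [Finite G] (P : Sylow p G) (hP : Nat.card P = p) {x : G}
    (hPx : (P : Subgroup G) = Subgroup.zpowers x)
    (hK : ∀ K : Subgroup G, K.Normal → ¬ p ∣ Nat.card K → K ≤ Subgroup.center G)
    {U : Type*} [AddCommGroup U] [Module k U] (hU : finrank k U = 3) (θ : Representation k G U)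
    (B : LinearMap.BilinForm k U) (hBs : B.IsSymm) (hBn : B.Nondegenerate)
    (hBinv : ∀ g v w, B (θ g v) (θ g w) = B v w) (hx2 : (θ x - 1) ^ 2 ≠ 0) :
    (Subgroup.normalizer ((P : Subgroup G) : Set G)).index = 1 ∨
      (Subgroup.normalizer ((P : Subgroup G) : Set G)).index = p + 1 := by
  have hp : p.Prime := Fact.out
  have : Nontrivial U := Module.nontrivial_of_finrank_pos (R := k) (by omega)
  have hox := orderOf_eq_of_sylow p P hP hPx
  have hxp : x ^ p = 1 := by rw [← hox]; exact pow_orderOf_eq_one x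
  have hsyl := not_sq_dvd p P hP
  have hKN := scalarKer_normal θ
  have hKp := not_dvd_card_scalarKer P hP hPx θ hx2
  have hKc := hK _ hKN hKp
  have hn3 := cube_eq_zero (p := p) hU θ x hxp
  obtain ⟨ℓ₀, hℓ₀, hfix⟩ := fixed_unipotent hU B hBs hBn (θ x) (hBinv x) hn3 hx2
  let _ : MulAction G (IsoLine B) := isoAction θ B hBinv
  have hsmul : ∀ (g : G) (ℓ : IsoLine B), g • ℓ = ℓ ↔ ℓ.line.map (θ g) = ℓ.line := by
    intro g ℓ
    rw [IsoLine.ext_iff]
    rfl
  rw [hPx]
  refine count_index (X := IsoLine B) p hp5 x hox hsyl (scalarKer θ) hKc hKp ?_ ℓ₀ ?_ ?_ ?_ ?_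
  · -- scalars fix every line
    rintro g ⟨c, hc⟩ ℓ
    rw [hsmul, hc]
    exact map_scalar _ c (scalar_ne_zero θ g c hc)
  · -- `p`-regular nonscalar elements fix exactly two isotropic lines
    intro g hgK hgp
    have h := ncard_fixed_semisimple (two_ne_zero_of_five_le (p := p) hp5) hU B hBs hBn (θ g)
      (hBinv g) (orderOf g) (rep_pow_orderOf θ g) (natCast_ne_zero_of_not_dvd (p := p) _ hgp) hgK
    rw [← h]
    congr 1
    ext ℓ
    exact hsmul g ℓ
  · intro ℓ
    rw [hsmul]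
    exact hfix ℓ
  · intro g hg
    obtain ⟨a, ha, b, hb, rfl⟩ := cent_decomp (p := p) P hP hPx hU θ hx2 g hg
    exact Subgroup.mul_mem_sup ha hb
  · intro g hg
    have hg' : g⁻¹ • ℓ₀ = ℓ₀ := inv_smul_eq_iff.mpr hg.symm
    have h1 := conj_mem (p := p) hp5 P hP hPx hK hU θ B hBs hBn hBinv hx2 ℓ₀ hℓ₀ g
      ((hsmul g⁻¹ ℓ₀).mp hg')
    have h2 := conj_mem (p := p) hp5 P hP hPx hK hU θ B hBs hBn hBinv hx2 ℓ₀ hℓ₀ g⁻¹
      (by rw [inv_inv]; exact (hsmul g ℓ₀).mp hg)
    rw [inv_inv] at h2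
    exact mem_normalizer_zpowers g x h1 h2

end Cfsg.Agent.S4504P
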