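import Mathlib
import Cfsg.Agent.Helper1.S0997TDefs

/-!
# S0997 (Brauer–Tuan), piece T-GEN: an element of `H` acting on `P = ⟨x⟩` with large order

`N/C` embeds in `Aut(P)`, which is cyclic; a generator of the image comes from some `h ∈ H`
(`N = H ⟨x⟩`, `x ∈ C`); the exponent `m` with `h⁻¹ x h = x^m` has order `|N : C| ≥ (p-1)/2` mod `p`.
-/

set_option autoImplicit false

universe u

namespace Cfsg.Agent.S0997P.GEN

open Cfsg.Agent.Helper5.GC

/-- iterating the conjugation relation -/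
theorem conj_pow {G : Type*} [Group G] {x h : G} {m : ℕ} (hm : h⁻¹ * x * h = x ^ m) (j : ℕ) :
    (h ^ j)⁻¹ * x * h ^ j = x ^ (m ^ j) := by
  induction j with
  | zero => simp
  | succ j ih =>
    have h1 : (h ^ (j + 1))⁻¹ * x * h ^ (j + 1) = h⁻¹ * ((h ^ j)⁻¹ * x * h ^ j) * h := by
      rw [pow_succ]; group
    rw [h1, ih]
    have h2 : ∀ k : ℕ, h⁻¹ * x ^ k * h = (h⁻¹ * x * h) ^ k := by
      intro k
      induction k with
      | zero => simp
      | succ k ihk =>
        rw [pow_succ, pow_succ, ← ihk]; group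
    rw [h2, hm, ← pow_mul, pow_succ, mul_comm]

end Cfsg.Agent.S0997P.GEN

namespace Cfsg.Agent.S0997P

open Cfsg.Agent.Helper5.GC Module Cfsg.Agent.S4504P Cfsg.Agent.S0997P.GEN

-- T-GEN
theorem exists_big_weight {G : Type*} [Group G] [Finite G] (p : ℕ) [Fact p.Prime]
    (P : Sylow p G) (hP : Nat.card P = p) {x : G} (hPx : (P : Subgroup G) = Subgroup.zpowers x)
    {H : Subgroup G}
    (hd : TIData G (Subgroup.normalizer ((P : Subgroup G) : Set G)) H x p)
    (hNC : p - 1 ≤ 2 * (Subgroup.centralizer ((P : Subgroup G) : Set G)).relIndex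
      (Subgroup.normalizer ((P : Subgroup G) : Set G))) :
    ∃ h ∈ H, ∃ m : ℕ, h⁻¹ * x * h = x ^ m ∧
      ∀ j : ℕ, 1 ≤ j → 2 * j < p - 1 → ¬ (m ^ j ≡ 1 [MOD p]) := by
  have hp : p.Prime := Fact.out
  have hp2 := hp.two_le
  set N := Subgroup.normalizer ((P : Subgroup G) : Set G) with hN
  set C := Subgroup.centralizer ((P : Subgroup G) : Set G) with hC
  set r := C.relIndex N with hr
  -- order of x
  have hox : orderOf x = p := by
    rw [← Nat.card_zpowers, ← hPx]
    exact hP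
  -- the action homomorphism
  set φ : ↥N →* MulAut ↥(P : Subgroup G) := (P : Subgroup G).normalizerMonoidHom with hφ
  have hker : φ.ker = C.subgroupOf N := Subgroup.normalizerMonoidHom_ker (P : Subgroup G)
  have hcycP : IsCyclic ↥(P : Subgroup G) := isCyclic_of_prime_card (p := p) hP
  have hcycA : IsCyclic (MulAut ↥(P : Subgroup G)) := by
    have e := IsCyclic.mulAutMulEquiv ↥(P : Subgroup G)
    have hP' : Nat.card ↥(P : Subgroup G) = p := hP
    rw [hP'] at e
    have : IsCyclic (ZMod p)ˣ := inferInstance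
    exact isCyclic_of_surjective e.symm e.symm.surjective
  have hcycR : IsCyclic φ.range := Subgroup.isCyclic _
  have hcardR : Nat.card φ.range = r := by
    rw [← Subgroup.index_ker, hker]
    rfl
  obtain ⟨⟨g, hgR⟩, hg⟩ := hcycR.exists_generator
  have hog : orderOf (⟨g, hgR⟩ : φ.range) = r := by
    rw [← hcardR]
    exact orderOf_eq_card_of_forall_mem_zpowers hg
  have hog' : orderOf g = r := by
    rw [← hog, ← Subgroup.orderOf_coe]
  obtain ⟨n, rfl⟩ := hgR
  obtain ⟨h, hh, i, hni⟩ := hd.gen (n : G) n.2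
  have hhN : h ∈ N := hd.hHN hh
  have hxN : x ∈ N := hd.hxN
  -- x lies in the kernel
  have hxC : x ∈ C := by
    rw [hC, Subgroup.mem_centralizer_iff]
    intro y hy
    have hy' : y ∈ Subgroup.zpowers x := by rw [← hPx]; exact hy
    obtain ⟨k, rfl⟩ := Subgroup.mem_zpowers_iff.mp hy'
    exact (Commute.zpow_self x k).eq
  have hφx : φ ⟨x, hxN⟩ = 1 := by
    rw [← MonoidHom.mem_ker, hker, Subgroup.mem_subgroupOf]
    exact hxC
  have hφn : φ n = φ ⟨h, hhN⟩ := by
    have : n = ⟨h, hhN⟩ * ⟨x, hxN⟩ ^ i := Subtype.ext (by simpa using hni)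
    rw [this, map_mul, map_pow, hφx, one_pow, mul_one]
  obtain ⟨m, hm⟩ := hd.norm h hh
  refine ⟨h, hh, m, hm, ?_⟩
  intro j hj1 hj2 hmod
  have h1 : (h ^ j)⁻¹ * x * h ^ j = x := by
    rw [conj_pow hm j]
    have : x ^ (m ^ j) = x ^ 1 := by
      rw [pow_eq_pow_iff_modEq, hox]
      exact hmod
    rw [this, pow_one]
  have hcomm : h ^ j * x = x * h ^ j := by
    have : x * h ^ j = h ^ j * ((h ^ j)⁻¹ * x * h ^ j) := by group
    rw [this, h1]
  have hjC : h ^ j ∈ C := by
    rw [hC, Subgroup.mem_centralizer_iff]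
    intro y hy
    have hy' : y ∈ Subgroup.zpowers x := by rw [← hPx]; exact hy
    obtain ⟨k, rfl⟩ := Subgroup.mem_zpowers_iff.mp hy'
    have : Commute (h ^ j) x := hcomm
    exact ((this.zpow_right k).eq).symm
  have hφj : (φ ⟨h, hhN⟩) ^ j = 1 := by
    rw [← map_pow, ← MonoidHom.mem_ker, hker, Subgroup.mem_subgroupOf]
    exact hjC
  rw [← hφn] at hφj
  have hdvd : r ∣ j := by
    rw [← hog']
    exact orderOf_dvd_of_pow_eq_one hφj
  have hle : r ≤ j := Nat.le_of_dvd (by omega) hdvd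
  omega

end Cfsg.Agent.S0997P
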