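import Mathlib
import Cfsg.Prelude.Def_ClassicalGeometry
import Cfsg.Prelude.Def_LieClassical

set_option autoImplicit false

namespace Cfsg.Agent.Helper28.GUlib

open Matrix

variable {F : Type*} [Field F] {n q : ℕ}

theorem hermForm_eq_dot (σ : F →+* F) (hσ : ∀ x, σ x = x ^ q) (u v : Fin n → F) :
    Cfsg.hermForm n F q u v = u ⬝ᵥ (σ ∘ v) := by
  simp only [Cfsg.hermForm, dotProduct, Function.comp_apply, hσ]

theorem comp_mulVec (σ : F →+* F) (M : Matrix (Fin n) (Fin n) F) (v : Fin n → F) :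
    σ ∘ (M *ᵥ v) = M.map σ *ᵥ (σ ∘ v) := by
  ext i
  simp only [Function.comp_apply, mulVec, dotProduct, map_sum, map_mul, Matrix.map_apply]

theorem herm_mulVec (σ : F →+* F) (hσ : ∀ x, σ x = x ^ q) (M : Matrix (Fin n) (Fin n) F)
    (u v : Fin n → F) :
    Cfsg.hermForm n F q (M *ᵥ u) (M *ᵥ v) = u ⬝ᵥ ((Mᵀ * M.map σ) *ᵥ (σ ∘ v)) := by
  rw [hermForm_eq_dot σ hσ, comp_mulVec, ← Matrix.mulVec_mulVec, Matrix.dotProduct_mulVec,
    Matrix.dotProduct_mulVec, Matrix.dotProduct_mulVec, Matrix.vecMul_transpose]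

/-- matrix criterion for preserving the Hermitian form -/
theorem preserves_iff (σ : F →+* F) (hσ : ∀ x, σ x = x ^ q) (M : Matrix (Fin n) (Fin n) F) :
    (∀ u v, Cfsg.hermForm n F q (M *ᵥ u) (M *ᵥ v) = Cfsg.hermForm n F q u v) ↔
      Mᵀ * M.map σ = 1 := by
  constructor
  · intro h
    ext i j
    have := h (Pi.single i 1) (Pi.single j 1)
    rw [herm_mulVec σ hσ, hermForm_eq_dot σ hσ] at this
    have hs : σ ∘ (Pi.single j (1 : F) : Fin n → F) = Pi.single j 1 := by
      ext k
      simp only [Function.comp_apply, Pi.single_apply]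
      split_ifs <;> simp
    rw [hs] at this
    simpa [Matrix.one_apply, Pi.single_apply, eq_comm] using this
  · intro h u v
    rw [herm_mulVec σ hσ, h, Matrix.one_mulVec, hermForm_eq_dot σ hσ]

theorem mem_GU_iff (σ : F →+* F) (hσ : ∀ x, σ x = x ^ q) (g : Matrix.GeneralLinearGroup (Fin n) F) :
    g ∈ Cfsg.GU n F q ↔
      (g : Matrix (Fin n) (Fin n) F)ᵀ * (g : Matrix (Fin n) (Fin n) F).map σ = 1 :=
  preserves_iff σ hσ _

theorem det_pow_of_unitary (σ : F →+* F) (hσ : ∀ x, σ x = x ^ q) (M : Matrix (Fin n) (Fin n) F)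
    (h : Mᵀ * M.map σ = 1) : M.det ^ (q + 1) = 1 := by
  have := congrArg Matrix.det h
  rw [Matrix.det_mul, Matrix.det_transpose, Matrix.det_one] at this
  have h2 : (M.map σ).det = σ M.det := by
    rw [RingHom.map_det]
    rfl
  rw [h2, hσ] at this
  rw [pow_succ, mul_comm]
  exact this

/-- build an element of `GU` from a unitary matrix -/
noncomputable def mkGU (σ : F →+* F) (hσ : ∀ x, σ x = x ^ q) (M : Matrix (Fin n) (Fin n) F)
    (h : Mᵀ * M.map σ = 1) : ↥(Cfsg.GU n F q) :=
  ⟨Matrix.GeneralLinearGroup.mkOfDetNeZero M (by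
      intro h0
      have := det_pow_of_unitary σ hσ M h
      rw [h0, zero_pow (Nat.succ_ne_zero q)] at this
      exact zero_ne_one this),
    (mem_GU_iff σ hσ _).mpr h⟩

theorem mkGU_coe (σ : F →+* F) (hσ : ∀ x, σ x = x ^ q) (M : Matrix (Fin n) (Fin n) F)
    (h : Mᵀ * M.map σ = 1) :
    (((mkGU σ hσ M h : ↥(Cfsg.GU n F q)) : Matrix.GeneralLinearGroup (Fin n) F) :
      Matrix (Fin n) (Fin n) F) = M := rfl

theorem diagonal_unitary (σ : F →+* F) (hσ : ∀ x, σ x = x ^ q) (d : Fin n → F)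
    (hd : ∀ i, d i ^ (q + 1) = 1) :
    (Matrix.diagonal d)ᵀ * (Matrix.diagonal d).map σ = 1 := by
  rw [Matrix.diagonal_transpose, Matrix.diagonal_map (map_zero σ), Matrix.diagonal_mul_diagonal,
    ← Matrix.diagonal_one]
  congr 1
  ext i
  simp only [Function.comp_apply, hσ]
  rw [← pow_succ']
  exact hd i

theorem perm_unitary (σ : F →+* F) (τ : Equiv.Perm (Fin n)) :
    (τ.permMatrix F)ᵀ * (τ.permMatrix F).map σ = 1 := by
  have hmap : (τ.permMatrix F).map σ = τ.permMatrix F := by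
    ext i j
    simp only [Matrix.map_apply, PEquiv.toMatrix_apply]
    split_ifs <;> simp
  rw [hmap, Matrix.transpose_permMatrix, ← Matrix.permMatrix_mul, mul_inv_cancel,
    Matrix.permMatrix_one]

/-- A matrix commuting with all diagonal matrices `diag(1,..,a,..,1)` (for one `a ≠ 1`) and all
swap permutation matrices is scalar. -/
theorem scalar_of_commute (Z : Matrix (Fin n) (Fin n) F) (a : F) (ha : a ≠ 1)
    (hD : ∀ i : Fin n, Z * Matrix.diagonal (Function.update (fun _ => (1 : F)) i a) =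
      Matrix.diagonal (Function.update (fun _ => (1 : F)) i a) * Z)
    (hP : ∀ i j : Fin n, Z * (Equiv.swap i j).permMatrix F = (Equiv.swap i j).permMatrix F * Z)
    (i₀ : Fin n) : Z = Matrix.diagonal (fun _ => Z i₀ i₀) := by
  have hoff : ∀ j i : Fin n, j ≠ i → Z j i = 0 := by
    intro j i hji
    have := congrFun (congrFun (hD i) j) i
    rw [Matrix.mul_diagonal, Matrix.diagonal_mul, Function.update_self,
      Function.update_of_ne hji, one_mul] at this
    have h2 : Z j i * (a - 1) = 0 := by rw [mul_sub, this, mul_one, sub_self]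
    rcases mul_eq_zero.mp h2 with h | h
    · exact h
    · exact absurd (sub_eq_zero.mp h) ha
  have hdiag : ∀ i j : Fin n, Z i i = Z j j := by
    intro i j
    have := congrFun (congrFun (hP i j) i) j
    rw [PEquiv.mul_toMatrix_toPEquiv, PEquiv.toMatrix_toPEquiv_mul] at this
    simpa using this
  ext i j
  by_cases hij : i = j
  · subst hij
    rw [Matrix.diagonal_apply_eq]
    exact hdiag i i₀
  · rw [Matrix.diagonal_apply_ne _ hij]
    exact hoff i j hij

end Cfsg.Agent.Helper28.GUlib
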