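import Mathlib
import Cfsg.Agent.Helper29.S2264Defs

/-! S2262 piece RECIPMAP (driver helper29): `recip` commutes with field maps. -/

set_option autoImplicit false

namespace Cfsg.Agent.S2262P

open Polynomial
open Cfsg.Agent.S2264P

/-- RECIPMAP (deps: none; `Polynomial.reverse`/`map`): `recip` commutes with field maps. -/
theorem recip_map {K F : Type*} [Field K] [Field F] (j : K →+* F) (f : K[X]) :
    recip (f.map j) = (recip f).map j := by
  unfold recip
  rw [Polynomial.map_mul, map_C, coeff_map, map_inv₀ j]
  congr 1
  unfold reverse
  rw [natDegree_map_eq_of_injective j.injective, reflect_map]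

end Cfsg.Agent.S2262P
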