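import Mathlib
import Cfsg.Prelude.Def_ClassicalGeometry
import Cfsg.Prelude.Def_LieClassical

set_option autoImplicit false

namespace Cfsg.Agent.Helper28

open Matrix

/-- In a field with `q ^ 2` elements, `x ↦ x ^ q` is an involutive ring endomorphism. -/
theorem exists_frob {F : Type*} [Field F] [Fintype F] {q : ℕ} (hF : Fintype.card F = q ^ 2) :
    ∃ σ : F →+* F, (∀ x, σ x = x ^ q) ∧ (∀ x, σ (σ x) = x) := by
  obtain ⟨p, hchar⟩ := CharP.exists F
  obtain ⟨n, hp, hcard⟩ := FiniteField.card F p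
  haveI : Fact p.Prime := ⟨hp⟩
  have hq : q ∣ p ^ (n : ℕ) := by
    rw [← hcard, hF]
    exact Dvd.intro_left (q ^ 1) (by ring)
  obtain ⟨j, _, hj⟩ := (Nat.dvd_prime_pow hp).mp hq
  refine ⟨iterateFrobenius F p j, ?_, ?_⟩
  · intro x
    rw [iterateFrobenius_def, hj]
  · intro x
    rw [iterateFrobenius_def, iterateFrobenius_def, ← hj, ← pow_mul, ← sq, ← hF]
    exact FiniteField.pow_card x

variable {F : Type*} [Field F] {n : ℕ} {q : ℕ}

theorem hermForm_add_left (x x' y : Fin n → F) :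
    Cfsg.hermForm n F q (x + x') y = Cfsg.hermForm n F q x y + Cfsg.hermForm n F q x' y := by
  simp [Cfsg.hermForm, add_mul, Finset.sum_add_distrib]

theorem hermForm_smul_left (c : F) (x y : Fin n → F) :
    Cfsg.hermForm n F q (c • x) y = c * Cfsg.hermForm n F q x y := by
  simp [Cfsg.hermForm, Finset.mul_sum, mul_assoc]

theorem hermForm_smul_right (c : F) (x y : Fin n → F) :
    Cfsg.hermForm n F q x (c • y) = c ^ q * Cfsg.hermForm n F q x y := by
  simp only [Cfsg.hermForm, Pi.smul_apply, smul_eq_mul, mul_pow, Finset.mul_sum]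
  apply Finset.sum_congr rfl
  intro i _
  ring

@[simp] theorem hermForm_zero_left (y : Fin n → F) : Cfsg.hermForm n F q 0 y = 0 := by
  simp [Cfsg.hermForm]

theorem hermForm_add_right (σ : F →+* F) (hσ : ∀ x, σ x = x ^ q) (x y y' : Fin n → F) :
    Cfsg.hermForm n F q x (y + y') = Cfsg.hermForm n F q x y + Cfsg.hermForm n F q x y' := by
  simp only [Cfsg.hermForm, Pi.add_apply, ← hσ, map_add, mul_add, Finset.sum_add_distrib]

theorem hermForm_conj (σ : F →+* F) (hσ : ∀ x, σ x = x ^ q) (hσ2 : ∀ x, σ (σ x) = x)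
    (x y : Fin n → F) :
    (Cfsg.hermForm n F q y x) ^ q = Cfsg.hermForm n F q x y := by
  rw [← hσ]
  simp only [Cfsg.hermForm, map_sum, map_mul, ← hσ, hσ2]
  apply Finset.sum_congr rfl
  intro i _
  ring

theorem unitaryTransvection_mulVec (v : Fin n → F) (c : F) (x : Fin n → F) :
    Cfsg.unitaryTransvection n q v c *ᵥ x = x + (c * Cfsg.hermForm n F q x v) • v := by
  unfold Cfsg.unitaryTransvection
  rw [Matrix.add_mulVec, Matrix.one_mulVec, Matrix.smul_mulVec, Matrix.vecMulVec_mulVec]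
  have : (fun j => v j ^ q) ⬝ᵥ x = Cfsg.hermForm n F q x v := by
    simp only [dotProduct, Cfsg.hermForm]
    apply Finset.sum_congr rfl
    intro i _
    ring
  rw [this]
  ext i
  simp only [Pi.add_apply, Pi.smul_apply, MulOpposite.smul_eq_mul_unop, MulOpposite.unop_op, smul_eq_mul]
  ring

end Cfsg.Agent.Helper28
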