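import Mathlib

set_option autoImplicit false

namespace Cfsg.Agent.Helper28

/-- Surjectivity of the norm map of a finite field with an involution `σ ≠ id`:
every nonzero `σ`-fixed element is of the form `a * σ a`. -/
theorem exists_norm_eq {F : Type*} [Field F] [Finite F] (σ : F →+* F) (hσ : σ ≠ RingHom.id F)
    (hσ2 : ∀ a : F, σ (σ a) = a) (c : F) (hc : c ≠ 0) (hfix : σ c = c) :
    ∃ a : F, a * σ a = c := by
  classical
  set s : Fˣ →* Fˣ := Units.map σ.toMonoidHom with hs
  have hs_val : ∀ u : Fˣ, ((s u : Fˣ) : F) = σ (u : F) := fun u => rfl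
  have hss : ∀ u : Fˣ, s (s u) = u := by
    intro u
    ext
    rw [hs_val, hs_val, hσ2]
  set N : Fˣ →* Fˣ := MonoidHom.id Fˣ * s with hN
  set T : Fˣ →* Fˣ := MonoidHom.id Fˣ / s with hT
  have hNa : ∀ u, N u = u * s u := fun u => rfl
  have hTa : ∀ u, T u = u / s u := fun u => rfl
  have h1 : N.range ≤ T.ker := by
    rintro _ ⟨u, rfl⟩
    rw [MonoidHom.mem_ker, hTa, hNa, map_mul, hss, mul_comm (s u) u, div_self']
  have h2 : N.ker ≤ T.range := by
    intro a ha
    rw [MonoidHom.mem_ker, hNa] at ha
    have ha' : (a : F) * σ (a : F) = 1 := by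
      have := congrArg Units.val ha
      simpa [hs_val] using this
    -- Hilbert 90
    obtain ⟨c0, hc0⟩ : ∃ c0 : F, c0 + (a : F) * σ c0 ≠ 0 := by
      by_cases h : (1 : F) + a = 0
      · have hane : ∃ x, σ x ≠ x := by
          by_contra hcon
          push Not at hcon
          exact hσ (RingHom.ext hcon)
        obtain ⟨x, hx⟩ := hane
        refine ⟨x, ?_⟩
        have : (a : F) = -1 := by linear_combination h
        rw [this]
        intro h0
        apply hx
        linear_combination -h0
      · exact ⟨1, by simpa using h⟩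
    set b0 : F := c0 + (a : F) * σ c0 with hb0
    have hb : (a : F) * σ b0 = b0 := by
      rw [hb0, map_add, map_mul, hσ2]
      linear_combination c0 * ha'
    refine ⟨Units.mk0 b0 hc0, ?_⟩
    rw [hTa, div_eq_iff_eq_mul]
    ext
    rw [Units.val_mul, hs_val, Units.val_mk0]
    exact hb.symm
  have h3 : T.ker ≤ N.range := by
    have e1 := Subgroup.card_mul_index N.ker
    have e2 := Subgroup.card_mul_index T.ker
    rw [Subgroup.index_ker] at e1 e2
    have e3 := Subgroup.card_le_of_le h2
    have hpos : 0 < Nat.card T.range := Nat.card_pos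
    have e4 : Nat.card T.ker ≤ Nat.card N.range := by
      have : Nat.card T.ker * Nat.card T.range ≤ Nat.card N.range * Nat.card T.range := by
        calc Nat.card T.ker * Nat.card T.range = Nat.card N.ker * Nat.card N.range := by rw [e1, e2]
          _ ≤ Nat.card T.range * Nat.card N.range := Nat.mul_le_mul_right _ e3
          _ = Nat.card N.range * Nat.card T.range := mul_comm _ _
      exact Nat.le_of_mul_le_mul_right this hpos
    exact (Subgroup.eq_of_le_of_card_ge h1 e4).ge
  have hcmem : Units.mk0 c hc ∈ T.ker := by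
    rw [MonoidHom.mem_ker, hTa, div_eq_one]
    ext
    rw [hs_val, Units.val_mk0, hfix]
  obtain ⟨a, ha⟩ := h3 hcmem
  refine ⟨(a : F), ?_⟩
  have := congrArg Units.val ha
  simpa [hNa, hs_val] using this

end Cfsg.Agent.Helper28
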