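import Mathlib
import Cfsg.Prelude.Def_PLocal
import Cfsg.Agent.Helper26.ZJInst

/-! # S2768 / S2769 (Baumann's lemma in the rank-one pushing-up situation): shared definitions

Blueprint: `departures/helper28_KS12_blueprint.md`.  All objects are subgroups of the ambient group `G`.
`𝒜(S)` is `Cfsg.Agent.Helper26.famAb S` (abelian subgroups of `S` of largest order, as subgroups of `G`);
`Cfsg.Agent.Helper26.thompsonSubgroupAOf_eq` + `famAb_eq_famEl_zero` say `J(S) = sSup (famAb S)`. -/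

set_option autoImplicit false

namespace Cfsg.Agent.S2768P

open Subgroup

/-- The facts about `X = PSL₂(q)` (`q` a power of `p`) that are used. -/
structure RankOne (p : ℕ) (X : Type*) [Group X] : Prop where
  /-- Sylow `p`-subgroups are abelian -/
  comm : ∀ P : Sylow p X, ∀ a ∈ (P : Subgroup X), ∀ b ∈ (P : Subgroup X), a * b = b * a
  /-- distinct Sylow `p`-subgroups intersect trivially -/
  ti : ∀ P₁ P₂ : Sylow p X, P₁ ≠ P₂ → (P₁ : Subgroup X) ⊓ (P₂ : Subgroup X) = ⊥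
  /-- `X` is not a `p`-group -/
  ne_top : ∀ P : Sylow p X, (P : Subgroup X) ≠ ⊤
  /-- no proper normal subgroup contains a Sylow `p`-subgroup -/
  gen : ∀ (P : Sylow p X) (N : Subgroup X), N.Normal → (P : Subgroup X) ≤ N → N = ⊤
  /-- `N_X(U)` acts irreducibly on the Sylow `p`-subgroup `U` -/
  irr : ∀ (P : Sylow p X) (U₁ : Subgroup X), U₁ ≤ (P : Subgroup X) → U₁ ≠ ⊥ →
    normalizer ((P : Subgroup X) : Set X) ≤ normalizer (U₁ : Set X) → U₁ = (P : Subgroup X)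

variable {G : Type*} [Group G]

/-- `g H g⁻¹`. -/
def cj (g : G) (H : Subgroup G) : Subgroup G := H.map (MulAut.conj g).toMonoidHom

/-- Hypothesis `𝓔` with the maximal subgroup `M` and the normal subgroup `K` named. -/
structure Hyp (p : ℕ) [Fact p.Prime] (S : Sylow p G) (M K : Subgroup G) [K.Normal] : Prop where
  e1 : centralizer (Cfsg.pCore p G : Set G) ≤ Cfsg.pCore p G
  coatom : IsCoatom M
  le : (S : Subgroup G) ≤ M
  uniq : ∀ M' : Subgroup G, IsCoatom M' → (S : Subgroup G) ≤ M' → M' = M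
  rank : RankOne p (G ⧸ K)

/-- `J(S)`, abelian version. -/
def J (S : Subgroup G) : Subgroup G := Cfsg.thompsonSubgroupAOf S
/-- `W = Z(J(S))`. -/
def W (S : Subgroup G) : Subgroup G := Cfsg.centerThompsonAOf S
/-- `B = J̃(S) = C_S(Z(J(S)))`. -/
def B (S : Subgroup G) : Subgroup G := S ⊓ centralizer (W S : Set G)
/-- `Z(S)` as a subgroup of `G`. -/
def Z (S : Subgroup G) : Subgroup G := S ⊓ centralizer (S : Set G)
/-- `V = ⟨Z(S)^G⟩`. -/
def V (S : Subgroup G) : Subgroup G := normalClosure (Z S : Set G)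
/-- `𝒜(S)`. -/
def 𝒜 (S : Subgroup G) : Set (Subgroup G) := Cfsg.Agent.Helper26.famAb S
/-- `J_Q = ⟨A ∈ 𝒜(S) : A ≤ O_p(G)⟩`. -/
def JQ (p : ℕ) (S : Subgroup G) : Subgroup G := sSup {A | A ∈ 𝒜 S ∧ A ≤ Cfsg.pCore p G}
/-- `U_Q = Z(J_Q)`. -/
def UQ (p : ℕ) (S : Subgroup G) : Subgroup G := JQ p S ⊓ centralizer (JQ p S : Set G)
/-- `R = C_Q(W)`. -/
def R (p : ℕ) (S : Subgroup G) : Subgroup G := Cfsg.pCore p G ⊓ centralizer (W S : Set G)
/-- `L = ⟨B^G⟩`. -/
def L (S : Subgroup G) : Subgroup G := normalClosure (B S : Set G)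
/-- `G₁ = ⟨J(S)^G⟩`. -/
def G₁ (S : Subgroup G) : Subgroup G := normalClosure (J S : Set G)

/-- The consequences of `𝓔` (blueprint §1, 1.1–1.8) used downstream; `K` and `PSL₂` no longer appear. -/
structure Basic (p : ℕ) [Fact p.Prime] (S : Sylow p G) (M : Subgroup G) : Prop where
  e1 : centralizer (Cfsg.pCore p G : Set G) ≤ Cfsg.pCore p G
  /-- 1.1 -/
  proper_le : ∀ H : Subgroup G, (S : Subgroup G) ≤ H → H ≠ ⊤ → H ≤ M
  M_ne_top : M ≠ ⊤
  /-- 1.5 Lemma A -/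
  lemmaA : ∀ g : G, g ∉ M → (S : Subgroup G) ⊓ cj g M = Cfsg.pCore p G
  /-- 1.6 -/
  S_ne_Q : (S : Subgroup G) ≠ Cfsg.pCore p G
  /-- 1.6 `S/Q` abelian -/
  quot_comm : ∀ a ∈ (S : Subgroup G), ∀ b ∈ (S : Subgroup G), a * b * a⁻¹ * b⁻¹ ∈ Cfsg.pCore p G
  /-- 1.8 -/
  gen : ∀ g : G, g ∉ M → (S : Subgroup G) ⊔ cj g (S : Subgroup G) = ⊤

/-- 1.9: no `N_G(S)`-invariant subgroup strictly between `Q` and `S`. -/
def Irr (p : ℕ) [Fact p.Prime] (S : Sylow p G) : Prop :=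
  ∀ S₁ : Subgroup G, Cfsg.pCore p G ≤ S₁ → S₁ ≤ (S : Subgroup G) → S₁ ≠ Cfsg.pCore p G →
    normalizer ((S : Subgroup G) : Set G) ≤ normalizer (S₁ : Set G) → S₁ = (S : Subgroup G)

/-- The context of case 2b of the blueprint (§5). -/
structure Ctx (p : ℕ) [Fact p.Prime] (S : Sylow p G) (M : Subgroup G) : Prop where
  basic : Basic p S M
  irr : Irr p S
  hJ : ¬ J (S : Subgroup G) ≤ Cfsg.pCore p G
  hZ : ¬ (Z (S : Subgroup G)).Normal

end Cfsg.Agent.S2768P
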