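import Mathlib
import Cfsg.Agent.Helper12.S3000LC
import Cfsg.Agent.Helper12.S3000J

/-! S3000/S3001 (BHS FF-module theorem for `p`-minimal groups): definitions for the board `s3000pieces`
(blueprint: `departures/helper28_S3000_blueprint.md`).  Standing hypotheses: `Hyp p V P T M` (helper12, `S3000F2`).
Conventions: conjugation is on the LEFT, `cjs g A = g A g⁻¹`, the action on `V` is `v ↦ g * v * g⁻¹`;
`fixV V A = C_V(A)`, `⁅V, A⁆ = [V,A]`. -/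

set_option autoImplicit false

namespace Cfsg.Agent.S3000P

open Cfsg.Agent.S2789P Cfsg.Agent.S2999P
open scoped commutatorElement

variable {G : Type*} [Group G]

/-- the Sylow subgroup `T` as a subgroup of `G` -/
abbrev TT {p : ℕ} {P : Subgroup G} (T : Sylow p ↥P) : Subgroup G := (T : Subgroup ↥P).map P.subtype

/-- the maximal subgroup `M` as a subgroup of `G` -/
abbrev MM {P : Subgroup G} (M : Subgroup ↥P) : Subgroup G := M.map P.subtype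

/-- `q` is the least order of a strict offender of `P` on `V` -/
def MinQ (p : ℕ) (V P : Subgroup G) (q : ℕ) : Prop :=
  (∃ A : Subgroup G, A ≤ P ∧ StrictOff p V A ∧ Nat.card ↥A = q) ∧
    ∀ D : Subgroup G, D ≤ P → StrictOff p V D → q ≤ Nat.card ↥D

/-- membership in `𝒜`: strict offenders of `P` of the least order `q` -/
structure InA (p : ℕ) (V P : Subgroup G) (q : ℕ) (A : Subgroup G) : Prop where
  le : A ≤ P
  so : StrictOff p V A
  card : Nat.card ↥A = q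

theorem InA.mem {p : ℕ} {V P : Subgroup G} {q : ℕ} {A : Subgroup G} (h : InA p V P q A) : A ∈ AqIn p V P q :=
  ⟨h.le, h.so, h.card⟩

theorem InA.of_mem {p : ℕ} {V P : Subgroup G} {q : ℕ} {A : Subgroup G} (h : A ∈ AqIn p V P q) : InA p V P q A :=
  ⟨h.1, h.2.1, h.2.2⟩

/-- generated by the strict offenders of order `q` inside `S` other than `A` (`J = JOff p V S q` is helper12's `J_q(S)`) -/
def JJ2 (p : ℕ) (V S : Subgroup G) (q : ℕ) (A : Subgroup G) : Subgroup G :=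
  sSup {D | D ∈ AqIn p V S q ∧ D ≠ A}

/-- the diagonal torus of `SL₂(F)` -/
def diagSL (F : Type) [Field F] : Subgroup (Matrix.SpecialLinearGroup (Fin 2) F) where
  carrier := {g | (g : Matrix (Fin 2) (Fin 2) F) 0 1 = 0 ∧ (g : Matrix (Fin 2) (Fin 2) F) 1 0 = 0}
  one_mem' := by simp
  mul_mem' := by
    rintro a b ⟨ha1, ha2⟩ ⟨hb1, hb2⟩
    simp only [Set.mem_ofPred_eq, Matrix.SpecialLinearGroup.coe_mul, Matrix.mul_apply, Fin.sum_univ_two] at *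
    rw [ha1, ha2, hb1, hb2]; simp
  inv_mem' := by
    rintro a ⟨ha1, ha2⟩
    simp only [Set.mem_ofPred_eq, Matrix.SpecialLinearGroup.coe_inv, Matrix.adjugate_fin_two, Matrix.of_apply,
      Matrix.cons_val', Matrix.cons_val_zero, Matrix.cons_val_one, Matrix.empty_val', Matrix.cons_val_fin_one] at *
    simp [ha1, ha2]

/-- the Weyl element of `SL₂(F)` -/
def weylSL (F : Type) [Field F] : Matrix.SpecialLinearGroup (Fin 2) F :=
  ⟨!![0, 1; -1, 0], by simp [Matrix.det_fin_two]⟩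

/-- Coordinates for a package `(A, E)`: an isomorphism `ρ : E ≃* SL₂(F)` mapping `A` onto the upper unitriangular group, and a
`ρ`-equivariant surjection `ψ : V → F²` with kernel `C_V(E)`. -/
structure Coord (F : Type) [Field F] (V A E : Subgroup G) where
  ρ : ↥E ≃* Matrix.SpecialLinearGroup (Fin 2) F
  ψ : ↥V →* Multiplicative (Fin 2 → F)
  surj : Function.Surjective ψ
  ker : ∀ v : ↥V, ψ v = 1 ↔ (v : G) ∈ fixV V E
  eqv : ∀ (e : ↥E) (v : ↥V), ∃ w : ↥V, (w : G) = (e : G) * (v : G) * (e : G)⁻¹ ∧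
    Multiplicative.toAdd (ψ w) =
      ((ρ e : Matrix.SpecialLinearGroup (Fin 2) F) : Matrix (Fin 2) (Fin 2) F).mulVec (Multiplicative.toAdd (ψ v))
  hA : ∀ e : ↥E, (e : G) ∈ A ↔
    (((ρ e : Matrix.SpecialLinearGroup (Fin 2) F) : Matrix (Fin 2) (Fin 2) F) 1 0 = 0 ∧
      ((ρ e : Matrix.SpecialLinearGroup (Fin 2) F) : Matrix (Fin 2) (Fin 2) F) 0 0 = 1)

/-- the torus `H = ρ⁻¹(diagonal matrices)` of a coordinatised package, as a subgroup of `G` -/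
def Coord.torus {F : Type} [Field F] {V A E : Subgroup G} (c : Coord F V A E) : Subgroup G :=
  ((diagSL F).comap c.ρ.toMonoidHom).map E.subtype

/-- the Weyl element `w₀ = ρ⁻¹ [[0,1],[-1,0]]` of a coordinatised package -/
def Coord.weyl {F : Type} [Field F] {V A E : Subgroup G} (c : Coord F V A E) : G :=
  ((c.ρ.symm (weylSL F) : ↥E) : G)

/-- the SL₂-package `(A, E)`: `A ∈ 𝒜`, `A ≤ E ≤ P`, `E` generated by `A` and any other `E`-conjugate of `A`, `C_V(A) = [V,A] C_V(E)`,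
and coordinates over a field with `q` elements. -/
structure Pack (p : ℕ) (V P : Subgroup G) (q : ℕ) (A E : Subgroup G) : Prop where
  hA : InA p V P q A
  hAE : A ≤ E
  hEP : E ≤ P
  hgen : ∀ e ∈ E, cjs e A ≠ A → A ⊔ cjs e A = E
  hUA : fixV V A = ⁅V, A⁆ ⊔ fixV V E
  hco : ∃ (F : Type) (_ : Field F) (_ : Fintype F), Fintype.card F = q ∧ Nonempty (Coord F V A E)

/-- the package `(A, E)` is based at the point `Mg` of `P / Mg`: `A` fixes it, `E` does not, and `N_E(A)` fixes it. -/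
structure Based (Mg A E : Subgroup G) : Prop where
  hAM : A ≤ Mg
  hEM : ¬ E ≤ Mg
  hN : ∀ e ∈ E, cjs e A = A → e ∈ Mg

/-- The abstract toolkit of a package `(A, E)` with torus `H` and Weyl element `w` (blueprint §1, TK1–TK6); `C = fixV V E`. -/
structure Tool (p : ℕ) (V P : Subgroup G) (q : ℕ) (A E H : Subgroup G) (w : G) : Prop where
  hA : InA p V P q A
  hAE : A ≤ E
  hEP : E ≤ P
  hHE : H ≤ E
  hwE : w ∈ E
  /-- `H` normalises `A` -/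
  hHA : ∀ h ∈ H, cjs h A = A
  /-- `w` normalises `H` -/
  hwH : cjs w H = H
  hwA : cjs w A ≠ A
  /-- `H` is a `p'`-group -/
  hHp : (Nat.card ↥H).Coprime p
  /-- `C_V(h) = C_V(E)` for `1 ≠ h ∈ H` -/
  hfixH : ∀ h ∈ H, h ≠ 1 → ∀ v ∈ V, h * v * h⁻¹ = v → v ∈ fixV V E
  hmeet : ∀ e ∈ E, cjs e A ≠ A → fixV V A ⊓ fixV V (cjs e A) ≤ fixV V E
  hgen : ∀ e ∈ E, cjs e A ≠ A → A ⊔ cjs e A = E
  hUA : fixV V A = ⁅V, A⁆ ⊔ fixV V E
  /-- `C_{V/C}(a) = C_V(A)/C` for `1 ≠ a ∈ A` -/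
  hquot : ∀ a ∈ A, a ≠ 1 → ∀ v ∈ V, a * v * a⁻¹ * v⁻¹ ∈ fixV V E → v ∈ fixV V A
  /-- `E` is faithful on `V / C` -/
  hker : ∀ e ∈ E, (∀ v ∈ V, e * v * e⁻¹ * v⁻¹ ∈ fixV V E) → e = 1
  /-- `E` is transitive on the nonidentity elements of `V / C` -/
  htrans : ∀ v ∈ V, v ∉ fixV V E → ∀ v' ∈ V, v' ∉ fixV V E → ∃ e ∈ E, e * v * e⁻¹ * v'⁻¹ ∈ fixV V E
  hcardC : Nat.card ↥V = q ^ 2 * Nat.card ↥(fixV V E)
  /-- `λ₁ + λ₂ = 1` on the line `C_V(ʷA)/C` -/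
  hsum : ∃ h₁ ∈ H, ∃ h₂ ∈ H, h₁ ≠ 1 ∧ h₂ ≠ 1 ∧
    ∀ x ∈ fixV V (cjs w A), (h₁ * x * h₁⁻¹) * (h₂ * x * h₂⁻¹) * x⁻¹ ∈ fixV V E
  /-- `H` is transitive on the nonidentity elements of `C_V(A)/C` -/
  htransR : ∀ u ∈ fixV V A, u ∉ fixV V E → ∀ u' ∈ fixV V A, u' ∉ fixV V E → ∃ h ∈ H, h * u * h⁻¹ * u'⁻¹ ∈ fixV V E
  /-- `p = 2`: `H` is transitive on `A \ 1` -/
  htransA : p = 2 → ∀ a ∈ A, a ≠ 1 → ∀ a' ∈ A, a' ≠ 1 → ∃ h ∈ H, h * a * h⁻¹ = a'
  /-- `p` odd: the central involution -/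
  hz : p ≠ 2 → ∃ z ∈ H, z ≠ 1 ∧ ∀ e ∈ E, z * e = e * z
  hnat : ∃ (F : Type) (_ : Field F) (_ : Fintype F), Fintype.card F = q ∧ NatOut F V E (fixV V E)

/-- the local conclusion of S3000 for one component `E` -/
def LocOut (p : ℕ) (V E : Subgroup G) : Prop :=
  ∃ n : ℕ, 1 ≤ n ∧ ∃ (F : Type) (_ : Field F) (_ : Fintype F), Fintype.card F = p ^ n ∧
    Nonempty (↥E ≃* Matrix.SpecialLinearGroup (Fin 2) F) ∧
    Cfsg.ActsAsSL2OnSection F ⊤ E ⁅V, E⁆ (⁅V, E⁆ ⊓ Subgroup.centralizer ((E : Subgroup G) : Set G))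

/-- the conclusion of S3000 -/
def Concl (p : ℕ) (V P Tg : Subgroup G) : Prop :=
  ∃ (r : ℕ) (E : Fin r → Subgroup G), 1 ≤ r ∧ (∀ i, E i ≤ P) ∧ (∀ i j, i ≠ j → ⁅E i, E j⁆ = ⊥) ∧
    (∀ i, E i ⊓ (⨆ j ∈ {j | j ≠ i}, E j) = ⊥) ∧ (⨆ i, E i) ⊔ Tg = P ∧
    (∀ i j, ∃ t ∈ Tg, (E i).map (MulAut.conj t).toMonoidHom = E j) ∧
    (V ⊓ Subgroup.centralizer (((⨆ i, E i) : Subgroup G) : Set G)) ⊔ (⨆ i, ⁅V, E i⁆) = V ∧
    (∀ i j, i ≠ j → ⁅⁅V, E i⁆, E j⁆ = ⊥) ∧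
    ∀ i, ∃ n : ℕ, 1 ≤ n ∧
      ((∃ (F : Type) (_ : Field F) (_ : Fintype F), Fintype.card F = p ^ n ∧
        Nonempty (↥(E i) ≃* Matrix.SpecialLinearGroup (Fin 2) F) ∧
        Cfsg.ActsAsSL2OnSection F ⊤ (E i) ⁅V, E i⁆ (⁅V, E i⁆ ⊓ Subgroup.centralizer ((E i : Subgroup G) : Set G))) ∨
      (p = 2 ∧ Nonempty (↥(E i) ≃* Equiv.Perm (Fin (2 ^ n + 1))) ∧
        Cfsg.ActsAsOddPermModuleOnSection (2 ^ n + 1) ⊤ (E i) ⁅V, E i⁆
          (⁅V, E i⁆ ⊓ Subgroup.centralizer ((E i : Subgroup G) : Set G))))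

/-- the subgroup generated by the `P`-conjugates `g z₀ g⁻¹` of `z₀` that are centralised by `J₂` and have the point `x Mg` -/
def Zpt (P Mg J₂ : Subgroup G) (V : Subgroup G) (z₀ x : G) : Subgroup G :=
  Subgroup.closure {v | ∃ g ∈ P, v = g * z₀ * g⁻¹ ∧ v ∈ fixV V J₂ ∧ g⁻¹ * x ∈ Mg}

end Cfsg.Agent.S3000P
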