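import Mathlib
import Cfsg.Agent.Helper28.S3000Defs
import Cfsg.Agent.Helper26.Basic

/-! S3000: a small calculus for the "commutator map" `cm g v = g * v * g⁻¹ * v⁻¹` of `g ∈ N(V)` on an abelian `V`
(additively: `(g - 1) v`), for the board `s3000pieces`. -/

set_option autoImplicit false

namespace Cfsg.Agent.S3000P

open Cfsg.Agent.S2789P Cfsg.Agent.S2999P
open scoped commutatorElement

variable {G : Type*} [Group G]

/-- `(g - 1) v` written multiplicatively -/
def cm (g v : G) : G := g * v * g⁻¹ * v⁻¹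

theorem cm_def (g v : G) : cm g v = g * v * g⁻¹ * v⁻¹ := rfl

theorem cm_eq_comm (g v : G) : cm g v = ⁅g, v⁆ := rfl

theorem cm_one_right (g : G) : cm g 1 = 1 := by simp [cm]

theorem cm_one_left (v : G) : cm 1 v = 1 := by simp [cm]

theorem cm_conj (g v : G) : g * v * g⁻¹ = cm g v * v := by simp [cm]

theorem cm_eq_one_iff {g v : G} : cm g v = 1 ↔ g * v = v * g := by
  unfold cm
  constructor
  · intro h
    have : g * v = (g * v * g⁻¹ * v⁻¹) * (v * g) := by group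
    rw [this, h, one_mul]
  · intro h
    have : g * v * g⁻¹ * v⁻¹ = (g * v) * g⁻¹ * v⁻¹ := by group
    rw [this, h]; group

/-- `(g g' - 1) v = (g - 1)(g' v) · (g' - 1) v` -/
theorem cm_mul_left (g g' v : G) : cm (g * g') v = cm g (g' * v * g'⁻¹) * cm g' v := by
  unfold cm; group

theorem cm_conj_left (h d v : G) : cm (h * d * h⁻¹) v = h * cm d (h⁻¹ * v * h) * h⁻¹ := by
  unfold cm; group

section
variable {V : Subgroup G}

theorem V_comm_of_elab {p : ℕ} (hV : Cfsg.IsElementaryAbelian p V) {v w : G} (hv : v ∈ V) (hw : w ∈ V) :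
    v * w = w * v :=
  congrArg Subtype.val (hV.1.is_comm.comm ⟨v, hv⟩ ⟨w, hw⟩)

theorem conj_mem_of_normalizer {g v : G} (hg : g ∈ Subgroup.normalizer (V : Set G)) (hv : v ∈ V) :
    g * v * g⁻¹ ∈ V := (Subgroup.mem_normalizer_iff.mp hg v).mp hv

theorem conj_inv_mem_of_normalizer {g v : G} (hg : g ∈ Subgroup.normalizer (V : Set G)) (hv : v ∈ V) :
    g⁻¹ * v * g ∈ V := by
  have := conj_mem_of_normalizer ((Subgroup.normalizer (V : Set G)).inv_mem hg) hv
  rwa [inv_inv] at this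

theorem cm_mem {g v : G} (hg : g ∈ Subgroup.normalizer (V : Set G)) (hv : v ∈ V) : cm g v ∈ V :=
  V.mul_mem (conj_mem_of_normalizer hg hv) (V.inv_mem hv)

/-- `(g - 1)` is additive on the abelian `V` -/
theorem cm_mul_right (hVc : ∀ v ∈ V, ∀ w ∈ V, v * w = w * v) {g v w : G}
    (hg : g ∈ Subgroup.normalizer (V : Set G)) (hv : v ∈ V) (hw : w ∈ V) : cm g (v * w) = cm g v * cm g w := by
  unfold cm
  have h1 : g * w * g⁻¹ ∈ V := conj_mem_of_normalizer hg hw
  have e1 : g * (v * w) * g⁻¹ * (v * w)⁻¹ = g * v * g⁻¹ * ((g * w * g⁻¹) * w⁻¹ * v⁻¹) := by group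
  have e2 : (g * w * g⁻¹) * w⁻¹ * v⁻¹ = v⁻¹ * ((g * w * g⁻¹) * w⁻¹) :=
    hVc _ (V.mul_mem h1 (V.inv_mem hw)) _ (V.inv_mem hv)
  rw [e1, e2]; group

theorem cm_inv_right (hVc : ∀ v ∈ V, ∀ w ∈ V, v * w = w * v) {g v : G}
    (hg : g ∈ Subgroup.normalizer (V : Set G)) (hv : v ∈ V) : cm g v⁻¹ = (cm g v)⁻¹ := by
  have h := cm_mul_right hVc hg hv (V.inv_mem hv)
  rw [mul_inv_cancel, cm_one_right] at h
  exact (eq_inv_of_mul_eq_one_right h.symm)

theorem cm_eq_one_of_fix {A : Subgroup G} {a v : G} (ha : a ∈ A) (hv : v ∈ fixV V A) : cm a v = 1 :=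
  cm_eq_one_iff.mpr ((mem_fix.mp hv).2 a ha)

theorem cm_mem_comm {A : Subgroup G} {a v : G} (ha : a ∈ A) (hv : v ∈ V) : cm a v ∈ ⁅V, A⁆ := by
  rw [Subgroup.commutator_comm]
  exact Subgroup.commutator_mem_commutator ha hv

/-- for an abelian `V` every element of `X ⊔ Y` (`X, Y ≤ V`) is a product -/
theorem mem_sup_of_abelian (hVc : ∀ v ∈ V, ∀ w ∈ V, v * w = w * v) {X Y : Subgroup G} (hX : X ≤ V) (hY : Y ≤ V)
    {v : G} (hv : v ∈ X ⊔ Y) : ∃ x ∈ X, ∃ y ∈ Y, v = x * y := by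
  have hc : ∀ (a : X) (b : Y), Commute (X.subtype a) (Y.subtype b) := fun a b => hVc a (hX a.2) b (hY b.2)
  have h1 := MonoidHom.noncommCoprod_range X.subtype Y.subtype hc
  rw [Subgroup.range_subtype, Subgroup.range_subtype] at h1
  rw [← h1] at hv
  obtain ⟨⟨a, b⟩, rfl⟩ := hv
  exact ⟨a, a.2, b, b.2, rfl⟩

/-- elementwise commuting subgroups: every element of `X ⊔ Y` is a product -/
theorem mem_sup_of_comm {X Y : Subgroup G} (hc : ∀ x ∈ X, ∀ y ∈ Y, x * y = y * x)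
    {v : G} (hv : v ∈ X ⊔ Y) : ∃ x ∈ X, ∃ y ∈ Y, v = x * y := by
  have hc' : ∀ (a : X) (b : Y), Commute (X.subtype a) (Y.subtype b) := fun a b => hc a a.2 b b.2
  have h1 := MonoidHom.noncommCoprod_range X.subtype Y.subtype hc'
  rw [Subgroup.range_subtype, Subgroup.range_subtype] at h1
  rw [← h1] at hv
  obtain ⟨⟨a, b⟩, rfl⟩ := hv
  exact ⟨a, a.2, b, b.2, rfl⟩

/-- elementwise commuting subgroups with trivial intersection: `|X ⊔ Y| = |X| |Y|` -/
theorem card_sup_of_comm {X Y : Subgroup G} (hc : ∀ x ∈ X, ∀ y ∈ Y, x * y = y * x) (hXY : X ⊓ Y = ⊥) :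
    Nat.card ↥(X ⊔ Y) = Nat.card ↥X * Nat.card ↥Y := by
  have hLE : X ≤ Subgroup.normalizer (Y : Set G) := by
    intro x hx
    rw [Subgroup.mem_normalizer_iff]
    intro y
    constructor
    · intro hy
      have : x * y * x⁻¹ = y := by rw [hc x hx y hy]; group
      rwa [this]
    · intro hy
      have h2 := hc x hx _ hy
      have e : y = x * y * x⁻¹ := by
        calc y = x⁻¹ * (x * y * x⁻¹ * x) := by group
          _ = x⁻¹ * (x * (x * y * x⁻¹)) := by rw [← h2]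
          _ = x * y * x⁻¹ := by group
      rw [e]; exact hy
  have h := Cfsg.Agent.Helper26.card_sup_mul_card_inf hLE
  rw [hXY, Subgroup.card_bot, mul_one] at h
  exact h

end

end Cfsg.Agent.S3000P
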