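import Mathlib
import Cfsg.Agent.Helper28.S3000Cm
import Cfsg.Agent.Helper17.S3000Z1A
import Cfsg.Agent.Helper14.S3000TKD3
import Cfsg.Agent.Helper2.S3000TKD4
import Cfsg.Agent.Helper12.S3000OFFQ
import Cfsg.Agent.Helper19.S3000BASIC

/-! S3000, piece Z1D of the board `s3000pieces` (blueprint §2 Z1D). -/

set_option autoImplicit false
set_option linter.unusedSectionVars false

namespace Cfsg.Agent.S3000P

open Cfsg.Agent.S2789P Cfsg.Agent.S2999P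
open scoped commutatorElement

variable {G : Type*} [Group G] [Finite G] {p : ℕ} [Fact p.Prime] {V P : Subgroup G} {T : Sylow p ↥P} {M : Subgroup ↥P} {q : ℕ}
variable {A E H : Subgroup G} {w : G}

/-- the standing context of Z1D -/
structure Z1D_aux_Ctx (p : ℕ) (V P : Subgroup G) (T : Sylow p ↥P) (M : Subgroup ↥P) (q : ℕ) (A E H : Subgroup G) (w : G)
    (D : Subgroup G) : Prop where
  Hy : Hyp p V P T M
  K : Tool p V P q A E H w
  hD : InA p V P q D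
  hDA : D ≠ A
  hc : ∀ a ∈ A, ∀ d ∈ D, a * d = d * a

namespace Z1D_aux_Ctx

variable {D : Subgroup G} (c : Z1D_aux_Ctx p V P T M q A E H w D)
include c

theorem hVc : ∀ v ∈ V, ∀ w ∈ V, v * w = w * v := fun _ hv _ hw => V_comm_of_elab c.Hy.hV hv hw

theorem hHP : H ≤ P := c.K.hHE.trans c.K.hEP

theorem nV {g : G} (hg : g ∈ P) : g ∈ Subgroup.normalizer (V : Set G) := c.Hy.hPV hg

theorem f6 : fixV V A ⊔ fixV V D = V ∧ ⁅V, A⁆ ≤ fixV V D ∧ ⁅V, D⁆ ≤ fixV V A :=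
  F6_cor c.Hy c.K.hA.le c.K.hA.so c.hD.le c.hD.so (Ne.symm c.hDA) c.hc

theorem qA : ⁅V, A⁆ ≤ fixV V A := F3_quad c.Hy c.K.hA.le c.K.hA.so

theorem qD : ⁅V, D⁆ ≤ fixV V D := F3_quad c.Hy c.hD.le c.hD.so

theorem RA_le_V : ⁅V, A⁆ ≤ V := c.qA.trans (fix_le V A)

/-- `H` is trivial on `U_A / R_A` -/
theorem cm_H_UA {h u : G} (hh : h ∈ H) (hu : u ∈ fixV V A) : cm h u ∈ ⁅V, A⁆ := by
  have hu' := hu
  rw [c.K.hUA] at hu'
  obtain ⟨r, hr, c₀, hc₀, rfl⟩ := mem_sup_of_abelian c.hVc c.RA_le_V (fix_le V E) hu'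
  have hhP : h ∈ P := c.hHP hh
  rw [cm_mul_right c.hVc (c.nV hhP) (c.RA_le_V hr) (fix_le V E hc₀)]
  have h1 : cm h c₀ = 1 := cm_eq_one_of_fix (c.K.hHE hh) hc₀
  rw [h1, mul_one]
  have h2 : h * r * h⁻¹ ∈ cjs h ⁅V, A⁆ := cj_mem_conj.mpr hr
  rw [cj_comm, cj_norm (c.nV hhP), c.K.hHA h hh] at h2
  exact (⁅V, A⁆).mul_mem h2 ((⁅V, A⁆).inv_mem hr)

theorem cm_ad {a d v : G} (ha : a ∈ A) (hd : d ∈ D) (hv : v ∈ V) : cm (a * d) v = cm a v * cm d v := by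
  rw [cm_mul_left, cm_conj d v]
  have hdP : d ∈ P := c.hD.le hd
  have haP : a ∈ P := c.K.hA.le ha
  have h1 : cm d v ∈ fixV V A := c.f6.2.2 (cm_mem_comm hd hv)
  rw [cm_mul_right c.hVc (c.nV haP) (fix_le V A h1) hv, cm_eq_one_of_fix ha h1, one_mul]

theorem cm_aa {a a' v : G} (ha : a ∈ A) (ha' : a' ∈ A) (hv : v ∈ V) : cm (a * a') v = cm a v * cm a' v := by
  rw [cm_mul_left, cm_conj a' v]
  have haP : a ∈ P := c.K.hA.le ha
  have h1 : cm a' v ∈ fixV V A := c.qA (cm_mem_comm ha' hv)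
  rw [cm_mul_right c.hVc (c.nV haP) (fix_le V A h1) hv, cm_eq_one_of_fix ha h1, one_mul]

/-- the main formula -/
theorem star {h d a v u u' : G} (hh : h ∈ H) (hd : d ∈ D) (ha : a ∈ A) (had : a * d ∈ cjs h D) (hv : v ∈ V)
    (hu : u ∈ fixV V A) (hu' : u' ∈ fixV V D) (hdec : h⁻¹ * v * h * v⁻¹ = u * u') : cm a v = cm d u := by
  have hhP : h ∈ P := c.hHP hh
  have hhiP : h⁻¹ ∈ P := P.inv_mem hhP
  have hdP : d ∈ P := c.hD.le hd
  rw [cj_mem] at had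
  set d' := h⁻¹ * (a * d) * h with hd'
  have hd'P : d' ∈ P := c.hD.le had
  have had' : a * d = h * d' * h⁻¹ := by rw [hd']; group
  -- the claim on `U_A`
  have claim : ∀ w₁ ∈ fixV V A, h * cm d' w₁ * h⁻¹ = cm d w₁ := by
    intro w₁ hw₁
    have hw₁V : w₁ ∈ V := fix_le V A hw₁
    have e1 : cm (a * d) w₁ = cm d w₁ := by
      rw [c.cm_ad ha hd hw₁V, cm_eq_one_of_fix ha hw₁, one_mul]
    have e2 : cm (a * d) w₁ = h * cm d' (h⁻¹ * w₁ * h) * h⁻¹ := by rw [had', cm_conj_left]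
    have e3 : h⁻¹ * w₁ * h = cm h⁻¹ w₁ * w₁ := by rw [cm_def]; group
    have h4 : cm h⁻¹ w₁ ∈ fixV V D := c.f6.2.1 (c.cm_H_UA (H.inv_mem hh) hw₁)
    have e5 : cm d' (h⁻¹ * w₁ * h) = cm d' w₁ := by
      rw [e3, cm_mul_right c.hVc (c.nV hd'P) (fix_le V D h4) hw₁V, cm_eq_one_of_fix had h4, one_mul]
    rw [← e1, e2, e5]
  -- decompose `v`
  have hv' : v ∈ fixV V A ⊔ fixV V D := by rw [c.f6.1]; exact hv
  obtain ⟨u₀, hu₀, u₀', hu₀', rfl⟩ := mem_sup_of_abelian c.hVc (fix_le V A) (fix_le V D) hv'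
  have hu₀V := fix_le V A hu₀
  have hu₀'V := fix_le V D hu₀'
  have huV := fix_le V A hu
  have hu'V := fix_le V D hu'
  have e1 : h⁻¹ * (u₀ * u₀') * h = (u₀ * u) * (u₀' * u') := by
    have : h⁻¹ * (u₀ * u₀') * h = (h⁻¹ * (u₀ * u₀') * h * (u₀ * u₀')⁻¹) * (u₀ * u₀') := by group
    rw [this, hdec]
    have h1 : u * u' * (u₀ * u₀') = u * (u' * u₀) * u₀' := by group
    rw [h1, c.hVc u' hu'V u₀ hu₀V]
    have h2 : u * (u₀ * u') * u₀' = (u * u₀) * (u' * u₀') := by group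
    rw [h2, c.hVc u huV u₀ hu₀V, c.hVc u' hu'V u₀' hu₀'V]
  have e2 : cm (a * d) (u₀ * u₀') = cm d (u₀ * u) := by
    rw [had', cm_conj_left, e1,
      cm_mul_right c.hVc (c.nV hd'P) (V.mul_mem hu₀V huV) (V.mul_mem hu₀'V hu'V),
      cm_eq_one_of_fix had ((fixV V D).mul_mem hu₀' hu'), mul_one]
    exact claim _ ((fixV V A).mul_mem hu₀ hu)
  have e3 : cm (a * d) (u₀ * u₀') = cm a (u₀ * u₀') * cm d u₀ := by
    rw [c.cm_ad ha hd (V.mul_mem hu₀V hu₀'V), cm_mul_right c.hVc (c.nV hdP) hu₀V hu₀'V,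
      cm_eq_one_of_fix hd hu₀', mul_one]
  have e4 : cm d (u₀ * u) = cm d u₀ * cm d u := cm_mul_right c.hVc (c.nV hdP) hu₀V huV
  have h5 : cm a (u₀ * u₀') * cm d u₀ = cm d u₀ * cm d u := by rw [← e3, e2, e4]
  have h6 : cm d u₀ ∈ V := cm_mem (c.nV hdP) hu₀V
  have h7 : cm a (u₀ * u₀') ∈ V := cm_mem (c.nV (c.K.hA.le ha)) (V.mul_mem hu₀V hu₀'V)
  rw [c.hVc _ h7 _ h6] at h5
  exact mul_left_cancel h5

/-- the other members `cjs h D ≠ D` of `𝒜` inside `A ⊔ D` are "graphs": every `d ∈ D` has an `a ∈ A` with `a d ∈ cjs h D` -/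
theorem exists_a {h : G} (hh : h ∈ H) (hne : cjs h D ≠ D) {d : G} (hd : d ∈ D) :
    ∃ a ∈ A, a * d ∈ cjs h D ∧ (d ≠ 1 → a ≠ 1) := by
  have hhP : h ∈ P := c.hHP hh
  have hD' : InA p V P q (cjs h D) := InA.conj c.Hy c.hD hhP
  have hle : cjs h D ≤ A ⊔ D := Z1A c.Hy c.K c.hD c.hDA c.hc h hh
  have hneA : A ≠ cjs h D := by
    intro e
    apply c.hDA
    have : cjs h A = cjs h D := by rw [c.K.hHA h hh]; exact e
    exact (cj_inj.mp this).symm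
  have hTI : A ⊓ cjs h D = ⊥ := F3_TI c.Hy c.K.hA.le c.K.hA.so hD'.le hD'.so hneA
  have hTI2 : A ⊓ D = ⊥ := F3_TI c.Hy c.K.hA.le c.K.hA.so c.hD.le c.hD.so (Ne.symm c.hDA)
  have hTI3 : D ⊓ cjs h D = ⊥ := F3_TI c.Hy c.hD.le c.hD.so hD'.le hD'.so (Ne.symm hne)
  -- `A` commutes with `cjs h D`
  have hc' : ∀ a ∈ A, ∀ y ∈ cjs h D, a * y = y * a := by
    intro a ha y hy
    obtain ⟨a₁, ha₁, d₁, hd₁, rfl⟩ := mem_sup_of_comm c.hc (hle hy)
    have hAc : ∀ x ∈ A, ∀ y ∈ A, x * y = y * x := fun x hx y hy =>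
      congrArg Subtype.val (c.K.hA.so.hA.1.is_comm.comm ⟨x, hx⟩ ⟨y, hy⟩)
    calc a * (a₁ * d₁) = (a * a₁) * d₁ := by group
      _ = (a₁ * a) * d₁ := by rw [hAc a ha a₁ ha₁]
      _ = a₁ * (a * d₁) := by group
      _ = a₁ * (d₁ * a) := by rw [c.hc a ha d₁ hd₁]
      _ = a₁ * d₁ * a := by group
  have hcard1 : Nat.card ↥(A ⊔ cjs h D) = q * q := by
    rw [card_sup_of_comm hc' hTI, c.K.hA.card, hD'.card]
  have hcard2 : Nat.card ↥(A ⊔ D) = q * q := by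
    rw [card_sup_of_comm c.hc hTI2, c.K.hA.card, c.hD.card]
  have heq : A ⊔ cjs h D = A ⊔ D := by
    apply Subgroup.eq_of_le_of_card_ge (sup_le le_sup_left hle)
    rw [hcard1, hcard2]
  have hd' : d ∈ A ⊔ cjs h D := by rw [heq]; exact le_sup_right (a := A) hd
  obtain ⟨a₁, ha₁, y, hy, rfl⟩ := mem_sup_of_comm hc' hd'
  refine ⟨a₁⁻¹, A.inv_mem ha₁, ?_, ?_⟩
  · have : a₁⁻¹ * (a₁ * y) = y := by group
    rw [this]; exact hy
  · intro hne1 h1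
    have h2 : a₁ = 1 := by rw [← inv_inv a₁, h1, inv_one]
    rw [h2, one_mul] at hd hne1
    have : y ∈ D ⊓ cjs h D := ⟨hd, hy⟩
    rw [hTI3, Subgroup.mem_bot] at this
    exact hne1 this

theorem Ri_le_V : ⁅fixV V (cjs w A), H⁆ ≤ V := by
  have h := (Tool.Ri c.Hy c.K).2.2.1
  exact le_sup_right.trans (le_of_eq h)

theorem q_ne_one : q ≠ 1 := by
  intro h1
  have h2 := c.K.hA.card
  rw [h1] at h2
  exact c.K.hA.so.ne (Subgroup.eq_bot_of_card_eq A h2)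

/-- (I): `Ř_∞ ∩ U_D = 1` -/
theorem stepI (hmove : ∃ h ∈ H, cjs h D ≠ D) : ⁅fixV V (cjs w A), H⁆ ⊓ fixV V D = ⊥ := by
  obtain ⟨h₀, hh₀, hne⟩ := hmove
  obtain ⟨-, r2, -, -, -⟩ := Tool.Ri c.Hy c.K
  obtain ⟨ra, -⟩ := Tool.Ri_act c.Hy c.K
  rw [eq_bot_iff]
  rintro y ⟨hy, hyD⟩
  rw [Subgroup.mem_bot]
  by_contra hy1
  have hh₀1 : h₀⁻¹ ≠ 1 := by
    intro h1
    apply hne
    have : h₀ = 1 := by rw [← inv_inv h₀, h1, inv_one]
    rw [this, cj_one]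
  obtain ⟨x, hx, hxy⟩ := ra h₀⁻¹ (H.inv_mem hh₀) hh₀1 y hy
  rw [inv_inv] at hxy
  obtain ⟨d, hd, hd1⟩ : ∃ d ∈ D, d ≠ 1 := by
    by_contra hcon
    push Not at hcon
    apply c.hD.so.ne
    rw [eq_bot_iff]
    intro d hd
    rw [Subgroup.mem_bot]; exact hcon d hd
  obtain ⟨a, ha, had, ha1⟩ := c.exists_a hh₀ hne hd
  have hxV : x ∈ V := c.Ri_le_V hx
  have hst := c.star hh₀ hd ha had hxV (fixV V A).one_mem hyD (by rw [one_mul]; exact hxy)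
  rw [cm_one_right] at hst
  have hcomm := cm_eq_one_iff.mp hst
  have hxA : x ∈ fixV V A := F3_fix_elt c.Hy c.K.hA.le c.K.hA.so ha (ha1 hd1) hxV hcomm
  have hx1 : x ∈ ⁅fixV V (cjs w A), H⁆ ⊓ fixV V A := ⟨hx, hxA⟩
  rw [r2, Subgroup.mem_bot] at hx1
  apply hy1
  rw [← hxy, hx1]; group

/-- (II): no `1 ≠ h ∈ H` normalises `D` -/
theorem stepII (hmove : ∃ h ∈ H, cjs h D ≠ D) : ∀ h ∈ H, h ≠ 1 → cjs h D ≠ D := by
  intro h hh h1 heq
  obtain ⟨-, r2, -, r4, r5⟩ := Tool.Ri c.Hy c.K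
  have hI := c.stepI hmove
  have hhP : h ∈ P := c.hHP hh
  have hbot : ⁅fixV V (cjs w A), H⁆ = ⊥ := by
    rw [eq_bot_iff]
    intro x hx
    have hxV : x ∈ V := c.Ri_le_V hx
    have k1 : cm h x ∈ ⁅fixV V (cjs w A), H⁆ := by
      have : h * x * h⁻¹ ∈ cjs h ⁅fixV V (cjs w A), H⁆ := cj_mem_conj.mpr hx
      rw [r5 h hh] at this
      exact Subgroup.mul_mem _ this (Subgroup.inv_mem _ hx)
    have k2 : cm h x ∈ fixV V D := by
      have hx' : x ∈ fixV V A ⊔ fixV V D := by rw [c.f6.1]; exact hxV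
      obtain ⟨u, hu, u', hu', rfl⟩ := mem_sup_of_abelian c.hVc (fix_le V A) (fix_le V D) hx'
      rw [cm_mul_right c.hVc (c.nV hhP) (fix_le V A hu) (fix_le V D hu')]
      apply Subgroup.mul_mem
      · exact c.f6.2.1 (c.cm_H_UA hh hu)
      · have : h * u' * h⁻¹ ∈ cjs h (fixV V D) := cj_mem_conj.mpr hu'
        rw [← cj_fix D (c.nV hhP), heq] at this
        exact Subgroup.mul_mem _ this (Subgroup.inv_mem _ hu')
    have k3 : cm h x ∈ ⁅fixV V (cjs w A), H⁆ ⊓ fixV V D := ⟨k1, k2⟩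
    rw [hI, Subgroup.mem_bot] at k3
    have k4 : h * x * h⁻¹ = x := by
      have := cm_eq_one_iff.mp k3
      rw [this]; group
    have k5 : x ∈ fixV V E := c.K.hfixH h hh h1 x hxV k4
    have k6 : x ∈ ⁅fixV V (cjs w A), H⁆ ⊓ fixV V A := ⟨hx, fix_anti c.K.hAE k5⟩
    rw [r2] at k6
    exact k6
  rw [hbot, Subgroup.card_bot] at r4
  exact c.q_ne_one r4.symm

/-- (III): every `d ∈ D` has an `a ∈ A` such that `a d` centralises `Ř_∞` -/
theorem stepIII (hmove : ∃ h ∈ H, cjs h D ≠ D) {d : G} (hd : d ∈ D) :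
    ∃ a ∈ A, ∀ x ∈ ⁅fixV V (cjs w A), H⁆, (a * d) * x = x * (a * d) := by
  obtain ⟨-, h₁, hh₁, h₂, hh₂, h₁1, h₂1, hsum⟩ := Tool.Ri_act c.Hy c.K
  have hII := c.stepII hmove
  have inv_ne : ∀ h : G, h ≠ 1 → h⁻¹ ≠ 1 := by
    intro h hne h1
    apply hne
    rw [← inv_inv h, h1, inv_one]
  obtain ⟨a₁, ha₁, had₁, -⟩ := c.exists_a (H.inv_mem hh₁) (hII _ (H.inv_mem hh₁) (inv_ne _ h₁1)) hd
  obtain ⟨a₂, ha₂, had₂, -⟩ := c.exists_a (H.inv_mem hh₂) (hII _ (H.inv_mem hh₂) (inv_ne _ h₂1)) hd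
  have hdP : d ∈ P := c.hD.le hd
  refine ⟨a₁ * a₂, A.mul_mem ha₁ ha₂, ?_⟩
  intro x hx
  have hxV : x ∈ V := c.Ri_le_V hx
  have hy₁V : h₁ * x * h₁⁻¹ * x⁻¹ ∈ V := cm_mem (c.nV (c.hHP hh₁)) hxV
  have hy₂V : h₂ * x * h₂⁻¹ * x⁻¹ ∈ V := cm_mem (c.nV (c.hHP hh₂)) hxV
  have hy₁' : h₁ * x * h₁⁻¹ * x⁻¹ ∈ fixV V A ⊔ fixV V D := by rw [c.f6.1]; exact hy₁V
  have hy₂' : h₂ * x * h₂⁻¹ * x⁻¹ ∈ fixV V A ⊔ fixV V D := by rw [c.f6.1]; exact hy₂V
  obtain ⟨u₁, hu₁, u₁', hu₁', e₁⟩ := mem_sup_of_abelian c.hVc (fix_le V A) (fix_le V D) hy₁'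
  obtain ⟨u₂, hu₂, u₂', hu₂', e₂⟩ := mem_sup_of_abelian c.hVc (fix_le V A) (fix_le V D) hy₂'
  have s₁ := c.star (H.inv_mem hh₁) hd ha₁ had₁ hxV hu₁ hu₁' (by rw [inv_inv]; exact e₁)
  have s₂ := c.star (H.inv_mem hh₂) hd ha₂ had₂ hxV hu₂ hu₂' (by rw [inv_inv]; exact e₂)
  have hu₁V := fix_le V A hu₁
  have hu₂V := fix_le V A hu₂
  have hu₁'V := fix_le V D hu₁'
  have hu₂'V := fix_le V D hu₂'
  -- `y₁ y₂ = x⁻¹`
  have hprod : (u₁ * u₂) * (u₁' * u₂') = x⁻¹ := by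
    have k1 : (u₁ * u₂) * (u₁' * u₂') = (u₁ * u₁') * (u₂ * u₂') := by
      have : (u₁ * u₂) * (u₁' * u₂') = u₁ * (u₂ * u₁') * u₂' := by group
      rw [this, c.hVc u₂ hu₂V u₁' hu₁'V]; group
    rw [k1, ← e₁, ← e₂]
    have hc1 : h₁ * x * h₁⁻¹ ∈ V := conj_mem_of_normalizer (c.nV (c.hHP hh₁)) hxV
    have hc2 : h₂ * x * h₂⁻¹ ∈ V := conj_mem_of_normalizer (c.nV (c.hHP hh₂)) hxV
    have k2 : h₁ * x * h₁⁻¹ * x⁻¹ * (h₂ * x * h₂⁻¹ * x⁻¹) = (h₁ * x * h₁⁻¹) * (x⁻¹ * (h₂ * x * h₂⁻¹)) * x⁻¹ := by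
      group
    rw [k2, c.hVc _ (V.inv_mem hxV) _ hc2]
    have k3 : (h₁ * x * h₁⁻¹) * ((h₂ * x * h₂⁻¹) * x⁻¹) * x⁻¹ = ((h₁ * x * h₁⁻¹) * (h₂ * x * h₂⁻¹)) * x⁻¹ * x⁻¹ := by
      group
    rw [k3, hsum x hx]; group
  have k4 : cm (a₁ * a₂) x = (cm d x)⁻¹ := by
    rw [c.cm_aa ha₁ ha₂ hxV, s₁, s₂, ← cm_mul_right c.hVc (c.nV hdP) hu₁V hu₂V,
      ← cm_inv_right c.hVc (c.nV hdP) hxV, ← hprod,
      cm_mul_right c.hVc (c.nV hdP) (V.mul_mem hu₁V hu₂V) (V.mul_mem hu₁'V hu₂'V),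
      cm_eq_one_of_fix hd ((fixV V D).mul_mem hu₁' hu₂'), mul_one]
  have k5 : cm (a₁ * a₂ * d) x = 1 := by
    rw [c.cm_ad (A.mul_mem ha₁ ha₂) hd hxV, k4, inv_mul_cancel]
  exact cm_eq_one_iff.mp k5

end Z1D_aux_Ctx

/-- Z1D (blueprint §2): if some `h ∈ H` moves `D`, then `F₁ = C_{AD}(Ř_∞)` is an `H`-invariant member of `𝒜` inside `A ⊔ D`, `≠ A`. -/
theorem Z1D (Hy : Hyp p V P T M) (hq : MinQ p V P q) (K : Tool p V P q A E H w) {D : Subgroup G} (hD : InA p V P q D)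
    (hDA : D ≠ A) (hc : ∀ a ∈ A, ∀ d ∈ D, a * d = d * a) (hmove : ∃ h ∈ H, cjs h D ≠ D) :
    ∃ F₁ : Subgroup G, InA p V P q F₁ ∧ F₁ ≤ A ⊔ D ∧ F₁ ≠ A ∧ ∀ h ∈ H, cjs h F₁ = F₁ := by
  have c : Z1D_aux_Ctx p V P T M q A E H w D := ⟨Hy, K, hD, hDA, hc⟩
  obtain ⟨-, r2, -, r4, r5⟩ := Tool.Ri Hy K
  set Ri := ⁅fixV V (cjs w A), H⁆ with hRi
  set B := A ⊔ D with hB
  have hBel : Cfsg.IsElementaryAbelian p B := F6_aux_elab_sup K.hA.so.hA hD.so.hA hc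
  have hBc : ∀ x ∈ B, ∀ y ∈ B, x * y = y * x := fun x hx y hy =>
    congrArg Subtype.val (hBel.1.is_comm.comm ⟨x, hx⟩ ⟨y, hy⟩)
  have hBP : B ≤ P := sup_le K.hA.le hD.le
  have hRiV : Ri ≤ V := c.Ri_le_V
  have hRine : Ri ≠ ⊥ := by
    intro hb
    rw [hb, Subgroup.card_bot] at r4
    exact c.q_ne_one r4.symm
  refine ⟨B ⊓ Subgroup.centralizer (Ri : Set G), ?_, inf_le_left, ?_, ?_⟩
  · -- membership in `𝒜`
    set F₁ := B ⊓ Subgroup.centralizer (Ri : Set G) with hF₁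
    have hF₁B : F₁ ≤ B := inf_le_left
    have hFA : A ⊓ F₁ = ⊥ := by
      rw [eq_bot_iff]
      rintro a ⟨ha, -, haC⟩
      rw [Subgroup.mem_bot]
      by_contra ha1
      apply hRine
      rw [eq_bot_iff]
      intro x hx
      have hcomm : a * x = x * a := (Subgroup.mem_centralizer_iff.mp haC x hx).symm
      have hxA : x ∈ fixV V A := F3_fix_elt Hy K.hA.le K.hA.so ha ha1 (hRiV hx) hcomm
      have : x ∈ Ri ⊓ fixV V A := ⟨hx, hxA⟩
      rwa [r2] at this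
    have hAF : ∀ a ∈ A, ∀ f ∈ F₁, a * f = f * a := fun a ha f hf => hBc a (le_sup_left (a := A) ha) f (hF₁B hf)
    have hsup : A ⊔ F₁ = B := by
      apply le_antisymm (sup_le le_sup_left hF₁B)
      apply sup_le le_sup_left
      intro d hd
      obtain ⟨a, ha, hcen⟩ := c.stepIII hmove hd
      have h1 : a * d ∈ F₁ := by
        rw [hF₁, Subgroup.mem_inf]
        refine ⟨Subgroup.mul_mem _ (le_sup_left (a := A) ha) (le_sup_right (a := A) hd), ?_⟩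
        rw [Subgroup.mem_centralizer_iff]
        intro x hx
        exact (hcen x hx).symm
      have h2 : d = a⁻¹ * (a * d) := by group
      rw [h2]
      exact Subgroup.mul_mem _ (le_sup_left (a := A) (A.inv_mem ha)) (le_sup_right (a := A) h1)
    have hTI2 : A ⊓ D = ⊥ := F3_TI Hy K.hA.le K.hA.so hD.le hD.so (Ne.symm hDA)
    have hcardB : Nat.card ↥B = q * q := by
      rw [hB, card_sup_of_comm hc hTI2, K.hA.card, hD.card]
    have hcardF : Nat.card ↥F₁ = q := by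
      have h1 := card_sup_of_comm hAF hFA
      rw [hsup, hcardB, K.hA.card] at h1
      have hq0 : 0 < q := by
        rw [← K.hA.card]; exact Nat.card_pos
      exact (Nat.eq_of_mul_eq_mul_left hq0 h1).symm
    have hF₁P : F₁ ≤ P := hF₁B.trans hBP
    have hF₁el : Cfsg.IsElementaryAbelian p F₁ := F2_aux_elab_of_le hBel hF₁B
    -- the value
    have hle : Ri ⊔ (fixV V A ⊓ fixV V D) ≤ fixV V F₁ := by
      apply sup_le
      · intro x hx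
        rw [mem_fix]
        refine ⟨hRiV hx, fun f hf => ?_⟩
        exact (Subgroup.mem_centralizer_iff.mp hf.2 x hx).symm
      · rw [← fix_sup]
        exact fix_anti hF₁B
    have hVc := c.hVc
    have hcomm1 : ∀ x ∈ Ri, ∀ y ∈ fixV V A ⊓ fixV V D, x * y = y * x :=
      fun x hx y hy => hVc x (hRiV hx) y (fix_le V A hy.1)
    have hint1 : Ri ⊓ (fixV V A ⊓ fixV V D) = ⊥ := by
      rw [eq_bot_iff, ← r2]
      exact inf_le_inf_left _ inf_le_left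
    have hcard1 := card_sup_of_comm hcomm1 hint1
    have hnorm : fixV V A ≤ Subgroup.normalizer ((fixV V D : Subgroup G) : Set G) := by
      intro x hx
      rw [Subgroup.mem_normalizer_iff]
      intro y
      have hxV := fix_le V A hx
      constructor
      · intro hy
        have : x * y * x⁻¹ = y := by rw [hVc x hxV y (fix_le V D hy)]; group
        rwa [this]
      · intro hy
        have h3 : x * y * x⁻¹ ∈ V := fix_le V D hy
        have e : y = x * y * x⁻¹ := by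
          calc y = x⁻¹ * (x * y * x⁻¹ * x) := by group
            _ = x⁻¹ * (x * (x * y * x⁻¹)) := by rw [hVc x hxV _ h3]
            _ = x * y * x⁻¹ := by group
        rw [e]; exact hy
    have hcard2 := Cfsg.Agent.Helper26.card_sup_mul_card_inf hnorm
    rw [c.f6.1] at hcard2
    have cA := F3_card Hy K.hA.le K.hA.so
    have cD := F3_card Hy hD.le hD.so
    rw [K.hA.card] at cA
    rw [hD.card] at cD
    have hF2 := F2 Hy F₁ hF₁P hF₁el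
    rw [hcardF] at hF2
    have hmono : Nat.card ↥(Ri ⊔ (fixV V A ⊓ fixV V D) : Subgroup G) ≤ Nat.card ↥(fixV V F₁) :=
      Subgroup.card_le_of_le hle
    rw [hcard1, r4] at hmono
    have hpos : 0 < Nat.card ↥V := Nat.card_pos
    have hval : q * Nat.card ↥(fixV V F₁) = Nat.card ↥V := by
      apply le_antisymm hF2
      have h1 : q * q * Nat.card ↥(fixV V A ⊓ fixV V D : Subgroup G) * Nat.card ↥V = Nat.card ↥V * Nat.card ↥V := by
        calc q * q * Nat.card ↥(fixV V A ⊓ fixV V D : Subgroup G) * Nat.card ↥V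
            = q * q * (Nat.card ↥V * Nat.card ↥(fixV V A ⊓ fixV V D : Subgroup G)) := by ring
          _ = q * q * (Nat.card ↥(fixV V A) * Nat.card ↥(fixV V D)) := by rw [hcard2]
          _ = (q * Nat.card ↥(fixV V A)) * (q * Nat.card ↥(fixV V D)) := by ring
          _ = Nat.card ↥V * Nat.card ↥V := by rw [cA, cD]
      have h2 : q * q * Nat.card ↥(fixV V A ⊓ fixV V D : Subgroup G) = Nat.card ↥V :=
        Nat.eq_of_mul_eq_mul_right hpos h1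
      calc Nat.card ↥V = q * (q * Nat.card ↥(fixV V A ⊓ fixV V D : Subgroup G)) := by rw [← h2]; ring
        _ ≤ q * Nat.card ↥(fixV V F₁) := Nat.mul_le_mul_left _ hmono
    have hOff : Off p V P F₁ := ⟨hF₁P, hF₁el, by rw [hcardF]; exact hval⟩
    exact OFFQ Hy hq hOff hcardF
  · -- `≠ A`
    intro heq
    have hFA : A ⊓ (B ⊓ Subgroup.centralizer (Ri : Set G)) = A := by rw [heq, inf_idem]
    have hbot : A ⊓ (B ⊓ Subgroup.centralizer (Ri : Set G)) = ⊥ := by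
      rw [eq_bot_iff]
      rintro a ⟨ha, -, haC⟩
      rw [Subgroup.mem_bot]
      by_contra ha1
      apply hRine
      rw [eq_bot_iff]
      intro x hx
      have hcomm : a * x = x * a := (Subgroup.mem_centralizer_iff.mp haC x hx).symm
      have hxA : x ∈ fixV V A := F3_fix_elt Hy K.hA.le K.hA.so ha ha1 (hRiV hx) hcomm
      have : x ∈ Ri ⊓ fixV V A := ⟨hx, hxA⟩
      rwa [r2] at this
    rw [hbot] at hFA
    exact K.hA.so.ne hFA.symm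
  · -- `H`-invariance
    intro h hh
    rw [cj_inf, ← GEO_conj_aux_centralizer, r5 h hh]
    congr 1
    apply Subgroup.eq_of_le_of_card_ge
    · rw [hB, cj_sup, K.hHA h hh]
      exact sup_le le_sup_left (Z1A Hy K hD hDA hc h hh)
    · rw [cj_card]

end Cfsg.Agent.S3000P
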