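import Mathlib
import Cfsg.Agent.Helper18.S3000ZC

/-! S3000, piece ZPT of the board `s3000pieces` (wrapper: helper23's core `ZPT_aux_core` + J2CENT + COVER, via helper18's `ZC_aux_ZPT`). -/

set_option autoImplicit false

namespace Cfsg.Agent.S3000P

open Cfsg.Agent.S2789P Cfsg.Agent.S2999P
open scoped commutatorElement

variable {G : Type*} [Group G] [Finite G] {p : ℕ} [Fact p.Prime] {V P : Subgroup G} {T : Sylow p ↥P} {M : Subgroup ↥P} {q : ℕ}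
variable {A E H : Subgroup G} {w : G}

/-- ZPT (M) -/
theorem ZPT (Hy : Hyp p V P T M) (hq : MinQ p V P q) (K : Tool p V P q A E H w) (hB : Based (MM M) A E)
    (hAT : A ≤ TT T) {z₀ : G} (hz₀ : z₀ ∈ fixV V (TT T)) (hzM : ∀ x ∈ P, x * z₀ = z₀ * x → x ∈ MM M)
    {e : G} (he : e ∈ E) :
    Zpt P (MM M) (JJ2 p V (TT T) q A) V z₀ e = cjs e (Zpt P (MM M) (JJ2 p V (TT T) q A) V z₀ 1) ∧
      Zpt P (MM M) (JJ2 p V (TT T) q A) V z₀ e ≤ fixV V (cjs e A) :=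
  ZC_aux_ZPT Hy hq K hB hAT hz₀ hzM he

end Cfsg.Agent.S3000P
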