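import Mathlib
import Cfsg.Agent.Helper28.S3000Defs
import Cfsg.Agent.Helper20.S3000TOOLa
import Cfsg.Agent.Helper17.S3000TOOLb
import Cfsg.Agent.Helper12.S3000TOOLc

/-! S3000, piece TOOL of the board `s3000pieces`: a package has an abstract toolkit (assembly of TOOLa, TOOLb, TOOLc). -/

set_option autoImplicit false

namespace Cfsg.Agent.S3000P

open Cfsg.Agent.S2789P Cfsg.Agent.S2999P
open scoped commutatorElement

variable {G : Type*} [Group G] [Finite G] {p : ℕ} [Fact p.Prime] {V P : Subgroup G} {T : Sylow p ↥P} {M : Subgroup ↥P} {q : ℕ}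

/-- TOOL: a package `(A, E)` (with `q > 2`) has a torus `H` and a Weyl element `w` with the abstract toolkit. -/
theorem TOOL (Hy : Hyp p V P T M) (hq2 : 2 < q) {A E : Subgroup G} (hK : Pack p V P q A E) :
    ∃ (H : Subgroup G) (w : G), Tool p V P q A E H w := by
  obtain ⟨F, iF, iFt, hF, ⟨c⟩⟩ := hK.hco
  obtain ⟨a1, a2, a3, a4, a5, a6, a7, a8⟩ := TOOLa Hy hq2 hK.hA hK.hAE hK.hEP hF c
  obtain ⟨b1, b2, b3, b4, b5, b6, b7⟩ := TOOLb Hy hK.hA hK.hAE hK.hEP hF c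
  obtain ⟨c1, c2⟩ := TOOLc Hy hq2 hK.hA hK.hAE hK.hEP hF c
  exact ⟨c.torus, c.weyl, ⟨hK.hA, hK.hAE, hK.hEP, a1, a2, a3, a4, a5, a6, b1, b2, hK.hgen, hK.hUA, b3, b4, b5, b6, c1, c2,
    a7, a8, ⟨F, iF, iFt, hF, b7⟩⟩⟩

end Cfsg.Agent.S3000P
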