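import Mathlib
import Cfsg.Agent.Helper28.S3000Defs

/-! S3000, strong form: the conclusion of S3000 together with (TINV): the family `E i` is permuted by `T` (so `⨆ i, E i` is normal in
`P`).  Needed by S3001 and S2981 (the frozen conclusion alone does not give normality, see `departures/helper18_S3001_blueprint.md`). -/

set_option autoImplicit false

namespace Cfsg.Agent.S3000P

open Cfsg.Agent.S2789P Cfsg.Agent.S2999P
open scoped commutatorElement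

variable {G : Type*} [Group G]

/-- the conclusion of S3000 for a given family `E : Fin r → Subgroup G` -/
def ConclFam (p : ℕ) (V P Tg : Subgroup G) (r : ℕ) (E : Fin r → Subgroup G) : Prop :=
  1 ≤ r ∧ (∀ i, E i ≤ P) ∧ (∀ i j, i ≠ j → ⁅E i, E j⁆ = ⊥) ∧
    (∀ i, E i ⊓ (⨆ j ∈ {j | j ≠ i}, E j) = ⊥) ∧ (⨆ i, E i) ⊔ Tg = P ∧
    (∀ i j, ∃ t ∈ Tg, (E i).map (MulAut.conj t).toMonoidHom = E j) ∧
    (V ⊓ Subgroup.centralizer (((⨆ i, E i) : Subgroup G) : Set G)) ⊔ (⨆ i, ⁅V, E i⁆) = V ∧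
    (∀ i j, i ≠ j → ⁅⁅V, E i⁆, E j⁆ = ⊥) ∧
    ∀ i, ∃ n : ℕ, 1 ≤ n ∧
      ((∃ (F : Type) (_ : Field F) (_ : Fintype F), Fintype.card F = p ^ n ∧
        Nonempty (↥(E i) ≃* Matrix.SpecialLinearGroup (Fin 2) F) ∧
        Cfsg.ActsAsSL2OnSection F ⊤ (E i) ⁅V, E i⁆ (⁅V, E i⁆ ⊓ Subgroup.centralizer ((E i : Subgroup G) : Set G))) ∨
      (p = 2 ∧ Nonempty (↥(E i) ≃* Equiv.Perm (Fin (2 ^ n + 1))) ∧
        Cfsg.ActsAsOddPermModuleOnSection (2 ^ n + 1) ⊤ (E i) ⁅V, E i⁆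
          (⁅V, E i⁆ ⊓ Subgroup.centralizer ((E i : Subgroup G) : Set G))))

theorem Concl_iff_fam {p : ℕ} {V P Tg : Subgroup G} :
    Concl p V P Tg ↔ ∃ (r : ℕ) (E : Fin r → Subgroup G), ConclFam p V P Tg r E := Iff.rfl

/-- the strong conclusion: a family as in S3000 which is moreover permuted by `Tg` (TINV) -/
def ConclS (p : ℕ) (V P Tg : Subgroup G) : Prop :=
  ∃ (r : ℕ) (E : Fin r → Subgroup G), ConclFam p V P Tg r E ∧ ∀ i, ∀ t ∈ Tg, ∃ j, cjs t (E i) = E j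

theorem ConclS.concl {p : ℕ} {V P Tg : Subgroup G} (h : ConclS p V P Tg) : Concl p V P Tg := by
  obtain ⟨r, E, h1, -⟩ := h
  exact ⟨r, E, h1⟩

end Cfsg.Agent.S3000P
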