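import Mathlib
import Cfsg.Agent.Helper25.S2981BDefs
import Cfsg.Agent.Helper28.S3000Defs
import Cfsg.Agent.Helper20.S3000TOOLa
import Cfsg.Agent.Helper17.S3000TOOLb
import Cfsg.Agent.Helper12.S3000TOOLc

/-! S2981, piece TOOLX of the board `s2981pieces`: `TOOL` with the torus and the Weyl element of given coordinates. -/

set_option autoImplicit false

namespace Cfsg.Agent.S2981P

open Cfsg.Agent.S2789P Cfsg.Agent.S2999P Cfsg.Agent.S3000P
open scoped commutatorElement

variable {G : Type*} [Group G] [Finite G] {p : ℕ} [Fact p.Prime] {V P : Subgroup G} {T : Sylow p ↥P} {M : Subgroup ↥P} {q : ℕ}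

variable {A E : Subgroup G}

variable {F : Type} [Field F] [Fintype F]

/-- TOOLX (S): `TOOL` with the torus and the Weyl element of the given coordinates (same proof as `TOOL`). -/
theorem TOOL_coord (Hy : Hyp p V P T M) (hq2 : 2 < q) (hK : Pack p V P q A E) (hF : Fintype.card F = q)
    (c : Coord F V A E) : Tool p V P q A E c.torus c.weyl := by
  obtain ⟨a1, a2, a3, a4, a5, a6, a7, a8⟩ := TOOLa Hy hq2 hK.hA hK.hAE hK.hEP hF c
  obtain ⟨b1, b2, b3, b4, b5, b6, b7⟩ := TOOLb Hy hK.hA hK.hAE hK.hEP hF c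
  obtain ⟨c1, c2⟩ := TOOLc Hy hq2 hK.hA hK.hAE hK.hEP hF c
  exact ⟨hK.hA, hK.hAE, hK.hEP, a1, a2, a3, a4, a5, a6, b1, b2, hK.hgen, hK.hUA, b3, b4, b5, b6, c1, c2,
    a7, a8, ⟨F, inferInstance, inferInstance, hF, b7⟩⟩

end Cfsg.Agent.S2981P
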