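import Mathlib
import Cfsg.Agent.Helper28.S3000Defs
import Cfsg.Agent.Helper28.S3000TOOL
import Cfsg.Agent.Helper20.S3000PKG3
import Cfsg.Agent.Helper10.S3000PKG2
import Cfsg.Agent.Helper21.S3000ASMCORE
import Cfsg.Agent.Helper2.S3000VEC
import Cfsg.Agent.Helper8.S3000TKD1VE
import Cfsg.Agent.Helper10.S3000LOC
import Cfsg.Agent.Helper2.S3000UT

/-! S3000: the main theorem for `q > 2` (assembly of the board `s3000pieces`). -/

set_option autoImplicit false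

namespace Cfsg.Agent.S3000P

open Cfsg.Agent.S2789P Cfsg.Agent.S2999P
open scoped commutatorElement

variable {G : Type*} [Group G] [Finite G] {p : ℕ} [Fact p.Prime] {V P : Subgroup G} {T : Sylow p ↥P} {M : Subgroup ↥P} {q : ℕ}

/-- the structure behind the main theorem (`q > 2`): a package `(A, E)` inside `T` based at `M`, with its toolkit, such that
the distinct `T`-conjugates of `E` commute elementwise. -/
theorem MAIN_struct (Hy : Hyp p V P T M) (hq : MinQ p V P q) (hq2 : 2 < q) :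
    ∃ (A E H : Subgroup G) (w : G), A ≤ TT T ∧ Pack p V P q A E ∧ Based (MM M) A E ∧ Tool p V P q A E H w ∧
      (∀ t ∈ TT T, Pack p V P q (cjs t A) (cjs t E)) ∧
      (∀ t ∈ TT T, cjs t E ≠ E → ∀ x ∈ E, ∀ y ∈ cjs t E, x * y = y * x) := by
  obtain ⟨A, E, hAT, hK, hB⟩ := PKG3 Hy hq
  have hTP : TT T ≤ P := Subgroup.map_subtype_le _
  obtain ⟨H, w, K⟩ := TOOL Hy hq2 hK
  exact ⟨A, E, H, w, hAT, hK, hB, K, fun t ht => Pack.conj Hy hK (hTP ht), COMM Hy hq hq2 hK hB hAT⟩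

/-- MAIN (`q > 2`): the conclusion of S3000. -/
theorem MAIN (Hy : Hyp p V P T M) (hq : MinQ p V P q) (hq2 : 2 < q) : Concl p V P (TT T) := by
  obtain ⟨A, E, H, w, hAT, hK, hB, K, hKt, hcomm⟩ := MAIN_struct Hy hq hq2
  refine ASMCORE Hy E hK.hEP hB.hEM hcomm ?_ ?_ ?_ ?_
  · intro t ht
    obtain ⟨Ht, wt, Kt⟩ := TOOL Hy hq2 (hKt t ht)
    exact Kt.hker
  · intro t ht
    obtain ⟨Ht, wt, Kt⟩ := TOOL Hy hq2 (hKt t ht)
    exact Tool.VE Hy Kt
  · intro t ht hne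
    obtain ⟨Ht, wt, Kt⟩ := TOOL Hy hq2 (hKt t ht)
    exact VEC Hy K Kt (hcomm t ht hne)
  · intro t ht
    obtain ⟨Ht, wt, Kt⟩ := TOOL Hy hq2 (hKt t ht)
    exact LOC Hy (hKt t ht) (Tool.VE Hy Kt)

end Cfsg.Agent.S3000P
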