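import Mathlib
import Cfsg.Agent.Helper1.S3401Defs

set_option autoImplicit false
set_option linter.style.haveILetI false

/-! # S3401, piece CARD: `|M| = n |M_a|` with `n = 2 * odd`. -/

namespace Cfsg.Agent.S3401P

open MulAction

variable {G : Type*} [Group G] [Finite G] {Ω : Type*} [Fintype Ω] [MulAction G Ω]

/-- CARD: `|M| = n |M_a|` with `n = 2 * odd`, so the 2-adic valuations differ by one. -/
theorem CARD {M : Subgroup G} (h : Hyp Ω M) (a : Ω) :
    (Nat.card M).factorization 2 =
      (Nat.card (M ⊓ MulAction.stabilizer G a : Subgroup G)).factorization 2 + 1 := by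
  classical
  haveI : IsPretransitive M Ω := by
    refine ⟨fun x y => ?_⟩
    obtain ⟨m, hm, hmy⟩ := h.htr x y
    exact ⟨⟨m, hm⟩, hmy⟩
  -- orbit-stabilizer
  have h1 : (stabilizer M a).index = Nat.card Ω := index_stabilizer_of_transitive M a
  have h2 : Nat.card (stabilizer M a) * (stabilizer M a).index = Nat.card M :=
    Subgroup.card_mul_index _
  -- the stabilizer in `M`
  have h3 : Nat.card (stabilizer M a) = Nat.card (M ⊓ stabilizer G a : Subgroup G) := by
    refine Nat.card_congr
      { toFun := fun x => ⟨(x : M), (x : M).2, x.2⟩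
        invFun := fun y => ⟨⟨y, y.2.1⟩, y.2.2⟩
        left_inv := fun x => rfl
        right_inv := fun y => rfl }
  have hn : Nat.card Ω = Fintype.card Ω := Nat.card_eq_fintype_card
  have hmod := h.hn
  -- `n = 2 * k`, `k` odd
  obtain ⟨k, hk⟩ : ∃ k, Fintype.card Ω = 2 * k := ⟨Fintype.card Ω / 2, by omega⟩
  have hkodd : ¬ 2 ∣ k := by
    intro hd
    obtain ⟨j, rfl⟩ := hd
    omega
  have hk0 : k ≠ 0 := by
    rintro rfl
    omega
  have hpos : Nat.card (M ⊓ stabilizer G a : Subgroup G) ≠ 0 := Nat.card_pos.ne'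
  rw [← h2, h1, hn, hk, h3]
  rw [Nat.factorization_mul hpos (by omega), Nat.factorization_mul (by norm_num) hk0]
  simp only [Finsupp.coe_add, Pi.add_apply]
  rw [Nat.factorization_eq_zero_of_not_dvd hkodd]
  simp [Nat.Prime.factorization_self Nat.prime_two]

end Cfsg.Agent.S3401P
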