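import Mathlib
import Cfsg.Prelude.Def_Blocks
import Cfsg.Prelude.Def_BlockRank
import Cfsg.Agent.Helper5.S4607Defs
import Cfsg.Agent.Helper5.BlockRankOne
import Cfsg.Agent.Helper5.DefectOrder
import Cfsg.Agent.Helper8.BrauerFeit

set_option autoImplicit false

namespace Cfsg.Agent.S4607P

open Cfsg Cfsg.Agent.Helper5.Res Cfsg.Agent.Helper5.CC Cfsg.Agent.Helper24

section Block

variable {M : Ideal AlgInt} [hMax : M.IsMaximal] {G : Type*} [Group G] [Fintype G]
  [Fintype (IrrCharacter G)]

namespace CENC1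

open Classical in
omit [Fintype (IrrCharacter G)] in
/-- `x ↦ ∑_{h' ∈ L} b (x h'⁻¹)` is a class function -/
theorem beta_class [Fintype (ConjClasses G)] (b : G → ℂ) (hb : IsClassFunction G b)
    (L : ConjClasses G) (x y : G) :
    (∑ h' : G, if ConjClasses.mk h' = L then b (y * x * y⁻¹ * h'⁻¹) else 0) =
      ∑ h' : G, if ConjClasses.mk h' = L then b (x * h'⁻¹) else 0 := by
  rw [← Equiv.sum_comp (MulAut.conj y).toEquiv]
  apply Finset.sum_congr rfl
  intro h' _
  have h1 : ConjClasses.mk ((MulAut.conj y).toEquiv h') = ConjClasses.mk h' := by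
    rw [ConjClasses.mk_eq_mk_iff_isConj]
    exact (isConj_iff.2 ⟨y, rfl⟩).symm
  rw [h1]
  split_ifs with h
  · show b (y * x * y⁻¹ * (y * h' * y⁻¹)⁻¹) = b (x * h'⁻¹)
    have : y * x * y⁻¹ * (y * h' * y⁻¹)⁻¹ = y * (x * h'⁻¹) * y⁻¹ := by group
    rw [this, hb]
  · rfl

end CENC1

/-- CENC1: the class matrix is multiplicative on class functions -/
theorem cmat_conv [Fintype (ConjClasses G)] (a b : G → ℂ) (ha : IsClassFunction G a) (hb : IsClassFunction G b) :
    cmat (conv a b) = cmat a * cmat b := by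
  classical
  ext K L
  rw [Matrix.mul_apply]
  -- the right-hand side
  have hβ : ∀ (J : ConjClasses G) (h : G), ConjClasses.mk h = J →
      (∑ h' : G, if ConjClasses.mk h' = L then b (rep J * h'⁻¹) else 0) =
        ∑ h' : G, if ConjClasses.mk h' = L then b (h * h'⁻¹) else 0 := by
    intro J h hJ
    have hc : IsConj h (rep J) := by
      rw [← ConjClasses.mk_eq_mk_iff_isConj, hJ, mk_rep]
    obtain ⟨y, hy⟩ := isConj_iff.1 hc
    rw [← hy]
    exact CENC1.beta_class b hb L h y
  have h1 : ∀ J : ConjClasses G, cmat a K J * cmat b J L =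
      ∑ h : G, if ConjClasses.mk h = J then
        a (rep K * h⁻¹) * (∑ h' : G, if ConjClasses.mk h' = L then b (h * h'⁻¹) else 0) else 0 := by
    intro J
    unfold cmat
    rw [Finset.sum_mul]
    apply Finset.sum_congr rfl
    intro h _
    split_ifs with hJ
    · rw [hβ J h hJ]
    · rw [zero_mul]
  rw [Finset.sum_congr rfl (fun J _ => h1 J), Finset.sum_comm]
  have h2 : ∀ h : G, (∑ J : ConjClasses G, if ConjClasses.mk h = J then
        a (rep K * h⁻¹) * (∑ h' : G, if ConjClasses.mk h' = L then b (h * h'⁻¹) else 0) else 0) =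
      a (rep K * h⁻¹) * (∑ h' : G, if ConjClasses.mk h' = L then b (h * h'⁻¹) else 0) := by
    intro h
    rw [Finset.sum_ite_eq]
    simp
  rw [Finset.sum_congr rfl (fun h _ => h2 h)]
  -- the left-hand side
  unfold cmat conv
  simp_rw [Finset.mul_sum]
  rw [Finset.sum_comm]
  apply Finset.sum_congr rfl
  intro h' _
  split_ifs with hL
  · -- reindex `t = rep K * h⁻¹`
    let e : G ≃ G :=
      { toFun := fun h => rep K * h⁻¹
        invFun := fun t => t⁻¹ * rep K
        left_inv := fun h => by group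
        right_inv := fun t => by group }
    rw [← Equiv.sum_comp e]
    apply Finset.sum_congr rfl
    intro h _
    show a (rep K * h⁻¹) * b ((rep K * h⁻¹)⁻¹ * (rep K * h'⁻¹)) = a (rep K * h⁻¹) * b (h * h'⁻¹)
    have : (rep K * h⁻¹)⁻¹ * (rep K * h'⁻¹) = h * h'⁻¹ := by group
    rw [this]
  · simp

end Block

end Cfsg.Agent.S4607P
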