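import Mathlib
import Cfsg.Prelude.Def_Blocks
import Cfsg.Prelude.Def_BlockRank
import Cfsg.Agent.Helper5.S4607Defs
import Cfsg.Agent.Helper5.BlockRankOne
import Cfsg.Agent.Helper5.DefectOrder
import Cfsg.Agent.Helper8.BrauerFeit

set_option autoImplicit false

namespace Cfsg.Agent.S4607P

open Cfsg Cfsg.Agent.Helper5.Res Cfsg.Agent.Helper5.CC Cfsg.Agent.Helper24

section Block

variable {M : Ideal AlgInt} [hMax : M.IsMaximal] {G : Type*} [Group G] [Fintype G]
  [Fintype (IrrCharacter G)]

namespace CENC2

omit [Fintype (IrrCharacter G)] in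
/-- diagonal entries of the class matrix as convolution values -/
theorem cmat_diag [Fintype (ConjClasses G)] (a : G → ℂ) (K : ConjClasses G) :
    cmat a K K = conv a (classIndicator (rep K)) (rep K) := by
  classical
  unfold cmat conv
  let e : G ≃ G :=
    { toFun := fun t => t⁻¹ * rep K
      invFun := fun h => rep K * h⁻¹
      left_inv := fun t => by group
      right_inv := fun h => by group }
  rw [← Equiv.sum_comp e]
  apply Finset.sum_congr rfl
  intro t _
  show (if ConjClasses.mk (t⁻¹ * rep K) = K then a (rep K * (t⁻¹ * rep K)⁻¹) else 0) =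
    a t * classIndicator (rep K) (t⁻¹ * rep K)
  have h1 : rep K * (t⁻¹ * rep K)⁻¹ = t := by group
  rw [h1]
  by_cases h : ConjClasses.mk (t⁻¹ * rep K) = K
  · rw [if_pos h]
    have hc : IsConj (rep K) (t⁻¹ * rep K) := by
      rw [← ConjClasses.mk_eq_mk_iff_isConj, h, mk_rep]
    rw [classIndicator_of_isConj hc, mul_one]
  · rw [if_neg h]
    have hc : ¬ IsConj (rep K) (t⁻¹ * rep K) := by
      intro hc
      apply h
      rw [← mk_rep K, ConjClasses.mk_eq_mk_iff_isConj, mk_rep]
      exact hc.symm
    rw [classIndicator_of_not_isConj hc, mul_zero]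

/-- the trace of the class matrix of a class function is the sum of its scalars -/
theorem trace_cmat [Fintype (ConjClasses G)] (a : G → ℂ) (ha : IsClassFunction G a) :
    (cmat a).trace = ∑ χ : IrrCharacter G, act a χ := by
  classical
  have hG : (Nat.card G : ℂ) ≠ 0 := by
    rw [Nat.cast_ne_zero]
    exact Nat.card_pos.ne'
  unfold Matrix.trace
  simp only [Matrix.diag_apply]
  have h1 : ∀ K : ConjClasses G, cmat a K K = (Nat.card G : ℂ)⁻¹ * ∑ χ : IrrCharacter G,
      act a χ * (((Subgroup.centralizer ({rep K} : Set G)).index : ℂ) *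
        ((χ : G → ℂ) (rep K) * (starRingEnd ℂ) ((χ : G → ℂ) (rep K)))) := by
    intro K
    rw [cmat_diag, ← coeff_act (isClassFunction_conv ha (isClassFunction_classIndicator (rep K)))
      (rep K)]
    congr 1
    apply Finset.sum_congr rfl
    intro χ _
    rw [act_conv ha, act_classIndicator, centralChar_def]
    have hχ1 : (χ : G → ℂ) 1 ≠ 0 := irr_one_ne_zero χ
    field_simp
  rw [Finset.sum_congr rfl (fun K _ => h1 K), ← Finset.mul_sum, Finset.sum_comm]
  have h2 : ∀ χ : IrrCharacter G, (∑ K : ConjClasses G,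
      act a χ * (((Subgroup.centralizer ({rep K} : Set G)).index : ℂ) *
        ((χ : G → ℂ) (rep K) * (starRingEnd ℂ) ((χ : G → ℂ) (rep K))))) =
      act a χ * (Nat.card G : ℂ) := by
    intro χ
    rw [← Finset.mul_sum]
    congr 1
    have hF : IsClassFunction G (fun t => (χ : G → ℂ) t * (starRingEnd ℂ) ((χ : G → ℂ) t)) := by
      intro g x
      show (χ : G → ℂ) (x * g * x⁻¹) * (starRingEnd ℂ) ((χ : G → ℂ) (x * g * x⁻¹)) = _
      rw [isClassFunction_irr χ g x]
    rw [← sum_eq_sum_conjClasses hF]
    have h3 := classInner_irr_self χ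
    unfold classInner at h3
    have h4 : (∑ g : G, (χ : G → ℂ) g * (starRingEnd ℂ) ((χ : G → ℂ) g)) =
        (Nat.card G : ℂ) * ((Nat.card G : ℂ)⁻¹ *
          ∑ g : G, (χ : G → ℂ) g * (starRingEnd ℂ) ((χ : G → ℂ) g)) := by
      rw [← mul_assoc, mul_inv_cancel₀ hG, one_mul]
    rw [h4, h3, mul_one]
  rw [Finset.sum_congr rfl (fun χ _ => h2 χ), ← Finset.sum_mul, mul_comm, mul_assoc,
    mul_inv_cancel₀ hG, mul_one]

end CENC2

/-- CENC2: the trace of the class matrix of a block idempotent is the number of its characters -/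
theorem trace_cmat_blockCoeff [Fintype (ConjClasses G)] (B : Set (IrrCharacter G)) :
    (cmat (blockCoeff B)).trace = (Nat.card B : ℂ) := by
  classical
  rw [CENC2.trace_cmat _ (isClassFunction_blockCoeff B)]
  simp_rw [act_blockCoeff]
  rw [Finset.sum_boole, Nat.card_eq_fintype_card, Fintype.card_subtype]

end Block

end Cfsg.Agent.S4607P
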