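import Mathlib
import Cfsg.Prelude.Def_GeometricClasses
import Cfsg.Agent.Helper28.Quad

set_option autoImplicit false

namespace Cfsg.Agent.Helper28.Transv

open Matrix

variable {F : Type*} [Field F] {n : ℕ}

/-- A transvection fixing a subspace `P` pointwise and moving `u₀ ∉ P` by `v ∈ P`. -/
theorem exists_transvection (P : Submodule F (Fin n → F)) (v u₀ : Fin n → F) (hv : v ∈ P)
    (hu : u₀ ∉ P) :
    ∃ t : Matrix.GeneralLinearGroup (Fin n) F, t ∈ Cfsg.Geo.specialLinear (Fin n) F ∧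
      (∀ x ∈ P, (t : Matrix (Fin n) (Fin n) F) *ᵥ x = x) ∧
      (t : Matrix (Fin n) (Fin n) F) *ᵥ u₀ = u₀ + v := by
  classical
  obtain ⟨f, hfu, hfP⟩ := Submodule.exists_dual_map_eq_bot_of_notMem hu inferInstance
  have hfP' : ∀ x ∈ P, f x = 0 := by
    intro x hx
    have h1 : f x ∈ P.map f := ⟨x, hx, rfl⟩
    have h2 : f x ∈ (⊥ : Submodule F F) := hfP ▸ h1
    exact (Submodule.mem_bot F).mp h2
  -- coefficient vector of the normalised functional
  set φ : Fin n → F := fun i => (f u₀)⁻¹ * f (Pi.single i 1) with hφ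
  have hφx : ∀ x : Fin n → F, φ ⬝ᵥ x = (f u₀)⁻¹ * f x := by
    intro x
    have hx : f x = ∑ i, x i * f (Pi.single i 1) := by
      conv_lhs => rw [LinearMap.pi_apply_eq_sum_univ f x]
      apply Finset.sum_congr rfl
      intro i _
      rw [smul_eq_mul]
      congr 2
      funext j
      simp [Pi.single_apply, eq_comm]
    rw [hx, Finset.mul_sum]
    simp only [dotProduct, hφ]
    apply Finset.sum_congr rfl
    intro i _
    ring
  have hφP : ∀ x ∈ P, φ ⬝ᵥ x = 0 := by
    intro x hx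
    rw [hφx, hfP' x hx, mul_zero]
  have hφu : φ ⬝ᵥ u₀ = 1 := by
    rw [hφx, inv_mul_cancel₀ hfu]
  set M : Matrix (Fin n) (Fin n) F := 1 + Matrix.vecMulVec v φ with hM
  have hMx : ∀ x : Fin n → F, M *ᵥ x = x + (φ ⬝ᵥ x) • v := by
    intro x
    rw [hM, Matrix.add_mulVec, Matrix.one_mulVec, Matrix.vecMulVec_mulVec]
    congr 1
    ext i
    simp [mul_comm]
  have hdet : M.det = 1 := by
    rw [hM, Cfsg.Agent.Helper28.det_one_add_vecMulVec, hφP v hv, add_zero]
  refine ⟨Matrix.GeneralLinearGroup.mkOfDetNeZero M (by rw [hdet]; exact one_ne_zero), ?_, ?_, ?_⟩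
  · show Matrix.GeneralLinearGroup.det _ = 1
    apply Units.ext
    exact hdet
  · intro x hx
    show M *ᵥ x = x
    rw [hMx, hφP x hx, zero_smul, add_zero]
  · show M *ᵥ u₀ = u₀ + v
    rw [hMx, hφu, one_smul]

theorem mulVec_injective (t : Matrix.GeneralLinearGroup (Fin n) F) :
    Function.Injective (fun x : Fin n → F => (t : Matrix (Fin n) (Fin n) F) *ᵥ x) := by
  intro x y h
  have := congrArg (fun z => ((t⁻¹ : Matrix.GeneralLinearGroup (Fin n) F) : Matrix (Fin n) (Fin n) F) *ᵥ z) h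
  simp only [Matrix.mulVec_mulVec] at this
  rw [← Units.val_mul, inv_mul_cancel] at this
  simpa using this

/-- pointwise fixing implies stabilizing -/
theorem mem_stab_of_fix (W : Submodule F (Fin n → F)) (t : Matrix.GeneralLinearGroup (Fin n) F)
    (h : ∀ x ∈ W, (t : Matrix (Fin n) (Fin n) F) *ᵥ x = x) :
    t ∈ Cfsg.Geo.subspaceStabilizer W := by
  intro x
  constructor
  · intro hx
    show (t : Matrix (Fin n) (Fin n) F) *ᵥ x ∈ W
    rw [h x hx]
    exact hx
  · intro hx
    have hx' : (t : Matrix (Fin n) (Fin n) F) *ᵥ x ∈ W := hx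
    have := h _ hx'
    have := mulVec_injective t this
    rw [← this]
    exact hx'

theorem not_mem_stab (U : Submodule F (Fin n → F)) (t : Matrix.GeneralLinearGroup (Fin n) F)
    (u : Fin n → F) (hu : u ∈ U) (h : (t : Matrix (Fin n) (Fin n) F) *ᵥ u ∉ U) :
    t ∉ Cfsg.Geo.subspaceStabilizer U := by
  intro ht
  exact h ((ht u).mp hu)

/-- a proper nonzero subspace is not `SL`-invariant -/
theorem exists_sl_not_stab (W : Submodule F (Fin n → F)) (h0 : W ≠ ⊥) (h1 : W ≠ ⊤) :
    ∃ t : Matrix.GeneralLinearGroup (Fin n) F, t ∈ Cfsg.Geo.specialLinear (Fin n) F ∧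
      t ∉ Cfsg.Geo.subspaceStabilizer W := by
  obtain ⟨w, hw, hw0⟩ := (Submodule.ne_bot_iff W).mp h0
  obtain ⟨v, hv⟩ : ∃ v : Fin n → F, v ∉ W := by
    by_contra hcon
    push Not at hcon
    exact h1 (Submodule.eq_top_iff'.mpr hcon)
  have hwv : w ∉ Submodule.span F {v} := by
    intro hmem
    obtain ⟨c, rfl⟩ := Submodule.mem_span_singleton.mp hmem
    have hc : c ≠ 0 := by
      rintro rfl
      simp at hw0
    apply hv
    have := W.smul_mem c⁻¹ hw
    rwa [smul_smul, inv_mul_cancel₀ hc, one_smul] at this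
  obtain ⟨t, ht1, _, ht3⟩ := exists_transvection (Submodule.span F {v}) v w
    (Submodule.mem_span_singleton_self v) hwv
  refine ⟨t, ht1, not_mem_stab W t w hw ?_⟩
  rw [ht3]
  intro hmem
  apply hv
  have := W.sub_mem hmem hw
  simpa using this

end Cfsg.Agent.Helper28.Transv
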