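import Mathlib

set_option autoImplicit false

namespace Cfsg.Agent.Helper28.FB

open Matrix

variable {F : Type*} [CommRing F]

/-- `A` preserves the bilinear form with Gram matrix `Ω`. -/
def IsP {ι : Type*} [Fintype ι] (Ω A : Matrix ι ι F) : Prop := Aᵀ * Ω * A = Ω

variable {ι κ : Type*} [Fintype ι] [Fintype κ] [DecidableEq ι] [DecidableEq κ]

theorem gram_back (Ω : Matrix ι ι F) (Ω' : Matrix κ κ F) (M : Matrix ι κ F) (Ms : Matrix κ ι F)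
    (h2 : M * Ms = 1) (hΩ : Mᵀ * Ω * M = Ω') : Msᵀ * Ω' * Ms = Ω := by
  rw [← hΩ]
  calc Msᵀ * (Mᵀ * Ω * M) * Ms = (M * Ms)ᵀ * Ω * (M * Ms) := by
        rw [Matrix.transpose_mul]; simp only [Matrix.mul_assoc]
    _ = Ω := by rw [h2]; simp

theorem isP_conj (Ω : Matrix ι ι F) (Ω' : Matrix κ κ F) (M : Matrix ι κ F) (Ms : Matrix κ ι F)
    (h2 : M * Ms = 1) (hΩ : Mᵀ * Ω * M = Ω') (g : Matrix ι ι F) (hg : IsP Ω g) :
    IsP Ω' (Ms * g * M) := by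
  have hb := gram_back Ω Ω' M Ms h2 hΩ
  unfold IsP at *
  calc (Ms * g * M)ᵀ * Ω' * (Ms * g * M) = Mᵀ * (gᵀ * (Msᵀ * Ω' * Ms) * g) * M := by
        simp only [Matrix.transpose_mul, Matrix.mul_assoc]
    _ = Ω' := by rw [hb, hg, hΩ]

theorem isP_conj' (Ω : Matrix ι ι F) (Ω' : Matrix κ κ F) (M : Matrix ι κ F) (Ms : Matrix κ ι F)
    (h2 : M * Ms = 1) (hΩ : Mᵀ * Ω * M = Ω') (C : Matrix κ κ F) (hC : IsP Ω' C) :
    IsP Ω (M * C * Ms) := by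
  have hb := gram_back Ω Ω' M Ms h2 hΩ
  unfold IsP at *
  calc (M * C * Ms)ᵀ * Ω * (M * C * Ms) = Msᵀ * (Cᵀ * (Mᵀ * Ω * M) * C) * Ms := by
        simp only [Matrix.transpose_mul, Matrix.mul_assoc]
    _ = Ω := by rw [hΩ, hC, hb]

theorem isP_blocks (Ω₁ : Matrix ι ι F) (Ω₂ : Matrix κ κ F) (A : Matrix ι ι F) (D : Matrix κ κ F)
    (hA : IsP Ω₁ A) (hD : IsP Ω₂ D) : IsP (fromBlocks Ω₁ 0 0 Ω₂) (fromBlocks A 0 0 D) := by
  unfold IsP at *
  rw [Matrix.fromBlocks_transpose, Matrix.fromBlocks_multiply, Matrix.fromBlocks_multiply]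
  simp [hA, hD]

theorem isP_upper (Ω₁ Ω₁i : Matrix ι ι F) (hΩ₁ : Ω₁i * Ω₁ = 1) (Ω₂ : Matrix κ κ F)
    (A : Matrix ι ι F) (B : Matrix ι κ F) (D : Matrix κ κ F)
    (h : IsP (fromBlocks Ω₁ 0 0 Ω₂) (fromBlocks A B 0 D)) : B = 0 ∧ IsP Ω₁ A ∧ IsP Ω₂ D := by
  unfold IsP at *
  rw [Matrix.fromBlocks_transpose, Matrix.fromBlocks_multiply, Matrix.fromBlocks_multiply,
    Matrix.fromBlocks_inj] at h
  simp only [Matrix.transpose_zero, Matrix.mul_zero, Matrix.zero_mul, add_zero, zero_add] at h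
  obtain ⟨h11, h12, _, h22⟩ := h
  have hinv : (Ω₁i * Aᵀ * Ω₁) * A = 1 := by
    rw [Matrix.mul_assoc, Matrix.mul_assoc, ← Matrix.mul_assoc Aᵀ, h11, hΩ₁]
  have hinv' : A * (Ω₁i * Aᵀ * Ω₁) = 1 := mul_eq_one_comm.mp hinv
  have hB : B = 0 := by
    calc B = (A * (Ω₁i * Aᵀ * Ω₁)) * B := by rw [hinv', Matrix.one_mul]
      _ = A * Ω₁i * (Aᵀ * Ω₁ * B) := by simp only [Matrix.mul_assoc]
      _ = 0 := by rw [h12, Matrix.mul_zero]
  refine ⟨hB, h11, ?_⟩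
  rw [hB] at h22
  simpa using h22

/-- An invertible matrix mapping a subspace into itself maps it onto itself. -/
theorem mem_iff_mulVec_mem {K : Type*} [Field K] (W : Submodule K (ι → K)) (G G' : Matrix ι ι K)
    (hG : G' * G = 1) (h : ∀ v ∈ W, G *ᵥ v ∈ W) (v : ι → K) : v ∈ W ↔ G *ᵥ v ∈ W := by
  refine ⟨h v, fun hv => ?_⟩
  have hinjG : ∀ a b : ι → K, G *ᵥ a = G *ᵥ b → a = b := by
    intro a b hab
    have := congrArg (fun z => G' *ᵥ z) hab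
    simpa [Matrix.mulVec_mulVec, hG] using this
  let f : W →ₗ[K] W := (Matrix.mulVecLin G).restrict h
  have hf : ∀ w : W, ((f w : W) : ι → K) = G *ᵥ (w : ι → K) := fun w => rfl
  have hinj : Function.Injective f := by
    intro a b hab
    apply Subtype.ext
    apply hinjG
    rw [← hf, ← hf, hab]
  obtain ⟨w, hw⟩ := (LinearMap.injective_iff_surjective.mp hinj) ⟨_, hv⟩
  have : (w : ι → K) = v := hinjG _ _ (by rw [← hf, hw])
  rw [← this]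
  exact w.2

end Cfsg.Agent.Helper28.FB
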