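import Mathlib
import Cfsg.Prelude.Def_GeometricClasses
import Cfsg.Agent.Helper28.Quad
import Cfsg.Agent.Helper28.Transv
import Cfsg.Agent.Helper28.FormBlocks

set_option autoImplicit false

namespace Cfsg.Agent.Helper28.Transv

open Matrix

variable {F : Type*} [Field F] {n : ℕ}

/-- A transvection `x ↦ x + φ(x) v` fixing a subspace `P ∋ v` pointwise and moving `u₀ ∉ P` by `v`. -/
theorem exists_transvection' (P : Submodule F (Fin n → F)) (v u₀ : Fin n → F) (hv : v ∈ P)
    (hu : u₀ ∉ P) :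
    ∃ t : Matrix.GeneralLinearGroup (Fin n) F,
      (∀ x ∈ P, (t : Matrix (Fin n) (Fin n) F) *ᵥ x = x) ∧
      (t : Matrix (Fin n) (Fin n) F) *ᵥ u₀ = u₀ + v ∧
      ∀ x, ∃ c : F, (t : Matrix (Fin n) (Fin n) F) *ᵥ x = x + c • v := by
  classical
  obtain ⟨f, hfu, hfP⟩ := Submodule.exists_dual_map_eq_bot_of_notMem hu inferInstance
  have hfP' : ∀ x ∈ P, f x = 0 := by
    intro x hx
    have h1 : f x ∈ P.map f := ⟨x, hx, rfl⟩
    have h2 : f x ∈ (⊥ : Submodule F F) := hfP ▸ h1
    exact (Submodule.mem_bot F).mp h2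
  set φ : Fin n → F := fun i => (f u₀)⁻¹ * f (Pi.single i 1) with hφ
  have hφx : ∀ x : Fin n → F, φ ⬝ᵥ x = (f u₀)⁻¹ * f x := by
    intro x
    have hx : f x = ∑ i, x i * f (Pi.single i 1) := by
      conv_lhs => rw [LinearMap.pi_apply_eq_sum_univ f x]
      apply Finset.sum_congr rfl
      intro i _
      rw [smul_eq_mul]
      congr 2
      funext j
      simp [Pi.single_apply, eq_comm]
    rw [hx, Finset.mul_sum]
    simp only [dotProduct, hφ]
    apply Finset.sum_congr rfl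
    intro i _
    ring
  have hφP : ∀ x ∈ P, φ ⬝ᵥ x = 0 := by
    intro x hx
    rw [hφx, hfP' x hx, mul_zero]
  have hφu : φ ⬝ᵥ u₀ = 1 := by
    rw [hφx, inv_mul_cancel₀ hfu]
  set M : Matrix (Fin n) (Fin n) F := 1 + Matrix.vecMulVec v φ with hM
  have hMx : ∀ x : Fin n → F, M *ᵥ x = x + (φ ⬝ᵥ x) • v := by
    intro x
    rw [hM, Matrix.add_mulVec, Matrix.one_mulVec, Matrix.vecMulVec_mulVec]
    congr 1
    ext i
    simp [mul_comm]
  have hdet : M.det = 1 := by
    rw [hM, Cfsg.Agent.Helper28.det_one_add_vecMulVec, hφP v hv, add_zero]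
  refine ⟨Matrix.GeneralLinearGroup.mkOfDetNeZero M (by rw [hdet]; exact one_ne_zero), ?_, ?_, ?_⟩
  · intro x hx
    show M *ᵥ x = x
    rw [hMx, hφP x hx, zero_smul, add_zero]
  · show M *ᵥ u₀ = u₀ + v
    rw [hMx, hφu, one_smul]
  · intro x
    exact ⟨φ ⬝ᵥ x, hMx x⟩

/-- an element of `GL` mapping the subspace `W` into itself stabilises it -/
theorem mem_stab_of_forall (W : Submodule F (Fin n → F)) (t : Matrix.GeneralLinearGroup (Fin n) F)
    (h : ∀ x ∈ W, (t : Matrix (Fin n) (Fin n) F) *ᵥ x ∈ W) :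
    t ∈ Cfsg.stabilizing (Cfsg.glToMat (Fin n) F) (W : Set (Fin n → F)) := by
  intro x
  exact Cfsg.Agent.Helper28.FB.mem_iff_mulVec_mem W (t : Matrix (Fin n) (Fin n) F)
    ((t⁻¹ : Matrix.GeneralLinearGroup (Fin n) F) : Matrix (Fin n) (Fin n) F)
    (by rw [← Units.val_mul, inv_mul_cancel]; rfl) h x

/-- distinct nonzero subspaces have distinct stabilisers in `GL` -/
theorem exists_distinguishing (W A : Submodule F (Fin n → F)) (hW : W ≠ ⊥) (hA : A ≠ ⊥)
    (hne : W ≠ A) :
    ∃ t : Matrix.GeneralLinearGroup (Fin n) F,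
      ¬ (t ∈ Cfsg.stabilizing (Cfsg.glToMat (Fin n) F) (W : Set (Fin n → F)) ↔
        t ∈ Cfsg.stabilizing (Cfsg.glToMat (Fin n) F) (A : Set (Fin n → F))) := by
  classical
  -- the case of a strict inclusion
  have key : ∀ W A : Submodule F (Fin n → F), W ≠ ⊥ → W < A →
      ∃ t : Matrix.GeneralLinearGroup (Fin n) F,
        t ∉ Cfsg.stabilizing (Cfsg.glToMat (Fin n) F) (W : Set (Fin n → F)) ∧
        t ∈ Cfsg.stabilizing (Cfsg.glToMat (Fin n) F) (A : Set (Fin n → F)) := by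
    intro W A hW hlt
    obtain ⟨w, hw, hw0⟩ := (Submodule.ne_bot_iff W).mp hW
    obtain ⟨v, hvA, hvW⟩ := SetLike.exists_of_lt hlt
    have hwv : w ∉ Submodule.span F {v} := by
      intro hmem
      obtain ⟨c, rfl⟩ := Submodule.mem_span_singleton.mp hmem
      have hc : c ≠ 0 := by
        rintro rfl
        simp at hw0
      apply hvW
      have := W.smul_mem c⁻¹ hw
      rwa [smul_smul, inv_mul_cancel₀ hc, one_smul] at this
    obtain ⟨t, _, ht2, ht3⟩ := exists_transvection' (Submodule.span F {v}) v w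
      (Submodule.mem_span_singleton_self v) hwv
    refine ⟨t, ?_, ?_⟩
    · intro ht
      have h1 := (ht w).mp hw
      have h1' : (t : Matrix (Fin n) (Fin n) F) *ᵥ w ∈ W := h1
      rw [ht2] at h1'
      apply hvW
      have := W.sub_mem h1' hw
      simpa using this
    · apply mem_stab_of_forall
      intro x hx
      obtain ⟨c, hc⟩ := ht3 x
      rw [hc]
      exact A.add_mem hx (A.smul_mem _ hvA)
  by_cases h1 : W ≤ A
  · obtain ⟨t, ht1, ht2⟩ := key W A hW (lt_of_le_of_ne h1 hne)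
    exact ⟨t, fun h => ht1 (h.mpr ht2)⟩
  · by_cases h2 : A ≤ W
    · obtain ⟨t, ht1, ht2⟩ := key A W hA (lt_of_le_of_ne h2 (Ne.symm hne))
      exact ⟨t, fun h => ht1 (h.mp ht2)⟩
    · obtain ⟨v, hvW, hvA⟩ := SetLike.not_le_iff_exists.mp h1
      obtain ⟨a, haA, haW⟩ := SetLike.not_le_iff_exists.mp h2
      obtain ⟨t, ht1, ht2, _⟩ := exists_transvection' W v a hvW haW
      refine ⟨t, fun h => ?_⟩
      have hW' : t ∈ Cfsg.stabilizing (Cfsg.glToMat (Fin n) F) (W : Set (Fin n → F)) := by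
        apply mem_stab_of_forall
        intro x hx
        rw [ht1 x hx]
        exact hx
      have h3 := (h.mp hW' a).mp haA
      have h3' : (t : Matrix (Fin n) (Fin n) F) *ᵥ a ∈ A := h3
      rw [ht2] at h3'
      apply hvA
      have := A.sub_mem h3' haA
      simpa using this

end Cfsg.Agent.Helper28.Transv
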