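import Mathlib
import Cfsg.Prelude.Def_GeometricClasses
import Cfsg.Agent.Helper28.Quad
import Cfsg.Agent.Helper28.Transv
import Cfsg.Agent.Helper28.Transv2
import Cfsg.Agent.Helper28.Spin1
import Cfsg.Agent.Helper2.Transvec

set_option autoImplicit false

/-! Maximality of subspace stabilisers in `SL_n(F)` (inside `GL_n(F)`). -/

namespace Cfsg.Agent.Helper28.SLMax

open Matrix

variable {F : Type*} [Field F] {n : ℕ}

/-- the rank one update `1 + v φᵀ` -/
def E (v φ : Fin n → F) : Matrix (Fin n) (Fin n) F := 1 + Matrix.vecMulVec v φ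

theorem E_mulVec (v φ x : Fin n → F) : E v φ *ᵥ x = x + (φ ⬝ᵥ x) • v := by
  rw [E, Matrix.add_mulVec, Matrix.one_mulVec, Matrix.vecMulVec_mulVec]
  congr 1
  ext i
  simp [mul_comm]

theorem E_det (v φ : Fin n → F) : (E v φ).det = 1 + φ ⬝ᵥ v := by
  rw [E, Cfsg.Agent.Helper28.det_one_add_vecMulVec]

/-- `E v φ` as an element of `GL` -/
noncomputable def Eg (v φ : Fin n → F) (h : 1 + φ ⬝ᵥ v ≠ 0) : Matrix.GeneralLinearGroup (Fin n) F :=
  Matrix.GeneralLinearGroup.mkOfDetNeZero (E v φ) (by rw [E_det]; exact h)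

theorem Eg_val (v φ : Fin n → F) (h : 1 + φ ⬝ᵥ v ≠ 0) :
    ((Eg v φ h : Matrix.GeneralLinearGroup (Fin n) F) : Matrix (Fin n) (Fin n) F) = E v φ := rfl

theorem Eg_det (v φ : Fin n → F) (h : 1 + φ ⬝ᵥ v ≠ 0) :
    ((Matrix.GeneralLinearGroup.det (Eg v φ h) : Fˣ) : F) = 1 + φ ⬝ᵥ v := by
  show (E v φ).det = _
  exact E_det v φ

/-- a functional vanishing on `W` and taking value one at `x ∉ W` -/
theorem exists_dual (W : Submodule F (Fin n → F)) (x : Fin n → F) (hx : x ∉ W) :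
    ∃ φ : Fin n → F, (∀ w ∈ W, φ ⬝ᵥ w = 0) ∧ φ ⬝ᵥ x = 1 := by
  classical
  obtain ⟨f, hfu, hfP⟩ := Submodule.exists_dual_map_eq_bot_of_notMem hx inferInstance
  have hfP' : ∀ w ∈ W, f w = 0 := by
    intro w hw
    have h1 : f w ∈ W.map f := ⟨w, hw, rfl⟩
    have h2 : f w ∈ (⊥ : Submodule F F) := hfP ▸ h1
    exact (Submodule.mem_bot F).mp h2
  set φ : Fin n → F := fun i => (f x)⁻¹ * f (Pi.single i 1) with hφ
  have hφx : ∀ y : Fin n → F, φ ⬝ᵥ y = (f x)⁻¹ * f y := by
    intro y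
    have hy : f y = ∑ i, y i * f (Pi.single i 1) := by
      conv_lhs => rw [LinearMap.pi_apply_eq_sum_univ f y]
      apply Finset.sum_congr rfl
      intro i _
      rw [smul_eq_mul]
      congr 2
      funext j
      simp [Pi.single_apply, eq_comm]
    rw [hy, Finset.mul_sum]
    simp only [dotProduct, hφ]
    apply Finset.sum_congr rfl
    intro i _
    ring
  refine ⟨φ, fun w hw => ?_, ?_⟩
  · rw [hφx, hfP' w hw, mul_zero]
  · rw [hφx, inv_mul_cancel₀ hfu]

/-- a functional with prescribed values on two independent vectors (in the form: `a ∉ span {b}`) -/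
theorem exists_dual_pair (a b : Fin n → F) (hab : a ∉ Submodule.span F {b}) :
    ∃ φ : Fin n → F, φ ⬝ᵥ a = 1 ∧ φ ⬝ᵥ b = 0 := by
  obtain ⟨φ, h1, h2⟩ := exists_dual (Submodule.span F {b}) a hab
  exact ⟨φ, h2, h1 b (Submodule.mem_span_singleton_self b)⟩

abbrev SL (n : ℕ) (F : Type*) [Field F] := Cfsg.Geo.specialLinear (Fin n) F

theorem mem_SL_iff (g : Matrix.GeneralLinearGroup (Fin n) F) :
    g ∈ SL n F ↔ (g : Matrix (Fin n) (Fin n) F).det = 1 := by
  show Matrix.GeneralLinearGroup.det g = 1 ↔ _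
  rw [Units.ext_iff]
  rfl

/-- The stabiliser of `W` in `SL` is transitive on the vectors outside `W`. -/
theorem exists_stab_map (W : Submodule F (Fin n → F)) (hW0 : W ≠ ⊥) (x y : Fin n → F)
    (hx : x ∉ W) (hy : y ∉ W) :
    ∃ p : Matrix.GeneralLinearGroup (Fin n) F, p ∈ SL n F ∧ p ∈ Cfsg.Geo.subspaceStabilizer W ∧
      (p : Matrix (Fin n) (Fin n) F) *ᵥ x = y := by
  classical
  -- a functional vanishing on W with φ x = 1 and φ y ≠ 0
  obtain ⟨φ, hφW, hφx, hφy⟩ : ∃ φ : Fin n → F, (∀ w ∈ W, φ ⬝ᵥ w = 0) ∧ φ ⬝ᵥ x = 1 ∧ φ ⬝ᵥ y ≠ 0 := by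
    obtain ⟨φ, hφW, hφx⟩ := exists_dual W x hx
    obtain ⟨ψ, hψW, hψy⟩ := exists_dual W y hy
    by_cases h1 : φ ⬝ᵥ y = 0
    · by_cases h2 : ψ ⬝ᵥ x = 0
      · refine ⟨φ + ψ, fun w hw => ?_, ?_, ?_⟩
        · rw [add_dotProduct, hφW w hw, hψW w hw, add_zero]
        · rw [add_dotProduct, hφx, h2, add_zero]
        · rw [add_dotProduct, h1, hψy, zero_add]; exact one_ne_zero
      · refine ⟨(ψ ⬝ᵥ x)⁻¹ • ψ, fun w hw => ?_, ?_, ?_⟩
        · rw [smul_dotProduct, hψW w hw, smul_zero]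
        · rw [smul_dotProduct, smul_eq_mul, inv_mul_cancel₀ h2]
        · rw [smul_dotProduct, hψy, smul_eq_mul, mul_one]; exact inv_ne_zero h2
    · exact ⟨φ, hφW, hφx, h1⟩
  set c : F := φ ⬝ᵥ y with hc
  obtain ⟨w1, hw1, hw10⟩ := (Submodule.ne_bot_iff W).mp hW0
  -- ψ with ψ w1 = 1, ψ x = 0
  have hw1x : w1 ∉ Submodule.span F {x} := by
    intro hmem
    obtain ⟨a, ha⟩ := Submodule.mem_span_singleton.mp hmem
    have ha0 : a ≠ 0 := by
      rintro rfl
      rw [zero_smul] at ha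
      exact hw10 ha.symm
    apply hx
    have : x = a⁻¹ • w1 := by rw [← ha, smul_smul, inv_mul_cancel₀ ha0, one_smul]
    rw [this]
    exact W.smul_mem _ hw1
  obtain ⟨ψ, hψw, hψx⟩ := exists_dual_pair w1 x hw1x
  have hA : 1 + φ ⬝ᵥ (y - x) ≠ 0 := by
    rw [dotProduct_sub, hφx]
    simpa using hφy
  have hB : 1 + ψ ⬝ᵥ ((c⁻¹ - 1) • w1) ≠ 0 := by
    rw [dotProduct_smul, hψw, smul_eq_mul, mul_one]
    simpa using hφy
  refine ⟨Eg (y - x) φ hA * Eg ((c⁻¹ - 1) • w1) ψ hB, ?_, ?_, ?_⟩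
  · rw [mem_SL_iff, Units.val_mul, Matrix.det_mul, Eg_val, Eg_val, E_det, E_det,
      dotProduct_sub, hφx, dotProduct_smul, hψw, smul_eq_mul, mul_one]
    have : (1 + (c - 1)) * (1 + (c⁻¹ - 1)) = c * c⁻¹ := by ring
    rw [← hc, this, mul_inv_cancel₀ hφy]
  · apply Subgroup.mul_mem
    · apply Cfsg.Agent.Helper28.Transv.mem_stab_of_fix
      intro w hw
      rw [Eg_val, E_mulVec, hφW w hw, zero_smul, add_zero]
    · apply Cfsg.Agent.Helper28.Transv.mem_stab_of_forall
      intro w hw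
      rw [Eg_val, E_mulVec]
      exact W.add_mem hw (W.smul_mem _ (W.smul_mem _ hw1))
  · have h1 : E ((c⁻¹ - 1) • w1) ψ *ᵥ x = x := by
      rw [E_mulVec, hψx, zero_smul, add_zero]
    rw [Units.val_mul, ← Matrix.mulVec_mulVec, Eg_val, Eg_val, h1, E_mulVec, hφx, one_smul]
    abel

/-- A subgroup of `SL` (inside `GL`) containing all transvections `1 + v φᵀ` (`φ v = 0`) is `SL`. -/
theorem SL_le_of_transvections (hn : 2 ≤ n) (M : Subgroup (Matrix.GeneralLinearGroup (Fin n) F))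
    (hM : ∀ (v φ : Fin n → F) (h : φ ⬝ᵥ v = 0), Eg v φ (by rw [h, add_zero]; exact one_ne_zero) ∈ M) :
    SL n F ≤ M := by
  classical
  have : Nontrivial (Fin n) := Fin.nontrivial_iff_two_le.mpr hn
  intro A hA
  rw [mem_SL_iff] at hA
  have key : ∀ B : Matrix.SpecialLinearGroup (Fin n) F, Matrix.SpecialLinearGroup.toGL B ∈ M := by
    intro B
    refine Cfsg.Agent.Helper2.SL_transvection_induction
      (fun B => Matrix.SpecialLinearGroup.toGL B ∈ M) ?_ ?_ B
    · intro i j hij c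
      have h0 : (Pi.single j (1 : F) : Fin n → F) ⬝ᵥ (Pi.single i c : Fin n → F) = 0 := by
        rw [single_dotProduct, Pi.single_apply, if_neg hij.symm, mul_zero]
      have := hM (Pi.single i c) (Pi.single j 1) h0
      convert this using 1
      apply Units.ext
      show ((Matrix.SpecialLinearGroup.transvection hij c : Matrix.SpecialLinearGroup (Fin n) F) :
        Matrix (Fin n) (Fin n) F) = E _ _
      rw [Matrix.SpecialLinearGroup.transvection_coe, E]
      congr 1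
      ext k l
      simp only [Matrix.single_apply, Matrix.vecMulVec_apply, Pi.single_apply]
      by_cases hk : k = i <;> by_cases hl : l = j
      · subst hk; subst hl; simp
      · subst hk
        have : ¬ (j = l) := fun h => hl h.symm
        simp [hl, this]
      · subst hl
        have : ¬ (i = k) := fun h => hk h.symm
        simp [hk, this]
      · have h1 : ¬ (i = k) := fun h => hk h.symm
        simp [hk, h1]
    · intro A B hA hB
      rw [map_mul]
      exact M.mul_mem hA hB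
  have := key ⟨(A : Matrix (Fin n) (Fin n) F), hA⟩
  convert this using 1
  apply Units.ext
  rfl

/-- **Maximality of subspace stabilisers in `SL_n(F)`**, `n ≥ 2`, any field. -/
theorem stab_maximal (hn : 2 ≤ n) (W : Submodule F (Fin n → F)) (hW0 : W ≠ ⊥) (hW1 : W ≠ ⊤) :
    Cfsg.Geo.IsMaximalIn (SL n F) (Cfsg.Geo.subspaceStabilizer W ⊓ SL n F) := by
  classical
  refine ⟨lt_of_le_of_ne inf_le_right ?_, ?_⟩
  · intro heq
    obtain ⟨t, ht, htW⟩ := Cfsg.Agent.Helper28.Transv.exists_sl_not_stab W hW0 hW1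
    apply htW
    have : t ∈ Cfsg.Geo.subspaceStabilizer W ⊓ SL n F := by rw [heq]; exact ht
    exact this.1
  · intro M hPM hMS
    by_cases hMP : M ≤ Cfsg.Geo.subspaceStabilizer W ⊓ SL n F
    · left; exact le_antisymm hMP hPM
    right
    refine le_antisymm hMS ?_
    obtain ⟨g, hgM, hgP⟩ := SetLike.not_le_iff_exists.mp hMP
    have hgW : g ∉ Cfsg.Geo.subspaceStabilizer W := fun h => hgP ⟨h, hMS hgM⟩
    obtain ⟨w, hw, hgw⟩ : ∃ w ∈ W, (g : Matrix (Fin n) (Fin n) F) *ᵥ w ∉ W := by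
      by_contra hcon
      push Not at hcon
      exact hgW (Cfsg.Agent.Helper28.Transv.mem_stab_of_forall W g hcon)
    apply SL_le_of_transvections hn
    intro v φ hφv
    by_cases hv : v ∈ W
    · apply hPM
      refine ⟨?_, ?_⟩
      · apply Cfsg.Agent.Helper28.Transv.mem_stab_of_forall
        intro x hx
        rw [Eg_val, E_mulVec]
        exact W.add_mem hx (W.smul_mem _ hv)
      · apply (mem_SL_iff _).mpr
        rw [Eg_val, E_det, hφv, add_zero]
    · obtain ⟨p, hpS, hpW, hpv⟩ := exists_stab_map W hW0 _ v hgw hv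
      have hpM : p ∈ M := hPM ⟨hpW, hpS⟩
      obtain ⟨h, hh⟩ : ∃ h : Matrix.GeneralLinearGroup (Fin n) F, h = p * g := ⟨_, rfl⟩
      have hhM : h ∈ M := by rw [hh]; exact M.mul_mem hpM hgM
      have hhw : (h : Matrix (Fin n) (Fin n) F) *ᵥ w = v := by
        rw [hh, Units.val_mul, ← Matrix.mulVec_mulVec, hpv]
      set ψ : Fin n → F := φ ᵥ* (h : Matrix (Fin n) (Fin n) F) with hψ
      have hψx : ∀ x, ψ ⬝ᵥ x = φ ⬝ᵥ ((h : Matrix (Fin n) (Fin n) F) *ᵥ x) := by
        intro x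
        rw [hψ, Matrix.dotProduct_mulVec]
      have hψw : ψ ⬝ᵥ w = 0 := by rw [hψx, hhw, hφv]
      have hT : Eg w ψ (by rw [hψw, add_zero]; exact one_ne_zero) ∈ M := by
        apply hPM
        refine ⟨?_, ?_⟩
        · apply Cfsg.Agent.Helper28.Transv.mem_stab_of_forall
          intro x hx
          rw [Eg_val, E_mulVec]
          exact W.add_mem hx (W.smul_mem _ hw)
        · apply (mem_SL_iff _).mpr
          rw [Eg_val, E_det, hψw, add_zero]
      have hconj : Eg v φ (by rw [hφv, add_zero]; exact one_ne_zero) =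
          h * Eg w ψ (by rw [hψw, add_zero]; exact one_ne_zero) * h⁻¹ := by
        rw [eq_mul_inv_iff_mul_eq]
        apply Units.ext
        rw [Units.val_mul, Units.val_mul, Eg_val, Eg_val]
        apply Cfsg.Agent.Helper28.Spin.matrix_ext_mulVec
        intro x
        rw [← Matrix.mulVec_mulVec, ← Matrix.mulVec_mulVec, E_mulVec, E_mulVec, Matrix.mulVec_add,
          Matrix.mulVec_smul, hhw, hψx]
      rw [hconj]
      exact M.mul_mem (M.mul_mem hhM hT) (M.inv_mem hhM)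

end Cfsg.Agent.Helper28.SLMax
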