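import Mathlib
import Cfsg.Prelude.Def_GeometricClasses
import Cfsg.Agent.Helper28.SLMax

set_option autoImplicit false

/-! Maximality of the symplectic similarity group in `SL_n(F)`. -/

namespace Cfsg.Agent.Helper28.SimMax

open Matrix
open Cfsg.Agent.Helper28.SLMax

variable {F : Type*} [Field F] {n : ℕ}

/-! ### general linear algebra on covectors -/

/-- a covector whose kernel contains the kernel of `φ` is a multiple of `φ` -/
theorem exists_smul_of_ker (φ ψ : Fin n → F) (h : ∀ x, φ ⬝ᵥ x = 0 → ψ ⬝ᵥ x = 0) :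
    ∃ c : F, ψ = c • φ := by
  classical
  by_cases hφ : φ = 0
  · refine ⟨0, ?_⟩
    rw [zero_smul]
    funext i
    have := h (Pi.single i 1) (by rw [hφ, zero_dotProduct])
    simpa using this
  · obtain ⟨i, hi⟩ : ∃ i, φ i ≠ 0 := by
      by_contra hcon
      push Not at hcon
      exact hφ (funext hcon)
    set x₀ : Fin n → F := Pi.single i (φ i)⁻¹ with hx₀
    have hφx₀ : φ ⬝ᵥ x₀ = 1 := by
      rw [hx₀, dotProduct_single, mul_inv_cancel₀ hi]
    refine ⟨ψ ⬝ᵥ x₀, ?_⟩
    have key : ∀ x, ψ ⬝ᵥ x = (ψ ⬝ᵥ x₀) * (φ ⬝ᵥ x) := by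
      intro x
      have h1 : φ ⬝ᵥ (x - (φ ⬝ᵥ x) • x₀) = 0 := by
        rw [dotProduct_sub, dotProduct_smul, hφx₀, smul_eq_mul, mul_one, sub_self]
      have h2 := h _ h1
      rw [dotProduct_sub, dotProduct_smul, smul_eq_mul, sub_eq_zero] at h2
      rw [h2, mul_comm]
    funext j
    have := key (Pi.single j 1)
    simpa using this

/-- two nonzero covectors are simultaneously nonzero somewhere -/
theorem exists_both_ne (φ ψ : Fin n → F) (hφ : φ ≠ 0) (hψ : ψ ≠ 0) :
    ∃ x, φ ⬝ᵥ x ≠ 0 ∧ ψ ⬝ᵥ x ≠ 0 := by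
  classical
  have hex : ∀ χ : Fin n → F, χ ≠ 0 → ∃ x, χ ⬝ᵥ x ≠ 0 := by
    intro χ hχ
    by_contra hcon
    push Not at hcon
    apply hχ
    funext i
    have := hcon (Pi.single i 1)
    simpa using this
  obtain ⟨x, hx⟩ := hex φ hφ
  obtain ⟨y, hy⟩ := hex ψ hψ
  by_cases hx2 : ψ ⬝ᵥ x = 0
  · by_cases hy2 : φ ⬝ᵥ y = 0
    · refine ⟨x + y, ?_, ?_⟩
      · rw [dotProduct_add, hy2, add_zero]; exact hx
      · rw [dotProduct_add, hx2, zero_add]; exact hy
    · exact ⟨y, hy2, hy⟩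
  · exact ⟨x, hx, hx2⟩

/-! ### rank one perturbations of the identity -/

theorem E_mul_E (w φ φ' : Fin n → F) (h : φ ⬝ᵥ w = 0) : E w φ * E w φ' = E w (φ + φ') := by
  apply Cfsg.Agent.Helper28.Spin.matrix_ext_mulVec
  intro x
  rw [← Matrix.mulVec_mulVec, E_mulVec, E_mulVec, E_mulVec, dotProduct_add, dotProduct_smul, h,
    add_dotProduct, smul_zero, add_zero, add_smul]
  abel

theorem conj_E (g : Matrix.GeneralLinearGroup (Fin n) F) (w φ : Fin n → F) :
    (g : Matrix (Fin n) (Fin n) F) * E w φ * ((g⁻¹ : Matrix.GeneralLinearGroup (Fin n) F) :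
      Matrix (Fin n) (Fin n) F) =
    E ((g : Matrix (Fin n) (Fin n) F) *ᵥ w)
      (φ ᵥ* ((g⁻¹ : Matrix.GeneralLinearGroup (Fin n) F) : Matrix (Fin n) (Fin n) F)) := by
  apply Cfsg.Agent.Helper28.Spin.matrix_ext_mulVec
  intro x
  rw [← Matrix.mulVec_mulVec, ← Matrix.mulVec_mulVec, E_mulVec, E_mulVec, Matrix.mulVec_add,
    Matrix.mulVec_smul, Matrix.mulVec_mulVec, ← Units.val_mul, mul_inv_cancel, Units.val_one,
    Matrix.one_mulVec, Matrix.dotProduct_mulVec]

/-- the set of matrices of a subgroup of `GL` -/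
def MS (M : Subgroup (Matrix.GeneralLinearGroup (Fin n) F)) : Set (Matrix (Fin n) (Fin n) F) :=
  {A | ∃ g ∈ M, (g : Matrix (Fin n) (Fin n) F) = A}

theorem MS_mul {M : Subgroup (Matrix.GeneralLinearGroup (Fin n) F)} {A B : Matrix (Fin n) (Fin n) F}
    (hA : A ∈ MS M) (hB : B ∈ MS M) : A * B ∈ MS M := by
  obtain ⟨a, ha, rfl⟩ := hA
  obtain ⟨b, hb, rfl⟩ := hB
  exact ⟨a * b, M.mul_mem ha hb, by rw [Units.val_mul]⟩

theorem MS_conj {M : Subgroup (Matrix.GeneralLinearGroup (Fin n) F)} {A : Matrix (Fin n) (Fin n) F}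
    (g : Matrix.GeneralLinearGroup (Fin n) F) (hg : g ∈ M)
    (hA : A ∈ MS M) : (g : Matrix (Fin n) (Fin n) F) * A *
      ((g⁻¹ : Matrix.GeneralLinearGroup (Fin n) F) : Matrix (Fin n) (Fin n) F) ∈ MS M := by
  obtain ⟨a, ha, rfl⟩ := hA
  exact ⟨g * a * g⁻¹, M.mul_mem (M.mul_mem hg ha) (M.inv_mem hg), by
    rw [Units.val_mul, Units.val_mul]⟩

theorem Eg_mem_of_MS {M : Subgroup (Matrix.GeneralLinearGroup (Fin n) F)} (v φ : Fin n → F)
    (h : 1 + φ ⬝ᵥ v ≠ 0) (hE : E v φ ∈ MS M) : Eg v φ h ∈ M := by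
  obtain ⟨g, hg, hgE⟩ := hE
  have : g = Eg v φ h := by
    apply Units.ext
    rw [hgE, Eg_val]
  rw [← this]
  exact hg

theorem MS_of_Eg_mem {M : Subgroup (Matrix.GeneralLinearGroup (Fin n) F)} (v φ : Fin n → F)
    (h : 1 + φ ⬝ᵥ v ≠ 0) (hE : Eg v φ h ∈ M) : E v φ ∈ MS M :=
  ⟨_, hE, Eg_val v φ h⟩


theorem covec_ext {φ ψ : Fin n → F} (h : ∀ x, φ ⬝ᵥ x = ψ ⬝ᵥ x) : φ = ψ := by
  classical
  funext i
  have := h (Pi.single i 1)
  simpa using this

theorem E_zero_right (w : Fin n → F) : E w (0 : Fin n → F) = 1 := by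
  apply Cfsg.Agent.Helper28.Spin.matrix_ext_mulVec
  intro x
  rw [E_mulVec, zero_dotProduct, zero_smul, add_zero, Matrix.one_mulVec]

theorem E_zero_left (φ : Fin n → F) : E (0 : Fin n → F) φ = 1 := by
  apply Cfsg.Agent.Helper28.Spin.matrix_ext_mulVec
  intro x
  rw [E_mulVec, smul_zero, add_zero, Matrix.one_mulVec]

theorem one_mem_MS (M : Subgroup (Matrix.GeneralLinearGroup (Fin n) F)) :
    (1 : Matrix (Fin n) (Fin n) F) ∈ MS M := ⟨1, M.one_mem, rfl⟩

/-! ### the covector of a bilinear form -/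

/-- the covector representing `B · v` -/
def cv (B : LinearMap.BilinForm F (Fin n → F)) (v : Fin n → F) : Fin n → F :=
  fun i => B (Pi.single i 1) v

theorem cv_dot (B : LinearMap.BilinForm F (Fin n → F)) (v x : Fin n → F) :
    cv B v ⬝ᵥ x = B x v := by
  classical
  have hx : x = ∑ j, x j • (Pi.single j (1 : F) : Fin n → F) := by
    funext i
    simp [Finset.sum_apply, Pi.single_apply]
  conv_rhs => rw [hx]
  rw [map_sum, LinearMap.sum_apply]
  simp only [map_smul, LinearMap.smul_apply, smul_eq_mul]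
  simp only [dotProduct, cv]
  apply Finset.sum_congr rfl
  intro i _
  rw [mul_comm]

theorem cv_add (B : LinearMap.BilinForm F (Fin n → F)) (u v : Fin n → F) :
    cv B (u + v) = cv B u + cv B v := by
  funext i
  simp [cv]

theorem cv_smul (B : LinearMap.BilinForm F (Fin n → F)) (a : F) (v : Fin n → F) :
    cv B (a • v) = a • cv B v := by
  funext i
  simp [cv]

theorem cv_zero (B : LinearMap.BilinForm F (Fin n → F)) : cv B 0 = 0 := by
  funext i
  simp [cv]

section Symp

variable (B : LinearMap.BilinForm F (Fin n → F)) (hA : ∀ v, B v v = 0)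
  (hN : ∀ v, (∀ x, B x v = 0) → v = 0)

include hA in
theorem skew (x y : Fin n → F) : B x y = - B y x := by
  have h := hA (x + y)
  simp only [map_add, LinearMap.add_apply, hA, zero_add, add_zero] at h
  exact eq_neg_of_add_eq_zero_left (by rw [add_comm]; exact h)

include hN in
theorem cv_inj {u v : Fin n → F} (h : cv B u = cv B v) : u = v := by
  have h1 : u - v = 0 := by
    apply hN
    intro x
    rw [map_sub, ← cv_dot, ← cv_dot, h, sub_self]
  exact sub_eq_zero.mp h1

include hN in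
theorem cv_ne_zero {v : Fin n → F} (hv : v ≠ 0) : cv B v ≠ 0 := by
  intro h
  apply hv
  apply cv_inj B hN
  rw [h, cv_zero]

include hN in
theorem cv_surj (φ : Fin n → F) : ∃ u, cv B u = φ := by
  let L : (Fin n → F) →ₗ[F] (Fin n → F) :=
    { toFun := cv B
      map_add' := cv_add B
      map_smul' := fun a v => by rw [cv_smul]; rfl }
  have hinj : Function.Injective L := fun u v h => cv_inj B hN h
  exact LinearMap.injective_iff_surjective.mp hinj φ

/-- the symplectic transvection -/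
theorem ST_mulVec (v : Fin n → F) (a : F) (x : Fin n → F) :
    E v (a • cv B v) *ᵥ x = x + (a * B x v) • v := by
  rw [E_mulVec, smul_dotProduct, cv_dot, smul_eq_mul]

include hA in
theorem ST_isom (v : Fin n → F) (a : F) (x y : Fin n → F) :
    B (E v (a • cv B v) *ᵥ x) (E v (a • cv B v) *ᵥ y) = B x y := by
  rw [ST_mulVec, ST_mulVec]
  simp only [map_add, map_smul, LinearMap.add_apply, LinearMap.smul_apply, smul_eq_mul, hA]
  rw [skew B hA v y]
  ring

include hA in
theorem ST_dot (v : Fin n → F) (a : F) : (a • cv B v) ⬝ᵥ v = 0 := by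
  rw [smul_dotProduct, cv_dot, hA, smul_zero]

include hA in
theorem ST_mem (v : Fin n → F) (a : F) :
    Eg v (a • cv B v) (by rw [ST_dot B hA, add_zero]; exact one_ne_zero) ∈
      Cfsg.Geo.similarityGroup (fun u v => B u v) ⊓ SL n F := by
  refine ⟨?_, ?_⟩
  · refine ⟨1, fun x y => ?_⟩
    rw [Units.val_one, one_mul, Eg_val]
    exact ST_isom B hA v a x y
  · apply (mem_SL_iff _).mpr
    rw [Eg_val, E_det, ST_dot B hA, add_zero]


include hA hN in
/-- If `M` contains all symplectic transvections and the transvections with centre `w` and axis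
`u₀^⊥` for some `u₀ ∈ w^⊥` outside `⟨w⟩`, then it contains all transvections with centre `w`. -/
theorem all_center (M : Subgroup (Matrix.GeneralLinearGroup (Fin n) F))
    (hT : ∀ (v : Fin n → F) (a : F), E v (a • cv B v) ∈ MS M)
    (w u₀ : Fin n → F) (hwu : B u₀ w = 0) (hu₀ : ∀ c : F, u₀ ≠ c • w)
    (h0 : ∀ a : F, E w (a • cv B u₀) ∈ MS M) :
    ∀ φ : Fin n → F, φ ⬝ᵥ w = 0 → E w φ ∈ MS M := by
  -- the set `U`
  have hadd : ∀ u u' : Fin n → F, B u w = 0 → E w (cv B u) ∈ MS M → E w (cv B u') ∈ MS M →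
      E w (cv B (u + u')) ∈ MS M := by
    intro u u' hu h1 h2
    rw [cv_add, ← E_mul_E w _ _ (by rw [cv_dot, skew B hA, hu, neg_zero])]
    exact MS_mul h1 h2
  have hconj : ∀ (z u : Fin n → F) (a : F), B z w = 0 → E w (cv B u) ∈ MS M →
      E w (cv B (u + (a * B z u) • z)) ∈ MS M := by
    intro z u a hz hu
    have hgM : Eg z (a • cv B z) (by rw [ST_dot B hA, add_zero]; exact one_ne_zero) ∈ M :=
      Eg_mem_of_MS _ _ _ (hT z a)
    obtain ⟨g, hg⟩ : ∃ g : Matrix.GeneralLinearGroup (Fin n) F,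
      g = Eg z (a • cv B z) (by rw [ST_dot B hA, add_zero]; exact one_ne_zero) := ⟨_, rfl⟩
    rw [← hg] at hgM
    have hgv : ∀ x, (g : Matrix (Fin n) (Fin n) F) *ᵥ x = x + (a * B x z) • z := by
      intro x
      rw [hg, Eg_val, ST_mulVec]
    have hgw : (g : Matrix (Fin n) (Fin n) F) *ᵥ w = w := by
      rw [hgv, skew B hA, hz, neg_zero, mul_zero, zero_smul, add_zero]
    have hgw' : ((g⁻¹ : Matrix.GeneralLinearGroup (Fin n) F) : Matrix (Fin n) (Fin n) F) *ᵥ w
        = w := by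
      conv_lhs => rw [← hgw]
      rw [Matrix.mulVec_mulVec, ← Units.val_mul, inv_mul_cancel, Units.val_one, Matrix.one_mulVec]
    have h1 := MS_conj g⁻¹ (M.inv_mem hgM) hu
    rw [conj_E, hgw', inv_inv] at h1
    convert h1 using 2
    apply covec_ext
    intro x
    rw [cv_dot, ← Matrix.dotProduct_mulVec, cv_dot, hgv]
    simp only [map_add, map_smul, LinearMap.add_apply, LinearMap.smul_apply, smul_eq_mul]
    ring
  have hsm0 : ∀ c : F, E w (cv B (c • u₀)) ∈ MS M := by
    intro c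
    rw [cv_smul]
    exact h0 c
  -- existence of `z₀`
  obtain ⟨z₀, hz₀w, hz₀u⟩ : ∃ z₀, B z₀ w = 0 ∧ B z₀ u₀ ≠ 0 := by
    by_contra hcon
    push Not at hcon
    obtain ⟨c, hc⟩ := exists_smul_of_ker (cv B w) (cv B u₀) (by
      intro x hx
      rw [cv_dot] at hx ⊢
      exact hcon x hx)
    rw [← cv_smul] at hc
    exact hu₀ c (cv_inj B hN hc)
  -- vectors not orthogonal to `u₀`
  have hmem1 : ∀ z, B z w = 0 → B z u₀ ≠ 0 → E w (cv B z) ∈ MS M := by
    intro z hz hzu
    have h1 := hconj z u₀ (B z u₀)⁻¹ hz (by simpa using hsm0 1)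
    rw [inv_mul_cancel₀ hzu, one_smul] at h1
    have h2 := hadd ((-1 : F) • u₀) (u₀ + z) (by rw [map_smul, LinearMap.smul_apply, hwu, smul_zero])
      (hsm0 (-1)) h1
    have h3 : (-1 : F) • u₀ + (u₀ + z) = z := by
      rw [neg_one_smul]; abel
    rw [h3] at h2
    exact h2
  have hmem : ∀ z, B z w = 0 → E w (cv B z) ∈ MS M := by
    intro z hz
    by_cases hzu : B z u₀ = 0
    · have h1 : E w (cv B (z + z₀)) ∈ MS M := by
        apply hmem1
        · rw [map_add, LinearMap.add_apply, hz, hz₀w, add_zero]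
        · rw [map_add, LinearMap.add_apply, hzu, zero_add]; exact hz₀u
      have h2 : E w (cv B ((-1 : F) • z₀)) ∈ MS M := by
        apply hmem1
        · rw [map_smul, LinearMap.smul_apply, hz₀w, smul_zero]
        · rw [map_smul, LinearMap.smul_apply, smul_eq_mul]
          exact mul_ne_zero (by norm_num) hz₀u
      have h3 := hadd (z + z₀) ((-1 : F) • z₀)
        (by rw [map_add, LinearMap.add_apply, hz, hz₀w, add_zero]) h1 h2
      have h4 : z + z₀ + (-1 : F) • z₀ = z := by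
        rw [neg_one_smul]; abel
      rw [h4] at h3
      exact h3
    · exact hmem1 z hz hzu
  intro φ hφ
  obtain ⟨u, rfl⟩ := cv_surj B hN φ
  apply hmem
  rw [cv_dot] at hφ
  rw [skew B hA, hφ, neg_zero]


include hA hN in
/-- a non-similarity in `M` gives a full transvection group in `M` -/
theorem all_center_of_conj (M : Subgroup (Matrix.GeneralLinearGroup (Fin n) F))
    (hT : ∀ (v : Fin n → F) (a : F), E v (a • cv B v) ∈ MS M)
    (g : Matrix.GeneralLinearGroup (Fin n) F) (hg : g ∈ M) (x v : Fin n → F)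
    (h1 : B x v = 0)
    (h2 : B ((g : Matrix (Fin n) (Fin n) F) *ᵥ x) ((g : Matrix (Fin n) (Fin n) F) *ᵥ v) ≠ 0) :
    ∀ φ : Fin n → F, φ ⬝ᵥ ((g : Matrix (Fin n) (Fin n) F) *ᵥ v) = 0 →
      E ((g : Matrix (Fin n) (Fin n) F) *ᵥ v) φ ∈ MS M := by
  have hginv : ∀ y, ((g⁻¹ : Matrix.GeneralLinearGroup (Fin n) F) : Matrix (Fin n) (Fin n) F) *ᵥ
      ((g : Matrix (Fin n) (Fin n) F) *ᵥ y) = y := by
    intro y
    rw [Matrix.mulVec_mulVec, ← Units.val_mul, inv_mul_cancel, Units.val_one, Matrix.one_mulVec]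
  obtain ⟨u₁, hu₁⟩ := cv_surj B hN
    (cv B v ᵥ* ((g⁻¹ : Matrix.GeneralLinearGroup (Fin n) F) : Matrix (Fin n) (Fin n) F))
  have hu₁d : ∀ y, B ((g : Matrix (Fin n) (Fin n) F) *ᵥ y) u₁ = B y v := by
    intro y
    rw [← cv_dot, hu₁, ← Matrix.dotProduct_mulVec, hginv, cv_dot]
  apply all_center B hA hN M hT _ u₁
  · rw [skew B hA, hu₁d, hA, neg_zero]
  · intro c hc
    have h3 := hu₁d x
    rw [h1, hc, map_smul, smul_eq_mul] at h3
    have hc0 : c = 0 := by
      rcases mul_eq_zero.mp h3 with h | h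
      · exact h
      · exact absurd h h2
    rw [hc0, zero_smul] at hc
    have hv0 : v = 0 := by
      apply hN
      intro y
      rw [← hu₁d, hc, map_zero]
    apply h2
    rw [hv0, Matrix.mulVec_zero, map_zero]
  · intro a
    have h3 := MS_conj g hg (hT v a)
    rw [conj_E] at h3
    convert h3 using 2
    rw [Matrix.smul_vecMul, hu₁]

include hA in
theorem all_step (M : Subgroup (Matrix.GeneralLinearGroup (Fin n) F))
    (hT : ∀ (v : Fin n → F) (a : F), E v (a • cv B v) ∈ MS M)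
    (w : Fin n → F) (hall : ∀ φ : Fin n → F, φ ⬝ᵥ w = 0 → E w φ ∈ MS M)
    (w' : Fin n → F) (hww' : B w w' ≠ 0) :
    ∀ φ : Fin n → F, φ ⬝ᵥ w' = 0 → E w' φ ∈ MS M := by
  intro φ hφ
  have hgM : Eg (w' - w) ((B w w')⁻¹ • cv B (w' - w))
      (by rw [ST_dot B hA, add_zero]; exact one_ne_zero) ∈ M :=
    Eg_mem_of_MS _ _ _ (hT _ _)
  obtain ⟨g, hg⟩ : ∃ g : Matrix.GeneralLinearGroup (Fin n) F,
    g = Eg (w' - w) ((B w w')⁻¹ • cv B (w' - w))
      (by rw [ST_dot B hA, add_zero]; exact one_ne_zero) := ⟨_, rfl⟩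
  rw [← hg] at hgM
  have hgw : (g : Matrix (Fin n) (Fin n) F) *ᵥ w = w' := by
    rw [hg, Eg_val, ST_mulVec, map_sub, hA, sub_zero, inv_mul_cancel₀ hww', one_smul]
    abel
  have h1 := MS_conj g hgM (hall (φ ᵥ* (g : Matrix (Fin n) (Fin n) F))
    (by rw [← Matrix.dotProduct_mulVec, hgw, hφ]))
  rw [conj_E, hgw, Matrix.vecMul_vecMul, ← Units.val_mul, mul_inv_cancel, Units.val_one,
    Matrix.vecMul_one] at h1
  exact h1

include hA hN in
theorem all_of_center (M : Subgroup (Matrix.GeneralLinearGroup (Fin n) F))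
    (hT : ∀ (v : Fin n → F) (a : F), E v (a • cv B v) ∈ MS M)
    (w : Fin n → F) (hw : w ≠ 0) (hall : ∀ φ : Fin n → F, φ ⬝ᵥ w = 0 → E w φ ∈ MS M) :
    ∀ w' φ : Fin n → F, φ ⬝ᵥ w' = 0 → E w' φ ∈ MS M := by
  intro w' φ hφ
  by_cases hw' : w' = 0
  · rw [hw', E_zero_left]
    exact one_mem_MS M
  obtain ⟨x, hx1, hx2⟩ := exists_both_ne (cv B w) (cv B w') (cv_ne_zero B hN hw)
    (cv_ne_zero B hN hw')
  rw [cv_dot] at hx1 hx2
  have h1 := all_step B hA M hT w hall x (by
    rw [skew B hA]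
    exact neg_ne_zero.mpr hx1)
  exact all_step B hA M hT x h1 w' hx2 φ hφ

include hA hN in
/-- a linear map preserving orthogonality is a similarity -/
theorem sim_of_perp (g : Matrix.GeneralLinearGroup (Fin n) F)
    (h : ∀ x v : Fin n → F, B x v = 0 →
      B ((g : Matrix (Fin n) (Fin n) F) *ᵥ x) ((g : Matrix (Fin n) (Fin n) F) *ᵥ v) = 0) :
    g ∈ Cfsg.Geo.similarityGroup (fun u v => B u v) := by
  have hginv : ∀ y, (g : Matrix (Fin n) (Fin n) F) *ᵥ
      (((g⁻¹ : Matrix.GeneralLinearGroup (Fin n) F) : Matrix (Fin n) (Fin n) F) *ᵥ y) = y := by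
    intro y
    rw [Matrix.mulVec_mulVec, ← Units.val_mul, mul_inv_cancel, Units.val_one, Matrix.one_mulVec]
  -- the pointwise factor
  have hc : ∀ v : Fin n → F, ∃ c : F, ∀ x, B ((g : Matrix (Fin n) (Fin n) F) *ᵥ x)
      ((g : Matrix (Fin n) (Fin n) F) *ᵥ v) = c * B x v := by
    intro v
    obtain ⟨c, hc⟩ := exists_smul_of_ker (cv B v)
      (cv B ((g : Matrix (Fin n) (Fin n) F) *ᵥ v) ᵥ* (g : Matrix (Fin n) (Fin n) F)) (by
        intro x hx
        rw [cv_dot] at hx
        rw [← Matrix.dotProduct_mulVec, cv_dot]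
        exact h x v hx)
    refine ⟨c, fun x => ?_⟩
    rw [← cv_dot, Matrix.dotProduct_mulVec, hc, smul_dotProduct, cv_dot, smul_eq_mul]
  choose c hc using hc
  have hcc : ∀ x v, B x v ≠ 0 → c x = c v := by
    intro x v hxv
    have h1 := hc v x
    have h2 := hc x v
    rw [skew B hA, h2, skew B hA v x] at h1
    have h3 : (c x - c v) * B x v = 0 := by linear_combination h1
    rcases mul_eq_zero.mp h3 with h4 | h4
    · exact sub_eq_zero.mp h4
    · exact absurd h4 hxv
  by_cases hex : ∃ v₀ : Fin n → F, v₀ ≠ 0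
  · obtain ⟨v₀, hv₀⟩ := hex
    have hconst : ∀ v, v ≠ 0 → c v = c v₀ := by
      intro v hv
      obtain ⟨x, hx1, hx2⟩ := exists_both_ne (cv B v) (cv B v₀) (cv_ne_zero B hN hv)
        (cv_ne_zero B hN hv₀)
      rw [cv_dot] at hx1 hx2
      rw [← hcc x v hx1, hcc x v₀ hx2]
    have hc0 : c v₀ ≠ 0 := by
      intro h0
      have hgv : (g : Matrix (Fin n) (Fin n) F) *ᵥ v₀ = 0 := by
        apply hN
        intro y
        rw [← hginv y, hc, h0, zero_mul]
      apply hv₀
      have := hginv v₀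
      rw [← this]
      have h5 : ((g⁻¹ : Matrix.GeneralLinearGroup (Fin n) F) : Matrix (Fin n) (Fin n) F) *ᵥ
          ((g : Matrix (Fin n) (Fin n) F) *ᵥ v₀) = v₀ := by
        rw [Matrix.mulVec_mulVec, ← Units.val_mul, inv_mul_cancel, Units.val_one,
          Matrix.one_mulVec]
      rw [hgv, Matrix.mulVec_zero] at h5
      rw [← h5, Matrix.mulVec_zero, Matrix.mulVec_zero]
    refine ⟨Units.mk0 (c v₀) hc0, fun u v => ?_⟩
    show B _ _ = c v₀ * B u v
    by_cases hv : v = 0
    · rw [hv, Matrix.mulVec_zero, map_zero, map_zero, mul_zero]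
    · rw [hc, hconst v hv]
  · push Not at hex
    refine ⟨1, fun u v => ?_⟩
    show B _ _ = _ * B u v
    rw [hex v, Matrix.mulVec_zero, map_zero, map_zero, mul_zero]


include hA hN in
theorem exists_not_sim (hn : 3 ≤ n) :
    ∃ g ∈ SL n F, g ∉ Cfsg.Geo.similarityGroup (fun u v => B u v) := by
  classical
  set w : Fin n → F := Pi.single ⟨0, by omega⟩ 1 with hw
  set e₁ : Fin n → F := Pi.single ⟨1, by omega⟩ 1 with he₁
  set e₂ : Fin n → F := Pi.single ⟨2, by omega⟩ 1 with he₂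
  have hw0 : w ≠ 0 := by
    intro h
    have := congrFun h ⟨0, by omega⟩
    rw [hw, Pi.single_eq_same] at this
    exact one_ne_zero this
  obtain ⟨u, hu1, hu2⟩ : ∃ u : Fin n → F, B u w = 0 ∧ ∀ c : F, u ≠ c • w := by
    by_cases h1 : B e₁ w = 0
    · refine ⟨e₁, h1, fun c hc => ?_⟩
      have := congrFun hc ⟨1, by omega⟩
      rw [he₁, hw, Pi.single_eq_same, Pi.smul_apply, Pi.single_apply, if_neg (by
        intro h; have := congrArg Fin.val h; simp at this), smul_zero] at this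
      exact one_ne_zero this
    · refine ⟨e₂ - (B e₂ w / B e₁ w) • e₁, ?_, fun c hc => ?_⟩
      · rw [map_sub, LinearMap.sub_apply, map_smul, LinearMap.smul_apply, smul_eq_mul,
          div_mul_cancel₀ _ h1, sub_self]
      · have := congrFun hc ⟨2, by omega⟩
        rw [he₁, he₂, hw, Pi.sub_apply, Pi.single_eq_same, Pi.smul_apply, Pi.smul_apply,
          Pi.single_apply, Pi.single_apply, if_neg (by
          intro h; have := congrArg Fin.val h; simp at this), if_neg (by
          intro h; have := congrArg Fin.val h; simp at this), smul_zero, smul_zero, sub_zero] at this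
        exact one_ne_zero this
  have hdot : cv B u ⬝ᵥ w = 0 := by rw [cv_dot, skew B hA, hu1, neg_zero]
  refine ⟨Eg w (cv B u) (by rw [hdot, add_zero]; exact one_ne_zero), ?_, ?_⟩
  · apply (mem_SL_iff _).mpr
    rw [Eg_val, E_det, hdot, add_zero]
  · rintro ⟨c, hc⟩
    have hgx : ∀ x, E w (cv B u) *ᵥ x = x + (B x u) • w := by
      intro x
      rw [E_mulVec, cv_dot]
    have hc' : ∀ x y, B (x + (B x u) • w) (y + (B y u) • w) = (c : F) * B x y := by
      intro x y
      have := hc x y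
      rw [Eg_val, hgx, hgx] at this
      exact this
    obtain ⟨x₀, hx₀⟩ : ∃ x₀, B x₀ w ≠ 0 := by
      by_contra hcon
      push Not at hcon
      exact hw0 (hN w hcon)
    have hwu : B w u = 0 := by rw [skew B hA, hu1, neg_zero]
    have hc1 : (c : F) = 1 := by
      have := hc' x₀ w
      rw [hwu, zero_smul, add_zero, map_add, LinearMap.add_apply, map_smul, LinearMap.smul_apply,
        hA, smul_zero, add_zero] at this
      have h3 : ((c : F) - 1) * B x₀ w = 0 := by linear_combination -this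
      rcases mul_eq_zero.mp h3 with h4 | h4
      · exact sub_eq_zero.mp h4
      · exact absurd h4 hx₀
    have hrel : ∀ x, B x u = (B x₀ u / B x₀ w) * B x w := by
      intro x
      have := hc' x x₀
      rw [hc1, one_mul] at this
      simp only [map_add, map_smul, LinearMap.add_apply, LinearMap.smul_apply, smul_eq_mul, hA,
        mul_zero, add_zero] at this
      rw [skew B hA w x₀] at this
      field_simp
      linear_combination -this
    apply hu2 (B x₀ u / B x₀ w)
    apply cv_inj B hN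
    rw [cv_smul]
    apply covec_ext
    intro x
    rw [cv_dot, smul_dotProduct, cv_dot, smul_eq_mul]
    exact hrel x

include hA hN in
/-- **The symplectic similarity group is maximal in `SL_n(F)`**, `n ≥ 3`, any field. -/
theorem sim_maximal (hn : 3 ≤ n) :
    Cfsg.Geo.IsMaximalIn (SL n F) (Cfsg.Geo.similarityGroup (fun u v => B u v) ⊓ SL n F) := by
  classical
  refine ⟨lt_of_le_of_ne inf_le_right ?_, ?_⟩
  · intro heq
    obtain ⟨g, hg1, hg2⟩ := exists_not_sim B hA hN hn
    apply hg2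
    have : g ∈ Cfsg.Geo.similarityGroup (fun u v => B u v) ⊓ SL n F := by rw [heq]; exact hg1
    exact this.1
  · intro M hPM hMS
    by_cases hMP : M ≤ Cfsg.Geo.similarityGroup (fun u v => B u v) ⊓ SL n F
    · left; exact le_antisymm hMP hPM
    right
    refine le_antisymm hMS ?_
    obtain ⟨g, hgM, hgP⟩ := SetLike.not_le_iff_exists.mp hMP
    have hgS : g ∉ Cfsg.Geo.similarityGroup (fun u v => B u v) := fun h => hgP ⟨h, hMS hgM⟩
    obtain ⟨x, v, h1, h2⟩ : ∃ x v : Fin n → F, B x v = 0 ∧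
        B ((g : Matrix (Fin n) (Fin n) F) *ᵥ x) ((g : Matrix (Fin n) (Fin n) F) *ᵥ v) ≠ 0 := by
      by_contra hcon
      push Not at hcon
      exact hgS (sim_of_perp B hA hN g hcon)
    have hT : ∀ (v : Fin n → F) (a : F), E v (a • cv B v) ∈ MS M := by
      intro v a
      exact MS_of_Eg_mem _ _ _ (hPM (ST_mem B hA v a))
    have hcen := all_center_of_conj B hA hN M hT g hgM x v h1 h2
    have hgv : (g : Matrix (Fin n) (Fin n) F) *ᵥ v ≠ 0 := by
      intro h0
      apply h2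
      rw [h0, map_zero]
    have hall := all_of_center B hA hN M hT _ hgv hcen
    apply SL_le_of_transvections (by omega)
    intro v φ hφ
    exact Eg_mem_of_MS _ _ _ (hall v φ hφ)

end Symp

end Cfsg.Agent.Helper28.SimMax
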