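import Mathlib
import Cfsg.Prelude.Def_GeometricClasses

set_option autoImplicit false

/-! Membership in the subfield subgroup attached to `F₀` and `P`. -/

namespace Cfsg.Agent.Helper28.USub

open Matrix Cfsg.Geo

variable {K : Type*} [Field K] {n : ℕ}

local notation "GLn" => Matrix.GeneralLinearGroup (Fin n) K

theorem mem_subf_of (F₀ : Subfield K) (P g : GLn) (A₀ : Matrix (Fin n) (Fin n) F₀) (μ : K)
    (hμ : μ ≠ 0)
    (hg : (g : Matrix (Fin n) (Fin n) K) * (P : Matrix (Fin n) (Fin n) K) =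
      μ • ((P : Matrix (Fin n) (Fin n) K) * A₀.map F₀.subtype)) :
    g ∈ subfieldSubgroup F₀ P := by
  have hdet := congrArg Matrix.det hg
  rw [Matrix.det_mul, Matrix.det_smul, Matrix.det_mul, ← RingHom.mapMatrix_apply,
    ← RingHom.map_det] at hdet
  have hgd : (g : Matrix (Fin n) (Fin n) K).det ≠ 0 := by
    have := g.isUnit.map (Matrix.detMonoidHom (n := Fin n) (R := K))
    exact this.ne_zero
  have hPd : (P : Matrix (Fin n) (Fin n) K).det ≠ 0 := by
    have := P.isUnit.map (Matrix.detMonoidHom (n := Fin n) (R := K))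
    exact this.ne_zero
  have hd0 : A₀.det ≠ 0 := by
    intro h0
    rw [h0, map_zero, mul_zero, mul_zero] at hdet
    exact mul_ne_zero hgd hPd hdet
  set g₀ : GL (Fin n) F₀ := Matrix.GeneralLinearGroup.mkOfDetNeZero A₀ hd0 with hg₀
  set x : GLn := Matrix.GeneralLinearGroup.map F₀.subtype g₀ *
    Units.map (Matrix.scalar (Fin n) : K →+* Matrix (Fin n) (Fin n) K).toMonoidHom (Units.mk0 μ hμ)
    with hx
  have hxm : x ∈ (Matrix.GeneralLinearGroup.map (F₀.subtype : F₀ →+* K)).range ⊔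
      scalars (Fin n) K :=
    Subgroup.mul_mem_sup ⟨g₀, rfl⟩ ⟨Units.mk0 μ hμ, rfl⟩
  refine ⟨x, hxm, ?_⟩
  show P * x * P⁻¹ = g
  rw [mul_inv_eq_iff_eq_mul]
  apply Units.ext
  rw [Units.val_mul (a := g), hg, hx, Units.val_mul, Units.val_mul]
  show (P : Matrix (Fin n) (Fin n) K) * (A₀.map F₀.subtype * Matrix.scalar (Fin n) μ) = _
  rw [Matrix.scalar_apply, ← Matrix.smul_one_eq_diagonal, Matrix.mul_smul, Matrix.mul_one,
    Matrix.mul_smul]

theorem exists_of_mem_subf (F₀ : Subfield K) (P g : GLn) (hg : g ∈ subfieldSubgroup F₀ P) :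
    ∃ (A₀ : Matrix (Fin n) (Fin n) F₀) (μ : K), μ ≠ 0 ∧
      (g : Matrix (Fin n) (Fin n) K) * (P : Matrix (Fin n) (Fin n) K) =
        μ • ((P : Matrix (Fin n) (Fin n) K) * A₀.map F₀.subtype) := by
  obtain ⟨x, hx, rfl⟩ := hg
  rw [Subgroup.mul_normal, Set.mem_mul] at hx
  obtain ⟨a, ⟨g₀, rfl⟩, b, hb, rfl⟩ := hx
  obtain ⟨μ, hμ⟩ := (mem_scalars_iff b).1 hb
  refine ⟨(g₀ : Matrix (Fin n) (Fin n) F₀), (μ : K), μ.ne_zero, ?_⟩
  show ((P * (Matrix.GeneralLinearGroup.map F₀.subtype g₀ * b) * P⁻¹ : GLn) :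
    Matrix (Fin n) (Fin n) K) * (P : Matrix (Fin n) (Fin n) K) = _
  rw [← Units.val_mul, inv_mul_cancel_right, Units.val_mul, Units.val_mul, hμ, Matrix.mul_smul,
    Matrix.mul_one, Matrix.mul_smul]
  rfl

end Cfsg.Agent.Helper28.USub
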