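import Mathlib
import Cfsg.Agent.Helper28.Symp
import Cfsg.Agent.Helper28.SympTrans
import Cfsg.Agent.Helper28.SympFrame
import Cfsg.Agent.S0749

set_option autoImplicit false

namespace Cfsg.Agent.Helper28.SpFrames

open Matrix Module Submodule Cfsg.Agent.Helper28 Cfsg.Agent.Helper28.SympFrame

variable {F : Type*} [Field F] {m : ℕ}

abbrev Vm (m : ℕ) (F : Type*) := Fin m ⊕ Fin m → F

abbrev Gm (m : ℕ) (F : Type*) [Field F] := Matrix.symplecticGroup (Fin m) F

/-- isotropic frames: linearly independent `k`-tuples spanning a totally isotropic subspace -/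
def Fr (F : Type*) [Field F] (m k : ℕ) :=
  {x : Fin k → Vm m F // LinearIndependent F x ∧ ∀ i j, Cfsg.sympForm m F (x i) (x j) = 0}

theorem inv_mul_coe (g : Gm m F) :
    ((g⁻¹ : Gm m F) : Matrix (Fin m ⊕ Fin m) (Fin m ⊕ Fin m) F) * (g : Matrix _ _ F) = 1 := by
  rw [← symp_coe_mul, inv_mul_cancel]
  rfl

theorem mulVec_injective (g : Gm m F) :
    Function.Injective (fun v : Vm m F => (g : Matrix (Fin m ⊕ Fin m) (Fin m ⊕ Fin m) F) *ᵥ v) := by
  intro v w h
  have := congrArg (fun z => ((g⁻¹ : Gm m F) : Matrix (Fin m ⊕ Fin m) (Fin m ⊕ Fin m) F) *ᵥ z) h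
  simpa [Matrix.mulVec_mulVec, inv_mul_coe] using this

theorem preserves (g : Gm m F) (u v : Vm m F) :
    Cfsg.sympForm m F ((g : Matrix _ _ F) *ᵥ u) ((g : Matrix _ _ F) *ᵥ v) = Cfsg.sympForm m F u v :=
  (mem_symplecticGroup_iff_preserves g.1).mp g.2 u v

instance (k : ℕ) : MulAction (Gm m F) (Fr F m k) where
  smul g x := ⟨fun i => (g : Matrix _ _ F) *ᵥ x.1 i, by
    refine ⟨?_, fun i j => by rw [preserves]; exact x.2.2 i j⟩
    have := x.2.1.map' (Matrix.toLin' (g : Matrix (Fin m ⊕ Fin m) (Fin m ⊕ Fin m) F)) (by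
      rw [LinearMap.ker_eq_bot]
      intro v w h
      rw [Matrix.toLin'_apply, Matrix.toLin'_apply] at h
      exact mulVec_injective g h)
    exact this⟩
  one_smul x := by
    apply Subtype.ext
    funext i
    show ((1 : Gm m F) : Matrix _ _ F) *ᵥ x.1 i = x.1 i
    have : ((1 : Gm m F) : Matrix (Fin m ⊕ Fin m) (Fin m ⊕ Fin m) F) = 1 := rfl
    rw [this, Matrix.one_mulVec]
  mul_smul g h x := by
    apply Subtype.ext
    funext i
    show ((g * h : Gm m F) : Matrix (Fin m ⊕ Fin m) (Fin m ⊕ Fin m) F) *ᵥ x.1 i =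
      (g : Matrix (Fin m ⊕ Fin m) (Fin m ⊕ Fin m) F) *ᵥ
        ((h : Matrix (Fin m ⊕ Fin m) (Fin m ⊕ Fin m) F) *ᵥ x.1 i)
    rw [symp_coe_mul, Matrix.mulVec_mulVec]

theorem smul_val {k : ℕ} (g : Gm m F) (x : Fr F m k) (i : Fin k) :
    (g • x).1 i = (g : Matrix _ _ F) *ᵥ x.1 i := rfl

theorem span_TI {k : ℕ} (x : Fr F m k) :
    ∀ u ∈ span F (Set.range x.1), ∀ v ∈ span F (Set.range x.1), Cfsg.sympForm m F u v = 0 := by
  intro u hu v hv
  induction hu using Submodule.span_induction with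
  | mem u hu =>
    obtain ⟨i, rfl⟩ := hu
    induction hv using Submodule.span_induction with
    | mem v hv =>
      obtain ⟨j, rfl⟩ := hv
      exact x.2.2 i j
    | zero => rw [← sB_apply, map_zero]
    | add a b _ _ ha hb => rw [sympForm_add_right, ha, hb, add_zero]
    | smul c a _ ha => rw [sympForm_smul_right, ha, mul_zero]
  | zero => rw [← sB_apply, map_zero]; rfl
  | add a b _ _ ha hb => rw [sympForm_add_left, ha, hb, add_zero]
  | smul c a _ ha => rw [sympForm_smul_left, ha, mul_zero]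

/-- Witt: the symplectic group is transitive on isotropic frames. -/
theorem exists_smul_eq {k : ℕ} (x y : Fr F m k) : ∃ g : Gm m F, g • x = y := by
  classical
  set bx := Basis.span x.2.1 with hbx
  set by' := Basis.span y.2.1 with hby
  set φ : span F (Set.range x.1) ≃ₗ[F] span F (Set.range y.1) := bx.equiv by' (Equiv.refl _) with hφ
  obtain ⟨g, hg, hgφ⟩ := Cfsg.Agent.S0749.result (sB m F) (sB_nondeg m F) (sB_isAlt m F)
    (span F (Set.range x.1)) (span F (Set.range y.1)) φ (by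
      intro a b
      rw [sB_apply, sB_apply, span_TI x a a.2 b b.2, span_TI y _ (φ a).2 _ (φ b).2])
  set A : Matrix (Fin m ⊕ Fin m) (Fin m ⊕ Fin m) F := LinearMap.toMatrix' g.toLinearMap with hA
  have hAv : ∀ v, A *ᵥ v = g v := by
    intro v
    rw [hA, LinearMap.toMatrix'_mulVec]
    rfl
  have hAmem : A ∈ Matrix.symplecticGroup (Fin m) F := by
    rw [mem_symplecticGroup_iff_preserves]
    intro u v
    rw [hAv, hAv, ← sB_apply, hg, sB_apply]
  refine ⟨⟨A, hAmem⟩, ?_⟩
  apply Subtype.ext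
  funext i
  rw [smul_val]
  show A *ᵥ x.1 i = y.1 i
  rw [hAv]
  have h1 : (bx i : Vm m F) = x.1 i := congrArg Subtype.val (Basis.span_apply x.2.1 i)
  have h2 : (by' i : Vm m F) = y.1 i := congrArg Subtype.val (Basis.span_apply y.2.1 i)
  rw [← h1, hgφ, hφ, Basis.equiv_apply, Equiv.refl_apply, h2]

/-! ### counting frames -/

theorem mem_orth_span_iff {k : ℕ} (x : Fin k → Vm m F) (v : Vm m F) :
    v ∈ (sB m F).orthogonal (span F (Set.range x)) ↔ ∀ i, Cfsg.sympForm m F (x i) v = 0 := by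
  rw [LinearMap.BilinForm.mem_orthogonal_iff]
  constructor
  · intro h i
    have := h (x i) (Submodule.subset_span ⟨i, rfl⟩)
    exact this
  · intro h n hn
    show sB m F n v = 0
    induction hn using Submodule.span_induction with
    | mem u hu =>
      obtain ⟨i, rfl⟩ := hu
      exact h i
    | zero => simp
    | add a b _ _ ha hb => rw [map_add, LinearMap.add_apply, ha, hb, add_zero]
    | smul c a _ ha => rw [map_smul, LinearMap.smul_apply, ha, smul_zero]

/-- the fibre of `Fr (k+1) → Fr k` -/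
abbrev Fib {k : ℕ} (x : Fr F m k) :=
  {v : Vm m F // v ∈ (sB m F).orthogonal (span F (Set.range x.1)) ∧ v ∉ span F (Set.range x.1)}

/-- Splitting off the first vector of a frame. -/
def frEquiv (k : ℕ) : Fr F m (k + 1) ≃ Σ x : Fr F m k, Fib x where
  toFun s := ⟨⟨Fin.tail s.1, (linearIndependent_finSucc.mp s.2.1).1,
      fun i j => s.2.2 i.succ j.succ⟩,
    ⟨s.1 0, (mem_orth_span_iff _ _).mpr (fun i => s.2.2 i.succ 0),
      (linearIndependent_finSucc.mp s.2.1).2⟩⟩
  invFun p := ⟨Fin.cons p.2.1 p.1.1, linearIndependent_finCons.mpr ⟨p.1.2.1, p.2.2.2⟩, by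
    have hp := (mem_orth_span_iff _ _).mp p.2.2.1
    intro i j
    refine Fin.cases ?_ (fun i' => ?_) i <;> refine Fin.cases ?_ (fun j' => ?_) j
    · simp only [Fin.cons_zero]
      exact sympForm_self _
    · simp only [Fin.cons_zero, Fin.cons_succ]
      rw [sympForm_swap, hp j', neg_zero]
    · simp only [Fin.cons_zero, Fin.cons_succ]
      exact hp i'
    · simp only [Fin.cons_succ]
      exact p.1.2.2 i' j'⟩
  left_inv s := by
    apply Subtype.ext
    simp only [Fin.cons_self_tail]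
  right_inv := fun ⟨⟨x, hx⟩, ⟨v, hv⟩⟩ => by
    apply Sigma.subtype_ext
    · apply Subtype.ext
      show Fin.tail (Fin.cons v x : Fin (k + 1) → Vm m F) = x
      exact Fin.tail_cons _ _
    · show (Fin.cons v x : Fin (k + 1) → Vm m F) 0 = v
      exact Fin.cons_zero _ _

variable [Fintype F]

instance (k : ℕ) : Finite (Fr F m k) := Subtype.finite

instance {k : ℕ} (x : Fr F m k) : Finite (Fib x) := Subtype.finite

theorem card_Fib {q : ℕ} (hF : Fintype.card F = q) {k : ℕ} (x : Fr F m k) :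
    Nat.card (Fib x) = q ^ (2 * m - k) - q ^ k := by
  classical
  set S := span F (Set.range x.1) with hS
  set P := (sB m F).orthogonal S with hP
  have hSP : S ≤ P := by
    intro v hv
    rw [hP, LinearMap.BilinForm.mem_orthogonal_iff]
    intro n hn
    exact span_TI x n hn v hv
  have hfS : finrank F S = k := by
    rw [hS, finrank_span_eq_card x.2.1, Fintype.card_fin]
  have hfP : finrank F P = 2 * m - k := by
    rw [hP, LinearMap.BilinForm.finrank_orthogonal (sB_nondeg m F), hfS,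
      Module.finrank_fintype_fun_eq_card, Fintype.card_sum, Fintype.card_fin]
    omega
  have hcS : Nat.card S = q ^ k := by
    rw [Module.natCard_eq_pow_finrank (K := F), hfS, Nat.card_eq_fintype_card, hF]
  have hcP : Nat.card P = q ^ (2 * m - k) := by
    rw [Module.natCard_eq_pow_finrank (K := F), hfP, Nat.card_eq_fintype_card, hF]
  have h1 : Nat.card (Fib x) = ((P : Set (Vm m F)) \ (S : Set (Vm m F))).ncard := by
    rw [← Nat.card_coe_set_eq]
    rfl
  rw [h1, Set.ncard_sdiff (by exact hSP), ← Nat.card_coe_set_eq, ← Nat.card_coe_set_eq]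
  show Nat.card P - Nat.card S = _
  rw [hcS, hcP]

theorem card_Fr {q : ℕ} (hF : Fintype.card F = q) (k : ℕ) :
    Nat.card (Fr F m k) = ∏ i ∈ Finset.range k, (q ^ (2 * m - i) - q ^ i) := by
  classical
  induction k with
  | zero =>
    rw [Finset.range_zero, Finset.prod_empty]
    haveI : Subsingleton (Fr F m 0) := ⟨fun a b => Subtype.ext (Subsingleton.elim _ _)⟩
    haveI : Nonempty (Fr F m 0) := ⟨⟨fun i => i.elim0, linearIndependent_empty_type,
      fun i => i.elim0⟩⟩
    exact Nat.card_unique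
  | succ k ih =>
    haveI : Fintype (Fr F m k) := Fintype.ofFinite _
    rw [Nat.card_congr (frEquiv k), Nat.card_sigma, Finset.prod_range_succ, ← ih]
    simp only [card_Fib hF, Finset.sum_const, Finset.card_univ, smul_eq_mul,
      Nat.card_eq_fintype_card]

/-! ### orbit-stabiliser -/

instance : Finite (Gm m F) := Subtype.finite

theorem card_G_eq {k : ℕ} (y₀ : Fr F m k) :
    Nat.card (Gm m F) = Nat.card (Fr F m k) * Nat.card (MulAction.stabilizer (Gm m F) y₀) := by
  rw [← Nat.card_congr (MulAction.orbitProdStabilizerEquivGroup (Gm m F) y₀), Nat.card_prod]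
  congr 1
  have : MulAction.orbit (Gm m F) y₀ = Set.univ := by
    ext y
    simp only [Set.mem_univ, iff_true]
    obtain ⟨g, hg⟩ := exists_smul_eq y₀ y
    exact ⟨g, hg⟩
  rw [this]
  exact Nat.card_congr (Equiv.Set.univ _)

/-- the stabiliser of a subspace -/
abbrev HW (W : Submodule F (Vm m F)) : Subgroup (Gm m F) :=
  Cfsg.stabilizing (Cfsg.spToMat m F) (W : Set (Vm m F))

theorem mem_HW_iff (W : Submodule F (Vm m F)) (g : Gm m F) :
    g ∈ HW W ↔ ∀ v, v ∈ W ↔ (g : Matrix (Fin m ⊕ Fin m) (Fin m ⊕ Fin m) F) *ᵥ v ∈ W := Iff.rfl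

theorem span_eq_of_mem {k : ℕ} (W : Submodule F (Vm m F)) (hWk : finrank F W = k)
    (y : Fr F m k) (hy : ∀ i, y.1 i ∈ W) : span F (Set.range y.1) = W := by
  apply Submodule.eq_of_le_of_finrank_eq
  · rw [Submodule.span_le]
    rintro _ ⟨i, rfl⟩
    exact hy i
  · rw [finrank_span_eq_card y.2.1, Fintype.card_fin, hWk]

theorem mem_HW_of_smul {k : ℕ} (W : Submodule F (Vm m F)) (hWk : finrank F W = k)
    (y₀ y : Fr F m k) (hy₀ : ∀ i, y₀.1 i ∈ W) (hy : ∀ i, y.1 i ∈ W) (g : Gm m F)
    (hg : g • y₀ = y) : g ∈ HW W := by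
  have h0 := span_eq_of_mem W hWk y₀ hy₀
  have h1 := span_eq_of_mem W hWk y hy
  -- g maps W onto W
  have hmap : W.map (Matrix.toLin' (g : Matrix (Fin m ⊕ Fin m) (Fin m ⊕ Fin m) F)) = W := by
    conv_lhs => rw [← h0]
    rw [Submodule.map_span, ← h1]
    congr 1
    ext v
    constructor
    · rintro ⟨_, ⟨i, rfl⟩, rfl⟩
      refine ⟨i, ?_⟩
      rw [← hg, smul_val, Matrix.toLin'_apply]
    · rintro ⟨i, rfl⟩
      refine ⟨y₀.1 i, ⟨i, rfl⟩, ?_⟩
      rw [← hg, smul_val, Matrix.toLin'_apply]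
  rw [mem_HW_iff]
  intro v
  constructor
  · intro hv
    rw [← hmap]
    exact ⟨v, hv, by rw [Matrix.toLin'_apply]⟩
  · intro hv
    rw [← hmap] at hv
    obtain ⟨w, hw, hwv⟩ := hv
    rw [Matrix.toLin'_apply] at hwv
    have := mulVec_injective g hwv
    rw [← this]
    exact hw

theorem stab_le_HW {k : ℕ} (W : Submodule F (Vm m F)) (hWk : finrank F W = k)
    (y₀ : Fr F m k) (hy₀ : ∀ i, y₀.1 i ∈ W) : MulAction.stabilizer (Gm m F) y₀ ≤ HW W := by
  intro g hg
  rw [MulAction.mem_stabilizer_iff] at hg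
  exact mem_HW_of_smul W hWk y₀ y₀ hy₀ hy₀ g hg

/-- frames inside `W` correspond to linearly independent tuples of `W` -/
def frameEquiv {k : ℕ} (W : Submodule F (Vm m F))
    (hW : ∀ u ∈ W, ∀ v ∈ W, Cfsg.sympForm m F u v = 0) :
    {y : Fr F m k // ∀ i, y.1 i ∈ W} ≃ {s : Fin k → W // LinearIndependent F s} where
  toFun y := ⟨fun i => ⟨y.1.1 i, y.2 i⟩, by
    apply LinearIndependent.of_comp W.subtype
    exact y.1.2.1⟩
  invFun s := ⟨⟨fun i => (s.1 i : Vm m F), s.2.map' W.subtype (Submodule.ker_subtype W),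
    fun i j => hW _ (s.1 i).2 _ (s.1 j).2⟩, fun i => (s.1 i).2⟩
  left_inv y := by
    apply Subtype.ext
    apply Subtype.ext
    rfl
  right_inv s := by
    apply Subtype.ext
    rfl

omit [Fintype F] in
theorem Fr_nonempty {k : ℕ} (W : Submodule F (Vm m F))
    (hWk : finrank F W = k) (hW : ∀ u ∈ W, ∀ v ∈ W, Cfsg.sympForm m F u v = 0) :
    Nonempty (Fr F m k) := by
  set b := Module.finBasisOfFinrankEq F W hWk with hb
  have hli : LinearIndependent F (fun i => (b i : Vm m F)) :=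
    b.linearIndependent.map' W.subtype (Submodule.ker_subtype W)
  exact ⟨⟨fun i => (b i : Vm m F), hli, fun i j => hW _ (b i).2 _ (b j).2⟩⟩

theorem card_HW {q : ℕ} (hF : Fintype.card F = q) {k : ℕ} (W : Submodule F (Vm m F))
    (hWk : finrank F W = k) (hW : ∀ u ∈ W, ∀ v ∈ W, Cfsg.sympForm m F u v = 0) :
    Nat.card (HW W) * Nat.card (Fr F m k) =
      (∏ i : Fin k, (q ^ k - q ^ (i : ℕ))) * Nat.card (Gm m F) := by
  classical
  -- a basis of W
  set b := Module.finBasisOfFinrankEq F W hWk with hb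
  have hli : LinearIndependent F (fun i => (b i : Vm m F)) :=
    b.linearIndependent.map' W.subtype (Submodule.ker_subtype W)
  set y₀ : Fr F m k := ⟨fun i => (b i : Vm m F), hli, fun i j => hW _ (b i).2 _ (b j).2⟩ with hy₀
  have hy₀W : ∀ i, y₀.1 i ∈ W := fun i => (b i).2
  set C := MulAction.stabilizer (Gm m F) y₀ with hC
  have hCH : C ≤ HW W := stab_le_HW W hWk y₀ hy₀W
  have h1 := card_G_eq y₀
  -- the orbit of y₀ under HW W
  have horb : MulAction.orbit (HW W) y₀ = {y : Fr F m k | ∀ i, y.1 i ∈ W} := by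
    ext y
    constructor
    · rintro ⟨h, rfl⟩ i
      have : (h • y₀).1 i = ((h : Gm m F) : Matrix _ _ F) *ᵥ y₀.1 i := rfl
      rw [this]
      exact ((mem_HW_iff W h.1).mp h.2 _).mp (hy₀W i)
    · intro hy
      obtain ⟨g, hg⟩ := exists_smul_eq y₀ y
      exact ⟨⟨g, mem_HW_of_smul W hWk y₀ y hy₀W hy g hg⟩, hg⟩
  have hstab : MulAction.stabilizer (HW W) y₀ = C.subgroupOf (HW W) := by
    ext h
    rw [MulAction.mem_stabilizer_iff, Subgroup.mem_subgroupOf, hC, MulAction.mem_stabilizer_iff]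
    rfl
  have h2 : Nat.card (HW W) = Nat.card (MulAction.orbit (HW W) y₀) *
      Nat.card (MulAction.stabilizer (HW W) y₀) := by
    rw [← Nat.card_congr (MulAction.orbitProdStabilizerEquivGroup (HW W) y₀), Nat.card_prod]
  have h3 : Nat.card (MulAction.stabilizer (HW W) y₀) = Nat.card C := by
    rw [hstab]
    exact Nat.card_congr (Subgroup.subgroupOfEquivOfLe hCH).toEquiv
  have h4 : Nat.card (MulAction.orbit (HW W) y₀) = ∏ i : Fin k, (q ^ k - q ^ (i : ℕ)) := by
    rw [horb]
    have := card_linearIndependent (K := F) (V := W) (k := k) (by rw [hWk])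
    rw [hWk, hF] at this
    rw [← this]
    exact Nat.card_congr (frameEquiv W hW)
  rw [h2, h3, h4, h1]
  ring

end Cfsg.Agent.Helper28.SpFrames
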