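import Mathlib
import Cfsg.Prelude.Def_GeometricClasses
import Cfsg.Agent.Helper2.SpPerfect
import Cfsg.Agent.Helper28.SympFrame
import Cfsg.Agent.Helper28.Transv2

set_option autoImplicit false

/-! Maximality of the stabiliser of a totally isotropic subspace in `Sp_2m(F)`. -/

namespace Cfsg.Agent.Helper28.SpMax

open Matrix Cfsg.Agent.Helper2.Sp

variable {F : Type*} [Field F] {m : ℕ}

local notation "V" => (Fin m ⊕ Fin m → F)
local notation "Sp" => Matrix.symplecticGroup (Fin m) F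

/-- the set of vectors all of whose transvections lie in `M` -/
def SS (M : Subgroup Sp) : Set V := {v | ∀ c : F, Tg v c ∈ M}

theorem SS_smul (M : Subgroup Sp) {v : V} (hv : v ∈ SS M) (a : F) : a • v ∈ SS M := by
  intro c
  rw [Tg_smul]
  exact hv _

theorem SS_map (M : Subgroup Sp) {v : V} (hv : v ∈ SS M) {g : Sp} (hg : g ∈ M) :
    (g : Matrix (Fin m ⊕ Fin m) (Fin m ⊕ Fin m) F) *ᵥ v ∈ SS M := by
  intro c
  rw [← conj_Tg]
  exact M.mul_mem (M.mul_mem hg (hv c)) (M.inv_mem hg)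

theorem SS_line (M : Subgroup Sp) {u v : V} (hu : u ∈ SS M) (hv : v ∈ SS M) (huv : om u v ≠ 0)
    (a b : F) : a • u + b • v ∈ SS M := by
  by_cases hb : b = 0
  · subst hb
    rw [zero_smul, add_zero]
    exact SS_smul M hu a
  · have h1 : v + (a / b) • u ∈ SS M := by
      have := SS_map M hv (hu ((a / b) / om u v))
      rw [Tg_mulVec, div_mul_cancel₀ _ huv] at this
      exact this
    have := SS_smul M h1 b
    rw [smul_add, smul_smul, mul_div_cancel₀ _ hb, add_comm] at this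
    exact this

/-- the key closure lemma -/
theorem SS_add (M : Subgroup Sp) (U : Submodule F V) (hU : ∀ u ∈ U, u ∈ SS M)
    (hUnd : ∀ y, y ∉ U → ∃ u' ∈ U, om y u' ≠ 0)
    {y : V} (hy : y ∈ SS M) (hyU : y ∉ U) (u : V) (hu : u ∈ U) : y + u ∈ SS M := by
  by_cases h0 : om y u ≠ 0
  · have := SS_line M hy (hU u hu) h0 1 1
    simpa using this
  · push Not at h0
    have hyu : y + u ∉ U := fun h => hyU (by simpa using U.sub_mem h hu)
    obtain ⟨a1, ha1, h1⟩ := hUnd y hyU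
    obtain ⟨b1, hb1, h2⟩ := hUnd (y + u) hyu
    obtain ⟨u', hu', h3, h4⟩ : ∃ u' ∈ U, om y u' ≠ 0 ∧ om (y + u) u' ≠ 0 := by
      by_cases h5 : om (y + u) a1 ≠ 0
      · exact ⟨a1, ha1, h1, h5⟩
      · push Not at h5
        by_cases h6 : om y b1 ≠ 0
        · exact ⟨b1, hb1, h6, h2⟩
        · push Not at h6
          refine ⟨a1 + b1, U.add_mem ha1 hb1, ?_, ?_⟩
          · rw [om_add_right, h6, add_zero]; exact h1
          · rw [om_add_right, h5, zero_add]; exact h2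
    have hyu' : y + u' ∈ SS M := by simpa using SS_line M hy (hU u' hu') h3 1 1
    have huu' : u - u' ∈ SS M := hU _ (U.sub_mem hu hu')
    have h7 : om (y + u') (u - u') ≠ 0 := by
      have : om (y + u') (u - u') = - om (y + u) u' := by
        rw [om_add_left, om_sub_right, om_sub_right, om_add_left, om_self, h0, om_swap u u']
        ring
      rw [this]
      exact neg_ne_zero.mpr h4
    have := SS_line M hyu' huu' h7 1 1
    rw [one_smul, one_smul] at this
    have e : y + u' + (u - u') = y + u := by abel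
    rw [e] at this
    exact this

theorem SS_add' (M : Subgroup Sp) (U : Submodule F V) (hU : ∀ u ∈ U, u ∈ SS M)
    (hUnd : ∀ y, y ∉ U → ∃ u' ∈ U, om y u' ≠ 0)
    {y : V} (hy : y ∈ SS M) (hyU : y ∉ U) (a : F) (u : V) (hu : u ∈ U) : a • y + u ∈ SS M := by
  by_cases ha : a = 0
  · subst ha
    rw [zero_smul, zero_add]
    exact hU u hu
  · have := SS_smul M (SS_add M U hU hUnd hy hyU (a⁻¹ • u) (U.smul_mem _ hu)) a
    rw [smul_add, smul_smul, mul_inv_cancel₀ ha, one_smul] at this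
    exact this

/-- the "Siegel-like" element `x ↦ x + ω(w,x) z + ω(z,x) w` for `ω(w,z) = 0`. -/
noncomputable def tau (w z : V) : Sp := Tg (w + z) 1 * Tg w (-1) * Tg z (-1)

theorem tau_mulVec (w z : V) (h0 : om w z = 0) (x : V) :
    ((tau w z : Sp) : Matrix (Fin m ⊕ Fin m) (Fin m ⊕ Fin m) F) *ᵥ x =
      x + om w x • z + om z x • w := by
  have h0' : om z w = 0 := by rw [om_swap w z, h0, neg_zero]
  unfold tau
  rw [mul_mulVec, mul_mulVec, Tg_mulVec z, Tg_mulVec w, Tg_mulVec (w + z)]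
  simp only [om_add_left, om_add_right, om_smul_right, om_self, h0, h0', mul_zero, add_zero,
    zero_add]
  module

theorem sp_max (W : Submodule F V) (hW : ∀ u ∈ W, ∀ v ∈ W, om u v = 0) (M : Subgroup Sp)
    (hP : ∀ g : Sp, (∀ w ∈ W, (g : Matrix (Fin m ⊕ Fin m) (Fin m ⊕ Fin m) F) *ᵥ w ∈ W) → g ∈ M)
    (g0 : Sp) (hg0 : g0 ∈ M) (w : V) (hw : w ∈ W)
    (hgw : (g0 : Matrix (Fin m ⊕ Fin m) (Fin m ⊕ Fin m) F) *ᵥ w ∉ W) : M = ⊤ := by
  classical
  set Wp : Submodule F V := (Cfsg.Agent.Helper28.SympFrame.sB m F).orthogonal W with hWp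
  have hWpmem : ∀ z, z ∈ Wp ↔ ∀ w ∈ W, om w z = 0 := fun z => Iff.rfl
  have hWpp : ∀ y : V, (∀ u ∈ Wp, om u y = 0) → y ∈ W := by
    intro y hy
    have h1 : y ∈ (Cfsg.Agent.Helper28.SympFrame.sB m F).orthogonal Wp := hy
    rw [hWp, LinearMap.BilinForm.orthogonal_orthogonal (Cfsg.Agent.Helper28.SympFrame.sB_nondeg m F)
      (Cfsg.Agent.Helper28.SympFrame.sB_isAlt m F).isRefl] at h1
    exact h1
  have hWWp : W ≤ Wp := fun v hv => (hWpmem v).mpr (fun w' hw' => hW w' hw' v hv)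
  -- (1)
  have hS1 : ∀ v ∈ Wp, v ∈ SS M := by
    intro v hv c
    apply hP
    intro w' hw'
    rw [Tg_mulVec, om_swap w' v, (hWpmem v).mp hv w' hw', neg_zero, mul_zero, zero_smul, add_zero]
    exact hw'
  have hnd1 : ∀ y, y ∉ Wp → ∃ u' ∈ W, om y u' ≠ 0 := by
    intro y hy
    by_contra hcon
    push Not at hcon
    apply hy
    rw [hWpmem]
    intro w' hw'
    rw [om_swap y w', hcon w' hw', neg_zero]
  -- (5)
  obtain ⟨x, hxS, hxW⟩ : ∃ x, x ∈ SS M ∧ x ∉ Wp := by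
    by_contra hcon
    push Not at hcon
    apply hgw
    apply hWpp
    intro u hu
    have h1 : ((g0⁻¹ : Sp) : Matrix (Fin m ⊕ Fin m) (Fin m ⊕ Fin m) F) *ᵥ u ∈ Wp :=
      hcon _ (SS_map M (hS1 u hu) (M.inv_mem hg0))
    have h2 : (g0 : Matrix (Fin m ⊕ Fin m) (Fin m ⊕ Fin m) F) *ᵥ
        (((g0⁻¹ : Sp) : Matrix (Fin m ⊕ Fin m) (Fin m ⊕ Fin m) F) *ᵥ u) = u := by
      rw [← mul_mulVec, mul_inv_cancel]
      exact one_mulVec u
    rw [← h2, om_g, om_swap w _, (hWpmem _).mp h1 w hw, neg_zero]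
  obtain ⟨w0, hw0, hxw0⟩ := hnd1 x hxW
  -- U2 = span x + Wp
  have hU2 : ∀ v ∈ Submodule.span F {x} ⊔ Wp, v ∈ SS M := by
    intro v hv
    obtain ⟨a, ha, u, hu, rfl⟩ := Submodule.mem_sup.mp hv
    obtain ⟨c, rfl⟩ := Submodule.mem_span_singleton.mp ha
    exact SS_add' M Wp hS1 (fun y hy => by
      obtain ⟨u', hu', h⟩ := hnd1 y hy
      exact ⟨u', hWWp hu', h⟩) hxS hxW c u hu
  have hnd2 : ∀ y, y ∉ Submodule.span F {x} ⊔ Wp → ∃ u' ∈ Submodule.span F {x} ⊔ Wp, om y u' ≠ 0 := by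
    intro y hy
    have : y ∉ Wp := fun h => hy (Submodule.mem_sup_right h)
    obtain ⟨u', hu', h⟩ := hnd1 y this
    exact ⟨u', Submodule.mem_sup_right (hWWp hu'), h⟩
  -- hyperplane w0^⊥ ⊆ SS
  have hw0x : om w0 x ≠ 0 := by
    rw [om_swap x w0]
    exact neg_ne_zero.mpr hxw0
  have hH0 : ∀ z, om w0 z = 0 → z ∈ SS M := by
    intro z hz
    by_cases hzU : z ∈ Submodule.span F {x} ⊔ Wp
    · exact hU2 z hzU
    have htau : tau w0 z ∈ M := by
      apply hP
      intro w' hw'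
      rw [tau_mulVec w0 z hz, hW w0 hw0 w' hw', zero_smul, add_zero]
      exact W.add_mem hw' (W.smul_mem _ hw0)
    have hy : (tau w0 z : Matrix (Fin m ⊕ Fin m) (Fin m ⊕ Fin m) F) *ᵥ x ∈ SS M := SS_map M hxS htau
    rw [tau_mulVec w0 z hz] at hy
    set y : V := x + om w0 x • z + om z x • w0 with hydef
    have hxU : x ∈ Submodule.span F {x} ⊔ Wp :=
      Submodule.mem_sup_left (Submodule.mem_span_singleton_self x)
    have hw0U : w0 ∈ Submodule.span F {x} ⊔ Wp := Submodule.mem_sup_right (hWWp hw0)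
    have hzy : z = (om w0 x)⁻¹ • y + (-((om w0 x)⁻¹ • x) - ((om w0 x)⁻¹ * om z x) • w0) := by
      rw [hydef]
      simp only [smul_add, smul_smul, inv_mul_cancel₀ hw0x, one_smul]
      abel
    have hyU : y ∉ Submodule.span F {x} ⊔ Wp := by
      intro h
      apply hzU
      rw [hzy]
      exact Submodule.add_mem _ (Submodule.smul_mem _ _ h)
        (Submodule.sub_mem _ (Submodule.neg_mem _ (Submodule.smul_mem _ _ hxU))
          (Submodule.smul_mem _ _ hw0U))
    rw [hzy]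
    exact SS_add' M _ hU2 hnd2 hy hyU _ _
      (Submodule.sub_mem _ (Submodule.neg_mem _ (Submodule.smul_mem _ _ hxU))
          (Submodule.smul_mem _ _ hw0U))
  -- everything
  set H0 : Submodule F V := LinearMap.ker ((Cfsg.Agent.Helper28.SympFrame.sB m F) w0) with hH0def
  have hH0mem : ∀ z, z ∈ H0 ↔ om w0 z = 0 := fun z => LinearMap.mem_ker
  have hall : ∀ v : V, v ∈ SS M := by
    intro v
    have hxH0 : x ∉ H0 := fun h => hw0x ((hH0mem x).mp h)
    have hv : v = (om w0 v / om w0 x) • x + (v - (om w0 v / om w0 x) • x) := by abel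
    rw [hv]
    refine SS_add' M H0 (fun z hz => hH0 z ((hH0mem z).mp hz)) ?_ hxS hxH0 _ _ ?_
    · intro y hy
      refine ⟨w0, (hH0mem w0).mpr (om_self w0), ?_⟩
      rw [om_swap w0 y]
      exact neg_ne_zero.mpr (fun h => hy ((hH0mem y).mpr h))
    · rw [hH0mem, om_sub_right, om_smul_right, div_mul_cancel₀ _ hw0x, sub_self]
  rw [eq_top_iff, ← TV_eq_top (Fin m) F]
  unfold TV
  rw [Subgroup.closure_le]
  rintro _ ⟨⟨v, c⟩, rfl⟩
  exact hall v c

/-- a `GL` element mapping `W` into itself stabilises it (general index type) -/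
theorem mem_stab_of_forall' {ι : Type} [Fintype ι] [DecidableEq ι] (W : Submodule F (ι → F))
    (t : Matrix.GeneralLinearGroup ι F)
    (h : ∀ x ∈ W, (t : Matrix ι ι F) *ᵥ x ∈ W) :
    t ∈ Cfsg.Geo.subspaceStabilizer W := by
  intro x
  exact Cfsg.Agent.Helper28.FB.mem_iff_mulVec_mem W (t : Matrix ι ι F)
    ((t⁻¹ : Matrix.GeneralLinearGroup ι F) : Matrix ι ι F)
    (by rw [← Units.val_mul, inv_mul_cancel]; rfl) h x

/-- the inclusion of the symplectic group into `GL` -/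
noncomputable def toGL : Sp →* Matrix.GeneralLinearGroup (Fin m ⊕ Fin m) F where
  toFun A := ⟨A.1, (A⁻¹).1, congrArg Subtype.val (mul_inv_cancel A),
    congrArg Subtype.val (inv_mul_cancel A)⟩
  map_one' := Units.ext rfl
  map_mul' _ _ := Units.ext rfl

theorem toGL_val (A : Sp) :
    ((toGL A : Matrix.GeneralLinearGroup (Fin m ⊕ Fin m) F) :
      Matrix (Fin m ⊕ Fin m) (Fin m ⊕ Fin m) F) = A.1 := rfl

theorem toGL_mem (A : Sp) : toGL A ∈ Cfsg.spGL m F := by
  intro u v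
  exact mem_symplectic_iff_om.mp A.2 u v

theorem exists_of_mem_spGL (g : Matrix.GeneralLinearGroup (Fin m ⊕ Fin m) F)
    (hg : g ∈ Cfsg.spGL m F) : ∃ A : Sp, toGL A = g := by
  refine ⟨⟨(g : Matrix (Fin m ⊕ Fin m) (Fin m ⊕ Fin m) F), mem_symplectic_iff_om.mpr ?_⟩, ?_⟩
  · intro u v
    exact hg u v
  · apply Units.ext
    rfl

/-- **Maximality of the stabiliser of a totally isotropic subspace in `Sp_2m(F)`** (any field). -/
theorem stab_maximal (W : Submodule F V) (hW0 : W ≠ ⊥)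
    (hW : Cfsg.Geo.IsTotallySingularFor (Cfsg.sympForm m F) W) :
    Cfsg.Geo.IsMaximalIn (Cfsg.spGL m F) (Cfsg.Geo.subspaceStabilizer W ⊓ Cfsg.spGL m F) := by
  classical
  have hW' : ∀ u ∈ W, ∀ v ∈ W, om u v = 0 := hW
  refine ⟨lt_of_le_of_ne inf_le_right ?_, ?_⟩
  · intro heq
    obtain ⟨w, hw, hw0⟩ := (Submodule.ne_bot_iff W).mp hW0
    obtain ⟨z, hz⟩ := exists_om_ne_zero hw0
    have hzW : z ∉ W := fun h => hz (hW' w hw z h)
    have hz0 : z ≠ 0 := by
      rintro rfl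
      exact hzW W.zero_mem
    obtain ⟨g, hg⟩ := exists_symplectic_mulVec_eq w z hw0 hz0
    have h1 : toGL g ∈ Cfsg.Geo.subspaceStabilizer W ⊓ Cfsg.spGL m F := by
      rw [heq]; exact toGL_mem g
    have h2 := (h1.1 w).mp hw
    apply hzW
    rw [← hg]
    exact h2
  · intro M hPM hMS
    by_cases hMP : M ≤ Cfsg.Geo.subspaceStabilizer W ⊓ Cfsg.spGL m F
    · left; exact le_antisymm hMP hPM
    right
    refine le_antisymm hMS ?_
    obtain ⟨g, hgM, hgP⟩ := SetLike.not_le_iff_exists.mp hMP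
    have hgW : g ∉ Cfsg.Geo.subspaceStabilizer W := fun h => hgP ⟨h, hMS hgM⟩
    obtain ⟨w, hw, hgw⟩ : ∃ w ∈ W, (g : Matrix (Fin m ⊕ Fin m) (Fin m ⊕ Fin m) F) *ᵥ w ∉ W := by
      by_contra hcon
      push Not at hcon
      exact hgW (mem_stab_of_forall' W g hcon)
    obtain ⟨g0, rfl⟩ := exists_of_mem_spGL g (hMS hgM)
    have htop : M.comap toGL = ⊤ := by
      refine sp_max W hW' (M.comap toGL) ?_ g0 hgM w hw hgw
      intro A hA
      apply hPM
      exact ⟨mem_stab_of_forall' W (toGL A) hA, toGL_mem A⟩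
    intro h hh
    obtain ⟨A, rfl⟩ := exists_of_mem_spGL h hh
    have : A ∈ M.comap toGL := by rw [htop]; trivial
    exact this

end Cfsg.Agent.Helper28.SpMax
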