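import Mathlib
import Cfsg.Agent.Helper21.S5949IRR

set_option autoImplicit false

/-! S5949 piece MINSUB: a nonzero invariant subspace whose dimension is the degree of an
irreducible factor of every annihilating polynomial. -/

namespace Cfsg.Agent.Helper28.S5949MINSUB

open Polynomial

variable {F V : Type*} [Field F] [AddCommGroup V] [Module F V]

theorem aeval_restrict_apply (f : Module.End F V) (K : Submodule F V)
    (hK : ∀ x ∈ K, f x ∈ K) (P : F[X]) (x : K) :
    ((aeval (f.restrict hK) P) x : V) = aeval f P (x : V) := by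
  induction P using Polynomial.induction_on generalizing x with
  | C a =>
    rw [aeval_C, aeval_C, Module.algebraMap_end_apply, Module.algebraMap_end_apply,
      Submodule.coe_smul]
  | add p q hp hq =>
    rw [map_add, map_add, LinearMap.add_apply, LinearMap.add_apply, Submodule.coe_add, hp, hq]
  | monomial n a ih =>
    have e : C a * X ^ (n + 1) = (C a * X ^ n) * X := by rw [pow_succ, mul_assoc]
    rw [e, map_mul (aeval (f.restrict hK)), map_mul (aeval f), aeval_X, aeval_X,
      Module.End.mul_apply, Module.End.mul_apply, ih, LinearMap.coe_restrict_apply]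

/-- the kernel of `μ(f)` is nonzero for a factor `μ` of the minimal polynomial -/
theorem ker_aeval_ne_bot [FiniteDimensional F V] (f : Module.End F V) (μ : F[X])
    (hμ : μ ∣ minpoly F f) (hdeg : 0 < μ.natDegree) :
    LinearMap.ker (aeval f μ) ≠ ⊥ := by
  intro hker
  obtain ⟨c, hc⟩ := hμ
  have hint : IsIntegral F f := Algebra.IsIntegral.isIntegral f
  have hm0 : minpoly F f ≠ 0 := minpoly.ne_zero hint
  have hc0 : c ≠ 0 := by
    rintro rfl
    rw [mul_zero] at hc
    exact hm0 hc
  have hμ0 : μ ≠ 0 := by
    rintro rfl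
    rw [zero_mul] at hc
    exact hm0 hc
  have hinj : Function.Injective (aeval f μ) := LinearMap.ker_eq_bot.mp hker
  have hcf : aeval f c = 0 := by
    apply LinearMap.ext
    intro v
    apply hinj
    rw [LinearMap.zero_apply, map_zero, ← Module.End.mul_apply, ← map_mul, ← hc, minpoly.aeval,
      LinearMap.zero_apply]
  have hdvd : minpoly F f ∣ c := minpoly.dvd F f hcf
  have h1 := Polynomial.natDegree_le_of_dvd hdvd hc0
  rw [hc, Polynomial.natDegree_mul hμ0 hc0] at h1
  omega

end Cfsg.Agent.Helper28.S5949MINSUB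

namespace Cfsg.Agent.S5949P

open Polynomial Cfsg.Agent.Helper28.S5949MINSUB

/-- MINSUB (uses IRR) -/
theorem exists_min_invariant {F V : Type*} [Field F] [AddCommGroup V] [Module F V]
    [FiniteDimensional F V] (f : Module.End F V) (hV : Nontrivial V) :
    ∃ S : Submodule F V, S ≠ ⊥ ∧ S.map f ≤ S ∧ ∃ μ : F[X], Irreducible μ ∧ μ.Monic ∧
      (∀ P : F[X], aeval f P = 0 → μ ∣ P) ∧ Module.finrank F S = μ.natDegree := by
  have hint : IsIntegral F f := Algebra.IsIntegral.isIntegral f
  have hnu : ¬ IsUnit (minpoly F f) := minpoly.not_isUnit F f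
  obtain ⟨μ, hmon, hirr, hdvd⟩ := Polynomial.exists_monic_irreducible_factor (minpoly F f) hnu
  have hdeg : 0 < μ.natDegree := Irreducible.natDegree_pos hirr
  set K : Submodule F V := LinearMap.ker (aeval f μ) with hKdef
  have hKne : K ≠ ⊥ := ker_aeval_ne_bot f μ hdvd hdeg
  have hK : ∀ x ∈ K, f x ∈ K := by
    intro x hx
    rw [hKdef, LinearMap.mem_ker] at hx ⊢
    have hcomm : aeval f μ * f = f * aeval f μ := by
      have : aeval f (μ * X) = aeval f (X * μ) := by rw [mul_comm]
      rwa [map_mul, map_mul, aeval_X] at this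
    rw [← Module.End.mul_apply, hcomm, Module.End.mul_apply, hx, map_zero]
  set fK : Module.End F K := f.restrict hK with hfK
  have hann : aeval fK μ = 0 := by
    apply LinearMap.ext
    intro x
    apply Subtype.ext
    rw [aeval_restrict_apply, LinearMap.zero_apply, Submodule.coe_zero]
    exact LinearMap.mem_ker.mp x.2
  obtain ⟨h1, -, h3, -⟩ := irr_module fK μ hirr hmon hann
  have hKpos : 0 < Module.finrank F K := by
    rw [Module.finrank_pos_iff]
    exact (Submodule.nontrivial_iff_ne_bot).mpr hKne
  have hle : 1 * μ.natDegree ≤ Module.finrank F K := by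
    rw [one_mul]
    exact Nat.le_of_dvd hKpos h1
  obtain ⟨W, hWinv, hWdim⟩ := h3 1 hle
  rw [one_mul] at hWdim
  refine ⟨W.map K.subtype, ?_, ?_, μ, hirr, hmon, ?_, ?_⟩
  · intro h0
    have h4 : Module.finrank F (W.map K.subtype) = Module.finrank F W :=
      (Submodule.equivMapOfInjective K.subtype K.injective_subtype W).finrank_eq.symm
    rw [h0, finrank_bot, hWdim] at h4
    omega
  · rintro _ ⟨_, ⟨x, hx, rfl⟩, rfl⟩
    refine ⟨fK x, hWinv ⟨x, hx, rfl⟩, ?_⟩
    rw [hfK, Submodule.subtype_apply, LinearMap.coe_restrict_apply, Submodule.subtype_apply]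
  · intro P hP
    exact dvd_trans hdvd (minpoly.dvd F f hP)
  · rw [← hWdim]
    exact (Submodule.equivMapOfInjective K.subtype K.injective_subtype W).finrank_eq.symm

end Cfsg.Agent.S5949P
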