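import Mathlib
import Cfsg.Agent.Helper28.S5949MINSUB

set_option autoImplicit false

/-! S5949 piece CHAIN: if every irreducible factor of an annihilating polynomial of `f` has degree
`i`, then invariant subspaces have dimension divisible by `i` and all multiples of `i` occur. -/

namespace Cfsg.Agent.Helper28.S5949CHAIN

open Polynomial Cfsg.Agent.Helper28.S5949MINSUB Cfsg.Agent.S5949P

universe u v

variable {F : Type u} [Field F]

theorem aeval_mapQ_apply {V : Type v} [AddCommGroup V] [Module F V] (f : Module.End F V)
    (S : Submodule F V) (hS : S ≤ S.comap f) (P : F[X]) (x : V) :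
    (aeval (S.mapQ S f hS) P) (S.mkQ x) = S.mkQ (aeval f P x) := by
  induction P using Polynomial.induction_on generalizing x with
  | C a =>
    rw [aeval_C, aeval_C, Module.algebraMap_end_apply, Module.algebraMap_end_apply, map_smul]
  | add p q hp hq =>
    rw [map_add, map_add, LinearMap.add_apply, LinearMap.add_apply, map_add, hp, hq]
  | monomial n a ih =>
    have e : C a * X ^ (n + 1) = (C a * X ^ n) * X := by rw [pow_succ, mul_assoc]
    rw [e, map_mul (aeval (S.mapQ S f hS)), map_mul (aeval f), aeval_X, aeval_X,
      Module.End.mul_apply, Module.End.mul_apply]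
    have h1 : (S.mapQ S f hS) (S.mkQ x) = S.mkQ (f x) := by
      simp [Submodule.mapQ_apply]
    rw [h1, ih]

theorem chain_aux (P : F[X]) (i : ℕ)
    (hdeg : ∀ μ : F[X], Irreducible μ → μ ∣ P → μ.natDegree = i) :
    ∀ (d : ℕ) (V : Type v) [AddCommGroup V] [Module F V] [FiniteDimensional F V]
      (f : Module.End F V), Module.finrank F V = d → aeval f P = 0 →
      (i ∣ Module.finrank F V ∧ ∀ k : ℕ, k * i ≤ Module.finrank F V →
        ∃ W : Submodule F V, W.map f ≤ W ∧ Module.finrank F W = k * i) := by
  intro d
  induction d using Nat.strong_induction_on with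
  | _ d ih =>
    intro V _ _ _ f hd hP
    rcases subsingleton_or_nontrivial V with hsub | hnt
    · have h0 : Module.finrank F V = 0 := Module.finrank_zero_of_subsingleton
      refine ⟨by rw [h0]; exact dvd_zero i, fun k hk => ⟨⊥, by simp, ?_⟩⟩
      rw [h0] at hk
      rw [finrank_bot]
      omega
    · obtain ⟨S, hSne, hSinv, μ, hirr, hmon, hμ, hSdim⟩ := exists_min_invariant f hnt
      have hi : Module.finrank F S = i := by rw [hSdim]; exact hdeg μ hirr (hμ P hP)
      have hSpos : 0 < Module.finrank F S := by
        rw [Module.finrank_pos_iff]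
        exact (Submodule.nontrivial_iff_ne_bot).mpr hSne
      have hipos : 0 < i := hi ▸ hSpos
      have hS' : S ≤ S.comap f := Submodule.map_le_iff_le_comap.mp hSinv
      set fq : Module.End F (V ⧸ S) := S.mapQ S f hS' with hfq
      have hPq : aeval fq P = 0 := by
        apply LinearMap.ext
        intro y
        obtain ⟨x, rfl⟩ := S.mkQ_surjective y
        rw [aeval_mapQ_apply, hP, LinearMap.zero_apply, map_zero, LinearMap.zero_apply]
      have hsum : Module.finrank F (V ⧸ S) + Module.finrank F S = Module.finrank F V :=
        Submodule.finrank_quotient_add_finrank S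
      have hlt : Module.finrank F (V ⧸ S) < d := by omega
      obtain ⟨hq1, hq2⟩ := ih _ hlt (V ⧸ S) fq rfl hPq
      refine ⟨?_, ?_⟩
      · rw [← hsum, hi]
        exact dvd_add hq1 (dvd_refl i)
      · intro k hk
        rcases Nat.eq_zero_or_pos k with rfl | hkpos
        · exact ⟨⊥, by simp, by rw [finrank_bot, zero_mul]⟩
        · obtain ⟨k', rfl⟩ : ∃ k', k = k' + 1 := ⟨k - 1, by omega⟩
          have hk' : k' * i ≤ Module.finrank F (V ⧸ S) := by
            rw [add_mul, one_mul] at hk
            omega
          obtain ⟨Wq, hWqinv, hWqdim⟩ := hq2 k' hk'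
          refine ⟨Wq.comap S.mkQ, ?_, ?_⟩
          · rintro _ ⟨x, hx, rfl⟩
            rw [SetLike.mem_coe, Submodule.mem_comap] at hx
            rw [Submodule.mem_comap]
            have h1 : fq (S.mkQ x) = S.mkQ (f x) := by
              simp [hfq, Submodule.mapQ_apply]
            rw [← h1]
            exact hWqinv ⟨_, hx, rfl⟩
          · set W : Submodule F V := Wq.comap S.mkQ with hW
            have hSW : S ≤ W := by
              intro x hx
              rw [hW, Submodule.mem_comap]
              have h0 : S.mkQ x = 0 := by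
                rw [Submodule.mkQ_apply]
                exact (Submodule.Quotient.mk_eq_zero S).mpr hx
              rw [h0]
              exact Wq.zero_mem
            have h2 := LinearMap.finrank_range_add_finrank_ker (S.mkQ.domRestrict W)
            rw [LinearMap.range_domRestrict, LinearMap.ker_domRestrict, Submodule.ker_mkQ,
              hW, Submodule.map_comap_eq_of_surjective S.mkQ_surjective, ← hW] at h2
            have h3 : Module.finrank F (S.comap W.subtype) = Module.finrank F S :=
              (Submodule.comapSubtypeEquivOfLe hSW).finrank_eq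
            rw [h3, hWqdim, hi] at h2
            rw [← h2, add_mul, one_mul]

end Cfsg.Agent.Helper28.S5949CHAIN

namespace Cfsg.Agent.S5949P

open Polynomial Cfsg.Agent.Helper28.S5949MINSUB Cfsg.Agent.Helper28.S5949CHAIN

/-- CHAIN (uses MINSUB) -/
theorem chain_invariant {F V : Type*} [Field F] [AddCommGroup V] [Module F V]
    [FiniteDimensional F V] (f : Module.End F V) (P : F[X]) (hP : aeval f P = 0) (i : ℕ)
    (hdeg : ∀ μ : F[X], Irreducible μ → μ ∣ P → μ.natDegree = i) :
    i ∣ Module.finrank F V ∧
    (∀ W : Submodule F V, W.map f ≤ W → i ∣ Module.finrank F W) ∧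
    (∀ k : ℕ, k * i ≤ Module.finrank F V →
      ∃ W : Submodule F V, W.map f ≤ W ∧ Module.finrank F W = k * i) := by
  obtain ⟨h1, h3⟩ := chain_aux P i hdeg _ V f rfl hP
  refine ⟨h1, ?_, h3⟩
  intro W hW
  have hW' : ∀ x ∈ W, f x ∈ W := fun x hx => hW ⟨x, hx, rfl⟩
  have hPW : aeval (f.restrict hW') P = 0 := by
    apply LinearMap.ext
    intro x
    apply Subtype.ext
    rw [aeval_restrict_apply, hP, LinearMap.zero_apply, LinearMap.zero_apply, Submodule.coe_zero]
  exact (chain_aux P i hdeg _ W (f.restrict hW') rfl hPW).1

end Cfsg.Agent.S5949P
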