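import Mathlib

set_option autoImplicit false

/-! Recognising the dihedral group of order `8`. -/

namespace Cfsg.Agent.Helper28.D4

variable {G : Type*} [Group G]

theorem equiv_of_gens (h8 : Nat.card G = 8) (a b : G) (ha4 : a ^ 4 = 1) (ha2 : a ^ 2 ≠ 1)
    (hb2 : b * b = 1) (hba : b * a * b⁻¹ = a⁻¹) (hb : ∀ k : ℕ, b ≠ a ^ k) :
    Nonempty (DihedralGroup 4 ≃* G) := by
  have hbinv : b⁻¹ = b := inv_eq_of_mul_eq_one_left hb2
  obtain ⟨e, he⟩ : ∃ e : ZMod 4 → G, ∀ i, e i = a ^ i.val := ⟨fun i => a ^ i.val, fun _ => rfl⟩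
  have he_add : ∀ i j, e (i + j) = e i * e j := by
    intro i j
    rw [he, he, he, ZMod.val_add, ← pow_eq_pow_mod _ ha4, pow_add]
  have he_comm : ∀ i j, e i * e j = e j * e i := by
    intro i j
    rw [← he_add, ← he_add, add_comm]
  have he_sub : ∀ i j, e (j - i) = (e i)⁻¹ * e j := by
    intro i j
    have h1 := he_add (j - i) i
    rw [sub_add_cancel] at h1
    rw [h1, he_comm (j - i) i, inv_mul_cancel_left]
  have he_conj : ∀ i, b * e i * b⁻¹ = (e i)⁻¹ := by
    intro i
    rw [he, ← conj_pow, hba, inv_pow]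
  have he_b : ∀ i, e i * b = b * (e i)⁻¹ := by
    intro i
    have h1 := he_conj i
    rw [hbinv] at h1
    calc e i * b = b * (b * e i * b) := by
          rw [← mul_assoc, ← mul_assoc, hb2, one_mul]
      _ = b * (e i)⁻¹ := by rw [h1]
  let f : DihedralGroup 4 → G := fun x =>
    match x with
    | DihedralGroup.r i => e i
    | DihedralGroup.sr i => b * e i
  have hfr : ∀ i, f (DihedralGroup.r i) = e i := fun _ => rfl
  have hfsr : ∀ i, f (DihedralGroup.sr i) = b * e i := fun _ => rfl
  have hmul : ∀ x y, f (x * y) = f x * f y := by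
    intro x y
    rcases x with i | i <;> rcases y with j | j
    · rw [DihedralGroup.r_mul_r, hfr, hfr, hfr, he_add]
    · rw [DihedralGroup.r_mul_sr, hfr, hfsr, hfsr, he_sub, ← mul_assoc, ← mul_assoc, he_b]
    · rw [DihedralGroup.sr_mul_r, hfr, hfsr, hfsr, he_add, mul_assoc]
    · rw [DihedralGroup.sr_mul_sr, hfr, hfsr, hfsr, he_sub]
      calc (e i)⁻¹ * e j = b * e i * b⁻¹ * e j := by rw [he_conj]
        _ = b * e i * (b * e j) := by rw [hbinv]; simp only [mul_assoc]
  let F : DihedralGroup 4 →* G := MonoidHom.mk' f hmul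
  have hF : ∀ x, F x = f x := fun _ => rfl
  have hker : ∀ x, F x = 1 → x = 1 := by
    intro x hx
    rw [hF] at hx
    rcases x with i | i
    · rw [hfr, he] at hx
      have hi : i.val < 4 := ZMod.val_lt i
      have hcases : i.val = 0 ∨ i.val = 1 ∨ i.val = 2 ∨ i.val = 3 := by omega
      rcases hcases with h | h | h | h
      · rw [DihedralGroup.one_def]
        congr 1
        exact (ZMod.val_eq_zero i).mp h
      · exfalso
        rw [h, pow_one] at hx
        apply ha2
        rw [hx, one_pow]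
      · exfalso
        rw [h] at hx
        exact ha2 hx
      · exfalso
        rw [h] at hx
        have : a = 1 := by
          calc a = (a ^ 3)⁻¹ * a ^ 4 := by
                rw [pow_succ a 3, inv_mul_cancel_left]
            _ = 1 := by rw [ha4, hx, inv_one, one_mul]
        apply ha2
        rw [this, one_pow]
    · exfalso
      rw [hfsr, he] at hx
      have hi : i.val < 4 := ZMod.val_lt i
      apply hb (4 - i.val)
      have h1 : a ^ (4 - i.val) * a ^ i.val = 1 := by
        rw [← pow_add, Nat.sub_add_cancel hi.le, ha4]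
      calc b = b * a ^ i.val * (a ^ i.val)⁻¹ := by rw [mul_inv_cancel_right]
        _ = (a ^ i.val)⁻¹ := by rw [hx, one_mul]
        _ = a ^ (4 - i.val) := by
            exact inv_eq_of_mul_eq_one_left h1
  have hinj : Function.Injective F := by
    rw [injective_iff_map_eq_one]
    exact hker
  have : Finite G := Nat.finite_of_card_ne_zero (by rw [h8]; norm_num)
  have hbij : Function.Bijective F := by
    apply hinj.bijective_of_nat_card_le
    rw [h8, DihedralGroup.nat_card]
  exact ⟨MulEquiv.ofBijective F hbij⟩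

theorem equiv_of_conj (h8 : Nat.card G = 8) (x d : G) (hx : x * x = 1)
    (hxy : d * x * d⁻¹ ≠ x) (hcomm : x * (d * x * d⁻¹) = (d * x * d⁻¹) * x)
    (hd : d * d = 1 ∨ d * d = x * (d * x * d⁻¹)) : Nonempty (DihedralGroup 4 ≃* G) := by
  have hxinv : x⁻¹ = x := inv_eq_of_mul_eq_one_left hx
  obtain ⟨y, hy⟩ : ∃ y, y = d * x * d⁻¹ := ⟨_, rfl⟩
  rw [← hy] at hxy hcomm hd
  have hyy : y * y = 1 := by
    rw [hy]
    calc d * x * d⁻¹ * (d * x * d⁻¹) = d * (x * x) * d⁻¹ := by group
      _ = 1 := by rw [hx]; group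
  obtain ⟨t, ht⟩ : ∃ t, t = x * y := ⟨_, rfl⟩
  rw [← ht] at hd
  have ht1 : t ≠ 1 := by
    intro h
    apply hxy
    rw [ht] at h
    have : y = x⁻¹ := (inv_eq_of_mul_eq_one_right h).symm
    rw [this, hxinv]
  have htt : t * t = 1 := by
    rw [ht]
    calc x * y * (x * y) = x * (y * x) * y := by group
      _ = x * (x * y) * y := by rw [hcomm]
      _ = (x * x) * (y * y) := by group
      _ = 1 := by rw [hx, hyy, one_mul]
  have hdx : d * x = y * d := by rw [hy]; group
  rcases hd with hd | hd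
  · -- `d² = 1`: `a = d x`
    have hdinv : d⁻¹ = d := inv_eq_of_mul_eq_one_left hd
    have ha2' : (d * x) ^ 2 = t := by
      rw [pow_two, ht]
      calc d * x * (d * x) = (d * x) * d * x := by group
        _ = y * (d * d) * x := by rw [hdx]; group
        _ = y * x := by rw [hd, mul_one]
        _ = x * y := hcomm.symm
    apply equiv_of_gens h8 (d * x) x
    · have : (d * x) ^ 4 = (d * x) ^ 2 * (d * x) ^ 2 := by rw [← pow_add]
      rw [this, ha2', htt]
    · rw [ha2']; exact ht1
    · exact hx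
    · rw [mul_inv_rev, hxinv, hdinv, mul_assoc, mul_assoc, hx, mul_one]
    · intro k hk
      apply hxy
      have hc : x * (d * x) = (d * x) * x := by
        have h1 : Commute ((d * x) ^ k) (d * x) := (Commute.refl (d * x)).pow_left k
        rw [← hk] at h1
        exact h1.eq
      have hc2 : x * d = d * x := by
        have := congrArg (fun z => z * x) hc
        simp only [mul_assoc, hx, mul_one] at this
        exact this
      rw [hy, ← hc2, mul_inv_cancel_right]
  · -- `d² = t`: `a = d`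
    apply equiv_of_gens h8 d x
    · have : d ^ 4 = (d * d) * (d * d) := by
        rw [show (4 : ℕ) = 2 + 2 from rfl, pow_add, pow_two]
      rw [this, hd, htt]
    · rw [pow_two, hd]; exact ht1
    · exact hx
    · rw [hxinv]
      apply eq_inv_of_mul_eq_one_left
      calc x * d * x * d = x * (d * x) * d := by group
        _ = x * (y * d) * d := by rw [hdx]
        _ = (x * y) * (d * d) := by group
        _ = 1 := by rw [hd, ← ht, htt]
    · intro k hk
      apply hxy
      have h1 : Commute (d ^ k) d := (Commute.refl d).pow_left k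
      rw [← hk] at h1
      rw [hy, ← h1.eq, mul_inv_cancel_right]

/-- abstract form of the argument for `PGO / Inn ≅ D₈` -/
theorem equiv_of_data {O' G' A : Type*} [Group O'] [Group G'] [Group A] (N : Subgroup A) [N.Normal]
    (h8 : Nat.card (A ⧸ N) = 8) (i : O' →* G') (c : G' →* A) (Om S : Subgroup O')
    (hidx : (Om.subgroupOf S).index = 2)
    (h1 : ∀ s ∈ Om, c (i s) ∈ N) (h2 : ∀ s, s ∉ Om → c (i s) ∉ N)
    (rx ry : O') (hrx : rx * rx = 1) (hry : ry * ry = 1) (h : G')
    (hconj : h * i rx * h⁻¹ = i ry) (hcomm : rx * ry * rx * ry ∈ Om) (hnot : ry * rx ∉ Om)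
    (hS : ry * rx ∈ S) (hsq : ∃ s' ∈ S, c (h * h) = c (i s')) :
    Nonempty (DihedralGroup 4 ≃* A ⧸ N) := by
  obtain ⟨π, hπ⟩ : ∃ π : G' →* A ⧸ N, ∀ g, π g = (QuotientGroup.mk (c g) : A ⧸ N) :=
    ⟨(QuotientGroup.mk' N).comp c, fun _ => rfl⟩
  have hπ1 : ∀ s ∈ Om, π (i s) = 1 := by
    intro s hs
    rw [hπ, QuotientGroup.eq_one_iff]
    exact h1 s hs
  have hπ2 : ∀ s, s ∉ Om → π (i s) ≠ 1 := by
    intro s hs hc
    rw [hπ, QuotientGroup.eq_one_iff] at hc
    exact h2 s hs hc
  obtain ⟨x, hx⟩ : ∃ x, x = π (i rx) := ⟨_, rfl⟩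
  obtain ⟨y, hy⟩ : ∃ y, y = π (i ry) := ⟨_, rfl⟩
  obtain ⟨d, hd⟩ : ∃ d, d = π h := ⟨_, rfl⟩
  have hdconj : d * x * d⁻¹ = y := by
    rw [hd, hx, hy, ← hconj, map_mul π, map_mul π, map_inv π]
  have hxx : x * x = 1 := by
    rw [hx, ← map_mul π, ← map_mul i, hrx, map_one, map_one]
  have hyy : y * y = 1 := by
    rw [hy, ← map_mul π, ← map_mul i, hry, map_one, map_one]
  have hxinv : x⁻¹ = x := inv_eq_of_mul_eq_one_left hxx
  have hyinv : y⁻¹ = y := inv_eq_of_mul_eq_one_left hyy
  have hyx : π (i (ry * rx)) = y * x := by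
    rw [map_mul i, map_mul π, hx, hy]
  have hne : y ≠ x := by
    intro hc
    have h1' : y * x = 1 := by rw [hc, hxx]
    rw [← hyx] at h1'
    exact hπ2 _ hnot h1'
  have hxyxy : x * y * x * y = 1 := by
    have := hπ1 _ hcomm
    rw [map_mul i, map_mul i, map_mul i, map_mul π, map_mul π, map_mul π, ← hx, ← hy] at this
    exact this
  have hcomm' : x * y = y * x := by
    have h3 : (x * y) * (x * y) = 1 := by
      rw [← hxyxy, mul_assoc, mul_assoc, mul_assoc]
    calc x * y = (x * y)⁻¹ := (inv_eq_of_mul_eq_one_left h3).symm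
      _ = y * x := by rw [_root_.mul_inv_rev, hxinv, hyinv]
  have hdd : d * d = 1 ∨ d * d = x * y := by
    obtain ⟨s', hs'S, hs'⟩ := hsq
    have hdd' : d * d = π (i s') := by
      rw [hd, ← map_mul π, hπ, hπ, hs']
    by_cases hsΩ : s' ∈ Om
    · left
      rw [hdd', hπ1 s' hsΩ]
    · right
      have hmem := (Subgroup.mul_mem_iff_of_index_two hidx
        (a := (⟨s', hs'S⟩ : ↥S)) (b := (⟨ry * rx, hS⟩ : ↥S))).2
        (by
          rw [Subgroup.mem_subgroupOf, Subgroup.mem_subgroupOf]
          exact ⟨fun hc => absurd hc hsΩ, fun hc => absurd hc hnot⟩)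
      rw [Subgroup.mem_subgroupOf] at hmem
      have h1' : π (i (s' * (ry * rx))) = 1 := hπ1 _ hmem
      rw [map_mul i, map_mul π, ← hdd', hyx] at h1'
      calc d * d = d * d * (y * x) * (y * x)⁻¹ := by group
        _ = (y * x)⁻¹ := by rw [h1', one_mul]
        _ = x * y := by rw [_root_.mul_inv_rev, hxinv, hyinv]
  exact equiv_of_conj h8 x d hxx (by rw [hdconj]; exact hne) (by rw [hdconj]; exact hcomm')
    (by rw [hdconj]; exact hdd)

end Cfsg.Agent.Helper28.D4
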