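import Mathlib
import Cfsg.Prelude.Def_LieTypeDatum
import Cfsg.Agent.Helper28.OmegaPerfect

set_option autoImplicit false
set_option linter.unusedSectionVars false

/-! The image of the special orthogonal group in `Aut(PΩ)`, odd characteristic. -/

namespace Cfsg.Agent.Helper28.PA

open Matrix Module Cfsg.Agent.Helper28.Spin Cfsg.Agent.Helper28.IsoTransport
open scoped commutatorElement

variable {F : Type*} [Field F] [Fintype F] {ι : Type} [Fintype ι] [DecidableEq ι]
  (Q : QuadraticForm F (ι → F))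

instance Omega_normal' : (Cfsg.Omega F ⇑Q).Normal := OP.Omega_normal Q

/-- conjugation by an isometry as an automorphism of `PΩ` -/
noncomputable def cAut : ↥(Cfsg.isometryGroup F ⇑Q) →* MulAut (Cfsg.POmega F ⇑Q) :=
  MonoidHom.mk' (fun g => QuotientGroup.congr (Subgroup.center ↥(Cfsg.Omega F ⇑Q))
      (Subgroup.center ↥(Cfsg.Omega F ⇑Q)) (MulAut.conjNormal g)
      (Subgroup.characteristic_iff_map_eq.1 inferInstance _))
    (by
      intro g h
      ext x
      induction x using QuotientGroup.induction_on with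
      | H s =>
        simp only [QuotientGroup.congr_mk, MulAut.mul_apply, map_mul]
        rfl)

theorem cAut_mk (g : ↥(Cfsg.isometryGroup F ⇑Q)) (s : ↥(Cfsg.Omega F ⇑Q)) :
    cAut Q g (QuotientGroup.mk s) = QuotientGroup.mk (MulAut.conjNormal g s) := rfl

theorem map_refl (M : Matrix ι ι F) : M.map (RingEquiv.refl F) = M := by
  ext i j
  simp

theorem conjNormal_val (g : ↥(Cfsg.isometryGroup F ⇑Q)) (s : ↥(Cfsg.Omega F ⇑Q)) :
    ((((MulAut.conjNormal g s : ↥(Cfsg.Omega F ⇑Q)) : ↥(Cfsg.isometryGroup F ⇑Q)) : GL ι F) :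
      Matrix ι ι F) =
      ((g : GL ι F) : Matrix ι ι F) * (((s : ↥(Cfsg.isometryGroup F ⇑Q)) : GL ι F) : Matrix ι ι F) *
        (((g : GL ι F)⁻¹ : GL ι F) : Matrix ι ι F) := by
  rw [MulAut.conjNormal_apply]
  rfl

theorem induced_iff (g : GL ι F) (hg : g ∈ Cfsg.isometryGroup F ⇑Q)
    (β : Cfsg.POmega F ⇑Q ≃* Cfsg.POmega F ⇑Q) :
    Cfsg.IsInducedBySemilinearPOmega (⇑Q) g (RingEquiv.refl F) β ↔ β = cAut Q ⟨g, hg⟩ := by
  constructor
  · intro h
    ext x
    induction x using QuotientGroup.induction_on with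
    | H s =>
      rw [cAut_mk]
      apply h s (MulAut.conjNormal (⟨g, hg⟩ : ↥(Cfsg.isometryGroup F ⇑Q)) s)
      rw [map_refl, conjNormal_val]
  · rintro rfl s s' hs
    rw [cAut_mk]
    congr 1
    apply Subtype.ext
    apply Subtype.ext
    apply Units.ext
    rw [hs, map_refl, conjNormal_val]

/-- the isometries of determinant one -/
noncomputable def SO' : Subgroup ↥(Cfsg.isometryGroup F ⇑Q) := (detHom Q).ker

theorem psoAut_eq : Cfsg.psoAut F ⇑Q = (SO' Q).map (cAut Q) := by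
  unfold Cfsg.psoAut Cfsg.autSubgroupOf
  have : {β : MulAut (Cfsg.POmega F ⇑Q) | Cfsg.IsSpecialIsometryInducedAutPOmega ⇑Q β} =
      (((SO' Q).map (cAut Q) : Subgroup (MulAut (Cfsg.POmega F ⇑Q))) : Set _) := by
    ext β
    constructor
    · rintro ⟨g, hg, hβ⟩
      have hgO : g ∈ Cfsg.isometryGroup F ⇑Q := hg.1
      refine ⟨⟨g, hgO⟩, ?_, ((induced_iff Q g hgO β).1 hβ).symm⟩
      show (⟨g, hgO⟩ : ↥(Cfsg.isometryGroup F ⇑Q)) ∈ (detHom Q).ker
      exact hg.2
    · rintro ⟨g, hg, rfl⟩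
      exact ⟨g.1, ⟨g.2, hg⟩, (induced_iff Q g.1 g.2 _).2 rfl⟩
  rw [this, Subgroup.closure_eq]

theorem cAut_coe (s : ↥(Cfsg.Omega F ⇑Q)) :
    cAut Q (s : ↥(Cfsg.isometryGroup F ⇑Q)) = MulAut.conj (QuotientGroup.mk s : Cfsg.POmega F ⇑Q) := by
  ext y
  induction y using QuotientGroup.induction_on with
  | H t =>
    rw [cAut_mk, MulAut.conj_apply, ← QuotientGroup.mk_inv, ← QuotientGroup.mk_mul,
      ← QuotientGroup.mk_mul]
    congr 1

theorem Inn_eq : Cfsg.Inn (Cfsg.POmega F ⇑Q) = (Cfsg.Omega F ⇑Q).map (cAut Q) := by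
  ext β
  constructor
  · rintro ⟨x, rfl⟩
    induction x using QuotientGroup.induction_on with
    | H s => exact ⟨s, s.2, cAut_coe Q s⟩
  · rintro ⟨g, hg, rfl⟩
    exact ⟨QuotientGroup.mk (⟨g, hg⟩ : ↥(Cfsg.Omega F ⇑Q)), (cAut_coe Q ⟨g, hg⟩).symm⟩

theorem comm_mul_central {G : Type*} [Group G] (s y z : G) (hz : z * y = y * z) :
    ⁅s * z, y⁆ = ⁅s, y⁆ := by
  have h1 : z * y * z⁻¹ = y := by rw [hz, mul_inv_cancel_right]
  rw [commutatorElement_def, commutatorElement_def]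
  calc s * z * y * (s * z)⁻¹ * y⁻¹ = s * (z * y * z⁻¹) * s⁻¹ * y⁻¹ := by group
    _ = s * y * s⁻¹ * y⁻¹ := by rw [h1]

theorem comm_mul_central' {G : Type*} [Group G] (x t z : G) (hz : z * x = x * z) :
    ⁅x, t * z⁆ = ⁅x, t⁆ := by
  have h1 : z * x⁻¹ * z⁻¹ = x⁻¹ := by
    have : x⁻¹ * z = z * x⁻¹ := by
      rw [inv_mul_eq_iff_eq_mul, ← mul_assoc, ← hz, mul_assoc, mul_inv_cancel, mul_one]
    rw [← this, mul_inv_cancel_right]
  rw [commutatorElement_def, commutatorElement_def]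
  calc x * (t * z) * x⁻¹ * (t * z)⁻¹ = x * t * (z * x⁻¹ * z⁻¹) * t⁻¹ := by group
    _ = x * t * x⁻¹ * t⁻¹ := by rw [h1]

/-- the kernel of the conjugation action -/
theorem ker_cases (hQ : (QuadraticMap.polarBilin Q).Nondegenerate) (h2 : (2 : F) ≠ 0)
    (h6 : 6 ≤ Fintype.card ι) (g : ↥(Cfsg.isometryGroup F ⇑Q)) (hg : g ∈ (cAut Q).ker) :
    ((g : GL ι F) : Matrix ι ι F) = 1 ∨ ((g : GL ι F) : Matrix ι ι F) = -1 := by
  rw [MonoidHom.mem_ker] at hg
  -- `g s g⁻¹ = s z` with `z` central in `Ω`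
  have hz : ∀ s ∈ Cfsg.Omega F ⇑Q, ∀ y ∈ Cfsg.Omega F ⇑Q,
      (s⁻¹ * (g * s * g⁻¹)) * y = y * (s⁻¹ * (g * s * g⁻¹)) := by
    intro s hs y hy
    have h1 : (QuotientGroup.mk (⟨s, hs⟩ : ↥(Cfsg.Omega F ⇑Q)) : Cfsg.POmega F ⇑Q) =
        QuotientGroup.mk (MulAut.conjNormal g (⟨s, hs⟩ : ↥(Cfsg.Omega F ⇑Q))) := by
      rw [← cAut_mk, hg]
      rfl
    rw [QuotientGroup.eq, Subgroup.mem_center_iff] at h1
    have h3 := h1 ⟨y, hy⟩
    have h4 := congrArg (fun z : ↥(Cfsg.Omega F ⇑Q) => (z : ↥(Cfsg.isometryGroup F ⇑Q))) h3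
    simp only [Subgroup.coe_mul, Subgroup.coe_inv, MulAut.conjNormal_apply] at h4
    exact h4.symm
  have hcent : OP.P Q ≤ Subgroup.centralizer {g} := by
    unfold OP.P
    rw [Subgroup.commutator_le]
    intro s hs t ht
    rw [Subgroup.mem_centralizer_iff]
    intro x hx
    rw [Set.mem_singleton_iff] at hx
    subst hx
    have hconj : x * ⁅s, t⁆ * x⁻¹ = ⁅s, t⁆ := by
      have e1 : x * ⁅s, t⁆ * x⁻¹ = ⁅x * s * x⁻¹, x * t * x⁻¹⁆ := by
        rw [commutatorElement_def, commutatorElement_def]; group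
      have es : x * s * x⁻¹ = s * (s⁻¹ * (x * s * x⁻¹)) := by group
      have et : x * t * x⁻¹ = t * (t⁻¹ * (x * t * x⁻¹)) := by group
      have htΩ : x * t * x⁻¹ ∈ Cfsg.Omega F ⇑Q := (OP.Omega_normal Q).conj_mem t ht x
      rw [e1, es, comm_mul_central _ _ _ (hz s hs _ htΩ), et,
        comm_mul_central' _ _ _ (hz t ht s hs)]
    calc x * ⁅s, t⁆ = (x * ⁅s, t⁆ * x⁻¹) * x := by group
      _ = ⁅s, t⁆ * x := by rw [hconj]
  apply OC.centralizer_Omega Q hQ h6
  intro y hy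
  have := hcent (OP.Omega_le_P Q hQ h2 (by omega) hy)
  rw [Subgroup.mem_centralizer_iff] at this
  exact this g rfl

/-- `-1` as an isometry -/
noncomputable def negOne : ↥(Cfsg.isometryGroup F ⇑Q) :=
  ⟨-1, by
    rw [mem_isometryGroup_iff]
    intro u
    have : (((-1 : GL ι F) : Matrix ι ι F)) *ᵥ u = -u := by
      simp [Matrix.neg_mulVec]
    rw [this, QuadraticMap.map_neg]⟩

theorem negOne_val : ((negOne Q : GL ι F) : Matrix ι ι F) = -1 := by
  show (((-1 : GL ι F) : Matrix ι ι F)) = -1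
  simp

theorem negOne_mem_ker : negOne Q ∈ (cAut Q).ker := by
  rw [MonoidHom.mem_ker]
  ext x
  induction x using QuotientGroup.induction_on with
  | H s =>
    rw [cAut_mk]
    show (QuotientGroup.mk (MulAut.conjNormal (negOne Q) s) : Cfsg.POmega F ⇑Q) = QuotientGroup.mk s
    congr 1
    apply Subtype.ext
    apply Subtype.ext
    apply Units.ext
    rw [conjNormal_val, negOne_val]
    have : (((negOne Q : GL ι F)⁻¹ : GL ι F) : Matrix ι ι F) = -1 := by
      have h1 : (negOne Q : GL ι F)⁻¹ = (negOne Q : GL ι F) := by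
        rw [inv_eq_iff_eq_inv, eq_comm, inv_eq_iff_mul_eq_one]
        apply Units.ext
        rw [Units.val_mul, negOne_val]
        simp
      rw [h1, negOne_val]
    rw [this]
    simp

/-- `-1` as a product of reflections in an orthogonal basis -/
theorem exists_neg_one_list (hQ : (QuadraticMap.polarBilin Q).Nondegenerate) (h2 : (2 : F) ≠ 0)
    (hN : 1 ≤ Fintype.card ι) :
    ∃ L : List (NS Q), L.length = Fintype.card ι ∧ prodO Q L = negOne Q := by
  obtain ⟨m, hm⟩ : ∃ m, Fintype.card ι = m + 1 := ⟨Fintype.card ι - 1, by omega⟩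
  obtain ⟨x, w, hx, hw, horth, hxw⟩ := TR.exists_orth_norm' Q h2 hQ 1 one_ne_zero m hm
  have hns : ∀ i, Q ((Fin.cons x w : Fin (m + 1) → ι → F) i) ≠ 0 := by
    intro i
    refine Fin.cases ?_ (fun i' => ?_) i
    · simpa using hx
    · simp only [Fin.cons_succ]
      rw [hw]; exact one_ne_zero
  obtain ⟨L, hLlen, hLval, -⟩ := TR.exists_list_neg_one Q h2 m hm _ hns
    (TR.orth_cons Q x w horth hxw)
  refine ⟨L, by rw [hLlen, hm], ?_⟩
  apply Subtype.ext
  apply Units.ext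
  rw [hLval, negOne_val]

theorem negOne_mul_self : negOne Q * negOne Q = 1 := by
  apply Subtype.ext
  apply Units.ext
  show ((negOne Q : GL ι F) : Matrix ι ι F) * ((negOne Q : GL ι F) : Matrix ι ι F) = 1
  rw [negOne_val]
  simp

theorem SO'_index (hQ : (QuadraticMap.polarBilin Q).Nondegenerate) (h2 : (2 : F) ≠ 0)
    (hN : 2 ≤ Fintype.card ι) : (SO' Q).index = 2 := by
  obtain ⟨a, ha⟩ := exists_norm_eq Q h2 hQ hN 1
  have ha0 : Q a ≠ 0 := by rw [ha]; exact one_ne_zero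
  rw [Subgroup.index_eq_two_iff]
  refine ⟨reflO Q a ha0, fun b => ?_⟩
  obtain ⟨L, rfl⟩ := CDG.cd_list Q h2 hQ b
  have hdet : ∀ L' : List (NS Q), prodO Q L' ∈ SO' Q ↔ Even L'.length := by
    intro L'
    unfold SO'
    rw [MonoidHom.mem_ker, detHom_prodO]
    constructor
    · intro h
      by_contra hodd
      rw [Nat.not_even_iff_odd] at hodd
      rw [hodd.neg_one_pow] at h
      exact neg_one_units_ne h2 h
    · intro h
      exact h.neg_one_pow
  have hmul : prodO Q L * reflO Q a ha0 = prodO Q (L ++ [⟨a, ha0⟩]) := by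
    rw [TR.prodO_append', prodO_cons, prodO_nil, mul_one]
  rw [hmul, hdet, hdet, List.length_append, List.length_singleton]
  by_cases he : Even L.length
  · right
    exact ⟨he, fun h => (Nat.not_even_iff_odd.2 he.add_one) h⟩
  · left
    exact ⟨(Nat.not_even_iff_odd.1 he).add_one, he⟩

/-- the index of the inner automorphisms in the image of the special orthogonal group -/
theorem relIndex_Inn_psoAut (hQ : (QuadraticMap.polarBilin Q).Nondegenerate) (h2 : (2 : F) ≠ 0)
    (h6 : 6 ≤ Fintype.card ι) (heven : Even (Fintype.card ι)) :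
    ((∃ g : ↥(Cfsg.isometryGroup F ⇑Q), g ∈ Cfsg.Omega F ⇑Q ∧
        ((g : GL ι F) : Matrix ι ι F) = -1) →
      (Cfsg.Inn (Cfsg.POmega F ⇑Q)).relIndex (Cfsg.psoAut F ⇑Q) = 2) ∧
    ((¬ ∃ g : ↥(Cfsg.isometryGroup F ⇑Q), g ∈ Cfsg.Omega F ⇑Q ∧
        ((g : GL ι F) : Matrix ι ι F) = -1) →
      (Cfsg.Inn (Cfsg.POmega F ⇑Q)).relIndex (Cfsg.psoAut F ⇑Q) = 1) := by
  rw [Inn_eq, psoAut_eq, Subgroup.relIndex_map_map]
  have hΩSO : Cfsg.Omega F ⇑Q ≤ SO' Q := by
    intro g hg
    exact MonoidHom.mem_ker.2 (hom_eq_one_of_mem_Omega Q (detHom Q) hg)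
  have hker_le_SO : (cAut Q).ker ≤ SO' Q := by
    intro g hg
    unfold SO'
    rw [MonoidHom.mem_ker]
    apply Units.ext
    rw [detHom_val]
    rcases ker_cases Q hQ h2 h6 g hg with h | h
    · rw [h]; simp
    · rw [h, Matrix.det_neg, Matrix.det_one, mul_one, heven.neg_one_pow]
      rfl
  rw [sup_eq_left.2 hker_le_SO]
  constructor
  · rintro ⟨g, hgΩ, hg⟩
    have hker_le : (cAut Q).ker ≤ Cfsg.Omega F ⇑Q := by
      intro k hk
      rcases ker_cases Q hQ h2 h6 k hk with h | h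
      · have : k = 1 := Subtype.ext (Units.ext h)
        rw [this]; exact Subgroup.one_mem _
      · have : k = g := Subtype.ext (Units.ext (by rw [h, hg]))
        rw [this]; exact hgΩ
    rw [sup_eq_left.2 hker_le]
    have h1 := Subgroup.relIndex_mul_index hΩSO
    rw [SO'_index Q hQ h2 (by omega), OC.index_Omega_odd Q h2 hQ (by omega)] at h1
    omega
  · intro hneg
    rw [Subgroup.relIndex_eq_one]
    intro b hb
    obtain ⟨L, rfl⟩ := CDG.cd_list Q h2 hQ b
    have hlen : Even L.length := by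
      unfold SO' at hb
      rw [MonoidHom.mem_ker, detHom_prodO] at hb
      by_contra hodd
      rw [Nat.not_even_iff_odd] at hodd
      rw [hodd.neg_one_pow] at hb
      exact neg_one_units_ne h2 hb
    by_cases hsq : IsSquare (normProd Q L)
    · exact Subgroup.mem_sup_left ((prodO_mem_Omega_iff Q h2 L).2 ⟨hlen, hsq⟩)
    · obtain ⟨L₀, hL₀len, hL₀⟩ := exists_neg_one_list Q hQ h2 (by omega)
      have hsq₀ : ¬ IsSquare (normProd Q L₀) := by
        intro h
        apply hneg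
        refine ⟨negOne Q, ?_, negOne_val Q⟩
        rw [← hL₀, prodO_mem_Omega_iff Q h2]
        exact ⟨by rw [hL₀len]; exact heven, h⟩
      have hmem : prodO Q L * negOne Q ∈ Cfsg.Omega F ⇑Q := by
        rw [← hL₀, ← TR.prodO_append', prodO_mem_Omega_iff Q h2, List.length_append,
          TR.normProd_append', hL₀len]
        refine ⟨hlen.add heven, ?_⟩
        rw [isSquare_mul_iff h2 (normProd_ne_zero Q L) (normProd_ne_zero Q L₀)]
        exact ⟨fun h => absurd h hsq, fun h => absurd h hsq₀⟩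
      have hsplit : prodO Q L = (prodO Q L * negOne Q) * negOne Q := by
        rw [mul_assoc, negOne_mul_self, mul_one]
      rw [hsplit]
      exact Subgroup.mul_mem_sup hmem (negOne_mem_ker Q)

end Cfsg.Agent.Helper28.PA
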