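import Mathlib
import Cfsg.Agent.Helper28.Siegel5

set_option autoImplicit false
set_option linter.unusedSectionVars false

/-! A matrix commuting with all Siegel transformations is a scalar. -/

namespace Cfsg.Agent.Helper28.Sg

open Matrix Module Cfsg.Agent.Helper28.IsoTransport Cfsg.Agent.Helper28.Spin

variable {F : Type*} [Field F] {ι : Type} [Fintype ι] [DecidableEq ι]
  {Q : QuadraticForm F (ι → F)}

section scalarM

variable (A : Matrix ι ι F) (hfix : ∀ x, Q x = 0 → ∃ c : F, A *ᵥ x = c • x)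

include hfix in
theorem eig_orth_mat {x y : ι → F} (hx : Q x = 0) (hy : Q y = 0) (hxy : B Q x y = 0)
    (hind : Indep x y) {c d : F} (hgx : A *ᵥ x = c • x) (hgy : A *ᵥ y = d • y) :
    c = d := by
  have hxy' : Q (x + y) = 0 := by rw [Q_add, hx, hy, hxy]; simp
  obtain ⟨m, hm⟩ := hfix (x + y) hxy'
  rw [Matrix.mulVec_add, hgx, hgy, smul_add] at hm
  have h0 : (c - m) • x + (d - m) • y = 0 := by
    rw [sub_smul, sub_smul]
    have : c • x + d • y - (m • x + m • y) = 0 := by rw [hm, sub_self]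
    rw [← this]; abel
  obtain ⟨h1, h2⟩ := hind _ _ h0
  rw [sub_eq_zero] at h1 h2
  rw [h1, h2]

include hfix in
theorem eig_all_mat (hQ : (QuadraticMap.polarBilin Q).Nondegenerate) (fr : Frame3 Q) {l : F}
    (hl : A *ᵥ (fr.e 0) = l • fr.e 0) {x : ι → F} (hx : Q x = 0) :
    A *ᵥ x = l • x := by
  by_cases hx0 : x = 0
  · rw [hx0, Matrix.mulVec_zero, smul_zero]
  by_cases hprop : ∃ t : F, x = t • fr.e 0
  · obtain ⟨t, ht⟩ := hprop
    rw [ht, Matrix.mulVec_smul, hl, smul_comm]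
  · have hind := indep_of_not_smul (fr.e_ne_zero 0) hprop
    obtain ⟨e', f', he', hf', hef, hee0, hex, hfe0, hfx⟩ := exists_hyp_orth hQ fr hind
    obtain ⟨c, hc⟩ := hfix x hx
    obtain ⟨m, hm⟩ := hfix e' he'
    have h1 : l = m := eig_orth_mat A hfix (fr.Qe 0) he' (by rw [B_comm]; exact hee0)
      (indep_of_third (fr.e_ne_zero 0) hef hfe0) hl hm
    have h2 : c = m := eig_orth_mat A hfix hx he' (by rw [B_comm]; exact hex)
      (indep_of_third hx0 hef hfx) hc hm
    rw [hc, h2, ← h1]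

include hfix in
/-- a matrix having all singular vectors as eigenvectors is a scalar -/
theorem scalar_of_fix_singular_mat (hQ : (QuadraticMap.polarBilin Q).Nondegenerate)
    (fr : Frame3 Q) : ∃ l : F, ∀ x, A *ᵥ x = l • x := by
  obtain ⟨l, hl⟩ := hfix (fr.e 0) (fr.Qe 0)
  refine ⟨l, fun x => ?_⟩
  have hsing : ∀ y, Q y = 0 → A *ᵥ y = l • y := fun y hy => eig_all_mat A hfix hQ fr hl hy
  set α := B Q x (fr.f 0) with hα
  set γ := B Q x (fr.e 0) with hγ
  set x' := x - α • fr.e 0 - γ • fr.f 0 with hx'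
  have h1 : B Q (fr.e 0) x' = 0 := by
    rw [hx']
    simp only [B, QuadraticMap.polar_sub_right, QuadraticMap.polar_smul_right, fr.Bee, fr.Bef]
    rw [hγ, B_comm Q x (fr.e 0)]
    simp
  have h2 : B Q (fr.f 0) x' = 0 := by
    rw [hx']
    simp only [B, QuadraticMap.polar_sub_right, QuadraticMap.polar_smul_right, fr.Bfe, fr.Bff]
    rw [hα, B_comm Q x (fr.f 0)]
    simp
  set s := fr.e 0 + (-(Q x')) • fr.f 0 + x' with hs
  have hQs : Q s = 0 := by
    rw [hs, Q_add, Q_add, Q_smul, fr.Qe, fr.Qf]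
    simp only [B, QuadraticMap.polar_add_left, QuadraticMap.polar_smul_left,
      QuadraticMap.polar_smul_right, fr.Bef, smul_eq_mul]
    simp only [B] at h1 h2
    rw [h1, h2]
    simp
  have hx : x = s + (α - 1) • fr.e 0 + (γ + Q x') • fr.f 0 := by
    rw [hs, hx']
    module
  rw [hx, Matrix.mulVec_add, Matrix.mulVec_add, Matrix.mulVec_smul, Matrix.mulVec_smul,
    hsing s hQs, hsing _ (fr.Qe 0), hsing _ (fr.Qf 0)]
  module

end scalarM

/-- a matrix commuting with all Siegel matrices has every singular vector as an eigenvector -/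
theorem eig_of_comm_sieg (hQ : (QuadraticMap.polarBilin Q).Nondegenerate) (fr : Frame3 Q)
    (A : Matrix ι ι F)
    (hA : ∀ (u v : ι → F), Q u = 0 → B Q u v = 0 → A * siegM Q u v = siegM Q u v * A)
    {u : ι → F} (hu : Q u = 0) : ∃ c : F, A *ᵥ u = c • u := by
  by_cases hu0 : u = 0
  · exact ⟨0, by rw [hu0, Matrix.mulVec_zero, smul_zero]⟩
  obtain ⟨g, hg⟩ := witt_single hQ fr hu hu0
  set v := mt Q g *ᵥ (fr.e 1) with hv
  set x := mt Q g *ᵥ (fr.f 1) with hx
  have huv : B Q u v = 0 := by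
    rw [hv, B_map_eq' Q g hg]; exact fr.Bee 0 1
  have hQv : Q v = 0 := by rw [hv, Spin.isom_apply, fr.Qe]
  have hux : B Q u x = 0 := by
    rw [hx, B_map_eq' Q g hg, B, fr.Bef]; simp
  have hvx : B Q v x = 1 := by
    rw [hv, hx, B_isom, B, fr.Bef]; simp
  have h1 := congrArg (fun M => M *ᵥ x) (hA u v hu huv)
  simp only [← Matrix.mulVec_mulVec] at h1
  rw [siegM_mulVec Q u v x, siegM_mulVec, hux, hvx, hQv] at h1
  simp only [zero_smul, add_zero, one_smul, zero_mul, sub_zero, Matrix.mulVec_sub] at h1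
  -- `A x - A u = A x + B(u, A x) v - B(v, A x) u`
  have h2 : A *ᵥ u = B Q v (A *ᵥ x) • u - B Q u (A *ᵥ x) • v := by
    have : A *ᵥ x - A *ᵥ u = A *ᵥ x + B Q u (A *ᵥ x) • v - B Q v (A *ᵥ x) • u := h1
    have h3 : A *ᵥ u = A *ᵥ x - (A *ᵥ x + B Q u (A *ᵥ x) • v - B Q v (A *ᵥ x) • u) := by
      rw [← this]; abel
    rw [h3]; abel
  -- the same with the pair `(e 2, f 2)`
  set v' := mt Q g *ᵥ (fr.e 2) with hv'
  set x' := mt Q g *ᵥ (fr.f 2) with hx'
  have huv' : B Q u v' = 0 := by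
    rw [hv', B_map_eq' Q g hg]; exact fr.Bee 0 2
  have hQv' : Q v' = 0 := by rw [hv', Spin.isom_apply, fr.Qe]
  have hux' : B Q u x' = 0 := by
    rw [hx', B_map_eq' Q g hg, B, fr.Bef]; simp
  have hvx' : B Q v' x' = 1 := by
    rw [hv', hx', B_isom, B, fr.Bef]; simp
  have h1' := congrArg (fun M => M *ᵥ x') (hA u v' hu huv')
  simp only [← Matrix.mulVec_mulVec] at h1'
  rw [siegM_mulVec Q u v' x', siegM_mulVec, hux', hvx', hQv'] at h1'
  simp only [zero_smul, add_zero, one_smul, zero_mul, sub_zero, Matrix.mulVec_sub] at h1'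
  have h2' : A *ᵥ u = B Q v' (A *ᵥ x') • u - B Q u (A *ᵥ x') • v' := by
    have : A *ᵥ x' - A *ᵥ u = A *ᵥ x' + B Q u (A *ᵥ x') • v' - B Q v' (A *ᵥ x') • u := h1'
    have h3 : A *ᵥ u = A *ᵥ x' - (A *ᵥ x' + B Q u (A *ᵥ x') • v' - B Q v' (A *ᵥ x') • u) := by
      rw [← this]; abel
    rw [h3]; abel
  -- pair the two expressions with `x`
  have h4 := congrArg (fun z => B Q z x) (h2.symm.trans h2')
  simp only [B, QuadraticMap.polar_sub_left, QuadraticMap.polar_smul_left, smul_eq_mul] at h4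
  have hv'x : B Q v' x = 0 := by
    rw [hv', hx, B_isom, B, fr.Bef]; simp
  simp only [B] at hux hvx hv'x
  rw [hux, hvx, hv'x] at h4
  have h5 : QuadraticMap.polar ⇑Q u (A *ᵥ x) = 0 := by
    have : -(QuadraticMap.polar ⇑Q u (A *ᵥ x)) = 0 := by linear_combination h4
    exact neg_eq_zero.1 this
  refine ⟨B Q v (A *ᵥ x), ?_⟩
  rw [h2]
  simp only [B]
  rw [h5, zero_smul, sub_zero]

/-- a matrix commuting with all Siegel matrices is a scalar -/
theorem scalar_of_comm_sieg (hQ : (QuadraticMap.polarBilin Q).Nondegenerate) (fr : Frame3 Q)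
    (A : Matrix ι ι F)
    (hA : ∀ (u v : ι → F), Q u = 0 → B Q u v = 0 → A * siegM Q u v = siegM Q u v * A) :
    ∃ l : F, ∀ x, A *ᵥ x = l • x :=
  scalar_of_fix_singular_mat A (fun _ hx => eig_of_comm_sieg hQ fr A hA hx) hQ fr

end Cfsg.Agent.Helper28.Sg
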