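import Mathlib
import Cfsg.Prelude.Def_LieTypeDatum
import Cfsg.Agent.Helper28.Siegel7
import Cfsg.Agent.Helper28.PsoAut

set_option autoImplicit false
set_option linter.unusedSectionVars false

/-! The conjugation action of the similarity group on `PΩ`. -/

namespace Cfsg.Agent.Helper28.PG

open Matrix Module Cfsg.Agent.Helper28.Spin Cfsg.Agent.Helper28.IsoTransport
  Cfsg.Agent.Helper28.Sg
open scoped commutatorElement

variable {F : Type*} [Field F] {ι : Type} [Fintype ι] [DecidableEq ι]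
  (Q : QuadraticForm F (ι → F))

/-- the similarity group -/
abbrev GO : Subgroup (GL ι F) := Cfsg.Geo.quadSimilarityGroup (F := F) ⇑Q

theorem conj_mem_O {g : GL ι F} (hg : g ∈ GO Q) {s : GL ι F}
    (hs : s ∈ Cfsg.isometryGroup F ⇑Q) : g * s * g⁻¹ ∈ Cfsg.isometryGroup F ⇑Q := by
  obtain ⟨c, hc⟩ := hg
  rw [mem_isometryGroup_iff] at hs ⊢
  intro x
  have h1 : ((g * s * g⁻¹ : GL ι F) : Matrix ι ι F) *ᵥ x =
      (g : Matrix ι ι F) *ᵥ ((s : Matrix ι ι F) *ᵥ (((g⁻¹ : GL ι F) : Matrix ι ι F) *ᵥ x)) := by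
    simp only [Units.val_mul, Matrix.mulVec_mulVec, Matrix.mul_assoc]
  rw [h1, hc, hs]
  have h2 := hc (((g⁻¹ : GL ι F) : Matrix ι ι F) *ᵥ x)
  rw [Matrix.mulVec_mulVec, ← Units.val_mul, mul_inv_cancel, Units.val_one, Matrix.one_mulVec] at h2
  rw [← h2]

theorem O_le_GO : Cfsg.isometryGroup F ⇑Q ≤ GO Q := by
  intro g hg
  rw [mem_isometryGroup_iff] at hg
  exact ⟨1, fun v => by rw [hg, Units.val_one, one_mul]⟩

/-- conjugation by a similarity as an automorphism of the isometry group -/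
noncomputable def conjO (g : ↥(GO Q)) :
    ↥(Cfsg.isometryGroup F ⇑Q) ≃* ↥(Cfsg.isometryGroup F ⇑Q) where
  toFun s := ⟨(g : GL ι F) * s * (g : GL ι F)⁻¹, conj_mem_O Q g.2 s.2⟩
  invFun s := ⟨(g : GL ι F)⁻¹ * s * (g : GL ι F), by
    have := conj_mem_O Q (inv_mem g.2) s.2
    simpa using this⟩
  left_inv s := by
    apply Subtype.ext
    show (g : GL ι F)⁻¹ * ((g : GL ι F) * s * (g : GL ι F)⁻¹) * (g : GL ι F) = s
    group
  right_inv s := by
    apply Subtype.ext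
    show (g : GL ι F) * ((g : GL ι F)⁻¹ * s * (g : GL ι F)) * (g : GL ι F)⁻¹ = s
    group
  map_mul' s t := by
    apply Subtype.ext
    show (g : GL ι F) * ((s : GL ι F) * t) * (g : GL ι F)⁻¹ =
      ((g : GL ι F) * s * (g : GL ι F)⁻¹) * ((g : GL ι F) * t * (g : GL ι F)⁻¹)
    group

theorem conjO_coe (g : ↥(GO Q)) (s : ↥(Cfsg.isometryGroup F ⇑Q)) :
    ((conjO Q g s : ↥(Cfsg.isometryGroup F ⇑Q)) : GL ι F) =
      (g : GL ι F) * s * (g : GL ι F)⁻¹ := rfl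

/-- conjugation by a similarity as an automorphism of `Ω` -/
noncomputable def conjΩ (g : ↥(GO Q)) : ↥(Cfsg.Omega F ⇑Q) ≃* ↥(Cfsg.Omega F ⇑Q) :=
  ((conjO Q g).subgroupMap (Cfsg.Omega F ⇑Q)).trans
    (MulEquiv.subgroupCongr (Subgroup.characteristic_iff_map_eq.1 inferInstance (conjO Q g)))

theorem conjΩ_coe (g : ↥(GO Q)) (s : ↥(Cfsg.Omega F ⇑Q)) :
    ((conjΩ Q g s : ↥(Cfsg.Omega F ⇑Q)) : ↥(Cfsg.isometryGroup F ⇑Q)) =
      conjO Q g (s : ↥(Cfsg.isometryGroup F ⇑Q)) := rfl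

/-- conjugation by a similarity as an automorphism of `PΩ` -/
noncomputable def cG : ↥(GO Q) →* MulAut (Cfsg.POmega F ⇑Q) :=
  MonoidHom.mk' (fun g => QuotientGroup.congr (Subgroup.center ↥(Cfsg.Omega F ⇑Q))
      (Subgroup.center ↥(Cfsg.Omega F ⇑Q)) (conjΩ Q g)
      (Subgroup.characteristic_iff_map_eq.1 inferInstance _))
    (by
      intro g h
      ext x
      induction x using QuotientGroup.induction_on with
      | H s =>
        show (QuotientGroup.mk (conjΩ Q (g * h) s) : Cfsg.POmega F ⇑Q) =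
          QuotientGroup.mk (conjΩ Q g (conjΩ Q h s))
        congr 1
        apply Subtype.ext
        apply Subtype.ext
        rw [conjΩ_coe, conjΩ_coe, conjΩ_coe, conjO_coe, conjO_coe, conjO_coe]
        show ((g : GL ι F) * (h : GL ι F)) * _ * ((g : GL ι F) * (h : GL ι F))⁻¹ = _
        group)

theorem map_refl' (M : Matrix ι ι F) : M.map (RingEquiv.refl F) = M := by
  ext i j
  simp

theorem cG_mk (g : ↥(GO Q)) (s : ↥(Cfsg.Omega F ⇑Q)) :
    cG Q g (QuotientGroup.mk s) = QuotientGroup.mk (conjΩ Q g s) := rfl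

theorem conjΩ_val (g : ↥(GO Q)) (s : ↥(Cfsg.Omega F ⇑Q)) :
    ((((conjΩ Q g s : ↥(Cfsg.Omega F ⇑Q)) : ↥(Cfsg.isometryGroup F ⇑Q)) : GL ι F) :
      Matrix ι ι F) =
      ((g : GL ι F) : Matrix ι ι F) * (((s : ↥(Cfsg.isometryGroup F ⇑Q)) : GL ι F) : Matrix ι ι F) *
        (((g : GL ι F)⁻¹ : GL ι F) : Matrix ι ι F) := by
  rw [conjΩ_coe, conjO_coe]
  rfl

theorem induced_iff (g : GL ι F) (hg : g ∈ GO Q)
    (β : Cfsg.POmega F ⇑Q ≃* Cfsg.POmega F ⇑Q) :
    Cfsg.IsInducedBySemilinearPOmega (⇑Q) g (RingEquiv.refl F) β ↔ β = cG Q ⟨g, hg⟩ := by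
  constructor
  · intro h
    ext x
    induction x using QuotientGroup.induction_on with
    | H s =>
      rw [cG_mk]
      apply h s (conjΩ Q (⟨g, hg⟩ : ↥(GO Q)) s)
      rw [map_refl', conjΩ_val]
  · rintro rfl s s' hs
    rw [cG_mk]
    congr 1
    apply Subtype.ext
    apply Subtype.ext
    apply Units.ext
    rw [hs, map_refl', conjΩ_val]

theorem pgoAut_eq : Cfsg.pgoAut F ⇑Q = (cG Q).range := by
  unfold Cfsg.pgoAut Cfsg.autSubgroupOf
  have : {β : MulAut (Cfsg.POmega F ⇑Q) | Cfsg.IsSimilarityInducedAutPOmega ⇑Q β} =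
      (((cG Q).range : Subgroup (MulAut (Cfsg.POmega F ⇑Q))) : Set _) := by
    ext β
    constructor
    · rintro ⟨g, hg, hβ⟩
      exact ⟨⟨g, hg⟩, ((induced_iff Q g hg β).1 hβ).symm⟩
    · rintro ⟨g, rfl⟩
      exact ⟨g.1, g.2, (induced_iff Q g.1 g.2 _).2 rfl⟩
  rw [this, Subgroup.closure_eq]

/-- the special isometries inside the similarity group -/
def SOg : Subgroup ↥(GO Q) := (Cfsg.specialIsometryGL F ⇑Q).subgroupOf (GO Q)

theorem psoAut_eq : Cfsg.psoAut F ⇑Q = (SOg Q).map (cG Q) := by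
  unfold Cfsg.psoAut Cfsg.autSubgroupOf
  have : {β : MulAut (Cfsg.POmega F ⇑Q) | Cfsg.IsSpecialIsometryInducedAutPOmega ⇑Q β} =
      (((SOg Q).map (cG Q) : Subgroup (MulAut (Cfsg.POmega F ⇑Q))) : Set _) := by
    ext β
    constructor
    · rintro ⟨g, hg, hβ⟩
      have hgO : g ∈ GO Q := O_le_GO Q hg.1
      exact ⟨⟨g, hgO⟩, hg, ((induced_iff Q g hgO β).1 hβ).symm⟩
    · rintro ⟨g, hg, rfl⟩
      exact ⟨g.1, hg, (induced_iff Q g.1 g.2 _).2 rfl⟩
  rw [this, Subgroup.closure_eq]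

/-- the kernel of the conjugation action consists of scalars -/
theorem ker_cG (hQ : (QuadraticMap.polarBilin Q).Nondegenerate) (fr : Frame3 Q)
    (hperf : commutator ↥(Cfsg.Omega F ⇑Q) = ⊤) (g : ↥(GO Q)) (hg : cG Q g = 1) :
    ∃ l : F, ∀ x, ((g : GL ι F) : Matrix ι ι F) *ᵥ x = l • x := by
  -- `g s g⁻¹ = s z` with `z` central in `Ω`
  have hz : ∀ s : ↥(Cfsg.Omega F ⇑Q), s⁻¹ * conjΩ Q g s ∈ Subgroup.center ↥(Cfsg.Omega F ⇑Q) := by
    intro s
    have h1 : (QuotientGroup.mk s : Cfsg.POmega F ⇑Q) = QuotientGroup.mk (conjΩ Q g s) := by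
      rw [← cG_mk, hg]
      rfl
    rw [QuotientGroup.eq] at h1
    exact h1
  -- `g` centralises all commutators
  have hcomm : ∀ s t : ↥(Cfsg.Omega F ⇑Q), conjΩ Q g ⁅s, t⁆ = ⁅s, t⁆ := by
    intro s t
    rw [map_commutatorElement]
    have e1 : conjΩ Q g s = s * (s⁻¹ * conjΩ Q g s) := by group
    have e2 : conjΩ Q g t = t * (t⁻¹ * conjΩ Q g t) := by group
    rw [e1, e2]
    have hzs := Subgroup.mem_center_iff.1 (hz s)
    have hzt := Subgroup.mem_center_iff.1 (hz t)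
    rw [PA.comm_mul_central s _ _ (hzs _).symm, PA.comm_mul_central' s t _ (hzt _).symm]
  have hfix : ∀ t : ↥(Cfsg.Omega F ⇑Q), conjΩ Q g t = t := by
    intro t
    have ht : t ∈ commutator ↥(Cfsg.Omega F ⇑Q) := by rw [hperf]; exact Subgroup.mem_top t
    rw [commutator_eq_closure] at ht
    induction ht using Subgroup.closure_induction with
    | mem x hx =>
      obtain ⟨s, t, rfl⟩ := hx
      exact hcomm s t
    | one => exact map_one _
    | mul x y _ _ hx hy => rw [map_mul, hx, hy]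
    | inv x _ hx => rw [map_inv, hx]
  apply scalar_of_comm_sieg hQ fr
  intro u v hu huv
  have hmem : siegO Q u v hu huv ∈ Cfsg.Omega F ⇑Q := S_le_Omega hQ fr (siegO_mem_S Q u v hu huv)
  have h1 := hfix ⟨_, hmem⟩
  have h2 := congrArg (fun z : ↥(Cfsg.Omega F ⇑Q) =>
    ((((z : ↥(Cfsg.isometryGroup F ⇑Q)) : GL ι F)) : Matrix ι ι F)) h1
  simp only [conjΩ_val] at h2
  have h3 : (((g : GL ι F)⁻¹ : GL ι F) : Matrix ι ι F) * ((g : GL ι F) : Matrix ι ι F) = 1 := by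
    rw [← Units.val_mul, inv_mul_cancel, Units.val_one]
  have h4 : mt Q (siegO Q u v hu huv) = siegM Q u v := rfl
  rw [show ((((⟨_, hmem⟩ : ↥(Cfsg.Omega F ⇑Q)) : ↥(Cfsg.isometryGroup F ⇑Q)) : GL ι F) :
    Matrix ι ι F) = siegM Q u v from rfl] at h2
  calc ((g : GL ι F) : Matrix ι ι F) * siegM Q u v
      = ((g : GL ι F) : Matrix ι ι F) * siegM Q u v *
          ((((g : GL ι F)⁻¹ : GL ι F) : Matrix ι ι F) * ((g : GL ι F) : Matrix ι ι F)) := by
        rw [h3, mul_one]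
    _ = (((g : GL ι F) : Matrix ι ι F) * siegM Q u v *
          (((g : GL ι F)⁻¹ : GL ι F) : Matrix ι ι F)) * ((g : GL ι F) : Matrix ι ι F) := by
        simp only [mul_assoc]
    _ = siegM Q u v * ((g : GL ι F) : Matrix ι ι F) := by rw [h2]

end Cfsg.Agent.Helper28.PG
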