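import Mathlib
import Cfsg.Agent.Helper28.PgoAut1

set_option autoImplicit false
set_option linter.unusedSectionVars false

/-! The multiplier and the sign of a similarity. -/

namespace Cfsg.Agent.Helper28.PG

open Matrix Module Cfsg.Agent.Helper28.Spin Cfsg.Agent.Helper28.IsoTransport
  Cfsg.Agent.Helper28.Sg
open scoped commutatorElement

variable {F : Type*} [Field F] {ι : Type} [Fintype ι] [DecidableEq ι]
  (Q : QuadraticForm F (ι → F))

/-- the multiplier of a similarity -/
noncomputable def mu (g : ↥(GO Q)) : Fˣ := Classical.choose g.2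

theorem mu_spec (g : ↥(GO Q)) (v : ι → F) :
    Q (((g : GL ι F) : Matrix ι ι F) *ᵥ v) = (mu Q g : F) * Q v :=
  Classical.choose_spec g.2 v

theorem mu_unique (hex : ∃ v : ι → F, Q v ≠ 0) (g : ↥(GO Q)) (c : Fˣ)
    (hc : ∀ v, Q (((g : GL ι F) : Matrix ι ι F) *ᵥ v) = (c : F) * Q v) : c = mu Q g := by
  obtain ⟨v, hv⟩ := hex
  have h1 := hc v
  rw [mu_spec] at h1
  apply Units.ext
  exact (mul_right_cancel₀ hv h1).symm

/-- the multiplier homomorphism -/
noncomputable def muHom (hex : ∃ v : ι → F, Q v ≠ 0) : ↥(GO Q) →* Fˣ :=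
  MonoidHom.mk' (mu Q) (by
    intro g h
    symm
    apply mu_unique Q hex
    intro v
    show Q ((((g : GL ι F) * (h : GL ι F) : GL ι F) : Matrix ι ι F) *ᵥ v) = _
    rw [Units.val_mul, ← Matrix.mulVec_mulVec, mu_spec, mu_spec, Units.val_mul, mul_assoc])

theorem muHom_apply (hex : ∃ v : ι → F, Q v ≠ 0) (g : ↥(GO Q)) : muHom Q hex g = mu Q g := rfl

theorem polar_sim (g : ↥(GO Q)) (x y : ι → F) :
    B Q (((g : GL ι F) : Matrix ι ι F) *ᵥ x) (((g : GL ι F) : Matrix ι ι F) *ᵥ y) =
      (mu Q g : F) * B Q x y := by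
  simp only [B, QuadraticMap.polar, ← Matrix.mulVec_add, mu_spec]
  ring

/-- `det g ^ 2 = μ(g) ^ n` -/
theorem det_sq (hQ : (QuadraticMap.polarBilin Q).Nondegenerate) (g : ↥(GO Q)) :
    ((g : GL ι F) : Matrix ι ι F).det ^ 2 = (mu Q g : F) ^ Fintype.card ι := by
  set Bf := QuadraticMap.polarBilin Q with hBf
  set G := LinearMap.BilinForm.toMatrix' Bf with hG
  set A := ((g : GL ι F) : Matrix ι ι F) with hA
  have h1 : LinearMap.BilinForm.comp Bf (Matrix.toLin' A) (Matrix.toLin' A) = (mu Q g : F) • Bf := by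
    apply LinearMap.ext
    intro x
    apply LinearMap.ext
    intro y
    simp only [LinearMap.BilinForm.comp_apply, Matrix.toLin'_apply, LinearMap.smul_apply,
      smul_eq_mul]
    exact polar_sim Q g x y
  have h2 := congrArg LinearMap.BilinForm.toMatrix' h1
  rw [LinearMap.BilinForm.toMatrix'_comp, LinearMap.toMatrix'_toLin', map_smul] at h2
  have h3 := congrArg Matrix.det h2
  rw [Matrix.det_mul, Matrix.det_mul, Matrix.det_transpose, Matrix.det_smul] at h3
  have hdet : G.det ≠ 0 := by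
    rw [← Matrix.nondegenerate_iff_det_ne_zero, hG,
      LinearMap.BilinForm.nondegenerate_toMatrix'_iff]
    exact hQ
  have h4 : (A.det ^ 2 - (mu Q g : F) ^ Fintype.card ι) * G.det = 0 := by
    linear_combination h3
  rcases mul_eq_zero.1 h4 with h | h
  · exact sub_eq_zero.1 h
  · exact absurd h hdet


/-- a two-valued multiplicative function gives an additive function to `ZMod 2` -/
theorem two_valued_add {G R : Type*} [Group G] [Ring R] [DecidableEq R] (hne : (-1 : R) ≠ 1)
    (f : G → R) (hmul : ∀ g h, f (g * h) = f g * f h) (hval : ∀ g, f g = 1 ∨ f g = -1) (g h : G) :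
    (if f (g * h) = 1 then (0 : ZMod 2) else 1) =
      (if f g = 1 then 0 else 1) + (if f h = 1 then 0 else 1) := by
  rw [hmul]
  rcases hval g with hg | hg <;> rcases hval h with hh | hh <;> rw [hg, hh]
  · simp
  · simp [hne]
  · simp [hne]
  · simp [hne]
    decide

section sign

variable [Fintype F] [DecidableEq F]

/-- the sign of a similarity: `det g / μ(g)^k` -/
noncomputable def sgn (k : ℕ) (g : ↥(GO Q)) : F :=
  ((g : GL ι F) : Matrix ι ι F).det * ((mu Q g : F)⁻¹) ^ k

theorem sgn_mul (hex : ∃ v : ι → F, Q v ≠ 0) (k : ℕ) (g h : ↥(GO Q)) :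
    sgn Q k (g * h) = sgn Q k g * sgn Q k h := by
  unfold sgn
  have h1 : mu Q (g * h) = mu Q g * mu Q h := (muHom Q hex).map_mul g h
  rw [h1]
  show (((g : GL ι F) * (h : GL ι F) : GL ι F) : Matrix ι ι F).det * _ = _
  rw [Units.val_mul, Matrix.det_mul, Units.val_mul, mul_inv, mul_pow]
  ring

theorem sgn_sq (hQ : (QuadraticMap.polarBilin Q).Nondegenerate) {k : ℕ}
    (hk : Fintype.card ι = 2 * k) (g : ↥(GO Q)) : sgn Q k g ^ 2 = 1 := by
  unfold sgn
  rw [mul_pow, det_sq Q hQ g, hk, ← pow_mul, mul_comm k 2, ← mul_pow,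
    mul_inv_cancel₀ (Units.ne_zero _), one_pow]

theorem sgn_cases (hQ : (QuadraticMap.polarBilin Q).Nondegenerate) {k : ℕ}
    (hk : Fintype.card ι = 2 * k) (g : ↥(GO Q)) : sgn Q k g = 1 ∨ sgn Q k g = -1 := by
  have h := sgn_sq Q hQ hk g
  have : (sgn Q k g - 1) * (sgn Q k g + 1) = 0 := by linear_combination h
  rcases mul_eq_zero.1 this with h1 | h1
  · left; linear_combination h1
  · right; linear_combination h1

/-- the square class of the multiplier -/
noncomputable def chi (g : ↥(GO Q)) : ℤ := quadraticChar F (mu Q g : F)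

theorem chi_mul (hex : ∃ v : ι → F, Q v ≠ 0) (g h : ↥(GO Q)) :
    chi Q (g * h) = chi Q g * chi Q h := by
  unfold chi
  have h1 : mu Q (g * h) = mu Q g * mu Q h := (muHom Q hex).map_mul g h
  rw [h1, Units.val_mul, map_mul]

theorem chi_cases (g : ↥(GO Q)) : chi Q g = 1 ∨ chi Q g = -1 := by
  unfold chi
  exact quadraticChar_dichotomy (Units.ne_zero _)

open Classical in
/-- the homomorphism to the Klein four group -/
noncomputable def phi0 (hex : ∃ v : ι → F, Q v ≠ 0)
    (hQ : (QuadraticMap.polarBilin Q).Nondegenerate) (h2 : (2 : F) ≠ 0) {k : ℕ}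
    (hk : Fintype.card ι = 2 * k) : ↥(GO Q) →* Multiplicative (ZMod 2 × ZMod 2) :=
  MonoidHom.mk' (fun g => Multiplicative.ofAdd
      ((if chi Q g = 1 then (0 : ZMod 2) else 1), (if sgn Q k g = 1 then (0 : ZMod 2) else 1)))
    (by
      intro g h
      rw [← ofAdd_add]
      congr 1
      apply Prod.ext
      · exact two_valued_add (by norm_num) (chi Q) (chi_mul Q hex) (chi_cases Q) g h
      · refine two_valued_add ?_ (sgn Q k) (sgn_mul Q hex k) (sgn_cases Q hQ hk) g h
        intro h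
        apply h2
        linear_combination -h)

open Classical in
theorem phi0_apply (hex : ∃ v : ι → F, Q v ≠ 0)
    (hQ : (QuadraticMap.polarBilin Q).Nondegenerate) (h2 : (2 : F) ≠ 0) {k : ℕ}
    (hk : Fintype.card ι = 2 * k) (g : ↥(GO Q)) :
    phi0 Q hex hQ h2 hk g = Multiplicative.ofAdd
      ((if chi Q g = 1 then (0 : ZMod 2) else 1), (if sgn Q k g = 1 then (0 : ZMod 2) else 1)) :=
  rfl

theorem phi0_eq_one_iff (hex : ∃ v : ι → F, Q v ≠ 0)
    (hQ : (QuadraticMap.polarBilin Q).Nondegenerate) (h2 : (2 : F) ≠ 0) {k : ℕ}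
    (hk : Fintype.card ι = 2 * k) (g : ↥(GO Q)) :
    phi0 Q hex hQ h2 hk g = 1 ↔ chi Q g = 1 ∧ sgn Q k g = 1 := by
  classical
  rw [phi0_apply, ofAdd_eq_one, Prod.ext_iff]
  simp only [Prod.fst_zero, Prod.snd_zero]
  constructor
  · rintro ⟨h1, h3⟩
    constructor
    · by_contra hc
      rw [if_neg hc] at h1
      exact one_ne_zero h1
    · by_contra hc
      rw [if_neg hc] at h3
      exact one_ne_zero h3
  · rintro ⟨h1, h3⟩
    rw [if_pos h1, if_pos h3]
    exact ⟨rfl, rfl⟩

end sign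

end Cfsg.Agent.Helper28.PG
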