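import Mathlib
import Cfsg.Agent.Helper28.PgoAut2

set_option autoImplicit false
set_option linter.unusedSectionVars false

/-! `PGO / PSO ≅ C₂ × C₂` inside `Aut(PΩ)`: the general statement. -/

namespace Cfsg.Agent.Helper28.PG

open Matrix Module Cfsg.Agent.Helper28.Spin Cfsg.Agent.Helper28.IsoTransport
  Cfsg.Agent.Helper28.Sg
open scoped commutatorElement

variable {F : Type*} [Field F] {ι : Type} [Fintype ι] [DecidableEq ι]
  (Q : QuadraticForm F (ι → F))

/-- scalar matrices as similarities -/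
noncomputable def scal (l : Fˣ) : ↥(GO Q) :=
  ⟨⟨(l : F) • (1 : Matrix ι ι F), ((l⁻¹ : Fˣ) : F) • (1 : Matrix ι ι F),
      by rw [smul_mul_smul_comm, mul_one, ← Units.val_mul, mul_inv_cancel, Units.val_one, one_smul],
      by rw [smul_mul_smul_comm, mul_one, ← Units.val_mul, inv_mul_cancel, Units.val_one, one_smul]⟩,
    ⟨l * l, fun v => by
      show Q (((l : F) • (1 : Matrix ι ι F)) *ᵥ v) = _
      rw [Matrix.smul_mulVec, Matrix.one_mulVec, Sg.Q_smul, Units.val_mul]⟩⟩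

theorem scal_val (l : Fˣ) : ((scal Q l : GL ι F) : Matrix ι ι F) = (l : F) • 1 := rfl

theorem scal_inv_val (l : Fˣ) :
    (((scal Q l : GL ι F)⁻¹ : GL ι F) : Matrix ι ι F) = ((l⁻¹ : Fˣ) : F) • 1 := rfl

theorem mu_scal (hex : ∃ v : ι → F, Q v ≠ 0) (l : Fˣ) : mu Q (scal Q l) = l * l := by
  symm
  apply mu_unique Q hex
  intro v
  rw [scal_val, Matrix.smul_mulVec, Matrix.one_mulVec, Sg.Q_smul, Units.val_mul]

theorem cG_scal (l : Fˣ) : cG Q (scal Q l) = 1 := by
  ext x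
  induction x using QuotientGroup.induction_on with
  | H s =>
    rw [cG_mk, MulAut.one_apply]
    congr 1
    apply Subtype.ext
    apply Subtype.ext
    apply Units.ext
    rw [conjΩ_val, scal_val, scal_inv_val, smul_mul_assoc, one_mul, mul_smul_comm, mul_one,
      smul_smul, ← Units.val_mul, inv_mul_cancel, Units.val_one, one_smul]

section main

variable [Fintype F] [DecidableEq F]

theorem mem_SOg_iff (g : ↥(GO Q)) :
    g ∈ SOg Q ↔ (g : GL ι F) ∈ Cfsg.isometryGroup F ⇑Q ∧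
      ((g : GL ι F) : Matrix ι ι F).det = 1 := by
  unfold SOg Cfsg.specialIsometryGL Cfsg.Geo.specialLinear
  rw [Subgroup.mem_subgroupOf, Subgroup.mem_inf, MonoidHom.mem_ker]
  constructor
  · rintro ⟨h1, h2⟩
    refine ⟨h1, ?_⟩
    have := congrArg (fun u : Fˣ => (u : F)) h2
    simpa using this
  · rintro ⟨h1, h2⟩
    refine ⟨h1, ?_⟩
    apply Units.ext
    simpa using h2

theorem ker_of_SOg (hex : ∃ v : ι → F, Q v ≠ 0) (k : ℕ) (s : ↥(GO Q)) (hs : s ∈ SOg Q) :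
    chi Q s = 1 ∧ sgn Q k s = 1 := by
  rw [mem_SOg_iff] at hs
  obtain ⟨h1, h2⟩ := hs
  rw [mem_isometryGroup_iff] at h1
  have hmu : mu Q s = 1 := by
    symm
    apply mu_unique Q hex
    intro v
    rw [h1, Units.val_one, one_mul]
  constructor
  · unfold chi
    rw [hmu, Units.val_one, map_one]
  · unfold sgn
    rw [h2, hmu, Units.val_one, inv_one, one_pow, mul_one]

theorem exists_SO_of_ker (hex : ∃ v : ι → F, Q v ≠ 0) {k : ℕ}
    (hk : Fintype.card ι = 2 * k) (g : ↥(GO Q)) (h1 : chi Q g = 1) (h3 : sgn Q k g = 1) :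
    ∃ s ∈ SOg Q, cG Q g = cG Q s := by
  unfold chi at h1
  rw [quadraticChar_one_iff_isSquare (Units.ne_zero _)] at h1
  obtain ⟨r, hr⟩ := h1
  have hr0 : r ≠ 0 := by
    rintro rfl
    rw [mul_zero] at hr
    exact Units.ne_zero _ hr
  set l : Fˣ := Units.mk0 r hr0 with hl
  have hlr : (l : F) = r := rfl
  set s : ↥(GO Q) := (scal Q l)⁻¹ * g with hs
  have hmus : mu Q s = 1 := by
    have h4 : mu Q s = (mu Q (scal Q l))⁻¹ * mu Q g := by
      have := (muHom Q hex).map_mul (scal Q l)⁻¹ g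
      rw [map_inv] at this
      exact this
    rw [h4, mu_scal Q hex]
    apply Units.ext
    rw [Units.val_mul, Units.val_inv_eq_inv_val, Units.val_mul, hlr, hr, Units.val_one]
    exact inv_mul_cancel₀ (mul_ne_zero hr0 hr0)
  refine ⟨s, ?_, ?_⟩
  · rw [mem_SOg_iff]
    constructor
    · rw [mem_isometryGroup_iff]
      intro v
      rw [mu_spec, hmus, Units.val_one, one_mul]
    · have hdet : ((g : GL ι F) : Matrix ι ι F).det = r ^ (2 * k) := by
        unfold sgn at h3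
        have h5 : ((mu Q g : F)) ^ k ≠ 0 := pow_ne_zero _ (Units.ne_zero _)
        have h6 : ((g : GL ι F) : Matrix ι ι F).det = (mu Q g : F) ^ k := by
          rw [inv_pow] at h3
          field_simp at h3
          exact h3
        rw [h6, hr, ← pow_two, ← pow_mul]
      show ((((scal Q l : GL ι F)⁻¹ * (g : GL ι F) : GL ι F)) : Matrix ι ι F).det = 1
      rw [Units.val_mul, Matrix.det_mul, scal_inv_val, Matrix.det_smul, Matrix.det_one, mul_one,
        hdet, hk, Units.val_inv_eq_inv_val, hlr, ← mul_pow, inv_mul_cancel₀ hr0, one_pow]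
  · have hg : g = scal Q l * s := by rw [hs]; group
    rw [hg, map_mul, cG_scal, one_mul]

theorem ker_of_cG (hQ : (QuadraticMap.polarBilin Q).Nondegenerate) (fr : Frame3 Q)
    (hex : ∃ v : ι → F, Q v ≠ 0)
    (hperf : commutator ↥(Cfsg.Omega F ⇑Q) = ⊤) {k : ℕ} (hk : Fintype.card ι = 2 * k)
    (g : ↥(GO Q)) (hg : cG Q g = 1) : chi Q g = 1 ∧ sgn Q k g = 1 := by
  obtain ⟨l, hl⟩ := ker_cG Q hQ fr hperf g hg
  obtain ⟨v, hv⟩ := hex
  have hmu : (mu Q g : F) = l * l := by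
    have h1 := mu_spec Q g v
    rw [hl, Sg.Q_smul] at h1
    exact (mul_right_cancel₀ hv h1).symm
  have hl0 : l ≠ 0 := by
    rintro rfl
    rw [mul_zero] at hmu
    exact Units.ne_zero _ hmu
  have hmat : ((g : GL ι F) : Matrix ι ι F) = l • 1 := by
    apply Spin.matrix_ext_mulVec
    intro x
    rw [hl, Matrix.smul_mulVec, Matrix.one_mulVec]
  constructor
  · unfold chi
    rw [quadraticChar_one_iff_isSquare (Units.ne_zero _), hmu]
    exact ⟨l, rfl⟩
  · unfold sgn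
    rw [hmat, Matrix.det_smul, Matrix.det_one, mul_one, hmu, hk, ← pow_two, inv_pow, ← pow_mul]
    exact mul_inv_cancel₀ (pow_ne_zero _ hl0)

/-- the general statement: `PGO / PSO ≅ C₂ × C₂` -/
theorem pgo_mod_pso (hQ : (QuadraticMap.polarBilin Q).Nondegenerate) (fr : Frame3 Q)
    (h2 : (2 : F) ≠ 0) (hperf : commutator ↥(Cfsg.Omega F ⇑Q) = ⊤) {k : ℕ}
    (hk : Fintype.card ι = 2 * k)
    (r : ↥(GO Q)) (hr1 : chi Q r = 1) (hr2 : sgn Q k r = -1)
    (h : ↥(GO Q)) (hh : chi Q h = -1) :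
    ∃ φ : ↥(Cfsg.pgoAut F ⇑Q) →* Multiplicative (ZMod 2 × ZMod 2), Function.Surjective φ ∧
      φ.ker = (Cfsg.psoAut F ⇑Q).subgroupOf (Cfsg.pgoAut F ⇑Q) := by
  have hex : ∃ v : ι → F, Q v ≠ 0 := by
    refine ⟨fr.e 0 + fr.f 0, ?_⟩
    rw [Sg.Q_add, fr.Qe, fr.Qf]
    simp only [B, fr.Bef]
    simp
  set φ₀ := phi0 Q hex hQ h2 hk with hφ₀
  let cG' : ↥(GO Q) →* ↥(Cfsg.pgoAut F ⇑Q) :=
    (cG Q).codRestrict _ (fun g => by rw [pgoAut_eq]; exact ⟨g, rfl⟩)
  have hcG' : ∀ g, ((cG' g : ↥(Cfsg.pgoAut F ⇑Q)) : MulAut (Cfsg.POmega F ⇑Q)) = cG Q g :=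
    fun g => rfl
  have hsurj : Function.Surjective cG' := by
    intro β
    have : (β : MulAut (Cfsg.POmega F ⇑Q)) ∈ (cG Q).range := by
      rw [← pgoAut_eq]; exact β.2
    obtain ⟨g, hg⟩ := this
    exact ⟨g, Subtype.ext hg⟩
  have hker : cG'.ker ≤ φ₀.ker := by
    intro g hg
    rw [MonoidHom.mem_ker] at hg ⊢
    have h1 : cG Q g = 1 := by
      rw [← hcG', hg]; rfl
    rw [hφ₀, phi0_eq_one_iff]
    exact ker_of_cG Q hQ fr hex hperf hk g h1
  let φ := cG'.liftOfSurjective hsurj ⟨φ₀, hker⟩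
  have hφ : ∀ g, φ (cG' g) = φ₀ g := fun g =>
    MonoidHom.liftOfRightInverse_comp_apply _ _ _ ⟨φ₀, hker⟩ g
  have hneg : (-1 : F) ≠ 1 := by
    intro h
    apply h2
    linear_combination -h
  have hφr : φ₀ r = Multiplicative.ofAdd ((0 : ZMod 2), (1 : ZMod 2)) := by
    rw [hφ₀, phi0_apply, if_pos hr1, hr2, if_neg hneg]
  obtain ⟨b₀, hφh⟩ : ∃ b₀ : ZMod 2, φ₀ h = Multiplicative.ofAdd ((1 : ZMod 2), b₀) := by
    rw [hφ₀, phi0_apply, hh, if_neg (by norm_num)]
    exact ⟨_, rfl⟩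
  refine ⟨φ, ?_, ?_⟩
  · intro t
    obtain ⟨p, rfl⟩ := Multiplicative.ofAdd.surjective t
    obtain ⟨a, b⟩ := p
    suffices ∃ g, φ₀ g = Multiplicative.ofAdd (a, b) by
      obtain ⟨g, hg⟩ := this
      exact ⟨cG' g, by rw [hφ, hg]⟩
    by_cases ha : a = 0
    · subst ha
      by_cases hb : b = 0
      · subst hb
        exact ⟨1, map_one _⟩
      · have hb1 : b = 1 := by
          revert hb; revert b; decide
        subst hb1
        exact ⟨r, hφr⟩
    · have ha1 : a = 1 := by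
        revert ha; revert a; decide
      subst ha1
      by_cases hb : b = b₀
      · subst hb
        exact ⟨h, hφh⟩
      · have hdec : ∀ b b₀ : ZMod 2, b ≠ b₀ → b = b₀ + 1 := by decide
        have hb1 : b = b₀ + 1 := hdec b b₀ hb
        subst hb1
        refine ⟨h * r, ?_⟩
        rw [map_mul, hφh, hφr, ← ofAdd_add]
        congr 1
  · ext β
    obtain ⟨g, rfl⟩ := hsurj β
    rw [MonoidHom.mem_ker, hφ, Subgroup.mem_subgroupOf, hcG', psoAut_eq, hφ₀, phi0_eq_one_iff]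
    constructor
    · rintro ⟨h1, h3⟩
      obtain ⟨s, hs, hgs⟩ := exists_SO_of_ker Q hex hk g h1 h3
      exact ⟨s, hs, hgs.symm⟩
    · rintro ⟨s, hs, hsg⟩
      have h1 : cG Q (s⁻¹ * g) = 1 := by
        rw [map_mul, map_inv, hsg, inv_mul_cancel]
      have h3 := ker_of_cG Q hQ fr hex hperf hk _ h1
      have h4 := ker_of_SOg Q hex k s hs
      rw [← phi0_eq_one_iff Q hex hQ h2 hk] at h3 h4 ⊢
      have : g = s * (s⁻¹ * g) := by group
      rw [this, map_mul, h3, h4, one_mul]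

end main

end Cfsg.Agent.Helper28.PG
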