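import Mathlib
import Cfsg.Agent.Helper28.PgoAut3
import Cfsg.Agent.Helper28.Siegel6

set_option autoImplicit false
set_option linter.unusedSectionVars false

/-! Helper lemmas for instantiating `pgo_mod_pso`. -/

namespace Cfsg.Agent.Helper28.PG

open Matrix Module Cfsg.Agent.Helper28.Spin Cfsg.Agent.Helper28.IsoTransport
  Cfsg.Agent.Helper28.Sg

variable {F : Type*} [Field F] {ι : Type} [Fintype ι] [DecidableEq ι]
  (Q : QuadraticForm F (ι → F))

/-- a matrix scaling the form by a non-zero factor is a similarity -/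
theorem exists_GO_of_sim (hQ : (QuadraticMap.polarBilin Q).Nondegenerate) (A : Matrix ι ι F)
    (c : Fˣ) (hA : ∀ v, Q (A *ᵥ v) = (c : F) * Q v) :
    ∃ g : ↥(GO Q), ((g : GL ι F) : Matrix ι ι F) = A := by
  have hB : ∀ x y, B Q (A *ᵥ x) (A *ᵥ y) = (c : F) * B Q x y := by
    intro x y
    simp only [B, QuadraticMap.polar, ← Matrix.mulVec_add, hA]
    ring
  have hinj : Function.Injective A.mulVec := by
    intro x y hxy
    have h0 : A *ᵥ (x - y) = 0 := by rw [Matrix.mulVec_sub, hxy, sub_self]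
    have h1 : x - y = 0 := by
      apply hQ.1
      intro w
      show QuadraticMap.polar ⇑Q (x - y) w = 0
      have := hB (x - y) w
      rw [h0] at this
      simp only [B, QuadraticMap.polar_zero_left] at this
      rcases mul_eq_zero.1 this.symm with h | h
      · exact absurd h (Units.ne_zero _)
      · exact h
    exact sub_eq_zero.1 h1
  have hunit : IsUnit A := Matrix.mulVec_injective_iff_isUnit.1 hinj
  obtain ⟨u, hu⟩ := hunit
  exact ⟨⟨u, ⟨c, fun v => by rw [hu]; exact hA v⟩⟩, hu⟩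

section main

variable [Fintype F] [DecidableEq F]

theorem mu_of_sim (hex : ∃ v : ι → F, Q v ≠ 0) (g : ↥(GO Q)) (c : Fˣ)
    (hA : ∀ v, Q (((g : GL ι F) : Matrix ι ι F) *ᵥ v) = (c : F) * Q v) : mu Q g = c :=
  (mu_unique Q hex g c hA).symm

theorem chi_of_nonsquare (hex : ∃ v : ι → F, Q v ≠ 0) (g : ↥(GO Q)) (c : Fˣ)
    (hA : ∀ v, Q (((g : GL ι F) : Matrix ι ι F) *ᵥ v) = (c : F) * Q v)
    (hc : ¬ IsSquare (c : F)) : chi Q g = -1 := by
  unfold chi
  rw [mu_of_sim Q hex g c hA]
  rcases quadraticChar_dichotomy (Units.ne_zero c) with h | h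
  · rw [quadraticChar_one_iff_isSquare (Units.ne_zero c)] at h
    exact absurd h hc
  · exact h

/-- a reflection as a similarity -/
noncomputable def reflGO (v : ι → F) (hv : Q v ≠ 0) : ↥(GO Q) :=
  ⟨(reflO Q v hv : GL ι F), O_le_GO Q (reflO Q v hv).2⟩

theorem chi_reflGO (hex : ∃ v : ι → F, Q v ≠ 0) (v : ι → F) (hv : Q v ≠ 0) :
    chi Q (reflGO Q v hv) = 1 := by
  unfold chi
  rw [mu_of_sim Q hex (reflGO Q v hv) 1 (fun w => by
    rw [Units.val_one, one_mul]; exact Spin.isom_apply Q (reflO Q v hv) w)]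
  rw [Units.val_one, map_one]

theorem sgn_reflGO (hex : ∃ v : ι → F, Q v ≠ 0) (k : ℕ) (v : ι → F) (hv : Q v ≠ 0) :
    sgn Q k (reflGO Q v hv) = -1 := by
  unfold sgn
  rw [mu_of_sim Q hex (reflGO Q v hv) 1 (fun w => by
    rw [Units.val_one, one_mul]; exact Spin.isom_apply Q (reflO Q v hv) w)]
  rw [Units.val_one, inv_one, one_pow, mul_one]
  exact Spin.refl_det Q hv

/-- an anisotropic binary form over a finite field of odd order represents every scalar -/
theorem exists_binary_eq (h2 : (2 : F) ≠ 0) (a b : F) (hd : 4 * b - a ^ 2 ≠ 0) (c : F) :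
    ∃ t₁ t₂ : F, t₁ ^ 2 + a * t₁ * t₂ + b * t₂ ^ 2 = c := by
  have h4 : (4 : F) ≠ 0 := by
    have : (4 : F) = 2 * 2 := by norm_num
    rw [this]; exact mul_ne_zero h2 h2
  set d := (4 * b - a ^ 2) / 4 with hd'
  have hd0 : d ≠ 0 := div_ne_zero hd h4
  have hodd : Fintype.card F % 2 = 1 := Nat.odd_iff.1 (Cfsg.Agent.Helper28.Spin.card_odd h2)
  have hf : (Polynomial.X ^ 2 : Polynomial F).degree = 2 := Polynomial.degree_X_pow 2
  have hg : (Polynomial.C d * Polynomial.X ^ 2 - Polynomial.C c).degree = 2 := by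
    have hdd := Polynomial.degree_C_mul_X_pow 2 hd0
    rw [Polynomial.degree_sub_C (by rw [hdd]; norm_num), hdd]
    rfl
  obtain ⟨x, y, hxy⟩ := FiniteField.exists_root_sum_quadratic hf hg hodd
  simp only [Polynomial.eval_mul, Polynomial.eval_C, Polynomial.eval_pow, Polynomial.eval_X,
    Polynomial.eval_sub] at hxy
  refine ⟨x - a / 2 * y, y, ?_⟩
  rw [hd'] at hxy
  field_simp at hxy ⊢
  linear_combination hxy

end main

end Cfsg.Agent.Helper28.PG
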