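import Mathlib
import Cfsg.Agent.Helper28.PgoAut4
import Cfsg.Agent.Helper28.D4Equiv

set_option autoImplicit false
set_option linter.unusedSectionVars false

/-! `PGO / Inn ≅ D₈` when `-1 ∈ Ω`. -/

namespace Cfsg.Agent.Helper28.PG

open Matrix Module Cfsg.Agent.Helper28.Spin Cfsg.Agent.Helper28.IsoTransport
  Cfsg.Agent.Helper28.Sg Cfsg.Agent.Helper28.PA
open scoped commutatorElement

variable {F : Type*} [Field F] [Fintype F] [DecidableEq F] {ι : Type} [Fintype ι] [DecidableEq ι]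
  (Q : QuadraticForm F (ι → F))

/-- the inclusion of the isometry group in the similarity group -/
noncomputable def oGO : ↥(Cfsg.isometryGroup F ⇑Q) →* ↥(GO Q) := Subgroup.inclusion (O_le_GO Q)

theorem oGO_coe (s : ↥(Cfsg.isometryGroup F ⇑Q)) : ((oGO Q s : ↥(GO Q)) : GL ι F) = (s : GL ι F) :=
  rfl

theorem cG_oGO (s : ↥(Cfsg.isometryGroup F ⇑Q)) : cG Q (oGO Q s) = cAut Q s := by
  ext x
  induction x using QuotientGroup.induction_on with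
  | H t =>
    rw [cG_mk, cAut_mk]
    congr 1

theorem conj_oGO (g : ↥(GO Q)) (s : ↥(Cfsg.isometryGroup F ⇑Q)) :
    g * oGO Q s * g⁻¹ = oGO Q (conjO Q g s) := by
  apply Subtype.ext
  rfl

theorem conjO_reflO (g : ↥(GO Q)) (v : ι → F) (hv : Q v ≠ 0)
    (hv' : Q (((g : GL ι F) : Matrix ι ι F) *ᵥ v) ≠ 0) :
    conjO Q g (reflO Q v hv) = reflO Q (((g : GL ι F) : Matrix ι ι F) *ᵥ v) hv' := by
  apply Subtype.ext
  rw [conjO_coe, mul_inv_eq_iff_eq_mul]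
  apply Units.ext
  apply Cfsg.Agent.Helper28.Spin.matrix_ext_mulVec
  intro x
  simp only [Units.val_mul, reflO_val]
  rw [← Matrix.mulVec_mulVec, ← Matrix.mulVec_mulVec, refl_mulVec, refl_mulVec]
  have h1 := polar_sim Q g v x
  unfold B at h1
  rw [h1, mu_spec, Matrix.mulVec_sub, Matrix.mulVec_smul]
  congr 2
  have hμ : (mu Q g : F) ≠ 0 := Units.ne_zero _
  field_simp

theorem Omega_le_SO' : Cfsg.Omega F ⇑Q ≤ SO' Q := by
  intro g hg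
  exact MonoidHom.mem_ker.2 (hom_eq_one_of_mem_Omega Q (detHom Q) hg)

theorem Omega_relIndex_SO' (hQ : (QuadraticMap.polarBilin Q).Nondegenerate) (h2 : (2 : F) ≠ 0)
    (hN : 2 ≤ Fintype.card ι) : (Cfsg.Omega F ⇑Q).relIndex (SO' Q) = 2 := by
  have h1 := Subgroup.relIndex_mul_index (Omega_le_SO' Q)
  rw [SO'_index Q hQ h2 hN, OC.index_Omega_odd Q h2 hQ hN] at h1
  omega

theorem Inn_le_psoAut : Cfsg.Inn (Cfsg.POmega F ⇑Q) ≤ Cfsg.psoAut F ⇑Q := by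
  rw [Inn_eq, PA.psoAut_eq]
  exact Subgroup.map_mono (Omega_le_SO' Q)

/-- an isometry outside `Ω` does not induce an inner automorphism, when `-1 ∈ Ω` -/
theorem cAut_not_mem_Inn (hQ : (QuadraticMap.polarBilin Q).Nondegenerate) (h2 : (2 : F) ≠ 0)
    (h6 : 6 ≤ Fintype.card ι)
    (hneg : ∃ g : ↥(Cfsg.isometryGroup F ⇑Q), g ∈ Cfsg.Omega F ⇑Q ∧
        ((g : GL ι F) : Matrix ι ι F) = -1)
    (s : ↥(Cfsg.isometryGroup F ⇑Q)) (hs : s ∉ Cfsg.Omega F ⇑Q) :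
    cAut Q s ∉ Cfsg.Inn (Cfsg.POmega F ⇑Q) := by
  rw [Inn_eq]
  rintro ⟨ω, hω, hωs⟩
  apply hs
  have hk : ω⁻¹ * s ∈ (cAut Q).ker := by
    rw [MonoidHom.mem_ker, map_mul, map_inv, hωs, inv_mul_cancel]
  have hmem : ω⁻¹ * s ∈ Cfsg.Omega F ⇑Q := by
    rcases ker_cases Q hQ h2 h6 _ hk with h | h
    · have : ω⁻¹ * s = 1 := Subtype.ext (Units.ext h)
      rw [this]; exact Subgroup.one_mem _
    · obtain ⟨g, hgΩ, hg⟩ := hneg
      have : ω⁻¹ * s = g := Subtype.ext (Units.ext (by rw [h, hg]))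
      rw [this]; exact hgΩ
  have : s = ω * (ω⁻¹ * s) := by group
  rw [this]
  exact Subgroup.mul_mem _ hω hmem

theorem cAut_mem_Inn (s : ↥(Cfsg.isometryGroup F ⇑Q)) (hs : s ∈ Cfsg.Omega F ⇑Q) :
    cAut Q s ∈ Cfsg.Inn (Cfsg.POmega F ⇑Q) := by
  rw [Inn_eq]
  exact ⟨s, hs, rfl⟩

/-- the product of two reflections whose norms have a non-square product is not in `Ω` -/
theorem refl_mul_not_mem (h2 : (2 : F) ≠ 0) (v w : ι → F) (hv : Q v ≠ 0) (hw : Q w ≠ 0)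
    (hns : ¬ IsSquare (Q v * Q w)) : reflO Q v hv * reflO Q w hw ∉ Cfsg.Omega F ⇑Q := by
  have e : reflO Q v hv * reflO Q w hw = prodO Q [⟨v, hv⟩, ⟨w, hw⟩] := by
    rw [prodO_cons, prodO_cons, prodO_nil, mul_one]
  rw [e, prodO_mem_Omega_iff Q h2]
  rintro ⟨-, hsq⟩
  apply hns
  have : normProd Q [⟨v, hv⟩, ⟨w, hw⟩] = Q v * Q w := by
    simp [normProd]
  rw [← this]
  exact hsq

theorem refl_mul_mem_SO' (v w : ι → F) (hv : Q v ≠ 0) (hw : Q w ≠ 0) :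
    reflO Q v hv * reflO Q w hw ∈ SO' Q := by
  unfold SO'
  rw [MonoidHom.mem_ker, map_mul, detHom_reflO Q ⟨v, hv⟩, detHom_reflO Q ⟨w, hw⟩]
  simp

/-- the general statement: `PGO / Inn ≅ D₈` when `-1 ∈ Ω` -/
theorem pgo_mod_inn_D4 (hQ : (QuadraticMap.polarBilin Q).Nondegenerate) (fr : Frame3 Q)
    (h2 : (2 : F) ≠ 0) (hperf : commutator ↥(Cfsg.Omega F ⇑Q) = ⊤) {k : ℕ}
    (hk : Fintype.card ι = 2 * k) (h6 : 6 ≤ Fintype.card ι)
    (hneg : ∃ g : ↥(Cfsg.isometryGroup F ⇑Q), g ∈ Cfsg.Omega F ⇑Q ∧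
        ((g : GL ι F) : Matrix ι ι F) = -1)
    (v : ι → F) (hv : Q v ≠ 0) (h : ↥(GO Q)) (hh : chi Q h = -1) :
    ∃ φ : ↥(Cfsg.pgoAut F ⇑Q) →* DihedralGroup 4, Function.Surjective φ ∧
      φ.ker = (Cfsg.Inn (Cfsg.POmega F ⇑Q)).subgroupOf (Cfsg.pgoAut F ⇑Q) := by
  classical
  have hex : ∃ v : ι → F, Q v ≠ 0 := ⟨v, hv⟩
  have heven : Even (Fintype.card ι) := ⟨k, by omega⟩
  obtain ⟨φ₀, hφ₀s, hφ₀k⟩ := pgo_mod_pso Q hQ fr h2 hperf hk (reflGO Q v hv)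
    (chi_reflGO Q hex v hv) (sgn_reflGO Q hex k v hv) h hh
  have hrel1 := (relIndex_Inn_psoAut Q hQ h2 h6 heven).1 hneg
  have hle1 : Cfsg.Inn (Cfsg.POmega F ⇑Q) ≤ Cfsg.psoAut F ⇑Q := by
    rw [Inn_eq, PA.psoAut_eq]
    exact Subgroup.map_mono (Omega_le_SO' Q)
  have hle2 : Cfsg.psoAut F ⇑Q ≤ Cfsg.pgoAut F ⇑Q := by
    rw [PG.psoAut_eq, pgoAut_eq]
    exact Subgroup.map_le_range _ _
  have hrel2 : (Cfsg.psoAut F ⇑Q).relIndex (Cfsg.pgoAut F ⇑Q) = 4 := by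
    unfold Subgroup.relIndex
    rw [← hφ₀k, Subgroup.index_ker, MonoidHom.range_eq_top.2 hφ₀s, Subgroup.card_top,
      Nat.card_eq_fintype_card, Fintype.card_multiplicative, Fintype.card_prod, ZMod.card]
  have hrel : (Cfsg.Inn (Cfsg.POmega F ⇑Q)).relIndex (Cfsg.pgoAut F ⇑Q) = 8 := by
    rw [← Subgroup.relIndex_mul_relIndex _ _ _ hle1 hle2, hrel1, hrel2]
  obtain ⟨N, hN⟩ : ∃ N : Subgroup ↥(Cfsg.pgoAut F ⇑Q),
      N = (Cfsg.Inn (Cfsg.POmega F ⇑Q)).subgroupOf (Cfsg.pgoAut F ⇑Q) := ⟨_, rfl⟩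
  haveI hNn : N.Normal := by rw [hN]; infer_instance
  have h8 : Nat.card (↥(Cfsg.pgoAut F ⇑Q) ⧸ N) = 8 := by
    rw [← Subgroup.index_eq_card, hN]
    exact hrel
  let cG' : ↥(GO Q) →* ↥(Cfsg.pgoAut F ⇑Q) :=
    (cG Q).codRestrict _ (fun g => by rw [pgoAut_eq]; exact ⟨g, rfl⟩)
  have hcG' : ∀ g, ((cG' g : ↥(Cfsg.pgoAut F ⇑Q)) : MulAut (Cfsg.POmega F ⇑Q)) = cG Q g :=
    fun g => rfl
  -- the elements
  have hμ0 : (mu Q h : F) ≠ 0 := Units.ne_zero _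
  have hQw : Q (((h : GL ι F) : Matrix ι ι F) *ᵥ v) = (mu Q h : F) * Q v := mu_spec Q h v
  have hw : Q (((h : GL ι F) : Matrix ι ι F) *ᵥ v) ≠ 0 := by rw [hQw]; exact mul_ne_zero hμ0 hv
  have hμns : ¬ IsSquare (mu Q h : F) := by
    intro hsq
    have : chi Q h = 1 := by
      unfold chi
      rw [quadraticChar_one_iff_isSquare hμ0]
      exact hsq
    rw [this] at hh
    norm_num at hh
  have hns1 : ¬ IsSquare (Q v * Q (((h : GL ι F) : Matrix ι ι F) *ᵥ v)) := by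
    rintro ⟨r, hr⟩
    apply hμns
    refine ⟨r * (Q v)⁻¹, ?_⟩
    rw [hQw] at hr
    field_simp
    linear_combination hr
  have hns2 : ¬ IsSquare (Q (((h : GL ι F) : Matrix ι ι F) *ᵥ v) * Q v) := by
    rw [mul_comm]; exact hns1
  obtain ⟨rx, hrx⟩ : ∃ rx : ↥(Cfsg.isometryGroup F ⇑Q), rx = reflO Q v hv := ⟨_, rfl⟩
  obtain ⟨ry, hry⟩ : ∃ ry : ↥(Cfsg.isometryGroup F ⇑Q),
      ry = reflO Q (((h : GL ι F) : Matrix ι ι F) *ᵥ v) hw := ⟨_, rfl⟩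
  have hrx2 : rx * rx = 1 := by rw [hrx, reflO_mul_self]
  have hry2 : ry * ry = 1 := by rw [hry, reflO_mul_self]
  have hrconj : conjO Q h rx = ry := by rw [hrx, hry, conjO_reflO Q h v hv hw]
  have hnot2 : ry * rx ∉ Cfsg.Omega F ⇑Q := by
    rw [hrx, hry]; exact refl_mul_not_mem Q h2 _ _ hw hv hns2
  have hSO2 : ry * rx ∈ SO' Q := by
    rw [hrx, hry]; exact refl_mul_mem_SO' Q _ _ hw hv
  have hcommΩ : rx * ry * rx * ry ∈ Cfsg.Omega F ⇑Q := by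
    have hrxinv : rx⁻¹ = rx := inv_eq_of_mul_eq_one_left hrx2
    have hryinv : ry⁻¹ = ry := inv_eq_of_mul_eq_one_left hry2
    have : ⁅rx, ry⁆ ∈ Cfsg.Omega F ⇑Q :=
      Subgroup.commutator_mem_commutator (Subgroup.mem_top _) (Subgroup.mem_top _)
    rw [commutatorElement_def, hrxinv, hryinv] at this
    exact this
  have hsq : ∃ s' ∈ SO' Q, cG' (h * h) = cG' (oGO Q s') := by
    have hchi2 : chi Q (h * h) = 1 := by
      rw [chi_mul Q hex, hh]; norm_num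
    have hsgn2 : sgn Q k (h * h) = 1 := by
      rw [sgn_mul Q hex]
      rcases sgn_cases Q hQ hk h with h' | h' <;> rw [h'] <;> ring
    obtain ⟨s, hs, hcs⟩ := exists_SO_of_ker Q hex hk (h * h) hchi2 hsgn2
    have hs' := (mem_SOg_iff Q s).1 hs
    obtain ⟨s', hs'def⟩ : ∃ s' : ↥(Cfsg.isometryGroup F ⇑Q), (s' : GL ι F) = (s : GL ι F) :=
      ⟨⟨(s : GL ι F), hs'.1⟩, rfl⟩
    have hso : s = oGO Q s' := by
      apply Subtype.ext
      rw [oGO_coe, hs'def]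
    refine ⟨s', ?_, ?_⟩
    · unfold SO'
      rw [MonoidHom.mem_ker]
      apply Units.ext
      rw [detHom_val, hs'def, hs'.2]
      rfl
    · apply Subtype.ext
      rw [hcG', hcG', hcs, hso]
  obtain ⟨E⟩ := D4.equiv_of_data N h8 (oGO Q) cG' (Cfsg.Omega F ⇑Q) (SO' Q)
    (Omega_relIndex_SO' Q hQ h2 (by omega))
    (fun s hs => by
      rw [hN, Subgroup.mem_subgroupOf, hcG', cG_oGO]
      exact cAut_mem_Inn Q s hs)
    (fun s hs hc => by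
      rw [hN, Subgroup.mem_subgroupOf, hcG', cG_oGO] at hc
      exact cAut_not_mem_Inn Q hQ h2 h6 hneg s hs hc)
    rx ry hrx2 hry2 h (by rw [conj_oGO, hrconj]) hcommΩ hnot2 hSO2 hsq
  refine ⟨E.symm.toMonoidHom.comp (QuotientGroup.mk' N), ?_, ?_⟩
  · exact E.symm.surjective.comp (QuotientGroup.mk'_surjective N)
  · ext a
    rw [MonoidHom.mem_ker, MonoidHom.comp_apply]
    show E.symm (QuotientGroup.mk' N a) = 1 ↔ _
    rw [MulEquiv.map_eq_one_iff, QuotientGroup.mk'_apply, QuotientGroup.eq_one_iff, hN]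

end Cfsg.Agent.Helper28.PG
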