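import Mathlib
import Cfsg.Agent.Helper28.PgoAut5
import Cfsg.Agent.Helper28.WittOmega
import Cfsg.Agent.Helper28.TwoRankLow

set_option autoImplicit false
set_option linter.unusedSectionVars false

/-! Involutory similarities: elements of `SO \ Ω` commuting with them (part 1). -/

namespace Cfsg.Agent.Helper28.GInv

open Matrix Module Cfsg.Agent.Helper28.Spin Cfsg.Agent.Helper28.IsoTransport
  Cfsg.Agent.Helper28.Sg Cfsg.Agent.Helper28.PA Cfsg.Agent.Helper28.PG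

variable {F : Type*} [Field F] [Fintype F] [DecidableEq F] {ι : Type} [Fintype ι] [DecidableEq ι]
  (Q : QuadraticForm F (ι → F))

/-- the matrix of a similarity -/
abbrev mg (g : ↥(GO Q)) : Matrix ι ι F := ((g : GL ι F) : Matrix ι ι F)

/-- a nonsingular vector orthogonal to its image, multiplier a non-square -/
theorem exists_of_orth (h2 : (2 : F) ≠ 0) (g : ↥(GO Q)) (l : F)
    (hl : ∀ x, mg Q g *ᵥ (mg Q g *ᵥ x) = l • x) (v : ι → F) (hv : Q v ≠ 0)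
    (hvg : B Q v (mg Q g *ᵥ v) = 0) (hns : ¬ IsSquare (mu Q g : F)) :
    ∃ s : ↥(Cfsg.isometryGroup F ⇑Q), s ∈ SO' Q ∧ s ∉ Cfsg.Omega F ⇑Q ∧ conjO Q g s = s := by
  have hμ0 : (mu Q g : F) ≠ 0 := Units.ne_zero _
  have hQw : Q (mg Q g *ᵥ v) = (mu Q g : F) * Q v := mu_spec Q g v
  have hw : Q (mg Q g *ᵥ v) ≠ 0 := by rw [hQw]; exact mul_ne_zero hμ0 hv
  have hl0 : l ≠ 0 := by
    rintro rfl
    have h1 := hl v
    rw [zero_smul] at h1
    have h3 : Q (mg Q g *ᵥ (mg Q g *ᵥ v)) = (mu Q g : F) * ((mu Q g : F) * Q v) := by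
      rw [mu_spec, mu_spec]
    rw [h1, map_zero] at h3
    exact mul_ne_zero hμ0 (mul_ne_zero hμ0 hv) h3.symm
  have hlv : Q (l • v) ≠ 0 := by
    rw [Q_smul]
    exact mul_ne_zero (mul_ne_zero hl0 hl0) hv
  have hww : Q (mg Q g *ᵥ (mg Q g *ᵥ v)) ≠ 0 := by rw [hl]; exact hlv
  refine ⟨reflO Q v hv * reflO Q _ hw, refl_mul_mem_SO' Q _ _ hv hw, ?_, ?_⟩
  · apply refl_mul_not_mem Q h2 _ _ hv hw
    rintro ⟨r, hr⟩
    apply hns
    refine ⟨r * (Q v)⁻¹, ?_⟩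
    rw [hQw] at hr
    field_simp
    linear_combination hr
  · rw [map_mul, conjO_reflO Q g v hv hw, conjO_reflO Q g _ hw hww,
      reflO_congr' (hl v) hww hlv, reflO_smul Q v hv hl0 hlv]
    exact (TR.reflO_comm Q v _ hv hw hvg).symm

/-- an eigenspace of dimension at least two on which the form is nondegenerate -/
theorem exists_of_eigen (h2 : (2 : F) ≠ 0) (g : ↥(GO Q)) (T : Submodule F (ι → F))
    (hT : T ⊓ LinearMap.BilinForm.orthogonal (QuadraticMap.polarBilin Q) T = ⊥)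
    (h2T : 2 ≤ finrank F T) (c : F) (hc : c ≠ 0) (hTc : ∀ x ∈ T, mg Q g *ᵥ x = c • x) :
    ∃ s : ↥(Cfsg.isometryGroup F ⇑Q), s ∈ SO' Q ∧ s ∉ Cfsg.Omega F ⇑Q ∧ conjO Q g s = s := by
  obtain ⟨ν, hν⟩ := FiniteField.exists_nonsquare (F := F) (by
    intro h
    apply h2
    have := ringChar.Nat.cast_ringChar (R := F)
    rw [h] at this
    exact_mod_cast this)
  have hν0 : ν ≠ 0 := by
    rintro rfl
    exact hν ⟨0, by simp⟩
  obtain ⟨u, huT, hQu⟩ := WO.exists_mem_eq Q T hT h2T 1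
  obtain ⟨u', hu'T, hQu'⟩ := WO.exists_mem_eq Q T hT h2T ν
  have hu : Q u ≠ 0 := by rw [hQu]; exact one_ne_zero
  have hu' : Q u' ≠ 0 := by rw [hQu']; exact hν0
  have hcu : Q (c • u) ≠ 0 := by
    rw [Q_smul]; exact mul_ne_zero (mul_ne_zero hc hc) hu
  have hcu' : Q (c • u') ≠ 0 := by
    rw [Q_smul]; exact mul_ne_zero (mul_ne_zero hc hc) hu'
  have hgu : Q (mg Q g *ᵥ u) ≠ 0 := by rw [hTc u huT]; exact hcu
  have hgu' : Q (mg Q g *ᵥ u') ≠ 0 := by rw [hTc u' hu'T]; exact hcu'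
  refine ⟨reflO Q u hu * reflO Q u' hu', refl_mul_mem_SO' Q _ _ hu hu', ?_, ?_⟩
  · apply refl_mul_not_mem Q h2 _ _ hu hu'
    rw [hQu, hQu', one_mul]
    exact hν
  · rw [map_mul, conjO_reflO Q g u hu hgu, conjO_reflO Q g u' hu' hgu',
      reflO_congr' (hTc u huT) hgu hcu, reflO_congr' (hTc u' hu'T) hgu' hcu',
      reflO_smul Q u hu hc hcu, reflO_smul Q u' hu' hc hcu']

end Cfsg.Agent.Helper28.GInv
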