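import Mathlib
import Cfsg.Agent.Helper28.GraphInv1
import Cfsg.Agent.Helper13.QuadWitt

set_option autoImplicit false
set_option linter.unusedSectionVars false

/-! Involutory similarities (part 2): adjoints and the self-adjoint non-square case. -/

namespace Cfsg.Agent.Helper28.GInv

open Matrix Module Cfsg.Agent.Helper28.Spin Cfsg.Agent.Helper28.IsoTransport
  Cfsg.Agent.Helper28.Sg Cfsg.Agent.Helper28.PA Cfsg.Agent.Helper28.PG

variable {F : Type*} [Field F] [Fintype F] [DecidableEq F] {ι : Type} [Fintype ι] [DecidableEq ι]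
  (Q : QuadraticForm F (ι → F))

theorem l_ne_zero (hex : ∃ v : ι → F, Q v ≠ 0) (g : ↥(GO Q)) (l : F)
    (hl : ∀ x, mg Q g *ᵥ (mg Q g *ᵥ x) = l • x) : l ≠ 0 := by
  obtain ⟨v, hv⟩ := hex
  have hμ0 : (mu Q g : F) ≠ 0 := Units.ne_zero _
  rintro rfl
  have h1 := hl v
  rw [zero_smul] at h1
  have h3 : Q (mg Q g *ᵥ (mg Q g *ᵥ v)) = (mu Q g : F) * ((mu Q g : F) * Q v) := by
    rw [mu_spec, mu_spec]
  rw [h1, map_zero] at h3
  exact mul_ne_zero hμ0 (mul_ne_zero hμ0 hv) h3.symm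

theorem mu_cases (hex : ∃ v : ι → F, Q v ≠ 0) (g : ↥(GO Q)) (l : F)
    (hl : ∀ x, mg Q g *ᵥ (mg Q g *ᵥ x) = l • x) :
    (mu Q g : F) = l ∨ (mu Q g : F) = -l := by
  obtain ⟨v, hv⟩ := hex
  have h3 : Q (mg Q g *ᵥ (mg Q g *ᵥ v)) = (mu Q g : F) * ((mu Q g : F) * Q v) := by
    rw [mu_spec, mu_spec]
  rw [hl, Q_smul] at h3
  have h4 : (((mu Q g : F) - l) * ((mu Q g : F) + l)) * Q v = 0 := by linear_combination -h3
  rcases mul_eq_zero.1 h4 with h | h
  · rcases mul_eq_zero.1 h with h | h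
    · left; linear_combination h
    · right; linear_combination h
  · exact absurd h hv

theorem adj_self (hex : ∃ v : ι → F, Q v ≠ 0) (g : ↥(GO Q)) (l : F)
    (hl : ∀ x, mg Q g *ᵥ (mg Q g *ᵥ x) = l • x) (hμ : (mu Q g : F) = l) (x y : ι → F) :
    B Q (mg Q g *ᵥ x) y = B Q x (mg Q g *ᵥ y) := by
  have hl0 := l_ne_zero Q hex g l hl
  have h1 := polar_sim Q g x (mg Q g *ᵥ y)
  rw [hl, hμ] at h1
  simp only [B, QuadraticMap.polar_smul_right, smul_eq_mul] at h1 ⊢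
  exact mul_left_cancel₀ hl0 h1

theorem adj_skew (hex : ∃ v : ι → F, Q v ≠ 0) (g : ↥(GO Q)) (l : F)
    (hl : ∀ x, mg Q g *ᵥ (mg Q g *ᵥ x) = l • x) (hμ : (mu Q g : F) = -l) (x y : ι → F) :
    B Q (mg Q g *ᵥ x) y = - B Q x (mg Q g *ᵥ y) := by
  have hl0 := l_ne_zero Q hex g l hl
  have h1 := polar_sim Q g x (mg Q g *ᵥ y)
  rw [hl, hμ] at h1
  simp only [B, QuadraticMap.polar_smul_right, smul_eq_mul] at h1 ⊢
  apply mul_left_cancel₀ hl0
  linear_combination h1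

/-- the skew-adjoint case: every vector is orthogonal to its image -/
theorem orth_of_skew (h2 : (2 : F) ≠ 0) (hex : ∃ v : ι → F, Q v ≠ 0) (g : ↥(GO Q)) (l : F)
    (hl : ∀ x, mg Q g *ᵥ (mg Q g *ᵥ x) = l • x) (hμ : (mu Q g : F) = -l) (x : ι → F) :
    B Q x (mg Q g *ᵥ x) = 0 := by
  have h1 := adj_skew Q hex g l hl hμ x x
  rw [B_comm] at h1
  have h3 : (2 : F) * B Q x (mg Q g *ᵥ x) = 0 := by linear_combination h1
  rcases mul_eq_zero.1 h3 with h | h
  · exact absurd h h2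
  · exact h

/-- the form `x ↦ B(x, g x)` -/
noncomputable def twForm (g : ↥(GO Q)) : QuadraticForm F (ι → F) :=
  LinearMap.BilinMap.toQuadraticMap
    ((QuadraticMap.polarBilin Q).compl₂ (Matrix.toLin' (mg Q g)))

theorem twForm_apply (g : ↥(GO Q)) (x : ι → F) : twForm Q g x = B Q x (mg Q g *ᵥ x) := by
  unfold twForm
  rw [LinearMap.BilinMap.toQuadraticMap_apply, LinearMap.compl₂_apply, Matrix.toLin'_apply]
  rfl

/-- self-adjoint with non-square multiplier: a nonsingular vector orthogonal to its image -/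
theorem exists_orth_self (hQ : (QuadraticMap.polarBilin Q).Nondegenerate) (h2 : (2 : F) ≠ 0)
    (h3 : 3 ≤ Fintype.card ι)
    (hex : ∃ v : ι → F, Q v ≠ 0) (g : ↥(GO Q)) (l : F)
    (hl : ∀ x, mg Q g *ᵥ (mg Q g *ᵥ x) = l • x) (hμ : (mu Q g : F) = l)
    (hns : ¬ IsSquare l) :
    ∃ v : ι → F, Q v ≠ 0 ∧ B Q v (mg Q g *ᵥ v) = 0 := by
  have hl0 := l_ne_zero Q hex g l hl
  have hadj := adj_self Q hex g l hl hμ
  obtain ⟨v₀, hv₀, hv₀g⟩ := Cfsg.Agent.Helper13.exists_singular (twForm Q g)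
    (by rw [Module.finrank_fintype_fun_eq_card]; exact h3)
  rw [twForm_apply] at hv₀g
  by_cases hQv₀ : Q v₀ = 0
  swap
  · exact ⟨v₀, hQv₀, hv₀g⟩
  -- a vector not orthogonal to `v₀`
  obtain ⟨w, hw⟩ : ∃ w, B Q w v₀ ≠ 0 := by
    by_contra hcon
    push Not at hcon
    apply hv₀
    apply hQ.2 v₀
    intro w
    exact hcon w
  set G := mg Q g with hG
  set p := B Q w v₀ with hp
  set r := B Q w (G *ᵥ v₀) with hr
  set A := B Q w (G *ᵥ w) with hA
  set C := 1 - Q w with hC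
  obtain ⟨D, hDdef⟩ : ∃ D : F, D = r ^ 2 - l * p ^ 2 := ⟨_, rfl⟩
  have hD : D ≠ 0 := by
    intro h
    rw [hDdef] at h
    apply hns
    refine ⟨r * p⁻¹, ?_⟩
    field_simp
    linear_combination -h
  set x := (-A * r - 2 * l * p * C) / (2 * D) with hx
  set y := (2 * r * C + A * p) / (2 * D) with hy
  have e1 : 2 * r * x + 2 * l * p * y = -A := by
    rw [hx, hy]; field_simp; rw [hDdef]; ring
  have e2 : p * x + r * y = C := by
    rw [hx, hy]; field_simp; rw [hDdef]; ring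
  -- facts
  have hGG : G *ᵥ (G *ᵥ v₀) = l • v₀ := hl v₀
  have hQG : Q (G *ᵥ v₀) = 0 := by rw [hG, mu_spec, hQv₀, mul_zero]
  have hv₀v₀ : B Q v₀ v₀ = 0 := B_self_of_singular Q hQv₀
  have hGv₀w : B Q v₀ (G *ᵥ w) = r := by
    rw [hr, ← hadj, B_comm]
  have hGvGw : B Q (G *ᵥ v₀) (G *ᵥ w) = l * p := by
    rw [hG, polar_sim, hμ, hp, B_comm]
  have hGvGv : B Q (G *ᵥ v₀) (G *ᵥ v₀) = 0 := B_self_of_singular Q hQG
  have hGvv : B Q (G *ᵥ v₀) v₀ = 0 := by rw [B_comm]; exact hv₀g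
  refine ⟨w + x • v₀ + y • (G *ᵥ v₀), ?_, ?_⟩
  · have : Q (w + x • v₀ + y • (G *ᵥ v₀)) = 1 := by
      rw [Q_add, Q_add, Q_smul, Q_smul, hQv₀, hQG]
      simp only [B, QuadraticMap.polar_add_left, QuadraticMap.polar_smul_left,
        QuadraticMap.polar_smul_right, smul_eq_mul] at hv₀g hp hr ⊢
      rw [hv₀g, ← hp, ← hr]
      linear_combination e2
    rw [this]
    exact one_ne_zero
  · rw [Matrix.mulVec_add, Matrix.mulVec_add, Matrix.mulVec_smul, Matrix.mulVec_smul, hGG]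
    simp only [B, QuadraticMap.polar_add_left, QuadraticMap.polar_add_right,
      QuadraticMap.polar_smul_left, QuadraticMap.polar_smul_right, smul_eq_mul] at *
    rw [hGv₀w, hGvGw, hGvGv, hGvv, hv₀v₀, hv₀g, ← hA, ← hr, ← hp]
    linear_combination e1

end Cfsg.Agent.Helper28.GInv
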