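import Mathlib
import Cfsg.Agent.Helper28.GraphInv2

set_option autoImplicit false
set_option linter.unusedSectionVars false

/-! Involutory similarities (part 3): the self-adjoint case with square multiplier. -/

namespace Cfsg.Agent.Helper28.GInv

open Matrix Module Cfsg.Agent.Helper28.Spin Cfsg.Agent.Helper28.IsoTransport
  Cfsg.Agent.Helper28.Sg Cfsg.Agent.Helper28.PA Cfsg.Agent.Helper28.PG

variable {F : Type*} [Field F] [Fintype F] [DecidableEq F] {ι : Type} [Fintype ι] [DecidableEq ι]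
  (Q : QuadraticForm F (ι → F))

/-- the eigenspace of a similarity -/
def eig (g : ↥(GO Q)) (c : F) : Submodule F (ι → F) where
  carrier := {x | mg Q g *ᵥ x = c • x}
  zero_mem' := by simp
  add_mem' := by
    intro x y hx hy
    simp only [Set.mem_setOf_eq] at hx hy ⊢
    rw [Matrix.mulVec_add, hx, hy, smul_add]
  smul_mem' := by
    intro a x hx
    simp only [Set.mem_setOf_eq] at hx ⊢
    rw [Matrix.mulVec_smul, hx, smul_comm]

theorem mem_eig (g : ↥(GO Q)) (c : F) (x : ι → F) : x ∈ eig Q g c ↔ mg Q g *ᵥ x = c • x :=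
  Iff.rfl

theorem eig_sup (h2 : (2 : F) ≠ 0) (g : ↥(GO Q)) (c : F) (hc : c ≠ 0)
    (hl : ∀ x, mg Q g *ᵥ (mg Q g *ᵥ x) = (c * c) • x) : eig Q g c ⊔ eig Q g (-c) = ⊤ := by
  rw [eq_top_iff]
  intro x _
  have h2c : (2 * c) ≠ 0 := mul_ne_zero h2 hc
  have e : x = (2 * c)⁻¹ • (c • x + mg Q g *ᵥ x) + (2 * c)⁻¹ • (c • x - mg Q g *ᵥ x) := by
    rw [← smul_add]
    have : c • x + mg Q g *ᵥ x + (c • x - mg Q g *ᵥ x) = (2 * c) • x := by
      rw [mul_smul, two_smul]; abel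
    rw [this, smul_smul, inv_mul_cancel₀ h2c, one_smul]
  rw [e]
  apply Submodule.add_mem_sup
  · apply Submodule.smul_mem
    rw [mem_eig, Matrix.mulVec_add, Matrix.mulVec_smul, hl, smul_add, mul_smul]
    abel
  · apply Submodule.smul_mem
    rw [mem_eig, Matrix.mulVec_sub, Matrix.mulVec_smul, hl, smul_sub, mul_smul, neg_smul, neg_smul]
    abel

theorem eig_orth (h2 : (2 : F) ≠ 0) (g : ↥(GO Q)) (c : F) (hc : c ≠ 0)
    (hadj : ∀ x y, B Q (mg Q g *ᵥ x) y = B Q x (mg Q g *ᵥ y)) {x y : ι → F}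
    (hx : x ∈ eig Q g c) (hy : y ∈ eig Q g (-c)) : B Q x y = 0 := by
  have h1 := hadj x y
  rw [(mem_eig Q g c x).1 hx, (mem_eig Q g (-c) y).1 hy] at h1
  simp only [B, QuadraticMap.polar_smul_left, QuadraticMap.polar_smul_right, smul_eq_mul] at h1 ⊢
  have h3 : (2 * c) * QuadraticMap.polar (⇑Q) x y = 0 := by linear_combination h1
  rcases mul_eq_zero.1 h3 with h | h
  · exact absurd h (mul_ne_zero h2 hc)
  · exact h

theorem eig_nondeg (hQ : (QuadraticMap.polarBilin Q).Nondegenerate) (T T' : Submodule F (ι → F))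
    (hsup : T ⊔ T' = ⊤) (horth : ∀ x ∈ T, ∀ y ∈ T', B Q x y = 0) :
    T ⊓ LinearMap.BilinForm.orthogonal (QuadraticMap.polarBilin Q) T = ⊥ := by
  rw [eq_bot_iff]
  rintro x ⟨hxT, hxo⟩
  rw [Submodule.mem_bot]
  apply hQ.1 x
  intro z
  have hz : z ∈ T ⊔ T' := by rw [hsup]; exact Submodule.mem_top
  obtain ⟨z₁, hz₁, z₂, hz₂, rfl⟩ := Submodule.mem_sup.1 hz
  rw [map_add]
  have h1 : QuadraticMap.polarBilin Q x z₁ = 0 := by
    have := (LinearMap.BilinForm.mem_orthogonal_iff.1 hxo) z₁ hz₁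
    show QuadraticMap.polar (⇑Q) x z₁ = 0
    rw [QuadraticMap.polar_comm]
    exact this
  have h2 : QuadraticMap.polarBilin Q x z₂ = 0 := horth x hxT z₂ hz₂
  rw [h1, h2, add_zero]

/-- self-adjoint with square multiplier -/
theorem exists_of_self_square (hQ : (QuadraticMap.polarBilin Q).Nondegenerate) (h2 : (2 : F) ≠ 0)
    (h3 : 3 ≤ Fintype.card ι) (hex : ∃ v : ι → F, Q v ≠ 0) (g : ↥(GO Q)) (c : F)
    (hl : ∀ x, mg Q g *ᵥ (mg Q g *ᵥ x) = (c * c) • x) (hμ : (mu Q g : F) = c * c) :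
    ∃ s : ↥(Cfsg.isometryGroup F ⇑Q), s ∈ SO' Q ∧ s ∉ Cfsg.Omega F ⇑Q ∧ conjO Q g s = s := by
  have hl0 := l_ne_zero Q hex g _ hl
  have hc : c ≠ 0 := fun h => hl0 (by rw [h, mul_zero])
  have hadj := adj_self Q hex g _ hl hμ
  have hsup := eig_sup Q h2 g c hc hl
  have hsup' : eig Q g (-c) ⊔ eig Q g c = ⊤ := by rw [sup_comm]; exact hsup
  have horth : ∀ x ∈ eig Q g c, ∀ y ∈ eig Q g (-c), B Q x y = 0 :=
    fun x hx y hy => eig_orth Q h2 g c hc hadj hx hy
  have horth' : ∀ x ∈ eig Q g (-c), ∀ y ∈ eig Q g c, B Q x y = 0 := by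
    intro x hx y hy
    rw [B_comm]
    exact horth y hy x hx
  have hdim : Fintype.card ι ≤ finrank F (eig Q g c) + finrank F (eig Q g (-c)) := by
    have h1 := Submodule.finrank_add_le_finrank_add_finrank (eig Q g c) (eig Q g (-c))
    rw [hsup, finrank_top, Module.finrank_fintype_fun_eq_card] at h1
    exact h1
  by_cases hbig : 2 ≤ finrank F (eig Q g c)
  · exact exists_of_eigen Q h2 g _ (eig_nondeg Q hQ _ _ hsup horth) hbig c hc (fun x hx => hx)
  · have hbig' : 2 ≤ finrank F (eig Q g (-c)) := by omega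
    exact exists_of_eigen Q h2 g _ (eig_nondeg Q hQ _ _ hsup' horth') hbig' (-c)
      (neg_ne_zero.2 hc) (fun x hx => hx)

end Cfsg.Agent.Helper28.GInv
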