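import Mathlib
import Cfsg.Agent.Helper28.GraphInv3
import Cfsg.Agent.Helper12.SpSylowA

set_option autoImplicit false
set_option linter.unusedSectionVars false

/-! Involutory similarities (part 4): a skew-adjoint similarity with square multiplier has
sign one. -/

namespace Cfsg.Agent.Helper28.GInv

open Matrix Module Cfsg.Agent.Helper28.Spin Cfsg.Agent.Helper28.IsoTransport
  Cfsg.Agent.Helper28.Sg Cfsg.Agent.Helper28.PA Cfsg.Agent.Helper28.PG

variable {F : Type*} [Field F] [Fintype F] [DecidableEq F] {ι : Type} [Fintype ι] [DecidableEq ι]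
  (Q : QuadraticForm F (ι → F))

theorem gram_sim (g : ↥(GO Q)) :
    (mg Q g)ᵀ * LinearMap.BilinForm.toMatrix' (QuadraticMap.polarBilin Q) * mg Q g =
      (mu Q g : F) • LinearMap.BilinForm.toMatrix' (QuadraticMap.polarBilin Q) := by
  set Bf := QuadraticMap.polarBilin Q with hBf
  have h1 : LinearMap.BilinForm.comp Bf (Matrix.toLin' (mg Q g)) (Matrix.toLin' (mg Q g)) =
      (mu Q g : F) • Bf := by
    apply LinearMap.ext
    intro x
    apply LinearMap.ext
    intro y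
    simp only [LinearMap.BilinForm.comp_apply, Matrix.toLin'_apply, LinearMap.smul_apply,
      smul_eq_mul]
    exact polar_sim Q g x y
  have h2 := congrArg LinearMap.BilinForm.toMatrix' h1
  rw [LinearMap.BilinForm.toMatrix'_comp, LinearMap.toMatrix'_toLin', map_smul] at h2
  exact h2

theorem gram_apply (x y : ι → F) :
    x ⬝ᵥ (LinearMap.BilinForm.toMatrix' (QuadraticMap.polarBilin Q) *ᵥ y) = B Q x y := by
  rw [← Matrix.toBilin'_apply', Matrix.toBilin'_toMatrix']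
  rfl

theorem gram_det_ne (hQ : (QuadraticMap.polarBilin Q).Nondegenerate) :
    (LinearMap.BilinForm.toMatrix' (QuadraticMap.polarBilin Q)).det ≠ 0 := by
  rw [← Matrix.nondegenerate_iff_det_ne_zero, LinearMap.BilinForm.nondegenerate_toMatrix'_iff]
  exact hQ

/-- a skew-adjoint similarity with square multiplier has determinant `μ^k` -/
theorem det_of_skew (hQ : (QuadraticMap.polarBilin Q).Nondegenerate) (h2 : (2 : F) ≠ 0)
    (hex : ∃ v : ι → F, Q v ≠ 0) {k : ℕ} (hk : Fintype.card ι = 2 * k) (g : ↥(GO Q)) (l : F)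
    (hl : ∀ x, mg Q g *ᵥ (mg Q g *ᵥ x) = l • x) (hμ : (mu Q g : F) = -l) (c : F)
    (hc : (mu Q g : F) = c * c) : (mg Q g).det = (mu Q g : F) ^ k := by
  have hμ0 : (mu Q g : F) ≠ 0 := Units.ne_zero _
  have hc0 : c ≠ 0 := fun h => hμ0 (by rw [hc, h, mul_zero])
  set J := LinearMap.BilinForm.toMatrix' (QuadraticMap.polarBilin Q) with hJ
  set G' : Matrix ι ι F := c⁻¹ • mg Q g with hG'
  have hcard : Fintype.card ι = Fintype.card (Fin k ⊕ Fin k) := by
    rw [Fintype.card_sum, Fintype.card_fin, hk]; ring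
  obtain ⟨ε⟩ : Nonempty (ι ≃ Fin k ⊕ Fin k) := Fintype.card_eq.1 hcard
  have hiso : G'ᵀ * J * G' = J := by
    rw [hG', Matrix.transpose_smul, Matrix.smul_mul, Matrix.smul_mul, Matrix.mul_smul,
      gram_sim Q g, smul_smul, smul_smul, hc]
    have : c⁻¹ * c⁻¹ * (c * c) = 1 := by field_simp
    rw [this, one_smul]
  have hΩiso : G'ᵀ * (J * G') * G' = J * G' := by
    rw [← Matrix.mul_assoc, hiso]
  have hΩa : ∀ u : ι → F, u ⬝ᵥ ((J * G') *ᵥ u) = 0 := by
    intro u
    rw [← Matrix.mulVec_mulVec, gram_apply, hG', Matrix.smul_mulVec]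
    simp only [B, QuadraticMap.polar_smul_right, smul_eq_mul]
    have := orth_of_skew Q h2 hex g l hl hμ u
    simp only [B] at this
    rw [this, mul_zero]
  have hGdet : (mg Q g).det ≠ 0 := by
    have : IsUnit (mg Q g).det := by
      rw [← Matrix.isUnit_iff_isUnit_det]
      exact ⟨(g : GL ι F), rfl⟩
    exact this.ne_zero
  have hG'det : G'.det = (c⁻¹) ^ Fintype.card ι * (mg Q g).det := by
    rw [hG', Matrix.det_smul]
  have hΩu : IsUnit (J * G') := by
    rw [Matrix.isUnit_iff_isUnit_det, Matrix.det_mul, isUnit_iff_ne_zero]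
    refine mul_ne_zero (gram_det_ne Q hQ) ?_
    rw [hG'det]
    exact mul_ne_zero (pow_ne_zero _ (inv_ne_zero hc0)) hGdet
  obtain ⟨Φ, hΦ⟩ := Cfsg.Agent.Helper12.SpSylow.exists_uniform_conj_reindex ε (J * G') hΩu hΩa
  have h1 := SymplecticGroup.det_eq_one (hΦ G' hΩiso)
  rw [Matrix.det_units_conj, Matrix.det_reindex_self, hG'det, hk] at h1
  have h3 : (mg Q g).det = c ^ (2 * k) := by
    have h4 : (c⁻¹) ^ (2 * k) * c ^ (2 * k) = 1 := by
      rw [← mul_pow, inv_mul_cancel₀ hc0, one_pow]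
    calc (mg Q g).det = ((c⁻¹) ^ (2 * k) * (mg Q g).det) * c ^ (2 * k) := by
          rw [mul_comm ((c⁻¹) ^ (2 * k)), mul_assoc, h4, mul_one]
      _ = c ^ (2 * k) := by rw [h1, one_mul]
  rw [h3, hc, ← pow_two, ← pow_mul]

theorem sgn_of_skew (hQ : (QuadraticMap.polarBilin Q).Nondegenerate) (h2 : (2 : F) ≠ 0)
    (hex : ∃ v : ι → F, Q v ≠ 0) {k : ℕ} (hk : Fintype.card ι = 2 * k) (g : ↥(GO Q)) (l : F)
    (hl : ∀ x, mg Q g *ᵥ (mg Q g *ᵥ x) = l • x) (hμ : (mu Q g : F) = -l) (c : F)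
    (hc : (mu Q g : F) = c * c) : PG.sgn Q k g = 1 := by
  unfold PG.sgn
  have h := det_of_skew Q hQ h2 hex hk g l hl hμ c hc
  unfold mg at h
  rw [h, inv_pow]
  exact mul_inv_cancel₀ (pow_ne_zero _ (Units.ne_zero _))

/-- the main existence statement -/
theorem exists_comm (hQ : (QuadraticMap.polarBilin Q).Nondegenerate) (h2 : (2 : F) ≠ 0)
    (h3 : 3 ≤ Fintype.card ι) (hex : ∃ v : ι → F, Q v ≠ 0) {k : ℕ}
    (hk : Fintype.card ι = 2 * k) (g : ↥(GO Q)) (l : F)
    (hl : ∀ x, mg Q g *ᵥ (mg Q g *ᵥ x) = l • x) (hsgn : PG.sgn Q k g = -1) :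
    ∃ s : ↥(Cfsg.isometryGroup F ⇑Q), s ∈ SO' Q ∧ s ∉ Cfsg.Omega F ⇑Q ∧ conjO Q g s = s := by
  obtain ⟨v, hv⟩ := hex
  have hex : ∃ v : ι → F, Q v ≠ 0 := ⟨v, hv⟩
  by_cases hsq : IsSquare (mu Q g : F)
  · obtain ⟨c, hc⟩ := hsq
    rcases mu_cases Q hex g l hl with hμ | hμ
    · have hl' : ∀ x, mg Q g *ᵥ (mg Q g *ᵥ x) = (c * c) • x := by
        intro x; rw [hl, ← hμ, hc]
      exact exists_of_self_square Q hQ h2 h3 hex g c hl' hc
    · exfalso
      have := sgn_of_skew Q hQ h2 hex hk g l hl hμ c hc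
      rw [hsgn] at this
      apply h2
      linear_combination -this
  · rcases mu_cases Q hex g l hl with hμ | hμ
    · obtain ⟨w, hw, hwg⟩ := exists_orth_self Q hQ h2 h3 hex g l hl hμ (by rw [← hμ]; exact hsq)
      exact exists_of_orth Q h2 g l hl w hw hwg hsq
    · exact exists_of_orth Q h2 g l hl v hv (orth_of_skew Q h2 hex g l hl hμ v) hsq

end Cfsg.Agent.Helper28.GInv
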