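import Mathlib
import Cfsg.Prelude.Def_LieTypeDatum
import Cfsg.Agent.Helper28.IsoTransport

set_option autoImplicit false
set_option linter.unusedSectionVars false

/-! Automorphisms of `PΩ(Q)` induced by semisimilarities form a group. -/

namespace Cfsg.Agent.Helper28.SSim

open Matrix Cfsg.Agent.Helper28.IsoTransport

variable {F : Type*} [Field F] {ι : Type} [Fintype ι] [DecidableEq ι] (Q : (ι → F) → F)

/-- entrywise image of an invertible matrix -/
noncomputable def mapGL (σ : F ≃+* F) : GL ι F →* GL ι F :=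
  Matrix.GeneralLinearGroup.map (σ : F →+* F)

theorem mapGL_val (σ : F ≃+* F) (g : GL ι F) :
    ((mapGL σ g : GL ι F) : Matrix ι ι F) = (g : Matrix ι ι F).map σ := rfl

theorem map_mulVec'' (σ : F ≃+* F) (M : Matrix ι ι F) (v : ι → F) :
    (M.map σ) *ᵥ (fun i => σ (v i)) = fun i => σ ((M *ᵥ v) i) := by
  funext i
  exact (RingHom.map_mulVec (σ : F →+* F) M v i).symm

/-- the action `s ↦ g σ(s) g⁻¹` -/
noncomputable def actHom (g : GL ι F) (σ : F ≃+* F) : GL ι F →* GL ι F :=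
  (MulAut.conj g).toMonoidHom.comp (mapGL σ)

theorem actHom_apply (g : GL ι F) (σ : F ≃+* F) (s : GL ι F) :
    actHom g σ s = g * mapGL σ s * g⁻¹ := rfl

theorem actHom_val (g : GL ι F) (σ : F ≃+* F) (s : GL ι F) :
    ((actHom g σ s : GL ι F) : Matrix ι ι F) =
      (g : Matrix ι ι F) * (s : Matrix ι ι F).map σ * ((g⁻¹ : GL ι F) : Matrix ι ι F) := rfl

theorem inv_mulVec_mulVec (g : GL ι F) (x : ι → F) :
    ((g⁻¹ : GL ι F) : Matrix ι ι F) *ᵥ ((g : Matrix ι ι F) *ᵥ x) = x := by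
  rw [Matrix.mulVec_mulVec, ← Units.val_mul, inv_mul_cancel, Units.val_one, Matrix.one_mulVec]

theorem mulVec_inv_mulVec (g : GL ι F) (x : ι → F) :
    (g : Matrix ι ι F) *ᵥ (((g⁻¹ : GL ι F) : Matrix ι ι F) *ᵥ x) = x := by
  rw [Matrix.mulVec_mulVec, ← Units.val_mul, mul_inv_cancel, Units.val_one, Matrix.one_mulVec]

/-- a semisimilarity normalises the isometry group -/
theorem actHom_mem_O {g : GL ι F} {σ : F ≃+* F} (hp : Cfsg.IsSemisimilarityPair Q g σ)
    {s : GL ι F} (hs : s ∈ Cfsg.isometryGroup F Q) : actHom g σ s ∈ Cfsg.isometryGroup F Q := by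
  obtain ⟨c, hc⟩ := hp
  rw [mem_isometryGroup_iff] at hs ⊢
  intro x
  -- `x = g σ(y)`
  set y : ι → F := fun i => σ.symm ((((g⁻¹ : GL ι F) : Matrix ι ι F) *ᵥ x) i) with hy
  have hx : x = (g : Matrix ι ι F) *ᵥ (fun i => σ (y i)) := by
    have : (fun i => σ (y i)) = ((g⁻¹ : GL ι F) : Matrix ι ι F) *ᵥ x := by
      funext i
      simp [hy]
    rw [this, mulVec_inv_mulVec]
  have h1 : ((actHom g σ s : GL ι F) : Matrix ι ι F) *ᵥ x =
      (g : Matrix ι ι F) *ᵥ (fun i => σ (((s : Matrix ι ι F) *ᵥ y) i)) := by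
    rw [actHom_val, ← Matrix.mulVec_mulVec, ← Matrix.mulVec_mulVec]
    nth_rewrite 1 [hx]
    rw [inv_mulVec_mulVec, map_mulVec'']
  rw [h1, hc, hs, ← hc, ← hx]

/-- the restriction to the isometry group -/
noncomputable def actO {g : GL ι F} {σ : F ≃+* F} (hp : Cfsg.IsSemisimilarityPair Q g σ) :
    ↥(Cfsg.isometryGroup F Q) →* ↥(Cfsg.isometryGroup F Q) :=
  ((actHom g σ).comp (Subgroup.subtype _)).codRestrict _ (fun s => actHom_mem_O Q hp s.2)

theorem actO_coe {g : GL ι F} {σ : F ≃+* F} (hp : Cfsg.IsSemisimilarityPair Q g σ)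
    (s : ↥(Cfsg.isometryGroup F Q)) :
    ((actO Q hp s : ↥(Cfsg.isometryGroup F Q)) : GL ι F) = actHom g σ s := rfl

theorem actO_mem_Omega {g : GL ι F} {σ : F ≃+* F} (hp : Cfsg.IsSemisimilarityPair Q g σ)
    {s : ↥(Cfsg.isometryGroup F Q)} (hs : s ∈ Cfsg.Omega F Q) : actO Q hp s ∈ Cfsg.Omega F Q := by
  have h1 : (Cfsg.Omega F Q).map (actO Q hp) ≤ Cfsg.Omega F Q := by
    show (commutator ↥(Cfsg.isometryGroup F Q)).map (actO Q hp) ≤ commutator _
    rw [commutator_def, Subgroup.map_commutator]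
    exact Subgroup.commutator_mono le_top le_top
  exact h1 ⟨s, hs, rfl⟩

/-- the restriction to `Ω` -/
noncomputable def actΩ {g : GL ι F} {σ : F ≃+* F} (hp : Cfsg.IsSemisimilarityPair Q g σ) :
    ↥(Cfsg.Omega F Q) →* ↥(Cfsg.Omega F Q) :=
  ((actO Q hp).comp (Subgroup.subtype _)).codRestrict _ (fun s => actO_mem_Omega Q hp s.2)

theorem actΩ_val {g : GL ι F} {σ : F ≃+* F} (hp : Cfsg.IsSemisimilarityPair Q g σ)
    (s : ↥(Cfsg.Omega F Q)) :
    ((((actΩ Q hp s : ↥(Cfsg.Omega F Q)) : ↥(Cfsg.isometryGroup F Q)) : GL ι F) :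
        Matrix ι ι F) =
      (g : Matrix ι ι F) * ((((s : ↥(Cfsg.isometryGroup F Q)) : GL ι F) : Matrix ι ι F)).map σ *
        ((g⁻¹ : GL ι F) : Matrix ι ι F) := rfl

/-- an induced automorphism is given by `actΩ` -/
theorem induced_apply {g : GL ι F} {σ : F ≃+* F} (hp : Cfsg.IsSemisimilarityPair Q g σ)
    {β : Cfsg.POmega F Q ≃* Cfsg.POmega F Q}
    (hβ : Cfsg.IsInducedBySemilinearPOmega Q g σ β) (s : ↥(Cfsg.Omega F Q)) :
    β (QuotientGroup.mk s) = QuotientGroup.mk (actΩ Q hp s) :=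
  hβ s (actΩ Q hp s) (actΩ_val Q hp s)

theorem induced_of_apply {g : GL ι F} {σ : F ≃+* F} (hp : Cfsg.IsSemisimilarityPair Q g σ)
    {β : Cfsg.POmega F Q ≃* Cfsg.POmega F Q}
    (h : ∀ s : ↥(Cfsg.Omega F Q), β (QuotientGroup.mk s) = QuotientGroup.mk (actΩ Q hp s)) :
    Cfsg.IsInducedBySemilinearPOmega Q g σ β := by
  intro s s' hs'
  rw [h s]
  congr 1
  apply Subtype.ext
  apply Subtype.ext
  apply Units.ext
  rw [hs', actΩ_val]

end Cfsg.Agent.Helper28.SSim
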