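import Mathlib
import Cfsg.Agent.Helper28.SemiSim1

set_option autoImplicit false
set_option linter.unusedSectionVars false

/-! Automorphisms of `PΩ(Q)` induced by semisimilarities form a group (part 2). -/

namespace Cfsg.Agent.Helper28.SSim

open Matrix Cfsg.Agent.Helper28.IsoTransport

variable {F : Type*} [Field F] {ι : Type} [Fintype ι] [DecidableEq ι] (Q : (ι → F) → F)

theorem mapGL_trans (σ₁ σ₂ : F ≃+* F) (s : GL ι F) :
    mapGL (σ₂.trans σ₁) s = mapGL σ₁ (mapGL σ₂ s) := by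
  apply Units.ext
  rw [mapGL_val, mapGL_val, mapGL_val, Matrix.map_map]
  rfl

theorem mapGL_refl (s : GL ι F) : mapGL (RingEquiv.refl F) s = s := by
  apply Units.ext
  rw [mapGL_val]
  ext i j
  rfl

theorem actHom_mul (g₁ g₂ : GL ι F) (σ₁ σ₂ : F ≃+* F) (s : GL ι F) :
    actHom (g₁ * mapGL σ₁ g₂) (σ₂.trans σ₁) s = actHom g₁ σ₁ (actHom g₂ σ₂ s) := by
  rw [actHom_apply, actHom_apply, actHom_apply, mapGL_trans, map_mul, map_mul, map_inv]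
  group

theorem semisim_one : Cfsg.IsSemisimilarityPair Q (1 : GL ι F) (RingEquiv.refl F) := by
  refine ⟨1, fun v => ?_⟩
  rw [Units.val_one, Matrix.one_mulVec, Units.val_one, one_mul]
  rfl

theorem semisim_mul {g₁ g₂ : GL ι F} {σ₁ σ₂ : F ≃+* F}
    (hp₁ : Cfsg.IsSemisimilarityPair Q g₁ σ₁) (hp₂ : Cfsg.IsSemisimilarityPair Q g₂ σ₂) :
    Cfsg.IsSemisimilarityPair Q (g₁ * mapGL σ₁ g₂) (σ₂.trans σ₁) := by
  obtain ⟨c₁, hc₁⟩ := hp₁
  obtain ⟨c₂, hc₂⟩ := hp₂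
  refine ⟨c₁ * Units.map (σ₁ : F →* F) c₂, fun v => ?_⟩
  have h1 : ((g₁ * mapGL σ₁ g₂ : GL ι F) : Matrix ι ι F) *ᵥ (fun i => (σ₂.trans σ₁) (v i)) =
      (g₁ : Matrix ι ι F) *ᵥ (fun i => σ₁ (((g₂ : Matrix ι ι F) *ᵥ (fun j => σ₂ (v j))) i)) := by
    rw [Units.val_mul, ← Matrix.mulVec_mulVec, mapGL_val]
    have : (fun i => (σ₂.trans σ₁) (v i)) = fun i => σ₁ ((fun j => σ₂ (v j)) i) := rfl
    rw [this, map_mulVec'']
  rw [h1, hc₁, hc₂, map_mul, Units.val_mul, mul_assoc]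
  rfl

theorem semisim_inv {g : GL ι F} {σ : F ≃+* F} (hp : Cfsg.IsSemisimilarityPair Q g σ) :
    Cfsg.IsSemisimilarityPair Q (mapGL σ.symm g⁻¹) σ.symm := by
  obtain ⟨c, hc⟩ := hp
  refine ⟨Units.map (σ.symm : F →* F) c⁻¹, fun v => ?_⟩
  set w : ι → F := ((mapGL σ.symm g⁻¹ : GL ι F) : Matrix ι ι F) *ᵥ (fun i => σ.symm (v i)) with hw
  have hw' : w = fun i => σ.symm ((((g⁻¹ : GL ι F) : Matrix ι ι F) *ᵥ v) i) := by
    rw [hw, mapGL_val, map_mulVec'']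
  have h1 : (g : Matrix ι ι F) *ᵥ (fun i => σ (w i)) = v := by
    have : (fun i => σ (w i)) = ((g⁻¹ : GL ι F) : Matrix ι ι F) *ᵥ v := by
      funext i
      rw [hw']
      simp
    rw [this, mulVec_inv_mulVec]
  have h2 := hc w
  rw [h1] at h2
  -- `Q w = σ⁻¹ (c⁻¹ Q v)`
  have h3 : Q w = σ.symm ((c : F)⁻¹ * Q v) := by
    rw [h2, ← mul_assoc, inv_mul_cancel₀ (Units.ne_zero c), one_mul]
    simp
  rw [h3, map_mul]
  congr 1
  simp

theorem actΩ_mul {g₁ g₂ : GL ι F} {σ₁ σ₂ : F ≃+* F}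
    (hp₁ : Cfsg.IsSemisimilarityPair Q g₁ σ₁) (hp₂ : Cfsg.IsSemisimilarityPair Q g₂ σ₂)
    (s : ↥(Cfsg.Omega F Q)) :
    actΩ Q (semisim_mul Q hp₁ hp₂) s = actΩ Q hp₁ (actΩ Q hp₂ s) := by
  apply Subtype.ext
  apply Subtype.ext
  exact actHom_mul g₁ g₂ σ₁ σ₂ _

theorem induced_one : Cfsg.IsInducedBySemilinearPOmega Q (1 : GL ι F) (RingEquiv.refl F)
    (1 : Cfsg.POmega F Q ≃* Cfsg.POmega F Q) := by
  apply induced_of_apply Q (semisim_one Q)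
  intro s
  rw [MulAut.one_apply]
  congr 1
  apply Subtype.ext
  apply Subtype.ext
  show ((s : ↥(Cfsg.isometryGroup F Q)) : GL ι F) = actHom 1 (RingEquiv.refl F) _
  rw [actHom_apply, mapGL_refl]
  simp

theorem induced_mul {g₁ g₂ : GL ι F} {σ₁ σ₂ : F ≃+* F}
    (hp₁ : Cfsg.IsSemisimilarityPair Q g₁ σ₁) (hp₂ : Cfsg.IsSemisimilarityPair Q g₂ σ₂)
    {β₁ β₂ : Cfsg.POmega F Q ≃* Cfsg.POmega F Q}
    (h₁ : Cfsg.IsInducedBySemilinearPOmega Q g₁ σ₁ β₁)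
    (h₂ : Cfsg.IsInducedBySemilinearPOmega Q g₂ σ₂ β₂) :
    Cfsg.IsInducedBySemilinearPOmega Q (g₁ * mapGL σ₁ g₂) (σ₂.trans σ₁)
      ((β₁ : MulAut (Cfsg.POmega F Q)) * β₂) := by
  apply induced_of_apply Q (semisim_mul Q hp₁ hp₂)
  intro s
  rw [MulAut.mul_apply, induced_apply Q hp₂ h₂, induced_apply Q hp₁ h₁, actΩ_mul]

theorem mapGL_symm_apply (σ : F ≃+* F) (s : GL ι F) : mapGL σ (mapGL σ.symm s) = s := by
  apply Units.ext
  rw [mapGL_val, mapGL_val, Matrix.map_map]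
  ext i j
  simp

theorem induced_inv {g : GL ι F} {σ : F ≃+* F}
    (hp : Cfsg.IsSemisimilarityPair Q g σ)
    {β : Cfsg.POmega F Q ≃* Cfsg.POmega F Q}
    (h : Cfsg.IsInducedBySemilinearPOmega Q g σ β) :
    Cfsg.IsInducedBySemilinearPOmega Q (mapGL σ.symm g⁻¹) σ.symm
      ((β : MulAut (Cfsg.POmega F Q))⁻¹) := by
  apply induced_of_apply Q (semisim_inv Q hp)
  intro s
  rw [MulAut.inv_apply, MulEquiv.symm_apply_eq, induced_apply Q hp h]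
  congr 1
  apply Subtype.ext
  apply Subtype.ext
  show ((s : ↥(Cfsg.isometryGroup F Q)) : GL ι F) =
    actHom g σ (actHom (mapGL σ.symm g⁻¹) σ.symm _)
  rw [actHom_apply, actHom_apply]
  simp only [map_mul, map_inv, mapGL_symm_apply]
  simp only [inv_inv, Subgroup.coe_subtype]
  group

/-- every element of `gammaPOmega` is induced by a semisimilarity -/
theorem exists_of_mem_gamma (β : MulAut (Cfsg.POmega F Q)) (hβ : β ∈ Cfsg.gammaPOmega F Q) :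
    ∃ (g : GL ι F) (σ : F ≃+* F), Cfsg.IsSemisimilarityPair Q g σ ∧
      Cfsg.IsInducedBySemilinearPOmega Q g σ β := by
  unfold Cfsg.gammaPOmega Cfsg.autSubgroupOf at hβ
  induction hβ using Subgroup.closure_induction with
  | mem x hx => exact hx
  | one => exact ⟨1, RingEquiv.refl F, semisim_one Q, induced_one Q⟩
  | mul x y _ _ hx hy =>
    obtain ⟨g₁, σ₁, hp₁, h₁⟩ := hx
    obtain ⟨g₂, σ₂, hp₂, h₂⟩ := hy
    exact ⟨_, _, semisim_mul Q hp₁ hp₂, induced_mul Q hp₁ hp₂ h₁ h₂⟩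
  | inv x _ hx =>
    obtain ⟨g, σ, hp, h⟩ := hx
    exact ⟨_, _, semisim_inv Q hp, induced_inv Q hp h⟩

end Cfsg.Agent.Helper28.SSim
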