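import Mathlib
import Cfsg.Agent.Helper28.SemiSim2
import Cfsg.Agent.Helper28.PgoAut5

set_option autoImplicit false
set_option linter.unusedSectionVars false

/-! A semisimilarity inducing the identity on `PΩ(Q)` has trivial field automorphism. -/

namespace Cfsg.Agent.Helper28.SSim

open Matrix Cfsg.Agent.Helper28.IsoTransport Cfsg.Agent.Helper28.Sg Cfsg.Agent.Helper28.Spin
  Cfsg.Agent.Helper28.PA
open scoped commutatorElement

/-- an endomorphism of a perfect group which is the identity modulo the centre is the identity -/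
theorem hom_eq_id_of_perfect {G : Type*} [Group G] (hperf : commutator G = ⊤) (ψ : G →* G)
    (hz : ∀ s : G, s⁻¹ * ψ s ∈ Subgroup.center G) (t : G) : ψ t = t := by
  have hcomm : ∀ s t : G, ψ ⁅s, t⁆ = ⁅s, t⁆ := by
    intro s t
    rw [map_commutatorElement]
    have e1 : ψ s = s * (s⁻¹ * ψ s) := by group
    have e2 : ψ t = t * (t⁻¹ * ψ t) := by group
    rw [e1, e2]
    have hzs := Subgroup.mem_center_iff.1 (hz s)
    have hzt := Subgroup.mem_center_iff.1 (hz t)
    rw [PA.comm_mul_central s _ _ (hzs _).symm, PA.comm_mul_central' s t _ (hzt _).symm]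
  have ht : t ∈ commutator G := by rw [hperf]; exact Subgroup.mem_top t
  rw [commutator_eq_closure] at ht
  induction ht using Subgroup.closure_induction with
  | mem x hx =>
    obtain ⟨s, t, rfl⟩ := hx
    exact hcomm s t
  | one => exact map_one _
  | mul x y _ _ hx hy => rw [map_mul, hx, hy]
  | inv x _ hx => rw [map_inv, hx]

variable {F : Type*} [Field F] {ι : Type} [Fintype ι] [DecidableEq ι]
  (Q : QuadraticForm F (ι → F))

/-- the semilinear map `x ↦ h σ(x)` -/
def semi (h : GL ι F) (τ : F ≃+* F) (x : ι → F) : ι → F :=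
  (h : Matrix ι ι F) *ᵥ (fun i => τ (x i))

theorem semi_add (h : GL ι F) (τ : F ≃+* F) (x y : ι → F) :
    semi h τ (x + y) = semi h τ x + semi h τ y := by
  unfold semi
  rw [← Matrix.mulVec_add]
  congr 1
  funext i
  simp

theorem semi_sub (h : GL ι F) (τ : F ≃+* F) (x y : ι → F) :
    semi h τ (x - y) = semi h τ x - semi h τ y := by
  unfold semi
  rw [← Matrix.mulVec_sub]
  congr 1
  funext i
  simp

theorem semi_smul (h : GL ι F) (τ : F ≃+* F) (a : F) (x : ι → F) :
    semi h τ (a • x) = τ a • semi h τ x := by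
  unfold semi
  rw [← Matrix.mulVec_smul]
  congr 1
  funext i
  simp

theorem semi_injective (h : GL ι F) (τ : F ≃+* F) : Function.Injective (semi h τ) := by
  intro x y hxy
  unfold semi at hxy
  have h1 := (Matrix.mulVec_injective_iff_isUnit.2 ⟨h, rfl⟩) hxy
  funext i
  exact τ.injective (congrFun h1 i)

/-- if `h τ(s) h⁻¹ = s` then the semilinear map commutes with `s` -/
theorem semi_comm (h : GL ι F) (τ : F ≃+* F) (s : Matrix ι ι F)
    (hs : (h : Matrix ι ι F) * s.map τ * ((h⁻¹ : GL ι F) : Matrix ι ι F) = s) (x : ι → F) :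
    semi h τ (s *ᵥ x) = s *ᵥ semi h τ x := by
  have h1 : (h : Matrix ι ι F) * s.map τ = s * (h : Matrix ι ι F) := by
    nth_rewrite 2 [← hs]
    rw [Matrix.mul_assoc, ← Units.val_mul, inv_mul_cancel, Units.val_one, Matrix.mul_one]
  unfold semi
  rw [Matrix.mulVec_mulVec, ← h1, ← Matrix.mulVec_mulVec, map_mulVec'']

/-- a semisimilarity inducing the identity has trivial field automorphism -/
theorem sigma_eq_refl_of_one (hQ : (QuadraticMap.polarBilin Q).Nondegenerate) (fr : Frame3 Q)
    (hperf : commutator ↥(Cfsg.Omega F ⇑Q) = ⊤) {h : GL ι F} {τ : F ≃+* F}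
    (hp : Cfsg.IsSemisimilarityPair (⇑Q) h τ)
    (hind : Cfsg.IsInducedBySemilinearPOmega (⇑Q) h τ
      (1 : Cfsg.POmega F ⇑Q ≃* Cfsg.POmega F ⇑Q)) : τ = RingEquiv.refl F := by
  have hfix : ∀ s : ↥(Cfsg.Omega F ⇑Q), actΩ (⇑Q) hp s = s := by
    apply hom_eq_id_of_perfect hperf
    intro s
    have h1 := induced_apply (⇑Q) hp hind s
    rw [MulAut.one_apply, QuotientGroup.eq] at h1
    exact h1
  ext t
  -- the Siegel element
  set u := fr.e 0 with hu
  set v := fr.e 1 with hv
  set x := fr.f 0 with hx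
  have hQu : Q u = 0 := fr.Qe 0
  have hQv : Q v = 0 := fr.Qe 1
  have huv : B Q u v = 0 := fr.Bee 0 1
  have hux : B Q u x = 1 := by
    have := fr.Bef 0 0
    simpa using this
  have hvx : B Q v x = 0 := by
    have := fr.Bef 1 0
    simpa using this
  have key : ∀ a : F, semi h τ (a • v) =
      (a * B Q u (semi h τ x)) • v - (a * B Q v (semi h τ x)) • u := by
    intro a
    have huav : B Q u (a • v) = 0 := by
      simp only [B, QuadraticMap.polar_smul_right, smul_eq_mul]
      simp only [B] at huv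
      rw [huv, mul_zero]
    have hmem : siegO Q u (a • v) hQu huav ∈ Cfsg.Omega F ⇑Q :=
      S_le_Omega hQ fr (siegO_mem_S Q u (a • v) hQu huav)
    have h1 := hfix ⟨_, hmem⟩
    have h2 := congrArg (fun z : ↥(Cfsg.Omega F ⇑Q) =>
      ((((z : ↥(Cfsg.isometryGroup F ⇑Q)) : GL ι F)) : Matrix ι ι F)) h1
    simp only [actΩ_val] at h2
    have h3 := semi_comm h τ _ h2 x
    have hs : ∀ y : ι → F, ((((⟨_, hmem⟩ : ↥(Cfsg.Omega F ⇑Q)) : ↥(Cfsg.isometryGroup F ⇑Q)) :
        GL ι F) : Matrix ι ι F) *ᵥ y = y + (a * B Q u y) • v - (a * B Q v y) • u := by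
      intro y
      have := siegO_mulVec Q u (a • v) hQu huav y
      unfold Sg.mt at this
      rw [this, Q_smul, hQv]
      simp only [B, QuadraticMap.polar_smul_left, smul_eq_mul, mul_zero, zero_mul, zero_smul,
        sub_zero, smul_smul]
      congr 2
      rw [mul_comm]
    rw [hs, hs, hux, hvx, mul_zero, zero_smul, sub_zero, mul_one, semi_add] at h3
    -- `T(a v) = a N(T x)` where `N y = B(u,y) v - B(v,y) u`
    have h4 : semi h τ (a • v) = (a * B Q u (semi h τ x)) • v - (a * B Q v (semi h τ x)) • u := by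
      have : semi h τ x + semi h τ (a • v) =
          semi h τ x + ((a * B Q u (semi h τ x)) • v - (a * B Q v (semi h τ x)) • u) := by
        rw [h3]; abel
      exact add_left_cancel this
    exact h4
  -- compare `a = 1` with general `a`
  have h1 := key 1
  rw [one_smul, one_mul, one_mul] at h1
  have h2 := key t
  rw [semi_smul] at h2
  have h3 : (τ t - t) • semi h τ v = 0 := by
    rw [sub_smul, h2, h1, smul_sub, smul_smul, smul_smul]
    abel
  have hv0 : v ≠ 0 := by
    intro h0
    have := fr.Bef 1 1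
    rw [← hv, h0] at this
    simp [QuadraticMap.polar] at this
  have hTv : semi h τ v ≠ 0 := by
    intro h0
    apply hv0
    apply semi_injective h τ
    rw [h0]
    unfold semi
    have : (fun i => τ ((0 : ι → F) i)) = 0 := by
      funext i; simp
    rw [this, Matrix.mulVec_zero]
  rcases smul_eq_zero.1 h3 with h | h
  · rw [RingEquiv.refl_apply]
    exact sub_eq_zero.1 h
  · exact absurd h hTv

end Cfsg.Agent.Helper28.SSim
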