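import Mathlib

set_option autoImplicit false
set_option linter.unusedSectionVars false

/-! Involutions of a finite field: fixed elements are squares, Hilbert 90, and a norm
computation. -/

namespace Cfsg.Agent.Helper28.SSim

variable {F : Type*} [Field F]

/-- the fixed subfield of a ring automorphism -/
def fixedSub (σ : F ≃+* F) : Subfield F where
  carrier := {x | σ x = x}
  mul_mem' := by
    intro a b ha hb
    simp only [Set.mem_setOf_eq] at ha hb ⊢
    rw [map_mul, ha, hb]
  one_mem' := by simp
  add_mem' := by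
    intro a b ha hb
    simp only [Set.mem_setOf_eq] at ha hb ⊢
    rw [map_add, ha, hb]
  zero_mem' := by simp
  neg_mem' := by
    intro a ha
    simp only [Set.mem_setOf_eq] at ha ⊢
    rw [map_neg, ha]
  inv_mem' := by
    intro a ha
    simp only [Set.mem_setOf_eq] at ha ⊢
    rw [map_inv₀, ha]

theorem mem_fixedSub (σ : F ≃+* F) (x : F) : x ∈ fixedSub σ ↔ σ x = x := Iff.rfl

variable [Fintype F]

/-- elements fixed by an involution of a finite field of odd order are squares -/
theorem isSquare_of_fixed (σ : F ≃+* F) (h2 : (2 : F) ≠ 0) (hσ2 : ∀ x, σ (σ x) = x)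
    (hσ : σ ≠ RingEquiv.refl F) (d : F) (hd : σ d = d) : IsSquare d := by
  classical
  by_cases hd0 : d = 0
  · rw [hd0]; exact ⟨0, by simp⟩
  -- an element moved by `σ`
  obtain ⟨x, hx⟩ : ∃ x, σ x ≠ x := by
    by_contra hcon
    push Not at hcon
    apply hσ
    ext y
    exact hcon y
  set u := x - σ x with hu
  have hu0 : u ≠ 0 := by
    intro h
    apply hx
    rw [hu, sub_eq_zero] at h
    exact h.symm
  have hσu : σ u = -u := by
    rw [hu, map_sub, hσ2]; ring
  have hΔ : σ (u * u) = u * u := by
    rw [map_mul, hσu]; ring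
  haveI : Fintype ↥(fixedSub σ) := Fintype.ofFinite _
  set d' : ↥(fixedSub σ) := ⟨d, hd⟩ with hd'
  set Δ' : ↥(fixedSub σ) := ⟨u * u, hΔ⟩ with hΔ'
  have hd'0 : d' ≠ 0 := by
    intro h
    apply hd0
    exact congrArg Subtype.val h
  have hΔ'0 : Δ' ≠ 0 := by
    intro h
    have := congrArg Subtype.val h
    simp only [hΔ', ZeroMemClass.coe_zero, mul_self_eq_zero] at this
    exact hu0 this
  have hΔns : ¬ IsSquare Δ' := by
    rintro ⟨w, hw⟩
    have h1 := congrArg Subtype.val hw
    simp only [hΔ', Subfield.coe_mul] at h1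
    have hwfix : σ (w : F) = w := w.2
    have h3 : (u - w) * (u + w) = 0 := by linear_combination h1
    have hfix : σ u = u := by
      rcases mul_eq_zero.1 h3 with h | h
      · have : u = w := by linear_combination h
        rw [this, hwfix]
      · have : u = -w := by linear_combination h
        rw [this, map_neg, hwfix]
    rw [hσu] at hfix
    have : (2 : F) * u = 0 := by linear_combination -hfix
    rcases mul_eq_zero.1 this with h | h
    · exact h2 h
    · exact hu0 h
  by_cases hsq : IsSquare d'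
  · obtain ⟨w, hw⟩ := hsq
    exact ⟨(w : F), by
      have := congrArg Subtype.val hw
      simpa [hd'] using this⟩
  · have h1 : quadraticChar ↥(fixedSub σ) d' = -1 := quadraticChar_neg_one_iff_not_isSquare.2 hsq
    have h3 : quadraticChar ↥(fixedSub σ) Δ' = -1 := quadraticChar_neg_one_iff_not_isSquare.2 hΔns
    have h4 : quadraticChar ↥(fixedSub σ) (d' * Δ') = 1 := by
      rw [map_mul, h1, h3]; norm_num
    obtain ⟨w, hw⟩ := (quadraticChar_one_iff_isSquare (mul_ne_zero hd'0 hΔ'0)).1 h4
    have h5 := congrArg Subtype.val hw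
    simp only [hd', hΔ', Subfield.coe_mul] at h5
    refine ⟨(w : F) * u⁻¹, ?_⟩
    field_simp
    linear_combination h5

/-- Hilbert 90 for an involution -/
theorem hilbert90 (σ : F ≃+* F) (h2 : (2 : F) ≠ 0) (hσ2 : ∀ x, σ (σ x) = x)
    (hσ : σ ≠ RingEquiv.refl F) (e : F) (he : e * σ e = 1) : ∃ t : F, t ≠ 0 ∧ e * t = σ t := by
  by_cases h1 : 1 + σ e = 0
  · -- `e = -1`
    have hσe : σ e = -1 := by linear_combination h1
    have he' : e = -1 := by
      have := congrArg σ hσe
      rw [hσ2, map_neg, map_one] at this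
      exact this
    obtain ⟨x, hx⟩ : ∃ x, σ x ≠ x := by
      by_contra hcon
      push Not at hcon
      apply hσ
      ext y
      exact hcon y
    refine ⟨x - σ x, ?_, ?_⟩
    · intro h
      apply hx
      rw [sub_eq_zero] at h
      exact h.symm
    · rw [he', map_sub, hσ2]; ring
  · refine ⟨1 + σ e, h1, ?_⟩
    rw [map_add, map_one, hσ2]
    linear_combination he

/-- the norm computation: `e² = σ(D)/D` with `D` a non-square forces `e σ(e) = -1` -/
theorem norm_eq_neg_one (σ : F ≃+* F) (h2 : (2 : F) ≠ 0) (hσ2 : ∀ x, σ (σ x) = x)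
    (hσ : σ ≠ RingEquiv.refl F) (D e : F) (hD : ¬ IsSquare D) (he : e ^ 2 * D = σ D) :
    e * σ e = -1 := by
  have hD0 : D ≠ 0 := by
    rintro rfl
    exact hD ⟨0, by simp⟩
  have hσD0 : σ D ≠ 0 := by
    intro h
    apply hD0
    have := congrArg σ h
    rw [hσ2, map_zero] at this
    exact this
  have he0 : e ≠ 0 := by
    rintro rfl
    apply hσD0
    rw [← he]; ring
  -- `N(e)² = 1`
  have h1 : (e * σ e) ^ 2 = 1 := by
    have h3 := congrArg σ he
    rw [map_mul, map_pow, hσ2] at h3
    have h4 : (e * σ e) ^ 2 * (D * σ D) = 1 * (D * σ D) := by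
      linear_combination σ e ^ 2 * σ D * he + σ D * h3
    exact mul_right_cancel₀ (mul_ne_zero hD0 hσD0) h4
  have h3 : (e * σ e - 1) * (e * σ e + 1) = 0 := by linear_combination h1
  rcases mul_eq_zero.1 h3 with h | h
  · exfalso
    have hN : e * σ e = 1 := by linear_combination h
    obtain ⟨t, ht0, ht⟩ := hilbert90 σ h2 hσ2 hσ e hN
    -- `D / t²` is fixed
    have hfix : σ (D * (t⁻¹) ^ 2) = D * (t⁻¹) ^ 2 := by
      rw [map_mul, map_pow, map_inv₀, ← ht, ← he]
      field_simp
    obtain ⟨w, hw⟩ := isSquare_of_fixed σ h2 hσ2 hσ _ hfix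
    apply hD
    refine ⟨w * t, ?_⟩
    have : D = (D * (t⁻¹) ^ 2) * t ^ 2 := by field_simp
    rw [this, hw]
    ring
  · linear_combination h

end Cfsg.Agent.Helper28.SSim
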