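import Mathlib
import Cfsg.Agent.Helper28.SemiSim3
import Cfsg.Agent.Helper28.SemiSim4
import Cfsg.Agent.Helper28.GraphInv4

set_option autoImplicit false
set_option linter.unusedSectionVars false

/-! The square of an involutory semisimilarity with nontrivial field automorphism has sign `-1`
when the discriminant is a non-square. -/

namespace Cfsg.Agent.Helper28.SSim

open Matrix Cfsg.Agent.Helper28.IsoTransport Cfsg.Agent.Helper28.Sg Cfsg.Agent.Helper28.Spin
  Cfsg.Agent.Helper28.PA Cfsg.Agent.Helper28.PG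

variable {F : Type*} [Field F] [Fintype F] [DecidableEq F] {ι : Type} [Fintype ι] [DecidableEq ι]
  (Q : QuadraticForm F (ι → F))

theorem polar_semi {g : GL ι F} {σ : F ≃+* F} (c : Fˣ)
    (hc : ∀ v : ι → F, Q ((g : Matrix ι ι F) *ᵥ (fun i => σ (v i))) = (c : F) * σ (Q v))
    (x y : ι → F) :
    B Q (semi g σ x) (semi g σ y) = (c : F) * σ (B Q x y) := by
  have h1 : ∀ v, Q (semi g σ v) = (c : F) * σ (Q v) := hc
  simp only [B, QuadraticMap.polar]
  rw [← semi_add, h1, h1, h1, map_sub, map_sub]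
  ring

theorem semi_single (g : GL ι F) (σ : F ≃+* F) (i : ι) :
    semi g σ (Pi.single i 1) = (g : Matrix ι ι F) *ᵥ (Pi.single i 1) := by
  unfold semi
  congr 1
  funext j
  by_cases h : j = i
  · subst h; simp
  · simp [Pi.single_eq_of_ne h]

/-- the Gram matrix relation for a semisimilarity -/
theorem gram_semi {g : GL ι F} {σ : F ≃+* F} (c : Fˣ)
    (hc : ∀ v : ι → F, Q ((g : Matrix ι ι F) *ᵥ (fun i => σ (v i))) = (c : F) * σ (Q v)) :
    (g : Matrix ι ι F)ᵀ * LinearMap.BilinForm.toMatrix' (QuadraticMap.polarBilin Q) *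
        (g : Matrix ι ι F) =
      (c : F) • (LinearMap.BilinForm.toMatrix' (QuadraticMap.polarBilin Q)).map σ := by
  ext i j
  have h1 : ((g : Matrix ι ι F)ᵀ * LinearMap.BilinForm.toMatrix' (QuadraticMap.polarBilin Q) *
      (g : Matrix ι ι F)) i j =
      ((g : Matrix ι ι F) *ᵥ Pi.single i 1) ⬝ᵥ
        (LinearMap.BilinForm.toMatrix' (QuadraticMap.polarBilin Q) *ᵥ
          ((g : Matrix ι ι F) *ᵥ Pi.single j 1)) := by
    have e1 : ∀ (M : Matrix ι ι F), M i j = Pi.single i 1 ⬝ᵥ (M *ᵥ Pi.single j 1) := by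
      intro M
      rw [Matrix.mulVec_single_one, single_one_dotProduct, Matrix.col_apply]
    rw [e1 ((g : Matrix ι ι F)ᵀ * LinearMap.BilinForm.toMatrix' (QuadraticMap.polarBilin Q) *
      (g : Matrix ι ι F)), ← Matrix.mulVec_mulVec, ← Matrix.mulVec_mulVec,
      Matrix.dotProduct_mulVec, Matrix.vecMul_transpose]
  rw [h1, GInv.gram_apply, ← semi_single g σ, ← semi_single g σ, polar_semi Q c hc]
  simp only [Matrix.smul_apply, Matrix.map_apply, smul_eq_mul,
    LinearMap.BilinForm.toMatrix'_apply]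
  rfl

/-- the sign of the square of an involutory semisimilarity -/
theorem sgn_sq_semisim (h2 : (2 : F) ≠ 0) (hex : ∃ v : ι → F, Q v ≠ 0) {k : ℕ}
    (hk : Fintype.card ι = 2 * k) {g : GL ι F} {σ : F ≃+* F} (hσ2 : ∀ x, σ (σ x) = x)
    (hσ : σ ≠ RingEquiv.refl F) (hp : Cfsg.IsSemisimilarityPair (⇑Q) g σ)
    (hD : ¬ IsSquare (LinearMap.BilinForm.toMatrix' (QuadraticMap.polarBilin Q)).det)
    (hh : g * mapGL σ g ∈ GO Q) : PG.sgn Q k ⟨g * mapGL σ g, hh⟩ = -1 := by
  obtain ⟨c, hc⟩ := hp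
  have hc0 : (c : F) ≠ 0 := Units.ne_zero c
  set J := LinearMap.BilinForm.toMatrix' (QuadraticMap.polarBilin Q) with hJ
  set G : Matrix ι ι F := (g : Matrix ι ι F) with hG
  have hgram := gram_semi Q c hc
  have hdet := congrArg Matrix.det hgram
  rw [Matrix.det_mul, Matrix.det_mul, Matrix.det_transpose, Matrix.det_smul, hk] at hdet
  have hJσ : (J.map σ).det = σ J.det := by
    have := RingHom.map_det (σ : F →+* F) J
    exact this.symm
  rw [hJσ] at hdet
  -- `e = det g / c^k`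
  set e := G.det * ((c : F)⁻¹) ^ k with he
  have he2 : e ^ 2 * J.det = σ J.det := by
    rw [he]
    have h3 : ((c : F)⁻¹) ^ (2 * k) * (c : F) ^ (2 * k) = 1 := by
      rw [← mul_pow, inv_mul_cancel₀ hc0, one_pow]
    calc (G.det * ((c : F)⁻¹) ^ k) ^ 2 * J.det
        = ((c : F)⁻¹) ^ (2 * k) * (G.det * J.det * G.det) := by ring
      _ = ((c : F)⁻¹) ^ (2 * k) * ((c : F) ^ (2 * k) * σ J.det) := by rw [hdet]
      _ = σ J.det := by rw [← mul_assoc, h3, one_mul]
  have hN := norm_eq_neg_one σ h2 hσ2 hσ J.det e hD he2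
  -- the multiplier of the square
  have hμ : mu Q ⟨g * mapGL σ g, hh⟩ = c * Units.map (σ : F →* F) c := by
    apply mu_of_sim Q hex
    intro w
    show Q (((g * mapGL σ g : GL ι F) : Matrix ι ι F) *ᵥ w) = _
    have hw : w = fun i => σ ((fun j => σ (w j)) i) := by
      funext i; rw [hσ2]
    have h1 : ((g * mapGL σ g : GL ι F) : Matrix ι ι F) *ᵥ w =
        (g : Matrix ι ι F) *ᵥ (fun i => σ (((g : Matrix ι ι F) *ᵥ (fun j => σ (w j))) i)) := by
      rw [Units.val_mul, ← Matrix.mulVec_mulVec, mapGL_val]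
      nth_rewrite 1 [hw]
      rw [map_mulVec'']
    rw [h1, hc, hc, map_mul, hσ2, Units.val_mul, mul_assoc]
    rfl
  unfold PG.sgn
  rw [hμ]
  show ((g * mapGL σ g : GL ι F) : Matrix ι ι F).det * _ = _
  rw [Units.val_mul, Matrix.det_mul, mapGL_val]
  have hGσ : ((g : Matrix ι ι F).map σ).det = σ G.det := by
    have := RingHom.map_det (σ : F →+* F) G
    exact this.symm
  rw [hGσ, ← hN, he, Units.val_mul, map_mul, map_pow, map_inv₀, mul_inv, mul_pow]
  have : ((Units.map (σ : F →* F) c : Fˣ) : F) = σ (c : F) := rfl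
  rw [this]
  ring

end Cfsg.Agent.Helper28.SSim
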