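import Mathlib
import Cfsg.Prelude.Def_LieTypeDatum
import Cfsg.Agent.Helper28.SemiSim5
import Cfsg.Agent.Helper28.PgoAut5

set_option autoImplicit false
set_option linter.unusedSectionVars false

/-! The automorphism of `PΩ(Q)` attached to a semisimilarity pair, and the field-automorphism
homomorphism `gammaPOmega → Aut(F)` with kernel `pgoAut`. -/

namespace Cfsg.Agent.Helper28.GC

open Matrix Cfsg.Agent.Helper28.SSim Cfsg.Agent.Helper28.Sg

variable {F : Type*} [Field F] {ι : Type} [Fintype ι] [DecidableEq ι] (Q : (ι → F) → F)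

theorem mapGL_symm_apply' (σ : F ≃+* F) (s : GL ι F) : mapGL σ.symm (mapGL σ s) = s := by
  apply Units.ext
  rw [mapGL_val, mapGL_val, Matrix.map_map]
  ext i j
  simp

/-- the automorphism of `Ω` given by a semisimilarity pair -/
noncomputable def equivΩ {g : GL ι F} {σ : F ≃+* F} (hp : Cfsg.IsSemisimilarityPair Q g σ) :
    ↥(Cfsg.Omega F Q) ≃* ↥(Cfsg.Omega F Q) where
  toFun := actΩ Q hp
  invFun := actΩ Q (semisim_inv Q hp)
  left_inv := by
    intro s
    apply Subtype.ext
    apply Subtype.ext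
    show actHom (mapGL σ.symm g⁻¹) σ.symm (actHom g σ _) = _
    rw [actHom_apply, actHom_apply]
    simp only [map_mul, map_inv, mapGL_symm_apply']
    group
    rfl
  right_inv := by
    intro s
    apply Subtype.ext
    apply Subtype.ext
    show actHom g σ (actHom (mapGL σ.symm g⁻¹) σ.symm _) = _
    rw [actHom_apply, actHom_apply]
    simp only [map_mul, map_inv, mapGL_symm_apply]
    simp only [inv_inv]
    group
    rfl
  map_mul' := map_mul _

theorem equivΩ_apply {g : GL ι F} {σ : F ≃+* F} (hp : Cfsg.IsSemisimilarityPair Q g σ)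
    (s : ↥(Cfsg.Omega F Q)) : equivΩ Q hp s = actΩ Q hp s := rfl

/-- the automorphism of `PΩ` given by a semisimilarity pair -/
noncomputable def autOf {g : GL ι F} {σ : F ≃+* F} (hp : Cfsg.IsSemisimilarityPair Q g σ) :
    MulAut (Cfsg.POmega F Q) :=
  QuotientGroup.congr (Subgroup.center ↥(Cfsg.Omega F Q)) (Subgroup.center ↥(Cfsg.Omega F Q))
    (equivΩ Q hp) (Subgroup.characteristic_iff_map_eq.1 inferInstance _)

theorem autOf_mk {g : GL ι F} {σ : F ≃+* F} (hp : Cfsg.IsSemisimilarityPair Q g σ)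
    (s : ↥(Cfsg.Omega F Q)) : autOf Q hp (QuotientGroup.mk s) = QuotientGroup.mk (actΩ Q hp s) :=
  rfl

theorem induced_autOf {g : GL ι F} {σ : F ≃+* F} (hp : Cfsg.IsSemisimilarityPair Q g σ) :
    Cfsg.IsInducedBySemilinearPOmega Q g σ (autOf Q hp) :=
  induced_of_apply Q hp (fun s => autOf_mk Q hp s)

theorem eq_autOf {g : GL ι F} {σ : F ≃+* F} (hp : Cfsg.IsSemisimilarityPair Q g σ)
    {β : Cfsg.POmega F Q ≃* Cfsg.POmega F Q}
    (h : Cfsg.IsInducedBySemilinearPOmega Q g σ β) : β = autOf Q hp := by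
  ext x
  induction x using QuotientGroup.induction_on with
  | H s => rw [induced_apply Q hp h, autOf_mk]

theorem autOf_mem_gamma {g : GL ι F} {σ : F ≃+* F} (hp : Cfsg.IsSemisimilarityPair Q g σ) :
    autOf Q hp ∈ Cfsg.gammaPOmega F Q :=
  Subgroup.subset_closure ⟨g, σ, hp, induced_autOf Q hp⟩

end Cfsg.Agent.Helper28.GC
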