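import Mathlib
import Cfsg.Prelude.Def_LieTypeDatum
import Cfsg.Agent.Helper28.GammaCount1

set_option autoImplicit false
set_option linter.unusedSectionVars false

/-! The field-automorphism homomorphism `gammaPOmega → Aut(F)`; its kernel is `pgoAut`. -/

namespace Cfsg.Agent.Helper28.GC

open Matrix Cfsg.Agent.Helper28.SSim Cfsg.Agent.Helper28.Sg Cfsg.Agent.Helper28.PG

variable {F : Type*} [Field F] {ι : Type} [Fintype ι] [DecidableEq ι]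
  (Q : QuadraticForm F (ι → F))

/-- the field automorphism of a semisimilarity pair is determined by the induced automorphism -/
theorem sigma_unique (hQ : (QuadraticMap.polarBilin Q).Nondegenerate) (fr : Frame3 Q)
    (hperf : commutator ↥(Cfsg.Omega F ⇑Q) = ⊤) {g g' : GL ι F} {σ σ' : F ≃+* F}
    (hp : Cfsg.IsSemisimilarityPair (⇑Q) g σ) (hp' : Cfsg.IsSemisimilarityPair (⇑Q) g' σ')
    {β : Cfsg.POmega F ⇑Q ≃* Cfsg.POmega F ⇑Q}
    (h : Cfsg.IsInducedBySemilinearPOmega (⇑Q) g σ β)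
    (h' : Cfsg.IsInducedBySemilinearPOmega (⇑Q) g' σ' β) : σ = σ' := by
  have hinv := induced_inv (⇑Q) hp h
  have hmul := induced_mul (⇑Q) (semisim_inv (⇑Q) hp) hp' hinv h'
  rw [inv_mul_cancel] at hmul
  have h1 := sigma_eq_refl_of_one Q hQ fr hperf (semisim_mul (⇑Q) (semisim_inv (⇑Q) hp) hp') hmul
  ext x
  have h2 := congrArg (fun e : F ≃+* F => σ (e x)) h1
  simp only [RingEquiv.trans_apply, RingEquiv.apply_symm_apply, RingEquiv.refl_apply] at h2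
  exact h2.symm

/-- the field automorphism attached to an element of `gammaPOmega` -/
noncomputable def sigmaOf (β : ↥(Cfsg.gammaPOmega F ⇑Q)) : F ≃+* F :=
  (exists_of_mem_gamma (⇑Q) β.1 β.2).choose_spec.choose

theorem sigmaOf_spec (β : ↥(Cfsg.gammaPOmega F ⇑Q)) :
    ∃ g : GL ι F, Cfsg.IsSemisimilarityPair (⇑Q) g (sigmaOf Q β) ∧
      Cfsg.IsInducedBySemilinearPOmega (⇑Q) g (sigmaOf Q β) β.1 :=
  ⟨(exists_of_mem_gamma (⇑Q) β.1 β.2).choose,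
    (exists_of_mem_gamma (⇑Q) β.1 β.2).choose_spec.choose_spec⟩

theorem sigmaOf_eq (hQ : (QuadraticMap.polarBilin Q).Nondegenerate) (fr : Frame3 Q)
    (hperf : commutator ↥(Cfsg.Omega F ⇑Q) = ⊤) (β : ↥(Cfsg.gammaPOmega F ⇑Q)) {g : GL ι F}
    {σ : F ≃+* F} (hp : Cfsg.IsSemisimilarityPair (⇑Q) g σ)
    (h : Cfsg.IsInducedBySemilinearPOmega (⇑Q) g σ β.1) : sigmaOf Q β = σ := by
  obtain ⟨g', hp', h'⟩ := sigmaOf_spec Q β
  exact sigma_unique Q hQ fr hperf hp' hp h' h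

/-- the field-automorphism homomorphism -/
noncomputable def sigmaHom (hQ : (QuadraticMap.polarBilin Q).Nondegenerate) (fr : Frame3 Q)
    (hperf : commutator ↥(Cfsg.Omega F ⇑Q) = ⊤) : ↥(Cfsg.gammaPOmega F ⇑Q) →* RingAut F :=
  MonoidHom.mk' (fun β => sigmaOf Q β) (by
    intro β₁ β₂
    obtain ⟨g₁, hp₁, h₁⟩ := sigmaOf_spec Q β₁
    obtain ⟨g₂, hp₂, h₂⟩ := sigmaOf_spec Q β₂
    have hmul := induced_mul (⇑Q) hp₁ hp₂ h₁ h₂
    exact sigmaOf_eq Q hQ fr hperf (β₁ * β₂) (semisim_mul (⇑Q) hp₁ hp₂) hmul)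

theorem sigmaHom_apply (hQ : (QuadraticMap.polarBilin Q).Nondegenerate) (fr : Frame3 Q)
    (hperf : commutator ↥(Cfsg.Omega F ⇑Q) = ⊤) (β : ↥(Cfsg.gammaPOmega F ⇑Q)) :
    sigmaHom Q hQ fr hperf β = sigmaOf Q β := rfl

theorem pgoAut_le_gamma : Cfsg.pgoAut F ⇑Q ≤ Cfsg.gammaPOmega F ⇑Q := by
  unfold Cfsg.pgoAut Cfsg.gammaPOmega Cfsg.autSubgroupOf
  apply Subgroup.closure_mono
  rintro β ⟨g, hg, hβ⟩
  exact ⟨g, RingEquiv.refl F, hg, hβ⟩

theorem ker_sigmaHom (hQ : (QuadraticMap.polarBilin Q).Nondegenerate) (fr : Frame3 Q)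
    (hperf : commutator ↥(Cfsg.Omega F ⇑Q) = ⊤) :
    (sigmaHom Q hQ fr hperf).ker = (Cfsg.pgoAut F ⇑Q).subgroupOf (Cfsg.gammaPOmega F ⇑Q) := by
  ext β
  rw [MonoidHom.mem_ker, sigmaHom_apply, Subgroup.mem_subgroupOf]
  constructor
  · intro h1
    obtain ⟨g, hp, h⟩ := sigmaOf_spec Q β
    rw [h1] at hp h
    exact Subgroup.subset_closure ⟨g, hp, h⟩
  · intro hβ
    rw [pgoAut_eq] at hβ
    obtain ⟨g, hg⟩ := hβ
    have h1 : Cfsg.IsInducedBySemilinearPOmega (⇑Q) g.1 (RingEquiv.refl F) β.1 :=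
      (induced_iff Q g.1 g.2 _).2 hg.symm
    exact sigmaOf_eq Q hQ fr hperf β (σ := RingEquiv.refl F) g.2 h1

theorem sigmaHom_surjective (hQ : (QuadraticMap.polarBilin Q).Nondegenerate) (fr : Frame3 Q)
    (hperf : commutator ↥(Cfsg.Omega F ⇑Q) = ⊤)
    (hsurj : ∀ σ : F ≃+* F, ∃ g : GL ι F, Cfsg.IsSemisimilarityPair (⇑Q) g σ) :
    Function.Surjective (sigmaHom Q hQ fr hperf) := by
  intro σ
  obtain ⟨g, hp⟩ := hsurj σ
  refine ⟨⟨autOf (⇑Q) hp, autOf_mem_gamma (⇑Q) hp⟩, ?_⟩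
  rw [sigmaHom_apply]
  exact sigmaOf_eq Q hQ fr hperf _ hp (induced_autOf (⇑Q) hp)

/-- the order of `gammaPOmega` -/
theorem card_gamma (hQ : (QuadraticMap.polarBilin Q).Nondegenerate) (fr : Frame3 Q)
    (hperf : commutator ↥(Cfsg.Omega F ⇑Q) = ⊤)
    (hsurj : ∀ σ : F ≃+* F, ∃ g : GL ι F, Cfsg.IsSemisimilarityPair (⇑Q) g σ) :
    Nat.card ↥(Cfsg.gammaPOmega F ⇑Q) =
      Nat.card (F ≃+* F) * Nat.card ↥(Cfsg.pgoAut F ⇑Q) := by
  have h1 := Subgroup.card_eq_card_quotient_mul_card_subgroup (sigmaHom Q hQ fr hperf).ker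
  have h2 : Nat.card (↥(Cfsg.gammaPOmega F ⇑Q) ⧸ (sigmaHom Q hQ fr hperf).ker) =
      Nat.card (F ≃+* F) :=
    Nat.card_congr (QuotientGroup.quotientKerEquivOfSurjective _
      (sigmaHom_surjective Q hQ fr hperf hsurj)).toEquiv
  have h3 : Nat.card ↥(sigmaHom Q hQ fr hperf).ker = Nat.card ↥(Cfsg.pgoAut F ⇑Q) := by
    rw [ker_sigmaHom]
    exact Nat.card_congr (Subgroup.subgroupOfEquivOfLe (pgoAut_le_gamma Q)).toEquiv
  rw [h1, h2, h3]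

end Cfsg.Agent.Helper28.GC
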