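import Mathlib
import Cfsg.Prelude.Def_LieTypeDatum
import Cfsg.Agent.Helper28.GammaCount2

set_option autoImplicit false
set_option linter.unusedSectionVars false

/-! The standard field automorphisms of `PΩ(Q)` for a form `Q` with coefficients in the prime
field, their commutation with conjugation by similarities, and the power formula. -/

namespace Cfsg.Agent.Helper28.FO

open Matrix Cfsg.Agent.Helper28.SSim Cfsg.Agent.Helper28.Sg Cfsg.Agent.Helper28.PG
  Cfsg.Agent.Helper28.GC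

variable {F : Type*} [Field F] {ι : Type} [Fintype ι] [DecidableEq ι]
  (Q : QuadraticForm F (ι → F))

/-- the form is compatible with all field automorphisms -/
def IsStd : Prop := ∀ (σ : F ≃+* F) (v : ι → F), Q (fun i => σ (v i)) = σ (Q v)

variable {Q}

theorem semisim_std (hstd : IsStd Q) (σ : F ≃+* F) :
    Cfsg.IsSemisimilarityPair (⇑Q) (1 : GL ι F) σ := by
  refine ⟨1, fun v => ?_⟩
  rw [Units.val_one, Matrix.one_mulVec, Units.val_one, one_mul]
  exact hstd σ v

/-- two automorphisms induced by the same semisimilarity are equal -/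
theorem induced_unique {g : GL ι F} {σ : F ≃+* F} (hp : Cfsg.IsSemisimilarityPair (⇑Q) g σ)
    {β β' : Cfsg.POmega F ⇑Q ≃* Cfsg.POmega F ⇑Q}
    (h : Cfsg.IsInducedBySemilinearPOmega (⇑Q) g σ β)
    (h' : Cfsg.IsInducedBySemilinearPOmega (⇑Q) g σ β') : β = β' := by
  rw [eq_autOf (⇑Q) hp h, eq_autOf (⇑Q) hp h']

/-- the standard field automorphism of `PΩ(Q)` -/
noncomputable def phiO (hstd : IsStd Q) (σ : F ≃+* F) : MulAut (Cfsg.POmega F ⇑Q) :=
  autOf (⇑Q) (semisim_std hstd σ)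

theorem induced_phiO (hstd : IsStd Q) (σ : F ≃+* F) :
    Cfsg.IsInducedBySemilinearPOmega (⇑Q) (1 : GL ι F) σ (phiO hstd σ) :=
  induced_autOf (⇑Q) (semisim_std hstd σ)

theorem isFieldAut_iff_induced (σ : F ≃+* F) (φ : Cfsg.POmega F ⇑Q ≃* Cfsg.POmega F ⇑Q) :
    Cfsg.IsFieldAutPOmegaOf (⇑Q) σ φ ↔
      Cfsg.IsInducedBySemilinearPOmega (⇑Q) (1 : GL ι F) σ φ := by
  unfold Cfsg.IsFieldAutPOmegaOf Cfsg.IsInducedBySemilinearPOmega
  simp only [Units.val_one, inv_one, Matrix.one_mul, Matrix.mul_one]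

theorem isFieldAut_iff (hstd : IsStd Q) (σ : F ≃+* F)
    (φ : Cfsg.POmega F ⇑Q ≃* Cfsg.POmega F ⇑Q) :
    Cfsg.IsFieldAutPOmegaOf (⇑Q) σ φ ↔ φ = phiO hstd σ := by
  rw [isFieldAut_iff_induced]
  constructor
  · intro h
    exact induced_unique (semisim_std hstd σ) h (induced_phiO hstd σ)
  · rintro rfl
    exact induced_phiO hstd σ

theorem phiO_mul (hstd : IsStd Q) (σ τ : F ≃+* F) :
    phiO hstd (σ * τ) = phiO hstd σ * phiO hstd τ := by
  have h := induced_mul (⇑Q) (semisim_std hstd σ) (semisim_std hstd τ)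
    (induced_phiO hstd σ) (induced_phiO hstd τ)
  have hp := semisim_mul (⇑Q) (semisim_std hstd σ) (semisim_std hstd τ)
  rw [map_one, mul_one] at h hp
  exact induced_unique hp (induced_phiO hstd (σ * τ)) h

theorem phiO_one (hstd : IsStd Q) : phiO hstd (1 : F ≃+* F) = 1 :=
  induced_unique (semisim_std hstd 1) (induced_phiO hstd 1) (induced_one (⇑Q))

/-- the standard field automorphisms as a homomorphism -/
noncomputable def phiHom (hstd : IsStd Q) : (F ≃+* F) →* MulAut (Cfsg.POmega F ⇑Q) where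
  toFun := phiO hstd
  map_one' := phiO_one hstd
  map_mul' := phiO_mul hstd

theorem phiHom_apply (hstd : IsStd Q) (σ : F ≃+* F) : phiHom hstd σ = phiO hstd σ := rfl

theorem phiO_pow (hstd : IsStd Q) (σ : F ≃+* F) (i : ℕ) :
    phiO hstd σ ^ i = phiO hstd (σ ^ i) := by
  rw [← phiHom_apply, ← phiHom_apply, map_pow]

theorem phiHom_injective (hQ : (QuadraticMap.polarBilin Q).Nondegenerate) (fr : Frame3 Q)
    (hperf : commutator ↥(Cfsg.Omega F ⇑Q) = ⊤) (hstd : IsStd Q) :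
    Function.Injective (phiHom (Q := Q) hstd) := by
  rw [injective_iff_map_eq_one]
  intro σ hσ
  rw [phiHom_apply] at hσ
  have h := induced_phiO hstd σ
  rw [hσ] at h
  exact sigma_eq_refl_of_one Q hQ fr hperf (semisim_std hstd σ) h

theorem orderOf_phiO (hQ : (QuadraticMap.polarBilin Q).Nondegenerate) (fr : Frame3 Q)
    (hperf : commutator ↥(Cfsg.Omega F ⇑Q) = ⊤) (hstd : IsStd Q) (σ : F ≃+* F) :
    orderOf (phiO hstd σ) = orderOf σ := by
  rw [← phiHom_apply]
  exact orderOf_injective (phiHom hstd) (phiHom_injective hQ fr hperf hstd) σ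

/-- the entrywise action on similarities -/
theorem mapGL_mem_GO (hstd : IsStd Q) (σ : F ≃+* F) {g : GL ι F} (hg : g ∈ GO Q) :
    mapGL σ g ∈ GO Q := by
  obtain ⟨c, hc⟩ := hg
  refine ⟨Units.map (σ : F →* F) c, fun v => ?_⟩
  have h1 : v = fun i => σ (σ.symm (v i)) := by
    funext i
    simp
  rw [mapGL_val]
  conv_lhs => rw [h1]
  rw [map_mulVec'', hstd, hc, map_mul, ← hstd]
  congr 2
  funext i
  simp

noncomputable def tauGO (hstd : IsStd Q) (σ : F ≃+* F) : ↥(GO Q) →* ↥(GO Q) :=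
  ((mapGL σ).comp (Subgroup.subtype _)).codRestrict _ (fun g => mapGL_mem_GO hstd σ g.2)

theorem tauGO_coe (hstd : IsStd Q) (σ : F ≃+* F) (g : ↥(GO Q)) :
    ((tauGO hstd σ g : ↥(GO Q)) : GL ι F) = mapGL σ (g : GL ι F) := rfl

theorem semisim_GO (g : ↥(GO Q)) :
    Cfsg.IsSemisimilarityPair (⇑Q) (g : GL ι F) (RingEquiv.refl F) := g.2

theorem induced_cG (g : ↥(GO Q)) :
    Cfsg.IsInducedBySemilinearPOmega (⇑Q) (g : GL ι F) (RingEquiv.refl F) (cG Q g) :=
  (induced_iff Q g.1 g.2 _).2 rfl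

/-- **the commutation rule** -/
theorem phiO_cG (hstd : IsStd Q) (σ : F ≃+* F) (g : ↥(GO Q)) :
    phiO hstd σ * cG Q g = cG Q (tauGO hstd σ g) * phiO hstd σ := by
  have h1 := induced_mul (⇑Q) (semisim_std hstd σ) (semisim_GO g) (induced_phiO hstd σ)
    (induced_cG g)
  have hp1 := semisim_mul (⇑Q) (semisim_std hstd σ) (semisim_GO g)
  have h2 := induced_mul (⇑Q) (semisim_GO (tauGO hstd σ g)) (semisim_std hstd σ)
    (induced_cG (tauGO hstd σ g)) (induced_phiO hstd σ)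
  rw [one_mul] at h1 hp1
  rw [map_one, mul_one, tauGO_coe] at h2
  have e : (RingEquiv.refl F).trans σ = σ.trans (RingEquiv.refl F) := by
    ext x
    rfl
  rw [e] at h1 hp1
  exact induced_unique hp1 h1 h2

/-- partial norms in the similarity group -/
noncomputable def nrmGO (hstd : IsStd Q) (σ : F ≃+* F) (g : ↥(GO Q)) : ℕ → ↥(GO Q)
  | 0 => 1
  | i + 1 => g * tauGO hstd σ (nrmGO hstd σ g i)

/-- **the power formula** -/
theorem cG_mul_phiO_pow (hstd : IsStd Q) (σ : F ≃+* F) (g : ↥(GO Q)) (i : ℕ) :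
    (cG Q g * phiO hstd σ) ^ i = cG Q (nrmGO hstd σ g i) * phiO hstd (σ ^ i) := by
  induction i with
  | zero =>
    rw [pow_zero, pow_zero]
    show 1 = cG Q 1 * phiO hstd 1
    rw [map_one, phiO_one, one_mul]
  | succ i ih =>
    rw [pow_succ', ih]
    show _ = cG Q (g * tauGO hstd σ (nrmGO hstd σ g i)) * phiO hstd (σ ^ (i + 1))
    rw [map_mul, pow_succ', phiO_mul]
    calc cG Q g * phiO hstd σ * (cG Q (nrmGO hstd σ g i) * phiO hstd (σ ^ i))
        = cG Q g * (phiO hstd σ * cG Q (nrmGO hstd σ g i)) * phiO hstd (σ ^ i) := by group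
      _ = cG Q g * (cG Q (tauGO hstd σ (nrmGO hstd σ g i)) * phiO hstd σ) * phiO hstd (σ ^ i) := by
          rw [phiO_cG]
      _ = _ := by group

/-- if all automorphisms are semilinear, the image of the similarity group is normal -/
theorem pgoAut_normal (hQ : (QuadraticMap.polarBilin Q).Nondegenerate) (fr : Frame3 Q)
    (hperf : commutator ↥(Cfsg.Omega F ⇑Q) = ⊤)
    (htop : Cfsg.gammaPOmega F ⇑Q = ⊤) : (Cfsg.pgoAut F ⇑Q).Normal := by
  constructor
  intro δ hδ α
  have hα : α ∈ Cfsg.gammaPOmega F ⇑Q := by rw [htop]; exact Subgroup.mem_top α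
  have hδ' : δ ∈ Cfsg.gammaPOmega F ⇑Q := by rw [htop]; exact Subgroup.mem_top δ
  have hker : (⟨δ, hδ'⟩ : ↥(Cfsg.gammaPOmega F ⇑Q)) ∈ (sigmaHom Q hQ fr hperf).ker := by
    rw [ker_sigmaHom, Subgroup.mem_subgroupOf]
    exact hδ
  have h2 := (inferInstance : (sigmaHom Q hQ fr hperf).ker.Normal).conj_mem _ hker ⟨α, hα⟩
  rw [ker_sigmaHom, Subgroup.mem_subgroupOf] at h2
  exact h2

end Cfsg.Agent.Helper28.FO
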