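import Mathlib
import Cfsg.Prelude.Def_LieTypeDatum
import Cfsg.Agent.Helper28.FieldO2

set_option autoImplicit false
set_option linter.unusedSectionVars false

/-! The standard field automorphism of `PΩ(Q)` attached to a single field automorphism preserving
the form `Q`; commutation with conjugation by similarities and the power formula. -/

namespace Cfsg.Agent.Helper28.FM

open Matrix Cfsg.Agent.Helper28.SSim Cfsg.Agent.Helper28.Sg Cfsg.Agent.Helper28.PG
  Cfsg.Agent.Helper28.GC Cfsg.Agent.Helper28.FO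

variable {F : Type*} [Field F] {ι : Type} [Fintype ι] [DecidableEq ι]
  (Q : QuadraticForm F (ι → F))

/-- the form is compatible with the field automorphism `σ` -/
def IsStdAt (σ : F ≃+* F) : Prop := ∀ v : ι → F, Q (fun i => σ (v i)) = σ (Q v)

variable {Q}

theorem isStdAt_one : IsStdAt Q (1 : F ≃+* F) := fun _ => rfl

theorem isStdAt_mul {σ τ : F ≃+* F} (hσ : IsStdAt Q σ) (hτ : IsStdAt Q τ) :
    IsStdAt Q (σ * τ) := by
  intro v
  have h1 := hσ (fun i => τ (v i))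
  rw [hτ] at h1
  exact h1

theorem isStdAt_pow {σ : F ≃+* F} (hσ : IsStdAt Q σ) (n : ℕ) : IsStdAt Q (σ ^ n) := by
  induction n with
  | zero => rw [pow_zero]; exact isStdAt_one
  | succ n ih => rw [pow_succ]; exact isStdAt_mul ih hσ

theorem semisim_stdAt {σ : F ≃+* F} (hσ : IsStdAt Q σ) :
    Cfsg.IsSemisimilarityPair (⇑Q) (1 : GL ι F) σ := by
  refine ⟨1, fun v => ?_⟩
  rw [Units.val_one, Matrix.one_mulVec, Units.val_one, one_mul]
  exact hσ v

/-- the standard field automorphism of `PΩ(Q)` -/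
noncomputable def phiS {σ : F ≃+* F} (hσ : IsStdAt Q σ) : MulAut (Cfsg.POmega F ⇑Q) :=
  autOf (⇑Q) (semisim_stdAt hσ)

theorem induced_phiS {σ : F ≃+* F} (hσ : IsStdAt Q σ) :
    Cfsg.IsInducedBySemilinearPOmega (⇑Q) (1 : GL ι F) σ (phiS hσ) :=
  induced_autOf (⇑Q) (semisim_stdAt hσ)

theorem phiS_congr {σ τ : F ≃+* F} (hσ : IsStdAt Q σ) (hτ : IsStdAt Q τ) (h : σ = τ) :
    phiS hσ = phiS hτ := by
  subst h
  rfl

theorem isFieldAut_iff' {σ : F ≃+* F} (hσ : IsStdAt Q σ)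
    (φ : Cfsg.POmega F ⇑Q ≃* Cfsg.POmega F ⇑Q) :
    Cfsg.IsFieldAutPOmegaOf (⇑Q) σ φ ↔ φ = phiS hσ := by
  rw [isFieldAut_iff_induced]
  constructor
  · intro h
    exact induced_unique (semisim_stdAt hσ) h (induced_phiS hσ)
  · rintro rfl
    exact induced_phiS hσ

theorem phiS_mul {σ τ : F ≃+* F} (hσ : IsStdAt Q σ) (hτ : IsStdAt Q τ) :
    phiS (isStdAt_mul hσ hτ) = phiS hσ * phiS hτ := by
  have h := induced_mul (⇑Q) (semisim_stdAt hσ) (semisim_stdAt hτ)
    (induced_phiS hσ) (induced_phiS hτ)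
  have hp := semisim_mul (⇑Q) (semisim_stdAt hσ) (semisim_stdAt hτ)
  rw [map_one, mul_one] at h hp
  exact induced_unique hp (induced_phiS (isStdAt_mul hσ hτ)) h

theorem phiS_one : phiS (isStdAt_one (Q := Q)) = 1 :=
  induced_unique (semisim_stdAt isStdAt_one) (induced_phiS isStdAt_one) (induced_one (⇑Q))

theorem phiS_pow {σ : F ≃+* F} (hσ : IsStdAt Q σ) (i : ℕ) :
    phiS hσ ^ i = phiS (isStdAt_pow hσ i) := by
  induction i with
  | zero =>
    rw [pow_zero]
    rw [phiS_congr (isStdAt_pow hσ 0) isStdAt_one (pow_zero σ), phiS_one]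
  | succ i ih =>
    rw [pow_succ, ih, ← phiS_mul]
    exact phiS_congr _ _ (pow_succ σ i).symm

theorem phiS_eq_one (hQ : (QuadraticMap.polarBilin Q).Nondegenerate) (fr : Frame3 Q)
    (hperf : commutator ↥(Cfsg.Omega F ⇑Q) = ⊤) {σ : F ≃+* F} (hσ : IsStdAt Q σ)
    (h : phiS hσ = 1) : σ = 1 := by
  have h1 := induced_phiS hσ
  rw [h] at h1
  exact sigma_eq_refl_of_one Q hQ fr hperf (semisim_stdAt hσ) h1

theorem orderOf_phiS (hQ : (QuadraticMap.polarBilin Q).Nondegenerate) (fr : Frame3 Q)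
    (hperf : commutator ↥(Cfsg.Omega F ⇑Q) = ⊤) {σ : F ≃+* F} (hσ : IsStdAt Q σ) :
    orderOf (phiS hσ) = orderOf σ := by
  rw [orderOf_eq_orderOf_iff]
  intro n
  rw [phiS_pow]
  constructor
  · intro h
    exact phiS_eq_one hQ fr hperf _ h
  · intro h
    rw [phiS_congr (isStdAt_pow hσ n) isStdAt_one h, phiS_one]

/-- the entrywise action on similarities -/
theorem mapGL_mem_GO' {σ : F ≃+* F} (hσ : IsStdAt Q σ) {g : GL ι F} (hg : g ∈ GO Q) :
    mapGL σ g ∈ GO Q := by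
  obtain ⟨c, hc⟩ := hg
  refine ⟨Units.map (σ : F →* F) c, fun v => ?_⟩
  have h1 : v = fun i => σ (σ.symm (v i)) := by
    funext i
    simp
  rw [mapGL_val]
  conv_lhs => rw [h1]
  rw [map_mulVec'', hσ, hc, map_mul, ← hσ]
  congr 2
  funext i
  simp

noncomputable def tauS {σ : F ≃+* F} (hσ : IsStdAt Q σ) : ↥(GO Q) →* ↥(GO Q) :=
  ((mapGL σ).comp (Subgroup.subtype _)).codRestrict _ (fun g => mapGL_mem_GO' hσ g.2)

theorem tauS_coe {σ : F ≃+* F} (hσ : IsStdAt Q σ) (g : ↥(GO Q)) :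
    ((tauS hσ g : ↥(GO Q)) : GL ι F) = mapGL σ (g : GL ι F) := rfl

/-- **the commutation rule** -/
theorem phiS_cG {σ : F ≃+* F} (hσ : IsStdAt Q σ) (g : ↥(GO Q)) :
    phiS hσ * cG Q g = cG Q (tauS hσ g) * phiS hσ := by
  have h1 := induced_mul (⇑Q) (semisim_stdAt hσ) (semisim_GO g) (induced_phiS hσ)
    (induced_cG g)
  have hp1 := semisim_mul (⇑Q) (semisim_stdAt hσ) (semisim_GO g)
  have h2 := induced_mul (⇑Q) (semisim_GO (tauS hσ g)) (semisim_stdAt hσ)
    (induced_cG (tauS hσ g)) (induced_phiS hσ)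
  rw [one_mul] at h1 hp1
  rw [map_one, mul_one, tauS_coe] at h2
  have e : (RingEquiv.refl F).trans σ = σ.trans (RingEquiv.refl F) := by
    ext x
    rfl
  rw [e] at h1 hp1
  exact induced_unique hp1 h1 h2

/-- partial norms in the similarity group -/
noncomputable def nrmS {σ : F ≃+* F} (hσ : IsStdAt Q σ) (g : ↥(GO Q)) : ℕ → ↥(GO Q)
  | 0 => 1
  | i + 1 => g * tauS hσ (nrmS hσ g i)

/-- **the power formula** -/
theorem cG_mul_phiS_pow {σ : F ≃+* F} (hσ : IsStdAt Q σ) (g : ↥(GO Q)) (i : ℕ) :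
    (cG Q g * phiS hσ) ^ i = cG Q (nrmS hσ g i) * phiS (isStdAt_pow hσ i) := by
  induction i with
  | zero =>
    rw [pow_zero]
    show 1 = cG Q 1 * phiS (isStdAt_pow hσ 0)
    rw [map_one, phiS_congr (isStdAt_pow hσ 0) isStdAt_one (pow_zero σ), phiS_one, one_mul]
  | succ i ih =>
    rw [pow_succ', ih]
    show _ = cG Q (g * tauS hσ (nrmS hσ g i)) * phiS (isStdAt_pow hσ (i + 1))
    rw [map_mul, phiS_congr (isStdAt_pow hσ (i + 1)) (isStdAt_mul hσ (isStdAt_pow hσ i))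
      (pow_succ' σ i), phiS_mul hσ (isStdAt_pow hσ i)]
    calc cG Q g * phiS hσ * (cG Q (nrmS hσ g i) * phiS (isStdAt_pow hσ i))
        = cG Q g * (phiS hσ * cG Q (nrmS hσ g i)) * phiS (isStdAt_pow hσ i) := by group
      _ = cG Q g * (cG Q (tauS hσ (nrmS hσ g i)) * phiS hσ) * phiS (isStdAt_pow hσ i) := by
          rw [phiS_cG]
      _ = _ := by group

end Cfsg.Agent.Helper28.FM
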