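import Mathlib
import Cfsg.Prelude.Def_LieTypeDatum
import Cfsg.Agent.Helper28.FieldM1

set_option autoImplicit false
set_option linter.unusedSectionVars false

/-! The Lang-type theorem for the standard field automorphism of a single field automorphism. -/

namespace Cfsg.Agent.Helper28.FM

open Matrix Cfsg.Agent.Helper28.SSim Cfsg.Agent.Helper28.Sg Cfsg.Agent.Helper28.PG
  Cfsg.Agent.Helper28.GC Cfsg.Agent.Helper28.FO
open Cfsg.Agent.Helper7.FieldPSp (nrmMs nrmMs_zero nrmMs_succ nrmMs_succ' nrmMs_smul speiser_gen)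
open Cfsg.Agent.Helper7.FieldPSL (nrmF nrmF_zero nrmF_succ hilbert90 exists_norm_eq
  orderOf_pos_ringAut)

variable {F : Type*} [Field F] {ι : Type} [Fintype ι] [DecidableEq ι]
  {Q : QuadraticForm F (ι → F)}

theorem nrmS_coe {σ : F ≃+* F} (hσ : IsStdAt Q σ) (g : ↥(GO Q)) (i : ℕ) :
    (((nrmS hσ g i : ↥(GO Q)) : GL ι F) : Matrix ι ι F) =
      nrmMs σ ((g : GL ι F) : Matrix ι ι F) i := by
  induction i with
  | zero => rfl
  | succ i ih =>
    show (((g * tauS hσ (nrmS hσ g i) : ↥(GO Q)) : GL ι F) : Matrix ι ι F) = _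
    rw [Subgroup.coe_mul, Units.val_mul, tauS_coe, mapGL_val, ih]
    rfl

/-- **the orthogonal Lang-type theorem**, given the classification of rational forms -/
theorem conj_of_pow_eq_one_S [Finite F] (hQ : (QuadraticMap.polarBilin Q).Nondegenerate)
    (fr : Frame3 Q) (hperf : commutator ↥(Cfsg.Omega F ⇑Q) = ⊤) {σ : F ≃+* F} (hσ : IsStdAt Q σ)
    (hclass : ∀ P : QuadraticForm F (ι → F), (∀ w : ι → F, P (vs σ w) = σ (P w)) →
      (∃ (A : GL ι F) (c : Fˣ), ∀ w, P w = (c : F) * Q ((A : Matrix ι ι F) *ᵥ w)) →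
      ∃ (a : GL ι F) (d : Fˣ), mapGL σ a = a ∧
        ∀ w, P ((a : Matrix ι ι F) *ᵥ w) = (d : F) * Q w)
    (g : ↥(GO Q)) (h : (cG Q g * phiS hσ) ^ orderOf σ = 1) :
    ∃ B : ↥(GO Q), cG Q g * phiS hσ = cG Q B * phiS hσ * (cG Q B)⁻¹ := by
  classical
  have hσpos : 0 < orderOf σ := orderOf_pos_ringAut σ
  set r := orderOf σ with hr
  set G : Matrix ι ι F := ((g : GL ι F) : Matrix ι ι F) with hG
  rw [cG_mul_phiS_pow, phiS_congr (isStdAt_pow hσ (orderOf σ)) isStdAt_one (pow_orderOf_eq_one σ),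
    phiS_one, mul_one] at h
  obtain ⟨c, hc⟩ := ker_cG Q hQ fr hperf _ h
  have hc' : nrmMs σ G r = c • (1 : Matrix ι ι F) := by
    rw [← nrmS_coe hσ g r]
    apply Cfsg.Agent.Helper28.Spin.matrix_ext_mulVec
    intro x
    rw [hc x, Matrix.smul_mulVec, Matrix.one_mulVec]
  have hex : ∃ v : ι → F, Q v ≠ 0 := by
    refine ⟨fr.e 0 + fr.f 0, ?_⟩
    rw [Cfsg.Agent.Helper28.Sg.Q_add, fr.Qe, fr.Qf]
    simp only [B, fr.Bef]
    simp
  obtain ⟨v₀, hv₀⟩ := hex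
  have hv₀0 : v₀ ≠ 0 := by
    rintro rfl
    exact hv₀ (map_zero Q)
  have hc0 : c ≠ 0 := by
    rintro rfl
    have h1 := hc v₀
    rw [zero_smul] at h1
    have h2 : (((nrmS hσ g r : ↥(GO Q)) : GL ι F)⁻¹ : GL ι F).1 *ᵥ
        ((((nrmS hσ g r : ↥(GO Q)) : GL ι F)) : Matrix ι ι F) *ᵥ v₀ = v₀ :=
      inv_mulVec_mulVec _ v₀
    rw [h1, Matrix.mulVec_zero] at h2
    exact hv₀0 h2.symm
  have hG0 : G ≠ 0 := by
    intro h0
    have h1 := mu_spec Q g v₀
    rw [← hG, h0, Matrix.zero_mulVec, map_zero] at h1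
    rcases mul_eq_zero.1 h1.symm with h2 | h2
    · exact (mu Q g).ne_zero h2
    · exact hv₀ h2
  -- `c` is fixed by `σ`
  have hcfix : σ c = c := by
    have e1 := nrmMs_succ σ G r
    have e2 := nrmMs_succ' σ G r
    rw [hr, pow_orderOf_eq_one, ← hr] at e2
    have e3 : G.map (1 : F ≃+* F) = G := by
      ext a b
      rfl
    rw [e3, e1, hc'] at e2
    have e4 : (c • (1 : Matrix ι ι F)).map σ = σ c • (1 : Matrix ι ι F) := by
      ext a b
      simp only [Matrix.map_apply, Matrix.smul_apply, Matrix.one_apply, smul_eq_mul, map_mul]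
      by_cases hab : a = b
      · simp [hab]
      · simp [hab]
    rw [e4, Matrix.mul_smul, Matrix.mul_one, Matrix.smul_mul, Matrix.one_mul] at e2
    have e5 : (σ c - c) • G = 0 := by rw [sub_smul, e2, sub_self]
    rcases smul_eq_zero.1 e5 with h' | h'
    · exact sub_eq_zero.1 h'
    · exact absurd h' hG0
  set cu : Fˣ := Units.mk0 c hc0 with hcu
  have hcinvfix : σ ((cu⁻¹ : Fˣ) : F) = ((cu⁻¹ : Fˣ) : F) := by
    rw [Units.val_inv_eq_inv_val, map_inv₀, hcu, Units.val_mk0, hcfix]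
  obtain ⟨ν, hν⟩ := Cfsg.Agent.Helper7.FieldPSL.exists_norm_eq σ cu⁻¹ hcinvfix
  have hN : nrmMs σ ((ν : F) • G) r = 1 := by
    rw [nrmMs_smul, hc', hν, smul_smul, Units.val_inv_eq_inv_val, hcu, Units.val_mk0,
      inv_mul_cancel₀ hc0, one_smul]
  obtain ⟨A, hA, hGA⟩ := speiser_gen σ ((ν : F) • G) hN hσpos
  set A' : GL ι F := hA.unit with hA'
  have hAA : (A' : Matrix ι ι F) = A := rfl
  -- the twisted form
  set μ' : F := (ν : F) * (ν : F) * (mu Q g : F) with hμ'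
  have hμ'0 : μ' ≠ 0 := mul_ne_zero (mul_ne_zero ν.ne_zero ν.ne_zero) (mu Q g).ne_zero
  have hP1 : ∀ w : ι → F, Q (A *ᵥ vs σ w) = μ' * σ (Q (A *ᵥ w)) := by
    intro w
    have e1 : A *ᵥ vs σ w = (ν : F) • (G *ᵥ vs σ (A *ᵥ w)) := by
      conv_lhs => rw [← hGA]
      rw [← Matrix.mulVec_mulVec, ← vs_mulVec, Matrix.smul_mulVec]
    rw [e1, QuadraticMap.map_smul, hG, mu_spec]
    have e2 : Q (vs σ (A *ᵥ w)) = σ (Q (A *ᵥ w)) := hσ _
    rw [e2, hμ', smul_eq_mul]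
    ring
  -- the norm of `μ'` is one
  have hNμ : nrmF σ μ' r = 1 := by
    have hAv : ∃ w : ι → F, Q (A *ᵥ w) ≠ 0 := by
      refine ⟨((A'⁻¹ : GL ι F) : Matrix ι ι F) *ᵥ v₀, ?_⟩
      rw [← hAA, mulVec_inv_mulVec]
      exact hv₀
    obtain ⟨w, hw⟩ := hAv
    have h1 := twisted_iter σ (fun w => Q (A *ᵥ w)) μ' hP1 r w
    rw [hr, pow_orderOf_eq_one, ← hr, vs_one] at h1
    have h2 : Q (A *ᵥ w) = nrmF σ μ' r * Q (A *ᵥ w) := h1
    have h3 : (1 - nrmF σ μ' r) * Q (A *ᵥ w) = 0 := by linear_combination h2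
    rcases mul_eq_zero.1 h3 with h4 | h4
    · linear_combination -h4
    · exact absurd h4 hw
  have hNμinv : nrmF σ μ'⁻¹ r = 1 := by
    have h1 : nrmF σ μ'⁻¹ r * nrmF σ μ' r = 1 := by
      rw [← Cfsg.Agent.Helper7.FieldPSL.nrmF_mul, inv_mul_cancel₀ hμ'0,
        Cfsg.Agent.Helper7.FieldPSL.nrmF_one]
    rw [hNμ, mul_one] at h1
    exact h1
  obtain ⟨κ, hκ0, hκ⟩ := hilbert90 σ μ'⁻¹ hNμinv hσpos
  have hκ' : σ κ = μ' * κ := by
    field_simp at hκ
    linear_combination hκ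
  -- the rational form
  set P : QuadraticForm F (ι → F) := κ • Q.comp (Matrix.toLin' A) with hP
  have hPw : ∀ w, P w = κ * Q (A *ᵥ w) := by
    intro w
    rw [hP, _root_.smul_apply, QuadraticMap.comp_apply, Matrix.toLin'_apply, smul_eq_mul]
  have hPσ : ∀ w : ι → F, P (vs σ w) = σ (P w) := by
    intro w
    rw [hPw, hPw, hP1, map_mul, hκ']
    ring
  obtain ⟨a, d, haσ, had⟩ := hclass P hPσ ⟨A', Units.mk0 κ hκ0, fun w => by
    rw [hPw, Units.val_mk0, hAA]⟩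
  -- the conjugating similarity
  set Bg : GL ι F := A' * a with hBg
  have hBmem : Bg ∈ GO Q := by
    refine ⟨d * (Units.mk0 κ hκ0)⁻¹, fun w => ?_⟩
    have h1 := had w
    rw [hPw, Matrix.mulVec_mulVec, ← hAA, ← Units.val_mul, ← hBg] at h1
    have h2 : ((d * (Units.mk0 κ hκ0)⁻¹ : Fˣ) : F) = (d : F) / κ := by
      rw [Units.val_mul, Units.val_inv_eq_inv_val, Units.val_mk0, div_eq_mul_inv]
    rw [h2]
    field_simp
    linear_combination h1
  set B' : ↥(GO Q) := ⟨Bg, hBmem⟩ with hB'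
  have key : (scal Q ν * g : ↥(GO Q)) * tauS hσ B' = B' := by
    apply Subtype.ext
    apply Units.ext
    show (((scal Q ν : ↥(GO Q)) : GL ι F) : Matrix ι ι F) * G *
      ((mapGL σ Bg : GL ι F) : Matrix ι ι F) = (Bg : Matrix ι ι F)
    rw [scal_val, hBg, map_mul, haσ, Units.val_mul, mapGL_val, hAA, Units.val_mul, hAA,
      ← Matrix.mul_assoc, Matrix.smul_mul, Matrix.one_mul, hGA]
  have key2 : cG Q g * cG Q (tauS hσ B') = cG Q B' := by
    have h2 := congrArg (cG Q) key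
    rw [map_mul, map_mul, cG_scal, one_mul] at h2
    exact h2
  refine ⟨B', ?_⟩
  have key3 : phiS hσ * (cG Q B')⁻¹ = (cG Q (tauS hσ B'))⁻¹ * phiS hσ := by
    rw [eq_inv_mul_iff_mul_eq, ← mul_assoc, ← phiS_cG, mul_assoc, mul_inv_cancel, mul_one]
  rw [mul_assoc, key3, ← key2]
  group

end Cfsg.Agent.Helper28.FM
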