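import Mathlib
import Cfsg.Prelude.Def_LieTypeDatum
import Cfsg.Agent.Helper28.Siegel6
import Cfsg.Agent.S2615
import Cfsg.Agent.S2171

set_option autoImplicit false
set_option linter.unusedSectionVars false

/-! The Witt index of the minus-type form: no totally singular subspace of half the dimension. -/

namespace Cfsg.Agent.Helper28.FM

open Module Submodule Matrix Cfsg.Agent.Helper28.Spin Cfsg.Agent.Helper28.Sg

variable {F : Type*} [Field F] {m : ℕ}

/-- the embedding of the standard totally singular `m`-space -/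
def iE (m : ℕ) (F : Type*) [Field F] : (Fin m → F) →ₗ[F] ((Fin m ⊕ Fin m) ⊕ Fin 2 → F) where
  toFun x := Sum.elim (Sum.elim x 0) 0
  map_add' x y := by
    funext k
    rcases k with (k | k) | k <;> simp
  map_smul' c x := by
    funext k
    rcases k with (k | k) | k <;> simp

theorem iE_injective : Function.Injective (iE m F) := by
  intro x y h
  funext i
  have := congrFun h (Sum.inl (Sum.inl i))
  exact this

theorem finrank_range_iE : finrank F (LinearMap.range (iE m F)) = m := by
  rw [LinearMap.finrank_range_of_inj iE_injective, Module.finrank_fintype_fun_eq_card,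
    Fintype.card_fin]

theorem mem_range_iE (v : (Fin m ⊕ Fin m) ⊕ Fin 2 → F)
    (h1 : ∀ i, v (Sum.inl (Sum.inr i)) = 0) (h2 : ∀ j, v (Sum.inr j) = 0) :
    v ∈ LinearMap.range (iE m F) := by
  refine ⟨fun i => v (Sum.inl (Sum.inl i)), ?_⟩
  funext k
  rcases k with (k | k) | k
  · rfl
  · exact (h1 k).symm
  · exact (h2 k).symm

theorem single_mem_range_iE [DecidableEq (Fin m)] (i : Fin m) :
    (Pi.single (Sum.inl (Sum.inl i)) 1 : (Fin m ⊕ Fin m) ⊕ Fin 2 → F) ∈
      LinearMap.range (iE m F) := by
  apply mem_range_iE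
  · intro j
    simp
  · intro j
    simp

/-- **the Witt index of the minus-type form is `m`** -/
theorem finrank_le_of_TS_minus (a b : F)
    (hab : ∀ z₁ z₂ : F, z₁ ^ 2 + a * z₁ * z₂ + b * z₂ ^ 2 = 0 → z₁ = 0 ∧ z₂ = 0)
    (hQ : (QuadraticMap.polarBilin (QfMinus m F a b)).Nondegenerate)
    (U : Submodule F ((Fin m ⊕ Fin m) ⊕ Fin 2 → F))
    (hU : ∀ u ∈ U, QfMinus m F a b u = 0) : finrank F U ≤ m := by
  classical
  set Bf : LinearMap.BilinForm F ((Fin m ⊕ Fin m) ⊕ Fin 2 → F) :=
    QuadraticMap.polarBilin (QfMinus m F a b) with hBf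
  have hV : finrank F ((Fin m ⊕ Fin m) ⊕ Fin 2 → F) = 2 * m + 2 := by
    rw [Module.finrank_fintype_fun_eq_card, Fintype.card_sum, Fintype.card_sum, Fintype.card_fin,
      Fintype.card_fin]
    ring
  have hUle : U ≤ Bf.orthogonal U := by
    intro u hu
    rw [LinearMap.BilinForm.mem_orthogonal_iff]
    intro n hn
    show Bf n u = 0
    rw [hBf, QuadraticMap.polarBilin_apply_apply]
    unfold QuadraticMap.polar
    rw [hU _ (U.add_mem hn hu), hU _ hn, hU _ hu]
    ring
  have horth := LinearMap.BilinForm.finrank_orthogonal hQ U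
  have h1 := Submodule.finrank_mono hUle
  rw [horth, hV] at h1
  have hUV : finrank F U ≤ finrank F ((Fin m ⊕ Fin m) ⊕ Fin 2 → F) := Submodule.finrank_le _
  rw [hV] at hUV
  by_contra hcon
  push Not at hcon
  have hUm : finrank F U = m + 1 := by omega
  have hUeq : U = Bf.orthogonal U := by
    apply Submodule.eq_of_le_of_finrank_eq hUle
    rw [horth, hV, hUm]
    omega
  set E₀ := LinearMap.range (iE m F) with hE₀
  have hE₀m : finrank F E₀ = m := finrank_range_iE
  have hle : Bf.orthogonal (U ⊔ E₀) ≤ U ⊓ E₀ := by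
    intro v hv
    rw [LinearMap.BilinForm.mem_orthogonal_iff] at hv
    have hvU : v ∈ U := by
      rw [hUeq, LinearMap.BilinForm.mem_orthogonal_iff]
      intro n hn
      exact hv n (Submodule.mem_sup_left hn)
    refine ⟨hvU, ?_⟩
    have h3 : ∀ i, v (Sum.inl (Sum.inr i)) = 0 := by
      intro i
      have h4 := hv _ (Submodule.mem_sup_right (single_mem_range_iE (F := F) i))
      have h5 : Bf (Pi.single (Sum.inl (Sum.inl i)) 1) v = 0 := h4
      rw [hBf, QuadraticMap.polarBilin_apply_apply,
        polar_single_left (Cfsg.Agent.S2615.hypPair_minus m a b i)] at h5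
      exact h5
    have h6 := hU v hvU
    rw [QfMinus_coe] at h6
    unfold Cfsg.quadFormMinus at h6
    have h7 : ∑ i : Fin m, v (Sum.inl (Sum.inl i)) * v (Sum.inl (Sum.inr i)) = 0 := by
      apply Finset.sum_eq_zero
      intro i _
      rw [h3, mul_zero]
    rw [h7, zero_add] at h6
    obtain ⟨h8, h9⟩ := hab _ _ h6
    apply mem_range_iE v h3
    intro j
    fin_cases j
    · exact h8
    · exact h9
  have h10 := Submodule.finrank_mono hle
  rw [LinearMap.BilinForm.finrank_orthogonal hQ, hV] at h10
  have h11 := Submodule.finrank_sup_add_finrank_inf_eq U E₀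
  have h12 : finrank F ↥(U ⊔ E₀) ≤ 2 * m + 2 := by
    rw [← hV]
    exact Submodule.finrank_le _
  omega

end Cfsg.Agent.Helper28.FM
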