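import Mathlib
import Cfsg.Prelude.Def_LieTypeDatum
import Cfsg.Agent.Helper28.FieldO2
import Cfsg.Agent.Helper13.QuadWitt

set_option autoImplicit false
set_option linter.unusedSectionVars false

/-! Descent of a quadratic form invariant under a field automorphism to the fixed field, and the
value of a quadratic form on a sum of hyperbolic pairs. -/

namespace Cfsg.Agent.Helper28.FO

open Matrix Cfsg.Agent.Helper28.SSim

variable {F : Type*} [Field F] {ι : Type} [Fintype ι] [DecidableEq ι]

section descent

variable (σ : F ≃+* F)

/-- extension of scalars of vectors -/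
def up (w : ι → ↥(fixedSub σ)) : ι → F := fun i => (w i : F)

theorem up_add (x y : ι → ↥(fixedSub σ)) : up σ (x + y) = up σ x + up σ y := rfl

theorem up_smul (a : ↥(fixedSub σ)) (x : ι → ↥(fixedSub σ)) :
    up σ (a • x) = (a : F) • up σ x := rfl

theorem up_zero : up σ (0 : ι → ↥(fixedSub σ)) = 0 := rfl

theorem up_injective : Function.Injective (up σ : (ι → ↥(fixedSub σ)) → (ι → F)) := by
  intro x y h
  funext i
  exact Subtype.ext (congrFun h i)

theorem vs_up (w : ι → ↥(fixedSub σ)) : vs σ (up σ w) = up σ w := by
  funext i
  exact (w i).2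

theorem up_single (i : ι) : up σ (Pi.single i (1 : ↥(fixedSub σ))) = Pi.single i (1 : F) := by
  funext j
  by_cases h : j = i
  · subst h
    simp [up]
  · simp [up, h]

/-- a vector fixed by `σ` comes from the fixed field -/
theorem exists_up_of_fixed (v : ι → F) (hv : vs σ v = v) : ∃ w, up σ w = v :=
  ⟨fun i => ⟨v i, congrFun hv i⟩, rfl⟩

variable {σ} (P : QuadraticForm F (ι → F)) (hP : ∀ w : ι → F, P (vs σ w) = σ (P w))

include hP in
theorem fixed_value (w : ι → ↥(fixedSub σ)) : σ (P (up σ w)) = P (up σ w) := by
  rw [← hP, vs_up]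

include hP in
theorem fixed_polar (x y : ι → ↥(fixedSub σ)) :
    σ (QuadraticMap.polar P (up σ x) (up σ y)) = QuadraticMap.polar P (up σ x) (up σ y) := by
  unfold QuadraticMap.polar
  rw [map_sub, map_sub, ← up_add, fixed_value P hP, fixed_value P hP, fixed_value P hP]

/-- the restriction of an invariant form to the fixed field -/
noncomputable def descend : QuadraticForm ↥(fixedSub σ) (ι → ↥(fixedSub σ)) where
  toFun w := ⟨P (up σ w), fixed_value P hP w⟩
  toFun_smul a x := by
    apply Subtype.ext
    show P (up σ (a • x)) = ((a * a : ↥(fixedSub σ)) : F) * P (up σ x)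
    rw [up_smul, QuadraticMap.map_smul]
    rfl
  exists_companion' := by
    refine ⟨LinearMap.mk₂ ↥(fixedSub σ)
      (fun x y => (⟨QuadraticMap.polar P (up σ x) (up σ y), fixed_polar P hP x y⟩ :
        ↥(fixedSub σ))) ?_ ?_ ?_ ?_, ?_⟩
    · intro x x' y
      apply Subtype.ext
      show QuadraticMap.polar P (up σ (x + x')) (up σ y) = _
      rw [up_add, QuadraticMap.polar_add_left]
      rfl
    · intro a x y
      apply Subtype.ext
      show QuadraticMap.polar P (up σ (a • x)) (up σ y) = _
      rw [up_smul, QuadraticMap.polar_smul_left]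
      rfl
    · intro x y y'
      apply Subtype.ext
      show QuadraticMap.polar P (up σ x) (up σ (y + y')) = _
      rw [up_add, QuadraticMap.polar_add_right]
      rfl
    · intro a x y
      apply Subtype.ext
      show QuadraticMap.polar P (up σ x) (up σ (a • y)) = _
      rw [up_smul, QuadraticMap.polar_smul_right]
      rfl
    · intro x y
      apply Subtype.ext
      show P (up σ (x + y)) = P (up σ x) + P (up σ y) + QuadraticMap.polar P (up σ x) (up σ y)
      unfold QuadraticMap.polar
      rw [up_add]
      ring

theorem descend_apply (w : ι → ↥(fixedSub σ)) : ((descend P hP w : ↥(fixedSub σ)) : F) = P (up σ w) :=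
  rfl

theorem descend_polar (x y : ι → ↥(fixedSub σ)) :
    ((QuadraticMap.polar (descend P hP) x y : ↥(fixedSub σ)) : F) =
      QuadraticMap.polar P (up σ x) (up σ y) := by
  unfold QuadraticMap.polar
  rw [Subfield.coe_sub, Subfield.coe_sub, descend_apply, descend_apply, descend_apply, up_add]

theorem descend_nondeg (hnd : ∀ v : ι → F, (∀ w, QuadraticMap.polar P v w = 0) → v = 0)
    (v : ι → ↥(fixedSub σ))
    (hv : ∀ w, QuadraticMap.polar (descend P hP) v w = 0) : v = 0 := by
  apply up_injective σ
  rw [up_zero]
  apply hnd
  intro w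
  have h1 : ∀ i : ι, QuadraticMap.polar P (up σ v) (Pi.single i 1) = 0 := by
    intro i
    have := congrArg (fun x : ↥(fixedSub σ) => (x : F)) (hv (Pi.single i 1))
    simp only [descend_polar, up_single] at this
    exact this
  have h2 : w = ∑ i, w i • (Pi.single i (1 : F) : ι → F) := by
    funext j
    simp [Finset.sum_apply, Pi.single_apply]
  rw [h2]
  have h3 : ∀ s : Finset ι, QuadraticMap.polar P (up σ v)
      (∑ i ∈ s, w i • (Pi.single i (1 : F) : ι → F)) = 0 := by
    intro s
    induction s using Finset.induction_on with
    | empty => simp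
    | insert a s ha ih =>
      rw [Finset.sum_insert ha, QuadraticMap.polar_add_right, ih, QuadraticMap.polar_smul_right,
        h1, smul_zero, add_zero]
  exact h3 _

end descent

section hypsum

variable {V : Type*} [AddCommGroup V] [Module F V] (P : QuadraticForm F V)

/-- the value of a quadratic form on a vector plus a combination of hyperbolic pairs -/
theorem map_add_hyp_sum {m : ℕ} (E G : Fin m → V) (c : F)
    (hE : ∀ i, P (E i) = 0) (hG : ∀ i, P (G i) = 0)
    (hEG : ∀ i j, QuadraticMap.polar P (E i) (G j) = if i = j then c else 0)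
    (hEE : ∀ i j, QuadraticMap.polar P (E i) (E j) = 0)
    (hGG : ∀ i j, QuadraticMap.polar P (G i) (G j) = 0)
    (u : V) (huE : ∀ i, QuadraticMap.polar P u (E i) = 0)
    (huG : ∀ i, QuadraticMap.polar P u (G i) = 0) (x y : Fin m → F) :
    P (u + ∑ i, (x i • E i + y i • G i)) = P u + c * ∑ i, x i * y i := by
  have key : ∀ s : Finset (Fin m),
      P (u + ∑ i ∈ s, (x i • E i + y i • G i)) = P u + c * ∑ i ∈ s, x i * y i ∧
      (∀ j, j ∉ s → QuadraticMap.polar P (u + ∑ i ∈ s, (x i • E i + y i • G i)) (E j) = 0 ∧
        QuadraticMap.polar P (u + ∑ i ∈ s, (x i • E i + y i • G i)) (G j) = 0) := by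
    intro s
    induction s using Finset.induction_on with
    | empty =>
      simp only [Finset.sum_empty, add_zero, mul_zero, true_and]
      intro j _
      exact ⟨huE j, huG j⟩
    | insert a s ha ih =>
      obtain ⟨ih1, ih2⟩ := ih
      obtain ⟨ha1, ha2⟩ := ih2 a ha
      constructor
      · rw [Finset.sum_insert ha, Finset.sum_insert ha, add_comm (x a • E a + y a • G a), ← add_assoc,
          QuadraticMap.map_add (⇑P), ih1, QuadraticMap.polar_add_right,
          QuadraticMap.polar_smul_right, QuadraticMap.polar_smul_right, ha1, ha2,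
          QuadraticMap.map_add (⇑P), QuadraticMap.map_smul, QuadraticMap.map_smul, hE, hG,
          QuadraticMap.polar_smul_left, QuadraticMap.polar_smul_right, hEG, if_pos rfl]
        simp only [smul_eq_mul]
        ring
      · intro j hj
        have hja : j ≠ a := fun h => hj (by rw [h]; exact Finset.mem_insert_self a s)
        have hjs : j ∉ s := fun h => hj (Finset.mem_insert_of_mem h)
        obtain ⟨hj1, hj2⟩ := ih2 j hjs
        rw [Finset.sum_insert ha, add_comm (x a • E a + y a • G a), ← add_assoc]
        constructor
        · rw [QuadraticMap.polar_add_left, hj1, QuadraticMap.polar_add_left,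
            QuadraticMap.polar_smul_left, QuadraticMap.polar_smul_left, hEE,
            QuadraticMap.polar_comm, hEG, if_neg hja]
          simp
        · rw [QuadraticMap.polar_add_left, hj2, QuadraticMap.polar_add_left,
            QuadraticMap.polar_smul_left, QuadraticMap.polar_smul_left, hGG, hEG,
            if_neg (fun h => hja h.symm)]
          simp
  exact (key Finset.univ).1

end hypsum

end Cfsg.Agent.Helper28.FO
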