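import Mathlib
import Cfsg.Prelude.Def_LieTypeDatum
import Cfsg.Agent.Helper28.FieldO3
import Cfsg.Agent.S2614
import Cfsg.Agent.S0292

set_option autoImplicit false
set_option linter.unusedSectionVars false

/-! Rational forms of the odd-dimensional quadratic form: every form over the fixed field which
becomes similar to `quadFormOdd` is already similar to it over the fixed field. -/

namespace Cfsg.Agent.Helper28.FO

open Matrix Module Cfsg.Agent.Helper28.SSim Cfsg.Agent.S2614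

variable {F : Type*} [Field F] {ι : Type} [Fintype ι] [DecidableEq ι]

theorem vs_add (σ : F ≃+* F) (x y : ι → F) : vs σ (x + y) = vs σ x + vs σ y := by
  funext i
  exact map_add σ _ _

theorem vs_smul (σ : F ≃+* F) (c : F) (x : ι → F) : vs σ (c • x) = σ c • vs σ x := by
  funext i
  exact map_mul σ _ _

theorem vs_sum {κ : Type*} (σ : F ≃+* F) (s : Finset κ) (f : κ → ι → F) :
    vs σ (∑ i ∈ s, f i) = ∑ i ∈ s, vs σ (f i) := by
  funext k
  simp only [vs, Finset.sum_apply, map_sum]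

theorem vs_symm (σ : F ≃+* F) (x : ι → F) : vs σ (vs σ.symm x) = x := by
  funext i
  simp [vs]

/-- a matrix whose action commutes with `σ` has entries in the fixed field -/
theorem mapGL_eq_of_comm (σ : F ≃+* F) (a : GL ι F)
    (h : ∀ w : ι → F, vs σ ((a : Matrix ι ι F) *ᵥ w) = (a : Matrix ι ι F) *ᵥ vs σ w) :
    mapGL σ a = a := by
  apply Units.ext
  rw [mapGL_val]
  apply Cfsg.Agent.Helper28.Spin.matrix_ext_mulVec
  intro x
  have h1 := h (vs σ.symm x)
  rw [vs_mulVec, vs_symm] at h1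
  exact h1

/-- nondegeneracy passes to similar forms -/
theorem nondeg_of_similar (Q P : QuadraticForm F (ι → F))
    (hQ : (QuadraticMap.polarBilin Q).Nondegenerate)
    (hsim : ∃ (A : GL ι F) (c : Fˣ), ∀ w, P w = (c : F) * Q ((A : Matrix ι ι F) *ᵥ w))
    (v : ι → F) (hv : ∀ w, QuadraticMap.polar P v w = 0) : v = 0 := by
  obtain ⟨A, c, hA⟩ := hsim
  have hpol : ∀ x y, QuadraticMap.polar P x y =
      (c : F) * QuadraticMap.polar Q ((A : Matrix ι ι F) *ᵥ x) ((A : Matrix ι ι F) *ᵥ y) := by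
    intro x y
    unfold QuadraticMap.polar
    rw [hA, hA, hA, Matrix.mulVec_add]
    ring
  have h1 : (A : Matrix ι ι F) *ᵥ v = 0 := by
    apply hQ.1
    intro y
    show QuadraticMap.polar Q ((A : Matrix ι ι F) *ᵥ v) y = 0
    have h2 := hv (((A⁻¹ : GL ι F) : Matrix ι ι F) *ᵥ y)
    rw [hpol, mulVec_inv_mulVec] at h2
    rcases mul_eq_zero.1 h2 with h3 | h3
    · exact absurd h3 c.ne_zero
    · exact h3
  have h2 := inv_mulVec_mulVec A v
  rw [h1, Matrix.mulVec_zero] at h2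
  exact h2.symm

/-- a linear map scaling a nondegenerate form into another form is invertible -/
theorem isUnit_of_scaling (Q P : QuadraticForm F (ι → F))
    (hQ : (QuadraticMap.polarBilin Q).Nondegenerate) (L : (ι → F) →ₗ[F] (ι → F)) (d : F)
    (hd : d ≠ 0) (hL : ∀ w, P (L w) = d * Q w) : IsUnit (LinearMap.toMatrix' L) := by
  rw [← Matrix.mulVec_injective_iff_isUnit]
  intro x y hxy
  rw [LinearMap.toMatrix'_mulVec, LinearMap.toMatrix'_mulVec] at hxy
  have h0 : L (x - y) = 0 := by rw [map_sub, hxy, sub_self]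
  have hpol : ∀ u w, QuadraticMap.polar P (L u) (L w) = d * QuadraticMap.polar Q u w := by
    intro u w
    unfold QuadraticMap.polar
    rw [← map_add, hL, hL, hL]
    ring
  have h1 : x - y = 0 := by
    apply hQ.1
    intro w
    show QuadraticMap.polar Q (x - y) w = 0
    have h2 := hpol (x - y) w
    rw [h0, QuadraticMap.polar_zero_left] at h2
    rcases mul_eq_zero.1 h2.symm with h3 | h3
    · exact absurd h3 hd
    · exact h3
  exact sub_eq_zero.1 h1

set_option maxHeartbeats 1600000 in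
/-- **rational forms in odd dimension** -/
theorem hclass_odd [Fintype F] (h2 : (2 : F) ≠ 0) (m : ℕ) (σ : F ≃+* F)
    (P : QuadraticForm F (Unit ⊕ (Fin m ⊕ Fin m) → F))
    (hPσ : ∀ w : Unit ⊕ (Fin m ⊕ Fin m) → F, P (vs σ w) = σ (P w))
    (hsim : ∃ (A : GL (Unit ⊕ (Fin m ⊕ Fin m)) F) (c : Fˣ),
      ∀ w, P w = (c : F) * QfOdd m F ((A : Matrix _ _ F) *ᵥ w)) :
    ∃ (a : GL (Unit ⊕ (Fin m ⊕ Fin m)) F) (d : Fˣ), mapGL σ a = a ∧
      ∀ w, P ((a : Matrix _ _ F) *ᵥ w) = (d : F) * QfOdd m F w := by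
  classical
  have hQ := Cfsg.Agent.S0292.QfOdd_nondeg h2 (F := F) m
  have hnd := nondeg_of_similar (QfOdd m F) P hQ hsim
  have hnd₀ := descend_nondeg P hPσ hnd
  have hfin : finrank ↥(fixedSub σ) (Unit ⊕ (Fin m ⊕ Fin m) → ↥(fixedSub σ)) = 2 * m + 1 := by
    rw [Module.finrank_fintype_fun_eq_card, Fintype.card_sum, Fintype.card_sum, Fintype.card_fin,
      Fintype.card_unit]
    ring
  obtain ⟨k, e, f, A₀, hW⟩ := Cfsg.Agent.Helper13.exists_wittDecomp (F := ↥(fixedSub σ))
    (2 * m + 1) (descend P hPσ) hfin hnd₀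
  have hrank := hW.rank
  have hrankA := hW.rankA
  rw [hfin] at hrank
  have hk : m = k := by omega
  subst hk
  have hA1 : finrank ↥(fixedSub σ) ↥A₀ = 1 := by omega
  obtain ⟨⟨a₀, ha₀A⟩, ha₀⟩ := Module.finrank_pos_iff_exists_ne_zero.1
    (by rw [hA1]; exact Nat.one_pos : 0 < finrank ↥(fixedSub σ) ↥A₀)
  have ha₀0 : a₀ ≠ 0 := fun h => ha₀ (Subtype.ext h)
  set d₀ : ↥(fixedSub σ) := descend P hPσ a₀ with hd₀
  have hd₀0 : d₀ ≠ 0 := fun h => ha₀0 (hW.aniso a₀ ha₀A h)
  have hd₀F : (d₀ : F) ≠ 0 := fun h => hd₀0 (Subtype.ext h)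
  -- the vectors over `F`
  set Av : Unit ⊕ (Fin m ⊕ Fin m) → F := up σ a₀ with hAv
  set E : Fin m → Unit ⊕ (Fin m ⊕ Fin m) → F := fun i => (d₀ : F) • up σ (e i) with hE
  set G : Fin m → Unit ⊕ (Fin m ⊕ Fin m) → F := fun i => up σ (f i) with hG
  have coe0 : ∀ x : ↥(fixedSub σ), x = 0 → (x : F) = 0 := fun x hx => by rw [hx]; rfl
  have hPE : ∀ i, P (E i) = 0 := by
    intro i
    rw [hE]
    simp only
    rw [QuadraticMap.map_smul, ← descend_apply P hPσ, coe0 _ (hW.Qe i), smul_zero]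
  have hPG : ∀ i, P (G i) = 0 := by
    intro i
    rw [hG]
    simp only
    rw [← descend_apply P hPσ, coe0 _ (hW.Qf i)]
  have hEG : ∀ i j, QuadraticMap.polar P (E i) (G j) = if i = j then (d₀ : F) else 0 := by
    intro i j
    rw [hE, hG]
    simp only
    rw [QuadraticMap.polar_smul_left, ← descend_polar P hPσ, hW.ef]
    split_ifs
    · simp
    · simp
  have hEE : ∀ i j, QuadraticMap.polar P (E i) (E j) = 0 := by
    intro i j
    rw [hE]
    simp only
    rw [QuadraticMap.polar_smul_left, QuadraticMap.polar_smul_right, ← descend_polar P hPσ,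
      coe0 _ (hW.ee i j), smul_zero, smul_zero]
  have hGG : ∀ i j, QuadraticMap.polar P (G i) (G j) = 0 := by
    intro i j
    rw [hG]
    simp only
    rw [← descend_polar P hPσ, coe0 _ (hW.ff i j)]
  have hAE : ∀ i, QuadraticMap.polar P Av (E i) = 0 := by
    intro i
    rw [hE, hAv]
    simp only
    rw [QuadraticMap.polar_smul_right, ← descend_polar P hPσ, QuadraticMap.polar_comm,
      coe0 _ (hW.eA a₀ ha₀A i), smul_zero]
  have hAG : ∀ i, QuadraticMap.polar P Av (G i) = 0 := by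
    intro i
    rw [hG, hAv]
    simp only
    rw [← descend_polar P hPσ, QuadraticMap.polar_comm, coe0 _ (hW.fA a₀ ha₀A i)]
  have hPA : P Av = (d₀ : F) := by
    rw [hAv, ← descend_apply P hPσ]
  -- the linear map
  set L : (Unit ⊕ (Fin m ⊕ Fin m) → F) →ₗ[F] (Unit ⊕ (Fin m ⊕ Fin m) → F) :=
    (LinearMap.proj (R := F) (φ := fun _ : Unit ⊕ (Fin m ⊕ Fin m) => F) (Sum.inl ())).smulRight Av +
      ∑ i, ((LinearMap.proj (R := F) (φ := fun _ : Unit ⊕ (Fin m ⊕ Fin m) => F)
          (Sum.inr (Sum.inl i))).smulRight (E i) +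
        (LinearMap.proj (R := F) (φ := fun _ : Unit ⊕ (Fin m ⊕ Fin m) => F)
          (Sum.inr (Sum.inr i))).smulRight (G i)) with hL
  have hLw : ∀ w, L w = w (Sum.inl ()) • Av +
      ∑ i, (w (Sum.inr (Sum.inl i)) • E i + w (Sum.inr (Sum.inr i)) • G i) := by
    intro w
    rw [hL]
    simp only [LinearMap.add_apply, LinearMap.sum_apply, LinearMap.smulRight_apply,
      LinearMap.proj_apply]
  have hPL : ∀ w, P (L w) = (d₀ : F) * QfOdd m F w := by
    intro w
    rw [hLw, map_add_hyp_sum P E G (d₀ : F) hPE hPG hEG hEE hGG (w (Sum.inl ()) • Av)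
      (fun i => by rw [QuadraticMap.polar_smul_left, hAE, smul_zero])
      (fun i => by rw [QuadraticMap.polar_smul_left, hAG, smul_zero]),
      QuadraticMap.map_smul, hPA, QfOdd_coe]
    unfold Cfsg.quadFormOdd
    simp only [smul_eq_mul]
    ring
  have hunit := isUnit_of_scaling (QfOdd m F) P hQ L (d₀ : F) hd₀F hPL
  refine ⟨hunit.unit, Units.mk0 (d₀ : F) hd₀F, ?_, ?_⟩
  · apply mapGL_eq_of_comm
    intro w
    show vs σ (LinearMap.toMatrix' L *ᵥ w) = LinearMap.toMatrix' L *ᵥ vs σ w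
    rw [LinearMap.toMatrix'_mulVec, LinearMap.toMatrix'_mulVec, hLw, hLw, vs_add, vs_smul, vs_sum]
    have hAvσ : vs σ Av = Av := vs_up σ a₀
    have hEσ : ∀ i, vs σ (E i) = E i := by
      intro i
      rw [hE]
      simp only
      rw [vs_smul, vs_up]
      congr 1
      exact d₀.2
    have hGσ : ∀ i, vs σ (G i) = G i := fun i => vs_up σ (f i)
    rw [hAvσ]
    congr 1
    apply Finset.sum_congr rfl
    intro i _
    have hstep : ∀ (c : F) (v : Unit ⊕ (Fin m ⊕ Fin m) → F), vs σ v = v →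
        vs σ (c • v) = σ c • v := fun c v hv => by rw [vs_smul, hv]
    rw [vs_add, hstep _ _ (hEσ i), hstep _ _ (hGσ i)]
    rfl
  · intro w
    show P (LinearMap.toMatrix' L *ᵥ w) = _
    rw [LinearMap.toMatrix'_mulVec, hPL, Units.val_mk0]

end Cfsg.Agent.Helper28.FO
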