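import Mathlib
import Cfsg.Prelude.Def_LieTypeDatum

set_option autoImplicit false
set_option linter.unusedSectionVars false

/-! Any two anisotropic binary quadratic forms over a finite field are isometric
(Gram-equation form), in every characteristic. -/

namespace Cfsg.Agent.Helper28.GC

section AS

variable {F : Type*} [Field F]

/-- the Artin–Schreier map `t ↦ t² + t` in characteristic two -/
def asHom (h2 : (2 : F) = 0) : F →+ F :=
  AddMonoidHom.mk' (fun ρ => ρ * ρ + ρ) (fun a b => by linear_combination (a * b) * h2)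

theorem asHom_apply (h2 : (2 : F) = 0) (t : F) : asHom h2 t = t * t + t := rfl

theorem card_ker_asHom (h2 : (2 : F) = 0) : Nat.card (asHom h2).ker = 2 := by
  have hneg : ∀ a : F, -a = a := fun a =>
    neg_eq_of_add_eq_zero_left (by rw [← two_mul, h2, zero_mul])
  rw [Nat.card_eq_two_iff]
  refine ⟨⟨0, (asHom h2).ker.zero_mem⟩, ⟨1, ?_⟩, ?_, ?_⟩
  · rw [AddMonoidHom.mem_ker]
    show (1 : F) * 1 + 1 = 0
    rw [mul_one, one_add_one_eq_two, h2]
  · intro h
    have := congrArg Subtype.val h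
    exact zero_ne_one this
  · apply Set.eq_univ_of_forall
    rintro ⟨ρ, hρ⟩
    rw [AddMonoidHom.mem_ker] at hρ
    have h1 : ρ * (ρ + 1) = 0 := by
      have : ρ * ρ + ρ = 0 := hρ
      linear_combination this
    rw [Set.mem_insert_iff, Set.mem_singleton_iff]
    rcases mul_eq_zero.mp h1 with h0 | h0
    · left
      exact Subtype.ext h0
    · right
      apply Subtype.ext
      show ρ = 1
      have := eq_neg_of_add_eq_zero_left h0
      rw [this, hneg]

theorem index_range_asHom [Finite F] (h2 : (2 : F) = 0) : (asHom h2).range.index = 2 := by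
  have h1 := AddSubgroup.card_mul_index (asHom h2).ker
  rw [AddSubgroup.index_ker, card_ker_asHom] at h1
  have h3 := AddSubgroup.card_mul_index (asHom h2).range
  have hpos : 0 < Nat.card (asHom h2).range := Nat.card_pos
  have : Nat.card (asHom h2).range * (asHom h2).range.index =
      Nat.card (asHom h2).range * 2 := by
    rw [h3, ← h1, mul_comm]
  exact Nat.eq_of_mul_eq_mul_left hpos this

/-- the sum of two elements outside the Artin–Schreier subgroup lies in it -/
theorem exists_as_of_not [Finite F] (h2 : (2 : F) = 0) {x y : F}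
    (hx : ¬ ∃ t : F, t * t + t = x) (hy : ¬ ∃ t : F, t * t + t = y) :
    ∃ t : F, t * t + t = x + y := by
  have h := (AddSubgroup.add_mem_iff_of_index_two (index_range_asHom (F := F) h2)
    (a := x) (b := y)).2 (by
      constructor
      · rintro ⟨t, ht⟩
        exact absurd ⟨t, ht⟩ hx
      · rintro ⟨t, ht⟩
        exact absurd ⟨t, ht⟩ hy)
  obtain ⟨t, ht⟩ := h
  exact ⟨t, ht⟩

end AS

variable {F : Type*} [Field F] [Fintype F]

/-- in characteristic two an anisotropic binary form has a non-zero middle coefficient -/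
theorem ne_zero_of_aniso_char_two (h2 : (2 : F) = 0) (a b : F)
    (hab : ∀ z₁ z₂ : F, z₁ ^ 2 + a * z₁ * z₂ + b * z₂ ^ 2 = 0 → z₁ = 0 ∧ z₂ = 0) : a ≠ 0 := by
  rintro rfl
  obtain ⟨s, hs⟩ := FiniteField.isSquare_of_char_two
    (CharP.ringChar_of_prime_eq_zero Nat.prime_two (by exact_mod_cast h2)) b
  have := hab s 1 (by rw [hs]; linear_combination (s * s) * h2)
  exact one_ne_zero this.2

/-- the Gram equations of an anisotropic binary form relative to the vector `(1,0)` of an
anisotropic binary form are solvable -/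
theorem exists_binary_gram (a b a' b' : F)
    (hab : ∀ z₁ z₂ : F, z₁ ^ 2 + a * z₁ * z₂ + b * z₂ ^ 2 = 0 → z₁ = 0 ∧ z₂ = 0)
    (hab' : ∀ z₁ z₂ : F, z₁ ^ 2 + a' * z₁ * z₂ + b' * z₂ ^ 2 = 0 → z₁ = 0 ∧ z₂ = 0) :
    ∃ w₁ w₂ : F, w₁ ^ 2 + a * w₁ * w₂ + b * w₂ ^ 2 = b' ∧ 2 * w₁ + a * w₂ = a' ∧ w₂ ≠ 0 := by
  classical
  have key : ∃ w₁ w₂ : F, w₁ ^ 2 + a * w₁ * w₂ + b * w₂ ^ 2 = b' ∧ 2 * w₁ + a * w₂ = a' := by
    by_cases h2 : (2 : F) = 0
    · -- characteristic two
      have ha : a ≠ 0 := by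
        rintro rfl
        obtain ⟨s, hs⟩ := FiniteField.isSquare_of_char_two
          (CharP.ringChar_of_prime_eq_zero Nat.prime_two (by exact_mod_cast h2)) b
        have := hab s 1 (by rw [hs]; linear_combination (s * s) * h2)
        exact one_ne_zero this.2
      have ha' : a' ≠ 0 := by
        rintro rfl
        obtain ⟨s, hs⟩ := FiniteField.isSquare_of_char_two
          (CharP.ringChar_of_prime_eq_zero Nat.prime_two (by exact_mod_cast h2)) b'
        have := hab' s 1 (by rw [hs]; linear_combination (s * s) * h2)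
        exact one_ne_zero this.2
      have hx : ¬ ∃ t : F, t * t + t = b / a ^ 2 := by
        rintro ⟨t, ht⟩
        have := hab (a * t) 1 (by
          field_simp at ht
          linear_combination ht + b * h2)
        exact one_ne_zero this.2
      have hy : ¬ ∃ t : F, t * t + t = b' / a' ^ 2 := by
        rintro ⟨t, ht⟩
        have := hab' (a' * t) 1 (by
          field_simp at ht
          linear_combination ht + b' * h2)
        exact one_ne_zero this.2
      obtain ⟨t, ht⟩ := exists_as_of_not h2 hx hy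
      refine ⟨a' * t, a' / a, ?_, ?_⟩
      · field_simp at ht ⊢
        linear_combination ht + (a' ^ 2 * b) * h2
      · field_simp
        linear_combination t * h2
    · -- odd characteristic
      have hD := fun (a b : F) (hab : ∀ z₁ z₂ : F, z₁ ^ 2 + a * z₁ * z₂ + b * z₂ ^ 2 = 0 →
          z₁ = 0 ∧ z₂ = 0) => show ¬ IsSquare (a ^ 2 - 4 * b) by
        rintro ⟨s, hs⟩
        have := hab ((-a + s) / 2) 1 (by
          field_simp
          linear_combination (-1 : F) * hs)
        exact one_ne_zero this.2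
      have h1 := hD a b hab
      have h1' := hD a' b' hab'
      have hne : a ^ 2 - 4 * b ≠ 0 := by
        intro h
        apply h1
        rw [h]
        exact ⟨0, by simp⟩
      have hne' : a' ^ 2 - 4 * b' ≠ 0 := by
        intro h
        apply h1'
        rw [h]
        exact ⟨0, by simp⟩
      have hsq : IsSquare ((a' ^ 2 - 4 * b') * (a ^ 2 - 4 * b)) := by
        rw [← quadraticChar_one_iff_isSquare (mul_ne_zero hne' hne), map_mul,
          quadraticChar_neg_one_iff_not_isSquare.2 h1,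
          quadraticChar_neg_one_iff_not_isSquare.2 h1']
        norm_num
      obtain ⟨r, hr⟩ := hsq
      set s := r / (a ^ 2 - 4 * b) with hs
      have hss : (a ^ 2 - 4 * b) * s ^ 2 = a' ^ 2 - 4 * b' := by
        rw [hs]
        field_simp
        linear_combination -hr
      refine ⟨(a' - a * s) / 2, s, ?_, ?_⟩
      · field_simp
        linear_combination -hss
      · field_simp
        ring
  obtain ⟨w₁, w₂, h1, h2⟩ := key
  refine ⟨w₁, w₂, h1, h2, ?_⟩
  rintro rfl
  have := hab' (-w₁) 1 (by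
    rw [← h1, ← h2]
    ring)
  exact one_ne_zero this.2

end Cfsg.Agent.Helper28.GC

namespace Cfsg.Agent.Helper28.GC

open Matrix

/-- a linear map changing the basis of the anisotropic plane of the minus-type form -/
def twL {F : Type*} [Field F] (m : ℕ) (w₁ w₂ : F) :
    ((Fin m ⊕ Fin m) ⊕ Fin 2 → F) →ₗ[F] ((Fin m ⊕ Fin m) ⊕ Fin 2 → F) where
  toFun x := Sum.elim (fun j => x (Sum.inl j))
    (fun j : Fin 2 => if j = 0 then x (Sum.inr 0) + w₁ * x (Sum.inr 1) else w₂ * x (Sum.inr 1))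
  map_add' x y := by
    funext i
    rcases i with i | i
    · simp only [Sum.elim_inl, Pi.add_apply]
    · simp only [Sum.elim_inr, Pi.add_apply]
      split_ifs <;> ring
  map_smul' c x := by
    funext i
    rcases i with i | i
    · simp only [Sum.elim_inl, Pi.smul_apply, smul_eq_mul, RingHom.id_apply]
    · simp only [Sum.elim_inr, Pi.smul_apply, smul_eq_mul, RingHom.id_apply]
      split_ifs <;> ring

section tw

variable {F : Type*} [Field F] (m : ℕ)

theorem twL_inl (w₁ w₂ : F) (x : (Fin m ⊕ Fin m) ⊕ Fin 2 → F) (j : Fin m ⊕ Fin m) :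
    twL m w₁ w₂ x (Sum.inl j) = x (Sum.inl j) := rfl

theorem twL_zero (w₁ w₂ : F) (x : (Fin m ⊕ Fin m) ⊕ Fin 2 → F) :
    twL m w₁ w₂ x (Sum.inr 0) = x (Sum.inr 0) + w₁ * x (Sum.inr 1) := by
  simp [twL]

theorem twL_one (w₁ w₂ : F) (x : (Fin m ⊕ Fin m) ⊕ Fin 2 → F) :
    twL m w₁ w₂ x (Sum.inr 1) = w₂ * x (Sum.inr 1) := by
  simp [twL]

theorem twL_comp (w₁ w₂ w₁' w₂' : F) (x : (Fin m ⊕ Fin m) ⊕ Fin 2 → F) :
    twL m w₁ w₂ (twL m w₁' w₂' x) = twL m (w₁' + w₁ * w₂') (w₂ * w₂') x := by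
  funext i
  rcases i with i | i
  · rfl
  · fin_cases i
    · show twL m w₁ w₂ (twL m w₁' w₂' x) (Sum.inr 0) = twL m (w₁' + w₁ * w₂') (w₂ * w₂') x (Sum.inr 0)
      rw [twL_zero, twL_zero, twL_zero, twL_one]
      ring
    · show twL m w₁ w₂ (twL m w₁' w₂' x) (Sum.inr 1) = twL m (w₁' + w₁ * w₂') (w₂ * w₂') x (Sum.inr 1)
      rw [twL_one, twL_one, twL_one]
      ring

theorem twL_id (x : (Fin m ⊕ Fin m) ⊕ Fin 2 → F) : twL m (0 : F) 1 x = x := by
  funext i
  rcases i with i | i
  · rfl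
  · fin_cases i
    · show twL m (0 : F) 1 x (Sum.inr 0) = x (Sum.inr 0)
      rw [twL_zero]; ring
    · show twL m (0 : F) 1 x (Sum.inr 1) = x (Sum.inr 1)
      rw [twL_one]; ring

theorem quadFormMinus_twL (a b w₁ w₂ : F) (x : (Fin m ⊕ Fin m) ⊕ Fin 2 → F) :
    Cfsg.quadFormMinus m F a b (twL m w₁ w₂ x) =
      Cfsg.quadFormMinus m F (2 * w₁ + a * w₂) (w₁ ^ 2 + a * w₁ * w₂ + b * w₂ ^ 2) x := by
  unfold Cfsg.quadFormMinus
  rw [twL_zero, twL_one]
  simp only [twL_inl]
  ring

theorem quadFormMinus_sigma (a b : F) (σ : F ≃+* F) (v : (Fin m ⊕ Fin m) ⊕ Fin 2 → F) :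
    Cfsg.quadFormMinus m F (σ a) (σ b) (fun i => σ (v i)) =
      σ (Cfsg.quadFormMinus m F a b v) := by
  unfold Cfsg.quadFormMinus
  simp only [map_add, map_sum, map_mul, map_pow]

/-- the matrix of `twL` as an invertible matrix -/
noncomputable def twGL (w₁ w₂ : F) (hw : w₂ ≠ 0) : GL ((Fin m ⊕ Fin m) ⊕ Fin 2) F where
  val := LinearMap.toMatrix' (twL m w₁ w₂)
  inv := LinearMap.toMatrix' (twL m (-w₁ / w₂) (1 / w₂))
  val_inv := by
    rw [← LinearMap.toMatrix'_comp, ← LinearMap.toMatrix'_id]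
    congr 1
    apply LinearMap.ext
    intro x
    rw [LinearMap.comp_apply, twL_comp, LinearMap.id_apply]
    have h1 : -w₁ / w₂ + w₁ * (1 / w₂) = 0 := by field_simp; ring
    have h2 : w₂ * (1 / w₂) = 1 := by field_simp
    rw [h1, h2, twL_id]
  inv_val := by
    rw [← LinearMap.toMatrix'_comp, ← LinearMap.toMatrix'_id]
    congr 1
    apply LinearMap.ext
    intro x
    rw [LinearMap.comp_apply, twL_comp, LinearMap.id_apply]
    have h1 : w₁ + -w₁ / w₂ * w₂ = 0 := by field_simp; ring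
    have h2 : 1 / w₂ * w₂ = 1 := by field_simp
    rw [h1, h2, twL_id]

theorem twGL_mulVec (w₁ w₂ : F) (hw : w₂ ≠ 0) (x : (Fin m ⊕ Fin m) ⊕ Fin 2 → F) :
    ((twGL m w₁ w₂ hw : GL ((Fin m ⊕ Fin m) ⊕ Fin 2) F) : Matrix _ _ F) *ᵥ x = twL m w₁ w₂ x := by
  show (LinearMap.toMatrix' (twL m w₁ w₂)) *ᵥ x = _
  rw [LinearMap.toMatrix'_mulVec]

end tw

/-- every field automorphism is the companion of a semisimilarity of the minus-type form -/
theorem exists_semisim_minus {F : Type*} [Field F] [Fintype F] (m : ℕ) (a b : F)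
    (hab : ∀ z₁ z₂ : F, z₁ ^ 2 + a * z₁ * z₂ + b * z₂ ^ 2 = 0 → z₁ = 0 ∧ z₂ = 0)
    (σ : F ≃+* F) :
    ∃ g : GL ((Fin m ⊕ Fin m) ⊕ Fin 2) F,
      Cfsg.IsSemisimilarityPair (Cfsg.quadFormMinus m F a b) g σ := by
  have hab' : ∀ z₁ z₂ : F, z₁ ^ 2 + σ a * z₁ * z₂ + σ b * z₂ ^ 2 = 0 → z₁ = 0 ∧ z₂ = 0 := by
    intro z₁ z₂ h
    have h1 := congrArg σ.symm h
    simp only [map_add, map_mul, map_pow, map_zero, RingEquiv.symm_apply_apply] at h1
    obtain ⟨h3, h4⟩ := hab _ _ h1
    exact ⟨by simpa using h3, by simpa using h4⟩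
  obtain ⟨w₁, w₂, h1, h2, hw⟩ := exists_binary_gram a b (σ a) (σ b) hab hab'
  refine ⟨twGL m w₁ w₂ hw, 1, fun v => ?_⟩
  rw [twGL_mulVec, quadFormMinus_twL, h1, h2, quadFormMinus_sigma, Units.val_one, one_mul]

end Cfsg.Agent.Helper28.GC
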