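import Mathlib
import Cfsg.Prelude.Def_LieTypeDatum
import Cfsg.Agent.Helper28.FieldM3
import Cfsg.Agent.Helper28.FieldO4
import Cfsg.Agent.Helper28.GammaCount5

set_option autoImplicit false
set_option linter.unusedSectionVars false

/-! Rational forms of the minus-type quadratic form: every form over the fixed field which becomes
similar to `quadFormMinus` (with coefficients in the fixed field) is already similar to it over the
fixed field. -/

namespace Cfsg.Agent.Helper28.FM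

open Matrix Module Cfsg.Agent.Helper28.SSim Cfsg.Agent.Helper28.Spin Cfsg.Agent.Helper28.FO

variable {F : Type*} [Field F]

/-- a totally singular subspace from hyperbolic pairs -/
theorem finrank_span_hyp {V : Type*} [AddCommGroup V] [Module F V] (P : QuadraticForm F V)
    {k : ℕ} (E G : Fin k → V) (c : F) (hc : c ≠ 0)
    (hE : ∀ i, P (E i) = 0) (hG : ∀ i, P (G i) = 0)
    (hEG : ∀ i j, QuadraticMap.polar P (E i) (G j) = if i = j then c else 0)
    (hEE : ∀ i j, QuadraticMap.polar P (E i) (E j) = 0)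
    (hGG : ∀ i j, QuadraticMap.polar P (G i) (G j) = 0) :
    finrank F (Submodule.span F (Set.range E)) = k ∧
      ∀ u ∈ Submodule.span F (Set.range E), P u = 0 := by
  constructor
  · have hli : LinearIndependent F E := by
      apply Cfsg.Agent.Helper13.linearIndependent_of_dual_polar P E G
      · intro i j hij
        rw [hEG, if_neg hij]
      · intro i
        rw [hEG, if_pos rfl]
        exact hc
    rw [finrank_span_eq_card hli, Fintype.card_fin]
  · intro u hu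
    rw [Submodule.mem_span_range_iff_exists_fun] at hu
    obtain ⟨x, rfl⟩ := hu
    have h1 := map_add_hyp_sum P E G c hE hG hEG hEE hGG (0 : V)
      (fun i => by rw [QuadraticMap.polar_zero_left])
      (fun i => by rw [QuadraticMap.polar_zero_left]) x (fun _ => 0)
    simp only [zero_smul, add_zero, zero_add, mul_zero, Finset.sum_const_zero, map_zero] at h1
    exact h1

set_option maxHeartbeats 3200000 in
/-- **rational forms of the minus-type form** -/
theorem hclass_minus [Fintype F] (m : ℕ) (a b : F)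
    (hab : ∀ z₁ z₂ : F, z₁ ^ 2 + a * z₁ * z₂ + b * z₂ ^ 2 = 0 → z₁ = 0 ∧ z₂ = 0)
    (hQ : (QuadraticMap.polarBilin (QfMinus m F a b)).Nondegenerate)
    (σ : F ≃+* F) (ha : σ a = a) (hb : σ b = b)
    (P : QuadraticForm F ((Fin m ⊕ Fin m) ⊕ Fin 2 → F))
    (hPσ : ∀ w : (Fin m ⊕ Fin m) ⊕ Fin 2 → F, P (vs σ w) = σ (P w))
    (hsim : ∃ (A : GL ((Fin m ⊕ Fin m) ⊕ Fin 2) F) (c : Fˣ),
      ∀ w, P w = (c : F) * QfMinus m F a b ((A : Matrix _ _ F) *ᵥ w)) :
    ∃ (g : GL ((Fin m ⊕ Fin m) ⊕ Fin 2) F) (d : Fˣ), mapGL σ g = g ∧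
      ∀ w, P ((g : Matrix _ _ F) *ᵥ w) = (d : F) * QfMinus m F a b w := by
  classical
  let _ : Fintype ↥(fixedSub σ) := Fintype.ofFinite _
  have hnd := nondeg_of_similar (QfMinus m F a b) P hQ hsim
  have hnd₀ := descend_nondeg P hPσ hnd
  have hfin : finrank ↥(fixedSub σ) ((Fin m ⊕ Fin m) ⊕ Fin 2 → ↥(fixedSub σ)) = 2 * m + 2 := by
    rw [Module.finrank_fintype_fun_eq_card, Fintype.card_sum, Fintype.card_sum, Fintype.card_fin,
      Fintype.card_fin]
    ring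
  obtain ⟨k, e, f, A₀, hW⟩ := Cfsg.Agent.Helper13.exists_wittDecomp (F := ↥(fixedSub σ))
    (2 * m + 2) (descend P hPσ) hfin hnd₀
  have hrank := hW.rank
  have hrankA := hW.rankA
  rw [hfin] at hrank
  have coe0 : ∀ x : ↥(fixedSub σ), x = 0 → (x : F) = 0 := fun x hx => by rw [hx]; rfl
  -- the hyperbolic pairs over `F`
  have hPE₁ : ∀ i, P (up σ (e i)) = 0 := by
    intro i
    rw [← descend_apply P hPσ, coe0 _ (hW.Qe i)]
  have hPG : ∀ i, P (up σ (f i)) = 0 := by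
    intro i
    rw [← descend_apply P hPσ, coe0 _ (hW.Qf i)]
  have hEG₁ : ∀ i j, QuadraticMap.polar P (up σ (e i)) (up σ (f j)) =
      if i = j then (1 : F) else 0 := by
    intro i j
    rw [← descend_polar P hPσ, hW.ef]
    split_ifs
    · simp
    · simp
  have hEE₁ : ∀ i j, QuadraticMap.polar P (up σ (e i)) (up σ (e j)) = 0 := by
    intro i j
    rw [← descend_polar P hPσ, coe0 _ (hW.ee i j)]
  have hGG : ∀ i j, QuadraticMap.polar P (up σ (f i)) (up σ (f j)) = 0 := by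
    intro i j
    rw [← descend_polar P hPσ, coe0 _ (hW.ff i j)]
  -- the Witt index
  have hkm : k ≤ m := by
    obtain ⟨hdim, hts⟩ := finrank_span_hyp P (fun i => up σ (e i)) (fun i => up σ (f i)) 1
      one_ne_zero hPE₁ hPG hEG₁ hEE₁ hGG
    obtain ⟨A, c, hA⟩ := hsim
    set U := Submodule.span F (Set.range (fun i => up σ (e i))) with hU
    have hinj : Function.Injective (Matrix.toLin' A.1) := by
      intro x y hxy
      rw [Matrix.toLin'_apply, Matrix.toLin'_apply] at hxy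
      have h5 := congrArg (fun z => (A⁻¹ : GL ((Fin m ⊕ Fin m) ⊕ Fin 2) F).1 *ᵥ z) hxy
      rw [inv_mulVec_mulVec, inv_mulVec_mulVec] at h5
      exact h5
    have h1 : finrank F ↥(U.map (Matrix.toLin' A.1)) = k := by
      rw [← hdim]
      exact LinearEquiv.finrank_eq (Submodule.equivMapOfInjective _ hinj U).symm
    have h2 := finrank_le_of_TS_minus a b hab hQ (U.map (Matrix.toLin' A.1)) (by
      rintro _ ⟨u, hu, rfl⟩
      have h3 := hts u hu
      rw [hA, Matrix.toLin'_apply] at *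
      rcases mul_eq_zero.1 h3 with h4 | h4
      · exact absurd h4 c.ne_zero
      · exact h4)
    omega
  have hk : m = k := by omega
  subst hk
  have hA2 : finrank ↥(fixedSub σ) ↥A₀ = 2 := by omega
  -- a basis of the anisotropic part
  obtain ⟨a₁, ha₁⟩ := Module.finrank_pos_iff_exists_ne_zero.1
    (by rw [hA2]; norm_num : 0 < finrank ↥(fixedSub σ) ↥A₀)
  obtain ⟨a₂, hli⟩ := exists_linearIndependent_pair_of_one_lt_finrank
    (by rw [hA2]; norm_num : 1 < finrank ↥(fixedSub σ) ↥A₀) ha₁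
  rw [LinearIndependent.pair_iff] at hli
  have ha₁0 : (a₁ : (Fin m ⊕ Fin m) ⊕ Fin 2 → ↥(fixedSub σ)) ≠ 0 := fun h => ha₁ (Subtype.ext h)
  set P₀ := descend P hPσ with hP₀
  set d₀ : ↥(fixedSub σ) := P₀ a₁ with hd₀
  set B₁₂ : ↥(fixedSub σ) := QuadraticMap.polar P₀ (a₁ : _ → ↥(fixedSub σ)) a₂ with hB₁₂
  set c₂ : ↥(fixedSub σ) := P₀ a₂ with hc₂
  have hd₀0 : d₀ ≠ 0 := fun h => ha₁0 (hW.aniso a₁ a₁.2 h)
  have hd₀F : (d₀ : F) ≠ 0 := fun h => hd₀0 (Subtype.ext h)
  have hcomb : ∀ z₁ z₂ : ↥(fixedSub σ),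
      P₀ (z₁ • (a₁ : _ → ↥(fixedSub σ)) + z₂ • (a₂ : _ → ↥(fixedSub σ))) =
        z₁ ^ 2 * d₀ + z₁ * z₂ * B₁₂ + z₂ ^ 2 * c₂ := by
    intro z₁ z₂
    exact Cfsg.Agent.Helper13.map_smul_add_smul P₀ z₁ z₂ _ _
  have hab₀ : ∀ z₁ z₂ : ↥(fixedSub σ),
      z₁ ^ 2 + (B₁₂ / d₀) * z₁ * z₂ + (c₂ / d₀) * z₂ ^ 2 = 0 → z₁ = 0 ∧ z₂ = 0 := by
    intro z₁ z₂ h
    have h1 : P₀ (z₁ • (a₁ : _ → ↥(fixedSub σ)) + z₂ • (a₂ : _ → ↥(fixedSub σ))) = 0 := by
      rw [hcomb]
      field_simp at h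
      linear_combination h
    have h2 := hW.aniso _ (A₀.add_mem (A₀.smul_mem z₁ a₁.2) (A₀.smul_mem z₂ a₂.2)) h1
    exact hli z₁ z₂ (Subtype.ext h2)
  set aσ : ↥(fixedSub σ) := ⟨a, ha⟩ with haσ
  set bσ : ↥(fixedSub σ) := ⟨b, hb⟩ with hbσ
  have habσ : ∀ z₁ z₂ : ↥(fixedSub σ), z₁ ^ 2 + aσ * z₁ * z₂ + bσ * z₂ ^ 2 = 0 →
      z₁ = 0 ∧ z₂ = 0 := by
    intro z₁ z₂ h
    have h1 := congrArg (fun x : ↥(fixedSub σ) => (x : F)) h
    simp only [Subfield.coe_add, Subfield.coe_mul, SubmonoidClass.coe_pow, ZeroMemClass.coe_zero] at h1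
    obtain ⟨h3, h4⟩ := hab _ _ h1
    exact ⟨Subtype.ext h3, Subtype.ext h4⟩
  obtain ⟨w₁, w₂, hw1, hw2, hw0⟩ := Cfsg.Agent.Helper28.GC.exists_binary_gram
    (B₁₂ / d₀) (c₂ / d₀) aσ bσ hab₀ habσ
  have hw1' : d₀ * w₁ ^ 2 + B₁₂ * w₁ * w₂ + c₂ * w₂ ^ 2 = d₀ * bσ := by
    rw [← hw1]
    field_simp
  have hw2' : 2 * d₀ * w₁ + B₁₂ * w₂ = d₀ * aσ := by
    rw [← hw2]
    field_simp
  have hw1F : (d₀ : F) * (w₁ : F) ^ 2 + (B₁₂ : F) * (w₁ : F) * (w₂ : F) + (c₂ : F) * (w₂ : F) ^ 2 =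
      (d₀ : F) * b := by
    have := congrArg (fun x : ↥(fixedSub σ) => (x : F)) hw1'
    simpa only [Subfield.coe_add, Subfield.coe_mul, SubmonoidClass.coe_pow] using this
  have hw2F : 2 * (d₀ : F) * (w₁ : F) + (B₁₂ : F) * (w₂ : F) = (d₀ : F) * a := by
    have := congrArg (fun x : ↥(fixedSub σ) => (x : F)) hw2'
    simp only [Subfield.coe_add, Subfield.coe_mul] at this
    exact this
  -- the vectors over `F`
  set A1 : (Fin m ⊕ Fin m) ⊕ Fin 2 → F := up σ (a₁ : _ → ↥(fixedSub σ)) with hA1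
  set A2₀ : (Fin m ⊕ Fin m) ⊕ Fin 2 → F := up σ (a₂ : _ → ↥(fixedSub σ)) with hA2₀
  set A2 : (Fin m ⊕ Fin m) ⊕ Fin 2 → F := (w₁ : F) • A1 + (w₂ : F) • A2₀ with hA2'
  set E : Fin m → (Fin m ⊕ Fin m) ⊕ Fin 2 → F := fun i => (d₀ : F) • up σ (e i) with hE
  set G : Fin m → (Fin m ⊕ Fin m) ⊕ Fin 2 → F := fun i => up σ (f i) with hG
  have hPA1 : P A1 = (d₀ : F) := by rw [hA1, ← descend_apply P hPσ]
  have hPA2₀ : P A2₀ = (c₂ : F) := by rw [hA2₀, ← descend_apply P hPσ]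
  have hB12 : QuadraticMap.polar P A1 A2₀ = (B₁₂ : F) := by
    rw [hA1, hA2₀, ← descend_polar P hPσ]
  have hPA2 : P A2 = (d₀ : F) * b := by
    rw [hA2', Cfsg.Agent.Helper13.map_smul_add_smul, hPA1, hPA2₀, hB12]
    linear_combination hw1F
  have hB : QuadraticMap.polar P A1 A2 = (d₀ : F) * a := by
    rw [hA2', QuadraticMap.polar_add_right, QuadraticMap.polar_smul_right,
      QuadraticMap.polar_smul_right, hB12, Cfsg.Agent.Helper13.polar_self', hPA1]
    simp only [smul_eq_mul]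
    linear_combination hw2F
  have hPE : ∀ i, P (E i) = 0 := by
    intro i
    rw [hE]
    simp only
    rw [QuadraticMap.map_smul, hPE₁, smul_zero]
  have hEG : ∀ i j, QuadraticMap.polar P (E i) (G j) = if i = j then (d₀ : F) else 0 := by
    intro i j
    rw [hE, hG]
    simp only
    rw [QuadraticMap.polar_smul_left, hEG₁]
    split_ifs
    · simp
    · simp
  have hEE : ∀ i j, QuadraticMap.polar P (E i) (E j) = 0 := by
    intro i j
    rw [hE]
    simp only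
    rw [QuadraticMap.polar_smul_left, QuadraticMap.polar_smul_right, hEE₁, smul_zero, smul_zero]
  have hA1E : ∀ i, QuadraticMap.polar P A1 (E i) = 0 := by
    intro i
    rw [hE, hA1]
    simp only
    rw [QuadraticMap.polar_smul_right, ← descend_polar P hPσ, QuadraticMap.polar_comm,
      coe0 _ (hW.eA a₁ a₁.2 i), smul_zero]
  have hA1G : ∀ i, QuadraticMap.polar P A1 (G i) = 0 := by
    intro i
    rw [hG, hA1]
    simp only
    rw [← descend_polar P hPσ, QuadraticMap.polar_comm, coe0 _ (hW.fA a₁ a₁.2 i)]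
  have hA2₀E : ∀ i, QuadraticMap.polar P A2₀ (E i) = 0 := by
    intro i
    rw [hE, hA2₀]
    simp only
    rw [QuadraticMap.polar_smul_right, ← descend_polar P hPσ, QuadraticMap.polar_comm,
      coe0 _ (hW.eA a₂ a₂.2 i), smul_zero]
  have hA2₀G : ∀ i, QuadraticMap.polar P A2₀ (G i) = 0 := by
    intro i
    rw [hG, hA2₀]
    simp only
    rw [← descend_polar P hPσ, QuadraticMap.polar_comm, coe0 _ (hW.fA a₂ a₂.2 i)]
  have huE : ∀ (z₁ z₂ : F) i, QuadraticMap.polar P (z₁ • A1 + z₂ • A2) (E i) = 0 := by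
    intro z₁ z₂ i
    rw [hA2', QuadraticMap.polar_add_left, QuadraticMap.polar_smul_left,
      QuadraticMap.polar_smul_left, QuadraticMap.polar_add_left, QuadraticMap.polar_smul_left,
      QuadraticMap.polar_smul_left, hA1E, hA2₀E]
    simp
  have huG : ∀ (z₁ z₂ : F) i, QuadraticMap.polar P (z₁ • A1 + z₂ • A2) (G i) = 0 := by
    intro z₁ z₂ i
    rw [hA2', QuadraticMap.polar_add_left, QuadraticMap.polar_smul_left,
      QuadraticMap.polar_smul_left, QuadraticMap.polar_add_left, QuadraticMap.polar_smul_left,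
      QuadraticMap.polar_smul_left, hA1G, hA2₀G]
    simp
  -- the linear map
  set L : ((Fin m ⊕ Fin m) ⊕ Fin 2 → F) →ₗ[F] ((Fin m ⊕ Fin m) ⊕ Fin 2 → F) :=
    (LinearMap.proj (R := F) (φ := fun _ : (Fin m ⊕ Fin m) ⊕ Fin 2 => F)
        (Sum.inr 0)).smulRight A1 +
      (LinearMap.proj (R := F) (φ := fun _ : (Fin m ⊕ Fin m) ⊕ Fin 2 => F)
        (Sum.inr 1)).smulRight A2 +
      ∑ i, ((LinearMap.proj (R := F) (φ := fun _ : (Fin m ⊕ Fin m) ⊕ Fin 2 => F)
          (Sum.inl (Sum.inl i))).smulRight (E i) +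
        (LinearMap.proj (R := F) (φ := fun _ : (Fin m ⊕ Fin m) ⊕ Fin 2 => F)
          (Sum.inl (Sum.inr i))).smulRight (G i)) with hL
  have hLw : ∀ w, L w = (w (Sum.inr 0) • A1 + w (Sum.inr 1) • A2) +
      ∑ i, (w (Sum.inl (Sum.inl i)) • E i + w (Sum.inl (Sum.inr i)) • G i) := by
    intro w
    rw [hL]
    simp only [LinearMap.add_apply, LinearMap.sum_apply, LinearMap.smulRight_apply,
      LinearMap.proj_apply]
  have hPL : ∀ w, P (L w) = (d₀ : F) * QfMinus m F a b w := by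
    intro w
    rw [hLw, map_add_hyp_sum P E G (d₀ : F) hPE hPG hEG hEE hGG _ (huE _ _) (huG _ _),
      Cfsg.Agent.Helper13.map_smul_add_smul, hPA1, hPA2, hB, QfMinus_coe]
    unfold Cfsg.quadFormMinus
    ring
  have hunit := isUnit_of_scaling (QfMinus m F a b) P hQ L (d₀ : F) hd₀F hPL
  refine ⟨hunit.unit, Units.mk0 (d₀ : F) hd₀F, ?_, ?_⟩
  · apply mapGL_eq_of_comm
    intro w
    show vs σ (LinearMap.toMatrix' L *ᵥ w) = LinearMap.toMatrix' L *ᵥ vs σ w
    rw [LinearMap.toMatrix'_mulVec, LinearMap.toMatrix'_mulVec, hLw, hLw, vs_add, vs_add, vs_sum]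
    have hA1σ : vs σ A1 = A1 := vs_up σ _
    have hA2₀σ : vs σ A2₀ = A2₀ := vs_up σ _
    have hstep : ∀ (c : F) (v : (Fin m ⊕ Fin m) ⊕ Fin 2 → F), vs σ v = v →
        vs σ (c • v) = σ c • v := fun c v hv => by rw [vs_smul, hv]
    have hA2σ : vs σ A2 = A2 := by
      rw [hA2', vs_add, hstep _ _ hA1σ, hstep _ _ hA2₀σ]
      congr 2
      · exact w₁.2
      · exact w₂.2
    have hEσ : ∀ i, vs σ (E i) = E i := by
      intro i
      rw [hE]
      simp only
      rw [vs_smul, vs_up]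
      congr 1
      exact d₀.2
    have hGσ : ∀ i, vs σ (G i) = G i := fun i => vs_up σ (f i)
    rw [hstep _ _ hA1σ, hstep _ _ hA2σ]
    congr 1
    apply Finset.sum_congr rfl
    intro i _
    rw [vs_add, hstep _ _ (hEσ i), hstep _ _ (hGσ i)]
    rfl
  · intro w
    show P (LinearMap.toMatrix' L *ᵥ w) = _
    rw [LinearMap.toMatrix'_mulVec, hPL, Units.val_mk0]

end Cfsg.Agent.Helper28.FM
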