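import Mathlib

set_option autoImplicit false
set_option linter.unusedSectionVars false

/-! Small quotients: homomorphisms onto `C₂`, `C₄`, `C₂ × C₂` with a prescribed kernel. -/

namespace Cfsg.Agent.Helper28.IDP

variable {D : Type*} [Group D]

theorem exists_hom_of_equiv {X : Type*} [Group X] (N : Subgroup D) [N.Normal]
    (e : D ⧸ N ≃* X) : ∃ φ : D →* X, Function.Surjective φ ∧ φ.ker = N := by
  refine ⟨e.toMonoidHom.comp (QuotientGroup.mk' N),
    e.surjective.comp (QuotientGroup.mk'_surjective N), ?_⟩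
  ext a
  rw [MonoidHom.mem_ker, MonoidHom.comp_apply]
  show e (QuotientGroup.mk' N a) = 1 ↔ _
  rw [MulEquiv.map_eq_one_iff, QuotientGroup.mk'_apply, QuotientGroup.eq_one_iff]

theorem hom_of_index_two (N : Subgroup D) [N.Normal] (h : N.index = 2) :
    ∃ φ : D →* Multiplicative (ZMod 2), Function.Surjective φ ∧ φ.ker = N := by
  have hc : Nat.card (D ⧸ N) = 2 := by rw [← Subgroup.index_eq_card]; exact h
  haveI : Fact (Nat.Prime 2) := ⟨Nat.prime_two⟩
  haveI : IsCyclic (D ⧸ N) := isCyclic_of_prime_card hc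
  exact exists_hom_of_equiv N (mulEquivOfCyclicCardEq (by rw [hc]; simp))

theorem hom_of_index_four_cyclic (N : Subgroup D) [N.Normal] (h : N.index = 4) (g : D)
    (hg : g ^ 2 ∉ N) :
    ∃ φ : D →* Multiplicative (ZMod 4), Function.Surjective φ ∧ φ.ker = N := by
  have hc : Nat.card (D ⧸ N) = 4 := by rw [← Subgroup.index_eq_card]; exact h
  haveI : Finite (D ⧸ N) := Nat.finite_of_card_ne_zero (by rw [hc]; norm_num)
  have hg2 : (QuotientGroup.mk g : D ⧸ N) ^ 2 ≠ 1 := by
    rw [← QuotientGroup.mk_pow, Ne, QuotientGroup.eq_one_iff]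
    exact hg
  have hdvd : orderOf (QuotientGroup.mk g : D ⧸ N) ∣ 2 ^ 2 := by
    have := orderOf_dvd_natCard (QuotientGroup.mk g : D ⧸ N)
    rw [hc] at this
    exact this
  obtain ⟨k, hk, hord⟩ := (Nat.dvd_prime_pow Nat.prime_two).1 hdvd
  have hord4 : orderOf (QuotientGroup.mk g : D ⧸ N) = 4 := by
    interval_cases k
    · exfalso
      apply hg2
      rw [pow_zero, orderOf_eq_one_iff] at hord
      rw [hord, one_pow]
    · exfalso
      apply hg2
      rw [pow_one] at hord
      rw [← hord, pow_orderOf_eq_one]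
    · exact hord
  haveI : IsCyclic (D ⧸ N) := isCyclic_of_orderOf_eq_card _ (by rw [hord4, hc])
  exact exists_hom_of_equiv N (mulEquivOfCyclicCardEq (by rw [hc]; simp))

theorem hom_of_index_four_klein (N : Subgroup D) [N.Normal] (h : N.index = 4) (x y : D)
    (hx : x ^ 2 ∈ N) (hy : y ^ 2 ∈ N) (hxn : x ∉ N) (hyn : y ∉ N) (hxy : x * y ∉ N) :
    ∃ φ : D →* Multiplicative (ZMod 2 × ZMod 2), Function.Surjective φ ∧ φ.ker = N := by
  classical
  have hc : Nat.card (D ⧸ N) = 4 := by rw [← Subgroup.index_eq_card]; exact h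
  haveI : Finite (D ⧸ N) := Nat.finite_of_card_ne_zero (by rw [hc]; norm_num)
  haveI : Fintype (D ⧸ N) := Fintype.ofFinite _
  have hx2 : (QuotientGroup.mk x : D ⧸ N) ^ 2 = 1 := by
    rw [← QuotientGroup.mk_pow, QuotientGroup.eq_one_iff]; exact hx
  have hy2 : (QuotientGroup.mk y : D ⧸ N) ^ 2 = 1 := by
    rw [← QuotientGroup.mk_pow, QuotientGroup.eq_one_iff]; exact hy
  have hx1 : (QuotientGroup.mk x : D ⧸ N) ≠ 1 := by
    rw [Ne, QuotientGroup.eq_one_iff]; exact hxn
  have hy1 : (QuotientGroup.mk y : D ⧸ N) ≠ 1 := by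
    rw [Ne, QuotientGroup.eq_one_iff]; exact hyn
  have hxy1 : (QuotientGroup.mk x : D ⧸ N) ≠ QuotientGroup.mk y := by
    intro heq
    apply hxy
    rw [← QuotientGroup.eq_one_iff, QuotientGroup.mk_mul, ← heq, ← pow_two, hx2]
  have hnc : ¬ IsCyclic (D ⧸ N) := by
    intro hcyc
    have h1 := IsCyclic.card_pow_eq_one_le (α := D ⧸ N) (n := 2) (by norm_num)
    have h2 : ({1, (QuotientGroup.mk x : D ⧸ N), QuotientGroup.mk y} : Finset (D ⧸ N)) ⊆
        Finset.univ.filter (fun a : D ⧸ N => a ^ 2 = 1) := by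
      intro a ha
      simp only [Finset.mem_insert, Finset.mem_singleton] at ha
      rw [Finset.mem_filter]
      refine ⟨Finset.mem_univ _, ?_⟩
      rcases ha with rfl | rfl | rfl
      · exact one_pow _
      · exact hx2
      · exact hy2
    have h3 := Finset.card_le_card h2
    have h4 : ({1, (QuotientGroup.mk x : D ⧸ N), QuotientGroup.mk y} : Finset (D ⧸ N)).card = 3 := by
      rw [Finset.card_insert_of_notMem, Finset.card_insert_of_notMem, Finset.card_singleton]
      · rw [Finset.mem_singleton]; exact hxy1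
      · simp only [Finset.mem_insert, Finset.mem_singleton, not_or]
        exact ⟨hx1.symm, hy1.symm⟩
    omega
  have hexp : Monoid.exponent (D ⧸ N) = 2 :=
    (not_isCyclic_iff_exponent_eq_prime Nat.prime_two (by rw [hc]; norm_num)).1 hnc
  haveI : IsKleinFour (D ⧸ N) := ⟨hc, hexp⟩
  obtain ⟨e⟩ := IsKleinFour.nonempty_mulEquiv (G₁ := D ⧸ N)
    (G₂ := Multiplicative (ZMod 2 × ZMod 2))
  exact exists_hom_of_equiv N e

end Cfsg.Agent.Helper28.IDP
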