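import Mathlib
import Cfsg.Agent.Helper28.PgoAut5
import Cfsg.Agent.Helper28.InndiagPlus3

set_option autoImplicit false
set_option linter.unusedSectionVars false

/-! The image `D` of the similarities of sign `1` in `Aut(PΩ)`: general structure of `D / Inn`. -/

namespace Cfsg.Agent.Helper28.IDG

open Matrix Module Cfsg.Agent.Helper28.Spin Cfsg.Agent.Helper28.IsoTransport
  Cfsg.Agent.Helper28.Sg Cfsg.Agent.Helper28.PA Cfsg.Agent.Helper28.PG Cfsg.Agent.Helper28.IDP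
open scoped commutatorElement

variable {F : Type*} [Field F] [Fintype F] [DecidableEq F] {ι : Type} [Fintype ι] [DecidableEq ι]
  (Q : QuadraticForm F (ι → F))

/-- the sign as a monoid homomorphism -/
noncomputable def sgnHom (hex : ∃ v : ι → F, Q v ≠ 0) (k : ℕ) : ↥(GO Q) →* F where
  toFun := PG.sgn Q k
  map_one' := by
    have h1 : mu Q 1 = 1 := (muHom Q hex).map_one
    unfold PG.sgn
    rw [h1]
    simp
  map_mul' := PG.sgn_mul Q hex k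

/-- the similarities of sign `1` -/
noncomputable def GO0 (hex : ∃ v : ι → F, Q v ≠ 0) (k : ℕ) : Subgroup ↥(GO Q) :=
  (sgnHom Q hex k).ker

theorem mem_GO0_iff (hex : ∃ v : ι → F, Q v ≠ 0) (k : ℕ) (g : ↥(GO Q)) :
    g ∈ GO0 Q hex k ↔ PG.sgn Q k g = 1 := MonoidHom.mem_ker

/-- the image of the similarities of sign `1` -/
noncomputable def DD (hex : ∃ v : ι → F, Q v ≠ 0) (k : ℕ) :
    Subgroup (MulAut (Cfsg.POmega F ⇑Q)) := (GO0 Q hex k).map (cG Q)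

theorem cG_mem_DD (hex : ∃ v : ι → F, Q v ≠ 0) (k : ℕ) (g : ↥(GO Q))
    (hg : PG.sgn Q k g = 1) : cG Q g ∈ DD Q hex k :=
  ⟨g, (mem_GO0_iff Q hex k g).2 hg, rfl⟩

theorem exists_of_mem_DD (hex : ∃ v : ι → F, Q v ≠ 0) (k : ℕ)
    (β : MulAut (Cfsg.POmega F ⇑Q)) (hβ : β ∈ DD Q hex k) :
    ∃ g : ↥(GO Q), PG.sgn Q k g = 1 ∧ cG Q g = β := by
  obtain ⟨g, hg, rfl⟩ := hβ
  exact ⟨g, (mem_GO0_iff Q hex k g).1 hg, rfl⟩

theorem psoAut_le_DD (hex : ∃ v : ι → F, Q v ≠ 0) (k : ℕ) :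
    Cfsg.psoAut F ⇑Q ≤ DD Q hex k := by
  rw [PG.psoAut_eq]
  rintro _ ⟨s, hs, rfl⟩
  exact cG_mem_DD Q hex k s (ker_of_SOg Q hex k s hs).2

section main

variable (hQ : (QuadraticMap.polarBilin Q).Nondegenerate) (fr : Frame3 Q)
  (hex : ∃ v : ι → F, Q v ≠ 0) (hperf : commutator ↥(Cfsg.Omega F ⇑Q) = ⊤) {k : ℕ}
  (hk : Fintype.card ι = 2 * k)

include hQ fr hex hperf hk

theorem cG_mem_psoAut_iff (g : ↥(GO Q)) (hsgn : PG.sgn Q k g = 1) :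
    cG Q g ∈ Cfsg.psoAut F ⇑Q ↔ PG.chi Q g = 1 := by
  rw [PG.psoAut_eq]
  constructor
  · rintro ⟨s, hs, hsg⟩
    have h3 : cG Q (s⁻¹ * g) = 1 := by
      rw [map_mul, map_inv, hsg, inv_mul_cancel]
    have h4 := (ker_of_cG Q hQ fr hex hperf hk _ h3).1
    have h5 : g = s * (s⁻¹ * g) := by group
    rw [h5, PG.chi_mul Q hex, h4, (ker_of_SOg Q hex k s hs).1, one_mul]
  · intro hchi
    obtain ⟨s, hs, hgs⟩ := exists_SO_of_ker Q hex hk g hchi hsgn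
    exact ⟨s, hs, hgs.symm⟩

theorem cG_not_mem_psoAut (g : ↥(GO Q)) (hchi : PG.chi Q g = -1) :
    cG Q g ∉ Cfsg.psoAut F ⇑Q := by
  rw [PG.psoAut_eq]
  rintro ⟨s, hs, hsg⟩
  have h3 : cG Q (s⁻¹ * g) = 1 := by
    rw [map_mul, map_inv, hsg, inv_mul_cancel]
  have h4 := (ker_of_cG Q hQ fr hex hperf hk _ h3).1
  have h5 : g = s * (s⁻¹ * g) := by group
  rw [h5, PG.chi_mul Q hex, h4, (ker_of_SOg Q hex k s hs).1, one_mul] at hchi
  norm_num at hchi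

theorem relIndex_pso_DD (h : ↥(GO Q)) (hh : PG.chi Q h = -1) :
    (Cfsg.psoAut F ⇑Q).relIndex (DD Q hex k) = 2 := by
  obtain ⟨v, hv⟩ := hex
  have hex : ∃ v : ι → F, Q v ≠ 0 := ⟨v, hv⟩
  -- an element of sign one with non-square multiplier
  obtain ⟨d, hdchi, hdsgn⟩ : ∃ d : ↥(GO Q), PG.chi Q d = -1 ∧ PG.sgn Q k d = 1 := by
    rcases sgn_cases Q hQ hk h with hs | hs
    · exact ⟨h, hh, hs⟩
    · refine ⟨h * reflGO Q v hv, ?_, ?_⟩
      · rw [PG.chi_mul Q hex, hh, chi_reflGO Q hex v hv, mul_one]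
      · rw [PG.sgn_mul Q hex, hs, sgn_reflGO Q hex k v hv]; ring
  rw [Subgroup.relIndex_eq_two_iff]
  refine ⟨cG Q d, cG_mem_DD Q hex k d hdsgn, ?_⟩
  intro β hβ
  obtain ⟨g, hgsgn, rfl⟩ := exists_of_mem_DD Q hex k β hβ
  have hsgn2 : PG.sgn Q k (g * d) = 1 := by
    rw [PG.sgn_mul Q hex, hgsgn, hdsgn, one_mul]
  have hA := cG_mem_psoAut_iff Q hQ fr hex hperf hk (g * d) hsgn2
  rw [map_mul, PG.chi_mul Q hex, hdchi] at hA
  have hB := cG_mem_psoAut_iff Q hQ fr hex hperf hk g hgsgn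
  rcases PG.chi_cases Q g with h | h
  · right
    refine ⟨hB.2 h, fun hc => ?_⟩
    have := hA.1 hc
    rw [h] at this
    norm_num at this
  · left
    refine ⟨hA.2 (by rw [h]; norm_num), fun hc => ?_⟩
    have := hB.1 hc
    rw [h] at this
    norm_num at this

theorem index_NN (h : ↥(GO Q)) (hh : PG.chi Q h = -1) (k' : ℕ)
    (hrel : (Cfsg.Inn (Cfsg.POmega F ⇑Q)).relIndex (Cfsg.psoAut F ⇑Q) = k') :
    ((Cfsg.Inn (Cfsg.POmega F ⇑Q)).subgroupOf (DD Q hex k)).index = k' * 2 := by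
  show (Cfsg.Inn (Cfsg.POmega F ⇑Q)).relIndex (DD Q hex k) = k' * 2
  rw [← Subgroup.relIndex_mul_relIndex _ _ _ (Inn_le_psoAut Q) (psoAut_le_DD Q hex k), hrel,
    relIndex_pso_DD Q hQ fr hex hperf hk h hh]

theorem caseA (h : ↥(GO Q)) (hh : PG.chi Q h = -1)
    (hrel : (Cfsg.Inn (Cfsg.POmega F ⇑Q)).relIndex (Cfsg.psoAut F ⇑Q) = 1) :
    ∃ φ : ↥(DD Q hex k) →* Multiplicative (ZMod 2), Function.Surjective φ ∧
      φ.ker = (Cfsg.Inn (Cfsg.POmega F ⇑Q)).subgroupOf (DD Q hex k) :=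
  hom_of_index_two _ (index_NN Q hQ fr hex hperf hk h hh 1 hrel)

/-- cyclic of order four: a similarity `H` of sign `-1` with `H² = ν` a non-square scalar -/
theorem caseB (h2 : (2 : F) ≠ 0) (h6 : 6 ≤ Fintype.card ι)
    (hneg : ∃ g : ↥(Cfsg.isometryGroup F ⇑Q), g ∈ Cfsg.Omega F ⇑Q ∧
        ((g : GL ι F) : Matrix ι ι F) = -1)
    (H : ↥(GO Q)) (hchi : PG.chi Q H = -1) (hsgnH : PG.sgn Q k H = -1) (ν : Fˣ)
    (hsq : H * H = scal Q ν)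
    (hrel : (Cfsg.Inn (Cfsg.POmega F ⇑Q)).relIndex (Cfsg.psoAut F ⇑Q) = 2) :
    ∃ φ : ↥(DD Q hex k) →* Multiplicative (ZMod 4), Function.Surjective φ ∧
      φ.ker = (Cfsg.Inn (Cfsg.POmega F ⇑Q)).subgroupOf (DD Q hex k) := by
  obtain ⟨v, hv⟩ := hex
  have hex : ∃ v : ι → F, Q v ≠ 0 := ⟨v, hv⟩
  have hμ0 : (mu Q H : F) ≠ 0 := Units.ne_zero _
  have hQw : Q (((H : GL ι F) : Matrix ι ι F) *ᵥ v) = (mu Q H : F) * Q v := mu_spec Q H v
  have hw : Q (((H : GL ι F) : Matrix ι ι F) *ᵥ v) ≠ 0 := by rw [hQw]; exact mul_ne_zero hμ0 hv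
  have hμns : ¬ IsSquare (mu Q H : F) := by
    intro hsq'
    have : PG.chi Q H = 1 := by
      unfold PG.chi
      rw [quadraticChar_one_iff_isSquare hμ0]
      exact hsq'
    rw [this] at hchi
    norm_num at hchi
  have hns : ¬ IsSquare (Q (((H : GL ι F) : Matrix ι ι F) *ᵥ v) * Q v) := by
    rintro ⟨r, hr⟩
    apply hμns
    refine ⟨r * (Q v)⁻¹, ?_⟩
    rw [hQw] at hr
    field_simp
    linear_combination hr
  obtain ⟨s, hs⟩ : ∃ s : ↥(Cfsg.isometryGroup F ⇑Q), s = reflO Q v hv := ⟨_, rfl⟩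
  obtain ⟨s', hs'⟩ : ∃ s' : ↥(Cfsg.isometryGroup F ⇑Q),
      s' = reflO Q (((H : GL ι F) : Matrix ι ι F) *ᵥ v) hw := ⟨_, rfl⟩
  have hconj : H * oGO Q s * H⁻¹ = oGO Q s' := by
    rw [conj_oGO, hs, hs', conjO_reflO Q H v hv hw]
  have hnot : s' * s ∉ Cfsg.Omega F ⇑Q := by
    rw [hs, hs']
    exact refl_mul_not_mem Q h2 _ _ hw hv hns
  have hss : PG.sgn Q k (oGO Q s) = -1 := by
    rw [hs]; exact sgn_reflGO Q hex k v hv
  obtain ⟨g, hg⟩ : ∃ g : ↥(GO Q), g = H * oGO Q s := ⟨_, rfl⟩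
  have hgsgn : PG.sgn Q k g = 1 := by
    rw [hg, PG.sgn_mul Q hex, hsgnH, hss]; ring
  have hgg : g * g = oGO Q s' * scal Q ν * oGO Q s := by
    rw [← hconj, ← hsq, hg]; group
  have hcgg : cG Q (g * g) = cAut Q (s' * s) := by
    rw [hgg, map_mul, map_mul, cG_scal, mul_one, cG_oGO, cG_oGO, ← map_mul]
  apply hom_of_index_four_cyclic _ (index_NN Q hQ fr hex hperf hk H hchi 2 hrel)
    ⟨cG Q g, cG_mem_DD Q hex k g hgsgn⟩
  rw [Subgroup.mem_subgroupOf]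
  have key : cG Q g ^ 2 = cAut Q (s' * s) := by
    rw [pow_two, ← map_mul, hcgg]
  intro hc
  apply cAut_not_mem_Inn Q hQ h2 h6 hneg _ hnot
  rw [← key]
  exact hc

end main

end Cfsg.Agent.Helper28.IDG
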