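import Mathlib
import Cfsg.Prelude.Def_LieTypeDatum
import Cfsg.Agent.Helper28.InndiagGen

set_option autoImplicit false
set_option linter.unusedSectionVars false

/-! Transport of `PΩ`, of the conjugation action of the similarity group and of the image of the
similarities of sign one along a linear isometry between two quadratic forms. -/

namespace Cfsg.Agent.Helper28.FM

open Matrix Cfsg.Agent.Helper28.IsoTransport Cfsg.Agent.Helper28.PG Cfsg.Agent.Helper28.Sg

section gen

variable {G H : Type*} [Group G] [Group H]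

theorem map_commutator_equiv (e : G ≃* H) : (commutator G).map (e : G →* H) = commutator H := by
  rw [commutator_def, commutator_def, Subgroup.map_commutator]
  have : (⊤ : Subgroup G).map (e : G →* H) = ⊤ :=
    Subgroup.map_top_of_surjective _ e.surjective
  rw [this]

/-- an isomorphism induces an isomorphism of commutator subgroups -/
noncomputable def commEquiv (e : G ≃* H) : ↥(commutator G) ≃* ↥(commutator H) :=
  (e.subgroupMap (commutator G)).trans (MulEquiv.subgroupCongr (map_commutator_equiv e))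

theorem commEquiv_coe (e : G ≃* H) (x : ↥(commutator G)) :
    ((commEquiv e x : ↥(commutator H)) : H) = e x := rfl

theorem commEquiv_symm_coe (e : G ≃* H) (y : ↥(commutator H)) :
    (((commEquiv e).symm y : ↥(commutator G)) : G) = e.symm y := by
  apply e.injective
  rw [← commEquiv_coe, MulEquiv.apply_symm_apply, MulEquiv.apply_symm_apply]

theorem map_center_equiv (e : G ≃* H) :
    (Subgroup.center G).map (e : G →* H) = Subgroup.center H := by
  ext y
  constructor
  · rintro ⟨x, hx, rfl⟩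
    have hx' : x ∈ Subgroup.center G := hx
    rw [Subgroup.mem_center_iff] at hx' ⊢
    intro z
    obtain ⟨w, rfl⟩ := e.surjective z
    show e w * e x = e x * e w
    rw [← map_mul, ← map_mul, hx' w]
  · intro hy
    refine ⟨e.symm y, ?_, e.apply_symm_apply y⟩
    show e.symm y ∈ Subgroup.center G
    rw [Subgroup.mem_center_iff] at hy ⊢
    intro z
    apply e.injective
    rw [map_mul, map_mul, e.apply_symm_apply]
    exact hy (e z)

/-- an isomorphism induces an isomorphism of the quotients by the centres -/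
noncomputable def quotCenterEquiv (e : G ≃* H) : G ⧸ Subgroup.center G ≃* H ⧸ Subgroup.center H :=
  QuotientGroup.congr (Subgroup.center G) (Subgroup.center H) e (map_center_equiv e)

theorem quotCenterEquiv_mk (e : G ≃* H) (x : G) :
    quotCenterEquiv e (QuotientGroup.mk x) = QuotientGroup.mk (e x) := rfl

theorem quotCenterEquiv_symm_mk (e : G ≃* H) (y : H) :
    (quotCenterEquiv e).symm (QuotientGroup.mk y) = QuotientGroup.mk (e.symm y) := by
  apply (quotCenterEquiv e).injective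
  rw [MulEquiv.apply_symm_apply, quotCenterEquiv_mk, MulEquiv.apply_symm_apply]

end gen

variable {F : Type*} [Field F] {ι : Type} [Fintype ι] [DecidableEq ι]
  (Q Q' : QuadraticForm F (ι → F))

/-- `T` is an isometry from `Q'` to `Q` -/
def IsIsom (T : GL ι F) : Prop := ∀ v : ι → F, Q ((T : Matrix ι ι F) *ᵥ v) = Q' v

variable {Q Q'}

theorem IsIsom.inv {T : GL ι F} (hT : IsIsom Q Q' T) : IsIsom Q' Q T⁻¹ := by
  intro v
  rw [← hT, Matrix.mulVec_mulVec, ← Units.val_mul, mul_inv_cancel, Units.val_one,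
    Matrix.one_mulVec]

theorem conjT_mem_O {T : GL ι F} (hT : IsIsom Q Q' T) {s : GL ι F}
    (hs : s ∈ Cfsg.isometryGroup F ⇑Q') : T * s * T⁻¹ ∈ Cfsg.isometryGroup F ⇑Q := by
  rw [mem_isometryGroup_iff] at hs ⊢
  intro x
  have h1 : ((T * s * T⁻¹ : GL ι F) : Matrix ι ι F) *ᵥ x =
      (T : Matrix ι ι F) *ᵥ ((s : Matrix ι ι F) *ᵥ (((T⁻¹ : GL ι F) : Matrix ι ι F) *ᵥ x)) := by
    simp only [Units.val_mul, Matrix.mulVec_mulVec, Matrix.mul_assoc]
  rw [h1, hT, hs, hT.inv]

theorem conjT_mem_GO {T : GL ι F} (hT : IsIsom Q Q' T) {g : GL ι F}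
    (hg : g ∈ GO Q') : T * g * T⁻¹ ∈ GO Q := by
  obtain ⟨c, hc⟩ := hg
  refine ⟨c, fun x => ?_⟩
  have h1 : ((T * g * T⁻¹ : GL ι F) : Matrix ι ι F) *ᵥ x =
      (T : Matrix ι ι F) *ᵥ ((g : Matrix ι ι F) *ᵥ (((T⁻¹ : GL ι F) : Matrix ι ι F) *ᵥ x)) := by
    simp only [Units.val_mul, Matrix.mulVec_mulVec, Matrix.mul_assoc]
  rw [h1, hT, hc, hT.inv]

/-- the isomorphism of isometry groups -/
noncomputable def isoO {T : GL ι F} (hT : IsIsom Q Q' T) :
    ↥(Cfsg.isometryGroup F ⇑Q') ≃* ↥(Cfsg.isometryGroup F ⇑Q) where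
  toFun s := ⟨T * s * T⁻¹, conjT_mem_O hT s.2⟩
  invFun s := ⟨T⁻¹ * s * T, by
    have := conjT_mem_O hT.inv s.2
    simpa using this⟩
  left_inv s := by
    apply Subtype.ext
    show T⁻¹ * (T * s * T⁻¹) * T = s
    group
  right_inv s := by
    apply Subtype.ext
    show T * (T⁻¹ * s * T) * T⁻¹ = s
    group
  map_mul' s t := by
    apply Subtype.ext
    show T * (s * t) * T⁻¹ = T * s * T⁻¹ * (T * t * T⁻¹)
    group

theorem isoO_coe {T : GL ι F} (hT : IsIsom Q Q' T) (s : ↥(Cfsg.isometryGroup F ⇑Q')) :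
    ((isoO hT s : ↥(Cfsg.isometryGroup F ⇑Q)) : GL ι F) = T * s * T⁻¹ := rfl

theorem isoO_symm_coe {T : GL ι F} (hT : IsIsom Q Q' T) (s : ↥(Cfsg.isometryGroup F ⇑Q)) :
    (((isoO hT).symm s : ↥(Cfsg.isometryGroup F ⇑Q')) : GL ι F) = T⁻¹ * s * T := rfl

/-- the isomorphism of similarity groups -/
noncomputable def isoGO {T : GL ι F} (hT : IsIsom Q Q' T) : ↥(GO Q') ≃* ↥(GO Q) where
  toFun s := ⟨T * s * T⁻¹, conjT_mem_GO hT s.2⟩
  invFun s := ⟨T⁻¹ * s * T, by
    have := conjT_mem_GO hT.inv s.2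
    simpa using this⟩
  left_inv s := by
    apply Subtype.ext
    show T⁻¹ * (T * s * T⁻¹) * T = s
    group
  right_inv s := by
    apply Subtype.ext
    show T * (T⁻¹ * s * T) * T⁻¹ = s
    group
  map_mul' s t := by
    apply Subtype.ext
    show T * (s * t) * T⁻¹ = T * s * T⁻¹ * (T * t * T⁻¹)
    group

theorem isoGO_coe {T : GL ι F} (hT : IsIsom Q Q' T) (g : ↥(GO Q')) :
    ((isoGO hT g : ↥(GO Q)) : GL ι F) = T * g * T⁻¹ := rfl

/-- the isomorphism of the groups `Ω` -/
noncomputable def isoΩ {T : GL ι F} (hT : IsIsom Q Q' T) :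
    ↥(Cfsg.Omega F ⇑Q') ≃* ↥(Cfsg.Omega F ⇑Q) := commEquiv (isoO hT)

/-- the isomorphism of the groups `PΩ` -/
noncomputable def tauT {T : GL ι F} (hT : IsIsom Q Q' T) :
    Cfsg.POmega F ⇑Q' ≃* Cfsg.POmega F ⇑Q := quotCenterEquiv (isoΩ hT)

/-- **conjugation by a similarity is transported to conjugation by the conjugate similarity** -/
theorem congr_cG {T : GL ι F} (hT : IsIsom Q Q' T) (g : ↥(GO Q')) :
    MulAut.congr (tauT hT) (cG Q' g) = cG Q (isoGO hT g) := by
  ext x
  induction x using QuotientGroup.induction_on with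
  | H s =>
    show tauT hT (cG Q' g ((tauT hT).symm (QuotientGroup.mk s))) = cG Q (isoGO hT g) (QuotientGroup.mk s)
    rw [tauT, quotCenterEquiv_symm_mk, cG_mk, quotCenterEquiv_mk, cG_mk]
    congr 1
    apply Subtype.ext
    apply Subtype.ext
    rw [isoΩ, commEquiv_coe, conjΩ_coe, conjΩ_coe, commEquiv_symm_coe]
    show T * ((g : GL ι F) * (T⁻¹ * s * T) * (g : GL ι F)⁻¹) * T⁻¹ =
      (T * (g : GL ι F) * T⁻¹) * s * (T * (g : GL ι F) * T⁻¹)⁻¹
    group

end Cfsg.Agent.Helper28.FM
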