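import Mathlib
import Cfsg.Prelude.Def_LieTypeDatum
import Cfsg.Agent.Helper28.FieldM5
import Cfsg.Agent.Helper28.FieldM1

set_option autoImplicit false
set_option linter.unusedSectionVars false

/-! The image of the similarities of sign one is transported by linear isometries and is
normalised by all semisimilarities. -/

namespace Cfsg.Agent.Helper28.FM

open Matrix Cfsg.Agent.Helper28.IsoTransport Cfsg.Agent.Helper28.PG Cfsg.Agent.Helper28.Sg
  Cfsg.Agent.Helper28.IDG Cfsg.Agent.Helper28.SSim Cfsg.Agent.Helper28.GC Cfsg.Agent.Helper28.FO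

variable {F : Type*} [Field F] [Fintype F] [DecidableEq F] {ι : Type} [Fintype ι] [DecidableEq ι]
  {Q Q' : QuadraticForm F (ι → F)}

theorem mu_isoGO {T : GL ι F} (hT : IsIsom Q Q' T) (hex : ∃ v : ι → F, Q v ≠ 0)
    (g : ↥(GO Q')) : mu Q (isoGO hT g) = mu Q' g := by
  apply mu_of_sim Q hex
  intro x
  have h1 : (((isoGO hT g : ↥(GO Q)) : GL ι F) : Matrix ι ι F) *ᵥ x =
      (T : Matrix ι ι F) *ᵥ (((g : GL ι F) : Matrix ι ι F) *ᵥ
        (((T⁻¹ : GL ι F) : Matrix ι ι F) *ᵥ x)) := by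
    rw [isoGO_coe]
    simp only [Units.val_mul, Matrix.mulVec_mulVec, Matrix.mul_assoc]
  rw [h1, hT, mu_spec, hT.inv]

theorem sgn_isoGO {T : GL ι F} (hT : IsIsom Q Q' T) (hex : ∃ v : ι → F, Q v ≠ 0) (k : ℕ)
    (g : ↥(GO Q')) : sgn Q k (isoGO hT g) = sgn Q' k g := by
  unfold sgn
  rw [mu_isoGO hT hex, isoGO_coe, Units.val_mul, Units.val_mul, Matrix.det_mul, Matrix.det_mul]
  have h1 : (T : Matrix ι ι F).det * ((T⁻¹ : GL ι F) : Matrix ι ι F).det = 1 := by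
    rw [← Matrix.det_mul, ← Units.val_mul, mul_inv_cancel, Units.val_one, Matrix.det_one]
  linear_combination (((g : GL ι F) : Matrix ι ι F).det * ((mu Q' g : F)⁻¹) ^ k) * h1

/-- **transport of the image of the similarities of sign one** -/
theorem map_DD {T : GL ι F} (hT : IsIsom Q Q' T) (hex : ∃ v : ι → F, Q v ≠ 0)
    (hex' : ∃ v : ι → F, Q' v ≠ 0) (k : ℕ) :
    (DD Q' hex' k).map ((MulAut.congr (tauT hT)).toMonoidHom) = DD Q hex k := by
  ext β
  constructor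
  · rintro ⟨β', hβ', rfl⟩
    obtain ⟨g', hg', rfl⟩ := exists_of_mem_DD Q' hex' k β' hβ'
    show MulAut.congr (tauT hT) (cG Q' g') ∈ DD Q hex k
    rw [congr_cG]
    apply cG_mem_DD
    rw [sgn_isoGO hT hex, hg']
  · intro hβ
    obtain ⟨g, hg, rfl⟩ := exists_of_mem_DD Q hex k β hβ
    refine ⟨cG Q' ((isoGO hT).symm g), ?_, ?_⟩
    · apply cG_mem_DD
      rw [← sgn_isoGO hT hex, MulEquiv.apply_symm_apply, hg]
    · show MulAut.congr (tauT hT) (cG Q' ((isoGO hT).symm g)) = cG Q g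
      rw [congr_cG, MulEquiv.apply_symm_apply]

/-- conjugating a similarity by a semisimilarity -/
theorem conj_semisim_mem {g₀ : GL ι F} {σ : F ≃+* F}
    (hp : Cfsg.IsSemisimilarityPair (⇑Q) g₀ σ) (g : ↥(GO Q)) :
    ∀ x : ι → F, Q (((g₀ * mapGL σ (g : GL ι F) * g₀⁻¹ : GL ι F) : Matrix ι ι F) *ᵥ x) =
      σ (mu Q g : F) * Q x := by
  obtain ⟨c, hc⟩ := hp
  intro x
  set y : ι → F := fun i => σ.symm ((((g₀⁻¹ : GL ι F) : Matrix ι ι F) *ᵥ x) i) with hy
  have hx : x = (g₀ : Matrix ι ι F) *ᵥ (fun i => σ (y i)) := by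
    have : (fun i => σ (y i)) = ((g₀⁻¹ : GL ι F) : Matrix ι ι F) *ᵥ x := by
      funext i
      simp [hy]
    rw [this, mulVec_inv_mulVec]
  have h1 : ((g₀ * mapGL σ (g : GL ι F) * g₀⁻¹ : GL ι F) : Matrix ι ι F) *ᵥ x =
      (g₀ : Matrix ι ι F) *ᵥ (fun i => σ ((((g : GL ι F) : Matrix ι ι F) *ᵥ y) i)) := by
    rw [Units.val_mul, Units.val_mul, mapGL_val, ← Matrix.mulVec_mulVec, ← Matrix.mulVec_mulVec]
    nth_rewrite 1 [hx]
    rw [inv_mulVec_mulVec, map_mulVec'']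
  rw [h1, hc, mu_spec, map_mul]
  conv_rhs => rw [hx, hc]
  ring

/-- **the image of the similarities of sign one is normalised by the semisimilarities** -/
theorem DD_normal (htop : Cfsg.gammaPOmega F ⇑Q = ⊤) (hex : ∃ v : ι → F, Q v ≠ 0) (k : ℕ) :
    (DD Q hex k).Normal := by
  constructor
  intro δ hδ α
  have hα : α ∈ Cfsg.gammaPOmega F ⇑Q := by rw [htop]; exact Subgroup.mem_top α
  obtain ⟨g₀, σ, hp, hind⟩ := exists_of_mem_gamma (⇑Q) α hα
  obtain ⟨g, hg, rfl⟩ := exists_of_mem_DD Q hex k δ hδ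
  have h1 := induced_mul (⇑Q) hp (semisim_GO g) hind (induced_cG g)
  have hp1 := semisim_mul (⇑Q) hp (semisim_GO g)
  have h2 := induced_inv (⇑Q) hp hind
  have hp2 := semisim_inv (⇑Q) hp
  have h3 := induced_mul (⇑Q) hp1 hp2 h1 h2
  have e1 : (RingEquiv.refl F).trans σ = σ := by
    ext x
    rfl
  have e2 : σ.symm.trans σ = RingEquiv.refl F := by
    ext x
    simp
  rw [e1, mapGL_symm_apply, e2] at h3
  have hmem : g₀ * mapGL σ (g : GL ι F) * g₀⁻¹ ∈ GO Q :=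
    ⟨Units.map (σ : F →* F) (mu Q g), conj_semisim_mem hp g⟩
  rw [induced_iff Q _ hmem] at h3
  rw [h3]
  apply cG_mem_DD
  have hmu : mu Q ⟨_, hmem⟩ = Units.map (σ : F →* F) (mu Q g) :=
    mu_of_sim Q hex _ _ (conj_semisim_mem hp g)
  unfold sgn at hg ⊢
  rw [hmu]
  show ((g₀ * mapGL σ (g : GL ι F) * g₀⁻¹ : GL ι F) : Matrix ι ι F).det * _ = 1
  rw [Units.val_mul, Units.val_mul, Matrix.det_mul, Matrix.det_mul, mapGL_val]
  have h4 : (g₀ : Matrix ι ι F).det * ((g₀⁻¹ : GL ι F) : Matrix ι ι F).det = 1 := by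
    rw [← Matrix.det_mul, ← Units.val_mul, mul_inv_cancel, Units.val_one, Matrix.det_one]
  have h5 : (((g : GL ι F) : Matrix ι ι F).map σ).det = σ (((g : GL ι F) : Matrix ι ι F).det) := by
    have := RingHom.map_det (σ : F →+* F) ((g : GL ι F) : Matrix ι ι F)
    exact this.symm
  have h6 := congrArg σ hg
  rw [map_mul, map_pow, map_inv₀, map_one] at h6
  rw [h5, Units.coe_map]
  show _ * σ _ * _ * ((σ _)⁻¹) ^ k = 1
  linear_combination (σ (((g : GL ι F) : Matrix ι ι F).det) * ((σ (mu Q g : F))⁻¹) ^ k) * h4 + h6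

end Cfsg.Agent.Helper28.FM
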