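import Mathlib
import Cfsg.Prelude.Def_LieTypeDatum
import Cfsg.Agent.Helper28.FieldO4

set_option autoImplicit false
set_option linter.unusedSectionVars false

/-! Base change of matrices, vectors and similarities along the embedding of the fixed field of a
field automorphism; the preimage of the centralizer of the standard field automorphism. -/

namespace Cfsg.Agent.Helper28.FO

open Matrix Module Cfsg.Agent.Helper28.SSim Cfsg.Agent.Helper28.Sg Cfsg.Agent.Helper28.PG
  Cfsg.Agent.Helper28.GC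
open Cfsg.Agent.Helper7.FieldPSL (FDesc nrmF nrmF_zero nrmF_succ hilbert90)

/-- two quadratic maps agreeing on a basis, with polar forms agreeing on the basis, are equal -/
theorem quad_ext_basis {R M N κ : Type*} [CommRing R] [AddCommGroup M] [AddCommGroup N]
    [Module R M] [Module R N] (bm : Module.Basis κ R M) (Q₁ Q₂ : QuadraticMap R M N)
    (h1 : ∀ i, Q₁ (bm i) = Q₂ (bm i))
    (h2 : ∀ i j, QuadraticMap.polar Q₁ (bm i) (bm j) = QuadraticMap.polar Q₂ (bm i) (bm j)) :
    Q₁ = Q₂ := by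
  classical
  let _ : LinearOrder κ := IsWellOrder.linearOrder (WellOrderingRel (α := κ))
  rw [← QuadraticMap.toQuadraticMap_toBilin Q₁ bm, ← QuadraticMap.toQuadraticMap_toBilin Q₂ bm]
  congr 1
  apply bm.ext
  intro i
  apply bm.ext
  intro j
  rw [QuadraticMap.toBilin_apply, QuadraticMap.toBilin_apply, h1, h2]

variable {F : Type*} [Field F] {F₀ : Type*} [Field F₀] {ι : Type} [Fintype ι] [DecidableEq ι]
  (E : FDesc F F₀)

/-- base change of vectors -/
def jv (w : ι → F₀) : ι → F := fun i => E.j (w i)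

theorem jv_add (x y : ι → F₀) : jv E (x + y) = jv E x + jv E y := by
  funext i
  exact map_add E.j _ _

theorem jv_single (i : ι) : jv E (Pi.single i (1 : F₀)) = Pi.single i (1 : F) := by
  funext k
  by_cases h : k = i
  · subst h
    simp [jv]
  · simp [jv, h]

theorem jv_mulVec (M : Matrix ι ι F₀) (w : ι → F₀) :
    jv E (M *ᵥ w) = M.map E.j *ᵥ jv E w := by
  funext i
  exact RingHom.map_mulVec E.j M w i

theorem vs_jv (w : ι → F₀) : vs E.σ (jv E w) = jv E w := by
  funext i
  exact E.fix_j _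

theorem exists_jv_of_fixed (v : ι → F) (hv : vs E.σ v = v) : ∃ w, jv E w = v := by
  choose w hw using fun i => E.exists_j (v i) (congrFun hv i)
  exact ⟨w, funext hw⟩

/-- two quadratic forms agreeing on the rational vectors are equal -/
theorem quad_ext_rational (Q₁ Q₂ : QuadraticForm F (ι → F))
    (h : ∀ w : ι → F₀, Q₁ (jv E w) = Q₂ (jv E w)) : Q₁ = Q₂ := by
  apply quad_ext_basis (Pi.basisFun F ι)
  · intro i
    rw [Pi.basisFun_apply, ← jv_single E]
    exact h _
  · intro i j
    rw [Pi.basisFun_apply, Pi.basisFun_apply]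
    unfold QuadraticMap.polar
    rw [← jv_single E, ← jv_single E, ← jv_add, h, h, h]

/-- base change of invertible matrices -/
def jGLg : GL ι F₀ →* GL ι F := Matrix.GeneralLinearGroup.map E.j

theorem jGLg_coe (k : GL ι F₀) :
    ((jGLg E k : GL ι F) : Matrix ι ι F) = (k : Matrix ι ι F₀).map E.j := rfl

theorem jGLg_injective : Function.Injective (jGLg E : GL ι F₀ →* GL ι F) := by
  intro k k' h
  apply Units.ext
  have := congrArg Units.val h
  rw [jGLg_coe, jGLg_coe] at this
  ext i l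
  have h2 := congrFun (congrFun this i) l
  simp only [Matrix.map_apply] at h2
  exact E.j.injective h2

theorem mapGL_jGLg (k : GL ι F₀) : mapGL E.σ (jGLg E k) = jGLg E k := by
  apply Units.ext
  rw [mapGL_val, jGLg_coe]
  ext i l
  simp only [Matrix.map_apply]
  exact E.fix_j _

/-- a matrix fixed by `σ` comes from `F₀` -/
theorem exists_jGLg_of_fixed (g : GL ι F) (hg : mapGL E.σ g = g) : ∃ k : GL ι F₀, jGLg E k = g := by
  classical
  have hfix : ∀ i l, E.σ ((g : Matrix ι ι F) i l) = (g : Matrix ι ι F) i l := by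
    intro i l
    have := congrArg (fun x : GL ι F => (x : Matrix ι ι F) i l) hg
    exact this
  choose K hK using fun i l => E.exists_j _ (hfix i l)
  have hKmap : (Matrix.of K).map E.j = (g : Matrix ι ι F) := by
    ext i l
    simp only [Matrix.map_apply, Matrix.of_apply]
    exact hK i l
  have hdet : (Matrix.of K).det ≠ 0 := by
    intro h0
    have h1 : ((Matrix.of K).map E.j).det = 0 := by
      rw [← RingHom.mapMatrix_apply, ← RingHom.map_det, h0, map_zero]
    rw [hKmap] at h1
    have := g.isUnit.map Matrix.detMonoidHom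
    rw [Matrix.coe_detMonoidHom] at this
    exact this.ne_zero h1
  refine ⟨Matrix.GeneralLinearGroup.mkOfDetNeZero (Matrix.of K) hdet, ?_⟩
  apply Units.ext
  rw [jGLg_coe]
  exact hKmap

theorem map_pow_apply_g (σ : F ≃+* F) (i : ℕ) (M : Matrix ι ι F) :
    (M.map (σ ^ i : F ≃+* F)).map σ = M.map (σ ^ (i + 1) : F ≃+* F) := by
  ext a b
  simp only [Matrix.map_apply]
  rw [pow_succ']
  rfl

theorem map_pow_eq_g (σ : F ≃+* F) (g : Matrix ι ι F) (c : F) (h : g.map σ = c • g) (i : ℕ) :
    g.map (σ ^ i : F ≃+* F) = nrmF σ c i • g := by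
  induction i with
  | zero =>
    rw [nrmF_zero, one_smul, pow_zero]
    ext a b
    rfl
  | succ i ih =>
    rw [← map_pow_apply_g, ih, nrmF_succ]
    ext a b
    have := congrFun (congrFun h a) b
    simp only [Matrix.map_apply, Matrix.smul_apply, smul_eq_mul] at this ⊢
    rw [map_mul, this]
    ring

/-- the structure of the preimage of the centralizer: a matrix with `σ(g) = c g` is a scalar
multiple of a rational matrix -/
theorem exists_smul_jGLg [Nonempty ι] (hσ : 0 < orderOf E.σ) (g : GL ι F) (c : Fˣ)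
    (h : ((mapGL E.σ g : GL ι F) : Matrix ι ι F) = (c : F) • (g : Matrix ι ι F)) :
    ∃ (μ : Fˣ) (k : GL ι F₀), (g : Matrix ι ι F) = (μ : F) • ((jGLg E k : GL ι F) : Matrix ι ι F) := by
  rw [mapGL_val] at h
  have h1 := map_pow_eq_g E.σ _ _ h (orderOf E.σ)
  rw [pow_orderOf_eq_one] at h1
  have h2 : (g : Matrix ι ι F).map (1 : F ≃+* F) = (g : Matrix ι ι F) := by
    ext a b
    rfl
  rw [h2] at h1
  have hN : nrmF E.σ (c : F) (orderOf E.σ) = 1 := by
    by_contra hne
    have h3 : (g : Matrix ι ι F) = 0 := by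
      have : (1 - nrmF E.σ (c : F) (orderOf E.σ)) • (g : Matrix ι ι F) = 0 := by
        rw [sub_smul, one_smul, ← h1, sub_self]
      rcases smul_eq_zero.1 this with h' | h'
      · exact absurd (sub_eq_zero.1 h').symm hne
      · exact h'
    have h4 := g.isUnit.map Matrix.detMonoidHom
    rw [Matrix.coe_detMonoidHom, h3, Matrix.det_zero] at h4
    exact not_isUnit_zero h4
  obtain ⟨t, ht0, ht⟩ := hilbert90 E.σ (c : F) hN hσ
  set tg : GL ι F := ⟨t • (g : Matrix ι ι F), t⁻¹ • ((g⁻¹ : GL ι F) : Matrix ι ι F), by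
      rw [smul_mul_smul_comm, mul_inv_cancel₀ ht0, one_smul, ← Units.val_mul, mul_inv_cancel,
        Units.val_one], by
      rw [smul_mul_smul_comm, inv_mul_cancel₀ ht0, one_smul, ← Units.val_mul, inv_mul_cancel,
        Units.val_one]⟩ with htg
  have htgv : (tg : Matrix ι ι F) = t • (g : Matrix ι ι F) := rfl
  have hfix : mapGL E.σ tg = tg := by
    apply Units.ext
    rw [mapGL_val, htgv]
    ext a b
    have := congrFun (congrFun h a) b
    simp only [Matrix.map_apply, Matrix.smul_apply, smul_eq_mul] at this ⊢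
    rw [map_mul, this, ← mul_assoc, mul_comm (E.σ t), ht]
  obtain ⟨k, hk⟩ := exists_jGLg_of_fixed E _ hfix
  refine ⟨(Units.mk0 t ht0)⁻¹, k, ?_⟩
  rw [hk, htgv, Units.val_inv_eq_inv_val, Units.val_mk0, smul_smul, inv_mul_cancel₀ ht0, one_smul]

/-- a base-changed matrix is scalar iff it is scalar over `F₀` -/
theorem jGLg_scalar_iff [Nonempty ι] (k : GL ι F₀) :
    (∃ c : Fˣ, ((jGLg E k : GL ι F) : Matrix ι ι F) = (c : F) • 1) ↔
      ∃ c₀ : F₀ˣ, (k : Matrix ι ι F₀) = (c₀ : F₀) • 1 := by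
  classical
  obtain ⟨i0⟩ := ‹Nonempty ι›
  constructor
  · rintro ⟨c, hc⟩
    rw [jGLg_coe] at hc
    have h00 := congrFun (congrFun hc i0) i0
    simp only [Matrix.map_apply, Matrix.smul_apply, Matrix.one_apply, smul_eq_mul, if_true,
      mul_one] at h00
    have hk0 : (k : Matrix ι ι F₀) i0 i0 ≠ 0 := by
      intro h0
      rw [h0, map_zero] at h00
      exact c.ne_zero h00.symm
    refine ⟨Units.mk0 _ hk0, ?_⟩
    ext a b
    have hab := congrFun (congrFun hc a) b
    simp only [Matrix.map_apply, Matrix.smul_apply, Matrix.one_apply, smul_eq_mul] at hab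
    simp only [Units.val_mk0, Matrix.smul_apply, Matrix.one_apply, smul_eq_mul]
    by_cases h : a = b
    · rw [if_pos h, mul_one]
      rw [if_pos h, mul_one, ← h00] at hab
      subst h
      exact E.j.injective hab
    · rw [if_neg h, mul_zero]
      rw [if_neg h, mul_zero] at hab
      exact E.j.injective (by rw [hab, map_zero])
  · rintro ⟨c, hc⟩
    refine ⟨Units.map (E.j : F₀ →* F) c, ?_⟩
    rw [jGLg_coe, hc]
    ext a b
    simp only [Matrix.map_apply, Matrix.smul_apply, Matrix.one_apply, smul_eq_mul, Units.coe_map,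
      MonoidHom.coe_coe]
    by_cases h : a = b
    · simp [h]
    · simp [h]

section forms

variable (Q : QuadraticForm F (ι → F)) (Q₀ : QuadraticForm F₀ (ι → F₀))

/-- the two forms are compatible with the embedding -/
def Compat : Prop := ∀ w : ι → F₀, Q (jv E w) = E.j (Q₀ w)

variable {Q Q₀}

theorem jGLg_mem_GO (hc : Compat E Q Q₀) {k : GL ι F₀} (hk : k ∈ GO Q₀) : jGLg E k ∈ GO Q := by
  obtain ⟨c₀, hc₀⟩ := hk
  refine ⟨Units.map (E.j : F₀ →* F) c₀, ?_⟩
  have h1 : Q.comp (Matrix.toLin' ((jGLg E k : GL ι F) : Matrix ι ι F)) =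
      ((Units.map (E.j : F₀ →* F) c₀ : Fˣ) : F) • Q := by
    apply quad_ext_rational E
    intro w
    rw [QuadraticMap.comp_apply, Matrix.toLin'_apply, _root_.smul_apply, jGLg_coe, ← jv_mulVec, hc,
      hc₀, map_mul, hc]
    rfl
  intro v
  have h2 := congrArg (fun P : QuadraticForm F (ι → F) => P v) h1
  simp only [QuadraticMap.comp_apply, Matrix.toLin'_apply, _root_.smul_apply, smul_eq_mul] at h2
  exact h2

theorem mem_GO_of_jGLg (hc : Compat E Q Q₀) (hex₀ : ∃ w₀ : ι → F₀, Q₀ w₀ ≠ 0) {k : GL ι F₀}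
    (hk : jGLg E k ∈ GO Q) : k ∈ GO Q₀ := by
  obtain ⟨c, hcv⟩ := hk
  obtain ⟨w₁, hw₁⟩ := hex₀
  have key : ∀ w : ι → F₀, E.j (Q₀ ((k : Matrix ι ι F₀) *ᵥ w)) = (c : F) * E.j (Q₀ w) := by
    intro w
    rw [← hc, ← hc, jv_mulVec, ← jGLg_coe]
    exact hcv _
  set c₀ : F₀ := Q₀ ((k : Matrix ι ι F₀) *ᵥ w₁) / Q₀ w₁ with hc₀
  have hcc : (c : F) = E.j c₀ := by
    rw [hc₀, map_div₀, key w₁]
    have : E.j (Q₀ w₁) ≠ 0 := fun h => hw₁ (E.j.injective (by rw [h, map_zero]))
    field_simp
  have hc₀0 : c₀ ≠ 0 := by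
    intro h0
    rw [h0, map_zero] at hcc
    exact c.ne_zero hcc
  refine ⟨Units.mk0 c₀ hc₀0, fun w => ?_⟩
  apply E.j.injective
  rw [key w, hcc, Units.val_mk0, map_mul]

/-- base change of similarities -/
def jGO (hc : Compat E Q Q₀) : ↥(GO Q₀) →* ↥(GO Q) where
  toFun k := ⟨jGLg E k.1, jGLg_mem_GO E hc k.2⟩
  map_one' := by
    apply Subtype.ext
    show jGLg E (1 : GL ι F₀) = 1
    rw [map_one]
  map_mul' k k' := by
    apply Subtype.ext
    show jGLg E (k.1 * k'.1) = jGLg E k.1 * jGLg E k'.1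
    rw [map_mul]

theorem jGO_coe (hc : Compat E Q Q₀) (k : ↥(GO Q₀)) :
    ((jGO E hc k : ↥(GO Q)) : GL ι F) = jGLg E k.1 := rfl

end forms

end Cfsg.Agent.Helper28.FO
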