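import Mathlib
import Cfsg.Prelude.Def_LieTypeDatum
import Cfsg.Agent.Helper28.QPlus4
import Cfsg.Agent.Helper28.PgoAut5

set_option autoImplicit false
set_option linter.unusedSectionVars false

/-! Similarities of the hyperbolic quadratic form and the two families of maximal totally
singular subspaces: a similarity preserves the families iff `det g = μ(g)^m`. -/

namespace Cfsg.Agent.Helper28.IDP

open Module Submodule Matrix Cfsg.Agent.Helper28.QPlus

variable {F : Type*} [Field F] {m : ℕ}

theorem finrank_le_of_TS (U : Submodule F (Vm m F))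
    (hU : ∀ w ∈ U, Cfsg.quadFormPlus m F w = 0) : finrank F U ≤ m := by
  have h1 := TS_le_orth U hU
  have h2 := LinearMap.BilinForm.finrank_orthogonal (pB_nondeg (m := m) (F := F)) U
  have h3 := Submodule.finrank_mono h1
  have h4 : finrank F U ≤ finrank F (Vm m F) := Submodule.finrank_le _
  rw [h2, finrank_Vm] at h3
  rw [finrank_Vm] at h4
  omega

/-- every totally singular subspace lies in a totally singular `m`-space -/
theorem isMax_T' (U : Submodule F (Vm m F)) (hU : ∀ w ∈ U, Cfsg.quadFormPlus m F w = 0) :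
    IsMax m ((E m F ⊓ (pB m F).orthogonal U) ⊔ U) := by
  have hE := isMax_E (F := F) (m := m)
  have hts : ∀ w ∈ (E m F ⊓ (pB m F).orthogonal U) ⊔ U, Cfsg.quadFormPlus m F w = 0 := by
    intro w hw
    obtain ⟨a, ha, u, hu, rfl⟩ := Submodule.mem_sup.mp hw
    have h1 : pB m F u a = 0 := (LinearMap.BilinForm.mem_orthogonal_iff.mp ha.2) u hu
    rw [Q_add, hE.2 a ha.1, hU u hu, pB_comm, h1]; ring
  refine ⟨?_, hts⟩
  have hle := finrank_le_of_TS _ hts
  have h1 := Submodule.finrank_sup_add_finrank_inf_eq (E m F ⊓ (pB m F).orthogonal U) U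
  have h2 : (E m F ⊓ (pB m F).orthogonal U) ⊓ U = E m F ⊓ U := by
    rw [inf_assoc, inf_eq_right.mpr (TS_le_orth U hU)]
  have h3 : E m F ⊓ (pB m F).orthogonal U = (pB m F).orthogonal (E m F ⊔ U) := by
    rw [orth_sup, hE.orth_eq]
  have h4 := LinearMap.BilinForm.finrank_orthogonal (pB_nondeg (m := m) (F := F)) (E m F ⊔ U)
  have h5 := Submodule.finrank_sup_add_finrank_inf_eq (E m F) U
  have h6 : finrank F ↥(E m F ⊔ U) ≤ finrank F (Vm m F) := Submodule.finrank_le _
  have h7 : finrank F ↥(E m F ⊓ (pB m F).orthogonal U) =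
      finrank F (Vm m F) - finrank F ↥(E m F ⊔ U) := by
    rw [h3, h4]
  rw [h2] at h1
  rw [finrank_Vm] at h7 h6
  rw [hE.1] at h5
  omega

theorem isMaxTS_iff (U : Submodule F (Vm m F)) :
    Cfsg.IsMaxTotallySingular (Cfsg.quadFormPlus m F) U ↔ IsMax m U := by
  constructor
  · rintro ⟨hts, hmax⟩
    have hT := isMax_T' U hts
    have := hmax _ hT.2 le_sup_right
    rw [this] at hT
    exact hT
  · rintro ⟨hdim, hts⟩
    refine ⟨hts, fun W hW hUW => ?_⟩
    exact (Submodule.eq_of_le_of_finrank_le hUW (by rw [hdim]; exact finrank_le_of_TS W hW)).symm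

section sim

variable {g : Matrix (Fin m ⊕ Fin m) (Fin m ⊕ Fin m) F}

theorem mem_image (U : Submodule F (Vm m F)) (v : Vm m F) :
    v ∈ Cfsg.imageSubmodule g U ↔ ∃ u ∈ U, g *ᵥ u = v := by
  unfold Cfsg.imageSubmodule
  rw [Submodule.mem_map]
  simp only [Matrix.toLin'_apply]

theorem finrank_image (hinj : Function.Injective (Matrix.toLin' g)) (U : Submodule F (Vm m F)) :
    finrank F (Cfsg.imageSubmodule g U) = finrank F U :=
  LinearEquiv.finrank_eq (Submodule.equivMapOfInjective _ hinj U).symm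

theorem image_inf (hinj : Function.Injective (Matrix.toLin' g)) (U W : Submodule F (Vm m F)) :
    Cfsg.imageSubmodule g (U ⊓ W) = Cfsg.imageSubmodule g U ⊓ Cfsg.imageSubmodule g W :=
  Submodule.map_inf _ hinj

theorem isMax_image (hinj : Function.Injective (Matrix.toLin' g)) {c : F}
    (hg : ∀ v, Cfsg.quadFormPlus m F (g *ᵥ v) = c * Cfsg.quadFormPlus m F v)
    {U : Submodule F (Vm m F)} (hU : IsMax m U) : IsMax m (Cfsg.imageSubmodule g U) := by
  constructor
  · rw [finrank_image hinj, hU.1]
  · intro w hw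
    obtain ⟨u, hu, rfl⟩ := (mem_image U w).mp hw
    rw [hg, hU.2 u hu, mul_zero]

/-- a similarity preserves the two families iff it maps `E` into its own family -/
theorem psc_iff (hinj : Function.Injective (Matrix.toLin' g)) {c : F}
    (hg : ∀ v, Cfsg.quadFormPlus m F (g *ᵥ v) = c * Cfsg.quadFormPlus m F v) :
    Cfsg.PreservesSingularClasses (Cfsg.quadFormPlus m F) g ↔
      Even (m - finrank F ↥(E m F ⊓ Cfsg.imageSubmodule g (E m F))) := by
  have hE := isMax_E (F := F) (m := m)
  constructor
  · intro h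
    have := h (E m F) ((isMaxTS_iff _).mpr hE)
    unfold Cfsg.SameParityClass at this
    rw [hE.1] at this
    exact this
  · intro hev U hU
    rw [isMaxTS_iff] at hU
    unfold Cfsg.SameParityClass
    rw [hU.1]
    have hgU := isMax_image hinj hg hU
    have hgE := isMax_image hinj hg hE
    have P1 := parity_aux _ (E m F) (Cfsg.imageSubmodule g U) hE hgU rfl U hU
    have P2 := parity_aux _ (Cfsg.imageSubmodule g (E m F)) (Cfsg.imageSubmodule g U) hgE hgU rfl
      (E m F) hE
    have h1 : finrank F ↥(Cfsg.imageSubmodule g (E m F) ⊓ Cfsg.imageSubmodule g U) =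
        finrank F ↥(U ⊓ E m F) := by
      rw [← image_inf hinj, finrank_image hinj, inf_comm]
    rw [h1] at P2
    generalize m - finrank F ↥(U ⊓ E m F) = x at P1 P2
    generalize m - finrank F ↥(E m F ⊓ Cfsg.imageSubmodule g U) = y at P1 P2
    generalize m - finrank F ↥(U ⊓ Cfsg.imageSubmodule g U) = z at P1 ⊢
    generalize m - finrank F ↥(E m F ⊓ Cfsg.imageSubmodule g (E m F)) = w at P2 hev
    rw [Nat.even_iff] at P1 P2 hev ⊢
    omega

end sim

end Cfsg.Agent.Helper28.IDP
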