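import Mathlib
import Cfsg.Agent.Helper28.InndiagPlus1

set_option autoImplicit false
set_option linter.unusedSectionVars false

/-! The sign of a similarity of the hyperbolic form and the two families. -/

namespace Cfsg.Agent.Helper28.IDP

open Module Submodule Matrix Cfsg.Agent.Helper28.QPlus Cfsg.Agent.Helper28.Spin
  Cfsg.Agent.Helper28.PG

variable {F : Type*} [Field F] {m : ℕ}

/-- the diagonal similarity -/
def diagM (m : ℕ) (μ : F) : Matrix (Fin m ⊕ Fin m) (Fin m ⊕ Fin m) F :=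
  Matrix.diagonal (Sum.elim (fun _ => μ) (fun _ => 1))

theorem diagM_sim (μ : F) (w : Vm m F) :
    Cfsg.quadFormPlus m F (diagM m μ *ᵥ w) = μ * Cfsg.quadFormPlus m F w := by
  unfold Cfsg.quadFormPlus
  rw [Finset.mul_sum]
  apply Finset.sum_congr rfl
  intro i _
  unfold diagM
  rw [Matrix.mulVec_diagonal, Matrix.mulVec_diagonal]
  simp only [Sum.elim_inl, Sum.elim_inr, one_mul]
  ring

theorem diagM_det (μ : F) : (diagM m μ).det = μ ^ m := by
  unfold diagM
  rw [Matrix.det_diagonal, Fintype.prod_sum_type]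
  simp

theorem diagM_E (μ : F) (hμ : μ ≠ 0) : Cfsg.imageSubmodule (diagM m μ) (E m F) = E m F := by
  ext v
  rw [mem_image]
  constructor
  · rintro ⟨u, hu, rfl⟩
    rw [mem_E_iff] at hu ⊢
    intro i
    unfold diagM
    rw [Matrix.mulVec_diagonal, hu i, mul_zero]
  · intro hv
    refine ⟨fun j => Sum.elim (fun _ => μ⁻¹) (fun _ => (1 : F)) j * v j, ?_, ?_⟩
    · rw [mem_E_iff] at hv ⊢
      intro i
      show _ * v (Sum.inr i) = 0
      rw [hv i, mul_zero]
    · funext j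
      unfold diagM
      rw [Matrix.mulVec_diagonal]
      rcases j with j | j
      · simp only [Sum.elim_inl]
        rw [← mul_assoc, mul_inv_cancel₀ hμ, one_mul]
      · simp only [Sum.elim_inr]
        rw [one_mul, one_mul]

theorem image_mul (A C : Matrix (Fin m ⊕ Fin m) (Fin m ⊕ Fin m) F) (U : Submodule F (Vm m F)) :
    Cfsg.imageSubmodule (A * C) U = Cfsg.imageSubmodule A (Cfsg.imageSubmodule C U) := by
  unfold Cfsg.imageSubmodule
  rw [← Submodule.map_comp, Matrix.toLin'_mul]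

theorem act_eq_image (g : OQ m F) (U : Submodule F (Vm m F)) :
    act g U = Cfsg.imageSubmodule (mat g) U := rfl

section fin

variable [Fintype F] [DecidableEq F]

theorem hex_plus (hm : 1 ≤ m) : ∃ v : Fin m ⊕ Fin m → F, QfPlus m F v ≠ 0 := by
  refine ⟨Pi.single (Sum.inl ⟨0, hm⟩) 1 + Pi.single (Sum.inr ⟨0, hm⟩) 1, ?_⟩
  rw [QfPlus_coe]
  unfold Cfsg.quadFormPlus
  rw [Finset.sum_eq_single (⟨0, hm⟩ : Fin m)]
  · simp
  · intro b _ hb
    simp [hb]
  · simp

/-- the sign of a similarity is `1` iff it maps `E` into its own family -/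
theorem sgn_eq_one_iff (h2 : (2 : F) ≠ 0) (hm : 1 ≤ m) (g : ↥(GO (QfPlus m F))) :
    PG.sgn (QfPlus m F) m g = 1 ↔
      Even (m - finrank F ↥(E m F ⊓ Cfsg.imageSubmodule
        (((g : GL (Fin m ⊕ Fin m) F)) : Matrix (Fin m ⊕ Fin m) (Fin m ⊕ Fin m) F) (E m F))) := by
  have hex := hex_plus (F := F) hm
  have hQ := QfPlus_nondeg (F := F) m
  obtain ⟨d, hd⟩ := exists_GO_of_sim (QfPlus m F) hQ (diagM m (mu (QfPlus m F) g : F))
    (mu (QfPlus m F) g) (fun w => by rw [QfPlus_coe]; exact diagM_sim _ w)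
  have hmud : mu (QfPlus m F) d = mu (QfPlus m F) g := by
    apply mu_of_sim (QfPlus m F) hex
    intro w
    rw [hd, QfPlus_coe]
    exact diagM_sim _ w
  obtain ⟨g', hg'⟩ : ∃ g' : ↥(GO (QfPlus m F)), g' = g * d⁻¹ := ⟨_, rfl⟩
  have hgg : g = g' * d := by rw [hg']; group
  have hmug' : mu (QfPlus m F) g' = 1 := by
    have h1 := (muHom (QfPlus m F) hex).map_mul g' d
    rw [← hgg, muHom_apply, muHom_apply, muHom_apply, hmud] at h1
    exact (mul_eq_right.mp h1.symm)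
  have hiso : (g' : GL (Fin m ⊕ Fin m) F) ∈ Cfsg.isometryGroup F (Cfsg.quadFormPlus m F) := by
    rw [IsoTransport.mem_isometryGroup_iff]
    intro v
    have := mu_spec (QfPlus m F) g' v
    rw [hmug', Units.val_one, one_mul, QfPlus_coe] at this
    exact this
  obtain ⟨g'', hg''⟩ : ∃ g'' : OQ m F, (g'' : GL (Fin m ⊕ Fin m) F) = (g' : GL (Fin m ⊕ Fin m) F) :=
    ⟨⟨_, hiso⟩, rfl⟩
  have hmat : ((g : GL (Fin m ⊕ Fin m) F) : Matrix (Fin m ⊕ Fin m) (Fin m ⊕ Fin m) F) =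
      mat g'' * diagM m (mu (QfPlus m F) g : F) := by
    rw [hgg]
    show (((g' : GL (Fin m ⊕ Fin m) F) * (d : GL (Fin m ⊕ Fin m) F) : GL (Fin m ⊕ Fin m) F) :
      Matrix (Fin m ⊕ Fin m) (Fin m ⊕ Fin m) F) = _
    rw [Units.val_mul, hd, ← hg'', hgg]
  have hμ0 : (mu (QfPlus m F) g : F) ≠ 0 := Units.ne_zero _
  have himg : Cfsg.imageSubmodule
      (((g : GL (Fin m ⊕ Fin m) F)) : Matrix (Fin m ⊕ Fin m) (Fin m ⊕ Fin m) F) (E m F) =
      act g'' (E m F) := by
    rw [hmat, image_mul, diagM_E _ hμ0, act_eq_image]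
  have hsgn : PG.sgn (QfPlus m F) m g = (mat g'').det := by
    unfold PG.sgn
    rw [hmat, Matrix.det_mul, diagM_det, inv_pow, mul_assoc,
      mul_inv_cancel₀ (pow_ne_zero _ hμ0), mul_one]
  rw [himg, hsgn, ← zmod2_even]
  have hneg : (-1 : F) ≠ 1 := by
    intro h
    apply h2
    linear_combination -h
  rcases det_chi _ g'' rfl with ⟨h1, h3⟩ | ⟨h1, h3⟩
  · unfold QPlus.chi at h1
    rw [h3, h1]
    simp
  · unfold QPlus.chi at h1
    rw [h3, h1]
    simp [hneg]

end fin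

end Cfsg.Agent.Helper28.IDP
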