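import Mathlib
import Cfsg.Agent.Helper28.InndiagPlus2
import Cfsg.Agent.Helper28.InndiagPlus3

set_option autoImplicit false
set_option linter.unusedSectionVars false

/-! `Inndiag(PΩ⁺)` as the image of the class-preserving similarities. -/

namespace Cfsg.Agent.Helper28.IDP

open Module Submodule Matrix Cfsg.Agent.Helper28.QPlus Cfsg.Agent.Helper28.Spin
  Cfsg.Agent.Helper28.PG Cfsg.Agent.Helper28.Sg

variable {F : Type*} [Field F] [Fintype F] [DecidableEq F] {m : ℕ}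

/-- the sign as a monoid homomorphism -/
noncomputable def sgnHom (hm : 1 ≤ m) : ↥(GO (QfPlus m F)) →* F where
  toFun := PG.sgn (QfPlus m F) m
  map_one' := by
    have h1 : mu (QfPlus m F) 1 = 1 := (muHom (QfPlus m F) (hex_plus hm)).map_one
    unfold PG.sgn
    rw [h1]
    simp
  map_mul' := PG.sgn_mul (QfPlus m F) (hex_plus hm) m

/-- the class-preserving similarities -/
noncomputable def GO0 (hm : 1 ≤ m) : Subgroup ↥(GO (QfPlus m F)) := (sgnHom hm).ker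

theorem mem_GO0_iff (hm : 1 ≤ m) (g : ↥(GO (QfPlus m F))) :
    g ∈ GO0 hm ↔ PG.sgn (QfPlus m F) m g = 1 := MonoidHom.mem_ker

theorem psc_iff_sgn (h2 : (2 : F) ≠ 0) (hm : 1 ≤ m) (g : ↥(GO (QfPlus m F))) :
    Cfsg.PreservesSingularClasses (Cfsg.quadFormPlus m F)
      (((g : GL (Fin m ⊕ Fin m) F)) : Matrix (Fin m ⊕ Fin m) (Fin m ⊕ Fin m) F) ↔
      PG.sgn (QfPlus m F) m g = 1 := by
  rw [sgn_eq_one_iff h2 hm]
  apply psc_iff (c := (mu (QfPlus m F) g : F))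
  · intro x y hxy
    simp only [Matrix.toLin'_apply] at hxy
    exact (Matrix.mulVec_injective_iff_isUnit.2 ⟨(g : GL (Fin m ⊕ Fin m) F), rfl⟩) hxy
  · intro v
    exact mu_spec (QfPlus m F) g v

theorem inndiag_eq (h2 : (2 : F) ≠ 0) (hm : 1 ≤ m) :
    Cfsg.inndiagPOmegaPlus m F = (GO0 hm).map (cG (QfPlus m F)) := by
  unfold Cfsg.inndiagPOmegaPlus Cfsg.autSubgroupOf
  have : {β : MulAut (Cfsg.POmega F (Cfsg.quadFormPlus m F)) |
      Cfsg.IsInnerDiagonalAutPOmegaPlus m β} =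
      (((GO0 hm).map (cG (QfPlus m F)) :
        Subgroup (MulAut (Cfsg.POmega F (Cfsg.quadFormPlus m F)))) : Set _) := by
    ext β
    constructor
    · rintro ⟨g, hg, hpsc, hβ⟩
      refine ⟨⟨g, hg⟩, ?_, ((induced_iff (QfPlus m F) g hg β).1 hβ).symm⟩
      rw [SetLike.mem_coe, mem_GO0_iff, ← psc_iff_sgn h2 hm]
      exact hpsc
    · rintro ⟨g, hg, rfl⟩
      exact ⟨g.1, g.2, (psc_iff_sgn h2 hm g).2 ((mem_GO0_iff hm g).1 hg),
        (induced_iff (QfPlus m F) g.1 g.2 _).2 rfl⟩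
  rw [this]
  exact Subgroup.closure_eq _

theorem cG_mem_inndiag (h2 : (2 : F) ≠ 0) (hm : 1 ≤ m) (g : ↥(GO (QfPlus m F)))
    (hg : PG.sgn (QfPlus m F) m g = 1) :
    cG (QfPlus m F) g ∈ Cfsg.inndiagPOmegaPlus m F := by
  rw [inndiag_eq h2 hm]
  exact ⟨g, (mem_GO0_iff hm g).2 hg, rfl⟩

theorem exists_of_mem_inndiag (h2 : (2 : F) ≠ 0) (hm : 1 ≤ m)
    (β : MulAut (Cfsg.POmega F (Cfsg.quadFormPlus m F))) (hβ : β ∈ Cfsg.inndiagPOmegaPlus m F) :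
    ∃ g : ↥(GO (QfPlus m F)), PG.sgn (QfPlus m F) m g = 1 ∧ cG (QfPlus m F) g = β := by
  rw [inndiag_eq h2 hm] at hβ
  obtain ⟨g, hg, rfl⟩ := hβ
  exact ⟨g, (mem_GO0_iff hm g).1 hg, rfl⟩

theorem psoAut_le_inndiag (h2 : (2 : F) ≠ 0) (hm : 1 ≤ m) :
    Cfsg.psoAut F (Cfsg.quadFormPlus m F) ≤ Cfsg.inndiagPOmegaPlus m F := by
  have h1 : Cfsg.psoAut F (Cfsg.quadFormPlus m F) =
      (SOg (QfPlus m F)).map (cG (QfPlus m F)) := PG.psoAut_eq (QfPlus m F)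
  rw [h1]
  rintro _ ⟨s, hs, rfl⟩
  exact cG_mem_inndiag h2 hm s (ker_of_SOg (QfPlus m F) (hex_plus hm) m s hs).2

end Cfsg.Agent.Helper28.IDP
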