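import Mathlib
import Cfsg.Prelude.Def_LieTypeDatum

set_option autoImplicit false
set_option linter.unusedSectionVars false

/-! Transport of `PreservesSingularClasses` along a linear change of coordinates. -/

namespace Cfsg.Agent.Helper28.IDM

open Module Submodule Matrix

variable {K : Type*} [Field K] {ι ι' : Type} [Fintype ι] [DecidableEq ι] [Fintype ι']
  [DecidableEq ι']

theorem isMaxTS_map (T : (ι → K) ≃ₗ[K] (ι' → K)) (Q : (ι → K) → K) (Q' : (ι' → K) → K)
    (hQ : ∀ v, Q' (T v) = Q v) (U : Submodule K (ι → K))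
    (hU : Cfsg.IsMaxTotallySingular Q U) :
    Cfsg.IsMaxTotallySingular Q' (U.map (T : (ι → K) →ₗ[K] (ι' → K))) := by
  obtain ⟨hts, hmax⟩ := hU
  constructor
  · rintro _ ⟨u, hu, rfl⟩
    show Q' (T u) = 0
    rw [hQ]
    exact hts u hu
  · intro W' hW' hle
    have hW : Cfsg.Geo.IsTotallySingularQuad Q (W'.comap (T : (ι → K) →ₗ[K] (ι' → K))) := by
      intro w hw
      rw [← hQ]
      exact hW' _ hw
    have h1 := hmax _ hW (Submodule.map_le_iff_le_comap.mp hle)
    rw [← h1, Submodule.map_comap_eq_of_surjective T.surjective]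

theorem image_map (T : (ι → K) ≃ₗ[K] (ι' → K)) (g : Matrix ι ι K) (g' : Matrix ι' ι' K)
    (hg : ∀ v, T (g *ᵥ v) = g' *ᵥ T v) (U : Submodule K (ι → K)) :
    (Cfsg.imageSubmodule g U).map (T : (ι → K) →ₗ[K] (ι' → K)) =
      Cfsg.imageSubmodule g' (U.map (T : (ι → K) →ₗ[K] (ι' → K))) := by
  unfold Cfsg.imageSubmodule
  rw [← Submodule.map_comp, ← Submodule.map_comp]
  congr 1
  apply LinearMap.ext
  intro v
  simp only [LinearMap.comp_apply, Matrix.toLin'_apply, LinearEquiv.coe_coe]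
  exact hg v

theorem sameParity_map (T : (ι → K) ≃ₗ[K] (ι' → K)) (U W : Submodule K (ι → K)) :
    Cfsg.SameParityClass (U.map (T : (ι → K) →ₗ[K] (ι' → K)))
      (W.map (T : (ι → K) →ₗ[K] (ι' → K))) ↔ Cfsg.SameParityClass U W := by
  unfold Cfsg.SameParityClass
  rw [← Submodule.map_inf _ T.injective, LinearEquiv.finrank_map_eq, LinearEquiv.finrank_map_eq]

/-- one direction of the transport -/
theorem psc_of_psc (T : (ι → K) ≃ₗ[K] (ι' → K)) (Q : (ι → K) → K) (Q' : (ι' → K) → K)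
    (hQ : ∀ v, Q' (T v) = Q v) (g : Matrix ι ι K) (g' : Matrix ι' ι' K)
    (hg : ∀ v, T (g *ᵥ v) = g' *ᵥ T v) (h : Cfsg.PreservesSingularClasses Q' g') :
    Cfsg.PreservesSingularClasses Q g := by
  intro U hU
  have h1 := h _ (isMaxTS_map T Q Q' hQ U hU)
  rw [← image_map T g g' hg, sameParity_map] at h1
  exact h1

theorem psc_iff_psc (T : (ι → K) ≃ₗ[K] (ι' → K)) (Q : (ι → K) → K) (Q' : (ι' → K) → K)
    (hQ : ∀ v, Q' (T v) = Q v) (g : Matrix ι ι K) (g' : Matrix ι' ι' K)
    (hg : ∀ v, T (g *ᵥ v) = g' *ᵥ T v) :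
    Cfsg.PreservesSingularClasses Q g ↔ Cfsg.PreservesSingularClasses Q' g' := by
  constructor
  · intro h
    apply psc_of_psc T.symm Q' Q _ g' g _ h
    · intro w
      rw [← hQ, LinearEquiv.apply_symm_apply]
    · intro w
      apply T.injective
      rw [hg, LinearEquiv.apply_symm_apply, LinearEquiv.apply_symm_apply]
  · exact psc_of_psc T Q Q' hQ g g' hg

end Cfsg.Agent.Helper28.IDM
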