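import Mathlib
import Cfsg.Agent.Helper28.MinusInndiag1
import Cfsg.Agent.Helper28.InndiagPlus4

set_option autoImplicit false
set_option linter.unusedSectionVars false

/-! The minus form over a field containing the roots of its binary part is hyperbolic. -/

namespace Cfsg.Agent.Helper28.IDM

open Module Submodule Matrix Cfsg.Agent.Helper28.QPlus Cfsg.Agent.Helper28.Spin
  Cfsg.Agent.Helper28.PG

variable {K : Type*} [Field K] {m : ℕ}

abbrev Wm (m : ℕ) (K : Type*) := (Fin m ⊕ Fin m) ⊕ Fin 2 → K

/-- the change of coordinates splitting the binary part -/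
def splitL (m : ℕ) (α β : K) : Wm m K →ₗ[K] Vm (m + 1) K where
  toFun v := Sum.elim
    (Fin.lastCases (v (Sum.inr 0) - α * v (Sum.inr 1)) (fun j => v (Sum.inl (Sum.inl j))))
    (Fin.lastCases (v (Sum.inr 0) - β * v (Sum.inr 1)) (fun j => v (Sum.inl (Sum.inr j))))
  map_add' v w := by
    funext i
    rcases i with i | i
    · refine Fin.lastCases ?_ (fun j => ?_) i
      · simp only [Sum.elim_inl, Fin.lastCases_last, Pi.add_apply]; ring
      · simp only [Sum.elim_inl, Fin.lastCases_castSucc, Pi.add_apply]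
    · refine Fin.lastCases ?_ (fun j => ?_) i
      · simp only [Sum.elim_inr, Fin.lastCases_last, Pi.add_apply]; ring
      · simp only [Sum.elim_inr, Fin.lastCases_castSucc, Pi.add_apply]
  map_smul' c v := by
    funext i
    rcases i with i | i
    · refine Fin.lastCases ?_ (fun j => ?_) i
      · simp only [Sum.elim_inl, Fin.lastCases_last, Pi.smul_apply, smul_eq_mul,
          RingHom.id_apply]; ring
      · simp only [Sum.elim_inl, Fin.lastCases_castSucc, Pi.smul_apply, smul_eq_mul,
          RingHom.id_apply]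
    · refine Fin.lastCases ?_ (fun j => ?_) i
      · simp only [Sum.elim_inr, Fin.lastCases_last, Pi.smul_apply, smul_eq_mul,
          RingHom.id_apply]; ring
      · simp only [Sum.elim_inr, Fin.lastCases_castSucc, Pi.smul_apply, smul_eq_mul,
          RingHom.id_apply]

theorem splitL_inl_last (α β : K) (v : Wm m K) :
    splitL m α β v (Sum.inl (Fin.last m)) = v (Sum.inr 0) - α * v (Sum.inr 1) := by
  simp [splitL]

theorem splitL_inr_last (α β : K) (v : Wm m K) :
    splitL m α β v (Sum.inr (Fin.last m)) = v (Sum.inr 0) - β * v (Sum.inr 1) := by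
  simp [splitL]

theorem splitL_inl_cast (α β : K) (v : Wm m K) (j : Fin m) :
    splitL m α β v (Sum.inl j.castSucc) = v (Sum.inl (Sum.inl j)) := by
  simp [splitL]

theorem splitL_inr_cast (α β : K) (v : Wm m K) (j : Fin m) :
    splitL m α β v (Sum.inr j.castSucc) = v (Sum.inl (Sum.inr j)) := by
  simp [splitL]

theorem splitL_Q (a b α β : K) (h1 : α + β = -a) (h2 : α * β = b) (v : Wm m K) :
    Cfsg.quadFormPlus (m + 1) K (splitL m α β v) = Cfsg.quadFormMinus m K a b v := by
  unfold Cfsg.quadFormPlus Cfsg.quadFormMinus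
  rw [Fin.sum_univ_castSucc, splitL_inl_last, splitL_inr_last]
  simp only [splitL_inl_cast, splitL_inr_cast]
  linear_combination (-(v (Sum.inr 0) * v (Sum.inr 1))) * h1 + (v (Sum.inr 1)) ^ 2 * h2

theorem splitL_injective (α β : K) (hne : α ≠ β) : Function.Injective (splitL m α β) := by
  rw [← LinearMap.ker_eq_bot, LinearMap.ker_eq_bot']
  intro v hv
  have h1 := congrFun hv (Sum.inl (Fin.last m))
  have h2 := congrFun hv (Sum.inr (Fin.last m))
  rw [splitL_inl_last] at h1
  rw [splitL_inr_last] at h2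
  simp only [Pi.zero_apply] at h1 h2
  have h3 : (α - β) * v (Sum.inr 1) = 0 := by linear_combination h2 - h1
  have h4 : v (Sum.inr 1) = 0 := by
    rcases mul_eq_zero.1 h3 with h | h
    · exact absurd (sub_eq_zero.1 h) hne
    · exact h
  have h5 : v (Sum.inr 0) = 0 := by
    rw [h4] at h1
    linear_combination h1
  funext i
  rcases i with (j | j) | j
  · have := congrFun hv (Sum.inl j.castSucc)
    rw [splitL_inl_cast] at this
    exact this
  · have := congrFun hv (Sum.inr j.castSucc)
    rw [splitL_inr_cast] at this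
    exact this
  · fin_cases j
    · exact h5
    · exact h4

/-- the change of coordinates as an equivalence -/
noncomputable def splitE (m : ℕ) (α β : K) (hne : α ≠ β) : Wm m K ≃ₗ[K] Vm (m + 1) K :=
  LinearMap.linearEquivOfInjective (splitL m α β) (splitL_injective α β hne) (by
    rw [Module.finrank_pi, Module.finrank_pi]
    simp only [Fintype.card_sum, Fintype.card_fin]
    omega)

theorem splitE_apply (α β : K) (hne : α ≠ β) (v : Wm m K) :
    splitE m α β hne v = splitL m α β v :=
  LinearMap.linearEquivOfInjective_apply _ _ v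

section fin

variable [Fintype K] [DecidableEq K]

/-- over a field containing the roots, a similarity of the minus form preserves the classes
iff its determinant is the right power of the multiplier -/
theorem psc_minus_iff (hK2 : (2 : K) ≠ 0) (a b α β : K) (h1 : α + β = -a) (h2 : α * β = b)
    (hne : α ≠ β) (g : Matrix ((Fin m ⊕ Fin m) ⊕ Fin 2) ((Fin m ⊕ Fin m) ⊕ Fin 2) K) (c : Kˣ)
    (hg : ∀ v, Cfsg.quadFormMinus m K a b (g *ᵥ v) = (c : K) * Cfsg.quadFormMinus m K a b v) :
    Cfsg.PreservesSingularClasses (Cfsg.quadFormMinus m K a b) g ↔ g.det = (c : K) ^ (m + 1) := by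
  set T := splitE m α β hne with hT
  set g' : Matrix (Fin (m + 1) ⊕ Fin (m + 1)) (Fin (m + 1) ⊕ Fin (m + 1)) K :=
    LinearMap.toMatrix' ((T : Wm m K →ₗ[K] Vm (m + 1) K) ∘ₗ Matrix.toLin' g ∘ₗ
      (T.symm : Vm (m + 1) K →ₗ[K] Wm m K)) with hg'
  have hTQ : ∀ v, Cfsg.quadFormPlus (m + 1) K (T v) = Cfsg.quadFormMinus m K a b v := by
    intro v
    rw [hT, splitE_apply]
    exact splitL_Q a b α β h1 h2 v
  have hgT : ∀ v, T (g *ᵥ v) = g' *ᵥ T v := by
    intro v
    rw [hg', LinearMap.toMatrix'_mulVec]
    simp only [LinearMap.comp_apply, LinearEquiv.coe_coe, LinearEquiv.symm_apply_apply,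
      Matrix.toLin'_apply]
  rw [psc_iff_psc T _ _ hTQ g g' hgT]
  have hsim : ∀ w, QfPlus (m + 1) K (g' *ᵥ w) = (c : K) * QfPlus (m + 1) K w := by
    intro w
    obtain ⟨v, rfl⟩ := T.surjective w
    rw [← hgT, QfPlus_coe, hTQ, hTQ, hg]
  obtain ⟨G, hG⟩ := exists_GO_of_sim (QfPlus (m + 1) K) (QfPlus_nondeg (m + 1)) g' c hsim
  have hex := Cfsg.Agent.Helper28.IDP.hex_plus (F := K) (m := m + 1) (by omega)
  have hmu : mu (QfPlus (m + 1) K) G = c := by
    apply mu_of_sim (QfPlus (m + 1) K) hex
    intro w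
    rw [hG]
    exact hsim w
  have hdet : g'.det = g.det := by
    rw [hg', LinearMap.det_toMatrix', LinearMap.det_conj, LinearMap.det_toLin']
  have key := Cfsg.Agent.Helper28.IDP.psc_iff_sgn hK2 (by omega) G
  rw [hG] at key
  rw [key]
  unfold PG.sgn
  rw [hG, hmu, hdet]
  have hc0 : ((c : K)) ^ (m + 1) ≠ 0 := pow_ne_zero _ (Units.ne_zero _)
  rw [inv_pow]
  constructor
  · intro h
    field_simp at h
    exact h
  · intro h
    rw [h]
    exact mul_inv_cancel₀ hc0

end fin

end Cfsg.Agent.Helper28.IDM
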