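import Mathlib
import Cfsg.Agent.Helper28.MinusInndiag2
import Cfsg.Agent.S2621

set_option autoImplicit false
set_option linter.unusedSectionVars false

/-! Extension of scalars for similarities of the minus form; roots in quadratic extensions. -/

namespace Cfsg.Agent.Helper28.IDM

open Module Submodule Matrix Cfsg.Agent.Helper28.QPlus Cfsg.Agent.Helper28.Spin
  Cfsg.Agent.Helper28.PG

section ext

variable {K : Type*} [Field K] {ι : Type} [Fintype ι] [DecidableEq ι]

/-- two quadratic forms agreeing on `e_i` and `e_i + e_j` are equal (char ≠ 2) -/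
theorem quad_ext (hK2 : (2 : K) ≠ 0) (Q₁ Q₂ : QuadraticForm K (ι → K))
    (h1 : ∀ i, Q₁ (Pi.single i 1) = Q₂ (Pi.single i 1))
    (h2 : ∀ i j, Q₁ (Pi.single i 1 + Pi.single j 1) = Q₂ (Pi.single i 1 + Pi.single j 1))
    (v : ι → K) : Q₁ v = Q₂ v := by
  have hB : QuadraticMap.polarBilin Q₁ = QuadraticMap.polarBilin Q₂ := by
    apply LinearMap.BilinForm.ext_basis (Pi.basisFun K ι)
    intro i j
    rw [Pi.basisFun_apply, Pi.basisFun_apply, QuadraticMap.polarBilin_apply_apply,
      QuadraticMap.polarBilin_apply_apply]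
    unfold QuadraticMap.polar
    rw [h2, h1, h1]
  have h3 : QuadraticMap.polar (⇑Q₁) v v = QuadraticMap.polar (⇑Q₂) v v := by
    rw [← QuadraticMap.polarBilin_apply_apply, ← QuadraticMap.polarBilin_apply_apply, hB]
  rw [QuadraticMap.polar_self, QuadraticMap.polar_self] at h3
  simp only [nsmul_eq_mul, Nat.cast_ofNat] at h3
  exact mul_left_cancel₀ hK2 h3

end ext

section scalars

variable {F : Type*} [Field F] {K : Type*} [Field K] {m : ℕ}

theorem quadFormMinus_map (φ : F →+* K) (a b : F) (v : Wm m F) :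
    Cfsg.quadFormMinus m K (φ a) (φ b) (φ ∘ v) = φ (Cfsg.quadFormMinus m F a b v) := by
  unfold Cfsg.quadFormMinus
  simp only [map_add, map_sum, map_mul, map_pow, Function.comp_apply]

theorem map_single (φ : F →+* K) (i : (Fin m ⊕ Fin m) ⊕ Fin 2) :
    φ ∘ (Pi.single i 1 : Wm m F) = (Pi.single i 1 : Wm m K) := by
  funext j
  by_cases h : j = i
  · subst h; simp
  · simp [Pi.single_apply, h]

theorem map_mulVec' (φ : F →+* K)
    (g : Matrix ((Fin m ⊕ Fin m) ⊕ Fin 2) ((Fin m ⊕ Fin m) ⊕ Fin 2) F) (v : Wm m F) :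
    (g.map φ) *ᵥ (φ ∘ v) = φ ∘ (g *ᵥ v) := by
  funext i
  exact (RingHom.map_mulVec φ g v i).symm

/-- a similarity stays a similarity after extension of scalars -/
theorem sim_map (hK2 : (2 : K) ≠ 0) (φ : F →+* K) (a b : F)
    (g : Matrix ((Fin m ⊕ Fin m) ⊕ Fin 2) ((Fin m ⊕ Fin m) ⊕ Fin 2) F) (μ : F)
    (hg : ∀ v, Cfsg.quadFormMinus m F a b (g *ᵥ v) = μ * Cfsg.quadFormMinus m F a b v)
    (w : Wm m K) :
    Cfsg.quadFormMinus m K (φ a) (φ b) ((g.map φ) *ᵥ w) =
      φ μ * Cfsg.quadFormMinus m K (φ a) (φ b) w := by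
  have key : ∀ v : Wm m F, Cfsg.quadFormMinus m K (φ a) (φ b) ((g.map φ) *ᵥ (φ ∘ v)) =
      φ μ * Cfsg.quadFormMinus m K (φ a) (φ b) (φ ∘ v) := by
    intro v
    rw [map_mulVec', quadFormMinus_map, quadFormMinus_map, hg, map_mul]
  have := quad_ext hK2 ((QfMinus m K (φ a) (φ b)).comp (Matrix.toLin' (g.map φ)))
    ((φ μ) • QfMinus m K (φ a) (φ b)) ?_ ?_ w
  · simpa [QfMinus_coe] using this
  · intro i
    have := key (Pi.single i 1)
    rw [map_single] at this
    simpa [QfMinus_coe] using this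
  · intro i j
    have := key (Pi.single i 1 + Pi.single j 1)
    have e : φ ∘ ((Pi.single i 1 : Wm m F) + Pi.single j 1) =
        (Pi.single i 1 : Wm m K) + Pi.single j 1 := by
      rw [← map_single φ i, ← map_single φ j]
      funext k
      simp only [Function.comp_apply, Pi.add_apply, map_add]
    rw [e] at this
    simpa [QfMinus_coe] using this

end scalars

section roots

variable {F : Type*} [Field F] [Fintype F] {K : Type*} [Field K] [Algebra F K] [Fintype K]

theorem two_ne_zero_ext (h2 : (2 : F) ≠ 0) : (2 : K) ≠ 0 := by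
  intro h
  apply h2
  apply (algebraMap F K).injective
  rw [map_ofNat, map_zero]
  exact h

/-- in a quadratic extension of a finite field every element of the base is a square -/
theorem isSquare_algebraMap (hodd : Odd (Fintype.card F)) (h2 : (2 : F) ≠ 0)
    (hfr : Module.finrank F K = 2) (d : F) :
    IsSquare (algebraMap F K d) := by
  by_cases hd : d = 0
  · rw [hd, map_zero]
    exact ⟨0, by simp⟩
  have hx : algebraMap F K d ≠ 0 := by
    intro h
    apply hd
    apply (algebraMap F K).injective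
    rw [h, map_zero]
  have hK2 : (2 : K) ≠ 0 := two_ne_zero_ext h2
  have hchar : ringChar K ≠ 2 := by
    intro h
    apply hK2
    have := ringChar.Nat.cast_ringChar (R := K)
    rw [h] at this
    exact_mod_cast this
  rw [FiniteField.isSquare_iff hchar hx]
  have hcard : Fintype.card K = Fintype.card F ^ 2 := by
    rw [Module.card_eq_pow_finrank (K := F) (V := K), hfr]
  have h1 : d ^ (Fintype.card F - 1) = 1 := FiniteField.pow_card_sub_one_eq_one d hd
  have h3 : Fintype.card K / 2 = (Fintype.card F - 1) * ((Fintype.card F + 1) / 2) := by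
    rw [hcard]
    obtain ⟨k, hk⟩ := hodd
    rw [hk]
    have e1 : (2 * k + 1) ^ 2 = 2 * (2 * (k * k) + 2 * k) + 1 := by ring
    have e2 : (2 * k + 1 - 1) * ((2 * k + 1 + 1) / 2) = 2 * (k * k) + 2 * k := by
      have : (2 * k + 1 + 1) / 2 = k + 1 := by omega
      rw [this]
      have : 2 * k + 1 - 1 = 2 * k := by omega
      rw [this]
      ring
    rw [e1, e2]
    omega
  rw [h3, pow_mul, ← map_pow, h1, map_one, one_pow]

theorem exists_roots (hodd : Odd (Fintype.card F)) (h2 : (2 : F) ≠ 0)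
    (hfr : Module.finrank F K = 2) (a b : F)
    (hab : ∀ z₁ z₂ : F, z₁ ^ 2 + a * z₁ * z₂ + b * z₂ ^ 2 = 0 → z₁ = 0 ∧ z₂ = 0) :
    ∃ α β : K, α + β = -(algebraMap F K a) ∧ α * β = algebraMap F K b ∧ α ≠ β := by
  have hK2 : (2 : K) ≠ 0 := two_ne_zero_ext h2
  have hns := Cfsg.Agent.S2621.not_isSquare_disc h2 a b hab
  have hd0 : a ^ 2 - 4 * b ≠ 0 := by
    intro h
    apply hns
    rw [h]
    exact ⟨0, by simp⟩
  obtain ⟨δ, hδ⟩ := isSquare_algebraMap (K := K) hodd h2 hfr (a ^ 2 - 4 * b)
  have hδ0 : δ ≠ 0 := by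
    rintro rfl
    apply hd0
    apply (algebraMap F K).injective
    rw [hδ, map_zero, mul_zero]
  have hδ' : δ * δ = (algebraMap F K a) ^ 2 - 4 * algebraMap F K b := by
    rw [← hδ, map_sub, map_pow, map_mul, map_ofNat]
  refine ⟨(-(algebraMap F K a) + δ) / 2, (-(algebraMap F K a) - δ) / 2, ?_, ?_, ?_⟩
  · field_simp
    ring
  · field_simp
    linear_combination (-1 : K) * hδ'
  · intro h
    apply hδ0
    have e : δ = (-(algebraMap F K a) + δ) / 2 - (-(algebraMap F K a) - δ) / 2 := by
      field_simp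
      ring
    rw [h, sub_self] at e
    exact e

end roots

end Cfsg.Agent.Helper28.IDM
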