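import Mathlib
import Cfsg.Prelude.Def_LieTypeDatum
import Cfsg.Agent.Helper28.FieldO6
import Cfsg.Agent.Helper28.MinusInndiag3

set_option autoImplicit false
set_option linter.unusedSectionVars false

/-! Conjugation of matrices by a linear equivalence between coordinate spaces, and base change of
isometries of the minus-type form along a ring homomorphism. -/

namespace Cfsg.Agent.Helper28.FM

open Matrix Module Cfsg.Agent.Helper28.IsoTransport Cfsg.Agent.Helper28.Spin
  Cfsg.Agent.Helper28.IDM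

section conj

variable {K : Type*} [Field K] {ι ι' : Type} [Fintype ι] [DecidableEq ι] [Fintype ι']
  [DecidableEq ι'] (T : (ι → K) ≃ₗ[K] (ι' → K))

/-- conjugation of a matrix by a linear equivalence -/
noncomputable def cj (M : Matrix ι ι K) : Matrix ι' ι' K :=
  LinearMap.toMatrix' ((T : (ι → K) →ₗ[K] (ι' → K)) ∘ₗ Matrix.toLin' M ∘ₗ
    (T.symm : (ι' → K) →ₗ[K] (ι → K)))

theorem cj_mulVec (M : Matrix ι ι K) (v : ι → K) : cj T M *ᵥ T v = T (M *ᵥ v) := by
  rw [cj, LinearMap.toMatrix'_mulVec]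
  simp only [LinearMap.comp_apply, LinearEquiv.coe_coe, LinearEquiv.symm_apply_apply,
    Matrix.toLin'_apply]

theorem cj_mul (M N : Matrix ι ι K) : cj T (M * N) = cj T M * cj T N := by
  rw [cj, cj, cj, ← LinearMap.toMatrix'_comp]
  congr 1
  apply LinearMap.ext
  intro w
  simp only [LinearMap.comp_apply, LinearEquiv.coe_coe, LinearEquiv.symm_apply_apply,
    Matrix.toLin'_apply, Matrix.mulVec_mulVec]

theorem cj_one : cj T (1 : Matrix ι ι K) = 1 := by
  rw [cj, Matrix.toLin'_one]
  have : (T : (ι → K) →ₗ[K] (ι' → K)) ∘ₗ LinearMap.id ∘ₗ (T.symm : (ι' → K) →ₗ[K] (ι → K)) =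
      LinearMap.id := by
    apply LinearMap.ext
    intro w
    simp
  rw [this, LinearMap.toMatrix'_id]

/-- conjugation by a linear equivalence on the general linear groups -/
noncomputable def conjGL : GL ι K →* GL ι' K where
  toFun g := ⟨cj T (g : Matrix ι ι K), cj T ((g⁻¹ : GL ι K) : Matrix ι ι K), by
      rw [← cj_mul, ← Units.val_mul, mul_inv_cancel, Units.val_one, cj_one], by
      rw [← cj_mul, ← Units.val_mul, inv_mul_cancel, Units.val_one, cj_one]⟩
  map_one' := by
    apply Units.ext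
    show cj T ((1 : GL ι K) : Matrix ι ι K) = 1
    rw [Units.val_one, cj_one]
  map_mul' g h := by
    apply Units.ext
    show cj T ((g * h : GL ι K) : Matrix ι ι K) = cj T g * cj T h
    rw [Units.val_mul, cj_mul]

theorem conjGL_val (g : GL ι K) : ((conjGL T g : GL ι' K) : Matrix ι' ι' K) = cj T g := rfl

variable {T} {Q : (ι → K) → K} {Q' : (ι' → K) → K}

theorem conjGL_mem (hTQ : ∀ v, Q' (T v) = Q v) {g : GL ι K}
    (hg : g ∈ Cfsg.isometryGroup K Q) : conjGL T g ∈ Cfsg.isometryGroup K Q' := by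
  rw [mem_isometryGroup_iff] at hg ⊢
  intro w
  obtain ⟨v, rfl⟩ := T.surjective w
  rw [conjGL_val, cj_mulVec, hTQ, hg, hTQ]

/-- the induced homomorphism of isometry groups -/
noncomputable def conjO (hTQ : ∀ v, Q' (T v) = Q v) :
    ↥(Cfsg.isometryGroup K Q) →* ↥(Cfsg.isometryGroup K Q') :=
  ((conjGL T).comp (Subgroup.subtype _)).codRestrict _ (fun g => conjGL_mem hTQ g.2)

theorem conjO_val (hTQ : ∀ v, Q' (T v) = Q v) (g : ↥(Cfsg.isometryGroup K Q)) :
    (((conjO hTQ g : ↥(Cfsg.isometryGroup K Q')) : GL ι' K) : Matrix ι' ι' K) =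
      cj T ((g : GL ι K) : Matrix ι ι K) := rfl

end conj

section basechange

variable {F : Type*} [Field F] {K : Type*} [Field K] {ι : Type} [Fintype ι] [DecidableEq ι]
  (φ : F →+* K)

/-- base change of vectors -/
def mv (w : ι → F) : ι → K := fun i => φ (w i)

theorem mv_add (x y : ι → F) : mv φ (x + y) = mv φ x + mv φ y := by
  funext i
  exact map_add φ _ _

theorem mv_single (i : ι) : mv φ (Pi.single i (1 : F)) = Pi.single i (1 : K) := by
  funext k
  by_cases h : k = i
  · subst h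
    simp [mv]
  · simp [mv, h]

theorem mv_mulVec (M : Matrix ι ι F) (w : ι → F) : mv φ (M *ᵥ w) = M.map φ *ᵥ mv φ w := by
  funext i
  exact RingHom.map_mulVec φ M w i

/-- two quadratic forms agreeing on the rational vectors are equal -/
theorem quad_ext_hom (Q₁ Q₂ : QuadraticForm K (ι → K))
    (h : ∀ w : ι → F, Q₁ (mv φ w) = Q₂ (mv φ w)) : Q₁ = Q₂ := by
  apply Cfsg.Agent.Helper28.FO.quad_ext_basis (Pi.basisFun K ι)
  · intro i
    rw [Pi.basisFun_apply, ← mv_single φ]
    exact h _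
  · intro i j
    rw [Pi.basisFun_apply, Pi.basisFun_apply]
    unfold QuadraticMap.polar
    rw [← mv_single φ, ← mv_single φ, ← mv_add, h, h, h]

variable {φ} {Q : QuadraticForm F (ι → F)} {QK : QuadraticForm K (ι → K)}

/-- the forms are compatible with the ring homomorphism -/
def CompatHom (φ : F →+* K) (Q : QuadraticForm F (ι → F)) (QK : QuadraticForm K (ι → K)) : Prop :=
  ∀ w : ι → F, QK (mv φ w) = φ (Q w)

theorem compatHom_polar (hc : CompatHom φ Q QK) (x y : ι → F) :
    QuadraticMap.polar ⇑QK (mv φ x) (mv φ y) = φ (QuadraticMap.polar ⇑Q x y) := by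
  unfold QuadraticMap.polar
  rw [← mv_add, hc, hc, hc, map_sub, map_sub]

theorem refl_map_hom (hc : CompatHom φ Q QK) (w : ι → F) :
    (Cfsg.reflectionMatrix ⇑Q w).map φ = Cfsg.reflectionMatrix ⇑QK (mv φ w) := by
  ext i l
  unfold Cfsg.reflectionMatrix Cfsg.polarVec
  simp only [Matrix.map_apply, Matrix.sub_apply, Matrix.smul_apply, Matrix.vecMulVec_apply,
    smul_eq_mul]
  rw [map_sub, map_mul, map_mul, map_inv₀, ← hc, ← compatHom_polar hc, mv_single]
  congr 1
  by_cases h : i = l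
  · subst h
    simp
  · simp [h]

/-- base change of invertible matrices -/
def bcGL (φ : F →+* K) : GL ι F →* GL ι K := Matrix.GeneralLinearGroup.map φ

theorem bcGL_val (g : GL ι F) : ((bcGL φ g : GL ι K) : Matrix ι ι K) = (g : Matrix ι ι F).map φ :=
  rfl

theorem bcGL_mem (hc : CompatHom φ Q QK) {g : GL ι F} (hg : g ∈ Cfsg.isometryGroup F ⇑Q) :
    bcGL φ g ∈ Cfsg.isometryGroup K ⇑QK := by
  rw [mem_isometryGroup_iff] at hg ⊢
  have h1 : QK.comp (Matrix.toLin' ((bcGL φ g : GL ι K) : Matrix ι ι K)) = QK := by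
    apply quad_ext_hom φ
    intro w
    rw [QuadraticMap.comp_apply, Matrix.toLin'_apply, bcGL_val, ← mv_mulVec, hc, hg, hc]
  intro v
  have h2 := congrArg (fun P : QuadraticForm K (ι → K) => P v) h1
  simp only [QuadraticMap.comp_apply, Matrix.toLin'_apply] at h2
  exact h2

/-- base change of isometries -/
noncomputable def bcO (hc : CompatHom φ Q QK) :
    ↥(Cfsg.isometryGroup F ⇑Q) →* ↥(Cfsg.isometryGroup K ⇑QK) :=
  ((bcGL φ).comp (Subgroup.subtype _)).codRestrict _ (fun g => bcGL_mem hc g.2)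

theorem bcO_val (hc : CompatHom φ Q QK) (g : ↥(Cfsg.isometryGroup F ⇑Q)) :
    (((bcO hc g : ↥(Cfsg.isometryGroup K ⇑QK)) : GL ι K) : Matrix ι ι K) =
      ((g : GL ι F) : Matrix ι ι F).map φ := rfl

theorem bcO_reflO (hc : CompatHom φ Q QK) (v : ι → F) (hv : Q v ≠ 0) (hv' : QK (mv φ v) ≠ 0) :
    bcO hc (reflO Q v hv) = reflO QK (mv φ v) hv' := by
  apply Subtype.ext
  apply Units.ext
  rw [bcO_val, reflO_val, reflO_val, refl_map_hom hc]

end basechange

end Cfsg.Agent.Helper28.FM
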