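import Mathlib
import Cfsg.Agent.Helper28.MinusInndiag3

set_option autoImplicit false
set_option linter.unusedSectionVars false

/-! `PreservesSingularClassesMinus` for a similarity of the minus form is `det g = μ^(m+1)`. -/

namespace Cfsg.Agent.Helper28.IDM

open Module Submodule Matrix Cfsg.Agent.Helper28.QPlus Cfsg.Agent.Helper28.Spin
  Cfsg.Agent.Helper28.PG

variable {F : Type*} [Field F] [Fintype F] [DecidableEq F] {m : ℕ}

theorem hex_minus (a b : F) : ∃ v : (Fin m ⊕ Fin m) ⊕ Fin 2 → F, QfMinus m F a b v ≠ 0 := by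
  refine ⟨Pi.single (Sum.inr 0) 1, ?_⟩
  rw [QfMinus_coe]
  unfold Cfsg.quadFormMinus
  simp

theorem psc_ext_iff (hodd : Odd (Fintype.card F)) (h2 : (2 : F) ≠ 0) (a b : F)
    (hab : ∀ z₁ z₂ : F, z₁ ^ 2 + a * z₁ * z₂ + b * z₂ ^ 2 = 0 → z₁ = 0 ∧ z₂ = 0)
    (K : Type*) [Field K] [Algebra F K] [Fintype K] [DecidableEq K]
    (hfr : Module.finrank F K = 2) (g : ↥(GO (QfMinus m F a b))) :
    Cfsg.PreservesSingularClasses
        (Cfsg.quadFormMinus m K (algebraMap F K a) (algebraMap F K b))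
        ((((g : GL ((Fin m ⊕ Fin m) ⊕ Fin 2) F)) :
          Matrix ((Fin m ⊕ Fin m) ⊕ Fin 2) ((Fin m ⊕ Fin m) ⊕ Fin 2) F).map (algebraMap F K)) ↔
      PG.sgn (QfMinus m F a b) (m + 1) g = 1 := by
  have hK2 : (2 : K) ≠ 0 := two_ne_zero_ext h2
  obtain ⟨α, β, h1, h3, hne⟩ := exists_roots (K := K) hodd h2 hfr a b hab
  have hμ0 : (mu (QfMinus m F a b) g : F) ≠ 0 := Units.ne_zero _
  rw [psc_minus_iff hK2 (algebraMap F K a) (algebraMap F K b) α β h1 h3 hne _
    (Units.map (algebraMap F K).toMonoidHom (mu (QfMinus m F a b) g))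
    (fun w => by
      rw [Units.coe_map]
      exact sim_map hK2 (algebraMap F K) a b _ (mu (QfMinus m F a b) g : F)
        (fun v => mu_spec (QfMinus m F a b) g v) w)]
  rw [Units.coe_map, ← RingHom.mapMatrix_apply, ← RingHom.map_det]
  show algebraMap F K _ = (algebraMap F K _) ^ (m + 1) ↔ _
  rw [← map_pow, (algebraMap F K).injective.eq_iff]
  unfold PG.sgn
  have hc0 : ((mu (QfMinus m F a b) g : F)) ^ (m + 1) ≠ 0 := pow_ne_zero _ hμ0
  rw [inv_pow]
  constructor
  · intro h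
    rw [h]
    exact mul_inv_cancel₀ hc0
  · intro h
    field_simp at h
    exact h

theorem pscMinus_iff (hodd : Odd (Fintype.card F)) (h2 : (2 : F) ≠ 0) (a b : F)
    (hab : ∀ z₁ z₂ : F, z₁ ^ 2 + a * z₁ * z₂ + b * z₂ ^ 2 = 0 → z₁ = 0 ∧ z₂ = 0)
    (g : ↥(GO (QfMinus m F a b))) :
    Cfsg.PreservesSingularClassesMinus m a b
        (((g : GL ((Fin m ⊕ Fin m) ⊕ Fin 2) F)) :
          Matrix ((Fin m ⊕ Fin m) ⊕ Fin 2) ((Fin m ⊕ Fin m) ⊕ Fin 2) F) ↔
      PG.sgn (QfMinus m F a b) (m + 1) g = 1 := by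
  constructor
  · rintro ⟨K, hKf, hKa, hfr, hpsc⟩
    haveI : Module.Finite F K := Module.finite_of_finrank_pos (by rw [hfr]; norm_num)
    haveI : Finite K := Module.finite_of_finite F
    letI : Fintype K := Fintype.ofFinite K
    classical
    exact (psc_ext_iff hodd h2 a b hab K hfr g).1 hpsc
  · intro hsgn
    haveI : Fact (∀ r : F, r ^ 2 ≠ -b + -a * r) := ⟨by
      intro r hr
      have := hab r 1 (by linear_combination hr)
      exact one_ne_zero this.2⟩
    haveI : Finite (QuadraticAlgebra F (-b) (-a)) := Module.finite_of_finite F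
    letI : Fintype (QuadraticAlgebra F (-b) (-a)) := Fintype.ofFinite _
    classical
    exact ⟨QuadraticAlgebra F (-b) (-a), inferInstance, inferInstance,
      QuadraticAlgebra.finrank_eq_two _ _,
      (psc_ext_iff hodd h2 a b hab (QuadraticAlgebra F (-b) (-a))
        (QuadraticAlgebra.finrank_eq_two _ _) g).2 hsgn⟩

end Cfsg.Agent.Helper28.IDM
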