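import Mathlib
import Cfsg.Prelude.Def_LieTypeDatum
import Cfsg.Agent.Helper28.FieldM7
import Cfsg.Agent.Helper28.MinusInndiag4
import Cfsg.Agent.Helper28.GammaCount5

set_option autoImplicit false
set_option linter.unusedSectionVars false

/-! The class character of the isometry group of the minus-type form: roots of the binary part in
quadratic extensions (any characteristic), and the value on reflections. -/

namespace Cfsg.Agent.Helper28.FM

open Matrix Module Cfsg.Agent.Helper28.IsoTransport Cfsg.Agent.Helper28.Spin
  Cfsg.Agent.Helper28.IDM Cfsg.Agent.Helper28.QPlus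

section roots

variable {F : Type*} [Field F] [Fintype F] {K : Type*} [Field K] [Algebra F K] [Finite K]

/-- the binary part of the minus form splits with distinct roots in every quadratic extension -/
theorem exists_roots' (hfr : Module.finrank F K = 2) (a b : F)
    (hab : ∀ z₁ z₂ : F, z₁ ^ 2 + a * z₁ * z₂ + b * z₂ ^ 2 = 0 → z₁ = 0 ∧ z₂ = 0) :
    ∃ α β : K, α + β = -(algebraMap F K a) ∧ α * β = algebraMap F K b ∧ α ≠ β := by
  have : Fact (∀ r : F, r ^ 2 ≠ -b + -a * r) := ⟨by
    intro r hr
    have := hab r 1 (by linear_combination hr)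
    exact one_ne_zero this.2⟩
  obtain ⟨f⟩ := FiniteField.nonempty_algHom_of_finrank_dvd (F := F)
    (K := QuadraticAlgebra F (-b) (-a)) (L := K) (by
      rw [QuadraticAlgebra.finrank_eq_two, hfr])
  set α : K := f QuadraticAlgebra.omega with hα
  have h1 : α * α = algebraMap F K (-b) + algebraMap F K (-a) * α := by
    rw [hα, ← map_mul, QuadraticAlgebra.omega_mul_omega_eq_algebraMap, map_add, map_mul,
      AlgHom.commutes, AlgHom.commutes]
  rw [map_neg, map_neg] at h1
  refine ⟨α, -(algebraMap F K a) - α, by ring, by linear_combination -h1, ?_⟩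
  intro heq
  -- `α` is a double root
  have h2 : (2 : K) * α = -(algebraMap F K a) := by linear_combination heq
  have h3 : (algebraMap F K a) ^ 2 = 4 * algebraMap F K b := by
    have : (2 * α) ^ 2 = (algebraMap F K a) ^ 2 := by rw [h2]; ring
    linear_combination this - 4 * h1 + 2 * algebraMap F K a * h2
  have h4 : a ^ 2 = 4 * b := by
    apply (algebraMap F K).injective
    rw [map_pow, map_mul, map_ofNat, h3]
  by_cases h2F : (2 : F) = 0
  · have ha := Cfsg.Agent.Helper28.GC.ne_zero_of_aniso_char_two h2F a b hab
    have h40 : (4 : F) = 0 := by linear_combination (2 : F) * h2F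
    rw [h40, zero_mul] at h4
    exact ha ((pow_eq_zero_iff (two_ne_zero)).1 h4)
  · have := hab (-a / 2) 1 (by
      field_simp
      linear_combination -h4)
    exact one_ne_zero this.2

end roots

section chi

variable {F : Type*} [Field F] {K : Type*} [Field K] {m : ℕ}

theorem compat_minus (φ : F →+* K) (a b : F) :
    CompatHom φ (QfMinus m F a b) (QfMinus m K (φ a) (φ b)) := by
  intro w
  exact quadFormMinus_map φ a b w

variable {a' b' : K} {α β : K}

/-- conjugating a reflection of the split minus form to the plus form gives a reflection -/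
theorem conjO_reflO (h1 : α + β = -a') (h2 : α * β = b') (hne : α ≠ β)
    (u : Wm m K) (hu : QfMinus m K a' b' u ≠ 0) :
    conjO (T := splitE m α β hne) (Q := ⇑(QfMinus m K a' b'))
        (Q' := Cfsg.quadFormPlus (m + 1) K)
        (fun v => by rw [splitE_apply]; exact splitL_Q a' b' α β h1 h2 v)
        (reflO (QfMinus m K a' b') u hu) =
      refl (splitE m α β hne u) (by
        rw [splitE_apply, splitL_Q a' b' α β h1 h2]
        exact hu) := by
  have hTQ : ∀ v, Cfsg.quadFormPlus (m + 1) K (splitE m α β hne v) =
      Cfsg.quadFormMinus m K a' b' v := fun v => by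
    rw [splitE_apply]; exact splitL_Q a' b' α β h1 h2 v
  apply Subtype.ext
  apply Units.ext
  rw [conjO_val, reflO_val]
  show _ = reflM (splitE m α β hne u)
  apply Matrix.mulVec_injective
  funext w
  obtain ⟨v, rfl⟩ := (splitE m α β hne).surjective w
  rw [cj_mulVec, refl_mulVec, reflM_mulVec, map_sub, map_smul, hTQ]
  have hpol : pB (m + 1) K (splitE m α β hne v) (splitE m α β hne u) =
      QuadraticMap.polar ⇑(QfMinus m K a' b') u v := by
    rw [pB_comm]
    have e1 := Q_add (splitE m α β hne u) (splitE m α β hne v)
    rw [← map_add, hTQ, hTQ, hTQ] at e1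
    unfold QuadraticMap.polar
    rw [QfMinus_coe]
    linear_combination -e1
  rw [hpol]
  rfl

end chi

end Cfsg.Agent.Helper28.FM
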