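import Mathlib
import Cfsg.Prelude.Def_LieTypeDatum
import Cfsg.Agent.Helper28.PgoAut5
import Cfsg.Agent.Helper28.POmegaCard
import Cfsg.Agent.Helper28.CD2b
import Cfsg.Agent.Helper28.Siegel6

set_option autoImplicit false
set_option linter.unusedSectionVars false

/-! The order of the image of the conformal orthogonal group in `Aut(PΩ)`:
from a quotient description, and in characteristic two. -/

namespace Cfsg.Agent.Helper28.GC

open Matrix Cfsg.Agent.Helper28.Sg Cfsg.Agent.Helper28.PG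
  Cfsg.Agent.Helper28.Spin Cfsg.Agent.Helper28.IsoTransport Cfsg.Agent.Helper28.OC

theorem card_Inn_of_center_eq_bot {G : Type*} [Group G] (h : Subgroup.center G = ⊥) :
    Nat.card ↥(Cfsg.Inn G) = Nat.card G := by
  have hinj : Function.Injective (MulAut.conj : G →* MulAut G) := by
    rw [injective_iff_map_eq_one]
    intro g hg
    have : g ∈ Subgroup.center G := by
      rw [Subgroup.mem_center_iff]
      intro x
      have := congrArg (fun φ : MulAut G => φ x) hg
      simp only [MulAut.conj_apply, MulAut.one_apply] at this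
      calc x * g = (g * x * g⁻¹) * g := by rw [this]
        _ = g * x := by group
    rw [h, Subgroup.mem_bot] at this
    exact this
  exact (Nat.card_congr (MonoidHom.ofInjective hinj).toEquiv).symm

theorem center_eq_bot_of_simple_of_perfect {G : Type*} [Group G] [IsSimpleGroup G]
    (h : commutator G = ⊤) : Subgroup.center G = ⊥ := by
  rcases (inferInstance : (Subgroup.center G).Normal).eq_bot_or_eq_top with h1 | h1
  · exact h1
  · exfalso
    have hcomm : commutator G = ⊥ := by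
      rw [commutator_def, Subgroup.commutator_eq_bot_iff_le_centralizer]
      intro x _
      rw [Subgroup.mem_centralizer_iff]
      intro y _
      have : x ∈ Subgroup.center G := by rw [h1]; exact Subgroup.mem_top x
      exact ((Subgroup.mem_center_iff.1 this) y)
    rw [h] at hcomm
    exact top_ne_bot hcomm

theorem commutator_quotient_eq_top {G : Type*} [Group G] (N : Subgroup G) [N.Normal]
    (h : commutator G = ⊤) : commutator (G ⧸ N) = ⊤ := by
  rw [commutator_def] at h ⊢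
  have h1 := Subgroup.map_commutator (⊤ : Subgroup G) ⊤ (QuotientGroup.mk' N)
  rw [h] at h1
  have h2 : Subgroup.map (QuotientGroup.mk' N) ⊤ = ⊤ := by
    rw [← MonoidHom.range_eq_map, MonoidHom.range_eq_top]
    exact QuotientGroup.mk'_surjective N
  rw [h2] at h1
  exact h1.symm

section form

variable {F : Type*} [Field F] [Fintype F] [DecidableEq F] {ι : Type} [Fintype ι] [DecidableEq ι]
  (Q : QuadraticForm F (ι → F))

theorem center_POmega_eq_bot (hQ : (QuadraticMap.polarBilin Q).Nondegenerate) (fr : Frame3 Q)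
    (hgen : ∀ (H : Subgroup ↥(Cfsg.isometryGroup F ⇑Q)),
      (∀ (v : ι → F) (hv : Q v ≠ 0), reflO Q v hv ∈ H) → ∀ g, g ∈ H) :
    Subgroup.center (Cfsg.POmega F ⇑Q) = ⊥ := by
  have := POmega_simple hQ fr hgen
  apply center_eq_bot_of_simple_of_perfect
  exact commutator_quotient_eq_top _ (Omega_perfect' hQ fr hgen)

theorem Inn_le_pgoAut : Cfsg.Inn (Cfsg.POmega F ⇑Q) ≤ Cfsg.pgoAut F ⇑Q := by
  refine (Inn_le_psoAut Q).trans ?_
  rw [PG.psoAut_eq, pgoAut_eq]
  exact Subgroup.map_le_range _ _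

/-- the order of `PGO` from a description of `PGO / Inn` -/
theorem card_pgoAut_of_hom (hQ : (QuadraticMap.polarBilin Q).Nondegenerate) (fr : Frame3 Q)
    (hgen : ∀ (H : Subgroup ↥(Cfsg.isometryGroup F ⇑Q)),
      (∀ (v : ι → F) (hv : Q v ≠ 0), reflO Q v hv ∈ H) → ∀ g, g ∈ H)
    {H : Type*} [Group H] (φ : ↥(Cfsg.pgoAut F ⇑Q) →* H) (hs : Function.Surjective φ)
    (hk : φ.ker = (Cfsg.Inn (Cfsg.POmega F ⇑Q)).subgroupOf (Cfsg.pgoAut F ⇑Q)) :
    Nat.card ↥(Cfsg.pgoAut F ⇑Q) = Nat.card H * Nat.card (Cfsg.POmega F ⇑Q) := by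
  have h1 := Subgroup.card_eq_card_quotient_mul_card_subgroup φ.ker
  have h2 : Nat.card (↥(Cfsg.pgoAut F ⇑Q) ⧸ φ.ker) = Nat.card H :=
    Nat.card_congr (QuotientGroup.quotientKerEquivOfSurjective φ hs).toEquiv
  have h3 : Nat.card ↥φ.ker = Nat.card (Cfsg.POmega F ⇑Q) := by
    rw [hk, ← card_Inn_of_center_eq_bot (center_POmega_eq_bot Q hQ fr hgen)]
    exact Nat.card_congr (Subgroup.subgroupOfEquivOfLe (Inn_le_pgoAut Q)).toEquiv
  rw [h1, h2, h3]

/-- in characteristic two every similarity is a scalar times an isometry -/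
theorem exists_O_of_char_two (h2 : (2 : F) = 0) (hex : ∃ v : ι → F, Q v ≠ 0) (g : ↥(GO Q)) :
    ∃ s : ↥(Cfsg.isometryGroup F ⇑Q), cG Q g = PA.cAut Q s := by
  obtain ⟨r, hr⟩ := FiniteField.isSquare_of_char_two
    (CharP.ringChar_of_prime_eq_zero Nat.prime_two (by exact_mod_cast h2)) (mu Q g : F)
  have hμ0 : (mu Q g : F) ≠ 0 := Units.ne_zero _
  have hr0 : r ≠ 0 := by
    rintro rfl
    rw [mul_zero] at hr
    exact hμ0 hr
  set l : Fˣ := Units.mk0 r hr0 with hl
  have hlr : (l : F) = r := rfl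
  set s : ↥(GO Q) := (scal Q l)⁻¹ * g with hs
  have hmus : mu Q s = 1 := by
    have h4 : mu Q s = (mu Q (scal Q l))⁻¹ * mu Q g := by
      have := (muHom Q hex).map_mul (scal Q l)⁻¹ g
      rw [map_inv] at this
      exact this
    rw [h4, mu_scal Q hex]
    apply Units.ext
    rw [Units.val_mul, Units.val_inv_eq_inv_val, Units.val_mul, hlr, ← hr, Units.val_one]
    exact inv_mul_cancel₀ hμ0
  have hsO : (s : GL ι F) ∈ Cfsg.isometryGroup F ⇑Q := by
    rw [mem_isometryGroup_iff]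
    intro v
    rw [mu_spec, hmus, Units.val_one, one_mul]
  refine ⟨⟨(s : GL ι F), hsO⟩, ?_⟩
  have hg : g = scal Q l * s := by rw [hs]; group
  rw [← cG_oGO]
  have : oGO Q ⟨(s : GL ι F), hsO⟩ = s := Subtype.ext rfl
  rw [this, hg, map_mul, cG_scal, one_mul]

theorem pgoAut_eq_range_cAut (h2 : (2 : F) = 0) (hex : ∃ v : ι → F, Q v ≠ 0) :
    Cfsg.pgoAut F ⇑Q = (PA.cAut Q).range := by
  rw [pgoAut_eq]
  apply le_antisymm
  · rintro β ⟨g, rfl⟩
    obtain ⟨s, hs⟩ := exists_O_of_char_two Q h2 hex g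
    exact ⟨s, hs.symm⟩
  · rintro β ⟨s, rfl⟩
    exact ⟨oGO Q s, cG_oGO Q s⟩

theorem cAut_injective_char_two (h2 : (2 : F) = 0)
    (hQ : (QuadraticMap.polarBilin Q).Nondegenerate) (fr : Frame3 Q)
    (hperf : commutator ↥(Cfsg.Omega F ⇑Q) = ⊤) :
    Function.Injective (PA.cAut Q) := by
  rw [injective_iff_map_eq_one]
  intro s hs
  rw [← cG_oGO] at hs
  obtain ⟨l, hl⟩ := ker_cG Q hQ fr hperf (oGO Q s) hs
  have hex : ∃ v : ι → F, Q v ≠ 0 := by
    refine ⟨fr.e 0 + fr.f 0, ?_⟩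
    rw [Cfsg.Agent.Helper28.Sg.Q_add, fr.Qe, fr.Qf]
    simp only [B, fr.Bef]
    simp
  obtain ⟨v, hv⟩ := hex
  have hsv := ((mem_isometryGroup_iff _ _).1 s.2) v
  have hl' : ((s : GL ι F) : Matrix ι ι F) *ᵥ v = l • v := hl v
  rw [hl', QuadraticMap.map_smul, smul_eq_mul] at hsv
  have hl1 : l = 1 := by
    have h3 : (l * l - 1) * Q v = 0 := by linear_combination hsv
    rcases mul_eq_zero.1 h3 with h4 | h4
    · have h5 : (l - 1) * (l - 1) = 0 := by linear_combination h4 - (l - 1) * h2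
      rcases mul_eq_zero.1 h5 with h6 | h6 <;> linear_combination h6
    · exact absurd h4 hv
  apply Subtype.ext
  apply Units.ext
  apply Cfsg.Agent.Helper28.Spin.matrix_ext_mulVec
  intro x
  have : ((s : GL ι F) : Matrix ι ι F) *ᵥ x = l • x := hl x
  rw [this, hl1, one_smul]
  simp

/-- the order of `PGO` in characteristic two -/
theorem card_pgoAut_char_two (h2 : (2 : F) = 0)
    (hQ : (QuadraticMap.polarBilin Q).Nondegenerate) (fr : Frame3 Q)
    (hperf : commutator ↥(Cfsg.Omega F ⇑Q) = ⊤) (h6 : 6 ≤ Fintype.card ι) :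
    Nat.card ↥(Cfsg.pgoAut F ⇑Q) = 2 * Nat.card (Cfsg.POmega F ⇑Q) := by
  have hex : ∃ v : ι → F, Q v ≠ 0 := by
    refine ⟨fr.e 0 + fr.f 0, ?_⟩
    rw [Cfsg.Agent.Helper28.Sg.Q_add, fr.Qe, fr.Qf]
    simp only [B, fr.Bef]
    simp
  rw [pgoAut_eq_range_cAut Q h2 hex]
  have h1 : Nat.card ↥(PA.cAut Q).range = Nat.card ↥(Cfsg.isometryGroup F ⇑Q) :=
    (Nat.card_congr (MonoidHom.ofInjective
      (cAut_injective_char_two Q h2 hQ fr hperf)).toEquiv).symm
  rw [h1, ← card_POmega_mul Q]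
  have hne : Nonempty ι := by
    by_contra hcon
    rw [not_nonempty_iff] at hcon
    have := Fintype.card_eq_zero (α := ι)
    omega
  rw [Cfsg.Agent.Helper28.CD2.index_Omega Q h2 hQ (Or.inr (by omega)) hne,
    card_center_Omega_eq_one Q hQ h6 (fun h => h.1 h2)]
  ring

end form

end Cfsg.Agent.Helper28.GC
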