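import Mathlib
import Cfsg.Prelude.Def_LieTypeDatum
import Cfsg.Agent.Helper28.FieldM8
import Cfsg.Agent.Helper28.CD2b
import Cfsg.Agent.Helper28.GammaCount6
import Cfsg.Agent.Helper28.InndiagPlus2
import Cfsg.Agent.S2171

set_option autoImplicit false
set_option linter.unusedSectionVars false

/-! Characteristic two: the class character of `O(Q⁻)` over a quadratic extension, its kernel is
`Ω`, and `Inndiag(PΩ⁻) = Inn(PΩ⁻)`. -/

namespace Cfsg.Agent.Helper28.FM

open Matrix Module Cfsg.Agent.Helper28.IsoTransport Cfsg.Agent.Helper28.Spin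
  Cfsg.Agent.Helper28.IDM Cfsg.Agent.Helper28.QPlus

section chiM

variable {F : Type*} [Field F] {K : Type*} [Field K] [Algebra F K] {m : ℕ} (a b : F) {α β : K}
  (h1 : α + β = -(algebraMap F K a)) (h2 : α * β = algebraMap F K b) (hne : α ≠ β)

include h1 h2 in
theorem splitE_Q (v : Wm m K) : Cfsg.quadFormPlus (m + 1) K (splitE m α β hne v) =
    ⇑(QfMinus m K (algebraMap F K a) (algebraMap F K b)) v := by
  rw [splitE_apply]
  exact splitL_Q _ _ α β h1 h2 v

/-- the class character of the isometry group of the minus form -/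
noncomputable def chiM : ↥(Cfsg.isometryGroup F ⇑(QfMinus m F a b)) →* Multiplicative (ZMod 2) :=
  (chiHom (F := K) (m := m + 1)).comp
    ((conjO (T := splitE m α β hne) (Q := ⇑(QfMinus m K (algebraMap F K a) (algebraMap F K b)))
      (Q' := Cfsg.quadFormPlus (m + 1) K) (splitE_Q a b h1 h2 hne)).comp
      (bcO (compat_minus (algebraMap F K) a b)))

theorem chiM_apply (s : ↥(Cfsg.isometryGroup F ⇑(QfMinus m F a b))) :
    chiM a b h1 h2 hne s = Multiplicative.ofAdd (chi
      (conjO (T := splitE m α β hne) (Q := ⇑(QfMinus m K (algebraMap F K a) (algebraMap F K b)))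
        (Q' := Cfsg.quadFormPlus (m + 1) K) (splitE_Q a b h1 h2 hne)
        (bcO (compat_minus (algebraMap F K) a b) s))) := rfl

theorem psc_iff_chiM (s : ↥(Cfsg.isometryGroup F ⇑(QfMinus m F a b))) :
    Cfsg.PreservesSingularClasses (Cfsg.quadFormMinus m K (algebraMap F K a) (algebraMap F K b))
      (((s : GL ((Fin m ⊕ Fin m) ⊕ Fin 2) F) :
        Matrix ((Fin m ⊕ Fin m) ⊕ Fin 2) ((Fin m ⊕ Fin m) ⊕ Fin 2) F).map (algebraMap F K)) ↔
      chiM a b h1 h2 hne s = 1 := by
  set g := conjO (T := splitE m α β hne)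
    (Q := ⇑(QfMinus m K (algebraMap F K a) (algebraMap F K b)))
    (Q' := Cfsg.quadFormPlus (m + 1) K) (splitE_Q a b h1 h2 hne)
    (bcO (compat_minus (algebraMap F K) a b) s) with hg
  have hmat : mat g = cj (splitE m α β hne)
      (((s : GL ((Fin m ⊕ Fin m) ⊕ Fin 2) F) :
        Matrix ((Fin m ⊕ Fin m) ⊕ Fin 2) ((Fin m ⊕ Fin m) ⊕ Fin 2) F).map (algebraMap F K)) := rfl
  rw [psc_iff_psc (splitE m α β hne) _ (Cfsg.quadFormPlus (m + 1) K)
    (fun v => by rw [splitE_Q a b h1 h2 hne]; rfl) _ (mat g)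
    (fun v => by rw [hmat, cj_mulVec])]
  rw [Cfsg.Agent.Helper28.IDP.psc_iff (g := mat g) (c := 1)
    (by
      intro x y hxy
      simp only [Matrix.toLin'_apply] at hxy
      exact (Matrix.mulVec_injective_iff_isUnit.2 ⟨(g : GL _ K), rfl⟩) hxy)
    (by
      intro v
      rw [one_mul]
      exact Q_mat g v)]
  rw [chiM_apply, ← hg, ← ofAdd_zero, Multiplicative.ofAdd.apply_eq_iff_eq]
  unfold chi
  rw [zmod2_even]
  rfl

theorem chiM_reflO (v : Wm m F) (hv : QfMinus m F a b v ≠ 0) :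
    chiM a b h1 h2 hne (reflO (QfMinus m F a b) v hv) ≠ 1 := by
  have hv' : QfMinus m K (algebraMap F K a) (algebraMap F K b) (mv (algebraMap F K) v) ≠ 0 := by
    rw [compat_minus (algebraMap F K) a b v]
    intro h
    apply hv
    exact (algebraMap F K).injective (by rw [h, map_zero])
  rw [chiM_apply, bcO_reflO (compat_minus (algebraMap F K) a b) v hv hv',
    conjO_reflO h1 h2 hne _ hv', chi_refl]
  decide

end chiM

section char2

universe u

variable {F : Type u} [Field F] [Fintype F] {m : ℕ} (h2F : (2 : F) = 0) (a b : F)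
  (hab : ∀ z₁ z₂ : F, z₁ ^ 2 + a * z₁ * z₂ + b * z₂ ^ 2 = 0 → z₁ = 0 ∧ z₂ = 0)

include h2F hab in
theorem nondeg_minus_char_two :
    (QuadraticMap.polarBilin (QfMinus m F a b)).Nondegenerate := by
  apply Cfsg.Agent.S2171.QfMinus_nondeg_of
  have ha := Cfsg.Agent.Helper28.GC.ne_zero_of_aniso_char_two h2F a b hab
  intro h
  apply ha
  have h4 : (4 : F) = 0 := by linear_combination (2 : F) * h2F
  rw [h4, zero_mul, zero_sub, neg_eq_zero] at h
  exact (pow_eq_zero_iff two_ne_zero).1 h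

include h2F hab in
theorem ker_chiM (hm : 2 ≤ m) {K : Type*} [Field K] [Algebra F K] {α β : K}
    (h1 : α + β = -(algebraMap F K a)) (h2 : α * β = algebraMap F K b) (hne : α ≠ β)
    (s : ↥(Cfsg.isometryGroup F ⇑(QfMinus m F a b))) :
    chiM a b h1 h2 hne s = 1 ↔ s ∈ Cfsg.Omega F ⇑(QfMinus m F a b) := by
  classical
  have hQ := nondeg_minus_char_two (m := m) h2F a b hab
  obtain ⟨v, hv⟩ := hex_minus (m := m) a b
  have hcard : Fintype.card ((Fin m ⊕ Fin m) ⊕ Fin 2) ≠ 4 := by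
    rw [Fintype.card_sum, Fintype.card_sum, Fintype.card_fin, Fintype.card_fin]; omega
  have hidx := Cfsg.Agent.Helper28.CD2.index_Omega (QfMinus m F a b) h2F hQ (Or.inr hcard)
    ⟨Sum.inr 0⟩
  have hr := Cfsg.Agent.Helper28.CD2.reflO_not_mem_Omega (QfMinus m F a b) h2F hQ v hv
  constructor
  · intro hs
    by_contra hcon
    have h3 := (Subgroup.mul_mem_iff_of_index_two hidx
      (a := s) (b := reflO (QfMinus m F a b) v hv)).2 (by tauto)
    have h4 : chiM a b h1 h2 hne (s * reflO (QfMinus m F a b) v hv) = 1 :=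
      Abelianization.commutator_subset_ker (chiM a b h1 h2 hne) h3
    rw [map_mul, hs, one_mul] at h4
    exact chiM_reflO a b h1 h2 hne v hv h4
  · intro hs
    exact Abelianization.commutator_subset_ker (chiM a b h1 h2 hne) hs

include h2F hab in
/-- in characteristic two an isometry of the minus form preserves the classes iff it is in `Ω` -/
theorem pscMinus_iff_char_two (hm : 2 ≤ m) (s : ↥(Cfsg.isometryGroup F ⇑(QfMinus m F a b))) :
    Cfsg.PreservesSingularClassesMinus m a b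
        ((s : GL ((Fin m ⊕ Fin m) ⊕ Fin 2) F) :
          Matrix ((Fin m ⊕ Fin m) ⊕ Fin 2) ((Fin m ⊕ Fin m) ⊕ Fin 2) F) ↔
      s ∈ Cfsg.Omega F ⇑(QfMinus m F a b) := by
  constructor
  · rintro ⟨K, hKf, hKa, hfr, hpsc⟩
    have : Module.Finite F K := Module.finite_of_finrank_pos (by rw [hfr]; norm_num)
    have : Finite K := Module.finite_of_finite F
    obtain ⟨α, β, h1, h2, hne⟩ := exists_roots' (K := K) hfr a b hab
    rw [← ker_chiM h2F a b hab hm h1 h2 hne, ← psc_iff_chiM]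
    exact hpsc
  · intro hs
    have : Fact (∀ r : F, r ^ 2 ≠ -b + -a * r) := ⟨by
      intro r hr
      have := hab r 1 (by linear_combination hr)
      exact one_ne_zero this.2⟩
    have : Finite (QuadraticAlgebra F (-b) (-a)) := Module.finite_of_finite F
    have hfr : Module.finrank F (QuadraticAlgebra F (-b) (-a)) = 2 :=
      QuadraticAlgebra.finrank_eq_two _ _
    obtain ⟨α, β, h1, h2, hne⟩ := exists_roots' (K := QuadraticAlgebra F (-b) (-a)) hfr a b hab
    refine ⟨QuadraticAlgebra F (-b) (-a), inferInstance, inferInstance, hfr, ?_⟩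
    rw [psc_iff_chiM a b h1 h2 hne, ker_chiM h2F a b hab hm h1 h2 hne]
    exact hs

theorem image_smul {K : Type*} [Field K] {ι : Type} [Fintype ι] [DecidableEq ι] (c : K) (hc : c ≠ 0)
    (M : Matrix ι ι K) (U : Submodule K (ι → K)) :
    Cfsg.imageSubmodule (c • M) U = Cfsg.imageSubmodule M U := by
  unfold Cfsg.imageSubmodule
  ext w
  simp only [Submodule.mem_map, Matrix.toLin'_apply]
  constructor
  · rintro ⟨u, hu, rfl⟩
    exact ⟨c • u, U.smul_mem c hu, by rw [Matrix.mulVec_smul, Matrix.smul_mulVec]⟩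
  · rintro ⟨u, hu, rfl⟩
    refine ⟨c⁻¹ • u, U.smul_mem _ hu, ?_⟩
    rw [Matrix.mulVec_smul, Matrix.smul_mulVec, smul_smul, inv_mul_cancel₀ hc, one_smul]

theorem psc_smul {K : Type*} [Field K] {ι : Type} [Fintype ι] [DecidableEq ι] (c : K) (hc : c ≠ 0)
    (Q : (ι → K) → K) (M : Matrix ι ι K) :
    Cfsg.PreservesSingularClasses Q (c • M) ↔ Cfsg.PreservesSingularClasses Q M := by
  unfold Cfsg.PreservesSingularClasses
  simp only [image_smul c hc]

theorem pscMinus_smul (c : F) (hc : c ≠ 0)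
    (M : Matrix ((Fin m ⊕ Fin m) ⊕ Fin 2) ((Fin m ⊕ Fin m) ⊕ Fin 2) F) :
    Cfsg.PreservesSingularClassesMinus m a b (c • M) ↔
      Cfsg.PreservesSingularClassesMinus m a b M := by
  unfold Cfsg.PreservesSingularClassesMinus
  constructor
  · rintro ⟨K, hKf, hKa, hfr, hpsc⟩
    refine ⟨K, hKf, hKa, hfr, ?_⟩
    have : (c • M).map (algebraMap F K) = algebraMap F K c • M.map (algebraMap F K) := by
      ext i j
      simp
    rw [this, psc_smul _ (by
      intro h
      exact hc ((algebraMap F K).injective (by rw [h, map_zero]))) ] at hpsc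
    exact hpsc
  · rintro ⟨K, hKf, hKa, hfr, hpsc⟩
    refine ⟨K, hKf, hKa, hfr, ?_⟩
    have : (c • M).map (algebraMap F K) = algebraMap F K c • M.map (algebraMap F K) := by
      ext i j
      simp
    rw [this, psc_smul _ (by
      intro h
      exact hc ((algebraMap F K).injective (by rw [h, map_zero])))]
    exact hpsc

include h2F in
/-- in characteristic two every similarity is a scalar times an isometry (matrix form) -/
theorem exists_scal_mul [DecidableEq F] {ι : Type} [Fintype ι] [DecidableEq ι]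
    (Q : QuadraticForm F (ι → F)) (hex : ∃ v : ι → F, Q v ≠ 0) (g : ↥(PG.GO Q)) :
    ∃ (l : Fˣ) (s : ↥(Cfsg.isometryGroup F ⇑Q)),
      ((g : GL ι F) : Matrix ι ι F) = (l : F) • ((s : GL ι F) : Matrix ι ι F) ∧
        PG.cG Q g = PA.cAut Q s := by
  obtain ⟨r, hr⟩ := FiniteField.isSquare_of_char_two
    (CharP.ringChar_of_prime_eq_zero Nat.prime_two (by exact_mod_cast h2F)) (PG.mu Q g : F)
  have hμ0 : (PG.mu Q g : F) ≠ 0 := Units.ne_zero _
  have hr0 : r ≠ 0 := by
    rintro rfl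
    rw [mul_zero] at hr
    exact hμ0 hr
  set l : Fˣ := Units.mk0 r hr0 with hl
  have hlr : (l : F) = r := rfl
  set s : ↥(PG.GO Q) := (PG.scal Q l)⁻¹ * g with hs
  have hmus : PG.mu Q s = 1 := by
    have h4 : PG.mu Q s = (PG.mu Q (PG.scal Q l))⁻¹ * PG.mu Q g := by
      have := (PG.muHom Q hex).map_mul (PG.scal Q l)⁻¹ g
      rw [map_inv] at this
      exact this
    rw [h4, PG.mu_scal Q hex]
    apply Units.ext
    rw [Units.val_mul, Units.val_inv_eq_inv_val, Units.val_mul, hlr, ← hr, Units.val_one]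
    exact inv_mul_cancel₀ hμ0
  have hsO : (s : GL ι F) ∈ Cfsg.isometryGroup F ⇑Q := by
    rw [mem_isometryGroup_iff]
    intro v
    rw [PG.mu_spec, hmus, Units.val_one, one_mul]
  have hg : g = PG.scal Q l * s := by rw [hs]; group
  refine ⟨l, ⟨(s : GL ι F), hsO⟩, ?_, ?_⟩
  · have := congrArg (fun x : ↥(PG.GO Q) => ((x : GL ι F) : Matrix ι ι F)) hg
    rw [this]
    show ((PG.scal Q l : GL ι F) : Matrix ι ι F) * ((s : GL ι F) : Matrix ι ι F) = _
    rw [PG.scal_val, Matrix.smul_mul, Matrix.one_mul]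
  · rw [← PG.cG_oGO]
    have : PG.oGO Q ⟨(s : GL ι F), hsO⟩ = s := Subtype.ext rfl
    rw [this, hg, map_mul, PG.cG_scal, one_mul]

include h2F hab in
/-- in characteristic two, `Inndiag(PΩ⁻) = Inn(PΩ⁻)` -/
theorem inndiag_minus_char_two (hm : 2 ≤ m) :
    Cfsg.inndiagPOmegaMinus m F a b =
      Cfsg.Inn (Cfsg.POmega F (Cfsg.quadFormMinus m F a b)) := by
  classical
  have hex := hex_minus (m := m) a b
  rw [show Cfsg.Inn (Cfsg.POmega F (Cfsg.quadFormMinus m F a b)) =
    (Cfsg.Omega F ⇑(QfMinus m F a b)).map (PA.cAut (QfMinus m F a b)) from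
      PA.Inn_eq (QfMinus m F a b)]
  unfold Cfsg.inndiagPOmegaMinus Cfsg.autSubgroupOf
  apply le_antisymm
  · refine (Subgroup.closure_le _).2 ?_
    rintro β ⟨g, hg, hpsc, hβ⟩
    have hβ' := (PG.induced_iff (QfMinus m F a b) g hg β).1 hβ
    obtain ⟨l, s, hmat, hcG⟩ := exists_scal_mul h2F (QfMinus m F a b) hex ⟨g, hg⟩
    refine ⟨s, ?_, ?_⟩
    · rw [SetLike.mem_coe, ← pscMinus_iff_char_two h2F a b hab hm]
      have hmat' : (g : Matrix ((Fin m ⊕ Fin m) ⊕ Fin 2) ((Fin m ⊕ Fin m) ⊕ Fin 2) F) =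
          (l : F) • ((s : GL ((Fin m ⊕ Fin m) ⊕ Fin 2) F) : Matrix _ _ F) := hmat
      rw [hmat', pscMinus_smul a b _ (Units.ne_zero l)] at hpsc
      exact hpsc
    · rw [hβ', hcG]
  · rintro _ ⟨s, hs, rfl⟩
    apply Subgroup.subset_closure
    refine ⟨(s : GL ((Fin m ⊕ Fin m) ⊕ Fin 2) F), (PG.oGO (QfMinus m F a b) s).2,
      (pscMinus_iff_char_two h2F a b hab hm s).2 hs, ?_⟩
    exact (PG.induced_iff (QfMinus m F a b) _ (PG.oGO (QfMinus m F a b) s).2 _).2
      (PG.cG_oGO (QfMinus m F a b) s).symm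

end char2

end Cfsg.Agent.Helper28.FM
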