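import Mathlib
import Cfsg.Prelude.Def_LieTypeDatum
import Cfsg.Agent.Helper28.GammaCount2
import Cfsg.Agent.Helper28.POmegaCard

set_option autoImplicit false
set_option linter.unusedSectionVars false

/-! Odd dimension: the image of the conformal group in `Aut(PΩ)` has order `2 |PΩ|`. -/

namespace Cfsg.Agent.Helper28.GC

open Matrix Cfsg.Agent.Helper28.SSim Cfsg.Agent.Helper28.Sg Cfsg.Agent.Helper28.PG
  Cfsg.Agent.Helper28.Spin Cfsg.Agent.Helper28.IsoTransport

variable {F : Type*} [Field F] [Fintype F] [DecidableEq F] {ι : Type} [Fintype ι] [DecidableEq ι]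
  (Q : QuadraticForm F (ι → F))

/-- in odd dimension every similarity is a scalar times a special isometry -/
theorem exists_SO_of_odd (hQ : (QuadraticMap.polarBilin Q).Nondegenerate)
    (hex : ∃ v : ι → F, Q v ≠ 0) {k : ℕ} (hk : Fintype.card ι = 2 * k + 1) (g : ↥(GO Q)) :
    ∃ s ∈ SOg Q, cG Q g = cG Q s := by
  have hds := det_sq Q hQ g
  rw [hk] at hds
  have hμ0 : (mu Q g : F) ≠ 0 := Units.ne_zero _
  have hμk : (mu Q g : F) ^ k ≠ 0 := pow_ne_zero _ hμ0
  set d := ((g : GL ι F) : Matrix ι ι F).det with hd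
  set r : F := d / (mu Q g : F) ^ k with hr
  have hrr : r * r = (mu Q g : F) := by
    rw [hr]
    field_simp
    rw [hds]
    ring
  have hr0 : r ≠ 0 := by
    rintro h0
    rw [h0, mul_zero] at hrr
    exact hμ0 hrr.symm
  set l : Fˣ := Units.mk0 r hr0 with hl
  have hlr : (l : F) = r := rfl
  set s : ↥(GO Q) := (scal Q l)⁻¹ * g with hs
  have hmus : mu Q s = 1 := by
    have h4 : mu Q s = (mu Q (scal Q l))⁻¹ * mu Q g := by
      have := (muHom Q hex).map_mul (scal Q l)⁻¹ g
      rw [map_inv] at this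
      exact this
    rw [h4, mu_scal Q hex]
    apply Units.ext
    rw [Units.val_mul, Units.val_inv_eq_inv_val, Units.val_mul, hlr, hrr, Units.val_one]
    exact inv_mul_cancel₀ hμ0
  refine ⟨s, ?_, ?_⟩
  · rw [mem_SOg_iff]
    constructor
    · rw [mem_isometryGroup_iff]
      intro v
      rw [mu_spec, hmus, Units.val_one, one_mul]
    · show ((((scal Q l : GL ι F)⁻¹ * (g : GL ι F) : GL ι F)) : Matrix ι ι F).det = 1
      rw [Units.val_mul, Matrix.det_mul, scal_inv_val, Matrix.det_smul, Matrix.det_one, mul_one,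
        hk, Units.val_inv_eq_inv_val, hlr, ← hd]
      have h5 : r ^ (2 * k + 1) = d := by
        calc r ^ (2 * k + 1) = (r * r) ^ k * r := by ring
          _ = (mu Q g : F) ^ k * r := by rw [hrr]
          _ = d := by rw [hr]; field_simp
      rw [inv_pow, h5]
      have hd0 : d ≠ 0 := by
        intro h0
        rw [h0] at hr
        rw [hr, zero_div] at hr0
        exact hr0 rfl
      exact inv_mul_cancel₀ hd0
  · have hg : g = scal Q l * s := by rw [hs]; group
    rw [hg, map_mul, cG_scal, one_mul]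

theorem pgoAut_eq_psoAut_of_odd (hQ : (QuadraticMap.polarBilin Q).Nondegenerate)
    (hex : ∃ v : ι → F, Q v ≠ 0) {k : ℕ} (hk : Fintype.card ι = 2 * k + 1) :
    Cfsg.pgoAut F ⇑Q = Cfsg.psoAut F ⇑Q := by
  apply le_antisymm
  · rw [pgoAut_eq, PG.psoAut_eq]
    rintro β ⟨g, rfl⟩
    obtain ⟨s, hs, hgs⟩ := exists_SO_of_odd Q hQ hex hk g
    exact ⟨s, hs, hgs.symm⟩
  · rw [pgoAut_eq, PG.psoAut_eq]
    rintro β ⟨s, -, rfl⟩
    exact ⟨s, rfl⟩

/-- in odd dimension the special orthogonal group acts faithfully on `PΩ` -/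
theorem card_psoAut_of_odd (hQ : (QuadraticMap.polarBilin Q).Nondegenerate) (h2 : (2 : F) ≠ 0)
    (h6 : 6 ≤ Fintype.card ι) (hodd : Odd (Fintype.card ι)) :
    Nat.card ↥(Cfsg.psoAut F ⇑Q) = Nat.card ↥(PA.SO' Q) := by
  rw [PA.psoAut_eq]
  set f : ↥(PA.SO' Q) →* MulAut (Cfsg.POmega F ⇑Q) := (PA.cAut Q).comp (PA.SO' Q).subtype with hf
  have hrange : (PA.SO' Q).map (PA.cAut Q) = f.range := by
    rw [hf, MonoidHom.range_comp, Subgroup.range_subtype]
  have hinj : Function.Injective f := by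
    rw [injective_iff_map_eq_one]
    intro x hx
    have hker : (x : ↥(Cfsg.isometryGroup F ⇑Q)) ∈ (PA.cAut Q).ker := hx
    have hxdet : detHom Q (x : ↥(Cfsg.isometryGroup F ⇑Q)) = 1 := x.2
    rcases PA.ker_cases Q hQ h2 h6 _ hker with h | h
    · exact Subtype.ext (Subtype.ext (Units.ext h))
    · exfalso
      have h3 : ((detHom Q (x : ↥(Cfsg.isometryGroup F ⇑Q)) : Fˣ) : F) = 1 := by rw [hxdet]; rfl
      rw [detHom_val, h, Matrix.det_neg, Matrix.det_one, mul_one, hodd.neg_one_pow] at h3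
      apply h2
      linear_combination -h3
  rw [hrange]
  exact Nat.card_congr (MonoidHom.ofInjective hinj).toEquiv.symm

end Cfsg.Agent.Helper28.GC
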