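import Mathlib
import Cfsg.Prelude.Def_LieTypeDatum
import Cfsg.Agent.Helper28.GammaCount3
import Cfsg.Agent.Helper28.Siegel6
import Cfsg.Agent.S2614
import Cfsg.Agent.S0292

set_option autoImplicit false
set_option linter.unusedSectionVars false

/-! The order of `gammaPOmega` for the odd-dimensional form `quadFormOdd`. -/

namespace Cfsg.Agent.Helper28.GC

open Matrix Cfsg.Agent.Helper28.SSim Cfsg.Agent.Helper28.Sg Cfsg.Agent.Helper28.PG
  Cfsg.Agent.Helper28.Spin Cfsg.Agent.Helper28.IsoTransport Cfsg.Agent.Helper28.OC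
  Cfsg.Agent.S2614

/-- the number of automorphisms of the field of order `p ^ f` -/
theorem card_ringAut_eq {F : Type*} [Field F] [Fintype F] {p f : ℕ} [Fact p.Prime]
    (hF : Fintype.card F = p ^ f) : Nat.card (F ≃+* F) = f := by
  have hchar : CharP F p := charP_of_card_eq_prime_pow hF
  let _ : Algebra (ZMod p) F := ZMod.algebra F p
  have h1 : Nat.card (F ≃ₐ[ZMod p] F) = Module.finrank (ZMod p) F :=
    IsGalois.card_aut_eq_finrank _ _
  have h2 : Module.finrank (ZMod p) F = f := by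
    have := Module.card_eq_pow_finrank (K := ZMod p) (V := F)
    rw [hF, ZMod.card] at this
    exact (Nat.pow_right_injective (Fact.out : p.Prime).two_le this).symm
  rw [← h2, ← h1]
  refine Nat.card_congr ⟨fun σ => { σ with commutes' := fun r => ?_ }, fun σ => σ.toRingEquiv,
    fun σ => ?_, fun σ => ?_⟩
  · show σ (algebraMap (ZMod p) F r) = algebraMap (ZMod p) F r
    obtain ⟨k, rfl⟩ := ZMod.natCast_zmod_surjective r
    rw [map_natCast, map_natCast]
  · rfl
  · rfl

section general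

variable {F : Type*} [Field F] [Fintype F] [DecidableEq F] {ι : Type} [Fintype ι] [DecidableEq ι]
  (Q : QuadraticForm F (ι → F))

/-- in odd dimension `|SO| = 2 |PΩ|` -/
theorem card_SO'_odd (hQ : (QuadraticMap.polarBilin Q).Nondegenerate) (h2 : (2 : F) ≠ 0)
    (h6 : 6 ≤ Fintype.card ι) (hodd : Odd (Fintype.card ι)) :
    Nat.card ↥(PA.SO' Q) = 2 * Nat.card (Cfsg.POmega F ⇑Q) := by
  have hmul := card_POmega_mul Q
  have hidx := index_Omega_odd Q h2 hQ (by omega)
  have hc := card_center_Omega_eq_one Q hQ h6 (by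
    rintro ⟨-, g, hgΩ, hg⟩
    have h1 := hom_eq_one_of_mem_Omega Q (detHom Q) hgΩ
    have h3 : ((detHom Q g : Fˣ) : F) = 1 := by rw [h1]; rfl
    rw [detHom_val, hg, Matrix.det_neg, Matrix.det_one, mul_one, hodd.neg_one_pow] at h3
    apply h2
    linear_combination -h3)
  rw [hidx, hc] at hmul
  have hso := Subgroup.card_mul_index (PA.SO' Q)
  rw [PA.SO'_index Q hQ h2 (by omega)] at hso
  omega

theorem card_pgoAut_odd (hQ : (QuadraticMap.polarBilin Q).Nondegenerate) (h2 : (2 : F) ≠ 0)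
    (hex : ∃ v : ι → F, Q v ≠ 0)
    (h6 : 6 ≤ Fintype.card ι) {k : ℕ} (hk : Fintype.card ι = 2 * k + 1) :
    Nat.card ↥(Cfsg.pgoAut F ⇑Q) = 2 * Nat.card (Cfsg.POmega F ⇑Q) := by
  have hodd : Odd (Fintype.card ι) := ⟨k, hk⟩
  rw [pgoAut_eq_psoAut_of_odd Q hQ hex hk, card_psoAut_of_odd Q hQ h2 h6 hodd,
    card_SO'_odd Q hQ h2 h6 hodd]

end general

/-- the field automorphisms act on the standard odd-dimensional form -/
theorem semisim_one_odd {F : Type*} [Field F] (m : ℕ) (σ : F ≃+* F) :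
    Cfsg.IsSemisimilarityPair (Cfsg.quadFormOdd m F) (1 : GL (Unit ⊕ (Fin m ⊕ Fin m)) F) σ := by
  refine ⟨1, fun v => ?_⟩
  rw [Units.val_one, Matrix.one_mulVec, Units.val_one, one_mul]
  unfold Cfsg.quadFormOdd
  rw [map_add, map_pow, map_sum]
  simp only [map_mul]

/-- the order of `PΓO_{2m+1}(q)` acting on `PΩ_{2m+1}(q)` -/
theorem card_gamma_odd {F : Type*} [Field F] [Fintype F] (p f : ℕ) [Fact p.Prime]
    (hF : Fintype.card F = p ^ f) (hodd : Odd p) (m : ℕ) (hm : 3 ≤ m) :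
    Nat.card ↥(Cfsg.gammaPOmega F (Cfsg.quadFormOdd m F)) =
      2 * f * Nat.card (Cfsg.POmega F (Cfsg.quadFormOdd m F)) := by
  classical
  have h2 : (2 : F) ≠ 0 := by
    apply Ring.two_ne_zero
    intro h
    rw [FiniteField.even_card_iff_char_two, hF] at h
    have := hodd.pow (n := f)
    rcases this with ⟨k, hk⟩
    omega
  have hQ := Cfsg.Agent.S0292.QfOdd_nondeg h2 (F := F) m
  let a : Fin 3 → Unit ⊕ (Fin m ⊕ Fin m) := fun j => Sum.inr (Sum.inl (Fin.castLE (by omega) j))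
  let b : Fin 3 → Unit ⊕ (Fin m ⊕ Fin m) := fun j => Sum.inr (Sum.inr (Fin.castLE (by omega) j))
  have hinj : Function.Injective (Sum.elim a b) := by
    intro x y h
    rcases x with x | x <;> rcases y with y | y <;>
      simp only [Sum.elim_inl, Sum.elim_inr, a, b, Sum.inl.injEq, Sum.inr.injEq, reduceCtorEq,
        Fin.castLE_inj] at h
    · rw [h]
    · rw [h]
  let fr : Frame3 (QfOdd m F) := frameOf a b hinj (fun j => hypPair_odd m _)
  have hperf := Omega_perfect' hQ fr (hgen_odd h2 hQ)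
  have hcardι : Fintype.card (Unit ⊕ (Fin m ⊕ Fin m)) = 2 * m + 1 := by
    rw [Fintype.card_sum, Fintype.card_sum, Fintype.card_fin, Fintype.card_unit]; ring
  have hex : ∃ v : Unit ⊕ (Fin m ⊕ Fin m) → F, QfOdd m F v ≠ 0 := by
    refine ⟨Pi.single (Sum.inl ()) 1, ?_⟩
    rw [QfOdd_coe]
    unfold Cfsg.quadFormOdd
    simp
  have hg := card_gamma (QfOdd m F) hQ fr hperf (by
    intro σ
    refine ⟨1, ?_⟩
    rw [QfOdd_coe]
    exact semisim_one_odd m σ)
  have hpgo := card_pgoAut_odd (QfOdd m F) hQ h2 hex (by rw [hcardι]; omega) hcardι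
  rw [QfOdd_coe] at hg hpgo
  rw [hg, hpgo, card_ringAut_eq hF]
  ring

/-- the order of `Aut(PΩ_{2m+1}(q))`, given that all automorphisms are semilinear -/
theorem card_mulAut_odd_of_gamma_top {F : Type*} [Field F] [Fintype F] (p f : ℕ) [Fact p.Prime]
    (hF : Fintype.card F = p ^ f) (hodd : Odd p) (m : ℕ) (hm : 3 ≤ m)
    (htop : Cfsg.gammaPOmega F (Cfsg.quadFormOdd m F) = ⊤) :
    Nat.card (MulAut (Cfsg.POmega F (Cfsg.quadFormOdd m F))) =
      2 * f * Nat.card (Cfsg.POmega F (Cfsg.quadFormOdd m F)) := by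
  rw [← card_gamma_odd p f hF hodd m hm, htop]
  exact (Nat.card_congr Subgroup.topEquiv.toEquiv).symm

end Cfsg.Agent.Helper28.GC
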