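import Mathlib
import Cfsg.Prelude.Def_LieTypeDatum
import Cfsg.Agent.Helper28.GammaCount4
import Cfsg.Agent.Helper28.GammaCount5
import Cfsg.Agent.Helper28.GammaCount6
import Cfsg.Agent.S2728

set_option autoImplicit false
set_option linter.unusedSectionVars false

/-! The order of `gammaPOmega` for the minus-type form `quadFormMinus`. -/

namespace Cfsg.Agent.Helper28.GC

open Matrix Cfsg.Agent.Helper28.SSim Cfsg.Agent.Helper28.Sg Cfsg.Agent.Helper28.PG
  Cfsg.Agent.Helper28.Spin Cfsg.Agent.Helper28.IsoTransport Cfsg.Agent.Helper28.OC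

theorem arith_minus (q m : ℕ) (hq : Odd q) :
    Even (m * (q - 1) / 2) ↔ ¬ (Even (m - 1) ∧ q % 4 = 3) ∨ m = 0 := by
  obtain ⟨t, rfl⟩ := hq
  have h1 : m * (2 * t + 1 - 1) / 2 = m * t := by
    rw [Nat.add_sub_cancel, ← mul_assoc, mul_comm m 2, mul_assoc, Nat.mul_div_cancel_left _ (by norm_num)]
  rw [h1, Nat.even_mul]
  rcases Nat.even_or_odd m with hm | hm <;> rcases Nat.even_or_odd t with ht | ht
  · obtain ⟨a, rfl⟩ := hm
    obtain ⟨b, rfl⟩ := ht
    constructor
    · intro _
      by_cases ha : a = 0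
      · right; omega
      · left
        rintro ⟨⟨c, hc⟩, -⟩
        omega
    · intro _
      left; exact ⟨a, rfl⟩
  · obtain ⟨a, rfl⟩ := hm
    obtain ⟨b, rfl⟩ := ht
    constructor
    · intro _
      by_cases ha : a = 0
      · right; omega
      · left
        rintro ⟨⟨c, hc⟩, -⟩
        omega
    · intro _
      left; exact ⟨a, rfl⟩
  · obtain ⟨a, rfl⟩ := hm
    obtain ⟨b, rfl⟩ := ht
    constructor
    · intro _
      left
      rintro ⟨-, h⟩
      omega
    · intro _
      right; exact ⟨b, rfl⟩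
  · obtain ⟨a, rfl⟩ := hm
    obtain ⟨b, rfl⟩ := ht
    constructor
    · rintro (⟨c, hc⟩ | ⟨c, hc⟩) <;> omega
    · rintro (h | h)
      · exfalso
        apply h
        refine ⟨⟨a, by omega⟩, by omega⟩
      · omega

set_option maxHeartbeats 1600000 in
/-- the order of `PΓO⁻_{2m}(q)` acting on `PΩ⁻_{2m}(q)` -/
theorem card_gamma_minus {F : Type*} [Field F] [Fintype F] (p f : ℕ) [Fact p.Prime]
    (hF : Fintype.card F = p ^ f) (m : ℕ) (hm : 4 ≤ m) (a b : F)
    (hab : ∀ z₁ z₂ : F, z₁ ^ 2 + a * z₁ * z₂ + b * z₂ ^ 2 = 0 → z₁ = 0 ∧ z₂ = 0) :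
    Nat.card ↥(Cfsg.gammaPOmega F (Cfsg.quadFormMinus (m - 1) F a b)) =
      (if p = 2 then 2 else (if Even (m * (p ^ f - 1) / 2) then 4 else 8)) * f *
        Nat.card (Cfsg.POmega F (Cfsg.quadFormMinus (m - 1) F a b)) := by
  classical
  obtain ⟨k, rfl⟩ : ∃ k, m = k + 1 := ⟨m - 1, by omega⟩
  have hk : 3 ≤ k := by omega
  rw [Nat.add_sub_cancel]
  have hchar : CharP F p := charP_of_card_eq_prime_pow hF
  have hcardι : Fintype.card ((Fin k ⊕ Fin k) ⊕ Fin 2) = 2 * (k + 1) := by
    rw [Fintype.card_sum, Fintype.card_sum, Fintype.card_fin, Fintype.card_fin]; omega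
  let a' : Fin 3 → (Fin k ⊕ Fin k) ⊕ Fin 2 :=
    fun j => Sum.inl (Sum.inl (Fin.castLE (by omega) j))
  let b' : Fin 3 → (Fin k ⊕ Fin k) ⊕ Fin 2 :=
    fun j => Sum.inl (Sum.inr (Fin.castLE (by omega) j))
  have hinj : Function.Injective (Sum.elim a' b') := by
    intro x y h
    rcases x with x | x <;> rcases y with y | y <;>
      simp only [Sum.elim_inl, Sum.elim_inr, a', b', Sum.inl.injEq, Sum.inr.injEq, reduceCtorEq,
        Fin.castLE_inj] at h
    · rw [h]
    · rw [h]
  let fr : Frame3 (QfMinus k F a b) := frameOf a' b' hinj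
    (fun j => Cfsg.Agent.S2615.hypPair_minus k a b _)
  have hsurj : ∀ σ : F ≃+* F, ∃ g : GL ((Fin k ⊕ Fin k) ⊕ Fin 2) F,
      Cfsg.IsSemisimilarityPair (⇑(QfMinus k F a b)) g σ := by
    intro σ
    rw [QfMinus_coe]
    exact exists_semisim_minus k a b hab σ
  by_cases hp : p = 2
  · subst hp
    rw [if_pos rfl]
    have h2 : (2 : F) = 0 := by
      have := CharP.cast_eq_zero F 2
      exact_mod_cast this
    have ha := ne_zero_of_aniso_char_two h2 a b hab
    have hdisc : 4 * b - a ^ 2 ≠ 0 := by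
      have h4 : (4 : F) = 0 := by linear_combination (2 : F) * h2
      rw [h4, zero_mul, zero_sub]
      exact neg_ne_zero.2 (pow_ne_zero 2 ha)
    have hQ : (QuadraticMap.polarBilin (QfMinus k F a b)).Nondegenerate :=
      Cfsg.Agent.S2171.QfMinus_nondeg_of k a b hdisc
    have hgen := hgen_even h2 hQ (Or.inr (by rw [hcardι]; omega))
    have hperf := Omega_perfect' hQ fr hgen
    have hg := card_gamma (QfMinus k F a b) hQ fr hperf hsurj
    have hpgo := card_pgoAut_char_two (QfMinus k F a b) h2 hQ fr hperf (by rw [hcardι]; omega)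
    rw [QfMinus_coe] at hg hpgo
    rw [hg, hpgo, card_ringAut_eq hF]
    generalize Nat.card (Cfsg.POmega F (Cfsg.quadFormMinus k F a b)) = N
    ring
  · rw [if_neg hp]
    have hpodd : Odd p := (Fact.out : p.Prime).odd_of_ne_two hp
    have hodd : Odd (Fintype.card F) := by rw [hF]; exact hpodd.pow
    have h2 : (2 : F) ≠ 0 := by
      apply Ring.two_ne_zero
      intro h
      rw [FiniteField.even_card_iff_char_two] at h
      rcases hodd with ⟨k, hk⟩
      omega
    have hδ := Cfsg.Agent.S2621.not_isSquare_disc h2 a b hab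
    have hdisc : 4 * b - a ^ 2 ≠ 0 := by
      intro h
      apply hδ
      have : a ^ 2 - 4 * b = 0 := by linear_combination -h
      rw [this]
      exact ⟨0, by simp⟩
    have hQ : (QuadraticMap.polarBilin (QfMinus k F a b)).Nondegenerate :=
      Cfsg.Agent.S2171.QfMinus_nondeg_of k a b hdisc
    have hgen := hgen_odd h2 hQ
    have hperf := Omega_perfect' hQ fr hgen
    have hg := card_gamma (QfMinus k F a b) hQ fr hperf hsurj
    rw [QfMinus_coe] at hg
    rw [hg, card_ringAut_eq hF]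
    have hres := Cfsg.Agent.S2728.result hodd hk a b hab
    rw [← QfMinus_coe] at hres
    obtain ⟨hD, hV⟩ := hres
    have harith := arith_minus (p ^ f) (k + 1) (hpodd.pow)
    rw [Nat.add_sub_cancel, ← hF] at harith
    by_cases hcase : Even k ∧ Fintype.card F % 4 = 3
    · obtain ⟨φ, hs, hker⟩ := hD hcase
      have hc := card_pgoAut_of_hom (QfMinus k F a b) hQ fr hgen φ hs hker
      rw [QfMinus_coe] at hc
      have hne : ¬ Even ((k + 1) * (p ^ f - 1) / 2) := by
        rw [← hF, harith]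
        push Not
        exact ⟨hcase, by omega⟩
      rw [if_neg hne, hc, DihedralGroup.nat_card]
      generalize Nat.card (Cfsg.POmega F (Cfsg.quadFormMinus k F a b)) = N
      ring
    · obtain ⟨φ, hs, hker⟩ := hV hcase
      have hc := card_pgoAut_of_hom (QfMinus k F a b) hQ fr hgen φ hs hker
      rw [QfMinus_coe] at hc
      have hev : Even ((k + 1) * (p ^ f - 1) / 2) := by
        rw [← hF, harith]
        left; exact hcase
      rw [if_pos hev, hc]
      have h4 : Nat.card (Multiplicative (ZMod 2 × ZMod 2)) = 4 := by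
        rw [Nat.card_eq_fintype_card, Fintype.card_multiplicative, Fintype.card_prod, ZMod.card]
      rw [h4]
      generalize Nat.card (Cfsg.POmega F (Cfsg.quadFormMinus k F a b)) = N
      ring

/-- the order of `Aut(PΩ⁻_{2m}(q))`, given that all automorphisms are semilinear -/
theorem card_mulAut_minus_of_gamma_top {F : Type*} [Field F] [Fintype F] (p f : ℕ)
    [Fact p.Prime] (hF : Fintype.card F = p ^ f) (m : ℕ) (hm : 4 ≤ m) (a b : F)
    (hab : ∀ z₁ z₂ : F, z₁ ^ 2 + a * z₁ * z₂ + b * z₂ ^ 2 = 0 → z₁ = 0 ∧ z₂ = 0)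
    (htop : Cfsg.gammaPOmega F (Cfsg.quadFormMinus (m - 1) F a b) = ⊤) :
    Nat.card (MulAut (Cfsg.POmega F (Cfsg.quadFormMinus (m - 1) F a b))) =
      (if p = 2 then 2 else (if Even (m * (p ^ f - 1) / 2) then 4 else 8)) * f *
        Nat.card (Cfsg.POmega F (Cfsg.quadFormMinus (m - 1) F a b)) := by
  rw [← card_gamma_minus p f hF m hm a b hab, htop]
  exact (Nat.card_congr Subgroup.topEquiv.toEquiv).symm

end Cfsg.Agent.Helper28.GC
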