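import Mathlib
import Cfsg.Agent.Helper28.InndiagPlus4
import Cfsg.Agent.S2613

set_option autoImplicit false
set_option linter.unusedSectionVars false

/-! `Inndiag(PΩ⁺)`: the index of `PSO` and the swap similarity. -/

namespace Cfsg.Agent.Helper28.IDP

open Module Submodule Matrix Cfsg.Agent.Helper28.QPlus Cfsg.Agent.Helper28.Spin
  Cfsg.Agent.Helper28.PG Cfsg.Agent.Helper28.Sg

variable {F : Type*} [Field F] [Fintype F] [DecidableEq F] {m : ℕ}

theorem ker_cG_plus (h2 : (2 : F) ≠ 0) (hm : 3 ≤ m) (g : ↥(GO (QfPlus m F)))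
    (hg : cG (QfPlus m F) g = 1) :
    PG.chi (QfPlus m F) g = 1 ∧ PG.sgn (QfPlus m F) m g = 1 := by
  have hQ := QfPlus_nondeg (F := F) m
  have hcardι : Fintype.card (Fin m ⊕ Fin m) = 2 * m := by
    rw [Fintype.card_sum, Fintype.card_fin]; omega
  let a : Fin 3 → Fin m ⊕ Fin m := fun j => Sum.inl (Fin.castLE (by omega) j)
  let b : Fin 3 → Fin m ⊕ Fin m := fun j => Sum.inr (Fin.castLE (by omega) j)
  have hinj : Function.Injective (Sum.elim a b) := by
    intro x y h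
    rcases x with x | x <;> rcases y with y | y <;>
      simp only [Sum.elim_inl, Sum.elim_inr, a, b, Sum.inl.injEq, Sum.inr.injEq, reduceCtorEq,
        Fin.castLE_inj] at h
    · rw [h]
    · rw [h]
  let fr : Frame3 (QfPlus m F) := frameOf a b hinj
    (fun j => Cfsg.Agent.S2613.hypPair_plus m _)
  have hperf := Omega_perfect' hQ fr (hgen_odd h2 hQ)
  exact ker_of_cG (QfPlus m F) hQ fr (hex_plus (by omega)) hperf hcardι g hg

theorem chi_one (hm : 1 ≤ m) : PG.chi (QfPlus m F) (1 : ↥(GO (QfPlus m F))) = 1 := by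
  have h1 : mu (QfPlus m F) 1 = 1 := (muHom (QfPlus m F) (hex_plus hm)).map_one
  unfold PG.chi
  rw [h1, Units.val_one, map_one]

theorem chi_of_SOg (hm : 1 ≤ m) (s : ↥(GO (QfPlus m F))) (hs : s ∈ SOg (QfPlus m F)) :
    PG.chi (QfPlus m F) s = 1 := (ker_of_SOg (QfPlus m F) (hex_plus hm) m s hs).1

/-- a class-preserving similarity induces an element of `PSO` iff its multiplier is a square -/
theorem cG_mem_psoAut_iff (h2 : (2 : F) ≠ 0) (hm : 3 ≤ m) (g : ↥(GO (QfPlus m F)))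
    (hsgn : PG.sgn (QfPlus m F) m g = 1) :
    cG (QfPlus m F) g ∈ Cfsg.psoAut F (Cfsg.quadFormPlus m F) ↔ PG.chi (QfPlus m F) g = 1 := by
  have hex := hex_plus (F := F) (m := m) (by omega)
  have hcardι : Fintype.card (Fin m ⊕ Fin m) = 2 * m := by
    rw [Fintype.card_sum, Fintype.card_fin]; omega
  have h1 : Cfsg.psoAut F (Cfsg.quadFormPlus m F) =
      (SOg (QfPlus m F)).map (cG (QfPlus m F)) := PG.psoAut_eq (QfPlus m F)
  rw [h1]
  constructor
  · rintro ⟨s, hs, hsg⟩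
    have h3 : cG (QfPlus m F) (s⁻¹ * g) = 1 := by
      rw [map_mul, map_inv, hsg, inv_mul_cancel]
    have h4 := (ker_cG_plus h2 hm _ h3).1
    have h5 : g = s * (s⁻¹ * g) := by group
    rw [h5, PG.chi_mul (QfPlus m F) hex, h4, chi_of_SOg (by omega) s hs, one_mul]
  · intro hchi
    obtain ⟨s, hs, hgs⟩ := exists_SO_of_ker (QfPlus m F) hex hcardι g hchi hsgn
    exact ⟨s, hs, hgs.symm⟩

theorem cG_not_mem_psoAut (h2 : (2 : F) ≠ 0) (hm : 3 ≤ m) (g : ↥(GO (QfPlus m F)))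
    (hchi : PG.chi (QfPlus m F) g = -1) :
    cG (QfPlus m F) g ∉ Cfsg.psoAut F (Cfsg.quadFormPlus m F) := by
  have hex := hex_plus (F := F) (m := m) (by omega)
  have h1 : Cfsg.psoAut F (Cfsg.quadFormPlus m F) =
      (SOg (QfPlus m F)).map (cG (QfPlus m F)) := PG.psoAut_eq (QfPlus m F)
  rw [h1]
  rintro ⟨s, hs, hsg⟩
  have h3 : cG (QfPlus m F) (s⁻¹ * g) = 1 := by
    rw [map_mul, map_inv, hsg, inv_mul_cancel]
  have h4 := (ker_cG_plus h2 hm _ h3).1
  have h5 : g = s * (s⁻¹ * g) := by group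
  rw [h5, PG.chi_mul (QfPlus m F) hex, h4, chi_of_SOg (by omega) s hs, one_mul] at hchi
  norm_num at hchi

/-- the diagonal similarity with a non-square multiplier -/
theorem exists_diag (hm : 1 ≤ m) (ν : F) (hν : ¬ IsSquare ν) :
    ∃ d : ↥(GO (QfPlus m F)), PG.chi (QfPlus m F) d = -1 ∧ PG.sgn (QfPlus m F) m d = 1 := by
  have hQ := QfPlus_nondeg (F := F) m
  have hex := hex_plus (F := F) hm
  have hν0 : ν ≠ 0 := by
    rintro rfl
    exact hν ⟨0, by simp⟩
  obtain ⟨d, hd⟩ := exists_GO_of_sim (QfPlus m F) hQ (diagM m ν) (Units.mk0 ν hν0)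
    (fun w => by rw [QfPlus_coe]; exact diagM_sim _ w)
  have hsim : ∀ w, QfPlus m F (((d : GL (Fin m ⊕ Fin m) F) : Matrix _ _ F) *ᵥ w) =
      ((Units.mk0 ν hν0 : Fˣ) : F) * QfPlus m F w := by
    intro w
    rw [hd, QfPlus_coe]
    exact diagM_sim _ w
  refine ⟨d, chi_of_nonsquare (QfPlus m F) hex d (Units.mk0 ν hν0) hsim hν, ?_⟩
  unfold PG.sgn
  rw [mu_of_sim (QfPlus m F) hex d (Units.mk0 ν hν0) hsim, hd, diagM_det, Units.val_mk0, inv_pow,
    mul_inv_cancel₀ (pow_ne_zero _ hν0)]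

theorem relIndex_pso_inndiag (h2 : (2 : F) ≠ 0) (hm : 3 ≤ m) :
    (Cfsg.psoAut F (Cfsg.quadFormPlus m F)).relIndex (Cfsg.inndiagPOmegaPlus m F) = 2 := by
  have hex := hex_plus (F := F) (m := m) (by omega)
  obtain ⟨ν, hν⟩ := FiniteField.exists_nonsquare (F := F) (by
    intro h
    apply h2
    have := ringChar.Nat.cast_ringChar (R := F)
    rw [h] at this
    exact_mod_cast this)
  obtain ⟨d, hdchi, hdsgn⟩ := exists_diag (F := F) (m := m) (by omega) ν hν
  rw [Subgroup.relIndex_eq_two_iff]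
  refine ⟨cG (QfPlus m F) d, cG_mem_inndiag h2 (by omega) d hdsgn, ?_⟩
  intro β hβ
  obtain ⟨g, hgsgn, rfl⟩ := exists_of_mem_inndiag h2 (by omega) β hβ
  have hsgn2 : PG.sgn (QfPlus m F) m (g * d) = 1 := by
    rw [PG.sgn_mul (QfPlus m F) hex, hgsgn, hdsgn, one_mul]
  have hA := cG_mem_psoAut_iff h2 hm (g * d) hsgn2
  rw [map_mul, PG.chi_mul (QfPlus m F) hex, hdchi] at hA
  have hB := cG_mem_psoAut_iff h2 hm g hgsgn
  rcases PG.chi_cases (QfPlus m F) g with h | h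
  · right
    refine ⟨hB.2 h, fun hc => ?_⟩
    have := hA.1 hc
    rw [h] at this
    norm_num at this
  · left
    refine ⟨hA.2 (by rw [h]; norm_num), fun hc => ?_⟩
    have := hB.1 hc
    rw [h] at this
    norm_num at this

end Cfsg.Agent.Helper28.IDP
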