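import Mathlib
import Cfsg.Agent.Helper28.InndiagPlus5

set_option autoImplicit false
set_option linter.unusedSectionVars false

/-! The swap similarity of the hyperbolic form. -/

namespace Cfsg.Agent.Helper28.IDP

open Module Submodule Matrix Cfsg.Agent.Helper28.QPlus Cfsg.Agent.Helper28.Spin
  Cfsg.Agent.Helper28.PG Cfsg.Agent.Helper28.Sg

variable {F : Type*} [Field F] {m : ℕ}

/-- the swap similarity `e_i ↦ f_i`, `f_i ↦ ν e_i` -/
def swapM (m : ℕ) (ν : F) : Matrix (Fin m ⊕ Fin m) (Fin m ⊕ Fin m) F :=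
  Matrix.fromBlocks 0 (ν • 1) 1 0

theorem swapM_inl (ν : F) (v : Vm m F) (i : Fin m) :
    (swapM m ν *ᵥ v) (Sum.inl i) = ν * v (Sum.inr i) := by
  unfold swapM
  rw [Matrix.fromBlocks_mulVec]
  simp [Matrix.smul_mulVec]

theorem swapM_inr (ν : F) (v : Vm m F) (i : Fin m) :
    (swapM m ν *ᵥ v) (Sum.inr i) = v (Sum.inl i) := by
  unfold swapM
  rw [Matrix.fromBlocks_mulVec]
  simp

theorem swapM_sim (ν : F) (v : Vm m F) :
    Cfsg.quadFormPlus m F (swapM m ν *ᵥ v) = ν * Cfsg.quadFormPlus m F v := by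
  unfold Cfsg.quadFormPlus
  rw [Finset.mul_sum]
  apply Finset.sum_congr rfl
  intro i _
  rw [swapM_inl, swapM_inr]
  ring

theorem swapM_sq (ν : F) : swapM m ν * swapM m ν = ν • (1 : Matrix (Fin m ⊕ Fin m) (Fin m ⊕ Fin m) F) := by
  unfold swapM
  rw [Matrix.fromBlocks_multiply, ← Matrix.fromBlocks_one, Matrix.fromBlocks_smul]
  simp

theorem swapM_E (ν : F) : E m F ⊓ Cfsg.imageSubmodule (swapM m ν) (E m F) = ⊥ := by
  rw [eq_bot_iff]
  rintro v ⟨hv1, hv2⟩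
  rw [SetLike.mem_coe, mem_image] at hv2
  obtain ⟨u, hu, rfl⟩ := hv2
  rw [SetLike.mem_coe, mem_E_iff] at hv1
  rw [mem_E_iff] at hu
  rw [Submodule.mem_bot]
  funext j
  rcases j with i | i
  · rw [swapM_inl, hu i, mul_zero]
    rfl
  · exact hv1 i

section fin

variable [Fintype F] [DecidableEq F]

theorem exists_swap (h2 : (2 : F) ≠ 0) (hm : 1 ≤ m) (ν : Fˣ) (hν : ¬ IsSquare (ν : F)) :
    ∃ H : ↥(GO (QfPlus m F)), PG.chi (QfPlus m F) H = -1 ∧
      (PG.sgn (QfPlus m F) m H = 1 ↔ Even m) ∧ H * H = scal (QfPlus m F) ν ∧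
      ∀ v, QfPlus m F (((H : GL (Fin m ⊕ Fin m) F) : Matrix _ _ F) *ᵥ v) = (ν : F) * QfPlus m F v := by
  have hQ := QfPlus_nondeg (F := F) m
  have hex := hex_plus (F := F) hm
  obtain ⟨H, hH⟩ := exists_GO_of_sim (QfPlus m F) hQ (swapM m (ν : F)) ν
    (fun w => by rw [QfPlus_coe]; exact swapM_sim _ w)
  have hsim : ∀ w, QfPlus m F (((H : GL (Fin m ⊕ Fin m) F) : Matrix _ _ F) *ᵥ w) =
      (ν : F) * QfPlus m F w := by
    intro w
    rw [hH, QfPlus_coe]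
    exact swapM_sim _ w
  refine ⟨H, chi_of_nonsquare (QfPlus m F) hex H ν hsim hν, ?_, ?_, hsim⟩
  · rw [sgn_eq_one_iff h2 hm, hH, swapM_E, finrank_bot, Nat.sub_zero]
  · apply Subtype.ext
    apply Units.ext
    show (((H : GL (Fin m ⊕ Fin m) F) * (H : GL (Fin m ⊕ Fin m) F) : GL (Fin m ⊕ Fin m) F) :
      Matrix (Fin m ⊕ Fin m) (Fin m ⊕ Fin m) F) = _
    rw [Units.val_mul]
    rw [hH, swapM_sq, scal_val]

end fin

end Cfsg.Agent.Helper28.IDP
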