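import Mathlib
import Cfsg.Agent.Helper28.MinusInndiag4
import Cfsg.Agent.Helper28.InndiagGen
import Cfsg.Agent.Helper28.InndiagPlus6
import Cfsg.Agent.Helper13.Discr

set_option autoImplicit false
set_option linter.unusedSectionVars false

/-! The swap similarity of the minus form. -/

namespace Cfsg.Agent.Helper28.IDM

open Module Submodule Matrix Cfsg.Agent.Helper28.QPlus Cfsg.Agent.Helper28.Spin
  Cfsg.Agent.Helper28.PG Cfsg.Agent.Helper28.IDP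

variable {F : Type*} [Field F] {m : ℕ}

theorem swapM_det (ν : F) : (swapM m ν).det = ν ^ m * (-1) ^ m := by
  have h1 : swapM m ν = Matrix.fromBlocks (ν • (1 : Matrix (Fin m) (Fin m) F)) 0 0 1 *
      Matrix.fromBlocks (0 : Matrix (Fin m) (Fin m) F) 1 1 0 := by
    unfold swapM
    rw [Matrix.fromBlocks_multiply]
    simp
  rw [h1, Matrix.det_mul, Matrix.det_fromBlocks_zero₂₁, Matrix.det_smul, Matrix.det_one, mul_one,
    mul_one, Cfsg.Agent.Helper13.det_fromBlocks_zero_one_one_zero, Fintype.card_fin]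

/-- the swap similarity of the minus form -/
def swapMinus (m : ℕ) (ν a b t₁ t₂ : F) :
    Matrix ((Fin m ⊕ Fin m) ⊕ Fin 2) ((Fin m ⊕ Fin m) ⊕ Fin 2) F :=
  Matrix.fromBlocks (swapM m ν) 0 0 !![t₁, a * t₁ + b * t₂; t₂, -t₁]

theorem swapMinus_ll (ν a b t₁ t₂ : F) (v : Wm m F) (i : Fin m) :
    (swapMinus m ν a b t₁ t₂ *ᵥ v) (Sum.inl (Sum.inl i)) = ν * v (Sum.inl (Sum.inr i)) := by
  unfold swapMinus
  rw [Matrix.fromBlocks_mulVec]
  simp only [Sum.elim_inl, Pi.add_apply, Matrix.zero_mulVec, Pi.zero_apply, add_zero]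
  rw [swapM_inl]
  rfl

theorem swapMinus_lr (ν a b t₁ t₂ : F) (v : Wm m F) (i : Fin m) :
    (swapMinus m ν a b t₁ t₂ *ᵥ v) (Sum.inl (Sum.inr i)) = v (Sum.inl (Sum.inl i)) := by
  unfold swapMinus
  rw [Matrix.fromBlocks_mulVec]
  simp only [Sum.elim_inl, Pi.add_apply, Matrix.zero_mulVec, Pi.zero_apply, add_zero]
  rw [swapM_inr]
  rfl

theorem swapMinus_r0 (ν a b t₁ t₂ : F) (v : Wm m F) :
    (swapMinus m ν a b t₁ t₂ *ᵥ v) (Sum.inr 0) =
      t₁ * v (Sum.inr 0) + (a * t₁ + b * t₂) * v (Sum.inr 1) := by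
  unfold swapMinus
  rw [Matrix.fromBlocks_mulVec]
  simp [Matrix.mulVec, dotProduct, Fin.sum_univ_two]

theorem swapMinus_r1 (ν a b t₁ t₂ : F) (v : Wm m F) :
    (swapMinus m ν a b t₁ t₂ *ᵥ v) (Sum.inr 1) = t₂ * v (Sum.inr 0) + (-t₁) * v (Sum.inr 1) := by
  unfold swapMinus
  rw [Matrix.fromBlocks_mulVec]
  simp [Matrix.mulVec, dotProduct, Fin.sum_univ_two]

theorem swapMinus_sim (ν a b t₁ t₂ : F) (ht : t₁ ^ 2 + a * t₁ * t₂ + b * t₂ ^ 2 = ν)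
    (v : Wm m F) :
    Cfsg.quadFormMinus m F a b (swapMinus m ν a b t₁ t₂ *ᵥ v) =
      ν * Cfsg.quadFormMinus m F a b v := by
  unfold Cfsg.quadFormMinus
  rw [swapMinus_r0, swapMinus_r1]
  simp only [swapMinus_ll, swapMinus_lr]
  have hsum : ∑ i : Fin m, ν * v (Sum.inl (Sum.inr i)) * v (Sum.inl (Sum.inl i)) =
      ν * ∑ i : Fin m, v (Sum.inl (Sum.inl i)) * v (Sum.inl (Sum.inr i)) := by
    rw [Finset.mul_sum]
    apply Finset.sum_congr rfl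
    intro i _
    ring
  rw [hsum, ← ht]
  ring

theorem swapMinus_sq (ν a b t₁ t₂ : F) (ht : t₁ ^ 2 + a * t₁ * t₂ + b * t₂ ^ 2 = ν) :
    swapMinus m ν a b t₁ t₂ * swapMinus m ν a b t₁ t₂ =
      ν • (1 : Matrix ((Fin m ⊕ Fin m) ⊕ Fin 2) ((Fin m ⊕ Fin m) ⊕ Fin 2) F) := by
  unfold swapMinus
  rw [Matrix.fromBlocks_multiply, ← Matrix.fromBlocks_one, Matrix.fromBlocks_smul]
  simp only [Matrix.zero_mul, Matrix.mul_zero, add_zero, zero_add, smul_zero]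
  congr 1
  · exact swapM_sq ν
  · rw [← ht]
    ext i j
    fin_cases i <;> fin_cases j <;> simp [Matrix.mul_apply, Fin.sum_univ_two] <;> ring

theorem swapMinus_det (ν a b t₁ t₂ : F) (ht : t₁ ^ 2 + a * t₁ * t₂ + b * t₂ ^ 2 = ν) :
    (swapMinus m ν a b t₁ t₂).det = -(ν ^ (m + 1) * (-1) ^ m) := by
  unfold swapMinus
  rw [Matrix.det_fromBlocks_zero₂₁, swapM_det, Matrix.det_fin_two_of, ← ht]
  ring

section fin

variable [Fintype F] [DecidableEq F]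

theorem exists_swapMinus (h2 : (2 : F) ≠ 0) (a b : F)
    (hab : ∀ z₁ z₂ : F, z₁ ^ 2 + a * z₁ * z₂ + b * z₂ ^ 2 = 0 → z₁ = 0 ∧ z₂ = 0)
    (hQ : (QuadraticMap.polarBilin (QfMinus m F a b)).Nondegenerate) (heven : Even m) :
    ∃ (ν : Fˣ) (H : ↥(GO (QfMinus m F a b))), PG.chi (QfMinus m F a b) H = -1 ∧
      PG.sgn (QfMinus m F a b) (m + 1) H = -1 ∧ H * H = scal (QfMinus m F a b) ν := by
  have hδ := Cfsg.Agent.S2621.not_isSquare_disc h2 a b hab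
  have hdisc : 4 * b - a ^ 2 ≠ 0 := by
    intro h
    apply hδ
    have : a ^ 2 - 4 * b = 0 := by linear_combination -h
    rw [this]
    exact ⟨0, by simp⟩
  obtain ⟨ν₀, hν₀⟩ := FiniteField.exists_nonsquare (F := F) (by
    intro h
    apply h2
    have := ringChar.Nat.cast_ringChar (R := F)
    rw [h] at this
    exact_mod_cast this)
  have hν0 : ν₀ ≠ 0 := by
    rintro rfl
    exact hν₀ ⟨0, by simp⟩
  obtain ⟨t₁, t₂, ht⟩ := exists_binary_eq h2 a b hdisc ν₀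
  have hex := hex_minus (m := m) a b
  have hsimM : ∀ w, QfMinus m F a b (swapMinus m ν₀ a b t₁ t₂ *ᵥ w) =
      ((Units.mk0 ν₀ hν0 : Fˣ) : F) * QfMinus m F a b w := by
    intro w
    rw [QfMinus_coe, Units.val_mk0]
    exact swapMinus_sim ν₀ a b t₁ t₂ ht w
  obtain ⟨H, hH⟩ := exists_GO_of_sim (QfMinus m F a b) hQ (swapMinus m ν₀ a b t₁ t₂)
    (Units.mk0 ν₀ hν0) hsimM
  have hsim : ∀ w, QfMinus m F a b (((H : GL ((Fin m ⊕ Fin m) ⊕ Fin 2) F) : Matrix _ _ F) *ᵥ w) =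
      ((Units.mk0 ν₀ hν0 : Fˣ) : F) * QfMinus m F a b w := by
    intro w
    rw [hH]
    exact hsimM w
  refine ⟨Units.mk0 ν₀ hν0, H, chi_of_nonsquare (QfMinus m F a b) hex H _ hsim hν₀, ?_, ?_⟩
  · unfold PG.sgn
    rw [mu_of_sim (QfMinus m F a b) hex H _ hsim, hH, swapMinus_det ν₀ a b t₁ t₂ ht,
      Units.val_mk0, heven.neg_one_pow, mul_one, inv_pow, neg_mul,
      mul_inv_cancel₀ (pow_ne_zero _ hν0)]
  · apply Subtype.ext
    apply Units.ext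
    show (((H : GL ((Fin m ⊕ Fin m) ⊕ Fin 2) F) * (H : GL ((Fin m ⊕ Fin m) ⊕ Fin 2) F) :
      GL ((Fin m ⊕ Fin m) ⊕ Fin 2) F) :
        Matrix ((Fin m ⊕ Fin m) ⊕ Fin 2) ((Fin m ⊕ Fin m) ⊕ Fin 2) F) = _
    rw [Units.val_mul, hH, swapMinus_sq ν₀ a b t₁ t₂ ht, scal_val, Units.val_mk0]

/-- a similarity with non-square multiplier (any `m`) -/
theorem exists_chi_neg (h2 : (2 : F) ≠ 0) (a b : F)
    (hab : ∀ z₁ z₂ : F, z₁ ^ 2 + a * z₁ * z₂ + b * z₂ ^ 2 = 0 → z₁ = 0 ∧ z₂ = 0)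
    (hQ : (QuadraticMap.polarBilin (QfMinus m F a b)).Nondegenerate) :
    ∃ H : ↥(GO (QfMinus m F a b)), PG.chi (QfMinus m F a b) H = -1 := by
  have hδ := Cfsg.Agent.S2621.not_isSquare_disc h2 a b hab
  have hdisc : 4 * b - a ^ 2 ≠ 0 := by
    intro h
    apply hδ
    have : a ^ 2 - 4 * b = 0 := by linear_combination -h
    rw [this]
    exact ⟨0, by simp⟩
  obtain ⟨ν₀, hν₀⟩ := FiniteField.exists_nonsquare (F := F) (by
    intro h
    apply h2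
    have := ringChar.Nat.cast_ringChar (R := F)
    rw [h] at this
    exact_mod_cast this)
  have hν0 : ν₀ ≠ 0 := by
    rintro rfl
    exact hν₀ ⟨0, by simp⟩
  obtain ⟨t₁, t₂, ht⟩ := exists_binary_eq h2 a b hdisc ν₀
  have hex := hex_minus (m := m) a b
  have hsimM : ∀ w, QfMinus m F a b (swapMinus m ν₀ a b t₁ t₂ *ᵥ w) =
      ((Units.mk0 ν₀ hν0 : Fˣ) : F) * QfMinus m F a b w := by
    intro w
    rw [QfMinus_coe, Units.val_mk0]
    exact swapMinus_sim ν₀ a b t₁ t₂ ht w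
  obtain ⟨H, hH⟩ := exists_GO_of_sim (QfMinus m F a b) hQ (swapMinus m ν₀ a b t₁ t₂)
    (Units.mk0 ν₀ hν0) hsimM
  have hsim : ∀ w, QfMinus m F a b (((H : GL ((Fin m ⊕ Fin m) ⊕ Fin 2) F) : Matrix _ _ F) *ᵥ w) =
      ((Units.mk0 ν₀ hν0 : Fˣ) : F) * QfMinus m F a b w := by
    intro w
    rw [hH]
    exact hsimM w
  exact ⟨H, chi_of_nonsquare (QfMinus m F a b) hex H _ hsim hν₀⟩

end fin

end Cfsg.Agent.Helper28.IDM
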