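import Mathlib
import Cfsg.Agent.Helper28.MinusInndiag5
import Cfsg.Agent.S2615
import Cfsg.Agent.S2171

set_option autoImplicit false
set_option linter.unusedSectionVars false

/-! `Inndiag(PΩ⁻)` as the image of the similarities of sign one, and the two cases. -/

namespace Cfsg.Agent.Helper28.IDM

open Module Submodule Matrix Cfsg.Agent.Helper28.QPlus Cfsg.Agent.Helper28.Spin
  Cfsg.Agent.Helper28.PG Cfsg.Agent.Helper28.IDP Cfsg.Agent.Helper28.Sg

variable {F : Type*} [Field F] [Fintype F] [DecidableEq F] {m : ℕ}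

theorem inndiagM_eq (hodd : Odd (Fintype.card F)) (h2 : (2 : F) ≠ 0) (a b : F)
    (hab : ∀ z₁ z₂ : F, z₁ ^ 2 + a * z₁ * z₂ + b * z₂ ^ 2 = 0 → z₁ = 0 ∧ z₂ = 0) :
    Cfsg.inndiagPOmegaMinus m F a b =
      IDG.DD (QfMinus m F a b) (hex_minus a b) (m + 1) := by
  unfold Cfsg.inndiagPOmegaMinus Cfsg.autSubgroupOf
  apply le_antisymm
  · refine (Subgroup.closure_le _).2 ?_
    rintro β ⟨g, hg, hpsc, hβ⟩
    refine ⟨⟨g, hg⟩, ?_, ((induced_iff (QfMinus m F a b) g hg β).1 hβ).symm⟩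
    rw [SetLike.mem_coe, IDG.mem_GO0_iff, ← pscMinus_iff hodd h2 a b hab]
    exact hpsc
  · rintro _ ⟨g, hg, rfl⟩
    apply Subgroup.subset_closure
    exact ⟨g.1, g.2, (pscMinus_iff hodd h2 a b hab g).2 ((IDG.mem_GO0_iff _ _ _ g).1 hg),
      (induced_iff (QfMinus m F a b) g.1 g.2 _).2 rfl⟩

/-- the two cases, for the image of the similarities of sign one -/
theorem minus_cases (hodd : Odd (Fintype.card F)) (h2 : (2 : F) ≠ 0) (hm : 3 ≤ m) (a b : F)
    (hab : ∀ z₁ z₂ : F, z₁ ^ 2 + a * z₁ * z₂ + b * z₂ ^ 2 = 0 → z₁ = 0 ∧ z₂ = 0) :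
    ((Even m ∧ (Cfsg.Inn (Cfsg.POmega F ⇑(QfMinus m F a b))).relIndex
          (Cfsg.psoAut F ⇑(QfMinus m F a b)) = 2 ∧
        (∃ g : ↥(Cfsg.isometryGroup F ⇑(QfMinus m F a b)),
          g ∈ Cfsg.Omega F ⇑(QfMinus m F a b) ∧
          ((g : GL ((Fin m ⊕ Fin m) ⊕ Fin 2) F) :
            Matrix ((Fin m ⊕ Fin m) ⊕ Fin 2) ((Fin m ⊕ Fin m) ⊕ Fin 2) F) = -1)) →
      ∃ φ : ↥(IDG.DD (QfMinus m F a b) (hex_minus a b) (m + 1)) →* Multiplicative (ZMod 4),
        Function.Surjective φ ∧ φ.ker = (Cfsg.Inn (Cfsg.POmega F ⇑(QfMinus m F a b))).subgroupOf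
          (IDG.DD (QfMinus m F a b) (hex_minus a b) (m + 1))) ∧
    ((Cfsg.Inn (Cfsg.POmega F ⇑(QfMinus m F a b))).relIndex
          (Cfsg.psoAut F ⇑(QfMinus m F a b)) = 1 →
      ∃ φ : ↥(IDG.DD (QfMinus m F a b) (hex_minus a b) (m + 1)) →* Multiplicative (ZMod 2),
        Function.Surjective φ ∧ φ.ker = (Cfsg.Inn (Cfsg.POmega F ⇑(QfMinus m F a b))).subgroupOf
          (IDG.DD (QfMinus m F a b) (hex_minus a b) (m + 1))) := by
  have hδ := Cfsg.Agent.S2621.not_isSquare_disc h2 a b hab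
  have hdisc : 4 * b - a ^ 2 ≠ 0 := by
    intro h
    apply hδ
    have : a ^ 2 - 4 * b = 0 := by linear_combination -h
    rw [this]
    exact ⟨0, by simp⟩
  have hQ : (QuadraticMap.polarBilin (QfMinus m F a b)).Nondegenerate :=
    Cfsg.Agent.S2171.QfMinus_nondeg_of m a b hdisc
  have hcardι : Fintype.card ((Fin m ⊕ Fin m) ⊕ Fin 2) = 2 * (m + 1) := by
    rw [Fintype.card_sum, Fintype.card_sum, Fintype.card_fin, Fintype.card_fin]; omega
  let a' : Fin 3 → (Fin m ⊕ Fin m) ⊕ Fin 2 :=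
    fun j => Sum.inl (Sum.inl (Fin.castLE (by omega) j))
  let b' : Fin 3 → (Fin m ⊕ Fin m) ⊕ Fin 2 :=
    fun j => Sum.inl (Sum.inr (Fin.castLE (by omega) j))
  have hinj : Function.Injective (Sum.elim a' b') := by
    intro x y h
    rcases x with x | x <;> rcases y with y | y <;>
      simp only [Sum.elim_inl, Sum.elim_inr, a', b', Sum.inl.injEq, Sum.inr.injEq, reduceCtorEq,
        Fin.castLE_inj] at h
    · rw [h]
    · rw [h]
  let fr : Frame3 (QfMinus m F a b) := frameOf a' b' hinj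
    (fun j => Cfsg.Agent.S2615.hypPair_minus m a b _)
  have hperf := Omega_perfect' hQ fr (hgen_odd h2 hQ)
  constructor
  · rintro ⟨heven, hrel, hneg⟩
    obtain ⟨ν, H, hchi, hsgn, hsq⟩ := exists_swapMinus h2 a b hab hQ heven
    exact IDG.caseB (QfMinus m F a b) hQ fr (hex_minus a b) hperf hcardι h2
      (by rw [hcardι]; omega) hneg H hchi hsgn ν hsq hrel
  · intro hrel
    obtain ⟨H, hchi⟩ := exists_chi_neg (m := m) h2 a b hab hQ
    exact IDG.caseA (QfMinus m F a b) hQ fr (hex_minus a b) hperf hcardι H hchi hrel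

end Cfsg.Agent.Helper28.IDM

namespace Cfsg.Agent.Helper28.IDM

open Module Submodule Matrix Cfsg.Agent.Helper28.QPlus Cfsg.Agent.Helper28.Spin
  Cfsg.Agent.Helper28.PG Cfsg.Agent.Helper28.IDP Cfsg.Agent.Helper28.Sg

theorem transfer_hom {A : Type*} [Group A] {D D' : Subgroup A} (h : D = D') (I : Subgroup A)
    {X : Type*} [Group X]
    (hh : ∃ φ : ↥D' →* X, Function.Surjective φ ∧ φ.ker = I.subgroupOf D') :
    ∃ φ : ↥D →* X, Function.Surjective φ ∧ φ.ker = I.subgroupOf D := by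
  subst h
  exact hh

variable {F : Type*} [Field F] [Fintype F] [DecidableEq F] {m : ℕ}

theorem minus_final (hodd : Odd (Fintype.card F)) (h2 : (2 : F) ≠ 0) (hm : 3 ≤ m) (a b : F)
    (hab : ∀ z₁ z₂ : F, z₁ ^ 2 + a * z₁ * z₂ + b * z₂ ^ 2 = 0 → z₁ = 0 ∧ z₂ = 0) :
    ((Even m ∧ (Cfsg.Inn (Cfsg.POmega F (Cfsg.quadFormMinus m F a b))).relIndex
          (Cfsg.psoAut F (Cfsg.quadFormMinus m F a b)) = 2 ∧
        (∃ g : ↥(Cfsg.isometryGroup F (Cfsg.quadFormMinus m F a b)),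
          g ∈ Cfsg.Omega F (Cfsg.quadFormMinus m F a b) ∧
          ((g : GL ((Fin m ⊕ Fin m) ⊕ Fin 2) F) :
            Matrix ((Fin m ⊕ Fin m) ⊕ Fin 2) ((Fin m ⊕ Fin m) ⊕ Fin 2) F) = -1)) →
      ∃ φ : ↥(Cfsg.inndiagPOmegaMinus m F a b) →* Multiplicative (ZMod 4),
        Function.Surjective φ ∧ φ.ker =
          (Cfsg.Inn (Cfsg.POmega F (Cfsg.quadFormMinus m F a b))).subgroupOf
          (Cfsg.inndiagPOmegaMinus m F a b)) ∧
    ((Cfsg.Inn (Cfsg.POmega F (Cfsg.quadFormMinus m F a b))).relIndex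
          (Cfsg.psoAut F (Cfsg.quadFormMinus m F a b)) = 1 →
      ∃ φ : ↥(Cfsg.inndiagPOmegaMinus m F a b) →* Multiplicative (ZMod 2),
        Function.Surjective φ ∧ φ.ker =
          (Cfsg.Inn (Cfsg.POmega F (Cfsg.quadFormMinus m F a b))).subgroupOf
          (Cfsg.inndiagPOmegaMinus m F a b)) := by
  have hD := inndiagM_eq (m := m) hodd h2 a b hab
  have hcases := minus_cases hodd h2 hm a b hab
  constructor
  · intro h
    exact transfer_hom hD _ (hcases.1 h)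
  · intro h
    exact transfer_hom hD _ (hcases.2 h)

end Cfsg.Agent.Helper28.IDM
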