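import Mathlib
import Cfsg.Prelude.Def_LieTypeDatum
import Cfsg.Agent.Helper28.FieldM2
import Cfsg.Agent.Helper28.FieldM4
import Cfsg.Agent.Helper28.FieldM6
import Cfsg.Agent.Helper28.FieldM9
import Cfsg.Agent.Helper28.MinusInndiag6
import Cfsg.Agent.Helper28.GammaCount7
import Cfsg.Agent.S2696

set_option autoImplicit false
set_option linter.unusedSectionVars false

/-! Minus type: the standard data, the transport of `Inndiag` along an arbitrary isomorphism of the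
groups `PΩ⁻` of two anisotropic parts, and `Inndiag` inside `PGO`. -/

namespace Cfsg.Agent.Helper28.FM

open Matrix Module Cfsg.Agent.Helper28.IsoTransport Cfsg.Agent.Helper28.Spin
  Cfsg.Agent.Helper28.IDM Cfsg.Agent.Helper28.PG Cfsg.Agent.Helper28.Sg
  Cfsg.Agent.Helper28.SSim Cfsg.Agent.Helper28.GC Cfsg.Agent.Helper28.FO

universe u

variable {F : Type u} [Field F] [Fintype F] {m : ℕ}

theorem two_ne_zero_or (F : Type*) [Field F] [Fintype F] :
    ((2 : F) = 0) ∨ ((2 : F) ≠ 0 ∧ Odd (Fintype.card F)) := by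
  by_cases h2 : (2 : F) = 0
  · exact Or.inl h2
  · exact Or.inr ⟨h2, Cfsg.Agent.Helper28.Spin.card_odd h2⟩

theorem disc_ne_zero (a b : F)
    (hab : ∀ z₁ z₂ : F, z₁ ^ 2 + a * z₁ * z₂ + b * z₂ ^ 2 = 0 → z₁ = 0 ∧ z₂ = 0) :
    4 * b - a ^ 2 ≠ 0 := by
  by_cases h2 : (2 : F) = 0
  · have ha := ne_zero_of_aniso_char_two h2 a b hab
    have h4 : (4 : F) = 0 := by linear_combination (2 : F) * h2
    rw [h4, zero_mul, zero_sub]
    exact neg_ne_zero.2 (pow_ne_zero 2 ha)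
  · have hδ := Cfsg.Agent.S2621.not_isSquare_disc h2 a b hab
    intro h
    apply hδ
    have : a ^ 2 - 4 * b = 0 := by linear_combination -h
    rw [this]
    exact ⟨0, by simp⟩

theorem nondeg_minus (a b : F)
    (hab : ∀ z₁ z₂ : F, z₁ ^ 2 + a * z₁ * z₂ + b * z₂ ^ 2 = 0 → z₁ = 0 ∧ z₂ = 0) :
    (QuadraticMap.polarBilin (QfMinus m F a b)).Nondegenerate :=
  Cfsg.Agent.S2171.QfMinus_nondeg_of m a b (disc_ne_zero a b hab)

/-- the standard frame of the minus form -/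
noncomputable def frameMinus (hm : 3 ≤ m) (a b : F) : Frame3 (QfMinus m F a b) :=
  frameOf (fun j => Sum.inl (Sum.inl (Fin.castLE hm j)))
    (fun j => Sum.inl (Sum.inr (Fin.castLE hm j)))
    (by
      intro x y h
      rcases x with x | x <;> rcases y with y | y <;>
        simp only [Sum.elim_inl, Sum.elim_inr, Sum.inl.injEq, Sum.inr.injEq, reduceCtorEq,
          Fin.castLE_inj] at h
      · rw [h]
      · rw [h])
    (fun j => Cfsg.Agent.S2615.hypPair_minus m a b _)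

theorem hgen_minus (hm : 3 ≤ m) (a b : F)
    (hab : ∀ z₁ z₂ : F, z₁ ^ 2 + a * z₁ * z₂ + b * z₂ ^ 2 = 0 → z₁ = 0 ∧ z₂ = 0) :
    ∀ (H : Subgroup ↥(Cfsg.isometryGroup F ⇑(QfMinus m F a b))),
      (∀ (v : (Fin m ⊕ Fin m) ⊕ Fin 2 → F) (hv : QfMinus m F a b v ≠ 0),
        reflO (QfMinus m F a b) v hv ∈ H) → ∀ g, g ∈ H := by
  have hQ := nondeg_minus (m := m) a b hab
  by_cases h2 : (2 : F) = 0
  · apply hgen_even h2 hQ
    right
    rw [Fintype.card_sum, Fintype.card_sum, Fintype.card_fin, Fintype.card_fin]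
    omega
  · exact hgen_odd h2 hQ

theorem hperf_minus (hm : 3 ≤ m) (a b : F)
    (hab : ∀ z₁ z₂ : F, z₁ ^ 2 + a * z₁ * z₂ + b * z₂ ^ 2 = 0 → z₁ = 0 ∧ z₂ = 0) :
    commutator ↥(Cfsg.Omega F ⇑(QfMinus m F a b)) = ⊤ :=
  Omega_perfect' (nondeg_minus a b hab) (frameMinus hm a b) (hgen_minus hm a b hab)

theorem exists_isIsom_minus (a b a' b' : F)
    (hab : ∀ z₁ z₂ : F, z₁ ^ 2 + a * z₁ * z₂ + b * z₂ ^ 2 = 0 → z₁ = 0 ∧ z₂ = 0)
    (hab' : ∀ z₁ z₂ : F, z₁ ^ 2 + a' * z₁ * z₂ + b' * z₂ ^ 2 = 0 → z₁ = 0 ∧ z₂ = 0) :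
    ∃ T : GL ((Fin m ⊕ Fin m) ⊕ Fin 2) F, IsIsom (QfMinus m F a b) (QfMinus m F a' b') T := by
  obtain ⟨w₁, w₂, h1, h2, hw⟩ := exists_binary_gram a b a' b' hab hab'
  refine ⟨twGL m w₁ w₂ hw, fun v => ?_⟩
  have h3 : ((twGL m w₁ w₂ hw : GL ((Fin m ⊕ Fin m) ⊕ Fin 2) F) : Matrix _ _ F) *ᵥ v =
      twL m w₁ w₂ v := by
    show (LinearMap.toMatrix' (twL m w₁ w₂)) *ᵥ v = _
    rw [LinearMap.toMatrix'_mulVec]
  rw [h3, QfMinus_coe, QfMinus_coe, quadFormMinus_twL, h1, h2]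

/-- conjugation by an automorphism maps a normal subgroup of the automorphism group to itself -/
theorem map_conj_normal {G : Type*} [Group G] (N : Subgroup G) [hN : N.Normal] (α : G) :
    N.map (MulAut.conj α).toMonoidHom = N := by
  ext β
  constructor
  · rintro ⟨β', hβ', rfl⟩
    exact hN.conj_mem β' hβ' α
  · intro hβ
    refine ⟨α⁻¹ * β * α, ?_, ?_⟩
    · have := hN.conj_mem β hβ α⁻¹
      rwa [inv_inv] at this
    · show α * (α⁻¹ * β * α) * α⁻¹ = β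
      group

theorem map_Inn_congr {G H : Type*} [Group G] [Group H] (ψ : G ≃* H) :
    (Cfsg.Inn G).map (MulAut.congr ψ).toMonoidHom = Cfsg.Inn H := by
  ext β
  constructor
  · rintro ⟨_, ⟨g, rfl⟩, rfl⟩
    refine ⟨ψ g, ?_⟩
    ext y
    simp [MulAut.congr]
  · rintro ⟨h, rfl⟩
    refine ⟨_, ⟨ψ.symm h, rfl⟩, ?_⟩
    ext y
    simp [MulAut.congr]

/-- the image of the sign-one similarities is carried to itself by every isomorphism -/
theorem map_DD_of_iso [DecidableEq F] {ι : Type} [Fintype ι] [DecidableEq ι]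
    {Q Q' : QuadraticForm F (ι → F)} {T : GL ι F} (hT : IsIsom Q Q' T)
    (htop : Cfsg.gammaPOmega F ⇑Q = ⊤) (hex : ∃ v : ι → F, Q v ≠ 0)
    (hex' : ∃ v : ι → F, Q' v ≠ 0) (k : ℕ)
    (ψ : Cfsg.POmega F ⇑Q ≃* Cfsg.POmega F ⇑Q') :
    (IDG.DD Q hex k).map (MulAut.congr ψ).toMonoidHom = IDG.DD Q' hex' k := by
  have hN := DD_normal (Q := Q) htop hex k
  apply Subgroup.map_injective (f := (MulAut.congr (tauT hT)).toMonoidHom)
    (MulAut.congr (tauT hT)).injective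
  rw [map_DD hT hex hex' k, Subgroup.map_map]
  have hcomp : (MulAut.congr (tauT hT)).toMonoidHom.comp (MulAut.congr ψ).toMonoidHom =
      (MulAut.conj (ψ.trans (tauT hT) : MulAut (Cfsg.POmega F ⇑Q))).toMonoidHom := by
    ext β y
    simp [MulAut.congr]
  rw [hcomp]
  exact map_conj_normal _ _

theorem inndiag_char_two' (h2 : (2 : F) = 0) (a b : F)
    (hab : ∀ z₁ z₂ : F, z₁ ^ 2 + a * z₁ * z₂ + b * z₂ ^ 2 = 0 → z₁ = 0 ∧ z₂ = 0) (hm : 2 ≤ m) :
    Cfsg.inndiagPOmegaMinus m F a b =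
      (Cfsg.Omega F ⇑(QfMinus m F a b)).map (PA.cAut (QfMinus m F a b)) :=
  (inndiag_minus_char_two h2 a b hab hm).trans (PA.Inn_eq (QfMinus m F a b))

/-- **`Inndiag` is carried to `Inndiag` by every isomorphism of the groups `PΩ⁻`** -/
theorem map_inndiag_minus (hm : 3 ≤ m) (a b a' b' : F)
    (hab : ∀ z₁ z₂ : F, z₁ ^ 2 + a * z₁ * z₂ + b * z₂ ^ 2 = 0 → z₁ = 0 ∧ z₂ = 0)
    (hab' : ∀ z₁ z₂ : F, z₁ ^ 2 + a' * z₁ * z₂ + b' * z₂ ^ 2 = 0 → z₁ = 0 ∧ z₂ = 0)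
    (ψ : Cfsg.POmega F (Cfsg.quadFormMinus m F a b) ≃* Cfsg.POmega F (Cfsg.quadFormMinus m F a' b')) :
    (Cfsg.inndiagPOmegaMinus m F a b).map (MulAut.congr ψ).toMonoidHom =
      Cfsg.inndiagPOmegaMinus m F a' b' := by
  classical
  rcases two_ne_zero_or F with h2 | ⟨h2, hodd⟩
  · rw [inndiag_minus_char_two h2 a b hab (by omega), inndiag_minus_char_two h2 a' b' hab' (by omega)]
    exact map_Inn_congr ψ
  · obtain ⟨T, hT⟩ := exists_isIsom_minus (m := m) a b a' b' hab hab'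
    have key := map_DD_of_iso hT (Cfsg.Agent.S2696.result hm a b hab)
      (hex_minus a b) (hex_minus a' b') (m + 1) ψ
    have e1 := inndiagM_eq (m := m) hodd h2 a b hab
    have e2 := inndiagM_eq (m := m) hodd h2 a' b' hab'
    rw [e1, e2]
    exact key

/-- `Inndiag` lies in the image of the similarity group -/
theorem exists_cG_of_mem_inndiag (a b : F)
    (δ : MulAut (Cfsg.POmega F (Cfsg.quadFormMinus m F a b)))
    (hδ : δ ∈ Cfsg.inndiagPOmegaMinus m F a b) :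
    ∃ g : ↥(GO (QfMinus m F a b)), cG (QfMinus m F a b) g = δ := by
  have hle : Cfsg.inndiagPOmegaMinus m F a b ≤ (cG (QfMinus m F a b)).range := by
    unfold Cfsg.inndiagPOmegaMinus Cfsg.autSubgroupOf
    refine (Subgroup.closure_le _).2 ?_
    rintro β ⟨g, hg, -, hβ⟩
    exact ⟨⟨g, hg⟩, ((induced_iff (QfMinus m F a b) g hg β).1 hβ).symm⟩
  exact hle hδ

/-- `Inndiag` has index at most two in `PGO`, a reflection representing the other coset -/
theorem inndiag_or (hm : 3 ≤ m) (a b : F)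
    (hab : ∀ z₁ z₂ : F, z₁ ^ 2 + a * z₁ * z₂ + b * z₂ ^ 2 = 0 → z₁ = 0 ∧ z₂ = 0)
    (B : ↥(GO (QfMinus m F a b))) (v : (Fin m ⊕ Fin m) ⊕ Fin 2 → F)
    (hv : QfMinus m F a b v ≠ 0) :
    cG (QfMinus m F a b) B ∈ Cfsg.inndiagPOmegaMinus m F a b ∨
      cG (QfMinus m F a b) (B * oGO (QfMinus m F a b) (reflO (QfMinus m F a b) v hv)) ∈
        Cfsg.inndiagPOmegaMinus m F a b := by
  classical
  have hQ := nondeg_minus (m := m) a b hab
  have hex := hex_minus (m := m) a b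
  have hcardι : Fintype.card ((Fin m ⊕ Fin m) ⊕ Fin 2) = 2 * (m + 1) := by
    rw [Fintype.card_sum, Fintype.card_sum, Fintype.card_fin, Fintype.card_fin]; omega
  rcases two_ne_zero_or F with h2 | ⟨h2, hodd⟩
  · rw [inndiag_char_two' h2 a b hab (by omega)]
    obtain ⟨l, s, hmat, hcG⟩ := exists_scal_mul h2 (QfMinus m F a b) hex B
    have hidx := Cfsg.Agent.Helper28.CD2.index_Omega (QfMinus m F a b) h2 hQ
      (Or.inr (by rw [hcardι]; omega)) ⟨Sum.inr 0⟩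
    have hr := Cfsg.Agent.Helper28.CD2.reflO_not_mem_Omega (QfMinus m F a b) h2 hQ v hv
    by_cases hs : s ∈ Cfsg.Omega F ⇑(QfMinus m F a b)
    · left
      rw [hcG]
      exact ⟨s, hs, rfl⟩
    · right
      rw [map_mul, hcG, cG_oGO, ← map_mul]
      refine ⟨_, ?_, rfl⟩
      exact (Subgroup.mul_mem_iff_of_index_two hidx).2 (by tauto)
  · rw [inndiagM_eq hodd h2 a b hab]
    rcases sgn_cases (QfMinus m F a b) hQ hcardι B with h | h
    · left
      exact IDG.cG_mem_DD _ _ _ B h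
    · right
      apply IDG.cG_mem_DD
      rw [sgn_mul _ hex, h]
      have : oGO (QfMinus m F a b) (reflO (QfMinus m F a b) v hv) =
          reflGO (QfMinus m F a b) v hv := rfl
      rw [this, sgn_reflGO _ hex]
      ring

end Cfsg.Agent.Helper28.FM
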