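import Mathlib
import Cfsg.Prelude.Def_LieTypeDatum
import Cfsg.Agent.Helper28.FieldM10

set_option autoImplicit false
set_option linter.unusedSectionVars false

/-! Minus type: coset conjugacy of the field automorphisms. -/

namespace Cfsg.Agent.Helper28.FM

open Matrix Module Cfsg.Agent.Helper28.IsoTransport Cfsg.Agent.Helper28.Spin
  Cfsg.Agent.Helper28.IDM Cfsg.Agent.Helper28.PG Cfsg.Agent.Helper28.Sg
  Cfsg.Agent.Helper28.SSim Cfsg.Agent.Helper28.GC Cfsg.Agent.Helper28.FO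

universe u

section gen

variable {F : Type*} [Field F] {ι : Type} [Fintype ι] [DecidableEq ι]
  {Q : QuadraticForm F (ι → F)}

theorem compatHom_of_stdAt {σ : F ≃+* F} (hσ : IsStdAt Q σ) :
    CompatHom (σ : F →+* F) Q Q := fun w => hσ w

/-- a reflection in a `σ`-fixed vector is fixed by the entrywise action of `σ` -/
theorem tauS_reflGO [Fintype F] [DecidableEq F] {σ : F ≃+* F} (hσ : IsStdAt Q σ) (v : ι → F)
    (hv : Q v ≠ 0) (hfix : vs σ v = v) : tauS hσ (reflGO Q v hv) = reflGO Q v hv := by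
  apply Subtype.ext
  rw [tauS_coe]
  apply Units.ext
  rw [mapGL_val]
  show (Cfsg.reflectionMatrix ⇑Q v).map (σ : F →+* F) = Cfsg.reflectionMatrix ⇑Q v
  rw [refl_map_hom (compatHom_of_stdAt hσ)]
  congr 1

theorem phiS_comm_of_fixed {σ : F ≃+* F} (hσ : IsStdAt Q σ) (g : ↥(GO Q))
    (hg : tauS hσ g = g) : cG Q g * phiS hσ * (cG Q g)⁻¹ = phiS hσ := by
  have h := phiS_cG hσ g
  rw [hg] at h
  rw [← h]
  group

end gen

variable {F : Type u} [Field F] [Fintype F] {m : ℕ}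

theorem conj_mul_of_comm {G : Type*} [Group G] (B R φ : G) (h : φ * R = R * φ) :
    B * φ * B⁻¹ = (B * R) * φ * (B * R)⁻¹ := by
  rw [_root_.mul_inv_rev, mul_assoc B R φ, ← h]
  group

theorem isStdAt_minus (a b : F) {σ : F ≃+* F} (ha : σ a = a) (hb : σ b = b) :
    IsStdAt (QfMinus m F a b) σ := by
  intro v
  have := quadFormMinus_sigma m a b σ v
  rw [ha, hb] at this
  exact this

/-- a rational non-singular vector -/
def v0 (m : ℕ) (F : Type*) [Field F] : (Fin m ⊕ Fin m) ⊕ Fin 2 → F := Pi.single (Sum.inr 0) 1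

theorem Q_v0 (a b : F) : QfMinus m F a b (v0 m F) ≠ 0 := by
  rw [QfMinus_coe]
  unfold Cfsg.quadFormMinus v0
  simp

theorem vs_v0 (σ : F ≃+* F) : vs σ (v0 m F) = v0 m F := by
  funext i
  unfold vs v0
  by_cases h : i = Sum.inr 0
  · subst h
    simp
  · simp [h]

/-- **coset conjugacy for the standard field automorphism of the minus form** -/
theorem coset_conj_std (hm : 3 ≤ m) (a b : F)
    (hab : ∀ z₁ z₂ : F, z₁ ^ 2 + a * z₁ * z₂ + b * z₂ ^ 2 = 0 → z₁ = 0 ∧ z₂ = 0)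
    {σ : F ≃+* F} (ha : σ a = a) (hb : σ b = b)
    (δ : MulAut (Cfsg.POmega F ⇑(QfMinus m F a b)))
    (hδ : δ ∈ Cfsg.inndiagPOmegaMinus m F a b)
    (h : (δ * phiS (isStdAt_minus (m := m) a b ha hb)) ^ orderOf σ = 1) :
    ∃ k : MulAut (Cfsg.POmega F ⇑(QfMinus m F a b)), k ∈ Cfsg.inndiagPOmegaMinus m F a b ∧
      δ * phiS (isStdAt_minus (m := m) a b ha hb) =
        k * phiS (isStdAt_minus (m := m) a b ha hb) * k⁻¹ := by
  classical
  have hσ := isStdAt_minus (m := m) a b ha hb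
  have hQ := nondeg_minus (m := m) a b hab
  obtain ⟨g, rfl⟩ := exists_cG_of_mem_inndiag a b δ hδ
  obtain ⟨B, hB⟩ := conj_of_pow_eq_one_S hQ (frameMinus hm a b) (hperf_minus hm a b hab) hσ
    (fun P hP hsim => hclass_minus m a b hab hQ σ ha hb P hP hsim) g h
  rcases inndiag_or hm a b hab B (v0 m F) (Q_v0 a b) with h1 | h1
  · exact ⟨_, h1, hB⟩
  · refine ⟨_, h1, ?_⟩
    have hR : phiS hσ * cG (QfMinus m F a b) (reflGO (QfMinus m F a b) (v0 m F) (Q_v0 a b)) =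
        cG (QfMinus m F a b) (reflGO (QfMinus m F a b) (v0 m F) (Q_v0 a b)) * phiS hσ := by
      have h3 := phiS_cG hσ (reflGO (QfMinus m F a b) (v0 m F) (Q_v0 a b))
      rw [tauS_reflGO hσ _ _ (vs_v0 σ)] at h3
      exact h3
    have hoR : oGO (QfMinus m F a b) (reflO (QfMinus m F a b) (v0 m F) (Q_v0 a b)) =
        reflGO (QfMinus m F a b) (v0 m F) (Q_v0 a b) := rfl
    have hmul := (cG (QfMinus m F a b)).map_mul B
      (reflGO (QfMinus m F a b) (v0 m F) (Q_v0 a b))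
    rw [hB, hoR, hmul]
    exact conj_mul_of_comm _ _ _ hR

theorem orderOf_phiS_minus (hm : 3 ≤ m) (a b : F)
    (hab : ∀ z₁ z₂ : F, z₁ ^ 2 + a * z₁ * z₂ + b * z₂ ^ 2 = 0 → z₁ = 0 ∧ z₂ = 0)
    {σ : F ≃+* F} (ha : σ a = a) (hb : σ b = b) :
    orderOf (phiS (isStdAt_minus (m := m) a b ha hb)) = orderOf σ :=
  orderOf_phiS (nondeg_minus a b hab) (frameMinus hm a b) (hperf_minus hm a b hab) _

/-- the standard field automorphism, on the carrier written with `Cfsg.quadFormMinus` -/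
noncomputable def phiM (a b : F) {σ : F ≃+* F} (ha : σ a = a) (hb : σ b = b) :
    MulAut (Cfsg.POmega F (Cfsg.quadFormMinus m F a b)) :=
  phiS (isStdAt_minus (m := m) a b ha hb)

theorem orderOf_phiM (hm : 3 ≤ m) (a b : F)
    (hab : ∀ z₁ z₂ : F, z₁ ^ 2 + a * z₁ * z₂ + b * z₂ ^ 2 = 0 → z₁ = 0 ∧ z₂ = 0)
    {σ : F ≃+* F} (ha : σ a = a) (hb : σ b = b) :
    orderOf (phiM (m := m) a b ha hb) = orderOf σ :=
  orderOf_phiS_minus hm a b hab ha hb

theorem coset_conj_std' (hm : 3 ≤ m) (a b : F)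
    (hab : ∀ z₁ z₂ : F, z₁ ^ 2 + a * z₁ * z₂ + b * z₂ ^ 2 = 0 → z₁ = 0 ∧ z₂ = 0)
    {σ : F ≃+* F} (ha : σ a = a) (hb : σ b = b)
    (δ : MulAut (Cfsg.POmega F (Cfsg.quadFormMinus m F a b)))
    (hδ : δ ∈ Cfsg.inndiagPOmegaMinus m F a b)
    (h : (δ * phiM (m := m) a b ha hb) ^ orderOf σ = 1) :
    ∃ k : MulAut (Cfsg.POmega F (Cfsg.quadFormMinus m F a b)),
      k ∈ Cfsg.inndiagPOmegaMinus m F a b ∧
      δ * phiM (m := m) a b ha hb = k * phiM (m := m) a b ha hb * k⁻¹ :=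
  coset_conj_std hm a b hab ha hb δ hδ h

/-- unfolding the field-automorphism class: the conjugate by `ψ` is the standard one -/
theorem exists_std_of_class (a b : F) (x : MulAut (Cfsg.POmega F (Cfsg.quadFormMinus m F a b)))
    (hx : Cfsg.IsFieldAutClassPOmegaMinus m x) :
    ∃ (a' b' : F) (ψ : Cfsg.POmega F (Cfsg.quadFormMinus m F a b) ≃*
        Cfsg.POmega F (Cfsg.quadFormMinus m F a' b')) (σ : F ≃+* F)
      (_ : ∀ z₁ z₂ : F, z₁ ^ 2 + a' * z₁ * z₂ + b' * z₂ ^ 2 = 0 → z₁ = 0 ∧ z₂ = 0)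
      (ha : σ a' = a') (hb : σ b' = b'), σ ≠ 1 ∧
        MulAut.congr ψ x = phiM (m := m) a' b' ha hb := by
  obtain ⟨a', b', ψ, σ, hab', hσ, ha, hb, hf⟩ := hx
  refine ⟨a', b', ψ, σ, hab', ha, hb, hσ, ?_⟩
  exact (isFieldAut_iff' (isStdAt_minus (m := m) a' b' ha hb) _).1 hf

/-- transport of a coset-conjugacy statement along an isomorphism -/
theorem coset_conj_transport {G G' : Type*} [Group G] [Group G'] (Ψ : G ≃* G')
    (D : Subgroup G) (D' : Subgroup G') (hK : D.map Ψ.toMonoidHom = D') (x δ : G) (hδ : δ ∈ D)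
    (hstd : ∀ δ' ∈ D', (δ' * Ψ x) ^ orderOf x = 1 → ∃ k ∈ D', δ' * Ψ x = k * Ψ x * k⁻¹) :
    orderOf (δ * x) = orderOf x ↔ ∃ k : G, k ∈ D ∧ δ * x = k * x * k⁻¹ := by
  constructor
  · intro hord
    have hδ' : Ψ δ ∈ D' := by
      rw [← hK]
      exact ⟨δ, hδ, rfl⟩
    have hpow : (Ψ δ * Ψ x) ^ orderOf x = 1 := by
      rw [← map_mul, ← map_pow, ← hord, pow_orderOf_eq_one, map_one]
    obtain ⟨k, hk, hconj⟩ := hstd _ hδ' hpow
    rw [← hK] at hk
    obtain ⟨k₀, hk₀, rfl⟩ := hk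
    refine ⟨k₀, hk₀, ?_⟩
    apply Ψ.injective
    rw [map_mul, map_mul, map_mul, map_inv]
    exact hconj
  · rintro ⟨k, -, hk⟩
    rw [hk]
    exact Cfsg.Agent.Helper7.FieldPSL.orderOf_conj' k x

/-- **coset conjugacy of the field automorphisms, minus type** -/
theorem coset_conj_minus (hm : 3 ≤ m) (a b : F)
    (hab : ∀ z₁ z₂ : F, z₁ ^ 2 + a * z₁ * z₂ + b * z₂ ^ 2 = 0 → z₁ = 0 ∧ z₂ = 0)
    (x δ : MulAut (Cfsg.POmega F (Cfsg.quadFormMinus m F a b)))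
    (hx : Cfsg.IsFieldAutClassPOmegaMinus m x)
    (hδ : δ ∈ Cfsg.inndiagPOmegaMinus m F a b) :
    orderOf (δ * x) = orderOf x ↔
      Cfsg.IsConjUnder (Cfsg.inndiagPOmegaMinus m F a b) x (δ * x) := by
  obtain ⟨a', b', ψ, σ, hab', ha, hb, hσ1, hψx⟩ := exists_std_of_class a b x hx
  have hK := map_inndiag_minus hm a b a' b' hab hab' ψ
  have hox : orderOf x = orderOf σ := by
    rw [← orderOf_phiM hm a' b' hab' ha hb, ← hψx]
    exact ((MulAut.congr ψ).orderOf_eq x).symm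
  apply coset_conj_transport (MulAut.congr ψ) _ _ hK x δ hδ
  intro δ' hδ' hpow
  rw [hψx, hox] at *
  exact coset_conj_std' hm a' b' hab' ha hb δ' hδ' hpow

end Cfsg.Agent.Helper28.FM
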