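import Mathlib
import Cfsg.Prelude.Def_LieTypeDatum
import Cfsg.Agent.Helper28.FieldO6

set_option autoImplicit false
set_option linter.unusedSectionVars false

/-! The centralizer of the standard field automorphism in the image of the similarity group is
the image of the similarity group over the fixed field. -/

namespace Cfsg.Agent.Helper28.FO

open Matrix Module Cfsg.Agent.Helper28.SSim Cfsg.Agent.Helper28.Sg Cfsg.Agent.Helper28.PG
  Cfsg.Agent.Helper28.GC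
open Cfsg.Agent.Helper7.FieldPSL (FDesc)

variable {F : Type*} [Field F] {F₀ : Type*} [Field F₀] {ι : Type} [Fintype ι] [DecidableEq ι]

section kernel

variable {Q : QuadraticForm F (ι → F)}

theorem cG_eq_one_iff (hQ : (QuadraticMap.polarBilin Q).Nondegenerate) (fr : Frame3 Q)
    (hperf : commutator ↥(Cfsg.Omega F ⇑Q) = ⊤) (g : ↥(GO Q)) :
    cG Q g = 1 ↔ ∃ c : Fˣ, ((g : GL ι F) : Matrix ι ι F) = (c : F) • 1 := by
  constructor
  · intro h
    obtain ⟨l, hl⟩ := ker_cG Q hQ fr hperf g h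
    have hM : ((g : GL ι F) : Matrix ι ι F) = l • 1 := by
      apply Cfsg.Agent.Helper28.Spin.matrix_ext_mulVec
      intro x
      rw [hl x, Matrix.smul_mulVec, Matrix.one_mulVec]
    have hl0 : l ≠ 0 := by
      rintro rfl
      rw [zero_smul] at hM
      have hex : ∃ v : ι → F, Q v ≠ 0 := by
        refine ⟨fr.e 0 + fr.f 0, ?_⟩
        rw [Cfsg.Agent.Helper28.Sg.Q_add, fr.Qe, fr.Qf]
        simp only [B, fr.Bef]
        simp
      obtain ⟨v, hv⟩ := hex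
      have h1 := mu_spec Q g v
      rw [hM, Matrix.zero_mulVec, map_zero] at h1
      rcases mul_eq_zero.1 h1.symm with h2 | h2
      · exact (mu Q g).ne_zero h2
      · exact hv h2
    exact ⟨Units.mk0 l hl0, hM⟩
  · rintro ⟨c, hc⟩
    have : g = scal Q c := by
      apply Subtype.ext
      apply Units.ext
      rw [hc, scal_val]
    rw [this, cG_scal]

theorem cG_mem_centralizer_iff (hQ : (QuadraticMap.polarBilin Q).Nondegenerate) (fr : Frame3 Q)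
    (hperf : commutator ↥(Cfsg.Omega F ⇑Q) = ⊤) (hstd : IsStd Q) (σ : F ≃+* F) (g : ↥(GO Q)) :
    cG Q g ∈ Subgroup.centralizer {phiO hstd σ} ↔
      ∃ c : Fˣ, ((mapGL σ (g : GL ι F) : GL ι F) : Matrix ι ι F) =
        (c : F) • ((g : GL ι F) : Matrix ι ι F) := by
  rw [Subgroup.mem_centralizer_singleton_iff, phiO_cG, mul_left_inj]
  have h1 : cG Q g = cG Q (tauGO hstd σ g) ↔ cG Q (g⁻¹ * tauGO hstd σ g) = 1 := by
    rw [map_mul, map_inv, inv_mul_eq_one]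
  rw [h1, cG_eq_one_iff hQ fr hperf]
  have hcoe : (((g⁻¹ * tauGO hstd σ g : ↥(GO Q)) : GL ι F) : Matrix ι ι F) =
      (((g : GL ι F)⁻¹ : GL ι F) : Matrix ι ι F) *
        ((mapGL σ (g : GL ι F) : GL ι F) : Matrix ι ι F) := rfl
  rw [hcoe]
  have hgg : ((g : GL ι F) : Matrix ι ι F) * (((g : GL ι F)⁻¹ : GL ι F) : Matrix ι ι F) = 1 := by
    rw [← Units.val_mul, mul_inv_cancel, Units.val_one]
  have hgg' : (((g : GL ι F)⁻¹ : GL ι F) : Matrix ι ι F) * ((g : GL ι F) : Matrix ι ι F) = 1 := by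
    rw [← Units.val_mul, inv_mul_cancel, Units.val_one]
  constructor
  · rintro ⟨c, hc⟩
    refine ⟨c, ?_⟩
    calc ((mapGL σ (g : GL ι F) : GL ι F) : Matrix ι ι F)
        = ((g : GL ι F) : Matrix ι ι F) * ((((g : GL ι F)⁻¹ : GL ι F) : Matrix ι ι F) *
            ((mapGL σ (g : GL ι F) : GL ι F) : Matrix ι ι F)) := by
          rw [← Matrix.mul_assoc, hgg, Matrix.one_mul]
      _ = (c : F) • ((g : GL ι F) : Matrix ι ι F) := by
          rw [hc, Matrix.mul_smul, Matrix.mul_one]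
  · rintro ⟨c, hc⟩
    refine ⟨c, ?_⟩
    rw [hc, Matrix.mul_smul, hgg']

end kernel

section centralizer

variable (E : FDesc F F₀) {Q : QuadraticForm F (ι → F)} {Q₀ : QuadraticForm F₀ (ι → F₀)}

/-- the map `GO(Q₀) → Aut(PΩ(Q))` -/
noncomputable def psiO (hc : Compat E Q Q₀) : ↥(GO Q₀) →* MulAut (Cfsg.POmega F ⇑Q) :=
  (cG Q).comp (jGO E hc)

theorem psiO_apply (hc : Compat E Q Q₀) (k : ↥(GO Q₀)) : psiO E hc k = cG Q (jGO E hc k) := rfl

theorem range_psiO [Nonempty ι] (hQ : (QuadraticMap.polarBilin Q).Nondegenerate) (fr : Frame3 Q)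
    (hperf : commutator ↥(Cfsg.Omega F ⇑Q) = ⊤) (hstd : IsStd Q) (hc : Compat E Q Q₀)
    (hex₀ : ∃ w₀ : ι → F₀, Q₀ w₀ ≠ 0) (hσ : 0 < orderOf E.σ) :
    (psiO E hc).range = Cfsg.pgoAut F ⇑Q ⊓ Subgroup.centralizer {phiO hstd E.σ} := by
  ext y
  rw [Subgroup.mem_inf, pgoAut_eq]
  constructor
  · rintro ⟨k, rfl⟩
    refine ⟨⟨jGO E hc k, rfl⟩, ?_⟩
    rw [psiO_apply, cG_mem_centralizer_iff hQ fr hperf]
    exact ⟨1, by rw [jGO_coe, mapGL_jGLg, Units.val_one, one_smul]⟩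
  · rintro ⟨⟨x, rfl⟩, hx⟩
    obtain ⟨c, hcx⟩ := (cG_mem_centralizer_iff hQ fr hperf hstd _ x).1 hx
    obtain ⟨μ, k, hk⟩ := exists_smul_jGLg E hσ x.1 c hcx
    have hxk : (x : GL ι F) = (scal Q μ : GL ι F) * jGLg E k := by
      apply Units.ext
      rw [Units.val_mul, scal_val, hk, Matrix.smul_mul, Matrix.one_mul]
    have hkG : jGLg E k ∈ GO Q := by
      have : jGLg E k = ((scal Q μ : ↥(GO Q)) : GL ι F)⁻¹ * (x : GL ι F) := by
        rw [hxk, inv_mul_cancel_left]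
      rw [this]
      exact Subgroup.mul_mem _ (Subgroup.inv_mem _ (scal Q μ).2) x.2
    have hk0 : k ∈ GO Q₀ := mem_GO_of_jGLg E hc hex₀ hkG
    refine ⟨⟨k, hk0⟩, ?_⟩
    rw [psiO_apply]
    have h1 : x = scal Q μ * jGO E hc ⟨k, hk0⟩ := Subtype.ext hxk
    rw [h1, map_mul, cG_scal, one_mul]

theorem ker_psiO [Nonempty ι] (hQ : (QuadraticMap.polarBilin Q).Nondegenerate) (fr : Frame3 Q)
    (hperf : commutator ↥(Cfsg.Omega F ⇑Q) = ⊤) (hc : Compat E Q Q₀)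
    (hQ₀ : (QuadraticMap.polarBilin Q₀).Nondegenerate) (fr₀ : Frame3 Q₀)
    (hperf₀ : commutator ↥(Cfsg.Omega F₀ ⇑Q₀) = ⊤) :
    (psiO E hc).ker = (cG Q₀).ker := by
  ext k
  rw [MonoidHom.mem_ker, MonoidHom.mem_ker, psiO_apply, cG_eq_one_iff hQ fr hperf,
    cG_eq_one_iff hQ₀ fr₀ hperf₀, jGO_coe]
  exact jGLg_scalar_iff E k.1

/-- **the centralizer of the standard field automorphism in the image of `GO(Q)` is the image
of `GO(Q₀)`** -/
theorem nonempty_centralizer_equiv [Nonempty ι] (hQ : (QuadraticMap.polarBilin Q).Nondegenerate)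
    (fr : Frame3 Q) (hperf : commutator ↥(Cfsg.Omega F ⇑Q) = ⊤) (hstd : IsStd Q)
    (hc : Compat E Q Q₀) (hQ₀ : (QuadraticMap.polarBilin Q₀).Nondegenerate) (fr₀ : Frame3 Q₀)
    (hperf₀ : commutator ↥(Cfsg.Omega F₀ ⇑Q₀) = ⊤) (hσ : 0 < orderOf E.σ) :
    Nonempty (↥(Cfsg.pgoAut F ⇑Q ⊓ Subgroup.centralizer {phiO hstd E.σ}) ≃*
      ↥(Cfsg.pgoAut F₀ ⇑Q₀)) := by
  have hex₀ : ∃ w₀ : ι → F₀, Q₀ w₀ ≠ 0 := by
    refine ⟨fr₀.e 0 + fr₀.f 0, ?_⟩
    rw [Cfsg.Agent.Helper28.Sg.Q_add, fr₀.Qe, fr₀.Qf]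
    simp only [B, fr₀.Bef]
    simp
  have e1 : ↥(GO Q₀) ⧸ (cG Q₀).ker ≃* ↥(GO Q₀) ⧸ (psiO E hc).ker :=
    QuotientGroup.quotientMulEquivOfEq (ker_psiO E hQ fr hperf hc hQ₀ fr₀ hperf₀).symm
  have e2 := QuotientGroup.quotientKerEquivRange (psiO E hc)
  have e3 := MulEquiv.subgroupCongr (range_psiO E hQ fr hperf hstd hc hex₀ hσ)
  have e4 := QuotientGroup.quotientKerEquivRange (cG Q₀)
  have e5 := MulEquiv.subgroupCongr (pgoAut_eq Q₀).symm
  exact ⟨((e4.symm.trans e1).trans (e2.trans e3)).symm.trans e5⟩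

end centralizer

end Cfsg.Agent.Helper28.FO
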