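import Mathlib
import Cfsg.Prelude.Def_LieTypeDatum
import Cfsg.Agent.Helper28.FieldM11
import Cfsg.Agent.Helper28.FieldO7
import Cfsg.Agent.Helper7.FieldPSL5

set_option autoImplicit false
set_option linter.unusedSectionVars false

/-! Generic group lemmas for centralizers and class counts; the order of a field automorphism
fixing an anisotropic binary form is odd; the centralizer of `phiS` in the image of `GO`. -/

namespace Cfsg.Agent.Helper28.FM

open Matrix Module Cfsg.Agent.Helper28.IsoTransport Cfsg.Agent.Helper28.Spin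
  Cfsg.Agent.Helper28.PG Cfsg.Agent.Helper28.Sg
  Cfsg.Agent.Helper28.SSim Cfsg.Agent.Helper28.GC Cfsg.Agent.Helper28.FO
open Cfsg.Agent.Helper7.FieldPSL (FDesc)

section generic

variable {X Y : Type*} [Group X] [Group Y]

/-- no splitting when every conjugate under `H` is a conjugate under `K` -/
theorem splitClassCount_eq_one (H K : Subgroup X) (x : X)
    (h : ∀ g ∈ H, Cfsg.IsConjUnder K x (g * x * g⁻¹)) :
    Cfsg.splitClassCount H K x = 1 := by
  unfold Cfsg.splitClassCount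
  rw [Nat.card_eq_one_iff_unique]
  have hx : Cfsg.IsConjUnder H x x := ⟨1, H.one_mem, by group⟩
  refine ⟨⟨?_⟩, ⟨Quot.mk _ ⟨x, hx⟩⟩⟩
  have key : ∀ q : Quot fun y z : {y : X // Cfsg.IsConjUnder H x y} =>
      Cfsg.IsConjUnder K y.1 z.1, q = Quot.mk _ ⟨x, hx⟩ := by
    intro q
    induction q using Quot.inductionOn with
    | h y =>
      obtain ⟨y, g, hg, rfl⟩ := y
      symm
      apply Quot.sound
      exact h g hg
  intro q₁ q₂
  rw [key q₁, key q₂]

theorem map_inf_centralizer (Ψ : X ≃* Y) (D : Subgroup X) (x : X) :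
    (D ⊓ Subgroup.centralizer {x}).map Ψ.toMonoidHom =
      D.map Ψ.toMonoidHom ⊓ Subgroup.centralizer {Ψ x} := by
  ext y
  constructor
  · rintro ⟨g, ⟨hg1, hg2⟩, rfl⟩
    refine ⟨⟨g, hg1, rfl⟩, ?_⟩
    have hg2' : g ∈ Subgroup.centralizer {x} := hg2
    show Ψ g ∈ Subgroup.centralizer {Ψ x}
    rw [Subgroup.mem_centralizer_singleton_iff] at hg2' ⊢
    rw [← map_mul, ← map_mul, hg2']
  · rintro ⟨⟨g, hg1, rfl⟩, hg2⟩
    refine ⟨g, ⟨hg1, ?_⟩, rfl⟩
    have hg2' : Ψ g ∈ Subgroup.centralizer {Ψ x} := hg2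
    show g ∈ Subgroup.centralizer {x}
    rw [Subgroup.mem_centralizer_singleton_iff] at hg2' ⊢
    apply Ψ.injective
    rw [map_mul, map_mul]
    exact hg2'

/-- the centralizer in `D` is carried to the centralizer in the image of `D` -/
theorem nonempty_centralizer_congr (Ψ : X ≃* Y) (D : Subgroup X) (D' : Subgroup Y)
    (hD : D.map Ψ.toMonoidHom = D') (x : X) :
    Nonempty (↥(D ⊓ Subgroup.centralizer {x}) ≃* ↥(D' ⊓ Subgroup.centralizer {Ψ x})) := by
  have e1 := Ψ.subgroupMap (D ⊓ Subgroup.centralizer {x})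
  have h : (D ⊓ Subgroup.centralizer {x}).map Ψ.toMonoidHom =
      D' ⊓ Subgroup.centralizer {Ψ x} := by
    rw [map_inf_centralizer, hD]
  exact ⟨e1.trans (MulEquiv.subgroupCongr h)⟩

/-- two homomorphisms with the same kernel have isomorphic images of any subgroup -/
theorem nonempty_map_equiv_of_ker_eq {G : Type*} [Group G] (f : G →* X) (g : G →* Y)
    (hk : f.ker = g.ker) (I : Subgroup G) : Nonempty (↥(I.map f) ≃* ↥(I.map g)) := by
  have hf : Function.Surjective (f.subgroupMap I) := f.subgroupMap_surjective I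
  have hg : Function.Surjective (g.subgroupMap I) := g.subgroupMap_surjective I
  have hker : (f.subgroupMap I).ker = (g.subgroupMap I).ker := by
    ext y
    rw [MonoidHom.mem_ker, MonoidHom.mem_ker, Subtype.ext_iff, Subtype.ext_iff]
    show f y = 1 ↔ g y = 1
    rw [← MonoidHom.mem_ker, ← MonoidHom.mem_ker, hk]
  have e1 := QuotientGroup.quotientKerEquivOfSurjective _ hf
  have e2 := QuotientGroup.quotientKerEquivOfSurjective _ hg
  exact ⟨(e1.symm.trans (QuotientGroup.quotientMulEquivOfEq hker)).trans e2⟩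

end generic

section odd_order

variable {F : Type*} [Field F] [Fintype F]

/-- a field automorphism fixing the coefficients of an anisotropic binary form is not an
involution -/
theorem orderOf_ne_two_of_aniso (a b : F)
    (hab : ∀ z₁ z₂ : F, z₁ ^ 2 + a * z₁ * z₂ + b * z₂ ^ 2 = 0 → z₁ = 0 ∧ z₂ = 0)
    (σ : F ≃+* F) (ha : σ a = a) (hb : σ b = b) : orderOf σ ≠ 2 := by
  classical
  intro h2
  have hfin : Finite (F ≃+* F) := Cfsg.Agent.Helper7.FieldPSL.finite_ringAut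
  have : Fintype ↥(Subgroup.zpowers σ) := Fintype.ofFinite _
  have h1 := FixedPoints.finrank_eq_card (↥(Subgroup.zpowers σ)) F
  have hc : Fintype.card ↥(Subgroup.zpowers σ) = orderOf σ := by
    rw [← Nat.card_eq_fintype_card, Nat.card_zpowers]
  rw [hc, h2] at h1
  set K := FixedPoints.subfield (↥(Subgroup.zpowers σ)) F with hK
  have : Fintype ↥K := Fintype.ofFinite _
  have hmem : ∀ x : F, x ∈ K ↔ σ x = x := by
    intro x
    constructor
    · intro hx
      exact hx ⟨σ, Subgroup.mem_zpowers σ⟩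
    · intro hx
      rintro ⟨τ, hτ⟩
      have h5 : σ ∈ MulAction.stabilizer (F ≃+* F) x := by
        rw [MulAction.mem_stabilizer_iff]
        exact hx
      have h6 : τ ∈ MulAction.stabilizer (F ≃+* F) x :=
        (Subgroup.zpowers_le.2 h5) hτ
      exact MulAction.mem_stabilizer_iff.1 h6
  set a₀ : ↥K := ⟨a, (hmem a).2 ha⟩ with ha₀
  set b₀ : ↥K := ⟨b, (hmem b).2 hb⟩ with hb₀
  have hab₀ : ∀ z₁ z₂ : ↥K, z₁ ^ 2 + a₀ * z₁ * z₂ + b₀ * z₂ ^ 2 = 0 → z₁ = 0 ∧ z₂ = 0 := by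
    intro z₁ z₂ h
    have h' := congrArg (fun t : ↥K => (t : F)) h
    simp only [Subfield.coe_add, Subfield.coe_mul, SubmonoidClass.coe_pow, ZeroMemClass.coe_zero]
      at h'
    obtain ⟨e1, e2⟩ := hab (z₁ : F) (z₂ : F) h'
    exact ⟨Subtype.ext e1, Subtype.ext e2⟩
  obtain ⟨α, β, e1, e2, -⟩ := exists_roots' (F := ↥K) (K := F) h1 a₀ b₀ hab₀
  have e1' : α + β = -a := e1
  have e2' : α * β = b := e2
  have := hab α 1 (by
    rw [← e2']
    have : a = -(α + β) := by rw [e1']; ring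
    rw [this]
    ring)
  exact one_ne_zero this.2

end odd_order

section centralizer

variable {F : Type*} [Field F] {F₀ : Type*} [Field F₀] {ι : Type} [Fintype ι] [DecidableEq ι]
  {Q : QuadraticForm F (ι → F)}

theorem cG_mem_centralizer_iff_S (hQ : (QuadraticMap.polarBilin Q).Nondegenerate) (fr : Frame3 Q)
    (hperf : commutator ↥(Cfsg.Omega F ⇑Q) = ⊤) {σ : F ≃+* F} (hσ : IsStdAt Q σ) (g : ↥(GO Q)) :
    cG Q g ∈ Subgroup.centralizer {phiS hσ} ↔
      ∃ c : Fˣ, ((mapGL σ (g : GL ι F) : GL ι F) : Matrix ι ι F) =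
        (c : F) • ((g : GL ι F) : Matrix ι ι F) := by
  rw [Subgroup.mem_centralizer_singleton_iff, phiS_cG, mul_left_inj]
  have h1 : cG Q g = cG Q (tauS hσ g) ↔ cG Q (g⁻¹ * tauS hσ g) = 1 := by
    rw [map_mul, map_inv, inv_mul_eq_one]
  rw [h1, cG_eq_one_iff hQ fr hperf]
  have hcoe : (((g⁻¹ * tauS hσ g : ↥(GO Q)) : GL ι F) : Matrix ι ι F) =
      (((g : GL ι F)⁻¹ : GL ι F) : Matrix ι ι F) *
        ((mapGL σ (g : GL ι F) : GL ι F) : Matrix ι ι F) := rfl
  rw [hcoe]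
  have hgg : ((g : GL ι F) : Matrix ι ι F) * (((g : GL ι F)⁻¹ : GL ι F) : Matrix ι ι F) = 1 := by
    rw [← Units.val_mul, mul_inv_cancel, Units.val_one]
  have hgg' : (((g : GL ι F)⁻¹ : GL ι F) : Matrix ι ι F) * ((g : GL ι F) : Matrix ι ι F) = 1 := by
    rw [← Units.val_mul, inv_mul_cancel, Units.val_one]
  constructor
  · rintro ⟨c, hc⟩
    refine ⟨c, ?_⟩
    calc ((mapGL σ (g : GL ι F) : GL ι F) : Matrix ι ι F)
        = ((g : GL ι F) : Matrix ι ι F) * ((((g : GL ι F)⁻¹ : GL ι F) : Matrix ι ι F) *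
            ((mapGL σ (g : GL ι F) : GL ι F) : Matrix ι ι F)) := by
          rw [← Matrix.mul_assoc, hgg, Matrix.one_mul]
      _ = (c : F) • ((g : GL ι F) : Matrix ι ι F) := by
          rw [hc, Matrix.mul_smul, Matrix.mul_one]
  · rintro ⟨c, hc⟩
    refine ⟨c, ?_⟩
    rw [hc, Matrix.mul_smul, hgg']

variable (E : FDesc F F₀) {Q₀ : QuadraticForm F₀ (ι → F₀)}

theorem range_psiS [Nonempty ι] (hQ : (QuadraticMap.polarBilin Q).Nondegenerate) (fr : Frame3 Q)
    (hperf : commutator ↥(Cfsg.Omega F ⇑Q) = ⊤) (hσ : IsStdAt Q E.σ) (hc : Compat E Q Q₀)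
    (hex₀ : ∃ w₀ : ι → F₀, Q₀ w₀ ≠ 0) (hpos : 0 < orderOf E.σ) :
    (psiO E hc).range = Cfsg.pgoAut F ⇑Q ⊓ Subgroup.centralizer {phiS hσ} := by
  ext y
  rw [Subgroup.mem_inf, pgoAut_eq]
  constructor
  · rintro ⟨k, rfl⟩
    refine ⟨⟨jGO E hc k, rfl⟩, ?_⟩
    rw [psiO_apply, cG_mem_centralizer_iff_S hQ fr hperf]
    exact ⟨1, by rw [jGO_coe, mapGL_jGLg, Units.val_one, one_smul]⟩
  · rintro ⟨⟨x, rfl⟩, hx⟩
    obtain ⟨c, hcx⟩ := (cG_mem_centralizer_iff_S hQ fr hperf hσ x).1 hx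
    obtain ⟨μ, k, hk⟩ := exists_smul_jGLg E hpos x.1 c hcx
    have hxk : (x : GL ι F) = (scal Q μ : GL ι F) * jGLg E k := by
      apply Units.ext
      rw [Units.val_mul, scal_val, hk, Matrix.smul_mul, Matrix.one_mul]
    have hkG : jGLg E k ∈ GO Q := by
      have : jGLg E k = ((scal Q μ : ↥(GO Q)) : GL ι F)⁻¹ * (x : GL ι F) := by
        rw [hxk, inv_mul_cancel_left]
      rw [this]
      exact Subgroup.mul_mem _ (Subgroup.inv_mem _ (scal Q μ).2) x.2
    have hk0 : k ∈ GO Q₀ := mem_GO_of_jGLg E hc hex₀ hkG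
    refine ⟨⟨k, hk0⟩, ?_⟩
    rw [psiO_apply]
    have h1 : x = scal Q μ * jGO E hc ⟨k, hk0⟩ := Subtype.ext hxk
    rw [h1, map_mul, cG_scal, one_mul]

end centralizer

end Cfsg.Agent.Helper28.FM
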