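import Mathlib
import Cfsg.Prelude.Def_LieTypeDatum
import Cfsg.Agent.Helper28.FieldO7
import Cfsg.Agent.Helper28.GammaCount6

set_option autoImplicit false
set_option linter.unusedSectionVars false

/-! Base change of reflections and of products of reflections along the embedding of the fixed
field; persistence of non-squares in extensions of odd degree. -/

namespace Cfsg.Agent.Helper28.FO

open Matrix Module Cfsg.Agent.Helper28.SSim Cfsg.Agent.Helper28.Sg Cfsg.Agent.Helper28.PG
  Cfsg.Agent.Helper28.GC Cfsg.Agent.Helper28.Spin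
open Cfsg.Agent.Helper7.FieldPSL (FDesc)

variable {F : Type*} [Field F] [Fintype F] {F₀ : Type*} [Field F₀] [Fintype F₀]
  {ι : Type} [Fintype ι] [DecidableEq ι]
  (E : FDesc F F₀) {Q : QuadraticForm F (ι → F)} {Q₀ : QuadraticForm F₀ (ι → F₀)}

theorem compat_polar (hc : Compat E Q Q₀) (x y : ι → F₀) :
    QuadraticMap.polar ⇑Q (jv E x) (jv E y) = E.j (QuadraticMap.polar ⇑Q₀ x y) := by
  unfold QuadraticMap.polar
  rw [← jv_add, hc, hc, hc, map_sub, map_sub]

theorem refl_map (hc : Compat E Q Q₀) (w : ι → F₀) :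
    (Cfsg.reflectionMatrix ⇑Q₀ w).map E.j = Cfsg.reflectionMatrix ⇑Q (jv E w) := by
  ext i l
  unfold Cfsg.reflectionMatrix Cfsg.polarVec
  simp only [Matrix.map_apply, Matrix.sub_apply, Matrix.smul_apply, Matrix.vecMulVec_apply,
    smul_eq_mul]
  rw [map_sub, map_mul, map_mul, map_inv₀, ← hc, ← compat_polar E hc, jv_single]
  congr 1
  by_cases h : i = l
  · subst h
    simp
  · simp [h]

/-- base change of nonsingular vectors -/
def jNS (hc : Compat E Q Q₀) (v : NS Q₀) : NS Q :=
  ⟨jv E v.1, by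
    rw [hc]
    intro h
    exact v.2 (E.j.injective (by rw [h, map_zero]))⟩

theorem jGLg_reflO (hc : Compat E Q Q₀) (v : NS Q₀) :
    jGLg E ((reflO Q₀ v.1 v.2 : ↥(Cfsg.isometryGroup F₀ ⇑Q₀)) : GL ι F₀) =
      ((reflO Q (jNS E hc v).1 (jNS E hc v).2 : ↥(Cfsg.isometryGroup F ⇑Q)) : GL ι F) := by
  apply Units.ext
  rw [jGLg_coe, reflO_val, reflO_val, refl_map E hc]
  rfl

theorem jGLg_prodO (hc : Compat E Q Q₀) (L : List (NS Q₀)) :
    jGLg E ((prodO Q₀ L : ↥(Cfsg.isometryGroup F₀ ⇑Q₀)) : GL ι F₀) =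
      ((prodO Q (L.map (jNS E hc)) : ↥(Cfsg.isometryGroup F ⇑Q)) : GL ι F) := by
  induction L with
  | nil =>
    rw [List.map_nil, prodO_nil, prodO_nil]
    exact map_one _
  | cons v L ih =>
    rw [List.map_cons, prodO_cons, prodO_cons, Subgroup.coe_mul, Subgroup.coe_mul, map_mul, ih,
      jGLg_reflO E hc]

theorem normProd_map (hc : Compat E Q Q₀) (L : List (NS Q₀)) :
    normProd Q (L.map (jNS E hc)) = E.j (normProd Q₀ L) := by
  induction L with
  | nil => simp [normProd]
  | cons v L ih =>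
    simp only [normProd, List.map_cons, List.prod_cons, map_mul] at ih ⊢
    rw [ih]
    congr 1
    exact hc v.1

omit [Fintype F] [Fintype F₀] in
theorem sigma_pow_neg (σ : F ≃+* F) (t : F) (h : σ t = -t) (n : ℕ) :
    (σ ^ n : F ≃+* F) t = (-1) ^ n * t := by
  induction n with
  | zero => simp
  | succ n ih =>
    rw [pow_succ', RingAut.mul_apply, ih, map_mul, map_pow, map_neg, map_one, h]
    ring

omit [Fintype F] [Fintype F₀] in
/-- a non-square of the fixed field of an automorphism of odd order stays a non-square -/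
theorem not_isSquare_j (hodd : Odd (orderOf E.σ)) (h2 : (2 : F) ≠ 0) (ν₀ : F₀)
    (hν : ¬ IsSquare ν₀) : ¬ IsSquare (E.j ν₀) := by
  rintro ⟨t, ht⟩
  have h1 : E.σ t * E.σ t = t * t := by
    rw [← map_mul, ← ht, E.fix_j]
  have h3 : (E.σ t - t) * (E.σ t + t) = 0 := by linear_combination h1
  rcases mul_eq_zero.1 h3 with h4 | h4
  · obtain ⟨t₀, ht₀⟩ := E.exists_j t (sub_eq_zero.1 h4)
    apply hν
    refine ⟨t₀, E.j.injective ?_⟩
    rw [ht, map_mul, ht₀]
  · have h5 : E.σ t = -t := by linear_combination h4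
    have h6 := sigma_pow_neg E.σ t h5 (orderOf E.σ)
    rw [pow_orderOf_eq_one, hodd.neg_one_pow] at h6
    have h7 : t = 0 := by
      have h8 : (2 : F) * t = 0 := by
        have : (1 : F ≃+* F) t = t := rfl
        rw [this] at h6
        linear_combination h6
      rcases mul_eq_zero.1 h8 with h9 | h9
      · exact absurd h9 h2
      · exact h9
    apply hν
    refine ⟨0, E.j.injective ?_⟩
    rw [ht, h7, mul_zero, mul_zero, map_zero]

end Cfsg.Agent.Helper28.FO
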