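import Mathlib
import Cfsg.Prelude.Def_LieTypeDatum
import Cfsg.Agent.Helper28.FieldM12
import Cfsg.Agent.Helper28.FieldO8

set_option autoImplicit false
set_option linter.unusedSectionVars false

/-! Odd characteristic: membership in the image of the sign-one similarities, and its
compatibility with the base change from the fixed field. -/

namespace Cfsg.Agent.Helper28.FM

open Matrix Module Cfsg.Agent.Helper28.IsoTransport Cfsg.Agent.Helper28.Spin
  Cfsg.Agent.Helper28.PG Cfsg.Agent.Helper28.Sg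
  Cfsg.Agent.Helper28.SSim Cfsg.Agent.Helper28.GC Cfsg.Agent.Helper28.FO
open Cfsg.Agent.Helper7.FieldPSL (FDesc)

variable {F : Type*} [Field F] [Fintype F] [DecidableEq F] {F₀ : Type*} [Field F₀] [Fintype F₀]
  [DecidableEq F₀] {ι : Type} [Fintype ι] [DecidableEq ι]

section DD

variable {Q : QuadraticForm F (ι → F)}

theorem cG_mem_DD_iff (hQ : (QuadraticMap.polarBilin Q).Nondegenerate) (fr : Frame3 Q)
    (hex : ∃ v : ι → F, Q v ≠ 0) (hperf : commutator ↥(Cfsg.Omega F ⇑Q) = ⊤) {k : ℕ}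
    (hk : Fintype.card ι = 2 * k) (g : ↥(GO Q)) :
    cG Q g ∈ IDG.DD Q hex k ↔ sgn Q k g = 1 := by
  constructor
  · intro h
    obtain ⟨g', hg', e⟩ := IDG.exists_of_mem_DD Q hex k _ h
    have h3 : cG Q (g'⁻¹ * g) = 1 := by
      rw [map_mul, map_inv, e, inv_mul_cancel]
    have h4 := (ker_of_cG Q hQ fr hex hperf hk _ h3).2
    have h5 : g = g' * (g'⁻¹ * g) := by group
    rw [h5, sgn_mul Q hex, hg', h4, one_mul]
  · intro h
    exact IDG.cG_mem_DD Q hex k g h

end DD

section basechange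

variable (E : FDesc F F₀) {Q : QuadraticForm F (ι → F)} {Q₀ : QuadraticForm F₀ (ι → F₀)}

theorem mu_jGO (hc : Compat E Q Q₀) (hex : ∃ v : ι → F, Q v ≠ 0) (g : ↥(GO Q₀)) :
    mu Q (jGO E hc g) = Units.map (E.j : F₀ →* F) (mu Q₀ g) := by
  apply mu_of_sim Q hex
  have h1 : Q.comp (Matrix.toLin' (((jGO E hc g : ↥(GO Q)) : GL ι F) : Matrix ι ι F)) =
      ((Units.map (E.j : F₀ →* F) (mu Q₀ g) : Fˣ) : F) • Q := by
    apply quad_ext_rational E
    intro w
    rw [QuadraticMap.comp_apply, Matrix.toLin'_apply, _root_.smul_apply, jGO_coe, jGLg_coe,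
      ← jv_mulVec, hc, mu_spec, map_mul, hc]
    rfl
  intro v
  have h2 := congrArg (fun P : QuadraticForm F (ι → F) => P v) h1
  simp only [QuadraticMap.comp_apply, Matrix.toLin'_apply, _root_.smul_apply, smul_eq_mul] at h2
  exact h2

theorem sgn_jGO (hc : Compat E Q Q₀) (hex : ∃ v : ι → F, Q v ≠ 0) (k : ℕ) (g : ↥(GO Q₀)) :
    sgn Q k (jGO E hc g) = E.j (sgn Q₀ k g) := by
  unfold PG.sgn
  rw [mu_jGO E hc hex, jGO_coe, jGLg_coe, map_mul, map_pow, map_inv₀, Units.coe_map]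
  congr 1
  have := RingHom.map_det E.j ((g : GL ι F₀) : Matrix ι ι F₀)
  rw [this]
  rfl

theorem sgn_jGO_eq_one_iff (hc : Compat E Q Q₀) (hex : ∃ v : ι → F, Q v ≠ 0) (k : ℕ)
    (g : ↥(GO Q₀)) : sgn Q k (jGO E hc g) = 1 ↔ sgn Q₀ k g = 1 := by
  rw [sgn_jGO E hc hex]
  constructor
  · intro h
    exact E.j.injective (by rw [h, map_one])
  · intro h
    rw [h, map_one]

end basechange

end Cfsg.Agent.Helper28.FM
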