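import Mathlib
import Cfsg.Prelude.Def_LieTypeDatum
import Cfsg.Agent.Helper28.FieldO8
import Cfsg.Agent.Helper28.GammaCount4
import Cfsg.Agent.Helper7.GraphSplit1

set_option autoImplicit false
set_option linter.unusedSectionVars false

/-! Class splitting of the standard field automorphism of an odd-dimensional orthogonal group. -/

namespace Cfsg.Agent.Helper28.FO

open Matrix Module Cfsg.Agent.Helper28.SSim Cfsg.Agent.Helper28.Sg Cfsg.Agent.Helper28.PG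
  Cfsg.Agent.Helper28.GC Cfsg.Agent.Helper28.Spin Cfsg.Agent.Helper28.PA
open Cfsg.Agent.Helper7.FieldPSL (FDesc)

variable {F : Type*} [Field F] [Fintype F] [DecidableEq F] {F₀ : Type*} [Field F₀] [Fintype F₀]
  [DecidableEq F₀] {ι : Type} [Fintype ι] [DecidableEq ι]

section inner

variable (Q : QuadraticForm F (ι → F))

/-- the similarities inducing inner automorphisms -/
noncomputable def Ssub : Subgroup ↥(GO Q) := (Cfsg.Inn (Cfsg.POmega F ⇑Q)).comap (cG Q)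

instance Ssub_normal : (Ssub Q).Normal := Subgroup.Normal.comap inferInstance _

theorem mem_Ssub (g : ↥(GO Q)) : g ∈ Ssub Q ↔ cG Q g ∈ Cfsg.Inn (Cfsg.POmega F ⇑Q) := Iff.rfl

theorem map_Ssub : (Ssub Q).map (cG Q) = Cfsg.Inn (Cfsg.POmega F ⇑Q) := by
  unfold Ssub
  rw [Subgroup.map_comap_eq, ← pgoAut_eq, inf_eq_right]
  exact Inn_le_pgoAut Q

theorem index_Ssub_odd (hQ : (QuadraticMap.polarBilin Q).Nondegenerate) (fr : Frame3 Q)
    (h2 : (2 : F) ≠ 0) (h6 : 6 ≤ Fintype.card ι) {k : ℕ} (hk : Fintype.card ι = 2 * k + 1) :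
    (Ssub Q).index = 2 := by
  have hex : ∃ v : ι → F, Q v ≠ 0 := by
    refine ⟨fr.e 0 + fr.f 0, ?_⟩
    rw [Cfsg.Agent.Helper28.Sg.Q_add, fr.Qe, fr.Qf]
    simp only [B, fr.Bef]
    simp
  unfold Ssub
  rw [Subgroup.index_comap, ← pgoAut_eq]
  have h1 := Subgroup.card_mul_index
    ((Cfsg.Inn (Cfsg.POmega F ⇑Q)).subgroupOf (Cfsg.pgoAut F ⇑Q))
  have h3 : Nat.card ↥((Cfsg.Inn (Cfsg.POmega F ⇑Q)).subgroupOf (Cfsg.pgoAut F ⇑Q)) =
      Nat.card (Cfsg.POmega F ⇑Q) := by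
    rw [← card_Inn_of_center_eq_bot (center_POmega_eq_bot Q hQ fr (hgen_odd h2 hQ))]
    exact Nat.card_congr (Subgroup.subgroupOfEquivOfLe (Inn_le_pgoAut Q)).toEquiv
  rw [h3, card_pgoAut_odd Q hQ h2 hex h6 hk] at h1
  have hpos : 0 < Nat.card (Cfsg.POmega F ⇑Q) := Nat.card_pos
  unfold Subgroup.relIndex
  have h4 : Nat.card (Cfsg.POmega F ⇑Q) *
      ((Cfsg.Inn (Cfsg.POmega F ⇑Q)).subgroupOf (Cfsg.pgoAut F ⇑Q)).index =
      Nat.card (Cfsg.POmega F ⇑Q) * 2 := by rw [h1]; ring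
  exact Nat.eq_of_mul_eq_mul_left hpos h4

/-- in odd dimension, a special isometry outside `Ω` does not induce an inner automorphism -/
theorem cAut_not_mem_Inn (hQ : (QuadraticMap.polarBilin Q).Nondegenerate) (h2 : (2 : F) ≠ 0)
    (h6 : 6 ≤ Fintype.card ι) (hodd : Odd (Fintype.card ι))
    (s : ↥(Cfsg.isometryGroup F ⇑Q)) (hdet : detHom Q s = 1) (hs : s ∉ Cfsg.Omega F ⇑Q) :
    cAut Q s ∉ Cfsg.Inn (Cfsg.POmega F ⇑Q) := by
  intro h
  rw [PA.Inn_eq] at h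
  obtain ⟨t, ht, hts⟩ := h
  have hker : s * t⁻¹ ∈ (cAut Q).ker := by
    rw [MonoidHom.mem_ker, map_mul, map_inv, hts, mul_inv_cancel]
  have hdt : detHom Q t = 1 := hom_eq_one_of_mem_Omega Q (detHom Q) ht
  rcases PA.ker_cases Q hQ h2 h6 _ hker with h1 | h1
  · apply hs
    have : s * t⁻¹ = 1 := Subtype.ext (Units.ext h1)
    have hst : s = t := by rw [← mul_inv_eq_one]; exact this
    rw [hst]
    exact ht
  · have h3 : ((detHom Q (s * t⁻¹) : Fˣ) : F) = 1 := by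
      rw [map_mul, map_inv, hdet, hdt]
      simp
    rw [detHom_val, h1, Matrix.det_neg, Matrix.det_one, mul_one, hodd.neg_one_pow] at h3
    apply h2
    linear_combination -h3

end inner

section split

variable (E : FDesc F F₀) {Q : QuadraticForm F (ι → F)} {Q₀ : QuadraticForm F₀ (ι → F₀)}

theorem split_eq_index (x : MulAut (Cfsg.POmega F ⇑Q)) :
    Cfsg.splitClassCount (Cfsg.pgoAut F ⇑Q) (Cfsg.Inn (Cfsg.POmega F ⇑Q)) x =
      (Ssub Q ⊔ (Subgroup.centralizer {x}).comap (cG Q)).index := by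
  have h1 := Cfsg.Agent.Helper7.GraphSplit.splitClassCount_eq_index (cG Q) (Ssub Q) x
  rw [map_Ssub, ← pgoAut_eq] at h1
  exact h1

theorem frame_ex (fr₀ : Frame3 Q₀) : ∃ w₀ : ι → F₀, Q₀ w₀ ≠ 0 := by
  refine ⟨fr₀.e 0 + fr₀.f 0, ?_⟩
  rw [Cfsg.Agent.Helper28.Sg.Q_add, fr₀.Qe, fr₀.Qf]
  simp only [B, fr₀.Bef]
  simp

omit [DecidableEq F] [DecidableEq F₀] [Fintype F] in
include E in
theorem two_ne_zero_sub (h2 : (2 : F) ≠ 0) : (2 : F₀) ≠ 0 := by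
  intro h
  apply h2
  have := congrArg E.j h
  rw [map_zero, map_ofNat] at this
  exact this

/-- **odd order: no splitting** -/
theorem split_odd_order (hQ : (QuadraticMap.polarBilin Q).Nondegenerate) (fr : Frame3 Q)
    (hperf : commutator ↥(Cfsg.Omega F ⇑Q) = ⊤) (hstd : IsStd Q) (hc : Compat E Q Q₀)
    (fr₀ : Frame3 Q₀) (h2 : (2 : F) ≠ 0) (h6 : 6 ≤ Fintype.card ι) {k : ℕ}
    (hk : Fintype.card ι = 2 * k + 1) (hσodd : Odd (orderOf E.σ)) :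
    Cfsg.splitClassCount (Cfsg.pgoAut F ⇑Q) (Cfsg.Inn (Cfsg.POmega F ⇑Q)) (phiO hstd E.σ) = 1 := by
  have h2₀ : (2 : F₀) ≠ 0 := two_ne_zero_sub E h2
  have hchar : ringChar F₀ ≠ 2 := by
    intro h
    apply h2₀
    have := ringChar.Nat.cast_ringChar (R := F₀)
    rw [h] at this
    exact_mod_cast this
  obtain ⟨ν₀, hν₀⟩ := FiniteField.exists_nonsquare hchar
  have hν0 : ν₀ ≠ 0 := by
    rintro rfl
    exact hν₀ ⟨0, by simp⟩
  set u₀ : ι → F₀ := (1 : F₀) • fr₀.e 0 + (1 : F₀) • fr₀.f 0 with hu₀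
  set v₀ : ι → F₀ := (1 : F₀) • fr₀.e 0 + ν₀ • fr₀.f 0 with hv₀
  have hQu : Q₀ u₀ = 1 := by
    rw [hu₀, Q_lin2, fr₀.Qe, fr₀.Qf]
    simp only [B, fr₀.Bef]
    simp
  have hQv : Q₀ v₀ = ν₀ := by
    rw [hv₀, Q_lin2, fr₀.Qe, fr₀.Qf]
    simp only [B, fr₀.Bef]
    simp
  set nu : NS Q₀ := ⟨u₀, by rw [hQu]; exact one_ne_zero⟩ with hnu
  set nv : NS Q₀ := ⟨v₀, by rw [hQv]; exact hν0⟩ with hnv
  set s : ↥(Cfsg.isometryGroup F ⇑Q) :=
    reflO Q (jNS E hc nu).1 (jNS E hc nu).2 * reflO Q (jNS E hc nv).1 (jNS E hc nv).2 with hs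
  have hsΩ : s ∉ Cfsg.Omega F ⇑Q := by
    apply refl_mul_not_mem Q h2
    have e1 : Q (jNS E hc nu).1 = 1 := by
      show Q (jv E u₀) = 1
      rw [hc, hQu, map_one]
    have e2 : Q (jNS E hc nv).1 = E.j ν₀ := by
      show Q (jv E v₀) = E.j ν₀
      rw [hc, hQv]
    rw [e1, e2, one_mul]
    exact not_isSquare_j E hσodd h2 ν₀ hν₀
  have hdet : detHom Q s = 1 := by
    rw [hs, map_mul, detHom_reflO, detHom_reflO]
    simp
  have hgS : oGO Q s ∉ Ssub Q := by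
    rw [mem_Ssub, cG_oGO]
    exact cAut_not_mem_Inn Q hQ h2 h6 ⟨k, hk⟩ s hdet hsΩ
  have hgC : oGO Q s ∈ (Subgroup.centralizer {phiO hstd E.σ}).comap (cG Q) := by
    rw [Subgroup.mem_comap, cG_mem_centralizer_iff hQ fr hperf hstd E.σ]
    refine ⟨1, ?_⟩
    rw [Units.val_one, one_smul, oGO_coe]
    have e3 : (s : GL ι F) = jGLg E (((reflO Q₀ nu.1 nu.2 : ↥(Cfsg.isometryGroup F₀ ⇑Q₀)) : GL ι F₀) *
        ((reflO Q₀ nv.1 nv.2 : ↥(Cfsg.isometryGroup F₀ ⇑Q₀)) : GL ι F₀)) := by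
      rw [map_mul, jGLg_reflO E hc, jGLg_reflO E hc]
      rfl
    rw [e3, mapGL_jGLg]
  rw [split_eq_index]
  set K := Ssub Q ⊔ (Subgroup.centralizer {phiO hstd E.σ}).comap (cG Q) with hK
  have h := Subgroup.relIndex_mul_index (le_sup_left : Ssub Q ≤ K)
  rw [index_Ssub_odd Q hQ fr h2 h6 hk] at h
  have hdvd : K.index ∣ 2 := ⟨_, by rw [← h, mul_comm]⟩
  rcases (Nat.dvd_prime Nat.prime_two).1 hdvd with h1 | h1
  · exact h1
  · exfalso
    rw [h1] at h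
    have h3 : (Ssub Q).relIndex K = 1 := by
      have h4 : (Ssub Q).relIndex K * 2 = 1 * 2 := by rw [one_mul]; exact h
      exact Nat.eq_of_mul_eq_mul_right (by norm_num) h4
    rw [Subgroup.relIndex_eq_one] at h3
    exact hgS (h3 (Subgroup.mem_sup_right hgC))

/-- the image of the rational similarities is inner when the automorphism is an involution -/
theorem psiO_mem_Inn [Nonempty ι] (hQ : (QuadraticMap.polarBilin Q).Nondegenerate) (fr : Frame3 Q)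
    (hperf : commutator ↥(Cfsg.Omega F ⇑Q) = ⊤) (hc : Compat E Q Q₀)
    (hQ₀ : (QuadraticMap.polarBilin Q₀).Nondegenerate) (fr₀ : Frame3 Q₀)
    (hperf₀ : commutator ↥(Cfsg.Omega F₀ ⇑Q₀) = ⊤) (h2 : (2 : F) ≠ 0) {k : ℕ}
    (hk : Fintype.card ι = 2 * k + 1) (hσ2 : orderOf E.σ = 2) (g : ↥(GO Q₀)) :
    psiO E hc g ∈ Cfsg.Inn (Cfsg.POmega F ⇑Q) := by
  have h2₀ : (2 : F₀) ≠ 0 := two_ne_zero_sub E h2
  have hex₀ := frame_ex fr₀
  obtain ⟨s, hs, hgs⟩ := exists_SO_of_odd Q₀ hQ₀ hex₀ hk g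
  have hker : g⁻¹ * s ∈ (psiO E hc).ker := by
    rw [ker_psiO E hQ fr hperf hc hQ₀ fr₀ hperf₀, MonoidHom.mem_ker, map_mul, map_inv, hgs,
      inv_mul_cancel]
  have hpsi : psiO E hc g = psiO E hc s := by
    rw [MonoidHom.mem_ker, map_mul, map_inv, inv_mul_eq_one] at hker
    exact hker
  rw [hpsi]
  rw [mem_SOg_iff] at hs
  obtain ⟨hs1, hs2⟩ := hs
  set s' : ↥(Cfsg.isometryGroup F₀ ⇑Q₀) := ⟨(s : GL ι F₀), hs1⟩ with hs'
  obtain ⟨L, hL⟩ := Cfsg.Agent.Helper28.CDG.cd_list Q₀ h2₀ hQ₀ s'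
  have hdet : detHom Q₀ s' = 1 := by
    apply Units.ext
    rw [detHom_val]
    exact hs2
  have heven : Even L.length := by
    rw [hL, detHom_prodO] at hdet
    by_contra hodd
    rw [Nat.not_even_iff_odd] at hodd
    rw [hodd.neg_one_pow] at hdet
    exact neg_one_units_ne h2₀ hdet
  have hσsq : ∀ x, E.σ (E.σ x) = x := by
    intro x
    have := pow_orderOf_eq_one E.σ
    rw [hσ2, pow_two] at this
    have h3 := congrArg (fun τ : F ≃+* F => τ x) this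
    exact h3
  have hσne : E.σ ≠ RingEquiv.refl F := by
    intro h
    have h3 : E.σ = 1 := h
    rw [h3, orderOf_one] at hσ2
    omega
  set t : ↥(Cfsg.isometryGroup F ⇑Q) := prodO Q (L.map (jNS E hc)) with ht
  have htΩ : t ∈ Cfsg.Omega F ⇑Q := by
    rw [ht, prodO_mem_Omega_iff Q h2]
    refine ⟨by rw [List.length_map]; exact heven, ?_⟩
    rw [normProd_map]
    exact isSquare_of_fixed E.σ h2 hσsq hσne _ (E.fix_j _)
  have hst : jGO E hc s = oGO Q t := by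
    apply Subtype.ext
    rw [jGO_coe, oGO_coe, ht, ← jGLg_prodO E hc, ← hL]
  rw [psiO_apply, hst, cG_oGO]
  exact cAut_mem_Inn Q t htΩ

/-- **order two: two classes** -/
theorem split_order_two [Nonempty ι] (hQ : (QuadraticMap.polarBilin Q).Nondegenerate)
    (fr : Frame3 Q) (hperf : commutator ↥(Cfsg.Omega F ⇑Q) = ⊤) (hstd : IsStd Q)
    (hc : Compat E Q Q₀) (hQ₀ : (QuadraticMap.polarBilin Q₀).Nondegenerate) (fr₀ : Frame3 Q₀)
    (hperf₀ : commutator ↥(Cfsg.Omega F₀ ⇑Q₀) = ⊤) (h2 : (2 : F) ≠ 0)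
    (h6 : 6 ≤ Fintype.card ι) {k : ℕ} (hk : Fintype.card ι = 2 * k + 1)
    (hσ2 : orderOf E.σ = 2) :
    Cfsg.splitClassCount (Cfsg.pgoAut F ⇑Q) (Cfsg.Inn (Cfsg.POmega F ⇑Q)) (phiO hstd E.σ) = 2 := by
  rw [split_eq_index]
  have hle : (Subgroup.centralizer {phiO hstd E.σ}).comap (cG Q) ≤ Ssub Q := by
    intro g hg
    have h1 : cG Q g ∈ Cfsg.pgoAut F ⇑Q ⊓ Subgroup.centralizer {phiO hstd E.σ} := by
      refine ⟨?_, hg⟩
      rw [pgoAut_eq]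
      exact ⟨g, rfl⟩
    rw [← range_psiO E hQ fr hperf hstd hc (frame_ex fr₀) (by rw [hσ2]; norm_num)] at h1
    obtain ⟨k₀, hk₀⟩ := h1
    rw [mem_Ssub, ← hk₀]
    exact psiO_mem_Inn E hQ fr hperf hc hQ₀ fr₀ hperf₀ h2 hk hσ2 k₀
  rw [sup_eq_left.2 hle]
  exact index_Ssub_odd Q hQ fr h2 h6 hk

end split

end Cfsg.Agent.Helper28.FO
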