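import Mathlib
import Cfsg.Prelude.Def_LieTypeDatum
import Cfsg.Agent.Helper28.FieldM13
import Cfsg.Agent.Helper28.FieldO9

set_option autoImplicit false
set_option linter.unusedSectionVars false

/-! Characteristic two: base change and `Ω`; the inner-diagonal group and the base change from the
fixed field (both characteristics). -/

namespace Cfsg.Agent.Helper28.FM

open Matrix Module Cfsg.Agent.Helper28.IsoTransport Cfsg.Agent.Helper28.Spin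
  Cfsg.Agent.Helper28.PG Cfsg.Agent.Helper28.Sg Cfsg.Agent.Helper28.IDM
  Cfsg.Agent.Helper28.SSim Cfsg.Agent.Helper28.GC Cfsg.Agent.Helper28.FO
open Cfsg.Agent.Helper7.FieldPSL (FDesc)

section char2

variable {F : Type*} [Field F] [Fintype F] {F₀ : Type*} [Field F₀] [Fintype F₀]
  {ι : Type} [Fintype ι] [DecidableEq ι]
  {φ : F₀ →+* F} {Q₀ : QuadraticForm F₀ (ι → F₀)} {Q : QuadraticForm F (ι → F)}

theorem bcO_mem_Omega (hc : CompatHom φ Q₀ Q) (s : ↥(Cfsg.isometryGroup F₀ ⇑Q₀))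
    (hs : s ∈ Cfsg.Omega F₀ ⇑Q₀) : bcO hc s ∈ Cfsg.Omega F ⇑Q := by
  have h1 : (Cfsg.Omega F₀ ⇑Q₀).map (bcO hc) ≤ Cfsg.Omega F ⇑Q := by
    show (commutator _).map (bcO hc) ≤ commutator _
    rw [commutator_def, commutator_def, Subgroup.map_commutator]
    exact Subgroup.commutator_mono le_top le_top
  exact h1 ⟨s, hs, rfl⟩

theorem bcO_mem_Omega_iff (h2₀ : (2 : F₀) = 0) (h2 : (2 : F) = 0)
    (hQ₀ : (QuadraticMap.polarBilin Q₀).Nondegenerate)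
    (hQ : (QuadraticMap.polarBilin Q).Nondegenerate) (hcard : Fintype.card ι ≠ 4)
    (hne : Nonempty ι) (hc : CompatHom φ Q₀ Q) (v₀ : ι → F₀) (hv₀ : Q₀ v₀ ≠ 0)
    (s : ↥(Cfsg.isometryGroup F₀ ⇑Q₀)) :
    bcO hc s ∈ Cfsg.Omega F ⇑Q ↔ s ∈ Cfsg.Omega F₀ ⇑Q₀ := by
  constructor
  · intro hs
    by_contra hcon
    have hidx := Cfsg.Agent.Helper28.CD2.index_Omega Q₀ h2₀ hQ₀ (Or.inr hcard) hne
    have hr := Cfsg.Agent.Helper28.CD2.reflO_not_mem_Omega Q₀ h2₀ hQ₀ v₀ hv₀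
    have h3 : s * reflO Q₀ v₀ hv₀ ∈ Cfsg.Omega F₀ ⇑Q₀ :=
      (Subgroup.mul_mem_iff_of_index_two hidx).2 (by tauto)
    have h4 := bcO_mem_Omega hc _ h3
    rw [map_mul] at h4
    have hv' : Q (mv φ v₀) ≠ 0 := by
      rw [hc]
      intro h
      exact hv₀ (φ.injective (by rw [h, map_zero]))
    have h5 : bcO hc (reflO Q₀ v₀ hv₀) ∈ Cfsg.Omega F ⇑Q := by
      have := Subgroup.mul_mem _ (Subgroup.inv_mem _ hs) h4
      rwa [inv_mul_cancel_left] at this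
    rw [bcO_reflO hc v₀ hv₀ hv'] at h5
    exact Cfsg.Agent.Helper28.CD2.reflO_not_mem_Omega Q h2 hQ _ hv' h5
  · exact bcO_mem_Omega hc s

end char2

section inner

variable {F : Type*} [Field F] [Fintype F] [DecidableEq F] {ι : Type} [Fintype ι] [DecidableEq ι]
  (Q : QuadraticForm F (ι → F))

/-- in characteristic two, an isometry induces an inner automorphism iff it lies in `Ω` -/
theorem cAut_mem_map_iff (h2 : (2 : F) = 0) (hQ : (QuadraticMap.polarBilin Q).Nondegenerate)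
    (fr : Frame3 Q) (hperf : commutator ↥(Cfsg.Omega F ⇑Q) = ⊤)
    (s : ↥(Cfsg.isometryGroup F ⇑Q)) :
    PA.cAut Q s ∈ (Cfsg.Omega F ⇑Q).map (PA.cAut Q) ↔ s ∈ Cfsg.Omega F ⇑Q := by
  constructor
  · rintro ⟨t, ht, hts⟩
    have := cAut_injective_char_two Q h2 hQ fr hperf hts
    rw [← this]
    exact ht
  · intro hs
    exact ⟨s, hs, rfl⟩

end inner

section mem

universe u

variable {F : Type u} [Field F] [Fintype F] {m : ℕ}

theorem mem_inndiag_iff_odd [DecidableEq F] (hodd : Odd (Fintype.card F)) (h2 : (2 : F) ≠ 0)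
    (hm : 3 ≤ m) (a b : F)
    (hab : ∀ z₁ z₂ : F, z₁ ^ 2 + a * z₁ * z₂ + b * z₂ ^ 2 = 0 → z₁ = 0 ∧ z₂ = 0)
    (g : ↥(GO (QfMinus m F a b))) :
    cG (QfMinus m F a b) g ∈ Cfsg.inndiagPOmegaMinus m F a b ↔
      PG.sgn (QfMinus m F a b) (m + 1) g = 1 := by
  have hcardι : Fintype.card ((Fin m ⊕ Fin m) ⊕ Fin 2) = 2 * (m + 1) := by
    rw [Fintype.card_sum, Fintype.card_sum, Fintype.card_fin, Fintype.card_fin]; omega
  rw [inndiagM_eq hodd h2 a b hab]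
  exact cG_mem_DD_iff (nondeg_minus a b hab) (frameMinus hm a b) (hex_minus a b)
    (hperf_minus hm a b hab) hcardι g

theorem mem_inndiag_iff_even [DecidableEq F] (h2 : (2 : F) = 0)
    (hm : 3 ≤ m) (a b : F)
    (hab : ∀ z₁ z₂ : F, z₁ ^ 2 + a * z₁ * z₂ + b * z₂ ^ 2 = 0 → z₁ = 0 ∧ z₂ = 0)
    (g : ↥(GO (QfMinus m F a b))) (l : Fˣ) (s : ↥(Cfsg.isometryGroup F ⇑(QfMinus m F a b)))
    (hg : g = scal (QfMinus m F a b) l * oGO (QfMinus m F a b) s) :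
    cG (QfMinus m F a b) g ∈ Cfsg.inndiagPOmegaMinus m F a b ↔
      s ∈ Cfsg.Omega F ⇑(QfMinus m F a b) := by
  rw [inndiag_char_two' h2 a b hab (by omega), hg, map_mul, cG_scal, one_mul, cG_oGO]
  exact cAut_mem_map_iff _ h2 (nondeg_minus a b hab) (frameMinus hm a b) (hperf_minus hm a b hab) s

end mem

section jclaim

universe u v

variable {F : Type u} [Field F] [Fintype F] {F₀ : Type v} [Field F₀] [Fintype F₀] {m : ℕ}
  (E : FDesc F F₀)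

theorem compat_minus_E (a₀ b₀ : F₀) :
    Compat E (QfMinus m F (E.j a₀) (E.j b₀)) (QfMinus m F₀ a₀ b₀) := by
  intro w
  exact quadFormMinus_map E.j a₀ b₀ w

include E in
theorem aniso_of_j (a₀ b₀ : F₀)
    (hab : ∀ z₁ z₂ : F, z₁ ^ 2 + E.j a₀ * z₁ * z₂ + E.j b₀ * z₂ ^ 2 = 0 → z₁ = 0 ∧ z₂ = 0) :
    ∀ z₁ z₂ : F₀, z₁ ^ 2 + a₀ * z₁ * z₂ + b₀ * z₂ ^ 2 = 0 → z₁ = 0 ∧ z₂ = 0 := by
  intro z₁ z₂ h
  have h' := congrArg E.j h
  simp only [map_add, map_mul, map_pow, map_zero] at h'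
  obtain ⟨e1, e2⟩ := hab _ _ h'
  exact ⟨E.j.injective (by rw [e1, map_zero]), E.j.injective (by rw [e2, map_zero])⟩

include E in
theorem two_eq_zero_sub (h2 : (2 : F) = 0) : (2 : F₀) = 0 := by
  apply E.j.injective
  rw [map_ofNat, h2, map_zero]

/-- **the inner-diagonal groups correspond under the base change from the fixed field** -/
theorem cG_jGO_mem_inndiag_iff (hm : 3 ≤ m) (a₀ b₀ : F₀)
    (hab : ∀ z₁ z₂ : F, z₁ ^ 2 + E.j a₀ * z₁ * z₂ + E.j b₀ * z₂ ^ 2 = 0 → z₁ = 0 ∧ z₂ = 0)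
    (k : ↥(GO (QfMinus m F₀ a₀ b₀))) :
    cG (QfMinus m F (E.j a₀) (E.j b₀)) (jGO E (compat_minus_E E a₀ b₀) k) ∈
        Cfsg.inndiagPOmegaMinus m F (E.j a₀) (E.j b₀) ↔
      cG (QfMinus m F₀ a₀ b₀) k ∈ Cfsg.inndiagPOmegaMinus m F₀ a₀ b₀ := by
  classical
  have hab₀ := aniso_of_j E a₀ b₀ hab
  have hc := compat_minus_E (m := m) E a₀ b₀
  have hQ := nondeg_minus (m := m) _ _ hab
  have hQ₀ := nondeg_minus (m := m) _ _ hab₀
  have hex := hex_minus (m := m) (E.j a₀) (E.j b₀)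
  have hex₀ := hex_minus (m := m) a₀ b₀
  have hcardι : Fintype.card ((Fin m ⊕ Fin m) ⊕ Fin 2) = 2 * (m + 1) := by
    rw [Fintype.card_sum, Fintype.card_sum, Fintype.card_fin, Fintype.card_fin]; omega
  rcases two_ne_zero_or F with h2 | ⟨h2, hodd⟩
  · have h2₀ := two_eq_zero_sub E h2
    obtain ⟨l, s, hmat, -⟩ := exists_scal_mul h2₀ (QfMinus m F₀ a₀ b₀) hex₀ k
    have hcH : CompatHom E.j (QfMinus m F₀ a₀ b₀) (QfMinus m F (E.j a₀) (E.j b₀)) :=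
      fun w => hc w
    have hk1 : k = scal (QfMinus m F₀ a₀ b₀) l * oGO (QfMinus m F₀ a₀ b₀) s := by
      apply Subtype.ext
      apply Units.ext
      rw [hmat]
      show _ = ((scal (QfMinus m F₀ a₀ b₀) l : GL ((Fin m ⊕ Fin m) ⊕ Fin 2) F₀) :
          Matrix ((Fin m ⊕ Fin m) ⊕ Fin 2) ((Fin m ⊕ Fin m) ⊕ Fin 2) F₀) *
        ((s : GL ((Fin m ⊕ Fin m) ⊕ Fin 2) F₀) :
          Matrix ((Fin m ⊕ Fin m) ⊕ Fin 2) ((Fin m ⊕ Fin m) ⊕ Fin 2) F₀)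
      rw [scal_val, Matrix.smul_mul, Matrix.one_mul]
    have hk2 : jGO E hc k = scal (QfMinus m F (E.j a₀) (E.j b₀)) (Units.map (E.j : F₀ →* F) l) *
        oGO (QfMinus m F (E.j a₀) (E.j b₀)) (bcO hcH s) := by
      apply Subtype.ext
      apply Units.ext
      rw [jGO_coe, jGLg_coe, hmat]
      show _ = ((scal (QfMinus m F (E.j a₀) (E.j b₀)) (Units.map (E.j : F₀ →* F) l) :
          GL ((Fin m ⊕ Fin m) ⊕ Fin 2) F) :
            Matrix ((Fin m ⊕ Fin m) ⊕ Fin 2) ((Fin m ⊕ Fin m) ⊕ Fin 2) F) *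
        (((bcO hcH s : ↥(Cfsg.isometryGroup F ⇑(QfMinus m F (E.j a₀) (E.j b₀)))) :
          GL ((Fin m ⊕ Fin m) ⊕ Fin 2) F) :
            Matrix ((Fin m ⊕ Fin m) ⊕ Fin 2) ((Fin m ⊕ Fin m) ⊕ Fin 2) F)
      rw [scal_val, bcO_val, Matrix.smul_mul, Matrix.one_mul]
      ext i j
      simp
    exact (mem_inndiag_iff_even h2 hm _ _ hab _ _ _ hk2).trans
      ((bcO_mem_Omega_iff h2₀ h2 hQ₀ hQ (by rw [hcardι]; omega) ⟨Sum.inr 0⟩ hcH
        (v0 m F₀) (Q_v0 a₀ b₀) s).trans (mem_inndiag_iff_even h2₀ hm _ _ hab₀ _ _ _ hk1).symm)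
  · have h2₀ : (2 : F₀) ≠ 0 := two_ne_zero_sub E h2
    have hodd₀ := Cfsg.Agent.Helper28.Spin.card_odd h2₀
    exact (mem_inndiag_iff_odd hodd h2 hm _ _ hab _).trans
      ((sgn_jGO_eq_one_iff E hc hex (m + 1) k).trans
        (mem_inndiag_iff_odd hodd₀ h2₀ hm _ _ hab₀ _).symm)

end jclaim

end Cfsg.Agent.Helper28.FM
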