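import Mathlib
import Cfsg.Prelude.Def_LieTypeDatum
import Cfsg.Agent.Helper28.FieldM14

set_option autoImplicit false
set_option linter.unusedSectionVars false

/-! Minus type: the centralizer of the standard field automorphism in `Inndiag`. -/

namespace Cfsg.Agent.Helper28.FM

open Matrix Module Cfsg.Agent.Helper28.IsoTransport Cfsg.Agent.Helper28.Spin
  Cfsg.Agent.Helper28.PG Cfsg.Agent.Helper28.Sg Cfsg.Agent.Helper28.IDM
  Cfsg.Agent.Helper28.SSim Cfsg.Agent.Helper28.GC Cfsg.Agent.Helper28.FO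
open Cfsg.Agent.Helper7.FieldPSL (FDesc)

universe u v

variable {F : Type u} [Field F] [Fintype F] {F₀ : Type v} [Field F₀] [Fintype F₀] {m : ℕ}
  (E : FDesc F F₀)

/-- the similarities inducing inner-diagonal automorphisms -/
noncomputable def IG (m : ℕ) (F : Type u) [Field F] [Fintype F] (a b : F) :
    Subgroup ↥(GO (QfMinus m F a b)) :=
  (Cfsg.inndiagPOmegaMinus m F a b).comap (cG (QfMinus m F a b))

theorem mem_IG (a b : F) (g : ↥(GO (QfMinus m F a b))) :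
    g ∈ IG m F a b ↔ cG (QfMinus m F a b) g ∈ Cfsg.inndiagPOmegaMinus m F a b := Iff.rfl

theorem map_IG (a b : F) :
    (IG m F a b).map (cG (QfMinus m F a b)) = Cfsg.inndiagPOmegaMinus m F a b := by
  ext y
  constructor
  · rintro ⟨g, hg, rfl⟩
    exact hg
  · intro hy
    obtain ⟨g, rfl⟩ := exists_cG_of_mem_inndiag a b y hy
    exact ⟨g, hy, rfl⟩

theorem map_IG_psi (hm : 3 ≤ m) (a₀ b₀ : F₀)
    (hab : ∀ z₁ z₂ : F, z₁ ^ 2 + E.j a₀ * z₁ * z₂ + E.j b₀ * z₂ ^ 2 = 0 → z₁ = 0 ∧ z₂ = 0)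
    (hpos : 0 < orderOf E.σ) :
    ((IG m F₀ a₀ b₀).map (psiO E (compat_minus_E (m := m) E a₀ b₀)) :
        Subgroup (MulAut (Cfsg.POmega F (Cfsg.quadFormMinus m F (E.j a₀) (E.j b₀))))) =
      Cfsg.inndiagPOmegaMinus m F (E.j a₀) (E.j b₀) ⊓
        Subgroup.centralizer {phiM (m := m) (E.j a₀) (E.j b₀) (E.fix_j a₀) (E.fix_j b₀)} := by
  classical
  have hc := compat_minus_E (m := m) E a₀ b₀
  have hQ := nondeg_minus (m := m) _ _ hab
  have hσ := isStdAt_minus (m := m) (E.j a₀) (E.j b₀) (E.fix_j a₀) (E.fix_j b₀)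
  have : Nonempty ((Fin m ⊕ Fin m) ⊕ Fin 2) := ⟨Sum.inr 0⟩
  have hrange := range_psiS E hQ (frameMinus hm _ _) (hperf_minus hm _ _ hab) hσ hc
    (hex_minus a₀ b₀) hpos
  ext y
  constructor
  · rintro ⟨k, hk, rfl⟩
    refine ⟨?_, ?_⟩
    · exact (cG_jGO_mem_inndiag_iff E hm a₀ b₀ hab k).2 hk
    · have : psiO E hc k ∈ (psiO E hc).range := ⟨k, rfl⟩
      rw [hrange] at this
      exact this.2
  · rintro ⟨hy1, hy2⟩
    have hy : y ∈ (psiO E hc).range := by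
      rw [hrange]
      refine ⟨?_, hy2⟩
      obtain ⟨g, rfl⟩ := exists_cG_of_mem_inndiag _ _ y hy1
      rw [pgoAut_eq]
      exact ⟨g, rfl⟩
    obtain ⟨k, rfl⟩ := hy
    exact ⟨k, (cG_jGO_mem_inndiag_iff E hm a₀ b₀ hab k).1 hy1, rfl⟩

/-- **the centralizer of the standard field automorphism in `Inndiag(PΩ⁻(F))` is
`Inndiag(PΩ⁻(F₀))`** -/
theorem std_centralizer (hm : 3 ≤ m) (a₀ b₀ : F₀)
    (hab : ∀ z₁ z₂ : F, z₁ ^ 2 + E.j a₀ * z₁ * z₂ + E.j b₀ * z₂ ^ 2 = 0 → z₁ = 0 ∧ z₂ = 0)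
    (hpos : 0 < orderOf E.σ) :
    Nonempty (↥((Cfsg.inndiagPOmegaMinus m F (E.j a₀) (E.j b₀) ⊓
        Subgroup.centralizer {phiM (m := m) (E.j a₀) (E.j b₀) (E.fix_j a₀) (E.fix_j b₀)} :
          Subgroup (MulAut (Cfsg.POmega F (Cfsg.quadFormMinus m F (E.j a₀) (E.j b₀)))))) ≃*
      ↥(Cfsg.inndiagPOmegaMinus m F₀ a₀ b₀)) := by
  have hab₀ := aniso_of_j E a₀ b₀ hab
  have hc := compat_minus_E (m := m) E a₀ b₀
  have : Nonempty ((Fin m ⊕ Fin m) ⊕ Fin 2) := ⟨Sum.inr 0⟩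
  have hker := ker_psiO E (nondeg_minus (m := m) _ _ hab) (frameMinus hm _ _)
    (hperf_minus hm _ _ hab) hc (nondeg_minus (m := m) _ _ hab₀) (frameMinus hm _ _)
    (hperf_minus hm _ _ hab₀)
  obtain ⟨e⟩ := nonempty_map_equiv_of_ker_eq (psiO E hc) (cG (QfMinus m F₀ a₀ b₀)) hker
    (IG m F₀ a₀ b₀)
  exact ⟨((MulEquiv.subgroupCongr (map_IG_psi E hm a₀ b₀ hab hpos)).symm.trans e).trans
    (MulEquiv.subgroupCongr (map_IG a₀ b₀))⟩

end Cfsg.Agent.Helper28.FM
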