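import Mathlib
import Cfsg.Prelude.Def_LieTypeDatum
import Cfsg.Agent.Helper28.FieldM15
import Cfsg.Agent.Helper7.GraphPSL6

set_option autoImplicit false
set_option linter.unusedSectionVars false

/-! Minus type: the inner-diagonal predicate, odd-order elements of `PGO`, and anisotropic binary
forms over the fixed field of an automorphism of odd order. -/

namespace Cfsg.Agent.Helper28.LB

open Matrix Module Cfsg.Agent.Helper28.SSim Cfsg.Agent.Helper28.Sg Cfsg.Agent.Helper28.PG
  Cfsg.Agent.Helper28.GC Cfsg.Agent.Helper28.Spin Cfsg.Agent.Helper28.PA Cfsg.Agent.Helper28.FO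
  Cfsg.Agent.Helper28.FM Cfsg.Agent.Helper28.IDM

universe u

section pred

variable {F : Type u} [Field F] [Fintype F] {m : ℕ}

/-- members of `Inndiag(PΩ⁻)` satisfy the defining predicate -/
theorem pred_of_mem_inndiag (hm : 3 ≤ m) (a b : F)
    (hab : ∀ z₁ z₂ : F, z₁ ^ 2 + a * z₁ * z₂ + b * z₂ ^ 2 = 0 → z₁ = 0 ∧ z₂ = 0)
    (x : MulAut (Cfsg.POmega F (Cfsg.quadFormMinus m F a b)))
    (hx : x ∈ Cfsg.inndiagPOmegaMinus m F a b) :
    Cfsg.IsInnerDiagonalAutPOmegaMinus m a b x := by
  classical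
  rcases two_ne_zero_or F with h2 | ⟨h2, hodd⟩
  · rw [inndiag_char_two' h2 a b hab (by omega)] at hx
    obtain ⟨s, hs, rfl⟩ := hx
    refine ⟨(s : GL ((Fin m ⊕ Fin m) ⊕ Fin 2) F), (PG.oGO (QfMinus m F a b) s).2,
      (pscMinus_iff_char_two h2 a b hab (by omega) s).2 hs, ?_⟩
    exact (PG.induced_iff (QfMinus m F a b) _ (PG.oGO (QfMinus m F a b) s).2 _).2
      (PG.cG_oGO (QfMinus m F a b) s).symm
  · rw [inndiagM_eq hodd h2 a b hab] at hx
    obtain ⟨g, hg, rfl⟩ := hx
    exact ⟨g.1, g.2, (pscMinus_iff hodd h2 a b hab g).2 ((IDG.mem_GO0_iff _ _ _ g).1 hg),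
      (induced_iff (QfMinus m F a b) g.1 g.2 _).2 rfl⟩

/-- squares of similarity-induced automorphisms are inner-diagonal -/
theorem cG_sq_mem_inndiag (hm : 3 ≤ m) (a b : F)
    (hab : ∀ z₁ z₂ : F, z₁ ^ 2 + a * z₁ * z₂ + b * z₂ ^ 2 = 0 → z₁ = 0 ∧ z₂ = 0)
    (g : ↥(GO (QfMinus m F a b))) :
    cG (QfMinus m F a b) g * cG (QfMinus m F a b) g ∈ Cfsg.inndiagPOmegaMinus m F a b := by
  by_cases hg : cG (QfMinus m F a b) g ∈ Cfsg.inndiagPOmegaMinus m F a b
  · exact Subgroup.mul_mem _ hg hg
  · have h1 := (inndiag_or hm a b hab g (v0 m F) (Q_v0 a b)).resolve_left hg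
    rcases inndiag_or hm a b hab (g * g) (v0 m F) (Q_v0 a b) with h | h
    · rw [map_mul] at h
      exact h
    · exfalso
      apply hg
      rw [mul_assoc, map_mul] at h
      have key : ∀ (D : Subgroup (MulAut (Cfsg.POmega F ⇑(QfMinus m F a b))))
          (x y : MulAut (Cfsg.POmega F ⇑(QfMinus m F a b))), x * y ∈ D → y ∈ D → x ∈ D := by
        intro D x y hxy hy
        have := D.mul_mem hxy (D.inv_mem hy)
        rwa [mul_inv_cancel_right] at this
      exact key _ _ _ h h1

/-- a similarity-induced automorphism of odd order is inner-diagonal -/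
theorem mem_inndiag_of_odd_order (hm : 3 ≤ m) (a b : F)
    (hab : ∀ z₁ z₂ : F, z₁ ^ 2 + a * z₁ * z₂ + b * z₂ ^ 2 = 0 → z₁ = 0 ∧ z₂ = 0)
    (g : ↥(GO (QfMinus m F a b))) (hodd : Odd (orderOf (cG (QfMinus m F a b) g))) :
    cG (QfMinus m F a b) g ∈ Cfsg.inndiagPOmegaMinus m F a b := by
  obtain ⟨k, hk⟩ := hodd
  have h1 : cG (QfMinus m F a b) g =
      (cG (QfMinus m F a b) g * cG (QfMinus m F a b) g) ^ (k + 1) := by
    rw [← pow_two, ← pow_mul]
    have e : 2 * (k + 1) = orderOf (cG (QfMinus m F a b) g) + 1 := by omega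
    rw [e, pow_succ, pow_orderOf_eq_one, one_mul]
  rw [h1]
  exact Subgroup.pow_mem _ (cG_sq_mem_inndiag hm a b hab g) _

end pred

section aniso

variable {K : Type*} [Field K]

/-- an anisotropic binary form over a finite field -/
theorem exists_aniso_binary [Fintype K] :
    ∃ a b : K, ∀ z₁ z₂ : K, z₁ ^ 2 + a * z₁ * z₂ + b * z₂ ^ 2 = 0 → z₁ = 0 ∧ z₂ = 0 := by
  classical
  by_cases h2 : (2 : K) = 0
  · -- Artin–Schreier
    have hidx := index_range_asHom (F := K) h2
    have hne : (asHom h2).range ≠ ⊤ := by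
      intro h
      rw [h, AddSubgroup.index_top] at hidx
      omega
    obtain ⟨b, hb⟩ : ∃ b : K, b ∉ (asHom h2).range := by
      by_contra hcon
      push Not at hcon
      apply hne
      rw [eq_top_iff]
      intro x _
      exact hcon x
    refine ⟨1, b, ?_⟩
    intro z₁ z₂ h
    by_cases hz : z₂ = 0
    · subst hz
      refine ⟨?_, rfl⟩
      have : z₁ ^ 2 = 0 := by linear_combination h
      exact pow_eq_zero_iff (two_ne_zero) |>.1 this
    · exfalso
      apply hb
      refine ⟨z₁ / z₂, ?_⟩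
      rw [asHom_apply]
      have e : z₁ / z₂ * (z₁ / z₂) + z₁ / z₂ = (z₁ ^ 2 + z₁ * z₂) / z₂ ^ 2 := by
        field_simp
      rw [e, div_eq_iff (pow_ne_zero 2 hz)]
      linear_combination h - b * z₂ ^ 2 * h2
  · obtain ⟨a, b, hab, -⟩ := Cfsg.Agent.Helper7.GraphPSL.exists_anisotropic (F := K) h2
    exact ⟨a, b, hab⟩

/-- an anisotropic binary form over the fixed field of an automorphism of odd order stays
anisotropic -/
theorem aniso_of_fixed (τ : K ≃+* K) {n : ℕ} (hn : Odd n) (hτn : τ ^ n = 1) (a b : K)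
    (ha : τ a = a) (hb : τ b = b)
    (hab : ∀ z₁ z₂ : K, τ z₁ = z₁ → τ z₂ = z₂ →
      z₁ ^ 2 + a * z₁ * z₂ + b * z₂ ^ 2 = 0 → z₁ = 0 ∧ z₂ = 0) :
    ∀ z₁ z₂ : K, z₁ ^ 2 + a * z₁ * z₂ + b * z₂ ^ 2 = 0 → z₁ = 0 ∧ z₂ = 0 := by
  intro z₁ z₂ h
  by_cases hz : z₂ = 0
  · subst hz
    refine ⟨?_, rfl⟩
    have : z₁ ^ 2 = 0 := by linear_combination h
    exact pow_eq_zero_iff (two_ne_zero) |>.1 this
  · exfalso
    obtain ⟨t, ht⟩ : ∃ t : K, t = z₁ / z₂ := ⟨_, rfl⟩
    have hroot : t ^ 2 + a * t + b = 0 := by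
      rw [ht]
      field_simp
      linear_combination h
    -- the conjugate is a root as well
    have hroot' : (τ t) ^ 2 + a * τ t + b = 0 := by
      have := congrArg τ hroot
      rw [map_add, map_add, map_mul, map_pow, ha, hb, map_zero] at this
      exact this
    have hcases : τ t = t ∨ τ t = -a - t := by
      have : (τ t - t) * (τ t + t + a) = 0 := by linear_combination hroot' - hroot
      rcases mul_eq_zero.1 this with h1 | h1
      · left; linear_combination h1
      · right; linear_combination h1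
    have hfix : τ t = t := by
      rcases hcases with h1 | h1
      · exact h1
      · -- `τ² t = t`, and the order is odd
        have h2 : τ (τ t) = t := by
          rw [h1, map_sub, map_neg, ha, h1]
          ring
        obtain ⟨k, hk⟩ := hn
        have hpow : ∀ j : ℕ, (τ ^ (2 * j)) t = t := by
          intro j
          induction j with
          | zero => simp
          | succ j ih =>
            have e : 2 * (j + 1) = 2 * j + 2 := by ring
            rw [e, pow_add, RingAut.mul_apply, pow_two, RingAut.mul_apply, h2, ih]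
        have h3 : (τ ^ n) t = τ t := by
          rw [hk, pow_succ', RingAut.mul_apply, hpow]
        rw [hτn] at h3
        exact h3.symm
    have := (hab t 1 hfix (map_one τ) (by linear_combination hroot)).2
    exact one_ne_zero this

end aniso

end Cfsg.Agent.Helper28.LB
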