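import Mathlib
import Cfsg.Prelude.Def_GeometricClasses
import Cfsg.Prelude.Def_Classical
import Cfsg.Prelude.Def_LieClassical
import Cfsg.Agent.Helper20.S6000Defs
import Cfsg.Agent.Helper28.GU

/-! # S6001 (driver helper28): shared definitions for the `SU_4(p)` twin of S6000.

`F` a field with `p ^ 2` elements, `dag p M = (M^σ)ᵀ` the conjugate transpose for `σ a = a ^ p`
(`frobenius F p`); `g ∈ GU 4 F p ↔ dag p g * g = 1`. -/

set_option autoImplicit false
open scoped MatrixGroups Matrix

namespace Cfsg.Agent.S6001P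

open Cfsg.Agent.S6000P

variable {F : Type*} [Field F] (p : ℕ) [Fact p.Prime] [CharP F p]

/-- conjugate transpose w.r.t. `a ↦ a ^ p` -/
noncomputable def dag (M : M4 F) : M4 F := (M.map (frobenius F p))ᵀ

theorem dag_apply (M : M4 F) (i j : Fin 4) : dag p M i j = (M j i) ^ p := by
  simp [dag, Matrix.transpose_apply, Matrix.map_apply, frobenius_def]

theorem dag_mul (A B : M4 F) : dag p (A * B) = dag p B * dag p A := by
  unfold dag
  rw [Matrix.map_mul, Matrix.transpose_mul]

theorem dag_one : dag p (1 : M4 F) = 1 := by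
  unfold dag
  rw [Matrix.map_one _ (map_zero _) (map_one _), Matrix.transpose_one]

theorem dag_zero : dag p (0 : M4 F) = 0 := by
  ext i j
  rw [dag_apply]
  simp [(Fact.out : p.Prime).ne_zero]

theorem dag_add (A B : M4 F) : dag p (A + B) = dag p A + dag p B := by
  unfold dag
  rw [Matrix.map_add _ (map_add _), Matrix.transpose_add]

theorem dag_neg (A : M4 F) : dag p (-A) = -dag p A := by
  ext i j
  rw [dag_apply, Matrix.neg_apply, Matrix.neg_apply, dag_apply, ← frobenius_def, ← frobenius_def,
    map_neg]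

theorem dag_sub (A B : M4 F) : dag p (A - B) = dag p A - dag p B := by
  rw [sub_eq_add_neg, dag_add, dag_neg, ← sub_eq_add_neg]

theorem dag_smul (c : F) (A : M4 F) : dag p (c • A) = c ^ p • dag p A := by
  ext i j
  rw [dag_apply, Matrix.smul_apply, Matrix.smul_apply, dag_apply, smul_eq_mul, smul_eq_mul, mul_pow]

theorem dag_pow (A : M4 F) (n : ℕ) : dag p (A ^ n) = dag p A ^ n := by
  induction n with
  | zero => rw [pow_zero, pow_zero, dag_one]
  | succ n ih => rw [pow_succ, dag_mul, ih, pow_succ']

theorem trace_dag (A : M4 F) : Matrix.trace (dag p A) = Matrix.trace A ^ p := by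
  unfold Matrix.trace
  rw [← frobenius_def, map_sum]
  apply Finset.sum_congr rfl
  intro i _
  rw [Matrix.diag_apply, dag_apply, Matrix.diag_apply, frobenius_def]

theorem det_dag (A : M4 F) : (dag p A).det = A.det ^ p := by
  unfold dag
  rw [Matrix.det_transpose, ← frobenius_def, RingHom.map_det]
  rfl

section card

variable [Fintype F] (hF : Fintype.card F = p ^ 2)

include hF

omit [Fact (Nat.Prime p)] [CharP F p] in
theorem pow_p_pow_p (a : F) : (a ^ p) ^ p = a := by
  rw [← pow_mul, ← pow_two, ← hF, FiniteField.pow_card]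

theorem dag_dag (A : M4 F) : dag p (dag p A) = A := by
  ext i j
  rw [dag_apply, dag_apply, pow_p_pow_p p hF]

theorem frob_ne_id : (frobenius F p : F →+* F) ≠ RingHom.id F := by
  classical
  intro h
  have hall : ∀ a : F, a ^ p = a := fun a => by
    have := congrArg (fun f : F →+* F => f a) h
    simpa [frobenius_def] using this
  have hp := (Fact.out : p.Prime)
  have hroots : (Finset.univ : Finset F) ⊆ (Polynomial.X ^ p - Polynomial.X : Polynomial F).roots.toFinset := by
    intro a _
    have hne : (Polynomial.X ^ p - Polynomial.X : Polynomial F) ≠ 0 :=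
      FiniteField.X_pow_card_sub_X_ne_zero F hp.one_lt
    rw [Multiset.mem_toFinset, Polynomial.mem_roots hne, Polynomial.IsRoot, Polynomial.eval_sub,
      Polynomial.eval_pow, Polynomial.eval_X, hall a, sub_self]
  have h1 := Finset.card_le_card hroots
  have h2 := Multiset.toFinset_card_le (Polynomial.X ^ p - Polynomial.X : Polynomial F).roots
  have h3 := Polynomial.card_roots' (Polynomial.X ^ p - Polynomial.X : Polynomial F)
  have hdeg : (Polynomial.X ^ p - Polynomial.X : Polynomial F).natDegree = p :=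
    FiniteField.X_pow_card_sub_X_natDegree_eq F hp.one_lt
  rw [Finset.card_univ, hF] at h1
  rw [hdeg] at h3
  have : p ^ 2 ≤ p := le_trans h1 (le_trans h2 h3)
  have := hp.one_lt
  nlinarith

end card

/-- membership in `GU` via the conjugate transpose -/
theorem mem_GU_iff_dag (g : GL (Fin 4) F) :
    g ∈ Cfsg.GU 4 F p ↔ dag p (g : M4 F) * (g : M4 F) = 1 := by
  rw [Cfsg.Agent.Helper28.GUlib.mem_GU_iff (frobenius F p) (fun x => frobenius_def p x) g]
  unfold dag
  constructor
  · intro h
    have := congrArg Matrix.transpose h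
    rw [Matrix.transpose_mul, Matrix.transpose_transpose, Matrix.transpose_one] at this
    exact this
  · intro h
    have := congrArg Matrix.transpose h
    rw [Matrix.transpose_mul, Matrix.transpose_transpose, Matrix.transpose_one] at this
    exact this

theorem mem_GU_iff_dag' (g : GL (Fin 4) F) :
    g ∈ Cfsg.GU 4 F p ↔ (g : M4 F) * dag p (g : M4 F) = 1 := by
  rw [mem_GU_iff_dag]
  exact mul_eq_one_comm

/-- for unitary `g`, `dag g = g⁻¹` -/
theorem dag_eq_inv {g : GL (Fin 4) F} (hg : g ∈ Cfsg.GU 4 F p) :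
    dag p (g : M4 F) = ((g⁻¹ : GL (Fin 4) F) : M4 F) := by
  have h1 := (mem_GU_iff_dag p g).mp hg
  have h2 : ((g⁻¹ : GL (Fin 4) F) : M4 F) * (g : M4 F) = 1 := by
    rw [← Units.val_mul, inv_mul_cancel, Units.val_one]
  have h3 : (g : M4 F) * ((g⁻¹ : GL (Fin 4) F) : M4 F) = 1 := by
    rw [← Units.val_mul, mul_inv_cancel, Units.val_one]
  calc dag p (g : M4 F) = dag p (g : M4 F) * ((g : M4 F) * ((g⁻¹ : GL (Fin 4) F) : M4 F)) := by
        rw [h3, mul_one]
    _ = ((g⁻¹ : GL (Fin 4) F) : M4 F) := by rw [← mul_assoc, h1, one_mul]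

/-- the adjoint property of `dag` for the Hermitian form `Σ uᵢ vᵢ^p` -/
theorem herm_mulVec_left (M : M4 F) (u v : Fin 4 → F) [Fintype F] (hF : Fintype.card F = p ^ 2) :
    Cfsg.hermForm 4 F p (M *ᵥ u) v = Cfsg.hermForm 4 F p u (dag p M *ᵥ v) := by
  unfold Cfsg.hermForm
  simp only [Matrix.mulVec, dotProduct, dag_apply]
  simp_rw [← frobenius_def, map_sum, map_mul, frobenius_def, pow_p_pow_p p hF, Finset.sum_mul,
    Finset.mul_sum]
  rw [Finset.sum_comm]
  apply Finset.sum_congr rfl
  intro i _
  apply Finset.sum_congr rfl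
  intro j _
  ring

/-- a scalar matrix of norm one is unitary -/
theorem scalar_unitary (c : F) (hc : c ^ (p + 1) = 1) :
    dag p (c • (1 : M4 F)) * (c • (1 : M4 F)) = 1 := by
  rw [dag_smul, dag_one, Matrix.smul_mul, Matrix.one_mul, smul_smul, ← pow_succ, hc, one_smul]

end Cfsg.Agent.S6001P
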