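import Mathlib
import Cfsg.Agent.Helper28.Norm
import Cfsg.Agent.S0749

set_option autoImplicit false

namespace Cfsg.Agent.Helper28.HW

open LinearMap Module

variable {F V : Type*} [Field F] [AddCommGroup V] [Module F V]
variable {σ : F →+* F} (B : V →ₛₗ[σ] V →ₗ[F] F)

/-- right orthogonal complement -/
def perp (X : Submodule F V) : Submodule F V where
  carrier := {y | ∀ x ∈ X, B x y = 0}
  add_mem' := by
    intro a b ha hb x hx
    rw [map_add, ha x hx, hb x hx, add_zero]
  zero_mem' := by
    intro x _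
    simp
  smul_mem' := by
    intro c a ha x hx
    rw [map_smul, ha x hx, smul_zero]

theorem mem_perp {X : Submodule F V} {y : V} : y ∈ perp B X ↔ ∀ x ∈ X, B x y = 0 := Iff.rfl

theorem perp_anti {X Y : Submodule F V} (h : X ≤ Y) : perp B Y ≤ perp B X := by
  intro y hy x hx
  exact hy x (h hx)

theorem B_smul_left (a : F) (x y : V) : B (a • x) y = σ a * B x y := by
  rw [map_smulₛₗ, LinearMap.smul_apply, smul_eq_mul]

theorem B_sum_left {ι : Type*} (s : Finset ι) (c : ι → F) (x : ι → V) (y : V) :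
    B (∑ i ∈ s, c i • x i) y = ∑ i ∈ s, σ (c i) * B (x i) y := by
  rw [map_sum, LinearMap.sum_apply]
  apply Finset.sum_congr rfl
  intro i _
  rw [B_smul_left]

variable {B}

theorem swap_zero (hS : B.IsSymm) {x y : V} (h : B x y = 0) : B y x = 0 := by
  rw [← hS.eq, h, map_zero]

/-- the key surjectivity lemma -/
theorem surj_of_li (hσ2 : ∀ a : F, σ (σ a) = a) (hB : B.Nondegenerate) {k : ℕ} (x : Fin k → V)
    (hli : LinearIndependent F x) (t : Fin k → F) : ∃ u : V, ∀ i, B (x i) u = t i := by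
  classical
  set Λ : V →ₗ[F] (Fin k → F) := LinearMap.pi (fun i => B (x i)) with hΛ
  have hrange : LinearMap.range Λ = ⊤ := by
    by_contra hne
    obtain ⟨f, hf0, hf⟩ := Submodule.exists_le_ker_of_lt_top _ (lt_top_iff_ne_top.mpr hne)
    apply hf0
    set a : Fin k → F := fun i => f (Pi.single i 1) with ha
    have hfa : ∀ t : Fin k → F, f t = ∑ i, t i * a i := by
      intro t
      conv_lhs => rw [← Finset.univ_sum_single t]
      rw [map_sum]
      apply Finset.sum_congr rfl
      intro i _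
      have : (Pi.single i (t i) : Fin k → F) = t i • Pi.single i 1 := by
        ext j
        simp [Pi.single_apply]
      rw [this, map_smul, smul_eq_mul]
    have hzero : ∀ u, ∑ i, B (x i) u * a i = 0 := by
      intro u
      have : Λ u ∈ LinearMap.ker f := hf ⟨u, rfl⟩
      rw [LinearMap.mem_ker, hfa] at this
      simpa [hΛ] using this
    have hvec : ∑ i, σ (a i) • x i = 0 := by
      apply hB.1
      intro u
      rw [B_sum_left]
      simp only [hσ2]
      rw [← hzero u]
      apply Finset.sum_congr rfl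
      intro i _
      ring
    have hai : ∀ i, a i = 0 := by
      intro i
      have := Fintype.linearIndependent_iff.mp hli _ hvec i
      rw [← hσ2 (a i), this, map_zero]
    apply LinearMap.ext
    intro t
    rw [hfa]
    simp [hai]
  have : t ∈ LinearMap.range Λ := by rw [hrange]; trivial
  obtain ⟨u, hu⟩ := this
  exact ⟨u, fun i => by rw [← hu]; rfl⟩

variable [FiniteDimensional F V]

theorem finrank_perp (hσ2 : ∀ a : F, σ (σ a) = a) (hB : B.Nondegenerate) (X : Submodule F V) :
    finrank F (perp B X) + finrank F X = finrank F V := by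
  classical
  set bX := Module.finBasis F X with hbX
  set x : Fin (finrank F X) → V := fun i => (bX i : V) with hx
  have hli : LinearIndependent F x := bX.linearIndependent.map' X.subtype (Submodule.ker_subtype X)
  set Λ : V →ₗ[F] (Fin (finrank F X) → F) := LinearMap.pi (fun i => B (x i)) with hΛ
  have hrange : LinearMap.range Λ = ⊤ := by
    rw [LinearMap.range_eq_top]
    intro t
    obtain ⟨u, hu⟩ := surj_of_li hσ2 hB x hli t
    exact ⟨u, funext hu⟩
  have hker : LinearMap.ker Λ = perp B X := by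
    ext y
    rw [LinearMap.mem_ker, mem_perp]
    constructor
    · intro h x' hx'
      have hrep := bX.sum_repr ⟨x', hx'⟩
      have hx'eq : x' = ∑ i, (bX.repr ⟨x', hx'⟩ i) • x i := by
        have := congrArg Subtype.val hrep
        simp only [Submodule.coe_sum, Submodule.coe_smul] at this
        exact this.symm
      rw [hx'eq, B_sum_left]
      apply Finset.sum_eq_zero
      intro i _
      have := congrFun h i
      simp only [hΛ, LinearMap.pi_apply, Pi.zero_apply] at this
      rw [this, mul_zero]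
    · intro h
      funext i
      simp only [hΛ, LinearMap.pi_apply, Pi.zero_apply]
      exact h _ (bX i).2
  have := LinearMap.finrank_range_add_finrank_ker Λ
  rw [hrange, hker, finrank_top, Module.finrank_fin_fun] at this
  omega

theorem le_perp_perp (hS : B.IsSymm) (X : Submodule F V) : X ≤ perp B (perp B X) := by
  intro x hx y hy
  exact swap_zero hS (hy x hx)

theorem perp_perp (hσ2 : ∀ a : F, σ (σ a) = a) (hS : B.IsSymm) (hB : B.Nondegenerate)
    (X : Submodule F V) : perp B (perp B X) = X := by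
  symm
  apply Submodule.eq_of_le_of_finrank_eq (le_perp_perp hS X)
  have h1 := finrank_perp hσ2 hB X
  have h2 := finrank_perp hσ2 hB (perp B X)
  omega

theorem exists_repr (hσ2 : ∀ a : F, σ (σ a) = a) (hS : B.IsSymm) (hB : B.Nondegenerate)
    (ψ : V →ₗ[F] F) : ∃ w : V, ∀ y, B w y = ψ y := by
  classical
  set b := Module.finBasis F V with hb
  obtain ⟨w, hw⟩ := surj_of_li hσ2 hB (fun i => b i) b.linearIndependent (fun i => σ (ψ (b i)))
  refine ⟨w, ?_⟩
  intro y
  have hy : y = ∑ i, (b.repr y i) • b i := (b.sum_repr y).symm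
  have h1 : B y w = σ (ψ y) := by
    conv_lhs => rw [hy]
    rw [B_sum_left]
    conv_rhs => rw [hy]
    rw [map_sum, map_sum]
    apply Finset.sum_congr rfl
    intro i _
    rw [hw, map_smul, smul_eq_mul, map_mul]
  rw [← hS.eq, h1, hσ2]

theorem exists_trace_eq (hσ : σ ≠ RingHom.id F) (hσ2 : ∀ a : F, σ (σ a) = a) (δ : F) (hδ : σ δ = δ) :
    ∃ t : F, t + σ t = δ := by
  have : ∃ θ : F, θ + σ θ ≠ 0 := by
    by_contra hcon
    push Not at hcon
    apply hσ
    ext t
    have h1 := hcon 1
    rw [map_one] at h1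
    have h2 := hcon t
    simp only [RingHom.id_apply]
    have : σ t = -t := by linear_combination h2
    rw [this]
    linear_combination (-t) * h1
  obtain ⟨θ, hθ⟩ := this
  set τ := θ + σ θ with hτ
  have hτfix : σ τ = τ := by
    rw [hτ, map_add, hσ2, add_comm]
  refine ⟨δ * τ⁻¹ * θ, ?_⟩
  rw [map_mul, map_mul, map_inv₀, hδ, hτfix]
  have : δ * τ⁻¹ * θ + δ * τ⁻¹ * σ θ = δ * τ⁻¹ * τ := by rw [hτ]; ring
  rw [this, mul_assoc, inv_mul_cancel₀ hθ, mul_one]

theorem exists_norm_one_mem [Finite F] (hσ : σ ≠ RingHom.id F) (hσ2 : ∀ a : F, σ (σ a) = a)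
    (hS : B.IsSymm) (Z : Submodule F V) (hne : ∃ z ∈ Z, ∃ z' ∈ Z, B z z' ≠ 0) :
    ∃ z ∈ Z, B z z = 1 := by
  have h1 : ∃ z ∈ Z, B z z ≠ 0 := by
    by_contra hcon
    push Not at hcon
    obtain ⟨x', hx', x, hx, hc⟩ := hne
    set c := B x' x with hc'
    have key : ∀ t : F, t + σ t = 0 := by
      intro t
      have h := hcon (x' + (t * c⁻¹) • x) (Z.add_mem hx' (Z.smul_mem _ hx))
      have e : B (x' + (t * c⁻¹) • x) (x' + (t * c⁻¹) • x)
          = B x' x' + (t * c⁻¹) * B x' x + σ (t * c⁻¹) * B x x' + σ (t * c⁻¹) * (t * c⁻¹) * B x x := by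
        simp only [map_add, LinearMap.add_apply, map_smulₛₗ, LinearMap.smul_apply, smul_eq_mul,
          RingHom.id_apply]
        ring
      rw [e, hcon x' hx', hcon x hx] at h
      have h2 : B x x' = σ c := (hS.eq x' x).symm
      rw [h2, ← hc', ← map_mul, mul_assoc, inv_mul_cancel₀ hc, mul_one] at h
      simpa using h
    apply hσ
    ext t
    have h1 := key 1
    rw [map_one] at h1
    have h2 := key t
    simp only [RingHom.id_apply]
    have : σ t = -t := by linear_combination h2
    rw [this]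
    linear_combination (-t) * h1
  obtain ⟨v, hvZ, hv⟩ := h1
  have hfix : σ (B v v)⁻¹ = (B v v)⁻¹ := by
    rw [map_inv₀, hS.eq]
  obtain ⟨a, ha⟩ := Cfsg.Agent.Helper28.exists_norm_eq σ hσ hσ2 (B v v)⁻¹ (inv_ne_zero hv) hfix
  refine ⟨a • v, Z.smul_mem _ hvZ, ?_⟩
  simp only [map_smulₛₗ, LinearMap.smul_apply, smul_eq_mul, RingHom.id_apply]
  first
  | rw [ha, inv_mul_cancel₀ hv]
  | rw [← mul_assoc, ha, inv_mul_cancel₀ hv]

theorem rad_map (X : Submodule F V) (g : V →ₗ[F] V)
    (hiso : ∀ x ∈ X, ∀ x' ∈ X, B (g x) (g x') = B x x') :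
    (X.map g) ⊓ perp B (X.map g) = (X ⊓ perp B X).map g := by
  ext y
  constructor
  · rintro ⟨⟨x, hx, rfl⟩, hy⟩
    refine ⟨x, ⟨hx, ?_⟩, rfl⟩
    intro x' hx'
    rw [← hiso x' hx' x hx]
    exact hy (g x') ⟨x', hx', rfl⟩
  · rintro ⟨x, ⟨hx, hxp⟩, rfl⟩
    refine ⟨⟨x, hx, rfl⟩, ?_⟩
    rintro y' ⟨x', hx', rfl⟩
    rw [hiso x' hx' x hx]
    exact hxp x' hx'

theorem le_iff_finrank (X P : Submodule F V) :
    P ≤ X ↔ finrank F (X ⊓ P : Submodule F V) = finrank F P := by
  constructor
  · intro h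
    rw [inf_eq_right.mpr h]
  · intro h
    have := Submodule.eq_of_le_of_finrank_eq (inf_le_right : X ⊓ P ≤ P) h
    exact inf_eq_right.mp this

theorem perp_le_iff (hσ2 : ∀ a : F, σ (σ a) = a) (hB : B.Nondegenerate)
    (X : Submodule F V) (g : V →ₗ[F] V)
    (hiso : ∀ x ∈ X, ∀ x' ∈ X, B (g x) (g x') = B x x') (hinj : ∀ x ∈ X, g x = 0 → x = 0) :
    perp B X ≤ X ↔ perp B (X.map g) ≤ X.map g := by
  have h0 : finrank F ((X ⊓ perp B X).map g) = finrank F (X ⊓ perp B X : Submodule F V) :=
    Cfsg.Agent.S0749.finrank_map_of_injOn g (X ⊓ perp B X)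
      (fun x (hx : x ∈ X ⊓ perp B X) => hinj x hx.1)
  rw [le_iff_finrank, le_iff_finrank, rad_map X g hiso, h0]
  have h1 := finrank_perp hσ2 hB X
  have h2 := finrank_perp hσ2 hB (X.map g)
  rw [Cfsg.Agent.S0749.finrank_map_of_injOn g X hinj] at h2
  have : finrank F (perp B (X.map g)) = finrank F (perp B X) := by omega
  rw [this]

theorem exists_ext_vec [Finite F] (hσ : σ ≠ RingHom.id F) (hσ2 : ∀ a : F, σ (σ a) = a)
    (hS : B.IsSymm) (hB : B.Nondegenerate) (X : Submodule F V) (hX : X ≠ ⊤) (g : V →ₗ[F] V)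
    (hiso : ∀ x ∈ X, ∀ x' ∈ X, B (g x) (g x') = B x x') (hinj : ∀ x ∈ X, g x = 0 → x = 0) :
    ∃ v v' : V, v ∉ X ∧ v' ∉ X.map g ∧ (∀ x ∈ X, B (g x) v' = B x v) ∧ B v' v' = B v v := by
  by_cases hco : perp B X ≤ X
  · -- coisotropic case
    have hcoY : perp B (X.map g) ≤ X.map g := (perp_le_iff hσ2 hB X g hiso hinj).mp hco
    obtain ⟨v, -, hv⟩ := SetLike.exists_of_lt (lt_top_iff_ne_top.mpr hX)
    -- a first solution of the linear condition
    have hker : LinearMap.ker (g.domRestrict X) = ⊥ := by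
      rw [LinearMap.ker_eq_bot']
      intro x hx
      ext
      exact hinj x x.2 (by simpa using hx)
    obtain ⟨h, hh⟩ := LinearMap.exists_leftInverse_of_injective _ hker
    obtain ⟨w, hw⟩ := exists_repr hσ2 hS hB ((B v) ∘ₗ X.subtype ∘ₗ h)
    have hw1 : ∀ x ∈ X, B (g x) w = B x v := by
      intro x hx
      have h1 : h (g x) = ⟨x, hx⟩ := by
        have := LinearMap.congr_fun hh ⟨x, hx⟩
        simpa using this
      have := hw (g x)
      simp only [LinearMap.comp_apply, h1, Submodule.subtype_apply] at this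
      rw [← hS.eq, this, hS.eq]
    have hwY : w ∉ X.map g := by
      rintro ⟨x0, hx0, hgx0⟩
      apply hv
      have hmem : v - x0 ∈ perp B X := by
        intro x hx
        rw [map_sub, ← hw1 x hx, ← hgx0, hiso x hx x0 hx0, sub_self]
      have := X.add_mem (hco hmem) hx0
      simpa using this
    -- adjust the norm
    set δ := B v v - B w w with hδ
    have hδfix : σ δ = δ := by
      rw [hδ, map_sub, hS.eq, hS.eq]
    obtain ⟨t, ht⟩ := exists_trace_eq hσ hσ2 δ hδfix
    have hz0 : ∃ z₀ ∈ perp B (X.map g), B w z₀ ≠ 0 := by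
      by_contra hcon
      push Not at hcon
      apply hwY
      rw [← perp_perp hσ2 hS hB (X.map g)]
      intro z hz
      exact swap_zero hS (hcon z hz)
    obtain ⟨z₀, hz₀, hc⟩ := hz0
    set z := (t * (B w z₀)⁻¹) • z₀ with hz
    have hzp : z ∈ perp B (X.map g) := Submodule.smul_mem _ _ hz₀
    have hzY : z ∈ X.map g := hcoY hzp
    have hzz : B z z = 0 := hzp z hzY
    have hwz : B w z = t := by
      rw [hz, map_smul, smul_eq_mul, mul_assoc, inv_mul_cancel₀ hc, mul_one]
    have hzw : B z w = σ t := by rw [← hS.eq, hwz]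
    refine ⟨v, w + z, hv, ?_, ?_, ?_⟩
    · intro hmem
      apply hwY
      have := (X.map g).sub_mem hmem hzY
      simpa using this
    · intro x hx
      rw [map_add, hw1 x hx, hzp (g x) ⟨x, hx, rfl⟩, add_zero]
    · simp only [map_add, LinearMap.add_apply, hwz, hzw, hzz]
      rw [hδ] at ht
      linear_combination ht
  · -- non-coisotropic case
    have hcoY : ¬ perp B (X.map g) ≤ X.map g := fun h => hco ((perp_le_iff hσ2 hB X g hiso hinj).mpr h)
    have key : ∀ Z : Submodule F V, ¬ perp B Z ≤ Z → ∃ v ∈ perp B Z, B v v = 1 ∧ v ∉ Z := by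
      intro Z hZ
      have hne : ∃ z ∈ perp B Z, ∃ z' ∈ perp B Z, B z z' ≠ 0 := by
        by_contra hcon
        push Not at hcon
        apply hZ
        intro y hy
        rw [← perp_perp hσ2 hS hB Z]
        intro z hz
        exact hcon z hz y hy
      obtain ⟨v, hvp, hv1⟩ := exists_norm_one_mem hσ hσ2 hS _ hne
      refine ⟨v, hvp, hv1, ?_⟩
      intro hvZ
      have := hvp v hvZ
      rw [hv1] at this
      exact one_ne_zero this
    obtain ⟨v, hvp, hv1, hvX⟩ := key X hco
    obtain ⟨v', hv'p, hv'1, hv'Y⟩ := key (X.map g) hcoY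
    refine ⟨v, v', hvX, hv'Y, ?_, by rw [hv1, hv'1]⟩
    intro x hx
    rw [hvp x hx, hv'p (g x) ⟨x, hx, rfl⟩]

theorem exists_isometry_ext [Finite F] (hσ : σ ≠ RingHom.id F) (hσ2 : ∀ a : F, σ (σ a) = a)
    (hS : B.IsSymm) (hB : B.Nondegenerate) :
    ∀ (n : ℕ) (X : Submodule F V) (g : V →ₗ[F] V), finrank F V - finrank F X ≤ n →
      (∀ x ∈ X, ∀ x' ∈ X, B (g x) (g x') = B x x') → (∀ x ∈ X, g x = 0 → x = 0) →
      ∃ g' : V →ₗ[F] V, (∀ x ∈ X, g' x = g x) ∧ ∀ u w, B (g' u) (g' w) = B u w := by
  intro n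
  induction n with
  | zero =>
    intro X g hn hiso hinj
    have hX : X = ⊤ := by
      apply Submodule.eq_top_of_finrank_eq
      have := Submodule.finrank_le X
      omega
    subst hX
    exact ⟨g, fun _ _ => rfl, fun u w => hiso u Submodule.mem_top w Submodule.mem_top⟩
  | succ n ih =>
    intro X g hn hiso hinj
    by_cases hX : X = ⊤
    · subst hX
      exact ⟨g, fun _ _ => rfl, fun u w => hiso u Submodule.mem_top w Submodule.mem_top⟩
    · obtain ⟨v, v', hv, hv'Y, hv', hnorm⟩ := exists_ext_vec hσ hσ2 hS hB X hX g hiso hinj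
      obtain ⟨f, hfv, hfX⟩ := Submodule.exists_dual_map_eq_bot_of_notMem hv inferInstance
      have hfX' : ∀ x ∈ X, f x = 0 := by
        intro x hx
        have : f x ∈ X.map f := ⟨x, hx, rfl⟩
        rw [hfX] at this
        simpa using this
      set l : V →ₗ[F] F := (f v)⁻¹ • f with hl
      have hlv : l v = 1 := by
        simp [hl, inv_mul_cancel₀ hfv]
      have hlX : ∀ x ∈ X, l x = 0 := by
        intro x hx
        simp [hl, hfX' x hx]
      set g₁ : V →ₗ[F] V := g + l.smulRight (v' - g v) with hg₁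
      have hg₁x : ∀ x ∈ X, ∀ a : F, g₁ (x + a • v) = g x + a • v' := by
        intro x hx a
        simp only [hg₁, LinearMap.add_apply, LinearMap.smulRight_apply, map_add, map_smul, hlX x hx,
          hlv, zero_smul, smul_eq_mul, mul_one]
        module
      have hmem : ∀ u ∈ X ⊔ Submodule.span F {v}, ∃ x ∈ X, ∃ a : F, u = x + a • v := by
        intro u hu
        obtain ⟨x, hx, z, hz, rfl⟩ := Submodule.mem_sup.mp hu
        obtain ⟨a, rfl⟩ := Submodule.mem_span_singleton.mp hz
        exact ⟨x, hx, a, rfl⟩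
      have hlt : X < X ⊔ Submodule.span F {v} := by
        apply lt_of_le_of_ne le_sup_left
        intro h
        apply hv
        rw [h]
        exact Submodule.mem_sup_right (Submodule.mem_span_singleton_self v)
      have hfr := Submodule.finrank_lt_finrank_of_lt hlt
      have hfr' := Submodule.finrank_le (X ⊔ Submodule.span F {v})
      have hiso₁ : ∀ u ∈ X ⊔ Submodule.span F {v}, ∀ u' ∈ X ⊔ Submodule.span F {v},
          B (g₁ u) (g₁ u') = B u u' := by
        intro u hu u' hu'
        obtain ⟨x, hx, a, rfl⟩ := hmem u hu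
        obtain ⟨x', hx', a', rfl⟩ := hmem u' hu'
        rw [hg₁x x hx, hg₁x x' hx']
        simp only [map_add, map_smul, LinearMap.add_apply, LinearMap.smul_apply, smul_eq_mul,
          map_smulₛₗ]
        have e1 : B v' (g x') = B v x' := by
          rw [← hS.eq, hv' x' hx', hS.eq]
        rw [hiso x hx x' hx', hv' x hx, e1, hnorm]
      have hinj₁ : ∀ u ∈ X ⊔ Submodule.span F {v}, g₁ u = 0 → u = 0 := by
        intro u hu h0
        obtain ⟨x, hx, a, rfl⟩ := hmem u hu
        rw [hg₁x x hx] at h0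
        have ha : a = 0 := by
          by_contra ha
          apply hv'Y
          refine ⟨-(a⁻¹ • x), X.neg_mem (X.smul_mem _ hx), ?_⟩
          have : a • v' = -g x := by
            rw [eq_neg_iff_add_eq_zero, add_comm]; exact h0
          have hgx : g x = -(a • v') := by rw [this, neg_neg]
          rw [map_neg, map_smul, hgx, smul_neg, neg_neg, smul_smul, inv_mul_cancel₀ ha, one_smul]
        subst ha
        simp only [zero_smul, add_zero] at h0 ⊢
        exact hinj x hx h0
      obtain ⟨g', hg'1, hg'2⟩ := ih (X ⊔ Submodule.span F {v}) g₁ (by omega) hiso₁ hinj₁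
      refine ⟨g', ?_, hg'2⟩
      intro x hx
      rw [hg'1 x (Submodule.mem_sup_left hx)]
      have := hg₁x x hx 0
      simpa using this

end Cfsg.Agent.Helper28.HW
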