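import Mathlib
import Cfsg.Agent.Helper28.Herm
import Cfsg.Agent.Helper28.HermWitt
import Cfsg.Agent.S0755

set_option autoImplicit false

namespace Cfsg.Agent.Helper28.HermFrame

open Module Cfsg.Agent.Helper28.HW

variable {F : Type*} [Field F]

/-- the standard Hermitian form `(u, v) ↦ Σ vᵢ σ(uᵢ)` as a sesquilinear map -/
noncomputable def hB (σ : F →+* F) (n : ℕ) : (Fin n → F) →ₛₗ[σ] (Fin n → F) →ₗ[F] F :=
  LinearMap.mk₂'ₛₗ σ (RingHom.id F) (fun u v => ∑ i, v i * σ (u i))
    (by intro u u' v; simp only [Pi.add_apply, map_add, mul_add, Finset.sum_add_distrib])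
    (by intro c u v; simp only [Pi.smul_apply, smul_eq_mul, map_mul, Finset.mul_sum]
        apply Finset.sum_congr rfl; intro i _; ring)
    (by intro u v v'; simp only [Pi.add_apply, add_mul, Finset.sum_add_distrib])
    (by intro c u v; simp only [Pi.smul_apply, smul_eq_mul, RingHom.id_apply, Finset.mul_sum]
        apply Finset.sum_congr rfl; intro i _; ring)

theorem hB_apply (σ : F →+* F) (n : ℕ) (u v : Fin n → F) : hB σ n u v = ∑ i, v i * σ (u i) := rfl

theorem hB_eq_herm (σ : F →+* F) {q : ℕ} (hσ : ∀ x, σ x = x ^ q) (n : ℕ) (u v : Fin n → F) :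
    hB σ n u v = Cfsg.hermForm n F q v u := by
  simp only [hB_apply, Cfsg.hermForm, hσ]

theorem hB_isSymm (σ : F →+* F) (hσ2 : ∀ a, σ (σ a) = a) (n : ℕ) : (hB σ n).IsSymm := by
  refine ⟨fun u v => ?_⟩
  simp only [hB_apply, map_sum, map_mul, hσ2]
  apply Finset.sum_congr rfl
  intro i _
  ring

theorem hB_nondeg (σ : F →+* F) (hσ2 : ∀ a, σ (σ a) = a) (n : ℕ) : (hB σ n).Nondegenerate := by
  have hinj : ∀ a, σ a = 0 → a = 0 := fun a ha => by rw [← hσ2 a, ha, map_zero]
  constructor
  · intro u hu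
    funext i
    have := hu (Pi.single i 1)
    rw [hB_apply] at this
    simp only [Pi.single_apply, ite_mul, one_mul, zero_mul, Finset.sum_ite_eq', Finset.mem_univ,
      if_true] at this
    exact hinj _ this
  · intro v hv
    funext i
    have := hv (Pi.single i 1)
    rw [hB_apply] at this
    simp only [Pi.single_apply, apply_ite σ, map_one, map_zero, mul_ite, mul_one, mul_zero,
      Finset.sum_ite_eq', Finset.mem_univ, if_true] at this
    exact this

/-- An orthonormal frame adapted to a non-degenerate subspace. -/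
theorem exists_frame [Finite F] (σ : F →+* F) (hσ : σ ≠ RingHom.id F) (hσ2 : ∀ a, σ (σ a) = a)
    (n k : ℕ) (W : Submodule F (Fin n → F)) (hWk : finrank F W = k)
    (hW : ∀ u ∈ W, (∀ v ∈ W, hB σ n v u = 0) → u = 0) :
    ∃ (x : Fin k → (Fin n → F)) (y : Fin (n - k) → (Fin n → F)),
      (∀ j, x j ∈ W) ∧ (∀ j, ∀ w ∈ W, hB σ n w (y j) = 0) ∧
      (∀ i j, hB σ n (x i) (x j) = if i = j then 1 else 0) ∧
      (∀ i j, hB σ n (y i) (y j) = if i = j then 1 else 0) := by
  have hS := hB_isSymm σ hσ2 n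
  have hN := hB_nondeg σ hσ2 n
  -- frame of W
  set B' : W →ₛₗ[σ] W →ₗ[F] F := (hB σ n).domRestrict₁₂ W W with hB'
  have hB'a : ∀ a b : W, B' a b = hB σ n a b := fun a b => rfl
  have hS' : B'.IsSymm := ⟨fun a b => by rw [hB'a, hB'a, hS.eq]⟩
  have hsep' : B'.SeparatingRight := by
    intro w hw
    apply Subtype.ext
    apply hW w w.2
    intro v hv
    exact hw ⟨v, hv⟩
  obtain ⟨bx, hbx⟩ := Cfsg.Agent.S0755.aux σ hσ hσ2 k B' hS' hsep' hWk
  -- frame of the perp
  set P := perp (hB σ n) W with hP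
  have hPk : finrank F P = n - k := by
    have := finrank_perp hσ2 hN W
    rw [hWk, Module.finrank_fin_fun, ← hP] at this
    omega
  set B'' : P →ₛₗ[σ] P →ₗ[F] F := (hB σ n).domRestrict₁₂ P P with hB''
  have hB''a : ∀ a b : P, B'' a b = hB σ n a b := fun a b => rfl
  have hS'' : B''.IsSymm := ⟨fun a b => by rw [hB''a, hB''a, hS.eq]⟩
  have hsep'' : B''.SeparatingRight := by
    intro y hy
    apply Subtype.ext
    have hyW : (y : Fin n → F) ∈ W := by
      rw [← perp_perp hσ2 hS hN W]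
      intro p hp
      exact hy ⟨p, hp⟩
    apply hW y hyW
    intro v hv
    exact y.2 v hv
  obtain ⟨by', hby⟩ := Cfsg.Agent.S0755.aux σ hσ hσ2 (n - k) B'' hS'' hsep'' hPk
  refine ⟨fun j => (bx j : Fin n → F), fun j => (by' j : Fin n → F), fun j => (bx j).2,
    fun j w hw => (by' j).2 w hw, fun i j => ?_, fun i j => ?_⟩
  · have := hbx i j
    rw [hB'a] at this
    exact this
  · have := hby i j
    rw [hB''a] at this
    exact this

end Cfsg.Agent.Helper28.HermFrame
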