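import Mathlib
import Cfsg.Prelude.Def_OddOrderLocal

/-!
# The configuration (*) of B&G 13.7 / 14.2(d) as a `Prop`-structure

`M` maximal, `p ∉ σ(M)` with `r_p(M) = 1`, `X ≤ M` of order `p`, `Y = C_{M_σ}(X) ≠ 1`,
`H` a maximal subgroup containing `N_G(X)` with `p ∉ σ(H)`.  `StarCfg` lists the consequences
("(*)-facts") used to refute the configuration: `T1` (the `τ₁`-case, `Helper28.BG13T1b.t1_bg`) and
the steps `(A)`, `(B)`, `(C)` of the `τ₃`-case.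
-/

set_option autoImplicit false

namespace Cfsg.Agent.Helper28.BG13S

open Subgroup

universe u
variable {G : Type u} [Group G]

/-- The (*)-facts.  `A = X × A₂` is the elementary abelian subgroup of order `p²` of a complement
of `H_σ` in `H` containing `X Y`, `A₂ = [A, Y]`, and `M₂` is a maximal subgroup containing
`N_G(A)` (hence `N_G(A₂)`). -/
structure StarCfg (M H M₂ : Subgroup G) (p : ℕ) (X Y A₂ : Subgroup G) : Prop where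
  hM : IsCoatom M
  hH : IsCoatom H
  hM₂ : IsCoatom M₂
  hXp : Nat.card X = p
  hXM : X ≤ M
  hNX : normalizer (X : Set G) ≤ H
  hpM : p ∉ Cfsg.sigma M
  /-- `r_p(M) = 1` -/
  hcycM : ∀ S : Subgroup G, S ≤ M → IsPGroup p S → IsCyclic S
  hY : Y = Cfsg.sigmaCore M ⊓ centralizer (X : Set G)
  hY1 : Y ≠ ⊥
  hpH : p ∉ Cfsg.sigma H
  /-- helper18's `β`-claim and its consequence through S1423 -/
  hYβ : ∀ q : ℕ, q.Prime → q ∣ Nat.card Y → q ∈ Cfsg.beta M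
  hNQ : ∀ Q : Subgroup G, Q ≤ Y → Q ≠ ⊥ → normalizer (Q : Set G) ≤ M
  /-- B&G 13.2(c) in the `τ₂`-case: `M_σ ∩ H = Y` and `M ∩ H` centralizes `Y` -/
  hMσH : Cfsg.sigmaCore M ⊓ H = Y
  hI : M ⊓ H ≤ centralizer (Y : Set G)
  /-- S1418(c) for the line `X` of `H` -/
  hCX : ∀ L : Subgroup G, IsCoatom L → centralizer (X : Set G) ≤ L → L = H
  /-- the `H`-side -/
  hpτ₂ : p ∈ Cfsg.tau2 H
  hHσnil : Group.IsNilpotent ↥(Cfsg.sigmaCore H)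
  hσdisj : ∀ r : ℕ, r ∈ Cfsg.sigma M → r ∉ Cfsg.sigma H
  hHσA₂ : Cfsg.sigmaCore H ⊓ centralizer (A₂ : Set G) = ⊥
  hHσM₂ : Cfsg.sigmaCore H ⊓ M₂ = ⊥
  hHσ1 : Cfsg.sigmaCore H ≠ ⊥
  /-- `H ∩ M₂` (the complement `E_H`) normalizes `A₂` -/
  hEA₂ : H ⊓ M₂ ≤ normalizer (A₂ : Set G)
  /-- the line `A₂` -/
  hA₂ : Nat.card A₂ = p
  hXA₂ : X ⊓ A₂ = ⊥
  hA₂X : A₂ ≤ centralizer (X : Set G)
  hYA₂ : Y ≤ normalizer (A₂ : Set G)
  hYA₂f : ∀ y ∈ Y, y ≠ 1 → y ∉ centralizer (A₂ : Set G)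
  hNA₂ : normalizer (A₂ : Set G) ≤ M₂
  /-- the `M₂`-side -/
  hpσ₂ : p ∈ Cfsg.sigma M₂
  hXM₂ : X ≤ M₂
  hYM₂ : Y ≤ M₂
  hYσ₂ : ∀ q : ℕ, q.Prime → q ∣ Nat.card Y → q ∉ Cfsg.sigma M₂
  /-- `r_q(M₂) = 1` for `q ∈ π(Y)` -/
  hcyc₂ : ∀ q : ℕ, q.Prime → q ∣ Nat.card Y →
    ∀ S : Subgroup G, S ≤ M₂ → IsPGroup q S → IsCyclic S
  /-- the Sylow `p`-subgroups of `G` are nonabelian -/
  hPna : ∃ P : Subgroup G, IsPGroup p P ∧ ¬ IsMulCommutative P ∧ P ≤ M₂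

end Cfsg.Agent.Helper28.BG13S
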