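import Mathlib
import Cfsg.Prelude.Def_OddOrderLocal
import Cfsg.Agent.Helper28.BG13Star
import Cfsg.Agent.Helper28.BG13T1b
import Cfsg.Agent.Helper10.BG13H
import Cfsg.Agent.Helper9.BG12d
import Cfsg.Agent.Helper9.BG12n

/-!
# First consequences of the (*)-facts: `Y` is a Hall subgroup of `H`, Step 1, and T1
-/

set_option autoImplicit false
set_option linter.unusedSectionVars false
set_option linter.unusedVariables false
set_option linter.style.haveILetI false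

namespace Cfsg.Agent.Helper28.BG13S

open Subgroup
open scoped commutatorElement
open Cfsg.Agent.Helper14 (IsSylowIn exists_isSylowIn exists_isSylowIn_ge)
open Cfsg.Agent.Helper16.BG11 (BG)
open Cfsg.Agent.H9.BG12 (St1423)
open Cfsg.Agent.Helper10.BG13F (T1)

universe u
variable {G : Type u} [Group G] [Finite G]

/-- normalizers grow in `p`-subgroups (ambient form) -/
theorem lt_inf_normalizer' {p : ℕ} [Fact p.Prime] {U V : Subgroup G} (hU : IsPGroup p U)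
    (hVU : V < U) : V < U ⊓ normalizer (V : Set G) := by
  have hnil : Group.IsNilpotent ↥U := hU.isNilpotent
  have hlt : V.subgroupOf U < ⊤ := by
    rw [lt_top_iff_ne_top, Ne, Subgroup.subgroupOf_eq_top]
    exact not_le_of_gt hVU
  have h1 := Group.normalizerCondition_of_isNilpotent (G := ↥U) (V.subgroupOf U) hlt
  rw [← Subgroup.subgroupOf_normalizer_eq hVU.le] at h1
  obtain ⟨u, hu1, hu2⟩ := SetLike.exists_of_lt h1
  rw [Subgroup.mem_subgroupOf] at hu1 hu2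
  refine lt_of_le_of_ne (le_inf hVU.le Subgroup.le_normalizer) ?_
  intro heq
  apply hu2
  rw [heq]
  exact ⟨u.2, hu1⟩

variable {M H M₂ : Subgroup G} {p : ℕ} {X Y A₂ : Subgroup G}

namespace StarCfg

theorem hYσM (c : StarCfg M H M₂ p X Y A₂) : Y ≤ Cfsg.sigmaCore M := by
  rw [c.hY]; exact inf_le_left

theorem hYX (c : StarCfg M H M₂ p X Y A₂) : Y ≤ centralizer (X : Set G) := by
  rw [c.hY]; exact inf_le_right

theorem hYM (c : StarCfg M H M₂ p X Y A₂) : Y ≤ M :=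
  c.hYσM.trans (Cfsg.Agent.H9.BG12.sigmaCore_le M)

theorem hYH (c : StarCfg M H M₂ p X Y A₂) : Y ≤ H :=
  (c.hYX.trans (centralizer_le_normalizer _)).trans c.hNX

theorem hXH (c : StarCfg M H M₂ p X Y A₂) : X ≤ H := le_normalizer.trans c.hNX

theorem hNY (c : StarCfg M H M₂ p X Y A₂) : normalizer (Y : Set G) ≤ M := c.hNQ Y le_rfl c.hY1

/-- the primes dividing `|Y|` lie in `σ(M)` -/
theorem mem_sigma_of_dvd (c : StarCfg M H M₂ p X Y A₂) {q : ℕ} (hq : q.Prime)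
    (hqY : q ∣ Nat.card Y) : q ∈ Cfsg.sigma M :=
  Cfsg.Agent.H9.BG12.mem_sigma_of_dvd_card_sigmaCore hq (hqY.trans (card_dvd_of_le c.hYσM))

/-- `Y` is a Hall subgroup of `H`. -/
theorem hall (c : StarCfg M H M₂ p X Y A₂) (h : BG G) :
    (Nat.card Y).Coprime (Y.relIndex H) := by
  apply Nat.coprime_of_dvd
  intro q hq hqY hqI
  haveI : Fact q.Prime := ⟨hq⟩
  have hqσ : q ∈ Cfsg.sigma M := c.mem_sigma_of_dvd hq hqY
  obtain ⟨Yq, hYq⟩ := exists_isSylowIn (p := q) Y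
  have hYq1 : Yq ≠ ⊥ := Cfsg.Agent.Helper16.BG11.IsSylowIn.ne_bot_of_dvd hYq hqY
  obtain ⟨S, hS, hYqS⟩ := exists_isSylowIn_ge (hYq.1.trans c.hYH) hYq.2.1
  have hSeq : S = Yq := by
    by_contra hne
    have hlt : Yq < S := lt_of_le_of_ne hYqS (fun h' => hne h'.symm)
    have hlt2 := lt_inf_normalizer' hS.2.1 hlt
    set N₁ : Subgroup G := S ⊓ normalizer (Yq : Set G) with hN₁
    have hN₁M : N₁ ≤ M := inf_le_right.trans (c.hNQ Yq hYq.1 hYq1)
    have hN₁H : N₁ ≤ H := inf_le_left.trans hS.1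
    have hN₁q : IsPGroup q N₁ := hS.2.1.to_le inf_le_left
    have hN₁σ : N₁ ≤ Cfsg.sigmaCore M :=
      Cfsg.Agent.H9.BG12.le_sigmaCore_of_isPGroup h.st1350 c.hM hqσ hN₁M hN₁q
    have hN₁Y : N₁ ≤ Y := by rw [← c.hMσH]; exact le_inf hN₁σ hN₁H
    have := hYq.2.2 N₁ hN₁Y hN₁q hlt2.le
    exact hlt2.ne this.symm
  rw [hSeq] at hS
  have h1 := Cfsg.Agent.Helper10.not_dvd_relIndex_of_isSylowIn hS
  apply h1
  rw [← relIndex_mul_relIndex Yq Y H hYq.1 c.hYH]
  exact Dvd.dvd.mul_left hqI _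

/-- `M₂ ≠ H` -/
theorem hM₂H (c : StarCfg M H M₂ p X Y A₂) : M₂ ≠ H := by
  intro h'
  exact c.hpH (h' ▸ c.hpσ₂)

/-- **Step 1**: `p ∉ β(M₂)` and `X ⊄ ((M₂)_σ)'`. -/
theorem step1 (c : StarCfg M H M₂ p X Y A₂) (h1423 : St1423 G) [Fact p.Prime] :
    p ∉ Cfsg.beta M₂ ∧ ¬ X ≤ ⁅Cfsg.sigmaCore M₂, Cfsg.sigmaCore M₂⁆ := by
  have key : ¬ (p ∈ Cfsg.beta M₂ ∨ X ≤ ⁅Cfsg.sigmaCore M₂, Cfsg.sigmaCore M₂⁆) := by
    intro h'
    have h1 := Cfsg.Agent.H9.BG12.centralizer_le_of_1423 h1423 c.hM₂ c.hpσ₂ c.hXM₂ c.hXp h'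
    exact c.hM₂H (c.hCX M₂ c.hM₂ h1)
  exact ⟨fun h' => key (Or.inl h'), fun h' => key (Or.inr h')⟩

/-- the output of T1 (Steps 1–5) -/
theorem t1 (c : StarCfg M H M₂ p X Y A₂) (h : BG G) (h1423 : St1423 G) [Fact p.Prime] :
    ∃ (P : Sylow p G) (V : Subgroup G), X ≤ (P : Subgroup G) ∧
      (P : Subgroup G) ≤ Cfsg.sigmaCore M₂ ∧
      Y ≤ normalizer ((P : Subgroup G) : Set G) ∧
      Cfsg.IsComplIn (P : Subgroup G) V (normalizer ((P : Subgroup G) : Set G)) ∧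
      Y ≤ V ∧ V ≤ normalizer (X : Set G) ∧
      ⁅V, Y⁆ ≤ centralizer ((P : Subgroup G) : Set G) ∧ (Nat.card V).Coprime p ∧
      ∃ e ∈ V ⊓ normalizer (Y : Set G), e ∉ centralizer (X : Set G) := by
  obtain ⟨hpβ, hXder⟩ := c.step1 h1423
  have hσ₂ := (h.s1350 M₂ c.hM₂).1
  have hYσ : (Nat.card Y).Coprime (Nat.card (Cfsg.sigmaCore M₂)) := by
    apply Nat.coprime_of_dvd
    intro q hq hqY hqσ
    exact c.hYσ₂ q hq hqY (hσ₂.2.1 q hq hqσ)
  have hcyc : ∀ S : Subgroup G, IsPGroup p S → S ≤ centralizer (Y : Set G) → IsCyclic S :=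
    fun S hS hSY => c.hcycM S ((hSY.trans (centralizer_le_normalizer _)).trans c.hNY) hS
  have hHall : (Nat.card Y).Coprime (Y.relIndex (normalizer (X : Set G))) := by
    have h1 := c.hall h
    have hYN : Y ≤ normalizer (X : Set G) := c.hYX.trans (centralizer_le_normalizer _)
    rw [← relIndex_mul_relIndex Y (normalizer (X : Set G)) H hYN c.hNX] at h1
    exact Nat.Coprime.coprime_dvd_right (Dvd.intro _ rfl) h1
  exact Cfsg.Agent.Helper28.BG13T1.t1_bg h.hG c.hM₂ c.hpσ₂ hpβ c.hXp c.hXM₂ hXder c.hYM₂ c.hYX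
    hYσ hcyc hHall

/-- a subgroup `X` of prime order normalized but not centralized by `e`: `X = [X, e]` lies in
the derived subgroup of any subgroup containing `X` and `e` -/
theorem le_commutator_of_not_centralizes {p : ℕ} [hp : Fact p.Prime] {X M : Subgroup G} {e : G}
    (hXp : Nat.card X = p) (hXM : X ≤ M) (heM : e ∈ M) (heN : e ∈ normalizer (X : Set G))
    (heC : e ∉ centralizer (X : Set G)) : X ≤ ⁅M, M⁆ := by
  -- some `x ∈ X` with `⁅e, x⁆ ≠ 1`
  have hex : ∃ x ∈ X, ⁅e, x⁆ ≠ 1 := by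
    by_contra hcon
    push Not at hcon
    apply heC
    rw [mem_centralizer_iff]
    intro x hx
    have h1 := hcon x hx
    rw [commutatorElement_eq_one_iff_mul_comm] at h1
    exact h1.symm
  obtain ⟨x, hx, hne⟩ := hex
  have hcX : ⁅e, x⁆ ∈ X := by
    rw [commutatorElement_def]
    exact X.mul_mem ((mem_normalizer_iff.mp heN x).mp hx) (X.inv_mem hx)
  have hcM : ⁅e, x⁆ ∈ ⁅M, M⁆ := commutator_mem_commutator heM (hXM hx)
  have hz : zpowers ⁅e, x⁆ = X :=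
    Cfsg.Agent.Helper16.BG11.zpowers_eq_of_card_prime hp.out hXp hcX hne
  rw [← hz, zpowers_le]
  exact hcM

/-- `X ≤ M'`: the prime `p` is not in `τ₁(M)`. -/
theorem le_commutator (c : StarCfg M H M₂ p X Y A₂) (h : BG G) (h1423 : St1423 G)
    [Fact p.Prime] : X ≤ ⁅M, M⁆ := by
  obtain ⟨P, V, -, -, -, -, -, hVX, -, -, e, he, heC⟩ := c.t1 h h1423
  exact le_commutator_of_not_centralizes c.hXp c.hXM (c.hNY he.2) (hVX he.1) heC

theorem not_mem_tau1 (c : StarCfg M H M₂ p X Y A₂) (h : BG G) (h1423 : St1423 G)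
    [Fact p.Prime] : p ∉ Cfsg.tau1 M := by
  intro hτ
  apply hτ.2.2.2.1
  rw [← c.hXp]
  exact card_dvd_of_le (c.le_commutator h h1423)

end StarCfg

/-- The reduction to the (*)-facts, as a hypothesis (to be proved by helper9/helper18). -/
def ExistsStar (G : Type u) [Group G] [Finite G] : Prop :=
  ∀ (M H : Subgroup G), IsCoatom M → IsCoatom H → ∀ (p : ℕ) [Fact p.Prime],
    p ∉ Cfsg.sigma M → (∀ S : Subgroup G, S ≤ M → IsPGroup p S → IsCyclic S) →
    ∀ X : Subgroup G, X ≤ M → Nat.card X = p →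
      Cfsg.sigmaCore M ⊓ centralizer (X : Set G) ≠ ⊥ → normalizer (X : Set G) ≤ H →
      p ∉ Cfsg.sigma H →
      ∃ M₂ A₂ : Subgroup G,
        StarCfg M H M₂ p X (Cfsg.sigmaCore M ⊓ centralizer (X : Set G)) A₂

/-- `r_p(M) ≤ 1` in the form used in `StarCfg` -/
theorem cyclic_of_pRankLE_one (hG : Cfsg.IsMinSimpleOddOrder G) {M : Subgroup G} {p : ℕ}
    [Fact p.Prime] (hr : Cfsg.PRankLE p 1 ↥M) :
    ∀ S : Subgroup G, S ≤ M → IsPGroup p S → IsCyclic S := fun S hSM hS =>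
  Cfsg.Agent.H9.BG12.isCyclic_of_pRankLE_one hG hS
    (Cfsg.Agent.Helper7.PRankLE.of_injective (Subgroup.inclusion hSM)
      (Subgroup.inclusion_injective hSM) hr)

/-- **T1** (B&G 13.7 / 14.2(d), the `τ₁`-case), relative to the reduction to the (*)-facts. -/
theorem t1_of_existsStar (h : BG G) (h1423 : St1423 G) (hES : ExistsStar G) : T1 G := by
  intro M hM t _ htτ T hTM hTt hne L hL hNL
  by_contra htL
  obtain ⟨M₂, A₂, c⟩ := hES M L hM hL t htτ.2.1 (cyclic_of_pRankLE_one h.hG htτ.2.2.2.2)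
    T hTM hTt hne hNL htL
  exact c.not_mem_tau1 h h1423 htτ

end Cfsg.Agent.Helper28.BG13S
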