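import Mathlib
import Cfsg.Prelude.Def_OddOrderLocal
import Cfsg.Agent.Helper28.BG13Star2
import Cfsg.Agent.Lead.BG142a
import Cfsg.Agent.Helper15.SSolv1
import Cfsg.Agent.Helper4.BG10e

/-!
# The `τ₃`-case of the configuration (*): the subgroup `T₀`

From the (*)-facts and T1: `p ∈ τ₃(M)`, a complement `E ≥ X` of `M_σ` normalizes `X` (so
`E ≤ H`), `τ₂(M) = ∅`, and there are a prime `t ∈ τ₁(M)`, a `t`-element `e ∈ E ∩ N_G(P)` not
centralizing `X` and the subgroup `T₀` of order `t` of `⟨e⟩`.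
-/

set_option autoImplicit false
set_option linter.unusedSectionVars false
set_option linter.unusedVariables false
set_option linter.style.haveILetI false

namespace Cfsg.Agent.Helper28.BG13S

open Subgroup
open scoped commutatorElement
open Cfsg.Agent.Helper14 (IsSylowIn exists_isSylowIn exists_isSylowIn_ge cj)
open Cfsg.Agent.Helper16.BG11 (BG)
open Cfsg.Agent.H9.BG12 (St1423 St1417)
open Cfsg.Agent.Lead.BG142 (St1415)
open Cfsg.Agent.Lead (IsPiNum)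

universe u
variable {G : Type u} [Group G] [Finite G]
variable {M H M₂ : Subgroup G} {p : ℕ} {X Y A₂ : Subgroup G}

namespace StarCfg

theorem hXpg (c : StarCfg M H M₂ p X Y A₂) [Fact p.Prime] : IsPGroup p X :=
  IsPGroup.of_card (n := 1) (by rw [c.hXp, pow_one])

/-- `r_p(M) ≤ 1` -/
theorem pRankLE_one (c : StarCfg M H M₂ p X Y A₂) [Fact p.Prime] : Cfsg.PRankLE p 1 M := by
  obtain ⟨S, hS⟩ := exists_isSylowIn (p := p) M
  exact Cfsg.Agent.H9.BG12.pRankLE_one_of_cyclic_sylow hS (c.hcycM S hS.1 hS.2.1)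

/-- `H ≠ M` -/
theorem hHM (c : StarCfg M H M₂ p X Y A₂) [Fact p.Prime] : H ≠ M := by
  intro h'
  exact c.hpτ₂.2.2.2 (h' ▸ c.pRankLE_one)

/-- the `τ₃`-analysis: the prime `t`, the `t`-element `e` and the subgroup `T₀` -/
theorem exists_T0 (c : StarCfg M H M₂ p X Y A₂) (h : BG G) (h1423 : St1423 G)
    (h1415 : St1415 G) (h1417 : St1417 G) [hp : Fact p.Prime] :
    p ∉ Cfsg.beta M₂ ∧ X ≤ Cfsg.sigmaCore M₂ ∧
    ∃ (t : ℕ) (T₀ : Subgroup G) (e : G), t.Prime ∧ t ∈ Cfsg.tau1 M ∧ t ≠ p ∧ Nat.card T₀ = t ∧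
      T₀ ≤ M ∧ T₀ ≤ H ∧ T₀ ≤ M₂ ∧ T₀ ≤ normalizer (X : Set G) ∧ T₀ ≤ centralizer (Y : Set G) ∧
      IsPGroup t (zpowers e) ∧ e ∈ M₂ ∧ e ∈ normalizer (X : Set G) ∧
      e ∉ centralizer (X : Set G) := by
  have hpp : p.Prime := hp.out
  obtain ⟨hpβ, -⟩ := c.step1 h1423
  obtain ⟨P, V, hXP, hPσ, hYP, hV, hYV, hVX, -, hVp, e₀, he₀, he₀C⟩ := c.t1 h h1423
  have hXσ₂ : X ≤ Cfsg.sigmaCore M₂ := hXP.trans hPσ
  refine ⟨hpβ, hXσ₂, ?_⟩
  have hXM' : X ≤ ⁅M, M⁆ := c.le_commutator h h1423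
  have hpM' : p ∣ Nat.card ↥⁅M, M⁆ := c.hXp ▸ card_dvd_of_le hXM'
  have hpτ₃ : p ∈ Cfsg.tau3 M := ⟨hpp, c.hpM, hpM', c.pRankLE_one⟩
  -- the complement `E` and its Hall `τ₃(M)`-subgroup `E₃`
  obtain ⟨E, hE, hXE⟩ := Cfsg.Agent.Helper10.BG13F.exists_compl_ge h c.hM c.hpM c.hXM c.hXpg
  have hEM : E ≤ M := hE.1
  have hMsolv : Group.IsSolvable ↥M := h.hG.2.2.2 M c.hM.1
  have hEsolv : Group.IsSolvable ↥E :=
    Group.isSolvable_of_isSolvable_injective (f := Subgroup.inclusion hEM)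
      (Subgroup.inclusion_injective hEM)
  obtain ⟨E₃, hE₃, hXE₃⟩ := Cfsg.Agent.Lead.exists_isPiHallOf_ge (π := Cfsg.tau3 M) hEsolv hXE
    (Cfsg.Agent.H9.BG12.isPiNum_of_isPGroup (π := Cfsg.tau3 M) hpτ₃ c.hXpg)
  obtain ⟨hE₃cyc, -, hEE₃⟩ := (h1415 M c.hM E hE).2.2 E₃ hE₃
  -- `E ≤ N_G(X) ≤ H`
  have hEX : E ≤ normalizer (X : Set G) := by
    intro g hg
    rw [Cfsg.Agent.Helper14.mem_normalizer_iff_map_cj]
    apply Cfsg.Agent.Helper23.eq_of_card_eq_of_isCyclic E₃ hE₃cyc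
    · rintro _ ⟨x, hx, rfl⟩
      exact (mem_normalizer_iff.mp (hEE₃ hg) x).mp (hXE₃ hx)
    · exact hXE₃
    · rw [Cfsg.Agent.Helper14.card_map_cj]
  have hEH : E ≤ H := hEX.trans c.hNX
  -- `τ₂(M) = ∅`
  have hτ₂ : ∀ s : ℕ, s ∉ Cfsg.tau2 M := by
    intro s hs
    haveI : Fact s.Prime := ⟨hs.1⟩
    obtain ⟨B, hBE, hBe, hBc⟩ :=
      Cfsg.Agent.Lead.BG143.exists_elementary_sq_le_compl h.hG h.st1350 c.hM hE hs
    have h1 := (h1417 M c.hM s hs B ⟨hBE.trans hEM, hBe, hBc⟩).2.2.2.2.1 H c.hH c.hHM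
      (hBE.trans hEH)
    rw [c.hMσH] at h1
    exact c.hY1 h1
  -- decompose `e₀ = y f` with `y ∈ Y`, `f ∈ E`
  have he₀M : e₀ ∈ M := c.hNY he₀.2
  have he₀N : e₀ ∈ normalizer (X : Set G) := hVX he₀.1
  have hdec := Cfsg.Agent.Lead.BG142.inf_normalizer_eq_sup hE
    (Cfsg.Agent.H9.BG12.le_normalizer_sigmaCore M) hXE
  have he₀' : e₀ ∈ (E ⊓ normalizer (X : Set G)) ⊔ (Cfsg.sigmaCore M ⊓ centralizer (X : Set G)) := by
    rw [← hdec]; exact ⟨he₀M, he₀N⟩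
  rw [← c.hY] at he₀'
  have hEY : E ≤ centralizer (Y : Set G) := (le_inf hEM hEH).trans c.hI
  have hEYn : E ⊓ normalizer (X : Set G) ≤ normalizer (Y : Set G) :=
    inf_le_left.trans (hEY.trans (centralizer_le_normalizer _))
  rw [sup_comm] at he₀'
  obtain ⟨y, hy, f, hf, hyf⟩ := (Cfsg.Agent.Helper7.mem_sup_of_le_normalizer hEYn).mp he₀'
  have hfE : f ∈ E := hf.1
  have hfV : f ∈ V := by
    have : f = y⁻¹ * e₀ := by rw [← hyf]; group
    rw [this]; exact V.mul_mem (V.inv_mem (hYV hy)) he₀.1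
  have hfC : f ∉ centralizer (X : Set G) := by
    intro hfc
    apply he₀C
    rw [← hyf]
    exact (centralizer (X : Set G)).mul_mem (c.hYX hy) hfc
  -- a primary power of `f` not centralizing `X`
  have hprim : ∃ k : ℕ, (∃ q e : ℕ, q.Prime ∧ orderOf (f ^ k) = q ^ e) ∧
      f ^ k ∉ centralizer (X : Set G) := by
    by_contra hcon
    push Not at hcon
    exact hfC (Cfsg.Agent.Helper15.SSolv.mem_of_primary (centralizer (X : Set G)) _ f rfl hcon)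
  obtain ⟨k, ⟨t, j, ht, hord⟩, hfkC⟩ := hprim
  haveI : Fact t.Prime := ⟨ht⟩
  set e : G := f ^ k with he
  have heE : e ∈ E := E.pow_mem hfE k
  have heV : e ∈ V := V.pow_mem hfV k
  have he1 : e ≠ 1 := fun h1 => hfkC (h1 ▸ (centralizer (X : Set G)).one_mem)
  have hj0 : j ≠ 0 := by
    intro hj
    rw [hj, pow_zero, orderOf_eq_one_iff] at hord
    exact he1 hord
  have het : IsPGroup t (zpowers e) := IsPGroup.of_card (n := j) (by rw [Nat.card_zpowers, hord])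
  have htord : t ∣ orderOf e := by rw [hord]; exact dvd_pow_self t hj0
  -- `t ≠ p`
  have htp : t ≠ p := by
    intro htp
    have h1 : t ∣ Nat.card V := htord.trans (Subgroup.orderOf_dvd_natCard V heV)
    rw [htp] at h1
    exact hpp.one_lt.ne' (Nat.eq_one_of_dvd_coprimes hVp.symm (dvd_refl p) h1)
  -- `t ∈ τ₁(M)`
  have hEhall := Cfsg.Agent.H9.BG12.isPiHallOf_compl h.st1350 c.hM hE
  have htE : t ∣ Nat.card E := htord.trans (Subgroup.orderOf_dvd_natCard E heE)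
  have htσ : t ∉ Cfsg.sigma M := hEhall.2.1 t ht htE
  have htM : t ∣ Nat.card M := htE.trans (card_dvd_of_le hEM)
  have htr2 : Cfsg.PRankLE t 2 M := by
    by_contra hr
    exact htσ (Cfsg.Agent.Helper4.BG10.alpha_subset_sigma h.hG h.uniq c.hM ⟨ht, hr⟩)
  have htr1 : Cfsg.PRankLE t 1 M := by
    by_contra hr
    exact hτ₂ t ⟨ht, htσ, htr2, hr⟩
  have htM' : ¬ t ∣ Nat.card ↥⁅M, M⁆ := by
    intro hd
    have htτ₃ : t ∈ Cfsg.tau3 M := ⟨ht, htσ, hd, htr1⟩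
    have hzE : zpowers e ≤ E := zpowers_le.mpr heE
    have hle : zpowers e ≤ E₃ := by
      apply Cfsg.Agent.H9.BG12.le_of_coprime_card_relIndex hzE hE₃.1 hEE₃
      rw [Nat.card_zpowers, hord]
      apply Nat.Coprime.pow_left
      exact (Nat.Prime.coprime_iff_not_dvd ht).mpr (hE₃.2.2 t ht htτ₃)
    have heE₃ : e ∈ E₃ := hle (mem_zpowers e)
    apply hfkC
    rw [mem_centralizer_iff]
    intro x hx
    obtain ⟨g, hg⟩ := hE₃cyc.exists_generator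
    obtain ⟨a, ha⟩ := mem_zpowers_iff.mp (hg ⟨x, hXE₃ hx⟩)
    obtain ⟨b, hb⟩ := mem_zpowers_iff.mp (hg ⟨e, heE₃⟩)
    have hx' : x = ((g ^ a : ↥E₃) : G) := by rw [ha]
    have he' : e = ((g ^ b : ↥E₃) : G) := by rw [hb]
    rw [hx', he']
    push_cast
    exact (Commute.zpow_zpow_self (g : G) a b).eq
  have htτ₁ : t ∈ Cfsg.tau1 M := ⟨ht, htσ, htM, htM', htr1⟩
  -- the subgroup `T₀` of order `t` of `⟨e⟩`
  set z : G := e ^ (orderOf e / t) with hz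
  have hzo : orderOf z = t := orderOf_pow_orderOf_div (orderOf_pos e).ne' htord
  have hzE : z ∈ E := E.pow_mem heE _
  have hzV : z ∈ V := V.pow_mem heV _
  have hPM₂ : (P : Subgroup G) ≤ M₂ := hPσ.trans (Cfsg.Agent.H9.BG12.sigmaCore_le M₂)
  have hPsyl : IsSylowIn p (P : Subgroup G) M₂ :=
    Cfsg.Agent.Helper10.isSylowIn_of_le (Cfsg.Agent.Helper10.isSylowIn_top_coe P) hPM₂ le_top
  have hNPM₂ : normalizer ((P : Subgroup G) : Set G) ≤ M₂ :=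
    Cfsg.Agent.Helper4.BG10.sigma_normalizer_le c.hpσ₂ hPsyl
  have hVM₂ : V ≤ M₂ := hV.2.1.trans hNPM₂
  refine ⟨t, zpowers z, e, ht, htτ₁, htp, by rw [Nat.card_zpowers, hzo], ?_, ?_, ?_, ?_, ?_, het,
    hVM₂ heV, hEX heE, hfkC⟩
  · exact zpowers_le.mpr (hEM hzE)
  · exact zpowers_le.mpr (hEH hzE)
  · exact zpowers_le.mpr (hVM₂ hzV)
  · exact zpowers_le.mpr (hEX hzE)
  · exact zpowers_le.mpr (hEY hzE)

end StarCfg

end Cfsg.Agent.Helper28.BG13S
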