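import Mathlib
import Cfsg.Prelude.Def_OddOrderLocal
import Cfsg.Agent.Helper28.BG13Star3
import Cfsg.Agent.Helper4.BG13A3

/-!
# The configuration (*) is impossible (B&G 13.7 / 14.2(d)), relative to the reduction
`ExistsStar G` to the (*)-facts and to the `(C)`-adapter `FinalStar G`
-/

set_option autoImplicit false
set_option linter.unusedSectionVars false
set_option linter.unusedVariables false
set_option linter.style.haveILetI false

namespace Cfsg.Agent.Helper28.BG13S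

open Subgroup
open scoped commutatorElement
open Cfsg.Agent.Helper14 (IsSylowIn exists_isSylowIn exists_isSylowIn_ge cj)
open Cfsg.Agent.Helper16.BG11 (BG)
open Cfsg.Agent.H9.BG12 (St1423 St1417 St1418 St1420 St1422)
open Cfsg.Agent.Lead.BG142 (St1415 NoStar)
open Cfsg.Agent.Helper10.BG13F (T1 BCfg)

universe u
variable {G : Type u} [Group G] [Finite G]
variable {M H M₂ : Subgroup G} {p : ℕ} {X Y A₂ : Subgroup G}

/-- the `(C)`-adapter: `StarCfg` + the facts on `T₀` give helper10's `FinalCfg`, hence `False` -/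
def FinalStar (G : Type u) [Group G] [Finite G] : Prop :=
  ∀ (M H M₂ : Subgroup G) (p t : ℕ) (X Y A₂ T : Subgroup G) [Fact p.Prime] [Fact t.Prime],
    StarCfg M H M₂ p X Y A₂ → t ∈ Cfsg.tau1 M → T ≤ M → Nat.card T = t → t ≠ p →
    X ≤ Cfsg.sigmaCore M₂ → p ∉ Cfsg.beta M₂ → T ≤ M₂ → T ≤ normalizer (X : Set G) →
    ¬ T ≤ centralizer (X : Set G) → T ≤ centralizer (A₂ : Set G) →
    T ≤ centralizer (Y : Set G) → False

namespace StarCfg

/-- **The configuration (*) is impossible.** -/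
theorem false_of (c : StarCfg M H M₂ p X Y A₂) (h : BG G) (h1415 : St1415 G)
    (h1417 : St1417 G) (h1418 : St1418 G) (h1420 : St1420 G) (h1422 : St1422 G)
    (h1423 : St1423 G) (hT1 : T1 G) (hfin : FinalStar G) [hp : Fact p.Prime] : False := by
  obtain ⟨hpβ, hXσ₂, t, T₀, e, ht, htτ₁, htp, hT₀t, hT₀M, hT₀H, hT₀M₂, hT₀X, hT₀Y, het, heM₂,
    heX, heXn⟩ := c.exists_T0 h h1423 h1415 h1417
  haveI : Fact t.Prime := ⟨ht⟩
  have hT₀pg : IsPGroup t T₀ := IsPGroup.of_card (n := 1) (by rw [hT₀t, pow_one])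
  have hT₀1 : T₀ ≠ ⊥ := by
    intro h0
    rw [h0, Subgroup.card_bot] at hT₀t
    exact ht.one_lt.ne hT₀t
  have hT₀Hσ : ¬ T₀ ≤ Cfsg.sigmaCore H := by
    intro hle
    apply hT₀1
    rw [← le_bot_iff, ← c.hHσM₂]
    exact le_inf hle hT₀M₂
  have htH : t ∉ Cfsg.sigma H := fun hσ =>
    hT₀Hσ (Cfsg.Agent.H9.BG12.le_sigmaCore_of_isPGroup h.st1350 c.hH hσ hT₀H hT₀pg)
  -- (A)
  have hA : T₀ ≤ centralizer (A₂ : Set G) :=
    (Cfsg.Agent.Helper4.BG13A.stepA_of_starCfg h h1420 c hT₀t hT₀H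
      ((le_inf hT₀H hT₀M₂).trans c.hEA₂) htp htτ₁.2.1 htH).2
  -- (B)
  obtain ⟨P, hP, hPna, hPM₂⟩ := c.hPna
  have hYT₀ : Y ≤ centralizer (T₀ : Set G) := by
    rw [le_centralizer_iff]; exact hT₀Y
  have hT₀σ : Cfsg.sigmaCore M ⊓ centralizer (T₀ : Set G) ≠ ⊥ := by
    intro h0
    apply c.hY1
    rw [← le_bot_iff, ← h0]
    exact le_inf c.hYσM hYT₀
  have hB : ¬ T₀ ≤ centralizer (X : Set G) :=
    Cfsg.Agent.Helper10.BG13F.not_le_centralizer_of_BCfg h hT1 h1418 h1422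
      (c := (⟨c.hM, c.hM₂, c.hH, htτ₁, hT₀M, hT₀t, hT₀σ, htp, het, heM₂, heX, heXn, c.hXp, hXσ₂,
        hpβ, hP, hPna, hPM₂, c.hA₂, c.hXA₂, c.hA₂X, hA, c.hNX, hT₀Hσ⟩ :
        BCfg M M₂ H p t X A₂ P T₀ e))
  -- (C)
  exact hfin M H M₂ p t X Y A₂ T₀ c htτ₁ hT₀M hT₀t htp hXσ₂ hpβ hT₀M₂ hT₀X hB hA hT₀Y

end StarCfg

/-- **B&G 13.7 / 14.2(d)** (`NoStar`), relative to `ExistsStar G` and `FinalStar G`. -/
theorem noStar_of (h : BG G) (h1415 : St1415 G) (h1417 : St1417 G) (h1418 : St1418 G)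
    (h1420 : St1420 G) (h1422 : St1422 G) (h1423 : St1423 G) (hES : ExistsStar G)
    (hfin : FinalStar G) : NoStar G := by
  intro M hM p hpκ X hXM hXp hne H hH hNX
  by_contra hpH
  haveI : Fact p.Prime := ⟨hpκ.1⟩
  have hT1 : T1 G := t1_of_existsStar h h1423 hES
  obtain ⟨M₂, A₂, c⟩ := hES M H hM hH p hpκ.2.2.1
    (cyclic_of_pRankLE_one h.hG (Cfsg.Agent.Lead.BG143.pRankLE_one_of_mem_kappa hpκ))
    X hXM hXp hne hNX hpH
  exact c.false_of h h1415 h1417 h1418 h1420 h1422 h1423 hT1 hfin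

end Cfsg.Agent.Helper28.BG13S
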