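import Mathlib
import Cfsg.Prelude.Def_OddOrderLocal
import Cfsg.Agent.Helper28.BG13Star4
import Cfsg.Agent.Helper4.BG13C
import Cfsg.Agent.Helper16.BG11R
import Cfsg.Agent.S1415
import Cfsg.Agent.S1417
import Cfsg.Agent.S1418
import Cfsg.Agent.S1420
import Cfsg.Agent.S1422
import Cfsg.Agent.S1423

/-!
# B&G 13.7 / 14.2(d) (`NoStar`) from the landed statements, relative to `ExistsStar`
-/

set_option autoImplicit false
set_option linter.unusedSectionVars false
set_option linter.unusedVariables false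

namespace Cfsg.Agent.Helper28.BG13S

open Subgroup
open Cfsg.Agent.Helper16.BG11 (BG)
open Cfsg.Agent.H9.BG12 (St1418 St1422)
open Cfsg.Agent.Helper10.BG13F (T1)

universe u
variable {G : Type u} [Group G] [Finite G]

/-- helper4's `(C)`-adapter in the `FinalStar` form -/
theorem finalStar_of (h : BG G) (hT1 : T1 G) (h1418 : St1418 G) (h1422 : St1422 G) :
    FinalStar G := by
  intro M H M₂ p t X Y A₂ T _ _ c ht1 hTM hTt htp hXσ₂ hpβ hTM₂ hTX hTXn hTA₂ hTY
  exact Cfsg.Agent.Helper4.BG13A.final_of_starCfg h hT1 h1418 h1422 c ht1 hTM hTt htp hXσ₂ hpβ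
    hTM₂ hTX hTXn hTA₂ hTY

/-- **B&G 13.7 / 14.2(d)** relative to the reduction `ExistsStar G` to the (*)-facts. -/
theorem noStar_of_existsStar (hG : Cfsg.IsMinSimpleOddOrder G) (hES : ExistsStar G) :
    Cfsg.Agent.Lead.BG142.NoStar G := by
  have h : BG G := Cfsg.Agent.Helper16.BG11.bg_of_results hG
  have h1418 : St1418 G := fun M hM E hE p _ hp A hA =>
    Cfsg.Agent.S1418.result hG M hM E hE p hp A hA
  have h1422 : St1422 G := fun p _ P hP hPna => Cfsg.Agent.S1422.result hG p P hP hPna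
  have h1423 : Cfsg.Agent.H9.BG12.St1423 G := fun M hM p _ hp X hXM hX P h =>
    Cfsg.Agent.S1423.result hG M hM p hp X hXM hX P h
  have hT1 : T1 G := t1_of_existsStar h h1423 hES
  exact noStar_of h
    (fun M hM E hE => Cfsg.Agent.S1415.result hG M hM E hE)
    (fun M hM p _ hp A hA => Cfsg.Agent.S1417.result hG M hM p hp A hA)
    h1418
    (fun M hM E hE => Cfsg.Agent.S1420.result hG M hM E hE)
    h1422 h1423 hES (finalStar_of h hT1 h1418 h1422)

/-- **T1** relative to `ExistsStar G`. -/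
theorem t1_of_existsStar' (hG : Cfsg.IsMinSimpleOddOrder G) (hES : ExistsStar G) : T1 G :=
  t1_of_existsStar (Cfsg.Agent.Helper16.BG11.bg_of_results hG)
    (fun M hM p _ hp X hXM hX P h => Cfsg.Agent.S1423.result hG M hM p hp X hXM hX P h) hES

end Cfsg.Agent.Helper28.BG13S
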