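import Mathlib
import Cfsg.Prelude.Def_OddOrderLocal
import Cfsg.Agent.Helper28.BG13NoStar
import Cfsg.Agent.Helper9.BG13Si

/-!
# B&G 13.7 / 14.2(d): `NoStar G` and `T1 G`, unconditionally

For a minimal simple group `G` of odd order, `M` maximal, `p ∈ κ(M)`, `X ≤ M` of order `p` with
`C_{M_σ}(X) ≠ 1`: every maximal subgroup containing `N_G(X)` has `p` in its `σ`.
-/

set_option autoImplicit false

namespace Cfsg.Agent.Helper28.BG13S

universe u
variable {G : Type u} [Group G] [Finite G]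

/-- **B&G 13.7 / 14.2(d).** -/
theorem noStar (hG : Cfsg.IsMinSimpleOddOrder G) : Cfsg.Agent.Lead.BG142.NoStar G :=
  noStar_of_existsStar hG (Cfsg.Agent.H9.BG12.existsStar hG)

/-- **T1** (the `τ₁`-case). -/
theorem t1 (hG : Cfsg.IsMinSimpleOddOrder G) : Cfsg.Agent.Helper10.BG13F.T1 G :=
  t1_of_existsStar' hG (Cfsg.Agent.H9.BG12.existsStar hG)

end Cfsg.Agent.Helper28.BG13S
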