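import Mathlib
import Cfsg.Prelude.Def_GeometricClasses
import Cfsg.Agent.Helper28.Siegel6
import Cfsg.Agent.Helper28.NonMax

set_option autoImplicit false

/-! Maximality of the stabiliser of a totally singular subspace in `Ω(Q)`. -/

namespace Cfsg.Agent.Helper28.OM

open Matrix Module Cfsg.Agent.Helper28.Sg Cfsg.Agent.Helper28.Spin

variable {F : Type*} [Field F] {ι : Type} [Fintype ι] [DecidableEq ι]
  {Q : QuadraticForm F (ι → F)}

/-- singular vectors all of whose Siegel transformations lie in `M` -/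
def S1 (M : Subgroup ↥(Cfsg.isometryGroup F ⇑Q)) : Set (ι → F) :=
  {u | ∃ hu : Q u = 0, ∀ (v : ι → F) (h : B Q u v = 0), siegO Q u v hu h ∈ M}

theorem S1_smul (M : Subgroup ↥(Cfsg.isometryGroup F ⇑Q)) {u : ι → F} (hu : u ∈ S1 M) (c : F) :
    c • u ∈ S1 M := by
  obtain ⟨hQu, hu⟩ := hu
  have hQcu : Q (c • u) = 0 := by rw [Q_smul, hQu, mul_zero]
  refine ⟨hQcu, fun v h => ?_⟩
  by_cases hc : c = 0
  · have h0 : c • u = 0 := by rw [hc, zero_smul]
    have : siegO Q (c • u) v hQcu h = 1 := by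
      rw [siegO_congr Q hQcu h (by rw [map_zero]) (QuadraticMap.polar_zero_left _ _) h0 rfl]
      exact siegO_zero_left v _ _
    rw [this]
    exact M.one_mem
  · have huv : B Q u v = 0 := by
      have h' : c * B Q u v = 0 := by
        have := h
        simp only [B, QuadraticMap.polar_smul_left, smul_eq_mul] at this
        exact this
      exact (mul_eq_zero.mp h').resolve_left hc
    rw [siegO_smul Q c hQu huv hQcu h (B_smul_right_zero Q c huv)]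
    exact hu _ _

theorem S1_map (M : Subgroup ↥(Cfsg.isometryGroup F ⇑Q)) {u : ι → F} (hu : u ∈ S1 M)
    {g : ↥(Cfsg.isometryGroup F ⇑Q)} (hg : g ∈ M) : mt Q g *ᵥ u ∈ S1 M := by
  obtain ⟨hQu, hu⟩ := hu
  have hQgu : Q (mt Q g *ᵥ u) = 0 := by rw [isom_apply]; exact hQu
  refine ⟨hQgu, fun v h => ?_⟩
  have hv : mt Q g *ᵥ (mt Q g⁻¹ *ᵥ v) = v := mt_mulVec_inv Q g v
  have h1 : B Q u (mt Q g⁻¹ *ᵥ v) = 0 := by
    rw [← B_isom Q g, hv]; exact h
  have h2 : B Q (mt Q g *ᵥ u) (mt Q g *ᵥ (mt Q g⁻¹ *ᵥ v)) = 0 := by rw [hv]; exact h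
  have := siegO_conj Q g hQu h1 hQgu h2
  rw [siegO_congr Q hQgu h hQgu h2 rfl hv.symm, ← this]
  exact M.mul_mem (M.mul_mem hg (hu _ _)) (M.inv_mem hg)

theorem S1_pair (M : Subgroup ↥(Cfsg.isometryGroup F ⇑Q)) {u₁ u₂ : ι → F} (h1 : u₁ ∈ S1 M)
    (h2 : u₂ ∈ S1 M) (h12 : B Q u₁ u₂ ≠ 0) {y : ι → F} (hy : Q y = 0) (h1y : B Q u₁ y ≠ 0) :
    y ∈ S1 M := by
  have h2' := S1_smul M h2 (B Q u₁ u₂)⁻¹
  set x := (B Q u₁ u₂)⁻¹ • u₂ with hx
  set y' := (B Q u₁ y)⁻¹ • y with hy'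
  have hQx : Q x = 0 := h2'.1
  have hQy' : Q y' = 0 := by rw [hy', Q_smul, hy, mul_zero]
  have hux : B Q u₁ x = 1 := by
    simp only [hx, B, QuadraticMap.polar_smul_right, smul_eq_mul]
    exact inv_mul_cancel₀ h12
  have huy : B Q u₁ y' = 1 := by
    simp only [hy', B, QuadraticMap.polar_smul_right, smul_eq_mul]
    exact inv_mul_cancel₀ h1y
  have h : B Q u₁ (y' - x) = 0 := by
    show QuadraticMap.polar ⇑Q u₁ (y' - x) = 0
    rw [QuadraticMap.polar_sub_right]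
    simp only [B] at hux huy
    rw [hux, huy, sub_self]
  have hmove := siegO_move h1.1 hQx hQy' hux huy h
  have hy'S : y' ∈ S1 M := by
    rw [← hmove]
    exact S1_map M h2' (h1.2 _ _)
  have := S1_smul M hy'S (B Q u₁ y)
  rw [hy', smul_smul, mul_inv_cancel₀ h1y, one_smul] at this
  exact this

theorem S1_all (hQ : (QuadraticMap.polarBilin Q).Nondegenerate) (fr : Frame3 Q)
    (M : Subgroup ↥(Cfsg.isometryGroup F ⇑Q)) {u₁ u₂ : ι → F} (h1 : u₁ ∈ S1 M)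
    (h2 : u₂ ∈ S1 M) (h12 : B Q u₁ u₂ ≠ 0) {y : ι → F} (hy : Q y = 0) : y ∈ S1 M := by
  by_cases h1y : B Q u₁ y ≠ 0
  · exact S1_pair M h1 h2 h12 hy h1y
  · push Not at h1y
    have hu0 : u₁ ≠ 0 := by
      rintro rfl
      exact h12 (QuadraticMap.polar_zero_left _ _)
    by_cases hprop : ∃ c : F, y = c • u₁
    · obtain ⟨c, rfl⟩ := hprop
      exact S1_smul M h1 c
    · have hind := indep_of_not_smul hu0 hprop
      obtain ⟨x, hQx, hxu, hxy⟩ := exists_common_partner hQ fr h1.1 hy hind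
      have hux : B Q u₁ x ≠ 0 := by
        rw [B_comm, hxu]; exact one_ne_zero
      have hxS : x ∈ S1 M := S1_pair M h1 h2 h12 hQx hux
      exact S1_pair M hxS h1 (by rw [hxu]; exact one_ne_zero) hy (by rw [hxy]; exact one_ne_zero)

/-- **abstract maximality**: a subgroup containing the stabiliser in `Ω` of the totally singular
subspace `W` and an element not stabilising `W` contains `Ω`. -/
theorem orth_max (hQ : (QuadraticMap.polarBilin Q).Nondegenerate) (fr : Frame3 Q)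
    (hgen : ∀ (H : Subgroup ↥(Cfsg.isometryGroup F ⇑Q)),
      (∀ (v : ι → F) (hv : Q v ≠ 0), reflO Q v hv ∈ H) → ∀ g, g ∈ H)
    (W : Submodule F (ι → F)) (hW : ∀ w ∈ W, Q w = 0)
    (hNE : ∀ y, Q y = 0 → (∀ w ∈ W, B Q w y = 0) → y ∉ W →
      ∃ u v, Q u = 0 ∧ (∀ w ∈ W, B Q w u = 0) ∧ B Q u y ≠ 0 ∧ (∀ w ∈ W, B Q w v = 0) ∧
        B Q u v = 0 ∧ Q v ≠ 0)
    (M : Subgroup ↥(Cfsg.isometryGroup F ⇑Q))
    (hP : ∀ g ∈ Cfsg.Omega F ⇑Q, (∀ w ∈ W, mt Q g *ᵥ w ∈ W) → g ∈ M)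
    (g₀ : ↥(Cfsg.isometryGroup F ⇑Q)) (hg₀ : g₀ ∈ M) (w : ι → F) (hw : w ∈ W)
    (hgw : mt Q g₀ *ᵥ w ∉ W) : Cfsg.Omega F ⇑Q ≤ M := by
  have hBW : ∀ a ∈ W, ∀ b ∈ W, B Q a b = 0 := by
    intro a ha b hb
    show QuadraticMap.polar ⇑Q a b = 0
    unfold QuadraticMap.polar
    rw [hW _ (W.add_mem ha hb), hW a ha, hW b hb]
    simp
  have hSO := S_le_Omega hQ fr
  have hWS : ∀ u ∈ W, u ∈ S1 M := by
    intro u hu
    refine ⟨hW u hu, fun v h => hP _ (hSO (siegO_mem_S Q _ _ _ _)) ?_⟩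
    intro x hx
    rw [siegO_mulVec, hBW u hu x hx]
    simp only [zero_smul, mul_zero, add_zero, sub_zero]
    exact W.sub_mem hx (W.smul_mem _ hu)
  -- it suffices to find a non-orthogonal pair
  have hfin : ∀ u₁ u₂ : ι → F, u₁ ∈ S1 M → u₂ ∈ S1 M → B Q u₁ u₂ ≠ 0 → Cfsg.Omega F ⇑Q ≤ M := by
    intro u₁ u₂ h1 h2 h12
    rw [Omega_eq_S hQ fr hgen]
    unfold S
    rw [Subgroup.closure_le]
    rintro g ⟨u, v, hu, huv, rfl⟩
    exact (S1_all hQ fr M h1 h2 h12 hu).2 v huv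
  set y := mt Q g₀ *ᵥ w with hy
  have hyS : y ∈ S1 M := S1_map M (hWS w hw) hg₀
  by_cases hort : ∃ w' ∈ W, B Q w' y ≠ 0
  · obtain ⟨w', hw', h⟩ := hort
    exact hfin w' y (hWS w' hw') hyS h
  · push Not at hort
    obtain ⟨u, v, hQu, hWu, huy, hWv, huv, hQv⟩ := hNE y hyS.1 hort hgw
    have hp : siegO Q u v hQu huv ∈ M := by
      refine hP _ (hSO (siegO_mem_S Q _ _ _ _)) ?_
      intro x hx
      rw [siegO_mulVec, B_comm Q u x, hWu x hx, B_comm Q v x, hWv x hx]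
      simp only [zero_smul, mul_zero, add_zero, sub_zero]
      exact hx
    have hy'S := S1_map M hyS hp
    refine hfin y _ hyS hy'S ?_
    rw [siegO_mulVec]
    have hyy : B Q y y = 0 := B_self_of_singular Q hyS.1
    have e : B Q y (y + B Q u y • v - B Q v y • u - (Q v * B Q u y) • u) =
        -(Q v * B Q u y * B Q u y) := by
      simp only [B, QuadraticMap.polar_add_right, QuadraticMap.polar_sub_right,
        QuadraticMap.polar_smul_right, smul_eq_mul]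
      have h1 : QuadraticMap.polar ⇑Q y y = 0 := hyy
      rw [h1, QuadraticMap.polar_comm (⇑Q) y v, QuadraticMap.polar_comm (⇑Q) y u]
      ring
    rw [e]
    exact neg_ne_zero.mpr (mul_ne_zero (mul_ne_zero hQv huy) huy)

end Cfsg.Agent.Helper28.OM
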