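import Mathlib
import Cfsg.Prelude.Def_GeometricClasses
import Cfsg.Agent.Helper28.OrthMax

set_option autoImplicit false

/-! Maximality of the stabiliser of a totally singular subspace in `Ω(Q)`: the geometric input and the
wrapper to `Geo.IsMaximalIn`. -/

namespace Cfsg.Agent.Helper28.OM

open Matrix Module Cfsg.Agent.Helper28.Sg Cfsg.Agent.Helper28.Spin

variable {F : Type*} [Field F] {ι : Type} [Fintype ι] [DecidableEq ι]
  {Q : QuadraticForm F (ι → F)}

theorem pB_isRefl : (QuadraticMap.polarBilin Q).IsRefl := by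
  intro x y h
  show QuadraticMap.polar ⇑Q y x = 0
  rw [QuadraticMap.polar_comm]
  exact h

theorem B_zero_of_ts (W : Submodule F (ι → F)) (hW : ∀ w ∈ W, Q w = 0) :
    ∀ a ∈ W, ∀ b ∈ W, B Q a b = 0 := by
  intro a ha b hb
  show QuadraticMap.polar ⇑Q a b = 0
  unfold QuadraticMap.polar
  rw [hW _ (W.add_mem ha hb), hW a ha, hW b hb]
  simp

/-- a totally singular subspace has dimension at most `n / 2` -/
theorem ts_dim_le (hQ : (QuadraticMap.polarBilin Q).Nondegenerate) (W : Submodule F (ι → F))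
    (hW : ∀ w ∈ W, Q w = 0) : 2 * finrank F W ≤ Fintype.card ι := by
  have hle : W ≤ LinearMap.BilinForm.orthogonal (QuadraticMap.polarBilin Q) W := by
    intro b hb
    rw [LinearMap.BilinForm.mem_orthogonal_iff]
    intro a ha
    exact B_zero_of_ts W hW a ha b hb
  have h1 := Submodule.finrank_mono hle
  have h2 := LinearMap.BilinForm.finrank_orthogonal hQ W
  rw [Module.finrank_fintype_fun_eq_card] at h2
  have h3 : finrank F W ≤ Fintype.card ι := by
    have := Submodule.finrank_le W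
    rwa [Module.finrank_fintype_fun_eq_card] at this
  omega

/-- the non-exceptional configuration -/
theorem exists_NE (hQ : (QuadraticMap.polarBilin Q).Nondegenerate) (W : Submodule F (ι → F))
    (hdim : 2 * (finrank F W + 1) < Fintype.card ι) {y : ι → F} (hy : Q y = 0)
    (hyW : ∀ w ∈ W, B Q w y = 0) (hynW : y ∉ W) :
    ∃ u v, Q u = 0 ∧ (∀ w ∈ W, B Q w u = 0) ∧ B Q u y ≠ 0 ∧ (∀ w ∈ W, B Q w v = 0) ∧
      B Q u v = 0 ∧ Q v ≠ 0 := by
  classical
  set Bf : LinearMap.BilinForm F (ι → F) := QuadraticMap.polarBilin Q with hBf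
  set Wp : Submodule F (ι → F) := LinearMap.BilinForm.orthogonal Bf W with hWp
  have hWpmem : ∀ z, z ∈ Wp ↔ ∀ w ∈ W, B Q w z = 0 := fun z => Iff.rfl
  have hWpp : ∀ z : ι → F, z ∉ W → ∃ z₀ ∈ Wp, B Q z₀ z ≠ 0 := by
    intro z hz
    by_contra hcon
    push Not at hcon
    apply hz
    have h1 : z ∈ LinearMap.BilinForm.orthogonal Bf Wp := fun z₀ hz₀ => hcon z₀ hz₀
    rwa [hWp, LinearMap.BilinForm.orthogonal_orthogonal hQ pB_isRefl] at h1
  have hyy : B Q y y = 0 := B_self_of_singular Q hy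
  -- the vector u
  obtain ⟨u₀, hu₀, hu₀y⟩ := hWpp y hynW
  set t := Q u₀ / B Q u₀ y with ht
  set u := u₀ - t • y with hu
  have hyWp : y ∈ Wp := (hWpmem y).mpr hyW
  have huWp : u ∈ Wp := Wp.sub_mem hu₀ (Wp.smul_mem _ hyWp)
  have huy : B Q u y = B Q u₀ y := by
    simp only [hu, B, QuadraticMap.polar_sub_left, QuadraticMap.polar_smul_left, smul_eq_mul]
    have : QuadraticMap.polar ⇑Q y y = 0 := hyy
    rw [this, mul_zero, sub_zero]
  have hQu : Q u = 0 := by
    rw [hu, map_sub'' Q u₀ (t • y), Q_smul, hy, mul_zero, add_zero]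
    simp only [QuadraticMap.polar_smul_right, smul_eq_mul]
    have : t * QuadraticMap.polar ⇑Q u₀ y = Q u₀ := by
      rw [ht]; exact div_mul_cancel₀ _ hu₀y
    rw [this, sub_self]
  have huy0 : B Q u y ≠ 0 := by rw [huy]; exact hu₀y
  -- the subspace X'
  set X := W ⊔ Submodule.span F {u} ⊔ Submodule.span F {y} with hX
  set X' : Submodule F (ι → F) := LinearMap.BilinForm.orthogonal Bf X with hX'
  have hXdim : finrank F X ≤ finrank F W + 2 := by
    have h1 := Submodule.finrank_add_le_finrank_add_finrank (W ⊔ Submodule.span F {u})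
      (Submodule.span F {y})
    have h2 := Submodule.finrank_add_le_finrank_add_finrank W (Submodule.span F {u})
    have h3 : finrank F (Submodule.span F {u}) ≤ 1 :=
      le_trans (finrank_span_le_card ({u} : Set (ι → F))) (by simp)
    have h4 : finrank F (Submodule.span F {y}) ≤ 1 :=
      le_trans (finrank_span_le_card ({y} : Set (ι → F))) (by simp)
    rw [hX]
    omega
  have hX'dim : finrank F X' = Fintype.card ι - finrank F X := by
    rw [hX', LinearMap.BilinForm.finrank_orthogonal hQ X, Module.finrank_fintype_fun_eq_card]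
  obtain ⟨z, hzX', hzW⟩ : ∃ z ∈ X', z ∉ W := by
    by_contra hcon
    push Not at hcon
    have hle : X' ≤ W := hcon
    have := Submodule.finrank_mono hle
    omega
  have hzperp : ∀ x ∈ X, B Q x z = 0 := fun x hx => hzX' x hx
  have hzu : B Q u z = 0 :=
    hzperp u (Submodule.mem_sup_left (Submodule.mem_sup_right (Submodule.mem_span_singleton_self u)))
  have hzy : B Q y z = 0 :=
    hzperp y (Submodule.mem_sup_right (Submodule.mem_span_singleton_self y))
  have hzWp : z ∈ Wp := by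
    rw [hWpmem]
    intro w hw
    exact hzperp w (Submodule.mem_sup_left (Submodule.mem_sup_left hw))
  obtain ⟨z₀, hz₀, hz₀z⟩ := hWpp z hzW
  set z' := z₀ - (B Q z₀ y / B Q u y) • u - (B Q z₀ u / B Q u y) • y with hz'
  have hz'Wp : z' ∈ Wp :=
    Wp.sub_mem (Wp.sub_mem hz₀ (Wp.smul_mem _ huWp)) (Wp.smul_mem _ hyWp)
  have huu : B Q u u = 0 := B_self_of_singular Q hQu
  have hz'u : B Q u z' = 0 := by
    simp only [hz', B, QuadraticMap.polar_sub_right, QuadraticMap.polar_smul_right, smul_eq_mul]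
    have h1 : QuadraticMap.polar ⇑Q u u = 0 := huu
    rw [h1, mul_zero, sub_zero, QuadraticMap.polar_comm (⇑Q) u z₀]
    have : B Q z₀ u / B Q u y * QuadraticMap.polar ⇑Q u y = B Q z₀ u := div_mul_cancel₀ _ huy0
    rw [this]
    exact sub_self _
  have hz'z : B Q z' z = B Q z₀ z := by
    simp only [hz', B, QuadraticMap.polar_sub_left, QuadraticMap.polar_smul_left, smul_eq_mul]
    have h1 : QuadraticMap.polar ⇑Q u z = 0 := hzu
    have h2 : QuadraticMap.polar ⇑Q y z = 0 := hzy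
    rw [h1, h2, mul_zero, mul_zero, sub_zero, sub_zero]
  have hBzz' : B Q z z' ≠ 0 := by
    rw [B_comm, hz'z]; exact hz₀z
  by_cases h1 : Q z ≠ 0
  · exact ⟨u, z, hQu, (hWpmem u).mp huWp, huy0, (hWpmem z).mp hzWp, hzu, h1⟩
  by_cases h2 : Q z' ≠ 0
  · exact ⟨u, z', hQu, (hWpmem u).mp huWp, huy0, (hWpmem z').mp hz'Wp, hz'u, h2⟩
  push Not at h1 h2
  refine ⟨u, z + z', hQu, (hWpmem u).mp huWp, huy0, (hWpmem _).mp (Wp.add_mem hzWp hz'Wp),
    B_add_right_zero Q hzu hz'u, ?_⟩
  rw [Q_add, h1, h2, zero_add, zero_add]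
  exact hBzz'

/-- **Maximality of the stabiliser of a totally singular subspace in `Ω(Q)`** (general form). -/
theorem stab_maximal [Fintype F] (hQ : (QuadraticMap.polarBilin Q).Nondegenerate) (fr : Frame3 Q)
    (hgen : ∀ (H : Subgroup ↥(Cfsg.isometryGroup F ⇑Q)),
      (∀ (v : ι → F) (hv : Q v ≠ 0), reflO Q v hv ∈ H) → ∀ g, g ∈ H)
    (W : Submodule F (ι → F)) (hW0 : W ≠ ⊥) (hW : ∀ w ∈ W, Q w = 0)
    (hne : 2 * (finrank F W + 1) = Fintype.card ι →
      ∀ y, Q y = 0 → (∀ w ∈ W, B Q w y = 0) → y ∈ W) :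
    Cfsg.Geo.IsMaximalIn (Cfsg.Geo.omegaGL ⇑Q)
      (Cfsg.Geo.subspaceStabilizer W ⊓ Cfsg.Geo.omegaGL ⇑Q) := by
  classical
  have hBW := B_zero_of_ts W hW
  have hNE : ∀ y, Q y = 0 → (∀ w ∈ W, B Q w y = 0) → y ∉ W →
      ∃ u v, Q u = 0 ∧ (∀ w ∈ W, B Q w u = 0) ∧ B Q u y ≠ 0 ∧ (∀ w ∈ W, B Q w v = 0) ∧
        B Q u v = 0 ∧ Q v ≠ 0 := by
    intro y hy hyW hynW
    refine exists_NE hQ W ?_ hy hyW hynW
    set W' := W ⊔ Submodule.span F {y} with hW'
    have hts : ∀ x ∈ W', Q x = 0 := by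
      intro x hx
      obtain ⟨w, hw, b, hb, rfl⟩ := Submodule.mem_sup.mp hx
      obtain ⟨a, rfl⟩ := Submodule.mem_span_singleton.mp hb
      rw [Q_add, hW w hw, Q_smul, hy]
      simp only [B, QuadraticMap.polar_smul_right, smul_eq_mul]
      have : QuadraticMap.polar ⇑Q w y = 0 := hyW w hw
      rw [this]
      simp
    have hlt : W < W' := by
      refine lt_of_le_of_ne le_sup_left ?_
      intro h
      apply hynW
      rw [h]
      exact Submodule.mem_sup_right (Submodule.mem_span_singleton_self y)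
    have h1 := Submodule.finrank_lt_finrank_of_lt hlt
    have h2 := ts_dim_le hQ W' hts
    by_contra hcon
    have heq : 2 * (finrank F W + 1) = Fintype.card ι := by omega
    exact hynW (hne heq y hy hyW)
  refine ⟨lt_of_le_of_ne inf_le_right ?_, ?_⟩
  · intro heq
    obtain ⟨w, hw, hw0⟩ := (Submodule.ne_bot_iff W).mp hW0
    obtain ⟨z, hz⟩ := exists_pair_one hQ hw0
    set u := z - Q z • w with hu
    have hQw : Q w = 0 := hW w hw
    have hwu : B Q w u = 1 := by
      simp only [hu, B, QuadraticMap.polar_sub_right, QuadraticMap.polar_smul_right, smul_eq_mul]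
      have h1 : QuadraticMap.polar ⇑Q w w = 0 := B_self_of_singular Q hQw
      have h2 : QuadraticMap.polar ⇑Q w z = 1 := hz
      rw [h1, h2, mul_zero, sub_zero]
    have hQu : Q u = 0 := by
      rw [hu, map_sub'' Q z (Q z • w), Q_smul, hQw, mul_zero, add_zero]
      simp only [QuadraticMap.polar_smul_right, smul_eq_mul]
      have h2 : QuadraticMap.polar ⇑Q z w = 1 := by rw [QuadraticMap.polar_comm]; exact hz
      rw [h2, mul_one, sub_self]
    have hu0 : u ≠ 0 := by
      intro h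
      rw [h] at hwu
      have : B Q w 0 = 0 := QuadraticMap.polar_zero_right _ _
      rw [this] at hwu
      exact zero_ne_one hwu
    obtain ⟨s, hs, c, hc, hsw⟩ := S_trans hQ fr hQw hQu hw0 hu0
    have hsΩ : s ∈ Cfsg.Omega F ⇑Q := S_le_Omega hQ fr hs
    have h1 : ((s : ↥(Cfsg.isometryGroup F ⇑Q)) : GL ι F) ∈
        Cfsg.Geo.subspaceStabilizer W ⊓ Cfsg.Geo.omegaGL ⇑Q := by
      rw [heq]
      exact (Cfsg.Agent.Helper28.NM.mem_omegaGL_iff Q _).mpr ⟨s, hsΩ, rfl⟩
    have h2 : mt Q s *ᵥ w ∈ W := (h1.1 w).mp hw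
    rw [hsw] at h2
    have h3 : u ∈ W := by
      have := W.smul_mem c⁻¹ h2
      rwa [smul_smul, inv_mul_cancel₀ hc, one_smul] at this
    have := hBW w hw u h3
    rw [hwu] at this
    exact one_ne_zero this
  · intro M hPM hMS
    by_cases hMP : M ≤ Cfsg.Geo.subspaceStabilizer W ⊓ Cfsg.Geo.omegaGL ⇑Q
    · left; exact le_antisymm hMP hPM
    right
    refine le_antisymm hMS ?_
    obtain ⟨g, hgM, hgP⟩ := SetLike.not_le_iff_exists.mp hMP
    have hgW : g ∉ Cfsg.Geo.subspaceStabilizer W := fun h => hgP ⟨h, hMS hgM⟩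
    obtain ⟨w, hw, hgw⟩ : ∃ w ∈ W, (g : Matrix ι ι F) *ᵥ w ∉ W := by
      by_contra hcon
      push Not at hcon
      exact hgW (Cfsg.Agent.Helper28.NM.mem_subspaceStabilizer_of_le W g hcon)
    obtain ⟨g₀, hg₀Ω, rfl⟩ := (Cfsg.Agent.Helper28.NM.mem_omegaGL_iff Q _).mp (hMS hgM)
    have key : Cfsg.Omega F ⇑Q ≤ M.comap (Cfsg.isometryGroup F ⇑Q).subtype := by
      refine orth_max hQ fr hgen W hW hNE _ ?_ g₀ hgM w hw hgw
      intro h hhΩ hhW
      apply hPM
      exact ⟨Cfsg.Agent.Helper28.NM.mem_subspaceStabilizer_of_le W _ hhW,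
        (Cfsg.Agent.Helper28.NM.mem_omegaGL_iff Q _).mpr ⟨h, hhΩ, rfl⟩⟩
    unfold Cfsg.Geo.omegaGL
    rw [Subgroup.map_le_iff_le_comap]
    exact key

end Cfsg.Agent.Helper28.OM
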