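import Mathlib
import Cfsg.Prelude.Def_GeometricClasses
import Cfsg.Agent.Helper28.OrthMax2
import Cfsg.Agent.Helper13.QuadWitt

set_option autoImplicit false

/-! Existence of three orthogonal hyperbolic pairs in a nondegenerate quadratic space of dimension
at least eight over a finite field; the totally singular maximality theorem for function-valued `Q`. -/

namespace Cfsg.Agent.Helper28.OM

open Matrix Module Cfsg.Agent.Helper28.Sg Cfsg.Agent.Helper28.Spin

variable {F : Type*} [Field F] [Fintype F] {ι : Type} [Fintype ι] [DecidableEq ι]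
  {Q : QuadraticForm F (ι → F)}

theorem exists_frame3 (hQ : (QuadraticMap.polarBilin Q).Nondegenerate) (hn : 8 ≤ Fintype.card ι) :
    Nonempty (Frame3 Q) := by
  have hQ' : ∀ v : ι → F, (∀ w : ι → F, QuadraticMap.polar Q v w = 0) → v = 0 := by
    intro v hv
    exact hQ.1 v hv
  obtain ⟨m, e, f, A, hd⟩ := Cfsg.Agent.Helper13.exists_wittDecomp (F := F)
    (Fintype.card ι) Q (Module.finrank_fintype_fun_eq_card F) hQ'
  have hm : 3 ≤ m := by
    have h1 := hd.rank
    have h2 := hd.rankA
    rw [Module.finrank_fintype_fun_eq_card] at h1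
    omega
  exact ⟨{ e := fun i => e (Fin.castLE hm i)
           f := fun i => f (Fin.castLE hm i)
           Qe := fun i => hd.Qe _
           Qf := fun i => hd.Qf _
           Bee := fun i j => hd.ee _ _
           Bff := fun i j => hd.ff _ _
           Bef := fun i j => by
            rw [hd.ef]
            simp only [Fin.castLE_inj] }⟩

/-- the generation hypothesis in all characteristics (dimension not four) -/
theorem hgen_all (hQ : (QuadraticMap.polarBilin Q).Nondegenerate) (hn : Fintype.card ι ≠ 4) :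
    ∀ (H : Subgroup ↥(Cfsg.isometryGroup F ⇑Q)),
      (∀ (v : ι → F) (hv : Q v ≠ 0), reflO Q v hv ∈ H) → ∀ g, g ∈ H := by
  by_cases h2 : (2 : F) = 0
  · exact hgen_even h2 hQ (Or.inr hn)
  · exact hgen_odd h2 hQ

/-- the totally singular maximality theorem for a function-valued nondegenerate quadratic form -/
theorem stab_maximal_fun (Q₀ : (ι → F) → F) (hQ₀ : Cfsg.Geo.IsNondegenerateQuadraticForm Q₀)
    (hn : 8 ≤ Fintype.card ι)
    (W : Submodule F (ι → F)) (hW0 : W ≠ ⊥) (hW : Cfsg.Geo.IsTotallySingularQuad Q₀ W)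
    (hne : 2 * (finrank F W + 1) = Fintype.card ι →
      ∀ y, Q₀ y = 0 → (∀ w ∈ W, QuadraticMap.polar Q₀ w y = 0) → y ∈ W) :
    Cfsg.Geo.IsMaximalIn (Cfsg.Geo.omegaGL Q₀)
      (Cfsg.Geo.subspaceStabilizer W ⊓ Cfsg.Geo.omegaGL Q₀) := by
  have hQ := Cfsg.Agent.Helper28.NM.ofFun_nondeg Q₀ hQ₀
  obtain ⟨fr⟩ := exists_frame3 hQ hn
  have key := stab_maximal hQ fr (hgen_all hQ (by omega)) W hW0 hW hne
  exact key

end Cfsg.Agent.Helper28.OM
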