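import Mathlib
import Cfsg.Prelude.Def_GeometricClasses
import Cfsg.Agent.Helper28.SimMax
import Cfsg.Agent.Helper28.OrthMax3
import Cfsg.Agent.Helper13.QuadWitt

set_option autoImplicit false

/-! Geometry for the maximality of the orthogonal similarity group in `SL_n(q)`, `q` odd. -/

namespace Cfsg.Agent.Helper28.OSim

open Matrix Module Cfsg.Agent.Helper28.Sg Cfsg.Agent.Helper28.Spin Cfsg.Agent.Helper28.SLMax
  Cfsg.Agent.Helper28.SimMax

variable {F : Type*} [Field F] {n : ℕ} (Q : QuadraticForm F (Fin n → F))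

/-- the covector of `B(v, ·)` -/
def pv (v : Fin n → F) : Fin n → F := Cfsg.polarVec ⇑Q v

theorem pv_dot (v x : Fin n → F) : pv Q v ⬝ᵥ x = B Q v x := polarVec_dot Q v x

theorem pv_add (u v : Fin n → F) : pv Q (u + v) = pv Q u + pv Q v := by
  apply covec_ext
  intro x
  rw [add_dotProduct, pv_dot, pv_dot, pv_dot]
  exact QuadraticMap.polar_add_left _ _ _ _

theorem pv_smul (a : F) (v : Fin n → F) : pv Q (a • v) = a • pv Q v := by
  apply covec_ext
  intro x
  rw [smul_dotProduct, pv_dot, pv_dot]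
  exact QuadraticMap.polar_smul_left _ _ _ _

theorem pv_neg (v : Fin n → F) : pv Q (-v) = - pv Q v := by
  have := pv_smul Q (-1 : F) v
  simpa using this

theorem pv_zero : pv Q (0 : Fin n → F) = 0 := by
  have := pv_smul Q (0 : F) (0 : Fin n → F)
  simpa using this

variable {Q}

theorem pv_inj (hQ : (QuadraticMap.polarBilin Q).Nondegenerate) {u v : Fin n → F}
    (h : pv Q u = pv Q v) : u = v := by
  have h1 : u - v = 0 := by
    apply hQ.1
    intro x
    show QuadraticMap.polar ⇑Q (u - v) x = 0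
    rw [QuadraticMap.polar_sub_left]
    have h2 := pv_dot Q u x
    have h3 := pv_dot Q v x
    rw [h] at h2
    simp only [B] at h2 h3
    rw [← h2, ← h3, sub_self]
  exact sub_eq_zero.mp h1

theorem pv_surj (hQ : (QuadraticMap.polarBilin Q).Nondegenerate) (φ : Fin n → F) :
    ∃ d, pv Q d = φ := by
  let L : (Fin n → F) →ₗ[F] (Fin n → F) :=
    { toFun := pv Q
      map_add' := pv_add Q
      map_smul' := fun a v => by rw [pv_smul]; rfl }
  have hinj : Function.Injective L := fun u v h => pv_inj hQ h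
  exact LinearMap.injective_iff_surjective.mp hinj φ

/-- a vector orthogonal to the orthogonal complement of `S` lies in `S` -/
theorem mem_of_forall_perp (hQ : (QuadraticMap.polarBilin Q).Nondegenerate)
    (S : Submodule F (Fin n → F)) (c : Fin n → F)
    (h : ∀ x, (∀ s ∈ S, B Q s x = 0) → B Q x c = 0) : c ∈ S := by
  rw [← LinearMap.BilinForm.orthogonal_orthogonal hQ Cfsg.Agent.Helper28.OM.pB_isRefl S]
  intro x hx
  exact h x hx

/-- **a hyperbolic pair in the orthogonal complement of a small subspace** -/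
theorem exists_hyp_perp [Finite F] (hQ : (QuadraticMap.polarBilin Q).Nondegenerate)
    (S : Submodule F (Fin n → F)) (hS : 2 * finrank F S + 3 ≤ n) :
    ∃ e f : Fin n → F, Q e = 0 ∧ Q f = 0 ∧ B Q e f = 1 ∧ (∀ s ∈ S, B Q s e = 0) ∧
      (∀ s ∈ S, B Q s f = 0) := by
  classical
  set Bf := QuadraticMap.polarBilin Q with hBf
  set P := LinearMap.BilinForm.orthogonal Bf S with hP
  have hPmem : ∀ x, x ∈ P ↔ ∀ s ∈ S, B Q s x = 0 := fun x => Iff.rfl
  have hPdim : finrank F P = n - finrank F S := by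
    rw [hP, LinearMap.BilinForm.finrank_orthogonal hQ S, Module.finrank_fin_fun]
  obtain ⟨q, hq⟩ := Submodule.exists_isCompl S
  have hqdim : finrank F S + finrank F q = n := by
    have := Submodule.finrank_add_eq_of_isCompl hq
    rwa [Module.finrank_fin_fun] at this
  set Z := P ⊓ q with hZ
  have hZdim : 3 ≤ finrank F Z := by
    rw [hZ]
    have h1 := Submodule.finrank_sup_add_finrank_inf_eq P q
    have h2 : finrank F (P ⊔ q : Submodule F (Fin n → F)) ≤ n := by
      have := Submodule.finrank_le (P ⊔ q)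
      rwa [Module.finrank_fin_fun] at this
    have h3 : finrank F S ≤ n := by
      have := Submodule.finrank_le S
      rwa [Module.finrank_fin_fun] at this
    omega
  -- a singular vector in `Z`
  obtain ⟨v, hv0, hQv⟩ := Cfsg.Agent.Helper13.exists_singular (Q.comp Z.subtype) hZdim
  set e : Fin n → F := (v : Fin n → F) with he
  have heZ : e ∈ Z := v.2
  have he0 : e ≠ 0 := fun h0 => hv0 (Subtype.ext h0)
  have hQe : Q e = 0 := hQv
  have heP : e ∈ P := heZ.1
  have heS : e ∉ S := by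
    intro heS
    have : e ∈ S ⊓ q := ⟨heS, heZ.2⟩
    rw [hq.inf_eq_bot] at this
    exact he0 ((Submodule.mem_bot F).mp this)
  -- a partner in `P`
  obtain ⟨f₀, hf₀P, hf₀⟩ : ∃ f₀ ∈ P, B Q f₀ e ≠ 0 := by
    by_contra hcon
    push Not at hcon
    apply heS
    apply mem_of_forall_perp hQ S e
    intro x hx
    exact hcon x hx
  obtain ⟨f₁, hf₁⟩ : ∃ f₁ : Fin n → F, f₁ = (B Q f₀ e)⁻¹ • f₀ := ⟨_, rfl⟩
  have hf₁P : f₁ ∈ P := by rw [hf₁]; exact P.smul_mem _ hf₀P
  have hf₁e : B Q e f₁ = 1 := by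
    rw [B_comm, hf₁]
    show QuadraticMap.polar ⇑Q ((B Q f₀ e)⁻¹ • f₀) e = 1
    rw [QuadraticMap.polar_smul_left, smul_eq_mul]
    exact inv_mul_cancel₀ hf₀
  refine ⟨e, f₁ - Q f₁ • e, hQe, ?_, ?_, (hPmem e).mp heP, ?_⟩
  · rw [Spin.map_sub'' Q f₁ (Q f₁ • e), Q_smul, hQe]
    show _ + _ - QuadraticMap.polar ⇑Q f₁ (Q f₁ • e) = 0
    rw [QuadraticMap.polar_smul_right, smul_eq_mul, QuadraticMap.polar_comm]
    simp only [B] at hf₁e
    rw [hf₁e]
    ring
  · show QuadraticMap.polar ⇑Q e (f₁ - Q f₁ • e) = 1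
    rw [QuadraticMap.polar_sub_right, QuadraticMap.polar_smul_right,
      show QuadraticMap.polar ⇑Q e e = 0 from B_self_of_singular Q hQe]
    simp only [B] at hf₁e
    rw [hf₁e]
    simp
  · intro s hs
    show QuadraticMap.polar ⇑Q s (f₁ - Q f₁ • e) = 0
    rw [QuadraticMap.polar_sub_right, QuadraticMap.polar_smul_right]
    have h1 := (hPmem f₁).mp hf₁P s hs
    have h2 := (hPmem e).mp heP s hs
    simp only [B] at h1 h2
    rw [h1, h2]
    simp


/-- every vector of `S^⊥` is a sum of three singular vectors of `S^⊥`, given a hyperbolic pair -/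
theorem sum_three_singular (S : Submodule F (Fin n → F)) {e f : Fin n → F} (hQe : Q e = 0)
    (hQf : Q f = 0) (hef : B Q e f = 1) (heS : ∀ s ∈ S, B Q s e = 0) (hfS : ∀ s ∈ S, B Q s f = 0)
    (v : Fin n → F) (hv : ∀ s ∈ S, B Q s v = 0) :
    ∃ s₁ s₂ s₃ : Fin n → F, v = s₁ + s₂ + s₃ ∧ Q s₁ = 0 ∧ Q s₂ = 0 ∧ Q s₃ = 0 ∧
      (∀ s ∈ S, B Q s s₁ = 0) ∧ (∀ s ∈ S, B Q s s₂ = 0) ∧ (∀ s ∈ S, B Q s s₃ = 0) := by
  have hee : B Q e e = 0 := B_self_of_singular Q hQe
  have hff : B Q f f = 0 := B_self_of_singular Q hQf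
  have hfe : B Q f e = 1 := by rw [B_comm]; exact hef
  obtain ⟨v', hv'⟩ : ∃ v' : Fin n → F, v' = v - B Q v f • e - B Q v e • f := ⟨_, rfl⟩
  have hv'e : B Q v' e = 0 := by
    rw [hv']
    show QuadraticMap.polar ⇑Q (v - B Q v f • e - B Q v e • f) e = 0
    simp only [QuadraticMap.polar_sub_left, QuadraticMap.polar_smul_left, smul_eq_mul]
    simp only [B] at hee hfe
    rw [hee, hfe]
    simp [B]
  have hv'f : B Q v' f = 0 := by
    rw [hv']
    show QuadraticMap.polar ⇑Q (v - B Q v f • e - B Q v e • f) f = 0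
    simp only [QuadraticMap.polar_sub_left, QuadraticMap.polar_smul_left, smul_eq_mul]
    simp only [B] at hff hef
    rw [hff, hef]
    simp [B]
  have hv'S : ∀ s ∈ S, B Q s v' = 0 := by
    intro s hs
    rw [hv']
    show QuadraticMap.polar ⇑Q s (v - B Q v f • e - B Q v e • f) = 0
    simp only [QuadraticMap.polar_sub_right, QuadraticMap.polar_smul_right, smul_eq_mul]
    have h1 := hv s hs
    have h2 := heS s hs
    have h3 := hfS s hs
    simp only [B] at h1 h2 h3
    rw [h1, h2, h3]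
    simp
  refine ⟨v' - Q v' • e + f, (B Q v f + Q v') • e, (B Q v e - 1) • f, ?_, ?_, ?_, ?_, ?_, ?_, ?_⟩
  · rw [hv']
    module
  · have h1 : v' - Q v' • e + f = v' + ((-Q v') • e + f) := by module
    rw [h1, Q_add, Q_add, Q_smul, hQe, hQf]
    show _ + _ + QuadraticMap.polar ⇑Q v' ((-Q v') • e + f) = 0
    rw [QuadraticMap.polar_add_right, QuadraticMap.polar_smul_right]
    simp only [B] at hv'e hv'f hef
    rw [hv'e, hv'f]
    show _ + (_ + _ + QuadraticMap.polar ⇑Q ((-Q v') • e) f) + _ = 0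
    rw [QuadraticMap.polar_smul_left, hef]
    simp
  · rw [Q_smul, hQe, mul_zero]
  · rw [Q_smul, hQf, mul_zero]
  · intro s hs
    show QuadraticMap.polar ⇑Q s (v' - Q v' • e + f) = 0
    simp only [QuadraticMap.polar_add_right, QuadraticMap.polar_sub_right,
      QuadraticMap.polar_smul_right, smul_eq_mul]
    have h1 := hv'S s hs
    have h2 := heS s hs
    have h3 := hfS s hs
    simp only [B] at h1 h2 h3
    rw [h1, h2, h3]
    simp
  · intro s hs
    exact B_smul_right_zero Q _ (heS s hs)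
  · intro s hs
    exact B_smul_right_zero Q _ (hfS s hs)

/-- a singular vector of `S^⊥` on which a given covector does not vanish -/
theorem exists_singular_ne (S : Submodule F (Fin n → F)) {e f : Fin n → F} (hQe : Q e = 0)
    (hQf : Q f = 0) (hef : B Q e f = 1) (heS : ∀ s ∈ S, B Q s e = 0) (hfS : ∀ s ∈ S, B Q s f = 0)
    (φ : Fin n → F) (v : Fin n → F) (hv : ∀ s ∈ S, B Q s v = 0) (hφ : φ ⬝ᵥ v ≠ 0) :
    ∃ z : Fin n → F, Q z = 0 ∧ (∀ s ∈ S, B Q s z = 0) ∧ φ ⬝ᵥ z ≠ 0 := by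
  obtain ⟨s₁, s₂, s₃, hsum, h1, h2, h3, h1S, h2S, h3S⟩ :=
    sum_three_singular S hQe hQf hef heS hfS v hv
  by_cases hc1 : φ ⬝ᵥ s₁ = 0
  · by_cases hc2 : φ ⬝ᵥ s₂ = 0
    · refine ⟨s₃, h3, h3S, ?_⟩
      intro hc3
      apply hφ
      rw [hsum, dotProduct_add, dotProduct_add, hc1, hc2, hc3]
      simp
    · exact ⟨s₂, h2, h2S, hc2⟩
  · exact ⟨s₁, h1, h1S, hc1⟩

/-! ### Siegel matrices -/

theorem siegM_eq_E (u v : Fin n → F) (hu : Q u = 0) :
    siegM Q u v = E v (pv Q u) * E u (-(pv Q v) - Q v • pv Q u) := by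
  apply Spin.matrix_ext_mulVec
  intro x
  have huu : B Q u u = 0 := B_self_of_singular Q hu
  rw [siegM_mulVec, ← Matrix.mulVec_mulVec, E_mulVec, E_mulVec, dotProduct_add, dotProduct_smul,
    pv_dot, pv_dot, huu, sub_dotProduct, neg_dotProduct, smul_dotProduct, pv_dot, pv_dot]
  simp only [smul_eq_mul]
  module

theorem siegM_det (u v : Fin n → F) (hu : Q u = 0) (huv : B Q u v = 0) :
    (siegM Q u v).det = 1 := by
  have huu : B Q u u = 0 := B_self_of_singular Q hu
  have hvu : B Q v u = 0 := by rw [B_comm]; exact huv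
  rw [siegM_eq_E u v hu, Matrix.det_mul, E_det, E_det, pv_dot, sub_dotProduct, neg_dotProduct,
    smul_dotProduct, pv_dot, pv_dot, huv, hvu, huu]
  simp

/-- matrices preserving `Q` of determinant one lie in any subgroup containing `Sim ⊓ SL` -/
theorem mem_of_isom (M : Subgroup (Matrix.GeneralLinearGroup (Fin n) F))
    (hHM : Cfsg.Geo.quadSimilarityGroup (⇑Q) ⊓ SL n F ≤ M)
    (A : Matrix (Fin n) (Fin n) F) (hA : ∀ x, Q (A *ᵥ x) = Q x) (hdet : A.det = 1) : A ∈ MS M := by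
  refine ⟨Matrix.GeneralLinearGroup.mkOfDetNeZero A (by rw [hdet]; exact one_ne_zero), hHM ⟨?_, ?_⟩,
    rfl⟩
  · refine ⟨1, fun v => ?_⟩
    rw [Units.val_one, one_mul]
    exact hA v
  · apply (mem_SL_iff _).mpr
    exact hdet

theorem siegM_mem (M : Subgroup (Matrix.GeneralLinearGroup (Fin n) F))
    (hHM : Cfsg.Geo.quadSimilarityGroup (⇑Q) ⊓ SL n F ≤ M)
    (u v : Fin n → F) (hu : Q u = 0) (huv : B Q u v = 0) : siegM Q u v ∈ MS M :=
  mem_of_isom M hHM _ (siegM_pres Q hu huv) (siegM_det u v hu huv)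

/-- conjugating a transvection `E w (pv c)` by an isometry -/
theorem conj_isom (g : Matrix.GeneralLinearGroup (Fin n) F)
    (hg : ∀ x, Q ((g : Matrix (Fin n) (Fin n) F) *ᵥ x) = Q x) (w c : Fin n → F) :
    (g : Matrix (Fin n) (Fin n) F) * E w (pv Q c) *
      ((g⁻¹ : Matrix.GeneralLinearGroup (Fin n) F) : Matrix (Fin n) (Fin n) F) =
    E ((g : Matrix (Fin n) (Fin n) F) *ᵥ w) (pv Q ((g : Matrix (Fin n) (Fin n) F) *ᵥ c)) := by
  rw [conj_E]
  congr 1
  apply covec_ext
  intro z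
  rw [← Matrix.dotProduct_mulVec, pv_dot, pv_dot]
  have h1 : (g : Matrix (Fin n) (Fin n) F) *ᵥ
      (((g⁻¹ : Matrix.GeneralLinearGroup (Fin n) F) : Matrix (Fin n) (Fin n) F) *ᵥ z) = z := by
    rw [Matrix.mulVec_mulVec, ← Units.val_mul, mul_inv_cancel, Units.val_one, Matrix.one_mulVec]
  conv_rhs => rw [← h1]
  exact (Spin.polar_isom Q hg _ _).symm

end Cfsg.Agent.Helper28.OSim
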