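import Mathlib
import Cfsg.Prelude.Def_GeometricClasses
import Cfsg.Agent.Helper28.OrthSim1

set_option autoImplicit false

/-! Maximality of the orthogonal similarity group in `SL_n(q)`, `q` odd: generating transvections. -/

namespace Cfsg.Agent.Helper28.OSim

open Matrix Module Cfsg.Agent.Helper28.Sg Cfsg.Agent.Helper28.Spin Cfsg.Agent.Helper28.SLMax
  Cfsg.Agent.Helper28.SimMax

variable {F : Type*} [Field F] {n : ℕ} {Q : QuadraticForm F (Fin n → F)}

theorem MS_inv' {M : Subgroup (Matrix.GeneralLinearGroup (Fin n) F)}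
    {A A' : Matrix (Fin n) (Fin n) F} (hA : A ∈ MS M) (h1 : A * A' = 1) : A' ∈ MS M := by
  obtain ⟨g, hg, rfl⟩ := hA
  refine ⟨g⁻¹, M.inv_mem hg, ?_⟩
  have h3 : ((g⁻¹ : Matrix.GeneralLinearGroup (Fin n) F) : Matrix (Fin n) (Fin n) F) *
      (g : Matrix (Fin n) (Fin n) F) = 1 := by
    rw [← Units.val_mul, inv_mul_cancel, Units.val_one]
  calc ((g⁻¹ : Matrix.GeneralLinearGroup (Fin n) F) : Matrix (Fin n) (Fin n) F)
      = ((g⁻¹ : Matrix.GeneralLinearGroup (Fin n) F) : Matrix (Fin n) (Fin n) F) *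
          ((g : Matrix (Fin n) (Fin n) F) * A') := by rw [h1, Matrix.mul_one]
    _ = A' := by rw [← Matrix.mul_assoc, h3, Matrix.one_mul]

theorem perp_span_pair {a b x : Fin n → F} (ha : B Q a x = 0) (hb : B Q b x = 0) :
    ∀ s ∈ Submodule.span F ({a, b} : Set (Fin n → F)), B Q s x = 0 := by
  intro s hs
  obtain ⟨c, d, rfl⟩ := Submodule.mem_span_pair.mp hs
  show QuadraticMap.polar ⇑Q (c • a + d • b) x = 0
  rw [QuadraticMap.polar_add_left, QuadraticMap.polar_smul_left, QuadraticMap.polar_smul_left]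
  simp only [B] at ha hb
  rw [ha, hb]
  simp

theorem finrank_span_pair_le (a b : Fin n → F) :
    finrank F (Submodule.span F ({a, b} : Set (Fin n → F))) ≤ 2 := by
  classical
  have := finrank_span_finset_le_card (R := F) ({a, b} : Finset (Fin n → F))
  have h3 : ({a, b} : Finset (Fin n → F)).card ≤ 2 := Finset.card_le_two
  rw [Finset.coe_insert, Finset.coe_singleton] at this
  exact le_trans this h3

/-- If `M ⊇ Sim ⊓ SL` contains one transvection with singular centre `p` and axis `c₀^⊥ ≠ p^⊥`,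
it contains all transvections with centre `p`. -/
theorem all_center_sing [Finite F] (hQ : (QuadraticMap.polarBilin Q).Nondegenerate) (hn : 7 ≤ n)
    (M : Subgroup (Matrix.GeneralLinearGroup (Fin n) F))
    (hHM : Cfsg.Geo.quadSimilarityGroup (⇑Q) ⊓ SL n F ≤ M)
    (p c₀ : Fin n → F) (hQp : Q p = 0) (hpc : B Q p c₀ = 0)
    (hc₀ : ∀ a : F, c₀ ≠ a • p) (h0 : E p (pv Q c₀) ∈ MS M) :
    ∀ φ : Fin n → F, φ ⬝ᵥ p = 0 → E p φ ∈ MS M := by
  classical
  have hpp : B Q p p = 0 := B_self_of_singular Q hQp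
  -- closure properties
  have hU_add : ∀ c c' : Fin n → F, B Q p c = 0 → E p (pv Q c) ∈ MS M → E p (pv Q c') ∈ MS M →
      E p (pv Q (c + c')) ∈ MS M := by
    intro c c' hc h1 h2
    rw [pv_add, ← E_mul_E p _ _ (by rw [pv_dot, B_comm]; exact hc)]
    exact MS_mul h1 h2
  have hU_neg : ∀ c : Fin n → F, B Q p c = 0 → E p (pv Q c) ∈ MS M →
      E p (pv Q (-c)) ∈ MS M := by
    intro c hc h1
    apply MS_inv' h1
    rw [E_mul_E p _ _ (by rw [pv_dot, B_comm]; exact hc), pv_neg, add_neg_cancel, E_zero_right]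
  have hU_map : ∀ (A : Matrix (Fin n) (Fin n) F), (∀ x, Q (A *ᵥ x) = Q x) → A.det = 1 →
      A *ᵥ p = p → ∀ c : Fin n → F, E p (pv Q c) ∈ MS M → E p (pv Q (A *ᵥ c)) ∈ MS M := by
    intro A hA hdet hAp c hc
    obtain ⟨g, hgM, hgA⟩ := mem_of_isom M hHM A hA hdet
    have h1 := MS_conj g hgM hc
    rw [conj_isom g (by rw [hgA]; exact hA), hgA, hAp] at h1
    exact h1
  have hU_sub : ∀ c c' : Fin n → F, B Q p c = 0 → B Q p c' = 0 → E p (pv Q c) ∈ MS M →
      E p (pv Q c') ∈ MS M → E p (pv Q (c - c')) ∈ MS M := by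
    intro c c' hc hc' h1 h2
    rw [sub_eq_add_neg]
    exact hU_add c (-c') hc h1 (hU_neg c' hc' h2)
  -- Step (i): multiples of `p`
  obtain ⟨v₀, hv₀p, hv₀c⟩ : ∃ v₀ : Fin n → F, B Q p v₀ = 0 ∧ B Q v₀ c₀ ≠ 0 := by
    by_contra hcon
    push Not at hcon
    have hmem : c₀ ∈ Submodule.span F ({p} : Set (Fin n → F)) := by
      apply mem_of_forall_perp hQ
      intro x hx
      exact hcon x (hx p (Submodule.subset_span rfl))
    obtain ⟨a, ha⟩ := Submodule.mem_span_singleton.mp hmem
    exact hc₀ a ha.symm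
  have hU_p : ∀ a : F, E p (pv Q (a • p)) ∈ MS M := by
    intro a
    obtain ⟨v, hv⟩ : ∃ v : Fin n → F, v = (-a / B Q v₀ c₀) • v₀ := ⟨_, rfl⟩
    have hpv : B Q p v = 0 := by rw [hv]; exact B_smul_right_zero Q _ hv₀p
    have hvc : B Q v c₀ = -a := by
      rw [hv]
      show QuadraticMap.polar ⇑Q ((-a / B Q v₀ c₀) • v₀) c₀ = -a
      rw [QuadraticMap.polar_smul_left, smul_eq_mul]
      exact div_mul_cancel₀ _ hv₀c
    have hSp : siegM Q p v *ᵥ p = p := by
      rw [siegM_mulVec, hpp, B_comm Q v p, hpv]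
      simp
    have hSc : siegM Q p v *ᵥ c₀ = c₀ + a • p := by
      rw [siegM_mulVec, hpc, hvc]
      module
    have h1 := hU_map _ (siegM_pres Q hQp hpv) (siegM_det p v hQp hpv) hSp c₀ h0
    rw [hSc] at h1
    have h2 := hU_add (-c₀) (c₀ + a • p) (by rw [B_neg_right, hpc, neg_zero])
      (hU_neg c₀ hpc h0) h1
    rw [neg_add_cancel_left] at h2
    exact h2
  have hpap : ∀ a : F, B Q p (a • p) = 0 := fun a => B_smul_right_zero Q a hpp
  -- Step (ii)
  have hkey : ∀ y : Fin n → F, B Q p y = 0 →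
      c₀ ∉ Submodule.span F ({p, y} : Set (Fin n → F)) → E p (pv Q y) ∈ MS M := by
    intro y hpy hcy
    set S₂ := Submodule.span F ({p, y} : Set (Fin n → F)) with hS₂
    obtain ⟨x₀, hx₀S, hx₀c⟩ : ∃ x₀ : Fin n → F, (∀ s ∈ S₂, B Q s x₀ = 0) ∧ B Q x₀ c₀ ≠ 0 := by
      by_contra hcon
      push Not at hcon
      exact hcy (mem_of_forall_perp hQ S₂ c₀ hcon)
    obtain ⟨e, f, hQe, hQf, hef, heS, hfS⟩ := exists_hyp_perp hQ S₂ (by
      have := finrank_span_pair_le p y
      rw [hS₂]
      omega)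
    obtain ⟨x₁, hQx₁, hx₁S, hx₁c⟩ := exists_singular_ne S₂ hQe hQf hef heS hfS (pv Q c₀) x₀ hx₀S
      (by rw [pv_dot, B_comm]; exact hx₀c)
    rw [pv_dot] at hx₁c
    obtain ⟨x, hx⟩ : ∃ x : Fin n → F, x = (B Q c₀ x₁)⁻¹ • x₁ := ⟨_, rfl⟩
    have hQx : Q x = 0 := by rw [hx, Q_smul, hQx₁, mul_zero]
    have hxp : B Q x p = 0 := by
      rw [B_comm, hx]
      exact B_smul_right_zero Q _ (hx₁S p (Submodule.subset_span (by simp)))
    have hxy : B Q x y = 0 := by
      rw [B_comm, hx]
      exact B_smul_right_zero Q _ (hx₁S y (Submodule.subset_span (by simp)))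
    have hxc : B Q x c₀ = 1 := by
      rw [hx]
      show QuadraticMap.polar ⇑Q ((B Q c₀ x₁)⁻¹ • x₁) c₀ = 1
      rw [QuadraticMap.polar_smul_left, smul_eq_mul, QuadraticMap.polar_comm]
      exact inv_mul_cancel₀ hx₁c
    -- the vectors `s v`
    have hs : ∀ v : Fin n → F, B Q x v = 0 → B Q p v = 0 →
        E p (pv Q (v - (B Q v c₀ + Q v) • x)) ∈ MS M := by
      intro v hxv hpv
      have hSp : siegM Q x v *ᵥ p = p := by
        rw [siegM_mulVec, hxp, B_comm Q v p, hpv]
        simp
      have hSc : siegM Q x v *ᵥ c₀ = c₀ + (v - (B Q v c₀ + Q v) • x) := by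
        rw [siegM_mulVec, hxc]
        module
      have h1 := hU_map _ (siegM_pres Q hQx hxv) (siegM_det x v hQx hxv) hSp c₀ h0
      rw [hSc] at h1
      have h2 := hU_add (-c₀) (c₀ + (v - (B Q v c₀ + Q v) • x))
        (by rw [B_neg_right, hpc, neg_zero]) (hU_neg c₀ hpc h0) h1
      rw [neg_add_cancel_left] at h2
      exact h2
    have hps : ∀ v : Fin n → F, B Q p v = 0 → B Q p (v - (B Q v c₀ + Q v) • x) = 0 := by
      intro v hpv
      show QuadraticMap.polar ⇑Q p (v - (B Q v c₀ + Q v) • x) = 0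
      rw [QuadraticMap.polar_sub_right, QuadraticMap.polar_smul_right]
      have h1 : QuadraticMap.polar ⇑Q p x = 0 := by rw [QuadraticMap.polar_comm]; exact hxp
      simp only [B] at hpv
      rw [hpv, h1]
      simp
    -- multiples of `x`
    obtain ⟨e', f', hQe', hQf', hef', he'S, hf'S⟩ := exists_hyp_perp hQ
      (Submodule.span F ({p, x} : Set (Fin n → F))) (by
      have := finrank_span_pair_le p x
      omega)
    have hpe' : B Q p e' = 0 := he'S p (Submodule.subset_span (by simp))
    have hxe' : B Q x e' = 0 := he'S x (Submodule.subset_span (by simp))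
    have hpf' : B Q p f' = 0 := hf'S p (Submodule.subset_span (by simp))
    have hxf' : B Q x f' = 0 := hf'S x (Submodule.subset_span (by simp))
    have hU_x : ∀ a : F, E p (pv Q (a • x)) ∈ MS M := by
      intro a
      have hpa : B Q p ((-a) • e') = 0 := B_smul_right_zero Q _ hpe'
      have hxa : B Q x ((-a) • e') = 0 := B_smul_right_zero Q _ hxe'
      have hpsum : B Q p ((-a) • e' + f') = 0 := B_add_right_zero Q hpa hpf'
      have hxsum : B Q x ((-a) • e' + f') = 0 := B_add_right_zero Q hxa hxf'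
      have h1 := hs _ hxsum hpsum
      have h2 := hs _ hxa hpa
      have h3 := hs _ hxf' hpf'
      have h4 := hU_sub _ _ (hps _ hpsum) (hps _ hpa) h1 h2
      have h5 := hU_sub _ _ (by
        show QuadraticMap.polar ⇑Q p _ = 0
        rw [QuadraticMap.polar_sub_right]
        have e1 := hps _ hpsum
        have e2 := hps _ hpa
        simp only [B] at e1 e2
        rw [e1, e2, sub_zero]) (hps _ hpf') h4 h3
      convert h5 using 3
      have hB : B Q ((-a) • e' + f') c₀ = B Q ((-a) • e') c₀ + B Q f' c₀ :=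
        QuadraticMap.polar_add_left _ _ _ _
      have hQs : Q ((-a) • e' + f') = Q ((-a) • e') + Q f' + B Q ((-a) • e') f' := Q_add Q _ _
      have hBef : B Q ((-a) • e') f' = -a := by
        show QuadraticMap.polar ⇑Q ((-a) • e') f' = -a
        rw [QuadraticMap.polar_smul_left, smul_eq_mul]
        simp only [B] at hef'
        rw [hef', mul_one]
      rw [hB, hQs, hBef]
      module
    -- finally `y`
    have h1 := hs y hxy hpy
    have h2 := hU_add _ ((B Q y c₀ + Q y) • x) (hps y hpy) h1 (hU_x _)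
    rw [sub_add_cancel] at h2
    exact h2
  -- Step (iii)
  have hall : ∀ c : Fin n → F, B Q p c = 0 → E p (pv Q c) ∈ MS M := by
    intro c hpc'
    by_cases hcc : c₀ ∈ Submodule.span F ({p, c} : Set (Fin n → F))
    · obtain ⟨e, f, hQe, hQf, hef, heS, hfS⟩ := exists_hyp_perp hQ
        (Submodule.span F ({p, c₀} : Set (Fin n → F))) (by
        have := finrank_span_pair_le p c₀
        omega)
      have hpe : B Q p e = 0 := heS p (Submodule.subset_span (by simp))
      have hce : B Q c₀ e = 0 := heS c₀ (Submodule.subset_span (by simp))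
      have hpf : B Q p f = 0 := hfS p (Submodule.subset_span (by simp))
      have hcf : B Q c₀ f = 0 := hfS c₀ (Submodule.subset_span (by simp))
      have heN : e ∉ Submodule.span F ({p, c₀} : Set (Fin n → F)) := by
        intro he
        have := perp_span_pair hpf hcf e he
        rw [hef] at this
        exact one_ne_zero this
      obtain ⟨α, β, hαβ⟩ := Submodule.mem_span_pair.mp hcc
      have h1 : c₀ ∉ Submodule.span F ({p, e} : Set (Fin n → F)) := by
        intro hmem
        obtain ⟨a, b, hab⟩ := Submodule.mem_span_pair.mp hmem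
        by_cases hb : b = 0
        · rw [hb, zero_smul, add_zero] at hab
          exact hc₀ a hab.symm
        · apply heN
          have : e = (-(b⁻¹ * a)) • p + b⁻¹ • c₀ := by
            rw [← hab, smul_add, smul_smul, smul_smul, inv_mul_cancel₀ hb, one_smul]
            module
          rw [this]
          exact Submodule.add_mem _ (Submodule.smul_mem _ _ (Submodule.subset_span (by simp)))
            (Submodule.smul_mem _ _ (Submodule.subset_span (by simp)))
      have h2 : c₀ ∉ Submodule.span F ({p, c - e} : Set (Fin n → F)) := by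
        intro hmem
        obtain ⟨a, b, hab⟩ := Submodule.mem_span_pair.mp hmem
        by_cases hb : b = 0
        · rw [hb, zero_smul, add_zero] at hab
          exact hc₀ a hab.symm
        · by_cases hβ : β = 0
          · rw [hβ, zero_smul, add_zero] at hαβ
            exact hc₀ α hαβ.symm
          · apply heN
            -- c = β⁻¹ (c₀ - α p)
            have hc : c = β⁻¹ • (c₀ - α • p) := by
              rw [← hαβ, add_sub_cancel_left, smul_smul, inv_mul_cancel₀ hβ, one_smul]
            have : e = (b⁻¹ * a - β⁻¹ * α) • p + (β⁻¹ - b⁻¹) • c₀ := by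
              have hbe : b • e = a • p + b • c - c₀ := by
                rw [← hab]; module
              calc e = b⁻¹ • (b • e) := by rw [smul_smul, inv_mul_cancel₀ hb, one_smul]
                _ = b⁻¹ • (a • p + b • c - c₀) := by rw [hbe]
                _ = (b⁻¹ * a - β⁻¹ * α) • p + (β⁻¹ - b⁻¹) • c₀ := by
                    rw [hc, smul_sub, smul_add, smul_smul, smul_smul, smul_smul,
                      inv_mul_cancel₀ hb]
                    module
            rw [this]
            exact Submodule.add_mem _ (Submodule.smul_mem _ _ (Submodule.subset_span (by simp)))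
              (Submodule.smul_mem _ _ (Submodule.subset_span (by simp)))
      have hpce : B Q p (c - e) = 0 := by
        show QuadraticMap.polar ⇑Q p (c - e) = 0
        rw [QuadraticMap.polar_sub_right]
        simp only [B] at hpc' hpe
        rw [hpc', hpe, sub_zero]
      have h3 := hU_add e (c - e) hpe (hkey e hpe h1) (hkey (c - e) hpce h2)
      rw [add_sub_cancel] at h3
      exact h3
    · exact hkey c hpc' hcc
  intro φ hφ
  obtain ⟨d, rfl⟩ := pv_surj hQ φ
  apply hall
  rw [pv_dot] at hφ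
  rw [B_comm]; exact hφ


theorem E_smul_left (a : F) (p φ : Fin n → F) : E (a • p) φ = E p (a • φ) := by
  apply Spin.matrix_ext_mulVec
  intro x
  rw [E_mulVec, E_mulVec, smul_dotProduct, smul_smul, smul_eq_mul, mul_comm]

theorem E_add_left (a b φ : Fin n → F) (hb : φ ⬝ᵥ b = 0) : E (a + b) φ = E a φ * E b φ := by
  apply Spin.matrix_ext_mulVec
  intro x
  rw [← Matrix.mulVec_mulVec, E_mulVec, E_mulVec, E_mulVec, dotProduct_add, dotProduct_smul, hb]
  module

/-- one singular centre gives all transvections -/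
theorem all_of_center_sing [Finite F] (hQ : (QuadraticMap.polarBilin Q).Nondegenerate)
    (fr : Frame3 Q) (hn : 5 ≤ n) (M : Subgroup (Matrix.GeneralLinearGroup (Fin n) F))
    (hHM : Cfsg.Geo.quadSimilarityGroup (⇑Q) ⊓ SL n F ≤ M)
    (p : Fin n → F) (hQp : Q p = 0) (hp0 : p ≠ 0)
    (hall : ∀ φ : Fin n → F, φ ⬝ᵥ p = 0 → E p φ ∈ MS M) :
    ∀ w φ : Fin n → F, φ ⬝ᵥ w = 0 → E w φ ∈ MS M := by
  classical
  have hsing : ∀ p' : Fin n → F, Q p' = 0 → ∀ φ : Fin n → F, φ ⬝ᵥ p' = 0 → E p' φ ∈ MS M := by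
    intro p' hQp' φ' hφ'
    by_cases hp'0 : p' = 0
    · rw [hp'0, E_zero_left]; exact one_mem_MS M
    by_cases hprop : ∃ a : F, p' = a • p
    · obtain ⟨a, rfl⟩ := hprop
      rw [E_smul_left]
      apply hall
      rw [smul_dotProduct, smul_eq_mul]
      rw [dotProduct_smul, smul_eq_mul] at hφ'
      exact hφ'
    · have hind := indep_of_not_smul hp0 hprop
      obtain ⟨z, hQz, hzp, hzp'⟩ := exists_common_partner hQ fr hQp hQp' hind
      have hz : B Q z (p' - p) = 0 := by
        show QuadraticMap.polar ⇑Q z (p' - p) = 0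
        rw [QuadraticMap.polar_sub_right]
        simp only [B] at hzp hzp'
        rw [hzp, hzp', sub_self]
      have hmove : siegM Q z (p' - p) *ᵥ p = p' := by
        have := siegO_move hQz hQp hQp' hzp hzp' hz
        rwa [siegO_val] at this
      obtain ⟨g, hgM, hgA⟩ := siegM_mem M hHM z (p' - p) hQz hz
      have h1 := MS_conj g hgM (hall (φ' ᵥ* siegM Q z (p' - p))
        (by rw [← Matrix.dotProduct_mulVec, hmove, hφ']))
      rw [conj_E, hgA, hmove, ← hgA, Matrix.vecMul_vecMul, ← Units.val_mul, mul_inv_cancel,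
        Units.val_one, Matrix.vecMul_one] at h1
      exact h1
  intro w φ hφ
  obtain ⟨d, rfl⟩ := pv_surj hQ φ
  rw [pv_dot] at hφ
  set S₁ := Submodule.span F ({d} : Set (Fin n → F)) with hS₁
  have hS₁dim : finrank F S₁ ≤ 1 := by
    have := finrank_span_finset_le_card (R := F) ({d} : Finset (Fin n → F))
    rw [Finset.coe_singleton, Finset.card_singleton] at this
    exact this
  have hperp : ∀ x : Fin n → F, B Q d x = 0 → ∀ s ∈ S₁, B Q s x = 0 := by
    intro x hx s hs
    obtain ⟨a, rfl⟩ := Submodule.mem_span_singleton.mp hs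
    exact B_smul_left_zero Q a hx
  obtain ⟨e, f, hQe, hQf, hef, heS, hfS⟩ := exists_hyp_perp hQ S₁ (by omega)
  obtain ⟨s₁, s₂, s₃, hsum, h1, h2, h3, h1S, h2S, h3S⟩ :=
    sum_three_singular S₁ hQe hQf hef heS hfS w (hperp w hφ)
  have hd : d ∈ S₁ := Submodule.subset_span rfl
  rw [hsum, E_add_left _ _ _ (by rw [pv_dot]; exact h3S d hd),
    E_add_left _ _ _ (by rw [pv_dot]; exact h2S d hd)]
  exact MS_mul (MS_mul (hsing s₁ h1 _ (by rw [pv_dot]; exact h1S d hd))
    (hsing s₂ h2 _ (by rw [pv_dot]; exact h2S d hd))) (hsing s₃ h3 _ (by rw [pv_dot]; exact h3S d hd))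

end Cfsg.Agent.Helper28.OSim
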