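import Mathlib
import Cfsg.Prelude.Def_GeometricClasses
import Cfsg.Agent.Helper28.OrthSim2

set_option autoImplicit false

/-! Maximality of the orthogonal similarity group in `SL_n(q)`, `q` odd: producing a transvection. -/

namespace Cfsg.Agent.Helper28.OSim

open Matrix Module Cfsg.Agent.Helper28.Sg Cfsg.Agent.Helper28.Spin Cfsg.Agent.Helper28.SLMax
  Cfsg.Agent.Helper28.SimMax

variable {F : Type*} [Field F] {n : ℕ} {Q : QuadraticForm F (Fin n → F)}

/-- if `B(g u, g ·)` is proportional to `B(u, ·)` for every singular `u`, then `g` is a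
similarity -/
theorem sim_of_singular [Finite F] (h2 : (2 : F) ≠ 0)
    (hQ : (QuadraticMap.polarBilin Q).Nondegenerate) (fr : Frame3 Q)
    (g : Matrix.GeneralLinearGroup (Fin n) F)
    (hall : ∀ u : Fin n → F, Q u = 0 → ∃ e : F, ∀ x,
      B Q ((g : Matrix (Fin n) (Fin n) F) *ᵥ u) ((g : Matrix (Fin n) (Fin n) F) *ᵥ x) = e * B Q u x) :
    g ∈ Cfsg.Geo.quadSimilarityGroup (⇑Q) := by
  classical
  have hginv : ∀ y, (g : Matrix (Fin n) (Fin n) F) *ᵥ
      (((g⁻¹ : Matrix.GeneralLinearGroup (Fin n) F) : Matrix (Fin n) (Fin n) F) *ᵥ y) = y := by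
    intro y
    rw [Matrix.mulVec_mulVec, ← Units.val_mul, mul_inv_cancel, Units.val_one, Matrix.one_mulVec]
  have hginv' : ∀ y, ((g⁻¹ : Matrix.GeneralLinearGroup (Fin n) F) : Matrix (Fin n) (Fin n) F) *ᵥ
      ((g : Matrix (Fin n) (Fin n) F) *ᵥ y) = y := by
    intro y
    rw [Matrix.mulVec_mulVec, ← Units.val_mul, inv_mul_cancel, Units.val_one, Matrix.one_mulVec]
  choose e he using hall
  -- non-orthogonal singular vectors have the same factor
  have hstep : ∀ (u u' : Fin n → F) (hu : Q u = 0) (hu' : Q u' = 0), B Q u u' ≠ 0 →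
      e u hu = e u' hu' := by
    intro u u' hu hu' huu'
    have h1 := he u hu u'
    have h3 := he u' hu' u
    rw [B_comm, h3, B_comm Q u' u] at h1
    exact (mul_right_cancel₀ huu' h1).symm
  have hconst : ∀ (u u' : Fin n → F) (hu : Q u = 0) (hu' : Q u' = 0), u ≠ 0 → u' ≠ 0 →
      e u hu = e u' hu' := by
    intro u u' hu hu' hu0 hu'0
    by_cases hprop : ∃ a : F, u' = a • u
    · obtain ⟨a, ha⟩ := hprop
      obtain ⟨y, hy⟩ := exists_pair_one hQ hu0
      -- a singular partner of `u`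
      obtain ⟨x, hx⟩ : ∃ x : Fin n → F, x = y - Q y • u := ⟨_, rfl⟩
      have hux : B Q u x = 1 := by
        rw [hx]
        show QuadraticMap.polar ⇑Q u (y - Q y • u) = 1
        rw [QuadraticMap.polar_sub_right, QuadraticMap.polar_smul_right,
          show QuadraticMap.polar ⇑Q u u = 0 from B_self_of_singular Q hu]
        simp only [B] at hy
        rw [hy]; simp
      have hQx : Q x = 0 := by
        rw [hx, Spin.map_sub'' Q y (Q y • u), Q_smul, hu]
        show _ + _ - QuadraticMap.polar ⇑Q y (Q y • u) = 0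
        rw [QuadraticMap.polar_smul_right, QuadraticMap.polar_comm]
        simp only [B] at hy
        rw [hy]; simp
      have ha0 : a ≠ 0 := by
        rintro rfl
        rw [zero_smul] at ha
        exact hu'0 ha
      have hu'x : B Q u' x ≠ 0 := by
        rw [ha]
        show QuadraticMap.polar ⇑Q (a • u) x ≠ 0
        rw [QuadraticMap.polar_smul_left, smul_eq_mul]
        simp only [B] at hux
        rw [hux, mul_one]
        exact ha0
      rw [hstep u x hu hQx (by rw [hux]; exact one_ne_zero), ← hstep u' x hu' hQx hu'x]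
    · have hind := indep_of_not_smul hu0 hprop
      obtain ⟨z, hQz, hzu, hzu'⟩ := exists_common_partner hQ fr hu hu' hind
      rw [← hstep z u hQz hu (by rw [hzu]; exact one_ne_zero),
        hstep z u' hQz hu' (by rw [hzu']; exact one_ne_zero)]
  -- the constant
  have hQe0 : Q (fr.e 0) = 0 := fr.Qe 0
  have he0 : fr.e 0 ≠ 0 := fr.e_ne_zero 0
  set c : F := e (fr.e 0) hQe0 with hc
  have hc0 : c ≠ 0 := by
    intro h0
    have hgv : (g : Matrix (Fin n) (Fin n) F) *ᵥ (fr.e 0) = 0 := by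
      apply hQ.1
      intro y
      show B Q _ y = 0
      rw [← hginv y, he (fr.e 0) hQe0, ← hc, h0, zero_mul]
    apply he0
    rw [← hginv' (fr.e 0), hgv, Matrix.mulVec_zero]
  have hsing : ∀ u : Fin n → F, Q u = 0 → ∀ x,
      B Q ((g : Matrix (Fin n) (Fin n) F) *ᵥ u) ((g : Matrix (Fin n) (Fin n) F) *ᵥ x)
        = c * B Q u x := by
    intro u hu x
    by_cases hu0 : u = 0
    · rw [hu0, Matrix.mulVec_zero]
      simp [B]
    · rw [he u hu, hconst u (fr.e 0) hu hQe0 hu0 he0]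
  have hBall : ∀ v x : Fin n → F,
      B Q ((g : Matrix (Fin n) (Fin n) F) *ᵥ v) ((g : Matrix (Fin n) (Fin n) F) *ᵥ x)
        = c * B Q v x := by
    intro v x
    have hef : B Q (fr.e 0) (fr.f 0) = 1 := by
      have := fr.Bef 0 0
      simpa using this
    obtain ⟨s₁, s₂, s₃, hsum, h1, h2', h3, -, -, -⟩ :=
      sum_three_singular (⊥ : Submodule F (Fin n → F)) hQe0 (fr.Qf 0) hef
        (by intro s hs; rw [(Submodule.mem_bot F).mp hs]; simp [B])
        (by intro s hs; rw [(Submodule.mem_bot F).mp hs]; simp [B]) v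
        (by intro s hs; rw [(Submodule.mem_bot F).mp hs]; simp [B])
    rw [hsum, Matrix.mulVec_add, Matrix.mulVec_add]
    show QuadraticMap.polar ⇑Q _ _ = c * QuadraticMap.polar ⇑Q _ _
    rw [QuadraticMap.polar_add_left, QuadraticMap.polar_add_left, QuadraticMap.polar_add_left,
      QuadraticMap.polar_add_left]
    have e1 := hsing s₁ h1 x
    have e2 := hsing s₂ h2' x
    have e3 := hsing s₃ h3 x
    simp only [B] at e1 e2 e3
    rw [e1, e2, e3]
    ring
  refine ⟨Units.mk0 c hc0, fun v => ?_⟩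
  show Q _ = c * Q v
  have h4 := hBall v v
  rw [B_self, B_self] at h4
  have h5 : (2 : F) * (Q ((g : Matrix (Fin n) (Fin n) F) *ᵥ v) - c * Q v) = 0 := by
    linear_combination h4
  rcases mul_eq_zero.mp h5 with h6 | h6
  · exact absurd h6 h2
  · exact sub_eq_zero.mp h6


theorem perp_span_four {a b c d x : Fin n → F} (ha : B Q a x = 0) (hb : B Q b x = 0)
    (hc : B Q c x = 0) (hd : B Q d x = 0) :
    ∀ s ∈ Submodule.span F ({a, b} : Set (Fin n → F)) ⊔ Submodule.span F ({c, d} : Set (Fin n → F)),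
      B Q s x = 0 := by
  intro s hs
  obtain ⟨s1, hs1, s2, hs2, rfl⟩ := Submodule.mem_sup.mp hs
  show QuadraticMap.polar ⇑Q (s1 + s2) x = 0
  rw [QuadraticMap.polar_add_left]
  have h1 := perp_span_pair ha hb s1 hs1
  have h2 := perp_span_pair hc hd s2 hs2
  simp only [B] at h1 h2
  rw [h1, h2, add_zero]

theorem finrank_span_four_le (a b c d : Fin n → F) :
    finrank F (Submodule.span F ({a, b} : Set (Fin n → F)) ⊔
      Submodule.span F ({c, d} : Set (Fin n → F)) : Submodule F (Fin n → F)) ≤ 4 := by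
  have h1 := Submodule.finrank_add_le_finrank_add_finrank
    (Submodule.span F ({a, b} : Set (Fin n → F))) (Submodule.span F ({c, d} : Set (Fin n → F)))
  have h2 := finrank_span_pair_le a b
  have h3 := finrank_span_pair_le c d
  omega

/-- a non-similarity in `M`, witnessed by a singular `u` and `z₀ ⊥ u` with `g z₀` not orthogonal to
`g u`, yields a good transvection with singular centre -/
theorem exists_good_transvection [Finite F] (hQ : (QuadraticMap.polarBilin Q).Nondegenerate)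
    (hn : 11 ≤ n) (M : Subgroup (Matrix.GeneralLinearGroup (Fin n) F))
    (hHM : Cfsg.Geo.quadSimilarityGroup (⇑Q) ⊓ SL n F ≤ M)
    (g : Matrix.GeneralLinearGroup (Fin n) F) (hgM : g ∈ M) (u z₀ : Fin n → F)
    (hQu : Q u = 0) (huz : B Q u z₀ = 0)
    (hne : B Q ((g : Matrix (Fin n) (Fin n) F) *ᵥ z₀) ((g : Matrix (Fin n) (Fin n) F) *ᵥ u) ≠ 0) :
    ∃ p c₀ : Fin n → F, Q p = 0 ∧ p ≠ 0 ∧ B Q p c₀ = 0 ∧ (∀ a : F, c₀ ≠ a • p) ∧
      E p (pv Q c₀) ∈ MS M := by
  classical
  have hginv' : ∀ y, ((g⁻¹ : Matrix.GeneralLinearGroup (Fin n) F) : Matrix (Fin n) (Fin n) F) *ᵥ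
      ((g : Matrix (Fin n) (Fin n) F) *ᵥ y) = y := by
    intro y
    rw [Matrix.mulVec_mulVec, ← Units.val_mul, inv_mul_cancel, Units.val_one, Matrix.one_mulVec]
  -- (2) the second singular vector `w`
  obtain ⟨w, w', hQw, hQw', hww', hwS, hw'S⟩ := exists_hyp_perp hQ
    (Submodule.span F ({u, z₀} : Set (Fin n → F))) (by
      have := finrank_span_pair_le u z₀
      omega)
  have huw : B Q u w = 0 := hwS u (Submodule.subset_span (by simp))
  have hzw : B Q z₀ w = 0 := hwS z₀ (Submodule.subset_span (by simp))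
  have huw' : B Q u w' = 0 := hw'S u (Submodule.subset_span (by simp))
  -- (3) the adjoint images
  obtain ⟨du, hdu⟩ := pv_surj hQ (pv Q u ᵥ*
    ((g⁻¹ : Matrix.GeneralLinearGroup (Fin n) F) : Matrix (Fin n) (Fin n) F))
  obtain ⟨dw, hdw⟩ := pv_surj hQ (pv Q w ᵥ*
    ((g⁻¹ : Matrix.GeneralLinearGroup (Fin n) F) : Matrix (Fin n) (Fin n) F))
  have hdu' : ∀ x, B Q du ((g : Matrix (Fin n) (Fin n) F) *ᵥ x) = B Q u x := by
    intro x
    rw [← pv_dot, hdu, ← Matrix.dotProduct_mulVec, hginv', pv_dot]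
  have hdw' : ∀ x, B Q dw ((g : Matrix (Fin n) (Fin n) F) *ᵥ x) = B Q w x := by
    intro x
    rw [← pv_dot, hdw, ← Matrix.dotProduct_mulVec, hginv', pv_dot]
  obtain ⟨gu, hgu⟩ : ∃ gu : Fin n → F, gu = (g : Matrix (Fin n) (Fin n) F) *ᵥ u := ⟨_, rfl⟩
  obtain ⟨gw, hgw⟩ : ∃ gw : Fin n → F, gw = (g : Matrix (Fin n) (Fin n) F) *ᵥ w := ⟨_, rfl⟩
  obtain ⟨gz, hgz⟩ : ∃ gz : Fin n → F, gz = (g : Matrix (Fin n) (Fin n) F) *ᵥ z₀ := ⟨_, rfl⟩
  rw [← hgu, ← hgz] at hne
  have hdu_gu : B Q du gu = 0 := by rw [hgu, hdu']; exact B_self_of_singular Q hQu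
  have hdu_gw : B Q du gw = 0 := by rw [hgw, hdu']; exact huw
  have hdw_gu : B Q dw gu = 0 := by rw [hgu, hdw', B_comm]; exact huw
  have hdw_gw : B Q dw gw = 0 := by rw [hgw, hdw']; exact B_self_of_singular Q hQw
  have hdu_gz : B Q du gz = 0 := by rw [hgz, hdu']; exact huz
  have hdw_gz : B Q dw gz = 0 := by rw [hgz, hdw', B_comm]; exact hzw
  -- (4) the hyperbolic pair `(p, y)`
  obtain ⟨p, y, hQp, hQy, hpy, hpS, hyS⟩ := exists_hyp_perp hQ
    (Submodule.span F ({du, dw} : Set (Fin n → F)) ⊔ Submodule.span F ({gu, gw} : Set (Fin n → F)))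
    (by
      have := finrank_span_four_le du dw gu gw
      omega)
  have hmem1 : ∀ v ∈ ({du, dw} : Set (Fin n → F)), v ∈
      Submodule.span F ({du, dw} : Set (Fin n → F)) ⊔ Submodule.span F ({gu, gw} : Set (Fin n → F)) :=
    fun v hv => Submodule.mem_sup_left (Submodule.subset_span hv)
  have hmem2 : ∀ v ∈ ({gu, gw} : Set (Fin n → F)), v ∈
      Submodule.span F ({du, dw} : Set (Fin n → F)) ⊔ Submodule.span F ({gu, gw} : Set (Fin n → F)) :=
    fun v hv => Submodule.mem_sup_right (Submodule.subset_span hv)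
  have hdu_p : B Q du p = 0 := hpS du (hmem1 du (by simp))
  have hdw_p : B Q dw p = 0 := hpS dw (hmem1 dw (by simp))
  have hgu_p : B Q gu p = 0 := hpS gu (hmem2 gu (by simp))
  have hgw_p : B Q gw p = 0 := hpS gw (hmem2 gw (by simp))
  have hdu_y : B Q du y = 0 := hyS du (hmem1 du (by simp))
  have hdw_y : B Q dw y = 0 := hyS dw (hmem1 dw (by simp))
  have hgu_y : B Q gu y = 0 := hyS gu (hmem2 gu (by simp))
  have hp0 : p ≠ 0 := by
    rintro rfl
    simp [B] at hpy
  -- (5) the vector `t₁`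
  obtain ⟨t₁, ht₁⟩ : ∃ t₁ : Fin n → F, t₁ = gz - B Q gz p • y := ⟨_, rfl⟩
  have hdu_t₁ : B Q du t₁ = 0 := by
    rw [ht₁]
    show QuadraticMap.polar ⇑Q du (gz - B Q gz p • y) = 0
    rw [QuadraticMap.polar_sub_right, QuadraticMap.polar_smul_right]
    simp only [B] at hdu_gz hdu_y
    rw [hdu_gz, hdu_y]; simp
  have hdw_t₁ : B Q dw t₁ = 0 := by
    rw [ht₁]
    show QuadraticMap.polar ⇑Q dw (gz - B Q gz p • y) = 0
    rw [QuadraticMap.polar_sub_right, QuadraticMap.polar_smul_right]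
    simp only [B] at hdw_gz hdw_y
    rw [hdw_gz, hdw_y]; simp
  have hp_t₁ : B Q p t₁ = 0 := by
    rw [ht₁]
    show QuadraticMap.polar ⇑Q p (gz - B Q gz p • y) = 0
    rw [QuadraticMap.polar_sub_right, QuadraticMap.polar_smul_right]
    simp only [B] at hpy
    rw [hpy, QuadraticMap.polar_comm]; simp [B]
  have hgu_t₁ : B Q gu t₁ ≠ 0 := by
    rw [ht₁]
    show QuadraticMap.polar ⇑Q gu (gz - B Q gz p • y) ≠ 0
    rw [QuadraticMap.polar_sub_right, QuadraticMap.polar_smul_right]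
    simp only [B] at hgu_y
    rw [hgu_y, smul_zero, sub_zero, QuadraticMap.polar_comm]
    exact hne
  -- (6) the singular vector `t`
  set S₃ := Submodule.span F ({du, dw} : Set (Fin n → F)) ⊔
    Submodule.span F ({p, p} : Set (Fin n → F)) with hS₃
  obtain ⟨e₃, f₃, hQe₃, hQf₃, hef₃, he₃S, hf₃S⟩ := exists_hyp_perp hQ S₃ (by
    have := finrank_span_four_le du dw p p
    rw [hS₃]
    omega)
  obtain ⟨t, hQt, htS, hgu_t⟩ := exists_singular_ne S₃ hQe₃ hQf₃ hef₃ he₃S hf₃S (pv Q gu) t₁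
    (perp_span_four hdu_t₁ hdw_t₁ hp_t₁ hp_t₁) (by rw [pv_dot]; exact hgu_t₁)
  rw [pv_dot] at hgu_t
  have hdu_t : B Q du t = 0 :=
    htS du (Submodule.mem_sup_left (Submodule.subset_span (by simp)))
  have hdw_t : B Q dw t = 0 :=
    htS dw (Submodule.mem_sup_left (Submodule.subset_span (by simp)))
  have hp_t : B Q p t = 0 :=
    htS p (Submodule.mem_sup_right (Submodule.subset_span (by simp)))
  have htp : B Q t p = 0 := by rw [B_comm]; exact hp_t
  -- (7) the matrices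
  obtain ⟨r₁, hr₁M, hr₁⟩ := siegM_mem M hHM w u hQw (by rw [B_comm]; exact huw)
  obtain ⟨r, hrM, hr⟩ := siegM_mem M hHM t p hQt htp
  obtain ⟨g₁, hg₁⟩ : ∃ g₁ : Matrix.GeneralLinearGroup (Fin n) F, g₁ = g * r₁ * g⁻¹ := ⟨_, rfl⟩
  have hg₁M : g₁ ∈ M := by rw [hg₁]; exact M.mul_mem (M.mul_mem hgM hr₁M) (M.inv_mem hgM)
  have hg₁v : ∀ x, (g₁ : Matrix (Fin n) (Fin n) F) *ᵥ x = x + B Q dw x • gu - B Q du x • gw := by
    intro x
    have hx : x = (g : Matrix (Fin n) (Fin n) F) *ᵥ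
        (((g⁻¹ : Matrix.GeneralLinearGroup (Fin n) F) : Matrix (Fin n) (Fin n) F) *ᵥ x) := by
      rw [Matrix.mulVec_mulVec, ← Units.val_mul, mul_inv_cancel, Units.val_one, Matrix.one_mulVec]
    have e1 : B Q dw x = B Q w
        (((g⁻¹ : Matrix.GeneralLinearGroup (Fin n) F) : Matrix (Fin n) (Fin n) F) *ᵥ x) := by
      conv_lhs => rw [hx]
      exact hdw' _
    have e2 : B Q du x = B Q u
        (((g⁻¹ : Matrix.GeneralLinearGroup (Fin n) F) : Matrix (Fin n) (Fin n) F) *ᵥ x) := by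
      conv_lhs => rw [hx]
      exact hdu' _
    rw [hg₁, Units.val_mul, Units.val_mul, ← Matrix.mulVec_mulVec, ← Matrix.mulVec_mulVec, hr₁,
      siegM_mulVec, hQu, zero_mul, zero_smul, sub_zero, Matrix.mulVec_sub, Matrix.mulVec_add,
      Matrix.mulVec_smul, Matrix.mulVec_smul, ← hgu, ← hgw, ← hx, e1, e2]
  have hrv : ∀ x, (r : Matrix (Fin n) (Fin n) F) *ᵥ x = x + B Q t x • p - B Q p x • t := by
    intro x
    rw [hr, siegM_mulVec, hQp, zero_mul, zero_smul, sub_zero]
  obtain ⟨φ, hφ⟩ : ∃ φ : Fin n → F, φ = B Q t gw • pv Q du - B Q t gu • pv Q dw := ⟨_, rfl⟩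
  have hφv : ∀ x, φ ⬝ᵥ x = B Q t gw * B Q du x - B Q t gu * B Q dw x := by
    intro x
    rw [hφ, sub_dotProduct, smul_dotProduct, smul_dotProduct, pv_dot, pv_dot, smul_eq_mul,
      smul_eq_mul]
  have hφp : φ ⬝ᵥ p = 0 := by rw [hφv, hdu_p, hdw_p]; ring
  have hφt : φ ⬝ᵥ t = 0 := by rw [hφv, hdu_t, hdw_t]; ring
  have hφgu : φ ⬝ᵥ gu = 0 := by rw [hφv, hdu_gu, hdw_gu]; ring
  have hφgw : φ ⬝ᵥ gw = 0 := by rw [hφv, hdu_gw, hdw_gw]; ring
  have hcomm : (g₁ : Matrix (Fin n) (Fin n) F) * (r : Matrix (Fin n) (Fin n) F) =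
      E p φ * ((r : Matrix (Fin n) (Fin n) F) * (g₁ : Matrix (Fin n) (Fin n) F)) := by
    apply Spin.matrix_ext_mulVec
    intro x
    rw [← Matrix.mulVec_mulVec, ← Matrix.mulVec_mulVec, ← Matrix.mulVec_mulVec, hrv, hg₁v, hg₁v,
      hrv, E_mulVec]
    have e1 : B Q dw (x + B Q t x • p - B Q p x • t) = B Q dw x := by
      show QuadraticMap.polar ⇑Q dw (x + B Q t x • p - B Q p x • t) = _
      rw [QuadraticMap.polar_sub_right, QuadraticMap.polar_add_right, QuadraticMap.polar_smul_right,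
        QuadraticMap.polar_smul_right]
      simp only [B] at hdw_p hdw_t
      rw [hdw_p, hdw_t]; simp
    have e2 : B Q du (x + B Q t x • p - B Q p x • t) = B Q du x := by
      show QuadraticMap.polar ⇑Q du (x + B Q t x • p - B Q p x • t) = _
      rw [QuadraticMap.polar_sub_right, QuadraticMap.polar_add_right, QuadraticMap.polar_smul_right,
        QuadraticMap.polar_smul_right]
      simp only [B] at hdu_p hdu_t
      rw [hdu_p, hdu_t]; simp
    have e3 : B Q p (x + B Q dw x • gu - B Q du x • gw) = B Q p x := by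
      show QuadraticMap.polar ⇑Q p (x + B Q dw x • gu - B Q du x • gw) = _
      rw [QuadraticMap.polar_sub_right, QuadraticMap.polar_add_right, QuadraticMap.polar_smul_right,
        QuadraticMap.polar_smul_right, QuadraticMap.polar_comm _ p gu, QuadraticMap.polar_comm _ p gw]
      simp only [B] at hgu_p hgw_p
      rw [hgu_p, hgw_p]; simp
    have e4 : B Q t (x + B Q dw x • gu - B Q du x • gw) = B Q t x - φ ⬝ᵥ x := by
      show QuadraticMap.polar ⇑Q t (x + B Q dw x • gu - B Q du x • gw) = _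
      rw [QuadraticMap.polar_sub_right, QuadraticMap.polar_add_right, QuadraticMap.polar_smul_right,
        QuadraticMap.polar_smul_right, hφv]
      simp only [B, smul_eq_mul]
      ring
    rw [e1, e2, e3, e4]
    have e5 : φ ⬝ᵥ (x + B Q dw x • gu - B Q du x • gw + (B Q t x - φ ⬝ᵥ x) • p - B Q p x • t)
        = φ ⬝ᵥ x := by
      rw [dotProduct_sub, dotProduct_add, dotProduct_sub, dotProduct_add, dotProduct_smul,
        dotProduct_smul, dotProduct_smul, dotProduct_smul, hφp, hφt, hφgu, hφgw]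
      simp
    rw [e5]
    module
  have hE : E p φ ∈ MS M := by
    refine ⟨g₁ * r * (r * g₁)⁻¹, M.mul_mem (M.mul_mem hg₁M hrM)
      (M.inv_mem (M.mul_mem hrM hg₁M)), ?_⟩
    have h1 : ((g₁ * r * (r * g₁)⁻¹ : Matrix.GeneralLinearGroup (Fin n) F) :
        Matrix (Fin n) (Fin n) F) * ((r * g₁ : Matrix.GeneralLinearGroup (Fin n) F) :
        Matrix (Fin n) (Fin n) F) = E p φ * ((r * g₁ : Matrix.GeneralLinearGroup (Fin n) F) :
        Matrix (Fin n) (Fin n) F) := by
      rw [← Units.val_mul, inv_mul_cancel_right, Units.val_mul, hcomm, Units.val_mul]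
    exact (Units.mul_left_inj (r * g₁)).mp h1
  -- (8) genericity
  obtain ⟨c₀, hc₀⟩ : ∃ c₀ : Fin n → F, c₀ = B Q t gw • du - B Q t gu • dw := ⟨_, rfl⟩
  have hpvc : pv Q c₀ = φ := by
    rw [hc₀, hφ, sub_eq_add_neg, pv_add, pv_neg, pv_smul, pv_smul, ← sub_eq_add_neg]
  have hc₀v : ∀ x, B Q c₀ x = φ ⬝ᵥ x := by
    intro x
    rw [← hpvc, pv_dot]
  refine ⟨p, c₀, hQp, hp0, ?_, ?_, by rw [hpvc]; exact hE⟩
  · rw [B_comm, hc₀v, hφp]
  · intro a ha
    have h1 : B Q c₀ y = 0 := by rw [hc₀v, hφv, hdu_y, hdw_y]; ring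
    have ha0 : a = 0 := by
      rw [ha] at h1
      have : B Q (a • p) y = a * B Q p y := by
        show QuadraticMap.polar ⇑Q (a • p) y = _
        rw [QuadraticMap.polar_smul_left, smul_eq_mul]
      rw [this, hpy, mul_one] at h1
      exact h1
    have h2 : B Q c₀ ((g : Matrix (Fin n) (Fin n) F) *ᵥ w') = - B Q t gu := by
      rw [hc₀v, hφv, hdu', hdw', huw', hww']
      ring
    rw [ha, ha0, zero_smul] at h2
    apply hgu_t
    rw [B_comm]
    have : B Q (0 : Fin n → F) ((g : Matrix (Fin n) (Fin n) F) *ᵥ w') = 0 := by simp [B]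
    rw [this] at h2
    exact neg_eq_zero.mp h2.symm


theorem exists_not_sim_orth (fr : Frame3 Q) :
    ∃ g ∈ SL n F, g ∉ Cfsg.Geo.quadSimilarityGroup (⇑Q) := by
  have hQe : Q (fr.e 0) = 0 := fr.Qe 0
  have hee : B Q (fr.e 0) (fr.e 0) = 0 := B_self_of_singular Q hQe
  have hdot : pv Q (fr.e 0) ⬝ᵥ (fr.e 0) = 0 := by rw [pv_dot]; exact hee
  refine ⟨Eg (fr.e 0) (pv Q (fr.e 0)) (by rw [hdot, add_zero]; exact one_ne_zero), ?_, ?_⟩
  · apply (mem_SL_iff _).mpr
    rw [Eg_val, E_det, hdot, add_zero]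
  · rintro ⟨c, hc⟩
    have h1 := hc (fr.f 0)
    have hef : B Q (fr.e 0) (fr.f 0) = 1 := by
      have := fr.Bef 0 0
      simpa using this
    rw [Eg_val, E_mulVec, pv_dot, hef, one_smul, Q_add, fr.Qf, hQe, B_comm, hef] at h1
    simp at h1

/-- **The similarity group of a non-degenerate quadratic form is maximal in `SL_n(F)`**, `|F|` odd,
`n ≥ 11`. -/
theorem osim_maximal [Fintype F] (h2 : (2 : F) ≠ 0)
    (hQ : (QuadraticMap.polarBilin Q).Nondegenerate) (hn : 11 ≤ n) :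
    Cfsg.Geo.IsMaximalIn (SL n F) (Cfsg.Geo.quadSimilarityGroup (⇑Q) ⊓ SL n F) := by
  classical
  obtain ⟨fr⟩ := Cfsg.Agent.Helper28.OM.exists_frame3 hQ (by rw [Fintype.card_fin]; omega)
  refine ⟨lt_of_le_of_ne inf_le_right ?_, ?_⟩
  · intro heq
    obtain ⟨g, hg1, hg2⟩ := exists_not_sim_orth fr
    apply hg2
    have : g ∈ Cfsg.Geo.quadSimilarityGroup (⇑Q) ⊓ SL n F := by rw [heq]; exact hg1
    exact this.1
  · intro M hPM hMS
    by_cases hMP : M ≤ Cfsg.Geo.quadSimilarityGroup (⇑Q) ⊓ SL n F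
    · left; exact le_antisymm hMP hPM
    right
    refine le_antisymm hMS ?_
    obtain ⟨g, hgM, hgP⟩ := SetLike.not_le_iff_exists.mp hMP
    have hgS : g ∉ Cfsg.Geo.quadSimilarityGroup (⇑Q) := fun h' => hgP ⟨h', hMS hgM⟩
    obtain ⟨u, z₀, hQu, huz, hne⟩ : ∃ u z₀ : Fin n → F, Q u = 0 ∧ B Q u z₀ = 0 ∧
        B Q ((g : Matrix (Fin n) (Fin n) F) *ᵥ z₀) ((g : Matrix (Fin n) (Fin n) F) *ᵥ u) ≠ 0 := by
      by_contra hcon
      push Not at hcon
      apply hgS
      apply sim_of_singular h2 hQ fr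
      intro u hQu
      obtain ⟨e, he⟩ := exists_smul_of_ker (pv Q u)
        (pv Q ((g : Matrix (Fin n) (Fin n) F) *ᵥ u) ᵥ* (g : Matrix (Fin n) (Fin n) F)) (by
          intro x hx
          rw [pv_dot] at hx
          rw [← Matrix.dotProduct_mulVec, pv_dot, B_comm]
          exact hcon u x hQu hx)
      refine ⟨e, fun x => ?_⟩
      rw [← pv_dot, Matrix.dotProduct_mulVec, he, smul_dotProduct, pv_dot, smul_eq_mul]
    obtain ⟨p, c₀, hQp, hp0, hpc, hc₀, hE⟩ :=
      exists_good_transvection hQ hn M hPM g hgM u z₀ hQu huz hne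
    have hcen := all_center_sing hQ (by omega) M hPM p c₀ hQp hpc hc₀ hE
    have hall := all_of_center_sing hQ fr (by omega) M hPM p hQp hp0 hcen
    apply SL_le_of_transvections (by omega)
    intro v φ hφ
    exact Eg_mem_of_MS _ _ _ (hall v φ hφ)

end Cfsg.Agent.Helper28.OSim
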