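import Mathlib
import Cfsg.Agent.Helper10.S4017Defs
import Cfsg.Agent.Helper25.SylowIn

/-! S4017 piece A2: in Case A, `C_G(Q)` contains no nontrivial `p`-element. -/

set_option autoImplicit false
set_option linter.style.haveILetI false

namespace Cfsg.Agent.S4017P

theorem A2_aux_orderOf_conj {G : Type*} [Group G] (n x : G) :
    orderOf (n * x * n⁻¹) = orderOf x := by
  have := orderOf_injective (MulAut.conj n).toMonoidHom (MulAut.conj n).injective x
  simpa using this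

theorem A2_aux_pel_one {G : Type*} [Group G] {p : ℕ} (hp : p.Prime) (hp2 : p ≠ 2) {x : G}
    (hx : IsPEl p x) (j : ℕ) (h : x ^ (2 ^ j) = 1) : x = 1 := by
  obtain ⟨k, hk⟩ := hx
  have hd : orderOf x ∣ 2 ^ j := orderOf_dvd_of_pow_eq_one h
  rw [hk] at hd
  have hc : Nat.Coprime (p ^ k) (2 ^ j) :=
    Nat.Coprime.pow _ _ ((Nat.coprime_primes hp Nat.prime_two).mpr hp2)
  have h1 : p ^ k = 1 := Nat.Coprime.eq_one_of_dvd hc hd
  rw [h1] at hk
  exact orderOf_eq_one_iff.mp hk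

theorem A2_aux_pel_of_mem {G : Type*} [Group G] {p : ℕ} (hp : p.Prime) {P : Subgroup G}
    (hP : IsPGroup p P) {x : G} (hx : x ∈ P) : IsPEl p x := by
  obtain ⟨k, hk⟩ := hP ⟨x, hx⟩
  have hk' : x ^ (p ^ k) = 1 := by
    have := congrArg Subtype.val hk
    simpa using this
  have hd : orderOf x ∣ p ^ k := orderOf_dvd_of_pow_eq_one hk'
  obtain ⟨j, -, hj⟩ := (Nat.dvd_prime_pow hp).mp hd
  exact ⟨j, hj⟩

/-- an involution normalizing `Q` lies in `Q`. -/
theorem A2_aux_mem_Q {G : Type*} [Group G] [Finite G] {p a : ℕ} {Q : Subgroup G} {z : G}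
    (h : Cfg G p a Q z) {w : G} (hw : orderOf w = 2)
    (hwN : w ∈ Subgroup.normalizer (Q : Set G)) : w ∈ Q := by
  haveI : Fact (Nat.Prime 2) := ⟨Nat.prime_two⟩
  have hQ2 : IsPGroup 2 Q := IsPGroup.of_card h.hQ
  have hw2 : IsPGroup 2 (Subgroup.zpowers w) := by
    apply IsPGroup.of_card (n := 1)
    rw [Nat.card_zpowers, hw, pow_one]
  have hle : Subgroup.zpowers w ≤ Subgroup.normalizer (Q : Set G) := by
    rw [Subgroup.zpowers_le]; exact hwN
  have hsup : IsPGroup 2 (Subgroup.zpowers w ⊔ Q : Subgroup G) :=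
    IsPGroup.to_sup_of_normal_right' hw2 hQ2 hle
  obtain ⟨k, hk⟩ := IsPGroup.iff_card.mp hsup
  have hdvd : 2 ^ k ∣ Nat.card G := by
    rw [← hk]; exact Subgroup.card_subgroup_dvd_card _
  have hka : k ≤ a := by
    rw [← h.hG2]
    exact (Nat.Prime.pow_dvd_iff_le_factorization Nat.prime_two (Nat.card_pos.ne')).mp hdvd
  have hcard : Nat.card (Subgroup.zpowers w ⊔ Q : Subgroup G) ≤ Nat.card Q := by
    rw [hk, h.hQ]
    exact Nat.pow_le_pow_right (by norm_num) hka
  have heq : Q = Subgroup.zpowers w ⊔ Q := Subgroup.eq_of_le_of_card_ge le_sup_right hcard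
  rw [heq]
  exact le_sup_left (a := Subgroup.zpowers w) (Subgroup.mem_zpowers w)

theorem A2 {G : Type*} [Group G] [Finite G] {p a : ℕ} {Q : Subgroup G} {z : G}
    (h : Cfg G p a Q z) (f : Facts G p a Q z) (hA : CaseA p Q)
    (hti : ∀ t ∈ Q, t ≠ 1 → ∀ w : G, orderOf w = 2 → w * t = t * w → w ∈ Q)
    (hmax : ∀ c : G, c ≠ 1 → IsPEl p c → (∀ v ∈ Q, c * v = v * c) →
      Subgroup.normalizer ((Subgroup.zpowers c : Subgroup G) : Set G)
        ≤ Subgroup.normalizer (Q : Set G))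
    (hpg : ∀ t u : G, orderOf t = 2 → orderOf u = 2 → t * u ≠ u * t →
      IsPEl p (t * u) ∧ IsPGroup p (Subgroup.centralizer ({t * u} : Set G)) ∧
      Nat.card (Subgroup.centralizer ({t * u} : Set G)) = p ^ (Nat.card G).factorization p)
    (hnc : ∃ t u : G, orderOf t = 2 ∧ orderOf u = 2 ∧ t * u ≠ u * t) : NoCQ p Q := by
  classical
  haveI : Fact p.Prime := ⟨h.hp⟩
  haveI : Fact (Nat.Prime 2) := ⟨Nat.prime_two⟩
  intro c hcp hcQ
  by_contra hc1
  -- non-commuting involutions, the first one in `Q`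
  obtain ⟨t0, u0, ht0, hu0, hne0⟩ := hnc
  have ht0p : IsPGroup 2 (Subgroup.zpowers t0) := by
    apply IsPGroup.of_card (n := 1)
    rw [Nat.card_zpowers, ht0, pow_one]
  obtain ⟨g0, hg0⟩ := f.sylQ _ ht0p
  set t := g0 * t0 * g0⁻¹ with ht
  set u := g0 * u0 * g0⁻¹ with hu
  have htQ : t ∈ Q := hg0 t0 (Subgroup.mem_zpowers t0)
  have hto : orderOf t = 2 := by rw [ht, A2_aux_orderOf_conj]; exact ht0
  have huo : orderOf u = 2 := by rw [hu, A2_aux_orderOf_conj]; exact hu0
  have hne : t * u ≠ u * t := by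
    intro hcomm
    apply hne0
    have e1 : t * u = g0 * (t0 * u0) * g0⁻¹ := by rw [ht, hu]; group
    have e2 : u * t = g0 * (u0 * t0) * g0⁻¹ := by rw [ht, hu]; group
    rw [e1, e2] at hcomm
    exact mul_left_cancel (mul_right_cancel hcomm)
  have ht1 : t ≠ 1 := by
    intro h1; rw [h1, orderOf_one] at hto; omega
  have htt : t * t = 1 := by rw [← pow_two, ← hto]; exact pow_orderOf_eq_one t
  have huu : u * u = 1 := by rw [← pow_two, ← huo]; exact pow_orderOf_eq_one u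
  have htinv : t⁻¹ = t := inv_eq_of_mul_eq_one_right htt
  have huinv : u⁻¹ = u := inv_eq_of_mul_eq_one_right huu
  obtain ⟨hgp, hPp, hPcard⟩ := hpg t u hto huo hne
  set g := t * u with hg
  -- `t` inverts `g`
  have htg : t * g * t⁻¹ = g⁻¹ := by
    rw [hg, htinv, mul_inv_rev, htinv, huinv]
    calc t * (t * u) * t = (t * t) * u * t := by group
      _ = u * t := by rw [htt, one_mul]
  have hg1 : g ≠ 1 := by
    intro h1
    apply hne
    have : u = t := by
      have h2 : t * u = t * t := by rw [htt]; exact h1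
      exact mul_left_cancel h2
    rw [this, htt]
    exact h1
  -- `P = C_G(g)`
  have hmemP : ∀ x : G, x ∈ Subgroup.centralizer ({g} : Set G) ↔ g * x = x * g := by
    intro x
    rw [Subgroup.mem_centralizer_iff]
    constructor
    · intro hx; exact hx g rfl
    · intro hx y hy; rw [Set.mem_singleton_iff.mp hy]; exact hx
  have hPab := h.hab _ hPp
  -- `t` normalizes `P`
  have htP : ∀ x ∈ Subgroup.centralizer ({g} : Set G), t * x * t⁻¹ ∈ Subgroup.centralizer ({g} : Set G) := by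
    intro x hx
    rw [hmemP] at hx ⊢
    have h1 : g⁻¹ * (t * x * t⁻¹) = (t * x * t⁻¹) * g⁻¹ := by
      rw [← htg]
      calc t * g * t⁻¹ * (t * x * t⁻¹) = t * (g * x) * t⁻¹ := by group
        _ = t * (x * g) * t⁻¹ := by rw [hx]
        _ = t * x * t⁻¹ * (t * g * t⁻¹) := by group
    calc g * (t * x * t⁻¹) = g * ((t * x * t⁻¹) * g⁻¹) * g := by group
      _ = g * (g⁻¹ * (t * x * t⁻¹)) * g := by rw [h1]
      _ = t * x * t⁻¹ * g := by group
  -- `C_P(t) = 1`
  have hCPt : ∀ c' ∈ Subgroup.centralizer ({g} : Set G), c' * t = t * c' → c' = 1 := by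
    intro c' hc'P hc't
    by_contra hc'1
    have hc'p : IsPEl p c' := A2_aux_pel_of_mem h.hp hPp hc'P
    have hc'U : c' ∈ U p t := Subgroup.subset_closure ⟨hc't, hc'p⟩
    have hc'Q : ∀ v ∈ Q, c' * v = v * c' := fun v hv => hA t htQ ht1 c' hc'U v hv
    have hN := hmax c' hc'1 hc'p hc'Q
    have hgc' : g * c' = c' * g := (hmemP c').mp hc'P
    have hgN : g ∈ Subgroup.normalizer ((Subgroup.zpowers c' : Subgroup G) : Set G) := by
      apply Subgroup.centralizer_le_normalizer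
      rw [Subgroup.mem_centralizer_iff]
      intro y hy
      obtain ⟨k, rfl⟩ := Subgroup.mem_zpowers_iff.mp hy
      exact ((Commute.zpow_right (show Commute g c' from hgc') k).eq).symm
    have hgM := hN hgN
    have h1 : g * t * g⁻¹ ∈ Q := (Subgroup.mem_normalizer_iff.mp hgM t).mp htQ
    have h2 : g * t * g⁻¹ * t⁻¹ = g * g := by
      have : t * g⁻¹ * t⁻¹ = g := by
        have e : t * g⁻¹ * t⁻¹ = (t * g * t⁻¹)⁻¹ := by group
        rw [e, htg, inv_inv]
      calc g * t * g⁻¹ * t⁻¹ = g * (t * g⁻¹ * t⁻¹) := by group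
        _ = g * g := by rw [this]
    have h3 : g * g ∈ Q := by
      rw [← h2]
      exact Q.mul_mem h1 (Q.inv_mem htQ)
    have h4 := f.elem _ h3
    have h5 : g ^ (2 ^ 2) = 1 := by
      have : g ^ (2 ^ 2) = g * g * (g * g) := by norm_num [pow_succ]; group
      rw [this]; exact h4
    exact hg1 (A2_aux_pel_one h.hp h.hp2 hgp 2 h5)
  -- `t` inverts `P`
  have hinv : ∀ x ∈ Subgroup.centralizer ({g} : Set G), t * x * t⁻¹ = x⁻¹ := by
    intro x hx
    have hx' := htP x hx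
    have hy : x * (t * x * t⁻¹) ∈ Subgroup.centralizer ({g} : Set G) := Subgroup.mul_mem _ hx hx'
    have hfix : (x * (t * x * t⁻¹)) * t = t * (x * (t * x * t⁻¹)) := by
      have hcomm := hPab x hx _ hx'
      calc x * (t * x * t⁻¹) * t = (t * x * t⁻¹) * x * t := by rw [hcomm]
        _ = t * (x * (t⁻¹ * x * t)) := by group
        _ = t * (x * (t * x * t⁻¹)) := by rw [htinv]
    have := hCPt _ hy hfix
    exact (eq_inv_of_mul_eq_one_right this)
  -- a conjugate of `c` in `P`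
  let Psyl : Sylow p G := Sylow.ofCard (Subgroup.centralizer ({g} : Set G)) hPcard
  have hcz : IsPGroup p (Subgroup.zpowers c) := by
    obtain ⟨k, hk⟩ := hcp
    apply IsPGroup.of_card (n := k)
    rw [Nat.card_zpowers, hk]
  obtain ⟨n, hn⟩ := Cfsg.Agent.Helper25.exists_conj_le_sylow p Psyl hcz
  have hc''P : n * c * n⁻¹ ∈ Subgroup.centralizer ({g} : Set G) := by
    have : (MulAut.conj n).toMonoidHom c ∈ (Psyl : Subgroup G) :=
      hn ⟨c, Subgroup.mem_zpowers c, rfl⟩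
    have h' : n * c * n⁻¹ ∈ (Psyl : Subgroup G) := by simpa using this
    exact h'
  have hinv'' := hinv _ hc''P
  -- `n⁻¹ t n` normalizes `⟨c⟩`
  set t' := n⁻¹ * t * n with ht'
  have ht'c : t' * c * t'⁻¹ = c⁻¹ := by
    have : t' * c * t'⁻¹ = n⁻¹ * (t * (n * c * n⁻¹) * t⁻¹) * n := by rw [ht']; group
    rw [this, hinv'']
    group
  have ht'N : t' ∈ Subgroup.normalizer ((Subgroup.zpowers c : Subgroup G) : Set G) := by
    have key : ∀ s : G, s * c * s⁻¹ = c⁻¹ → ∀ y ∈ Subgroup.zpowers c, s * y * s⁻¹ ∈ Subgroup.zpowers c := by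
      intro s hs y hy
      obtain ⟨k, rfl⟩ := Subgroup.mem_zpowers_iff.mp hy
      have : s * c ^ k * s⁻¹ = (s * c * s⁻¹) ^ k := by
        have := (MulAut.conj s).toMonoidHom.map_zpow c k
        simpa using this
      rw [this, hs]
      exact Subgroup.zpow_mem _ (Subgroup.inv_mem _ (Subgroup.mem_zpowers c)) k
    have ht'c' : t'⁻¹ * c * t'⁻¹⁻¹ = c⁻¹ := by
      have e1 : t' * c⁻¹ * t'⁻¹ = c := by
        have : t' * c⁻¹ * t'⁻¹ = (t' * c * t'⁻¹)⁻¹ := by group
        rw [this, ht'c, inv_inv]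
      calc t'⁻¹ * c * t'⁻¹⁻¹ = t'⁻¹ * (t' * c⁻¹ * t'⁻¹) * t' := by rw [e1]; group
        _ = c⁻¹ := by group
    rw [Subgroup.mem_normalizer_iff]
    intro y
    constructor
    · exact key t' ht'c y
    · intro hy
      have := key t'⁻¹ ht'c' _ hy
      have e : t'⁻¹ * (t' * y * t'⁻¹) * t'⁻¹⁻¹ = y := by group
      rwa [e] at this
  have ht'M := hmax c hc1 hcp hcQ ht'N
  have ht'o : orderOf t' = 2 := by
    have : t' = n⁻¹ * t * n⁻¹⁻¹ := by rw [ht']; group
    rw [this, A2_aux_orderOf_conj]; exact hto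
  have ht'Q : t' ∈ Q := A2_aux_mem_Q h ht'o ht'M
  have hct' : c * t' = t' * c := hcQ t' ht'Q
  -- so `c = c⁻¹`
  have hcc : c = c⁻¹ := by
    calc c = t' * c * t'⁻¹ := by rw [← hct']; group
      _ = c⁻¹ := ht'c
  have hc2 : c ^ (2 ^ 1) = 1 := by
    rw [pow_one, pow_two]
    calc c * c = c * c⁻¹ := by rw [← hcc]
      _ = 1 := mul_inv_cancel c
  exact hc1 (A2_aux_pel_one h.hp h.hp2 hcp 1 hc2)

end Cfsg.Agent.S4017P
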