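import Mathlib

set_option autoImplicit false

namespace Cfsg.Agent.Helper28.UB

open Matrix

variable {F : Type*} [Field F] (σ : F →+* F)

/-- unitary with respect to the standard `σ`-Hermitian form -/
def IsU {ι : Type*} [Fintype ι] [DecidableEq ι] (G : Matrix ι ι F) : Prop := Gᵀ * G.map σ = 1

variable {ι κ : Type*} [Fintype ι] [DecidableEq ι] [Fintype κ] [DecidableEq κ]

theorem map_map_self (hσ2 : ∀ a, σ (σ a) = a) {α β : Type*} (M : Matrix α β F) :
    (M.map σ).map σ = M := by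
  ext i j
  simp [hσ2]

theorem isU_conj (hσ2 : ∀ a, σ (σ a) = a) (M : Matrix ι κ F) (Ms : Matrix κ ι F)
    (hMs : Ms = (M.map σ)ᵀ) (h1 : Ms * M = 1) (h2 : M * Ms = 1) (G : Matrix ι ι F)
    (hG : IsU σ G) : IsU σ (Ms * G * M) := by
  unfold IsU at *
  have e1 : Msᵀ = M.map σ := by rw [hMs, transpose_transpose]
  have e2 : Ms.map σ = Mᵀ := by
    rw [hMs, ← transpose_map, map_map_self σ hσ2]
  have e3 : M.map σ * Mᵀ = 1 := by
    rw [← e2, ← Matrix.map_mul, h2, Matrix.map_one σ (map_zero σ) (map_one σ)]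
  have e4 : Mᵀ * M.map σ = 1 := by
    rw [← e2, ← Matrix.map_mul, h1, Matrix.map_one σ (map_zero σ) (map_one σ)]
  rw [transpose_mul, transpose_mul, Matrix.map_mul, Matrix.map_mul, e1, e2]
  calc Mᵀ * (Gᵀ * M.map σ) * (Mᵀ * G.map σ * M.map σ)
      = Mᵀ * (Gᵀ * (M.map σ * Mᵀ) * G.map σ) * M.map σ := by simp only [Matrix.mul_assoc]
    _ = 1 := by rw [e3, Matrix.mul_one, hG, Matrix.mul_one, e4]

theorem isU_conj' (hσ2 : ∀ a, σ (σ a) = a) (M : Matrix ι κ F) (Ms : Matrix κ ι F)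
    (hMs : Ms = (M.map σ)ᵀ) (h1 : Ms * M = 1) (h2 : M * Ms = 1) (G : Matrix κ κ F)
    (hG : IsU σ G) : IsU σ (M * G * Ms) := by
  unfold IsU at *
  have e1 : Msᵀ = M.map σ := by rw [hMs, transpose_transpose]
  have e2 : Ms.map σ = Mᵀ := by
    rw [hMs, ← transpose_map, map_map_self σ hσ2]
  have e3 : M.map σ * Mᵀ = 1 := by
    rw [← e2, ← Matrix.map_mul, h2, Matrix.map_one σ (map_zero σ) (map_one σ)]
  have e4 : Mᵀ * M.map σ = 1 := by
    rw [← e2, ← Matrix.map_mul, h1, Matrix.map_one σ (map_zero σ) (map_one σ)]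
  rw [transpose_mul, transpose_mul, Matrix.map_mul, Matrix.map_mul, e1, e2]
  calc M.map σ * (Gᵀ * Mᵀ) * (M.map σ * G.map σ * Mᵀ)
      = M.map σ * (Gᵀ * (Mᵀ * M.map σ) * G.map σ) * Mᵀ := by simp only [Matrix.mul_assoc]
    _ = 1 := by rw [e4, Matrix.mul_one, hG, Matrix.mul_one, e3]

theorem isU_blocks (A : Matrix ι ι F) (D : Matrix κ κ F) (hA : IsU σ A) (hD : IsU σ D) :
    IsU σ (fromBlocks A 0 0 D) := by
  unfold IsU at *
  rw [fromBlocks_transpose, fromBlocks_map, fromBlocks_multiply]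
  simp only [transpose_zero, Matrix.map_zero σ (map_zero σ), Matrix.mul_zero, Matrix.zero_mul,
    add_zero, zero_add, hA, hD, fromBlocks_one]

theorem isU_upper (hσ2 : ∀ a, σ (σ a) = a) (A : Matrix ι ι F) (B : Matrix ι κ F)
    (D : Matrix κ κ F) (h : IsU σ (fromBlocks A B 0 D)) : B = 0 ∧ IsU σ A ∧ IsU σ D := by
  unfold IsU at *
  rw [fromBlocks_transpose, fromBlocks_map, fromBlocks_multiply, ← fromBlocks_one,
    fromBlocks_inj] at h
  simp only [transpose_zero, Matrix.map_zero σ (map_zero σ), Matrix.mul_zero, Matrix.zero_mul,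
    add_zero, zero_add] at h
  obtain ⟨h11, h12, _, h22⟩ := h
  have h11' : A.map σ * Aᵀ = 1 := mul_eq_one_comm.mp h11
  have hB : B.map σ = 0 := by
    calc B.map σ = (A.map σ * Aᵀ) * B.map σ := by rw [h11', Matrix.one_mul]
      _ = A.map σ * (Aᵀ * B.map σ) := by rw [Matrix.mul_assoc]
      _ = 0 := by rw [h12, Matrix.mul_zero]
  have hB0 : B = 0 := by
    rw [← map_map_self σ hσ2 B, hB, Matrix.map_zero σ (map_zero σ)]
  refine ⟨hB0, h11, ?_⟩
  rw [hB0, transpose_zero, Matrix.zero_mul, zero_add] at h22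
  exact h22

end Cfsg.Agent.Helper28.UB
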