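import Mathlib
import Cfsg.Prelude.Def_GeometricClasses
import Cfsg.Agent.Helper2.SU.Main

set_option autoImplicit false

/-! Unitary transvection machinery: the set `SS M` of isotropic vectors all of whose transvections
lie in a subgroup `M` of `GL`. -/

namespace Cfsg.Agent.Helper28.UPair

open Matrix Module Cfsg.Agent.S2644 Cfsg.Agent.Helper2.SUGen

variable {K : Type*} [Field K] {q n : ℕ}

local notation "h" => Cfsg.hermForm n K q
local notation "T" => Cfsg.unitaryTransvection n q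

/-- the matrix `A` is (the matrix of) an element of `M` -/
def InM (M : Subgroup (Matrix.GeneralLinearGroup (Fin n) K)) (A : Matrix (Fin n) (Fin n) K) : Prop :=
  ∃ g ∈ M, ((g : Matrix.GeneralLinearGroup (Fin n) K) : Matrix (Fin n) (Fin n) K) = A

theorem InM.mul {M : Subgroup (Matrix.GeneralLinearGroup (Fin n) K)} {A B : Matrix (Fin n) (Fin n) K}
    (hA : InM M A) (hB : InM M B) : InM M (A * B) := by
  obtain ⟨a, ha, rfl⟩ := hA
  obtain ⟨b, hb, rfl⟩ := hB
  exact ⟨a * b, M.mul_mem ha hb, rfl⟩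

theorem InM.one (M : Subgroup (Matrix.GeneralLinearGroup (Fin n) K)) : InM M 1 :=
  ⟨1, M.one_mem, rfl⟩

theorem InM.inv {M : Subgroup (Matrix.GeneralLinearGroup (Fin n) K)} {A A' : Matrix (Fin n) (Fin n) K}
    (hA : InM M A) (h1 : A * A' = 1) : InM M A' := by
  obtain ⟨a, ha, rfl⟩ := hA
  refine ⟨a⁻¹, M.inv_mem ha, ?_⟩
  have h2 : ((a⁻¹ : Matrix.GeneralLinearGroup (Fin n) K) : Matrix (Fin n) (Fin n) K) *
      (a : Matrix (Fin n) (Fin n) K) = 1 := by
    rw [← Units.val_mul, inv_mul_cancel]; rfl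
  calc ((a⁻¹ : Matrix.GeneralLinearGroup (Fin n) K) : Matrix (Fin n) (Fin n) K)
      = ((a⁻¹ : Matrix.GeneralLinearGroup (Fin n) K) : Matrix (Fin n) (Fin n) K) *
        ((a : Matrix (Fin n) (Fin n) K) * A') := by rw [h1, mul_one]
    _ = A' := by rw [← mul_assoc, h2, one_mul]

variable (D : Frob K q)

/-- isotropic vectors all of whose transvections lie in `M` -/
def SS (M : Subgroup (Matrix.GeneralLinearGroup (Fin n) K)) : Set (Fin n → K) :=
  {x | h x x = 0 ∧ ∀ c : K, D.σ c = -c → InM M (T x c)}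

theorem T_smul (l : K) (x : Fin n → K) (c : K) : T (l • x) c = T x (l * D.σ l * c) := by
  apply mat_ext
  intro z
  rw [T_mulVec, T_mulVec, h_smul_right D]
  module

theorem SS_smul (M : Subgroup (Matrix.GeneralLinearGroup (Fin n) K)) {x : Fin n → K}
    (hx : x ∈ SS D M) (l : K) : l • x ∈ SS D M := by
  refine ⟨by rw [h_smul_left, h_smul_right D, hx.1, mul_zero, mul_zero], fun c hc => ?_⟩
  rw [T_smul D]
  apply hx.2
  rw [map_mul, map_mul, D.invol, hc]
  ring

include D in
theorem T_conj {A : Matrix (Fin n) (Fin n) K} (hA : Pres (q := q) A) (x : Fin n → K) (c : K) :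
    A * T x c = T (A *ᵥ x) c * A := by
  have := Sg_conj D A hA x 0 c
  rw [Matrix.mulVec_zero, Sg_zero D, Sg_zero D] at this
  exact this

theorem SS_map (M : Subgroup (Matrix.GeneralLinearGroup (Fin n) K)) {x : Fin n → K}
    (hx : x ∈ SS D M) {A : Matrix (Fin n) (Fin n) K} (hA : InM M A) (hP : Pres (q := q) A) :
    A *ᵥ x ∈ SS D M := by
  refine ⟨by rw [hP]; exact hx.1, fun c hc => ?_⟩
  obtain ⟨g, hg, rfl⟩ := hA
  obtain ⟨t, ht, htT⟩ := hx.2 c hc
  refine ⟨g * t * g⁻¹, M.mul_mem (M.mul_mem hg ht) (M.inv_mem hg), ?_⟩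
  rw [Units.val_mul, Units.val_mul, htT, T_conj D hP, mul_assoc, ← Units.val_mul, mul_inv_cancel]
  simp

/-- isotropic points on the line through two non-orthogonal vectors of `SS` -/
theorem SS_line (M : Subgroup (Matrix.GeneralLinearGroup (Fin n) K)) {u v : Fin n → K}
    (hu : u ∈ SS D M) (hv : v ∈ SS D M) (hvu : h v u ≠ 0) (l : K)
    (hiso : h (v + l • u) (v + l • u) = 0) : v + l • u ∈ SS D M := by
  set c := l / h v u with hc
  have huv : h u v = D.σ (h v u) := (h_conj D u v).symm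
  have hsk : D.σ c = -c := by
    rw [h_self_add_smul D, hv.1, hu.1, mul_zero, add_zero, zero_add] at hiso
    rw [hc, map_div₀, ← huv]
    have h1 : h u v ≠ 0 := h_symm_ne D hvu
    field_simp
    linear_combination hiso
  obtain ⟨t, ht, htT⟩ := hu.2 c hsk
  have hP : Pres (q := q) (T u c) := by
    have := Sg_pres D u 0 c hu.1 (h_zero_left u) (by rw [h_zero_left, hsk]; ring)
    rwa [Sg_zero D] at this
  have := SS_map D M hv ⟨t, ht, htT⟩ hP
  rw [T_mulVec, hc, div_mul_cancel₀ _ hvu] at this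
  exact this

theorem SS_add (M : Subgroup (Matrix.GeneralLinearGroup (Fin n) K)) (U : Submodule K (Fin n → K))
    (hU : ∀ u ∈ U, u ∈ SS D M) (hUU : ∀ a ∈ U, ∀ b ∈ U, h a b = 0)
    (hUnd : ∀ y, y ∉ U → ∃ u' ∈ U, h y u' ≠ 0)
    {y : Fin n → K} (hy : y ∈ SS D M) (hyU : y ∉ U) (u : Fin n → K) (hu : u ∈ U)
    (hiso : h (y + u) (y + u) = 0) : y + u ∈ SS D M := by
  by_cases hyu : h y u ≠ 0
  · have := SS_line D M (hU u hu) hy hyu 1 (by rw [one_smul]; exact hiso)
    rwa [one_smul] at this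
  · push Not at hyu
    obtain ⟨u', hu', hyu'⟩ := hUnd y hyU
    obtain ⟨s, hs0, hs⟩ := exists_skew D
    have hu'y : h u' y ≠ 0 := h_symm_ne D hyu'
    set u'' := (s / h u' y) • u' with hu''
    have hu''U : u'' ∈ U := U.smul_mem _ hu'
    have e1 : h u'' y = s := by rw [hu'', h_smul_left, div_mul_cancel₀ _ hu'y]
    have e2 : h y u'' = -s := by rw [← h_conj D, e1, hs]
    have hv : y + u'' ∈ SS D M := by
      have := SS_line D M (hU u'' hu''U) hy (by rw [e2]; exact neg_ne_zero.mpr hs0) 1 (by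
        rw [one_smul, h_add_left, h_add_right D, h_add_right D, hy.1, e1, e2,
          hUU u'' hu''U u'' hu''U]
        ring)
      rwa [one_smul] at this
    have hw : u - u'' ∈ SS D M := hU _ (U.sub_mem hu hu''U)
    have hvw : h (y + u'') (u - u'') ≠ 0 := by
      rw [h_add_left, h_sub_right D, h_sub_right D, hyu, e2, hUU u'' hu''U u hu,
        hUU u'' hu''U u'' hu''U]
      simpa using hs0
    have e3 : y + u'' + (1 : K) • (u - u'') = y + u := by rw [one_smul]; abel
    have := SS_line D M hw hv hvw 1 (by rw [e3]; exact hiso)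
    rwa [e3] at this

end Cfsg.Agent.Helper28.UPair
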