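import Mathlib
import Cfsg.Prelude.Def_GeometricClasses
import Cfsg.Agent.Helper2.SU.Main
import Cfsg.Agent.Helper28.SpMax

set_option autoImplicit false

/-! Maximality of the stabiliser of a totally isotropic subspace in `SU_n(q)`. -/

namespace Cfsg.Agent.Helper28.UM

open Matrix Module Cfsg.Agent.S2644 Cfsg.Agent.Helper2.SUGen

variable {K : Type*} [Field K] {q n : ℕ}

local notation "h" => Cfsg.hermForm n K q

variable (D : Frob K q)

/-- a Siegel element as an element of `GL` -/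
noncomputable def SgG (x w : Fin n → K) (c : K) (hxx : h x x = 0) (hwx : h w x = 0)
    (hc : c + D.σ c + h w w = 0) : Matrix.GeneralLinearGroup (Fin n) K :=
  ⟨Sg (q := q) x w c, Sg (q := q) x (-w) (D.σ c), (Sg_inv D x w c hxx hwx hc).1,
    (Sg_inv D x w c hxx hwx hc).2⟩

theorem SgG_val (x w : Fin n → K) (c : K) (hxx : h x x = 0) (hwx : h w x = 0)
    (hc : c + D.σ c + h w w = 0) :
    ((SgG D x w c hxx hwx hc : Matrix.GeneralLinearGroup (Fin n) K) : Matrix (Fin n) (Fin n) K) =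
      Sg (q := q) x w c := rfl

/-- isotropic vectors all of whose Siegel elements lie in `M` -/
def S1 (M : Subgroup (Matrix.GeneralLinearGroup (Fin n) K)) : Set (Fin n → K) :=
  {x | ∃ hxx : h x x = 0, ∀ (w : Fin n → K) (c : K) (hwx : h w x = 0)
    (hc : c + D.σ c + h w w = 0), SgG D x w c hxx hwx hc ∈ M}

theorem Sg_smul_gen (l : K) (x w : Fin n → K) (c : K) :
    Sg (q := q) (l • x) w c = Sg (q := q) x (D.σ l • w) (l * D.σ l * c) := by
  apply mat_ext
  intro z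
  rw [Sg_mulVec, Sg_mulVec, h_smul_right D, h_smul_right D, D.invol]
  module

theorem S1_smul (M : Subgroup (Matrix.GeneralLinearGroup (Fin n) K)) {x : Fin n → K}
    (hx : x ∈ S1 D M) (l : K) : l • x ∈ S1 D M := by
  obtain ⟨hxx, hx⟩ := hx
  have hxx' : h (l • x) (l • x) = 0 := by
    rw [h_smul_left, h_smul_right D, hxx, mul_zero, mul_zero]
  refine ⟨hxx', fun w c hwx hc => ?_⟩
  have hwx' : h (D.σ l • w) x = 0 := by
    rw [h_smul_left, ← h_smul_right D]; exact hwx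
  have hc' : l * D.σ l * c + D.σ (l * D.σ l * c) + h (D.σ l • w) (D.σ l • w) = 0 := by
    rw [h_smul_left, h_smul_right D, map_mul, map_mul, D.invol]
    linear_combination (l * D.σ l) * hc
  have : SgG D (l • x) w c hxx' hwx hc = SgG D x (D.σ l • w) (l * D.σ l * c) hxx hwx' hc' := by
    apply Units.ext
    exact Sg_smul_gen D l x w c
  rw [this]
  exact hx _ _ _ _

theorem S1_map (M : Subgroup (Matrix.GeneralLinearGroup (Fin n) K)) {x : Fin n → K}
    (hx : x ∈ S1 D M) {g : Matrix.GeneralLinearGroup (Fin n) K} (hg : g ∈ M)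
    (hgP : Pres (q := q) (g : Matrix (Fin n) (Fin n) K)) :
    (g : Matrix (Fin n) (Fin n) K) *ᵥ x ∈ S1 D M := by
  obtain ⟨hxx, hx⟩ := hx
  have hxx' : h ((g : Matrix (Fin n) (Fin n) K) *ᵥ x) ((g : Matrix (Fin n) (Fin n) K) *ᵥ x) = 0 := by
    rw [hgP]; exact hxx
  refine ⟨hxx', fun w' c hwx hc => ?_⟩
  set w := ((g⁻¹ : Matrix.GeneralLinearGroup (Fin n) K) : Matrix (Fin n) (Fin n) K) *ᵥ w' with hw
  have hgw : (g : Matrix (Fin n) (Fin n) K) *ᵥ w = w' := by
    rw [hw, Matrix.mulVec_mulVec, ← Units.val_mul, mul_inv_cancel]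
    exact Matrix.one_mulVec w'
  have hwx0 : h w x = 0 := by rw [← hgP, hgw]; exact hwx
  have hc0 : c + D.σ c + h w w = 0 := by rw [← hgP w w, hgw]; exact hc
  have key : SgG D ((g : Matrix (Fin n) (Fin n) K) *ᵥ x) w' c hxx' hwx hc =
      g * SgG D x w c hxx hwx0 hc0 * g⁻¹ := by
    rw [eq_mul_inv_iff_mul_eq]
    apply Units.ext
    rw [Units.val_mul, Units.val_mul, SgG_val, SgG_val, Sg_conj D (g : Matrix (Fin n) (Fin n) K) hgP,
      hgw]
  rw [key]
  exact M.mul_mem (M.mul_mem hg (hx _ _ _ _)) (M.inv_mem hg)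

theorem S1_pair (M : Subgroup (Matrix.GeneralLinearGroup (Fin n) K)) {u₁ u₂ : Fin n → K}
    (h1 : u₁ ∈ S1 D M) (h2 : u₂ ∈ S1 D M) (h21 : h u₂ u₁ ≠ 0) {y : Fin n → K} (hyy : h y y = 0)
    (hy1 : h y u₁ ≠ 0) : y ∈ S1 D M := by
  set y' := (h u₂ u₁ / h y u₁) • y with hy'
  have hyy' : h y' y' = 0 := by
    rw [hy', h_smul_left, h_smul_right D, hyy, mul_zero, mul_zero]
  have hy'1 : h y' u₁ = h u₂ u₁ := by
    rw [hy', h_smul_left, div_mul_cancel₀ _ hy1]
  obtain ⟨w, c, -, hwx, hc, hmap⟩ := Sg_map D u₁ u₂ y' h1.1 h2.1 hyy' h21 hy'1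
  have hy'S : y' ∈ S1 D M := by
    rw [← hmap, ← SgG_val D u₁ w c h1.1 hwx hc]
    exact S1_map D M h2 (h1.2 w c hwx hc) (Sg_pres D u₁ w c h1.1 hwx hc)
  have := S1_smul D M hy'S (h y u₁ / h u₂ u₁)
  have e : h y u₁ / h u₂ u₁ * (h u₂ u₁ / h y u₁) = 1 := by
    field_simp
  rw [hy', smul_smul, e, one_smul] at this
  exact this

theorem S1_all (M : Subgroup (Matrix.GeneralLinearGroup (Fin n) K)) {u₁ u₂ : Fin n → K}
    (h1 : u₁ ∈ S1 D M) (h2 : u₂ ∈ S1 D M) (h21 : h u₂ u₁ ≠ 0) {y : Fin n → K} (hyy : h y y = 0) :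
    y ∈ S1 D M := by
  by_cases hy0 : y = 0
  · have := S1_smul D M h1 0
    rw [zero_smul] at this
    rw [hy0]; exact this
  by_cases hy1 : h y u₁ ≠ 0
  · exact S1_pair D M h1 h2 h21 hyy hy1
  · have hu0 : u₁ ≠ 0 := by
      rintro rfl
      exact h21 (h_zero_right D u₂)
    obtain ⟨z, -, hzz, hzy, hzu⟩ := exists_iso_both D (nonDeg_top D)
      (Submodule.mem_top : y ∈ (⊤ : Submodule K (Fin n → K)))
      (Submodule.mem_top : u₁ ∈ (⊤ : Submodule K (Fin n → K))) hyy h1.1 hy0 hu0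
    have hzS : z ∈ S1 D M := S1_pair D M h1 h2 h21 hzz hzu
    exact S1_pair D M hzS h1 (h_symm_ne D hzu) hyy (h_symm_ne D hzy)

include D in
/-- **abstract maximality** for the stabiliser of a totally isotropic subspace in `SU_n(q)` -/
theorem um_max [Finite K] (W : Submodule K (Fin n → K)) (hW : ∀ u ∈ W, ∀ v ∈ W, h u v = 0)
    (M : Subgroup (Matrix.GeneralLinearGroup (Fin n) K))
    (hMG : ∀ g ∈ M, Pres (q := q) (g : Matrix (Fin n) (Fin n) K))
    (hP : ∀ g : Matrix.GeneralLinearGroup (Fin n) K, Pres (q := q) (g : Matrix (Fin n) (Fin n) K) →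
      (g : Matrix (Fin n) (Fin n) K).det = 1 →
      (∀ w ∈ W, (g : Matrix (Fin n) (Fin n) K) *ᵥ w ∈ W) → g ∈ M)
    (g₀ : Matrix.GeneralLinearGroup (Fin n) K) (hg₀ : g₀ ∈ M) (w : Fin n → K) (hw : w ∈ W)
    (hgw : (g₀ : Matrix (Fin n) (Fin n) K) *ᵥ w ∉ W) :
    ∀ g : Matrix.GeneralLinearGroup (Fin n) K, Pres (q := q) (g : Matrix (Fin n) (Fin n) K) →
      (g : Matrix (Fin n) (Fin n) K).det = 1 → g ∈ M := by
  have hWS : ∀ x ∈ W, x ∈ S1 D M := by
    intro x hx
    refine ⟨hW x hx x hx, fun w' c hwx hc => ?_⟩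
    refine hP _ (Sg_pres D x w' c (hW x hx x hx) hwx hc) (Sg_det D x w' c (hW x hx x hx) hwx) ?_
    intro z hz
    rw [SgG_val, Sg_mulVec, hW z hz x hx]
    simp only [zero_smul, mul_zero, add_zero]
    exact W.sub_mem hz (W.smul_mem _ hx)
  -- it suffices to find a non-orthogonal pair
  have hfin : ∀ u₁ u₂ : Fin n → K, u₁ ∈ S1 D M → u₂ ∈ S1 D M → h u₂ u₁ ≠ 0 →
      ∀ g : Matrix.GeneralLinearGroup (Fin n) K, Pres (q := q) (g : Matrix (Fin n) (Fin n) K) →
      (g : Matrix (Fin n) (Fin n) K).det = 1 → g ∈ M := by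
    intro u₁ u₂ h1 h2 h21 g hgP hgdet
    have hY : NonDeg q (perpL q (⊥ : Submodule K (Fin n → K))) := by
      rw [perpL_bot D]; exact nonDeg_top D
    have hmem := main D _ ⊥ hY rfl (g : Matrix (Fin n) (Fin n) K) hgP hgdet (by
      intro z hz
      rw [(Submodule.mem_bot K).mp hz, mulVec_zero])
    have key : ∀ A ∈ Gen D (perpL q (⊥ : Submodule K (Fin n → K))),
        ∃ g' ∈ M, ((g' : Matrix.GeneralLinearGroup (Fin n) K) : Matrix (Fin n) (Fin n) K) = A := by
      intro A hA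
      induction hA using Submonoid.closure_induction with
      | mem A hA =>
        obtain ⟨x, w', c, -, -, hxx, hwx, hc, rfl⟩ := hA
        exact ⟨_, (S1_all D M h1 h2 h21 hxx).2 w' c hwx hc, rfl⟩
      | one => exact ⟨1, M.one_mem, rfl⟩
      | mul A B _ _ hA hB =>
        obtain ⟨a, ha, rfl⟩ := hA
        obtain ⟨b, hb, rfl⟩ := hB
        exact ⟨a * b, M.mul_mem ha hb, rfl⟩
    obtain ⟨g', hg', hgg'⟩ := key _ hmem
    have : g' = g := Units.ext hgg'
    rw [← this]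
    exact hg'
  set y := (g₀ : Matrix (Fin n) (Fin n) K) *ᵥ w with hy
  have hyS : y ∈ S1 D M := S1_map D M (hWS w hw) hg₀ (hMG g₀ hg₀)
  by_cases hort : ∃ w' ∈ W, h y w' ≠ 0
  · obtain ⟨w', hw', hne⟩ := hort
    exact hfin w' y (hWS w' hw') hyS hne
  · push Not at hort
    have hyp : y ∈ perpL q W := hort
    obtain ⟨u₀, hu₀, hβ⟩ : ∃ u₀ ∈ perpL q W, h y u₀ ≠ 0 := by
      by_contra hcon
      push Not at hcon
      apply hgw
      have : y ∈ perpL q (perpL q W) := hcon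
      rwa [perpL_perpL D] at this
    set β := h y u₀ with hβdef
    obtain ⟨t, ht⟩ := exists_trace D (-(h u₀ u₀)) (by rw [map_neg, h_self_fix D])
    set l := t / β with hl
    set u := u₀ + l • y with hu
    have hlβ : l * β = t := div_mul_cancel₀ _ hβ
    have huu : h u u = 0 := by
      rw [hu, h_self_add_smul D, hyS.1, mul_zero, add_zero]
      have e1 : D.σ l * h u₀ y = D.σ t := by
        rw [← hlβ, map_mul, hβdef, h_conj D]
      rw [e1, ← hβdef, hlβ]
      linear_combination ht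
    have hup : u ∈ perpL q W := (perpL q W).add_mem hu₀ ((perpL q W).smul_mem _ hyp)
    have hyu : h y u = β := by
      rw [hu, h_add_right D, h_smul_right D, hyS.1, mul_zero, add_zero]
    obtain ⟨c, hc0, hcs⟩ := exists_skew D
    have hc : c + D.σ c + h (0 : Fin n → K) 0 = 0 := by
      rw [h_zero_left, hcs]; ring
    have hp : SgG D u 0 c huu (h_zero_left u) hc ∈ M := by
      refine hP _ (Sg_pres D u 0 c huu (h_zero_left u) hc) (Sg_det D u 0 c huu (h_zero_left u)) ?_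
      intro z hz
      have hzu : h z u = 0 := h_symm_zero D (hup z hz)
      rw [SgG_val, Sg_mulVec, hzu, h_zero_right D]
      simp only [zero_smul, mul_zero, add_zero, sub_zero]
      exact hz
    have hy'S := S1_map D M hyS hp (Sg_pres D u 0 c huu (h_zero_left u) hc)
    refine hfin y _ hyS hy'S ?_
    rw [SgG_val, Sg_mulVec, hyu, h_zero_right D]
    simp only [smul_zero, zero_smul, add_zero, sub_zero]
    rw [h_add_left, hyS.1, zero_add, h_smul_left, ← h_conj D u y, hyu]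
    exact mul_ne_zero (mul_ne_zero hc0 hβ) (σ_ne_zero D hβ)

theorem mem_G_iff (g : Matrix.GeneralLinearGroup (Fin n) K) :
    g ∈ Cfsg.GU n K q ⊓ Cfsg.Geo.specialLinear (Fin n) K ↔
      Pres (q := q) (g : Matrix (Fin n) (Fin n) K) ∧ (g : Matrix (Fin n) (Fin n) K).det = 1 := by
  constructor
  · rintro ⟨h1, h2⟩
    refine ⟨fun x y => h1 x y, ?_⟩
    have : Matrix.GeneralLinearGroup.det g = 1 := h2
    rw [Units.ext_iff] at this
    exact this
  · rintro ⟨h1, h2⟩
    refine ⟨fun x y => h1 x y, ?_⟩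
    show Matrix.GeneralLinearGroup.det g = 1
    apply Units.ext
    exact h2

include D in
/-- **Maximality of the stabiliser of a totally isotropic subspace in `SU_n(q)`**, `n ≥ 3`. -/
theorem stab_maximal_aux [Finite K] (hn : 3 ≤ n) (W : Submodule K (Fin n → K)) (hW0 : W ≠ ⊥)
    (hW : Cfsg.Geo.IsTotallySingularFor (Cfsg.hermForm n K q) W) :
    Cfsg.Geo.IsMaximalIn (Cfsg.GU n K q ⊓ Cfsg.Geo.specialLinear (Fin n) K)
      (Cfsg.Geo.subspaceStabilizer W ⊓ (Cfsg.GU n K q ⊓ Cfsg.Geo.specialLinear (Fin n) K)) := by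
  classical
  refine ⟨lt_of_le_of_ne inf_le_right ?_, ?_⟩
  · intro heq
    obtain ⟨w, hw, hw0⟩ := (Submodule.ne_bot_iff W).mp hW0
    have hww : h w w = 0 := hW w hw w hw
    obtain ⟨v, -, hvv, hwv, hvw⟩ := exists_partner D (nonDeg_top D)
      (Submodule.mem_top : w ∈ (⊤ : Submodule K (Fin n → K))) hw0 hww
    have hvW : v ∉ W := by
      intro hv
      have := hW w hw v hv
      rw [hwv] at this
      exact one_ne_zero this
    have hv0 : v ≠ 0 := by
      rintro rfl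
      exact hvW W.zero_mem
    have hd : 3 ≤ finrank K (⊤ : Submodule K (Fin n → K)) := by
      rw [finrank_top, Module.finrank_fin_fun]; exact hn
    obtain ⟨t, ht, htw⟩ := trans_iso D (nonDeg_top D) hd
      (Submodule.mem_top : w ∈ (⊤ : Submodule K (Fin n → K)))
      (Submodule.mem_top : v ∈ (⊤ : Submodule K (Fin n → K))) hww hvv hw0 hv0
    obtain ⟨t', -, h1, h2⟩ := Gen_inv D ht
    let g : Matrix.GeneralLinearGroup (Fin n) K := ⟨t, t', h2, h1⟩
    have hgG : g ∈ Cfsg.GU n K q ⊓ Cfsg.Geo.specialLinear (Fin n) K :=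
      (mem_G_iff g).mpr ⟨Gen_pres D ht, Gen_det D ht⟩
    have hgP : g ∈ Cfsg.Geo.subspaceStabilizer W ⊓
        (Cfsg.GU n K q ⊓ Cfsg.Geo.specialLinear (Fin n) K) := by
      rw [heq]; exact hgG
    have := (hgP.1 w).mp hw
    apply hvW
    rw [← htw]
    exact this
  · intro M hPM hMS
    by_cases hMP : M ≤ Cfsg.Geo.subspaceStabilizer W ⊓
        (Cfsg.GU n K q ⊓ Cfsg.Geo.specialLinear (Fin n) K)
    · left; exact le_antisymm hMP hPM
    right
    refine le_antisymm hMS ?_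
    obtain ⟨g, hgM, hgP⟩ := SetLike.not_le_iff_exists.mp hMP
    have hgW : g ∉ Cfsg.Geo.subspaceStabilizer W := fun h' => hgP ⟨h', hMS hgM⟩
    obtain ⟨w, hw, hgw⟩ : ∃ w ∈ W, (g : Matrix (Fin n) (Fin n) K) *ᵥ w ∉ W := by
      by_contra hcon
      push Not at hcon
      exact hgW (Cfsg.Agent.Helper28.SpMax.mem_stab_of_forall' W g hcon)
    intro g' hg'
    obtain ⟨h1, h2⟩ := (mem_G_iff g').mp hg'
    refine um_max D W hW M (fun a ha => ((mem_G_iff a).mp (hMS ha)).1) ?_ g hgM w hw hgw g' h1 h2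
    intro a haP hadet haW
    apply hPM
    exact ⟨Cfsg.Agent.Helper28.SpMax.mem_stab_of_forall' W a haW, (mem_G_iff a).mpr ⟨haP, hadet⟩⟩

end Cfsg.Agent.Helper28.UM
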