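import Mathlib
import Cfsg.Prelude.Def_GeometricClasses
import Cfsg.Agent.Helper7.S5655.Defs

/-! S5655 (k = 1), chapter GEN + TRANSPORT (helper28): the only extra definition. -/

set_option autoImplicit false

namespace Cfsg.Agent.S5655K1

/-- the standard frame `⟨e_i⟩` -/
def gStdFrame (n : ℕ) (K : Type*) [Field K] : Fin n → Submodule K (Fin n → K) :=
  fun i => Submodule.span K {(Pi.single i (1 : K) : Fin n → K)}

end Cfsg.Agent.S5655K1
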