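import Mathlib
import Cfsg.Prelude.Def_GeometricClasses
import Cfsg.Agent.Helper7.S5655.Defs
import Cfsg.Agent.Helper28.S5655GDefs

/-! S5655 (k = 1), chapter GEN: pieces QR (quasi-reflections) and SUPPT. -/

set_option autoImplicit false

namespace Cfsg.Agent.S5655K1

open Matrix
open Cfsg.Agent.S2644 Cfsg.Agent.Helper2.SUGen Cfsg.Agent.Helper28.SimMax Cfsg.Agent.MonoP

variable {K : Type*} [Field K] {q n : ℕ}

local notation "h" => Cfsg.hermForm n K q
local notation "T" => Cfsg.unitaryTransvection n q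

theorem QR.pres (D : Frob K q) (u : Fin n → K) (c : K)
    (hc : c + D.σ c + c * D.σ c * h u u = 0) : Pres (q := q) (T u c) := by
  intro z z'
  rw [T_mulVec, T_mulVec, h_add_left, h_add_right D, h_add_right D, h_smul_left, h_smul_left,
    h_smul_right D, h_smul_right D, map_mul]
  have e1 : D.σ (h z' u) = h u z' := h_conj D u z'
  rw [e1]
  linear_combination (h z u * h u z') * hc

theorem QR.move (D : Frob K q) (x x' : Fin n → K) (hxx : h x x = h x' x')
    (ht : h x x - h x x' ≠ 0) :
    Pres (q := q) (T (x - x') (-(h x x - h x x')⁻¹)) ∧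
      T (x - x') (-(h x x - h x x')⁻¹) *ᵥ x = x' ∧
      (T (x - x') (-(h x x - h x x')⁻¹)).det = -(D.σ (h x x - h x x')) / (h x x - h x x') := by
  set t := h x x - h x x' with htdef
  have hσt : D.σ t = h x x - h x' x := by
    rw [htdef, map_sub, h_self_fix D, h_conj D]
  have hσt0 : D.σ t ≠ 0 := σ_ne_zero D ht
  have huu : h (x - x') (x - x') = t + D.σ t := by
    rw [hσt, htdef, h_sub_left, h_sub_right D, h_sub_right D, ← hxx]
    ring
  have hxu : h x (x - x') = t := by rw [h_sub_right D]
  refine ⟨?_, ?_, ?_⟩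
  · apply QR.pres D
    rw [huu, map_neg, map_inv₀]
    field_simp
    ring
  · rw [T_mulVec, hxu, neg_mul, inv_mul_cancel₀ ht, neg_one_smul]
    abel
  · rw [det_T', huu]
    field_simp
    ring

theorem SUPPT.suppOn_T (hq : q ≠ 0) (S : Finset (Fin n)) (u : Fin n → K) (hu : ∀ i, i ∉ S → u i = 0)
    (c : K) : SuppOn S (T u c) := by
  intro i j hij
  unfold Cfsg.unitaryTransvection
  rw [Matrix.add_apply, Matrix.smul_apply, Matrix.vecMulVec_apply]
  rcases hij with hi | hj
  · rw [hu i hi]; simp
  · rw [hu j hj, zero_pow hq]; simp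

theorem SUPPT.suppOn_mul (S : Finset (Fin n)) {A B : Matrix (Fin n) (Fin n) K} (hA : SuppOn S A)
    (hB : SuppOn S B) : SuppOn S (A * B) := by
  intro i j hij
  rw [Matrix.mul_apply]
  rcases hij with hi | hj
  · have : ∀ k, A i k * B k j = (1 : Matrix (Fin n) (Fin n) K) i k * B k j := by
      intro k
      rw [hA i k (Or.inl hi)]
    rw [Finset.sum_congr rfl (fun k _ => this k), ← Matrix.mul_apply, Matrix.one_mul]
    exact hB i j (Or.inl hi)
  · have : ∀ k, A i k * B k j = A i k * (1 : Matrix (Fin n) (Fin n) K) k j := by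
      intro k
      rw [hB k j (Or.inr hj)]
    rw [Finset.sum_congr rfl (fun k _ => this k), ← Matrix.mul_apply, Matrix.mul_one]
    exact hA i j (Or.inr hj)

end Cfsg.Agent.S5655K1
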