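import Mathlib
import Cfsg.Agent.Helper28.Siegel3
import Cfsg.Agent.Helper24.S5637.Defs

set_option autoImplicit false
set_option linter.unusedSectionVars false

/-! # S5704 (`Sp_a ⊗ Sp_b < Ω⁺_{ab}`), chapter SPREAD (driver helper28, mathematics by helper14): definitions and basic calculus.

`V = F^n`, pure tensors `pt e P u w = P *ᵥ tn e u w`; `bf G` the bilinear form with Gram matrix `G`;
`InM Q M x v` : the Siegel transformation `ρ(x, v)` (`x` singular, `v ⊥ x`) lies in `M`. -/

namespace Cfsg.Agent.S5704S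

open Matrix Cfsg.Agent.Helper28.Sg

variable {F : Type*} [Field F] {n a b m : ℕ}

/-- the bilinear form with Gram matrix `G` -/
def bf (G : Matrix (Fin m) (Fin m) F) (x y : Fin m → F) : F := x ⬝ᵥ G *ᵥ y

theorem bf_add_left (G : Matrix (Fin m) (Fin m) F) (x x' y : Fin m → F) :
    bf G (x + x') y = bf G x y + bf G x' y := by
  unfold bf; rw [add_dotProduct]

theorem bf_add_right (G : Matrix (Fin m) (Fin m) F) (x y y' : Fin m → F) :
    bf G x (y + y') = bf G x y + bf G x y' := by
  unfold bf; rw [mulVec_add, dotProduct_add]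

theorem bf_smul_left (G : Matrix (Fin m) (Fin m) F) (c : F) (x y : Fin m → F) :
    bf G (c • x) y = c * bf G x y := by
  unfold bf; rw [smul_dotProduct, smul_eq_mul]

theorem bf_smul_right (G : Matrix (Fin m) (Fin m) F) (c : F) (x y : Fin m → F) :
    bf G x (c • y) = c * bf G x y := by
  unfold bf; rw [mulVec_smul, dotProduct_smul, smul_eq_mul]

theorem bf_zero_left (G : Matrix (Fin m) (Fin m) F) (y : Fin m → F) : bf G 0 y = 0 := by
  unfold bf; rw [zero_dotProduct]

theorem bf_zero_right (G : Matrix (Fin m) (Fin m) F) (x : Fin m → F) : bf G x 0 = 0 := by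
  unfold bf; rw [mulVec_zero, dotProduct_zero]

theorem bf_neg_left (G : Matrix (Fin m) (Fin m) F) (x y : Fin m → F) : bf G (-x) y = - bf G x y := by
  unfold bf; rw [neg_dotProduct]

theorem bf_neg_right (G : Matrix (Fin m) (Fin m) F) (x y : Fin m → F) : bf G x (-y) = - bf G x y := by
  unfold bf; rw [mulVec_neg, dotProduct_neg]

theorem bf_sub_left (G : Matrix (Fin m) (Fin m) F) (x x' y : Fin m → F) :
    bf G (x - x') y = bf G x y - bf G x' y := by
  unfold bf; rw [sub_dotProduct]

theorem bf_sub_right (G : Matrix (Fin m) (Fin m) F) (x y y' : Fin m → F) :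
    bf G x (y - y') = bf G x y - bf G x y' := by
  unfold bf; rw [mulVec_sub, dotProduct_sub]

/-- `G` is the Gram matrix of a symplectic (alternating, nondegenerate) form -/
structure IsSymp (G : Matrix (Fin m) (Fin m) F) : Prop where
  alt : ∀ x, bf G x x = 0
  nondeg : ∀ x, (∀ y, bf G x y = 0) → x = 0

theorem IsSymp.skew {G : Matrix (Fin m) (Fin m) F} (hG : IsSymp G) (x y : Fin m → F) :
    bf G x y = - bf G y x := by
  have h := hG.alt (x + y)
  rw [bf_add_left, bf_add_right, bf_add_right, hG.alt x, hG.alt y] at h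
  linear_combination h

theorem IsSymp.eq_zero_symm {G : Matrix (Fin m) (Fin m) F} (hG : IsSymp G) {x y : Fin m → F}
    (h : bf G x y = 0) : bf G y x = 0 := by
  rw [hG.skew, h, neg_zero]

/-- the pure tensor `u ⊗ w` in `V = F^n` -/
def pt (e : Fin n ≃ Fin a × Fin b) (P : Matrix (Fin n) (Fin n) F) (u : Fin a → F) (w : Fin b → F) :
    Fin n → F :=
  P *ᵥ Cfsg.Agent.S5637P.tn e u w

section pt

variable (e : Fin n ≃ Fin a × Fin b) (P : Matrix (Fin n) (Fin n) F)

open Cfsg.Agent.S5637P in
theorem pt_add_left (u u' : Fin a → F) (w : Fin b → F) :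
    pt e P (u + u') w = pt e P u w + pt e P u' w := by
  unfold pt; rw [tn_add_left, mulVec_add]

open Cfsg.Agent.S5637P in
theorem pt_add_right (u : Fin a → F) (w w' : Fin b → F) :
    pt e P u (w + w') = pt e P u w + pt e P u w' := by
  unfold pt; rw [tn_add_right, mulVec_add]

open Cfsg.Agent.S5637P in
theorem pt_sub_left (u u' : Fin a → F) (w : Fin b → F) :
    pt e P (u - u') w = pt e P u w - pt e P u' w := by
  unfold pt; rw [tn_sub_left, mulVec_sub]

open Cfsg.Agent.S5637P in
theorem pt_sub_right (u : Fin a → F) (w w' : Fin b → F) :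
    pt e P u (w - w') = pt e P u w - pt e P u w' := by
  unfold pt; rw [tn_sub_right, mulVec_sub]

open Cfsg.Agent.S5637P in
theorem pt_smul_left (c : F) (u : Fin a → F) (w : Fin b → F) :
    pt e P (c • u) w = c • pt e P u w := by
  unfold pt; rw [tn_smul_left, mulVec_smul]

open Cfsg.Agent.S5637P in
theorem pt_smul_right (c : F) (u : Fin a → F) (w : Fin b → F) :
    pt e P u (c • w) = c • pt e P u w := by
  unfold pt; rw [tn_smul_right, mulVec_smul]

open Cfsg.Agent.S5637P in
theorem pt_neg_left (u : Fin a → F) (w : Fin b → F) : pt e P (-u) w = - pt e P u w := by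
  unfold pt; rw [tn_neg_left, mulVec_neg]

open Cfsg.Agent.S5637P in
theorem pt_neg_right (u : Fin a → F) (w : Fin b → F) : pt e P u (-w) = - pt e P u w := by
  unfold pt; rw [tn_neg_right, mulVec_neg]

open Cfsg.Agent.S5637P in
theorem pt_zero_left (w : Fin b → F) : pt e P (0 : Fin a → F) w = 0 := by
  unfold pt; rw [tn_zero_left, mulVec_zero]

open Cfsg.Agent.S5637P in
theorem pt_zero_right (u : Fin a → F) : pt e P u (0 : Fin b → F) = 0 := by
  unfold pt; rw [tn_zero_right, mulVec_zero]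

end pt

/-- the tensor data: `Q` vanishes on pure tensors and its polar form is `bf GU ⊗ bf GW` -/
structure TData (Q : QuadraticForm F (Fin n → F)) (e : Fin n ≃ Fin a × Fin b)
    (P : Matrix (Fin n) (Fin n) F) (GU : Matrix (Fin a) (Fin a) F) (GW : Matrix (Fin b) (Fin b) F) :
    Prop where
  unit : IsUnit P
  sympU : IsSymp GU
  sympW : IsSymp GW
  sing : ∀ u w, Q (pt e P u w) = 0
  pol : ∀ u w u' w', QuadraticMap.polar ⇑Q (pt e P u w) (pt e P u' w') = bf GU u u' * bf GW w w'

/-- `ρ(x, v) ∈ M` -/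
def InM (Q : QuadraticForm F (Fin n → F)) (M : Subgroup ↥(Cfsg.isometryGroup F ⇑Q))
    (x v : Fin n → F) : Prop :=
  ∃ (hx : Q x = 0) (hxv : B Q x v = 0), siegO Q x v hx hxv ∈ M

section InM

variable {Q : QuadraticForm F (Fin n → F)} {M : Subgroup ↥(Cfsg.isometryGroup F ⇑Q)}

theorem InM.singular {x v : Fin n → F} (h : InM Q M x v) : Q x = 0 := h.1

theorem InM.orth {x v : Fin n → F} (h : InM Q M x v) : B Q x v = 0 := h.2.1

theorem InM.mem {x v : Fin n → F} (h : InM Q M x v) (hx : Q x = 0) (hxv : B Q x v = 0) :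
    siegO Q x v hx hxv ∈ M := h.2.2

theorem InM.zero_right {x : Fin n → F} (hx : Q x = 0) : InM Q M x 0 := by
  have h0 : B Q x 0 = 0 := QuadraticMap.polar_zero_right _ _
  refine ⟨hx, h0, ?_⟩
  rw [siegO_zero Q x hx h0]
  exact M.one_mem

theorem InM.zero_left (v : Fin n → F) : InM Q M 0 v := by
  have h0 : Q (0 : Fin n → F) = 0 := map_zero _
  have h0v : B Q 0 v = 0 := QuadraticMap.polar_zero_left _ _
  refine ⟨h0, h0v, ?_⟩
  rw [siegO_zero_left v h0 h0v]
  exact M.one_mem

theorem InM.add {x v v' : Fin n → F} (h : InM Q M x v) (h' : InM Q M x v') : InM Q M x (v + v') := by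
  obtain ⟨hx, hxv, hm⟩ := h
  obtain ⟨_, hxv', hm'⟩ := h'
  have hs : B Q x (v + v') = 0 := B_add_right_zero Q hxv hxv'
  refine ⟨hx, hs, ?_⟩
  rw [← siegO_mul Q hx hxv hxv' hs]
  exact M.mul_mem hm hm'

theorem InM.neg {x v : Fin n → F} (h : InM Q M x v) : InM Q M x (-v) := by
  obtain ⟨hx, hxv, hm⟩ := h
  have hn : B Q x (-v) = 0 := by rw [B_neg_right, hxv, neg_zero]
  refine ⟨hx, hn, ?_⟩
  rw [← siegO_inv Q hx hxv hn]
  exact M.inv_mem hm

theorem InM.sub {x v v' : Fin n → F} (h : InM Q M x v) (h' : InM Q M x v') : InM Q M x (v - v') := by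
  rw [sub_eq_add_neg]
  exact h.add h'.neg

/-- `ρ(c x, v) = ρ(x, c v)` -/
theorem InM.of_smul_left {c : F} {x v : Fin n → F} (hx : Q x = 0) (h : InM Q M (c • x) v) :
    InM Q M x (c • v) := by
  obtain ⟨hcx, hcxv, hm⟩ := h
  have h1 : B Q x (c • v) = 0 := by
    have : B Q (c • x) v = c * B Q x v := by
      show QuadraticMap.polar ⇑Q (c • x) v = _
      rw [QuadraticMap.polar_smul_left, smul_eq_mul]
    show QuadraticMap.polar ⇑Q x (c • v) = 0
    rw [QuadraticMap.polar_smul_right, smul_eq_mul]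
    rw [this] at hcxv
    exact hcxv
  by_cases hc : c = 0
  · subst hc
    rw [zero_smul]
    exact InM.zero_right hx
  have hxv : B Q x v = 0 := by
    have : B Q (c • x) v = c * B Q x v := by
      show QuadraticMap.polar ⇑Q (c • x) v = _
      rw [QuadraticMap.polar_smul_left, smul_eq_mul]
    rw [this] at hcxv
    exact (mul_eq_zero.mp hcxv).resolve_left hc
  refine ⟨hx, h1, ?_⟩
  rw [← siegO_smul Q c hx hxv hcx hcxv h1]
  exact hm

/-- for singular `v`: `ρ(x, v) = ρ(v, -x)` -/
theorem InM.sym {x v : Fin n → F} (hv : Q v = 0) (h : InM Q M x v) : InM Q M v (-x) := by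
  obtain ⟨hx, hxv, hm⟩ := h
  have hvx : B Q v (-x) = 0 := by rw [B_neg_right, B_comm, hxv, neg_zero]
  refine ⟨hv, hvx, ?_⟩
  have : siegO Q v (-x) hv hvx = siegO Q x v hx hxv := by
    apply O_ext
    intro z
    rw [siegO_mulVec, siegO_mulVec, hv, Q.map_neg, hx]
    simp only [B, QuadraticMap.polar_neg_left]
    module
  rw [this]
  exact hm

end InM

end Cfsg.Agent.S5704S
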