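import Mathlib
import Cfsg.Prelude.Def_GeometricClasses
import Cfsg.Agent.Helper28.S5704SDefs
import Cfsg.Agent.Helper28.NonMax
import Cfsg.Agent.Helper28.OrthMax3

set_option autoImplicit false
set_option linter.unusedSectionVars false

/-! # S5704: glue between subgroups of `GL` and subgroups of the isometry group (helper28). -/

namespace Cfsg.Agent.S5704S

open Matrix Cfsg.Agent.Helper28.Sg

variable {F : Type*} [Field F] [Fintype F] {n : ℕ}

/-- the subgroup of the isometry group cut out by a subgroup of `GL` -/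
def pull (Q : QuadraticForm F (Fin n → F)) (M : Subgroup (GL (Fin n) F)) :
    Subgroup ↥(Cfsg.isometryGroup F ⇑Q) :=
  M.comap (Cfsg.isometryGroup F ⇑Q).subtype

theorem GLUE.mem_pull {Q : QuadraticForm F (Fin n → F)} {M : Subgroup (GL (Fin n) F)}
    (g : ↥(Cfsg.isometryGroup F ⇑Q)) : g ∈ pull Q M ↔ (g : GL (Fin n) F) ∈ M := Iff.rfl

theorem GLUE.inM_iff {Q : QuadraticForm F (Fin n → F)} {M : Subgroup (GL (Fin n) F)}
    (x v : Fin n → F) :
    InM Q (pull Q M) x v ↔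
      ∃ (hx : Q x = 0) (hxv : B Q x v = 0), ((siegO Q x v hx hxv : ↥(Cfsg.isometryGroup F ⇑Q)) : GL (Fin n) F) ∈ M :=
  Iff.rfl

/-- `Ω = S Q` in dimension at least eight -/
theorem GLUE.omega_eq_S {Q : QuadraticForm F (Fin n → F)} (hQ : (QuadraticMap.polarBilin Q).Nondegenerate)
    (hn : 8 ≤ n) : Cfsg.Omega F ⇑Q = S Q := by
  have hcard : 8 ≤ Fintype.card (Fin n) := by rw [Fintype.card_fin]; exact hn
  obtain ⟨fr⟩ := Cfsg.Agent.Helper28.OM.exists_frame3 hQ hcard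
  exact Omega_eq_S hQ fr (Cfsg.Agent.Helper28.OM.hgen_all hQ (by omega))

/-- membership in `omegaGL` through `S Q` -/
theorem GLUE.mem_omegaGL_iff {Q : QuadraticForm F (Fin n → F)}
    (hQ : (QuadraticMap.polarBilin Q).Nondegenerate) (hn : 8 ≤ n) (g : GL (Fin n) F) :
    g ∈ Cfsg.Geo.omegaGL ⇑Q ↔ ∃ h : ↥(Cfsg.isometryGroup F ⇑Q), h ∈ S Q ∧ (h : GL (Fin n) F) = g := by
  rw [Cfsg.Agent.Helper28.NM.mem_omegaGL_iff, GLUE.omega_eq_S hQ hn]

/-- every Siegel transformation lies in `omegaGL` -/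
theorem GLUE.siegO_mem_omegaGL {Q : QuadraticForm F (Fin n → F)}
    (hQ : (QuadraticMap.polarBilin Q).Nondegenerate) (hn : 8 ≤ n) (x v : Fin n → F) (hx : Q x = 0)
    (hxv : B Q x v = 0) :
    ((siegO Q x v hx hxv : ↥(Cfsg.isometryGroup F ⇑Q)) : GL (Fin n) F) ∈ Cfsg.Geo.omegaGL ⇑Q :=
  (GLUE.mem_omegaGL_iff hQ hn _).mpr ⟨_, siegO_mem_S Q x v hx hxv, rfl⟩

/-- if the pull-back of `M` contains all Siegel transformations then `M` contains `Ω` -/
theorem GLUE.omegaGL_le {Q : QuadraticForm F (Fin n → F)}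
    (hQ : (QuadraticMap.polarBilin Q).Nondegenerate) (hn : 8 ≤ n) (M : Subgroup (GL (Fin n) F))
    (h : S Q ≤ pull Q M) : Cfsg.Geo.omegaGL ⇑Q ≤ M := by
  intro g hg
  obtain ⟨s, hs, rfl⟩ := (GLUE.mem_omegaGL_iff hQ hn g).mp hg
  exact h hs

end Cfsg.Agent.S5704S
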