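import Mathlib
import Cfsg.Agent.Helper28.Siegel3

set_option autoImplicit false
set_option linter.unusedSectionVars false

/-! The unipotent radical of the stabiliser of a totally singular subspace is generated by Siegel
transformations: an isometry `g` fixing a totally singular subspace `S` pointwise and with
`(g - 1) S^⊥ ⊆ S` lies in `S Q` (any characteristic, any dimension). -/

namespace Cfsg.Agent.Helper28.Sg

open Matrix Module Cfsg.Agent.Helper28.IsoTransport Cfsg.Agent.Helper28.Spin

variable {F : Type*} [Field F] {ι : Type} [Fintype ι] [DecidableEq ι]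
  {Q : QuadraticForm F (ι → F)}

/-- a singular partner -/
theorem exists_singular_pair_one (hQ : (QuadraticMap.polarBilin Q).Nondegenerate) {s : ι → F}
    (hs : Q s = 0) (hs0 : s ≠ 0) : ∃ t, Q t = 0 ∧ B Q s t = 1 := by
  obtain ⟨t₀, ht₀⟩ := exists_pair_one hQ hs0
  refine ⟨t₀ - Q t₀ • s, ?_, ?_⟩
  · rw [Spin.map_sub'' Q, Q_smul, hs]
    have : QuadraticMap.polar ⇑Q t₀ (Q t₀ • s) = Q t₀ * B Q s t₀ := by
      rw [QuadraticMap.polar_smul_right, smul_eq_mul, QuadraticMap.polar_comm]
    rw [this, ht₀]
    ring
  · show QuadraticMap.polar ⇑Q s (t₀ - Q t₀ • s) = 1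
    rw [QuadraticMap.polar_sub_right, QuadraticMap.polar_smul_right,
      show QuadraticMap.polar ⇑Q s s = 0 from B_self_of_singular Q hs]
    simp only [smul_eq_mul, mul_zero, sub_zero]
    exact ht₀

/-- the radical condition -/
def InRad (Q : QuadraticForm F (ι → F)) (Z : Submodule F (ι → F)) (g : ↥(Cfsg.isometryGroup F ⇑Q)) :
    Prop :=
  (∀ x ∈ Z, mt Q g *ᵥ x = x) ∧ ∀ x, (∀ y ∈ Z, B Q x y = 0) → mt Q g *ᵥ x - x ∈ Z

theorem radical_mem_S_aux (hQ : (QuadraticMap.polarBilin Q).Nondegenerate) (k : ℕ) :
    ∀ (Z : Submodule F (ι → F)) (g : ↥(Cfsg.isometryGroup F ⇑Q)), finrank F Z = k →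
      (∀ x ∈ Z, Q x = 0) → InRad Q Z g → g ∈ S Q := by
  induction k with
  | zero =>
    intro Z g hk _ hrad
    have hS : Z = ⊥ := Submodule.finrank_eq_zero.mp hk
    have : g = 1 := by
      apply O_ext
      intro x
      rw [mt_one_mulVec]
      have h := hrad.2 x (by
        intro y hy
        rw [hS, Submodule.mem_bot] at hy
        rw [hy]
        exact QuadraticMap.polar_zero_right _ _)
      rw [hS, Submodule.mem_bot] at h
      exact sub_eq_zero.mp h
    rw [this]
    exact (S Q).one_mem
  | succ k ih =>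
    intro Z g hk hsing hrad
    -- a non-zero vector of `Z`
    have hpos : 0 < finrank F Z := by omega
    obtain ⟨⟨s, hsS⟩, hs0'⟩ := Module.finrank_pos_iff_exists_ne_zero.mp hpos
    have hs0 : s ≠ 0 := fun h => hs0' (Subtype.ext h)
    have hQs : Q s = 0 := hsing s hsS
    obtain ⟨t, hQt, hst⟩ := exists_singular_pair_one hQ hQs hs0
    set v : ι → F := mt Q g *ᵥ t - t with hv
    -- `v ⊥ Z`
    have hvS : ∀ x ∈ Z, B Q x v = 0 := by
      intro x hx
      have h1 : B Q x (mt Q g *ᵥ t) = B Q x t := by
        have := B_isom Q g x t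
        rw [hrad.1 x hx] at this
        exact this
      show QuadraticMap.polar ⇑Q x (mt Q g *ᵥ t - t) = 0
      rw [QuadraticMap.polar_sub_right]
      exact sub_eq_zero.mpr h1
    have hsv : B Q s v = 0 := hvS s hsS
    -- `Q v + B t v = 0`
    have hQv : Q v + B Q t v = 0 := by
      have h1 : Q (t + v) = Q t := by
        have : t + v = mt Q g *ᵥ t := by rw [hv]; abel
        rw [this, Spin.isom_apply]
      rw [Q_add, hQt] at h1
      linear_combination h1
    set h := siegO Q s v hQs hsv with hh
    -- `h t = g t`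
    have hht : mt Q h *ᵥ t = mt Q g *ᵥ t := by
      rw [hh, siegO_mulVec, hst]
      have h2 : B Q v t = B Q t v := B_comm Q v t
      have h3 : Q v = - B Q t v := by linear_combination hQv
      rw [h2, h3, hv]
      module
    -- `h` fixes `Z` pointwise and moves `Z^⊥` inside cosets of `Z`
    have hhS : ∀ x ∈ Z, mt Q h *ᵥ x = x := by
      intro x hx
      have h1 : B Q s x = 0 := by
        have := hvS  -- not needed
        have hsx : Q (s + x) = 0 := hsing _ (Z.add_mem hsS hx)
        rw [Q_add, hQs, hsing x hx] at hsx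
        simpa using hsx
      have h2 : B Q v x = 0 := by rw [B_comm]; exact hvS x hx
      rw [hh, siegO_mulVec, h1, h2]
      simp
    have hneg : B Q s (-v) = 0 := by rw [B_neg_right, hsv, neg_zero]
    have hinv : h⁻¹ = siegO Q s (-v) hQs hneg := siegO_inv Q hQs hsv hneg
    have hhinvS : ∀ x ∈ Z, mt Q h⁻¹ *ᵥ x = x := by
      intro x hx
      have := mt_inv_mulVec Q h x
      rw [hhS x hx] at this
      exact this
    set g' := h⁻¹ * g with hg'
    have hg't : mt Q g' *ᵥ t = t := by
      rw [hg', mt_mul_mulVec, ← hht, mt_inv_mulVec]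
    have hg'Z : ∀ x ∈ Z, mt Q g' *ᵥ x = x := by
      intro x hx
      rw [hg', mt_mul_mulVec, hrad.1 x hx, hhinvS x hx]
    have hg'rad : ∀ x, (∀ y ∈ Z, B Q x y = 0) → mt Q g' *ᵥ x - x ∈ Z := by
      intro x hx
      have h1 := hrad.2 x hx
      set σ := mt Q g *ᵥ x - x with hσ
      have hgx : mt Q g *ᵥ x = x + σ := by rw [hσ]; abel
      have hsx : B Q s x = 0 := by rw [B_comm]; exact hx s hsS
      have h2 : mt Q h⁻¹ *ᵥ x = x + B Q v x • s := by
        rw [hinv, siegO_mulVec, hsx]
        simp only [B, QuadraticMap.polar_neg_left]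
        module
      rw [hg', mt_mul_mulVec, hgx, Matrix.mulVec_add, hhinvS σ h1, h2]
      have : x + B Q v x • s + σ - x = B Q v x • s + σ := by abel
      rw [this]
      exact Z.add_mem (Z.smul_mem _ hsS) h1
    -- the smaller subspace
    set φ : (ι → F) →ₗ[F] F := (QuadraticMap.polarBilin Q).flip t with hφ
    have hφa : ∀ x, φ x = B Q x t := fun x => rfl
    set Z' : Submodule F (ι → F) := Z ⊓ LinearMap.ker φ with hZ'
    have hZ'le : Z' ≤ Z := inf_le_left
    have hmemZ' : ∀ x, x ∈ Z' ↔ x ∈ Z ∧ B Q x t = 0 := by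
      intro x
      rw [hZ', Submodule.mem_inf, LinearMap.mem_ker, hφa]
    -- decomposition of `Z`
    have hdec : ∀ σ ∈ Z, σ - B Q σ t • s ∈ Z' := by
      intro σ hσ
      rw [hmemZ']
      refine ⟨Z.sub_mem hσ (Z.smul_mem _ hsS), ?_⟩
      show QuadraticMap.polar ⇑Q (σ - B Q σ t • s) t = 0
      rw [QuadraticMap.polar_sub_left, QuadraticMap.polar_smul_left, smul_eq_mul]
      have : QuadraticMap.polar ⇑Q s t = 1 := hst
      rw [this, mul_one]
      exact sub_self _
    have hsnot : s ∉ Z' := by
      intro hc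
      have := ((hmemZ' s).mp hc).2
      rw [hst] at this
      exact one_ne_zero this
    -- dimension
    have hdim : finrank F Z' = k := by
      have hsup : Z' ⊔ Submodule.span F {s} = Z := by
        apply le_antisymm
        · apply sup_le hZ'le
          rw [Submodule.span_singleton_le_iff_mem]
          exact hsS
        · intro σ hσ
          have : σ = (σ - B Q σ t • s) + B Q σ t • s := by abel
          rw [this]
          exact Submodule.add_mem _ (Submodule.mem_sup_left (hdec σ hσ))
            (Submodule.mem_sup_right (Submodule.smul_mem _ _ (Submodule.mem_span_singleton_self s)))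
      have hinf : Z' ⊓ Submodule.span F {s} = ⊥ := by
        rw [eq_bot_iff]
        intro x hx
        obtain ⟨hx1, hx2⟩ := Submodule.mem_inf.mp hx
        obtain ⟨c, rfl⟩ := Submodule.mem_span_singleton.mp hx2
        have := ((hmemZ' _).mp hx1).2
        have e : B Q (c • s) t = c * B Q s t := by
          show QuadraticMap.polar ⇑Q (c • s) t = _
          rw [QuadraticMap.polar_smul_left, smul_eq_mul]
        rw [e, hst, mul_one] at this
        rw [this, zero_smul]
        exact Submodule.zero_mem _
      have h1 := Submodule.finrank_sup_add_finrank_inf_eq Z' (Submodule.span F {s})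
      rw [hsup, hinf, finrank_bot, finrank_span_singleton hs0, hk] at h1
      omega
    have hrad' : InRad Q Z' g' := by
      refine ⟨fun x hx => hg'Z x (hZ'le hx), ?_⟩
      intro x hx
      -- `x = y + c t` with `y ⊥ Z`
      set c := B Q x s with hc
      set y := x - c • t with hy
      have hyS : ∀ σ ∈ Z, B Q y σ = 0 := by
        intro σ hσ
        have h1 := hx _ (hdec σ hσ)
        have h2 : B Q x (σ - B Q σ t • s) = B Q x σ - B Q σ t * B Q x s := by
          show QuadraticMap.polar ⇑Q x (σ - B Q σ t • s) = _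
          rw [QuadraticMap.polar_sub_right, QuadraticMap.polar_smul_right, smul_eq_mul]
        rw [h2] at h1
        show QuadraticMap.polar ⇑Q (x - c • t) σ = 0
        rw [QuadraticMap.polar_sub_left, QuadraticMap.polar_smul_left, smul_eq_mul]
        have h3 : QuadraticMap.polar ⇑Q t σ = B Q σ t := QuadraticMap.polar_comm _ _ _
        rw [h3]
        have h4 : QuadraticMap.polar ⇑Q x σ = B Q x σ := rfl
        rw [h4, hc]
        linear_combination h1
      have h5 := hg'rad y hyS
      have hxy : x = y + c • t := by rw [hy]; abel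
      have h6 : mt Q g' *ᵥ x - x = mt Q g' *ᵥ y - y := by
        rw [hxy, Matrix.mulVec_add, Matrix.mulVec_smul, hg't]
        abel
      rw [h6, hmemZ']
      refine ⟨h5, ?_⟩
      -- orthogonal to `t`
      have h7 : B Q (mt Q g' *ᵥ y) t = B Q y t := by
        have := B_isom Q g' y t
        rw [hg't] at this
        exact this
      show QuadraticMap.polar ⇑Q (mt Q g' *ᵥ y - y) t = 0
      rw [QuadraticMap.polar_sub_left]
      exact sub_eq_zero.mpr h7
    have hg'mem : g' ∈ S Q := ih Z' g' hdim (fun x hx => hsing x (hZ'le hx)) hrad'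
    have hgeq : g = h * g' := by rw [hg', mul_inv_cancel_left]
    rw [hgeq]
    exact (S Q).mul_mem (siegO_mem_S Q s v hQs hsv) hg'mem

/-- an isometry in the unipotent radical of the stabiliser of a totally singular subspace is a product of Siegel
transformations -/
theorem radical_mem_S (hQ : (QuadraticMap.polarBilin Q).Nondegenerate) (Z : Submodule F (ι → F))
    (g : ↥(Cfsg.isometryGroup F ⇑Q)) (hS : ∀ x ∈ Z, Q x = 0)
    (hfix : ∀ x ∈ Z, mt Q g *ᵥ x = x)
    (hrad : ∀ x, (∀ y ∈ Z, B Q x y = 0) → mt Q g *ᵥ x - x ∈ Z) : g ∈ S Q :=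
  radical_mem_S_aux hQ (finrank F Z) Z g rfl hS ⟨hfix, hrad⟩

end Cfsg.Agent.Helper28.Sg
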