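import Mathlib
import Cfsg.Prelude.Def_GeometricClasses
import Cfsg.Agent.Helper28.SiegelRad
import Cfsg.Agent.Helper28.S5704GLUE

set_option autoImplicit false
set_option linter.unusedSectionVars false

/-! # S5704, chapter QZOMEGA (helper28): the unipotent radical of the stabiliser of a totally singular subspace lies in `Ω`
(`GL`-level statement). -/

namespace Cfsg.Agent.S5704S

open Matrix Cfsg.Agent.Helper28.Sg Cfsg.Agent.Helper28.IsoTransport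

variable {F : Type*} [Field F] [Fintype F] {n : ℕ}

/-- QZOMEGA: an isometry fixing the totally singular subspace `Z` pointwise and moving `Z^⊥` inside cosets of `Z`
lies in `Ω` -/
theorem QZOMEGA.main {Q : QuadraticForm F (Fin n → F)} (hQ : (QuadraticMap.polarBilin Q).Nondegenerate)
    (hn : 8 ≤ n) (g : GL (Fin n) F) (hiso : ∀ x, Q ((g : Matrix (Fin n) (Fin n) F) *ᵥ x) = Q x)
    (Z : Submodule F (Fin n → F)) (hZ : ∀ x ∈ Z, Q x = 0)
    (hfix : ∀ x ∈ Z, (g : Matrix (Fin n) (Fin n) F) *ᵥ x = x)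
    (hrad : ∀ x, (∀ y ∈ Z, QuadraticMap.polar ⇑Q x y = 0) →
      (g : Matrix (Fin n) (Fin n) F) *ᵥ x - x ∈ Z) :
    g ∈ Cfsg.Geo.omegaGL ⇑Q := by
  have hg : g ∈ Cfsg.isometryGroup F ⇑Q := (mem_isometryGroup_iff _ _).2 hiso
  rw [GLUE.mem_omegaGL_iff hQ hn]
  exact ⟨⟨g, hg⟩, radical_mem_S hQ Z ⟨g, hg⟩ hZ hfix hrad, rfl⟩

/-- the isometry-group version -/
theorem QZOMEGA.mem_S {Q : QuadraticForm F (Fin n → F)} (hQ : (QuadraticMap.polarBilin Q).Nondegenerate)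
    (g : GL (Fin n) F) (hiso : ∀ x, Q ((g : Matrix (Fin n) (Fin n) F) *ᵥ x) = Q x)
    (Z : Submodule F (Fin n → F)) (hZ : ∀ x ∈ Z, Q x = 0)
    (hfix : ∀ x ∈ Z, (g : Matrix (Fin n) (Fin n) F) *ᵥ x = x)
    (hrad : ∀ x, (∀ y ∈ Z, QuadraticMap.polar ⇑Q x y = 0) →
      (g : Matrix (Fin n) (Fin n) F) *ᵥ x - x ∈ Z) :
    ∃ h : ↥(Cfsg.isometryGroup F ⇑Q), h ∈ S Q ∧ (h : GL (Fin n) F) = g := by
  have hg : g ∈ Cfsg.isometryGroup F ⇑Q := (mem_isometryGroup_iff _ _).2 hiso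
  exact ⟨⟨g, hg⟩, radical_mem_S hQ Z ⟨g, hg⟩ hZ hfix hrad, rfl⟩

end Cfsg.Agent.S5704S
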