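import Mathlib
import Cfsg.Prelude.Def_GeometricClasses

set_option autoImplicit false

/-! Generic tools for tensor-product subgroups: pure tensors, the transport map `τ x = P (x ∘ e)`,
the action of Kronecker products, the tensor form on pure tensors. -/

namespace Cfsg.Agent.Helper28.TD

open Matrix Kronecker

variable {F : Type*} [Field F] {ι : Type} [Fintype ι] [DecidableEq ι] {n₁ n₂ : ℕ}

/-- pure tensors -/
def ten (u : Fin n₁ → F) (w : Fin n₂ → F) : Fin n₁ × Fin n₂ → F := fun p => u p.1 * w p.2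

theorem ten_apply (u : Fin n₁ → F) (w : Fin n₂ → F) (p : Fin n₁ × Fin n₂) :
    ten u w p = u p.1 * w p.2 := rfl

theorem ten_add_left (u u' : Fin n₁ → F) (w : Fin n₂ → F) :
    ten (u + u') w = ten u w + ten u' w := by
  funext p; simp only [ten_apply, Pi.add_apply]; ring

theorem ten_add_right (u : Fin n₁ → F) (w w' : Fin n₂ → F) :
    ten u (w + w') = ten u w + ten u w' := by
  funext p; simp only [ten_apply, Pi.add_apply]; ring

theorem ten_sub_right (u : Fin n₁ → F) (w w' : Fin n₂ → F) :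
    ten u (w - w') = ten u w - ten u w' := by
  funext p; simp only [ten_apply, Pi.sub_apply]; ring

theorem ten_smul_left (c : F) (u : Fin n₁ → F) (w : Fin n₂ → F) :
    ten (c • u) w = c • ten u w := by
  funext p; simp only [ten_apply, Pi.smul_apply, smul_eq_mul]; ring

theorem ten_smul_right (c : F) (u : Fin n₁ → F) (w : Fin n₂ → F) :
    ten u (c • w) = c • ten u w := by
  funext p; simp only [ten_apply, Pi.smul_apply, smul_eq_mul]; ring

theorem ten_neg_left (u : Fin n₁ → F) (w : Fin n₂ → F) : ten (-u) w = -ten u w := by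
  funext p; simp only [ten_apply, Pi.neg_apply]; ring

theorem ten_neg_right (u : Fin n₁ → F) (w : Fin n₂ → F) : ten u (-w) = -ten u w := by
  funext p; simp only [ten_apply, Pi.neg_apply]; ring

theorem ten_zero_right (u : Fin n₁ → F) : ten u (0 : Fin n₂ → F) = 0 := by
  funext p; simp [ten_apply]

/-- the Kronecker product acts factorwise on pure tensors -/
theorem kron_mulVec_ten (a : Matrix (Fin n₁) (Fin n₁) F) (b : Matrix (Fin n₂) (Fin n₂) F)
    (u : Fin n₁ → F) (w : Fin n₂ → F) : (a ⊗ₖ b) *ᵥ ten u w = ten (a *ᵥ u) (b *ᵥ w) := by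
  funext p
  simp only [Matrix.mulVec, dotProduct, ten_apply, Matrix.kroneckerMap_apply]
  rw [Fintype.sum_prod_type, Finset.sum_mul_sum]
  apply Finset.sum_congr rfl
  intro i _
  apply Finset.sum_congr rfl
  intro j _
  ring

section tau

variable (e : ι ≃ Fin n₁ × Fin n₂) (P : GL ι F)

/-- the transport map `x ↦ P (x ∘ e)` -/
noncomputable def tau : (Fin n₁ × Fin n₂ → F) →ₗ[F] (ι → F) :=
  (Matrix.toLin' (P : Matrix ι ι F)).comp (LinearMap.funLeft F F e)

theorem tau_apply (x : Fin n₁ × Fin n₂ → F) : tau e P x = (P : Matrix ι ι F) *ᵥ (x ∘ e) := by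
  unfold tau
  rw [LinearMap.comp_apply, Matrix.toLin'_apply]
  rfl

theorem tau_injective : Function.Injective (tau e P) := by
  intro x y hxy
  rw [tau_apply, tau_apply] at hxy
  have h1 := congrArg (fun z => ((P⁻¹ : GL ι F) : Matrix ι ι F) *ᵥ z) hxy
  simp only [Matrix.mulVec_mulVec, ← Units.val_mul, inv_mul_cancel, Units.val_one,
    Matrix.one_mulVec] at h1
  funext p
  have := congrFun h1 (e.symm p)
  simpa using this

theorem tau_surjective : Function.Surjective (tau e P) := by
  intro v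
  refine ⟨(((P⁻¹ : GL ι F) : Matrix ι ι F) *ᵥ v) ∘ e.symm, ?_⟩
  rw [tau_apply]
  have : ((((P⁻¹ : GL ι F) : Matrix ι ι F) *ᵥ v) ∘ e.symm) ∘ e = ((P⁻¹ : GL ι F) : Matrix ι ι F) *ᵥ v := by
    funext i; simp
  rw [this, Matrix.mulVec_mulVec, ← Units.val_mul, mul_inv_cancel, Units.val_one, Matrix.one_mulVec]

/-- elements of the tensor product subgroup act through a Kronecker product -/
theorem exists_of_mem_tensor (g : GL ι F) (hg : g ∈ Cfsg.Geo.tensorProductSubgroup n₁ n₂ e P) :
    ∃ (a : GL (Fin n₁) F) (b : GL (Fin n₂) F), ∀ x : Fin n₁ × Fin n₂ → F,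
      (g : Matrix ι ι F) *ᵥ tau e P x =
        tau e P (((a : Matrix (Fin n₁) (Fin n₁) F) ⊗ₖ (b : Matrix (Fin n₂) (Fin n₂) F)) *ᵥ x) := by
  unfold Cfsg.Geo.tensorProductSubgroup at hg
  obtain ⟨r, ⟨k, ⟨a, b, hk⟩, rfl⟩, rfl⟩ := hg
  refine ⟨a, b, fun x => ?_⟩
  rw [tau_apply, tau_apply, ← hk]
  show ((P * (Cfsg.Geo.glReindex e.symm k) * P⁻¹ : GL ι F) : Matrix ι ι F) *ᵥ _ = _
  rw [Matrix.mulVec_mulVec, ← Units.val_mul, inv_mul_cancel_right, Units.val_mul,
    ← Matrix.mulVec_mulVec]
  congr 1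
  have hval : ((Cfsg.Geo.glReindex e.symm k : GL ι F) : Matrix ι ι F) =
      (k : Matrix (Fin n₁ × Fin n₂) (Fin n₁ × Fin n₂) F).submatrix e e := by
    rfl
  rw [hval, Matrix.submatrix_mulVec_equiv]
  congr 2
  funext p
  simp

end tau

section forms

/-- additivity over finite sums in the first argument -/
theorem bilin_sum_left {κ : Type} [Fintype κ] [DecidableEq κ] {f : (κ → F) → (κ → F) → F}
    (hf : Cfsg.Geo.IsBilinearForm f) {α : Type*} (s : Finset α) (c : α → F) (v : α → κ → F)
    (y : κ → F) : f (∑ a ∈ s, c a • v a) y = ∑ a ∈ s, c a * f (v a) y := by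
  classical
  induction s using Finset.induction_on with
  | empty =>
    simp only [Finset.sum_empty]
    have := hf.smul_left 0 0 y
    rw [zero_smul, zero_mul] at this
    exact this
  | insert a s ha ih =>
    rw [Finset.sum_insert ha, Finset.sum_insert ha, hf.add_left, hf.smul_left, ih]

theorem bilin_sum_right {κ : Type} [Fintype κ] [DecidableEq κ] {f : (κ → F) → (κ → F) → F}
    (hf : Cfsg.Geo.IsBilinearForm f) {α : Type*} (s : Finset α) (c : α → F) (v : α → κ → F)
    (x : κ → F) : f x (∑ a ∈ s, c a • v a) = ∑ a ∈ s, c a * f x (v a) := by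
  classical
  induction s using Finset.induction_on with
  | empty =>
    simp only [Finset.sum_empty]
    have := hf.smul_right 0 x 0
    rw [zero_smul, zero_mul] at this
    exact this
  | insert a s ha ih =>
    rw [Finset.sum_insert ha, Finset.sum_insert ha, hf.add_right, hf.smul_right, ih]

theorem pi_eq_sum_single {κ : Type} [Fintype κ] [DecidableEq κ] (x : κ → F) :
    x = ∑ a, x a • (Pi.single a 1 : κ → F) := by
  funext i
  simp [Finset.sum_apply, Pi.single_apply]

/-- a bilinear form is given by its Gram matrix -/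
theorem bilin_eq_gram {κ : Type} [Fintype κ] [DecidableEq κ] {f : (κ → F) → (κ → F) → F}
    (hf : Cfsg.Geo.IsBilinearForm f) (x y : κ → F) :
    f x y = ∑ a, ∑ b, x a * Cfsg.Geo.gramMatrix f a b * y b := by
  conv_lhs => rw [pi_eq_sum_single x, bilin_sum_left hf]
  apply Finset.sum_congr rfl
  intro a _
  conv_lhs => rw [pi_eq_sum_single y, bilin_sum_right hf, Finset.mul_sum]
  apply Finset.sum_congr rfl
  intro b _
  unfold Cfsg.Geo.gramMatrix
  ring

/-- the tensor form on pure tensors -/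
theorem formOfGram_ten {f₁ : (Fin n₁ → F) → (Fin n₁ → F) → F}
    {f₂ : (Fin n₂ → F) → (Fin n₂ → F) → F} (hf₁ : Cfsg.Geo.IsBilinearForm f₁)
    (hf₂ : Cfsg.Geo.IsBilinearForm f₂) (u u' : Fin n₁ → F) (w w' : Fin n₂ → F) :
    Cfsg.Geo.formOfGram id (Cfsg.Geo.gramMatrix f₁ ⊗ₖ Cfsg.Geo.gramMatrix f₂) (ten u w) (ten u' w') =
      f₁ u u' * f₂ w w' := by
  rw [bilin_eq_gram hf₁, bilin_eq_gram hf₂]
  unfold Cfsg.Geo.formOfGram
  rw [Fintype.sum_prod_type, Finset.sum_mul_sum]
  apply Finset.sum_congr rfl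
  intro a _
  apply Finset.sum_congr rfl
  intro k _
  rw [Fintype.sum_prod_type, Finset.sum_mul_sum]
  apply Finset.sum_congr rfl
  intro b _
  apply Finset.sum_congr rfl
  intro l _
  simp only [ten_apply, Matrix.kroneckerMap_apply, id]
  ring

end forms

end Cfsg.Agent.Helper28.TD
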