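import Mathlib
import Cfsg.Prelude.Def_Classical
import Cfsg.Agent.Helper23.S5953Defs

/-! S5953, piece SHIFTZ1: the monomial matrix `shiftZ (r * k) r z`. -/

set_option autoImplicit false
open scoped MatrixGroups Matrix

universe u

namespace Cfsg.Agent.S5953P

open Polynomial Cfsg.Agent.S5955P Cfsg.Agent.Helper28.HW Cfsg.Agent.Helper28.HermFrame

namespace SHIFTZ1

/-- the successor inside the blocks of length `r` -/
def sN (r b : ℕ) : ℕ := if b % r + 1 < r then b + 1 else b + 1 - r

theorem sN_lt {r k b : ℕ} (hr : 0 < r) (hb : b < r * k) : sN r b < r * k := by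
  unfold sN
  split_ifs with h
  · have h1 : b / r < k := Nat.div_lt_of_lt_mul hb
    have h2 := Nat.div_add_mod b r
    have h3 : r * (b / r + 1) ≤ r * k := Nat.mul_le_mul_left r h1
    rw [Nat.mul_add, Nat.mul_one] at h3
    omega
  · omega

theorem sN_inj {r b b' : ℕ} (hr : 0 < r) (h : sN r b = sN r b') : b = b' := by
  have key : ∀ c c' : ℕ, c % r + 1 < r → ¬ (c' % r + 1 < r) → c + 1 = c' + 1 - r → False := by
    intro c c' h1 h2 h3
    have h4 : c' % r < r := Nat.mod_lt _ hr
    have h5 : c' % r ≤ c' := Nat.mod_le _ _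
    have h6 : c' = c + r := by omega
    rw [h6, Nat.add_mod_right] at h2
    have h7 : (c + r) % r = c % r := Nat.add_mod_right c r
    rw [h6, h7] at h4
    omega
  unfold sN at h
  split_ifs at h with h1 h2 h2
  · omega
  · exact (key b b' h1 h2 h).elim
  · exact (key b' b h2 h1 h.symm).elim
  · have h4 : b % r ≤ b := Nat.mod_le _ _
    have h5 : b' % r ≤ b' := Nat.mod_le _ _
    omega

variable {F : Type*} [Field F]

/-- the monomial form of `shiftZ` -/
theorem shiftZ_eq (r k : ℕ) (z : F) (a b : Fin (r * k)) :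
    shiftZ (r * k) r z a b =
      if (a : ℕ) = sN r b then (if (b : ℕ) % r + 1 < r then 1 else z) else 0 := by
  rw [shiftZ_apply]
  unfold sN
  have h5 : (b : ℕ) % r ≤ b := Nat.mod_le _ _
  split_ifs <;> first | rfl | omega

/-- the successor as a map of `Fin (r * k)` -/
def sF (r k : ℕ) (hr : 0 < r) (b : Fin (r * k)) : Fin (r * k) := ⟨sN r b, sN_lt hr b.2⟩

theorem sF_injective (r k : ℕ) (hr : 0 < r) : Function.Injective (sF r k hr) := by
  intro b b' h
  have := congrArg Fin.val h
  exact Fin.ext (sN_inj hr this)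

/-- the coefficient of column `b` -/
def cF (r : ℕ) (z : F) (b : ℕ) : F := if b % r + 1 < r then 1 else z

theorem shiftZ_eq' (r k : ℕ) (hr : 0 < r) (z : F) (a b : Fin (r * k)) :
    shiftZ (r * k) r z a b = if a = sF r k hr b then cF r z b else 0 := by
  rw [shiftZ_eq]
  have : (a : ℕ) = sN r b ↔ a = sF r k hr b := by
    constructor
    · intro h
      exact Fin.ext h
    · intro h
      rw [h]
      rfl
  simp only [this]
  rfl

theorem mulVec_sF (r k : ℕ) (hr : 0 < r) (z : F) (u : Fin (r * k) → F) (b : Fin (r * k)) :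
    (shiftZ (r * k) r z *ᵥ u) (sF r k hr b) = cF r z b * u b := by
  rw [Matrix.mulVec, dotProduct, Finset.sum_eq_single b]
  · rw [shiftZ_eq' r k hr, if_pos rfl]
  · intro b' _ hb'
    rw [shiftZ_eq' r k hr, if_neg (fun h => hb' (sF_injective r k hr h).symm), zero_mul]
  · intro h0
    exact absurd (Finset.mem_univ _) h0

theorem cF_pow {q : ℕ} (r : ℕ) (z : F) (hz : z ^ (q + 1) = 1) (b : ℕ) :
    cF r z b ^ (q + 1) = 1 := by
  unfold cF
  split_ifs
  · exact one_pow _
  · exact hz

theorem isUn (q r k : ℕ) (hr : 0 < r) (z : F) (hz : z ^ (q + 1) = 1) :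
    IsUn q (shiftZ (r * k) r z) := by
  intro u v
  unfold Cfsg.hermForm
  have hbij : Function.Bijective (sF r k hr) :=
    Finite.injective_iff_bijective.mp (sF_injective r k hr)
  rw [← hbij.sum_comp]
  apply Finset.sum_congr rfl
  intro b _
  rw [mulVec_sF, mulVec_sF, mul_pow]
  have := cF_pow (q := q) r z hz b
  rw [pow_succ] at this
  linear_combination (u b * v b ^ q) * this

/-- the target of the `j`-th power -/
def tgt (r j b : ℕ) : ℕ := if b % r + j < r then b + j else b + j - r

/-- the coefficient of the `j`-th power -/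
def coef (r : ℕ) (z : F) (j b : ℕ) : F := if b % r + j < r then 1 else z

theorem tgt_lt {r k j b : ℕ} (hr : 0 < r) (hj : j ≤ r) (hb : b < r * k) : tgt r j b < r * k := by
  unfold tgt
  split_ifs with h
  · have h1 : b / r < k := Nat.div_lt_of_lt_mul hb
    have h2 := Nat.div_add_mod b r
    have h3 : r * (b / r + 1) ≤ r * k := Nat.mul_le_mul_left r h1
    rw [Nat.mul_add, Nat.mul_one] at h3
    omega
  · omega

theorem tgt_mod {r j b : ℕ} (hr : 0 < r) (hj : j ≤ r) :
    (tgt r j b) % r = if b % r + j < r then b % r + j else b % r + j - r := by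
  have hi : b % r < r := Nat.mod_lt _ hr
  have hdm := Nat.div_add_mod b r
  unfold tgt
  by_cases h1 : b % r + j < r
  · rw [if_pos h1, if_pos h1]
    have : b + j = (b % r + j) + r * (b / r) := by omega
    rw [this, Nat.add_mul_mod_self_left, Nat.mod_eq_of_lt h1]
  · rw [if_neg h1, if_neg h1]
    have : b + j - r = (b % r + j - r) + r * (b / r) := by omega
    rw [this, Nat.add_mul_mod_self_left, Nat.mod_eq_of_lt (by omega)]

theorem step_tgt {r j b : ℕ} (hr : 0 < r) (hj : j + 1 ≤ r) :
    sN r (tgt r j b) = tgt r (j + 1) b := by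
  have hi : b % r < r := Nat.mod_lt _ hr
  have hle : b % r ≤ b := Nat.mod_le _ _
  unfold sN
  rw [tgt_mod hr (by omega)]
  unfold tgt
  split_ifs <;> omega

theorem step_coef {r j b : ℕ} (hr : 0 < r) (hj : j + 1 ≤ r) (z : F) :
    cF r z (tgt r j b) * coef r z j b = coef r z (j + 1) b := by
  have hi : b % r < r := Nat.mod_lt _ hr
  unfold cF coef
  rw [tgt_mod hr (by omega)]
  by_cases h1 : b % r + j < r
  · rw [if_pos h1, if_pos h1, mul_one]
    by_cases h2 : b % r + j + 1 < r
    · rw [if_pos h2, if_pos (by omega)]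
    · rw [if_neg h2, if_neg (by omega)]
  · rw [if_neg h1, if_neg h1, if_pos (by omega), if_neg (by omega), one_mul]

/-- the powers of `shiftZ` -/
theorem pow_apply (r k : ℕ) (hr : 0 < r) (z : F) (j : ℕ) (hj : j ≤ r) (a b : Fin (r * k)) :
    (shiftZ (r * k) r z ^ j) a b = if (a : ℕ) = tgt r j b then coef r z j b else 0 := by
  induction j generalizing a with
  | zero =>
    rw [pow_zero, Matrix.one_apply]
    have hi : (b : ℕ) % r + 0 < r := Nat.mod_lt _ hr
    unfold tgt coef
    rw [if_pos hi, if_pos hi, add_zero]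
    by_cases hab : a = b
    · rw [if_pos hab, if_pos (by rw [hab])]
    · rw [if_neg hab, if_neg (fun h => hab (Fin.ext h))]
  | succ j ih =>
    rw [pow_succ', Matrix.mul_apply]
    have hj' : j ≤ r := by omega
    rw [Finset.sum_eq_single (⟨tgt r j b, tgt_lt hr hj' b.2⟩ : Fin (r * k))]
    · rw [ih hj', if_pos rfl, shiftZ_eq]
      have h1 := step_tgt (b := (b : ℕ)) hr hj
      have h2 := step_coef (b := (b : ℕ)) hr hj z
      show (if (a : ℕ) = sN r (tgt r j b) then cF r z (tgt r j b) else 0) * coef r z j b = _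
      rw [h1]
      split_ifs
      · exact h2
      · rw [zero_mul]
    · intro c _ hc
      rw [ih hj', if_neg (fun h => hc (Fin.ext h)), mul_zero]
    · intro h0
      exact absurd (Finset.mem_univ _) h0

theorem pow_r (r k : ℕ) (hr : 0 < r) (z : F) :
    shiftZ (r * k) r z ^ r = z • (1 : Matrix (Fin (r * k)) (Fin (r * k)) F) := by
  ext a b
  rw [pow_apply r k hr z r le_rfl, Matrix.smul_apply, Matrix.one_apply, smul_eq_mul]
  have htgt : tgt r r (b : ℕ) = b := by
    unfold tgt
    rw [if_neg (by omega)]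
    omega
  have hcoef : coef r z r (b : ℕ) = z := by
    unfold coef
    rw [if_neg (by omega)]
  rw [htgt, hcoef]
  by_cases hab : a = b
  · rw [if_pos hab, if_pos (by rw [hab]), mul_one]
  · rw [if_neg hab, if_neg (fun h => hab (Fin.ext h)), mul_zero]

/-- the number of columns with coefficient `z` -/
theorem prod_cF (r k : ℕ) (hr : 0 < r) (z : F) :
    ∏ b : Fin (r * k), cF r z b = z ^ k := by
  classical
  unfold cF
  rw [Finset.prod_ite, Finset.prod_const_one, one_mul, Finset.prod_const]
  congr 1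
  -- the columns `r t + (r - 1)`
  have hcard : (Finset.univ.filter (fun b : Fin (r * k) => ¬ ((b : ℕ) % r + 1 < r))).card =
      (Finset.univ : Finset (Fin k)).card := by
    symm
    apply Finset.card_bij (fun (t : Fin k) _ => (⟨r * t + (r - 1), by
      have h1 : (t : ℕ) + 1 ≤ k := t.2
      have h3 : r * (t + 1) ≤ r * k := Nat.mul_le_mul_left r h1
      rw [Nat.mul_add, Nat.mul_one] at h3
      omega⟩ : Fin (r * k)))
    · intro t _
      rw [Finset.mem_filter]
      refine ⟨Finset.mem_univ _, ?_⟩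
      show ¬ ((r * t + (r - 1)) % r + 1 < r)
      have : (r * (t : ℕ) + (r - 1)) % r = r - 1 := by
        rw [Nat.mul_add_mod]
        exact Nat.mod_eq_of_lt (by omega)
      rw [this]
      omega
    · intro t _ t' _ h
      have h1 : r * (t : ℕ) + (r - 1) = r * (t' : ℕ) + (r - 1) := congrArg Fin.val h
      have h2 : r * (t : ℕ) = r * (t' : ℕ) := by omega
      exact Fin.ext (Nat.eq_of_mul_eq_mul_left hr h2)
    · intro b hb
      rw [Finset.mem_filter] at hb
      have hb2 := hb.2
      have hi : (b : ℕ) % r < r := Nat.mod_lt _ hr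
      have hdm := Nat.div_add_mod (b : ℕ) r
      have h1 : (b : ℕ) / r < k := Nat.div_lt_of_lt_mul b.2
      refine ⟨⟨(b : ℕ) / r, h1⟩, Finset.mem_univ _, ?_⟩
      apply Fin.ext
      show r * ((b : ℕ) / r) + (r - 1) = b
      omega
  rw [hcard, Finset.card_univ, Fintype.card_fin]

theorem det_eq (r k : ℕ) (hr : 0 < r) (hodd : Odd r) (z : F) :
    (shiftZ (r * k) r z).det = z ^ k := by
  -- `shiftZ z = shiftZ 1 * diagonal c`
  have hfac : shiftZ (r * k) r z = shiftZ (r * k) r (1 : F) * Matrix.diagonal (fun b : Fin (r * k) => cF r z (b : ℕ)) := by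
    ext a b
    rw [Matrix.mul_diagonal, shiftZ_eq' r k hr, shiftZ_eq' r k hr]
    split_ifs with h
    · have : cF r (1 : F) (b : ℕ) = 1 := by
        unfold cF
        split_ifs <;> rfl
      rw [this, one_mul]
    · rw [zero_mul]
  -- `det (shiftZ 1) = 1`
  have h1 : (shiftZ (r * k) r (1 : F)).det ^ r = 1 := by
    rw [← Matrix.det_pow, pow_r r k hr, one_smul, Matrix.det_one]
  have h2 : (shiftZ (r * k) r (1 : F)).det ^ 2 = 1 := by
    have horth : (shiftZ (r * k) r (1 : F))ᵀ * shiftZ (r * k) r (1 : F) = 1 := by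
      ext b b'
      rw [Matrix.mul_apply, Matrix.one_apply]
      rw [Finset.sum_eq_single (sF r k hr b)]
      · rw [Matrix.transpose_apply, shiftZ_eq' r k hr, if_pos rfl, shiftZ_eq' r k hr]
        have hc : ∀ c : ℕ, cF r (1 : F) c = 1 := by
          intro c
          unfold cF
          split_ifs <;> rfl
        rw [hc, hc, one_mul]
        by_cases hbb : b = b'
        · rw [if_pos hbb, if_pos (by rw [hbb])]
        · rw [if_neg hbb, if_neg (fun h => hbb (sF_injective r k hr h))]
      · intro a _ ha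
        rw [Matrix.transpose_apply, shiftZ_eq' r k hr, if_neg ha, zero_mul]
      · intro h0
        exact absurd (Finset.mem_univ _) h0
    have := congrArg Matrix.det horth
    rw [Matrix.det_mul, Matrix.det_transpose, Matrix.det_one] at this
    rw [pow_two]
    exact this
  have h3 : (shiftZ (r * k) r (1 : F)).det = 1 := by
    generalize (shiftZ (r * k) r (1 : F)).det = d at h1 h2
    obtain ⟨j, hj⟩ := hodd
    have : d ^ r = d := by
      rw [hj, pow_succ, pow_mul, h2, one_pow, one_mul]
    rw [← this, h1]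
  rw [hfac, Matrix.det_mul, h3, one_mul, Matrix.det_diagonal, prod_cF r k hr]

theorem not_scalar (r k : ℕ) (hr : 2 ≤ r) (hk : 1 ≤ k) (z : F) (hz : z ≠ 0) (c : F) :
    shiftZ (r * k) r z ≠ c • 1 := by
  intro h
  have hr0 : 0 < r := by omega
  have hn : 0 < r * k := Nat.mul_pos hr0 (by omega)
  let b : Fin (r * k) := ⟨0, hn⟩
  have h1 := congrFun (congrFun h (sF r k hr0 b)) b
  rw [shiftZ_eq' r k hr0, if_pos rfl, Matrix.smul_apply, Matrix.one_apply] at h1
  have hne : sF r k hr0 b ≠ b := by
    intro h2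
    have h3 : sN r 0 = 0 := congrArg Fin.val h2
    unfold sN at h3
    rw [Nat.zero_mod, if_pos (by omega)] at h3
    omega
  rw [if_neg hne, smul_zero] at h1
  unfold cF at h1
  split_ifs at h1
  · exact one_ne_zero h1
  · exact hz h1

end SHIFTZ1

/-- SHIFTZ1 -/
theorem shiftZ_facts {F : Type*} [Field F] {q : ℕ} (r k : ℕ) (hr : 2 ≤ r) (z : F)
    (hz : z ^ (q + 1) = 1) :
    IsUn q (shiftZ (r * k) r z) ∧ (shiftZ (r * k) r z) ^ r = z • 1 ∧
    (Odd r → (shiftZ (r * k) r z).det = z ^ k) ∧
    (1 ≤ k → ∀ c : F, shiftZ (r * k) r z ≠ c • 1) := by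
  have hr0 : 0 < r := by omega
  have hz0 : z ≠ 0 := by
    intro h
    rw [h, zero_pow (by omega)] at hz
    exact zero_ne_one hz
  exact ⟨SHIFTZ1.isUn q r k hr0 z hz, SHIFTZ1.pow_r r k hr0 z,
    fun hodd => SHIFTZ1.det_eq r k hr0 hodd z,
    fun hk c => SHIFTZ1.not_scalar r k hr hk z hz0 c⟩

end Cfsg.Agent.S5953P
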