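import Mathlib
import Cfsg.Prelude.Def_Classical
import Cfsg.Agent.Helper23.S5953Defs
import Cfsg.Agent.Helper28.Norm
import Cfsg.Agent.Helper28.Herm
import Cfsg.Agent.Helper28.S5953SHIFTZ1

/-! S5953, piece SHIFTZ2: an invariant totally isotropic subspace of the monomial matrix
`shiftZ (r * k) r z`: the span of the `e_(2 t r + a) + ε e_((2 t + 1) r + a)`, `ε ^ (q + 1) = -1`. -/

set_option autoImplicit false
open scoped MatrixGroups Matrix

universe u

namespace Cfsg.Agent.S5953P

open Polynomial Cfsg.Agent.S5955P Cfsg.Agent.Helper28.HW Cfsg.Agent.Helper28.HermFrame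

namespace SHIFTZ2

open SHIFTZ1

variable {F : Type*} [Field F]

/-- the standard basis vectors, indexed by natural numbers -/
def dl (n N : ℕ) : Fin n → F := fun b => if (b : ℕ) = N then 1 else 0

theorem hB_dl (σ : F →+* F) (n N N' : ℕ) :
    hB σ n (dl n N) (dl n N') = if N = N' ∧ N < n then 1 else 0 := by
  rw [hB_apply]
  by_cases h : N = N' ∧ N < n
  · rw [if_pos h]
    obtain ⟨rfl, hN⟩ := h
    rw [Finset.sum_eq_single (⟨N, hN⟩ : Fin n)]
    · unfold dl
      rw [if_pos rfl, map_one, mul_one]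
    · intro b _ hb
      unfold dl
      rw [if_neg (fun h => hb (Fin.ext h)), zero_mul]
    · intro h0
      exact absurd (Finset.mem_univ _) h0
  · rw [if_neg h]
    apply Finset.sum_eq_zero
    intro b _
    unfold dl
    by_cases hb : (b : ℕ) = N
    · rw [if_pos hb]
      by_cases hb' : (b : ℕ) = N'
      · exfalso
        apply h
        exact ⟨by rw [← hb, hb'], by rw [← hb]; exact b.2⟩
      · rw [if_neg hb', zero_mul]
    · rw [if_neg hb, map_zero, mul_zero]

/-- uniqueness of the block decomposition -/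
theorem block_unique {r s s' a a' : ℕ} (ha : a < r) (ha' : a' < r)
    (h : s * r + a = s' * r + a') : s = s' ∧ a = a' := by
  have h1 : (s * r + a) % r = a := by
    rw [Nat.add_comm, Nat.add_mul_mod_self_right, Nat.mod_eq_of_lt ha]
  have h2 : (s' * r + a') % r = a' := by
    rw [Nat.add_comm, Nat.add_mul_mod_self_right, Nat.mod_eq_of_lt ha']
  have h3 : a = a' := by rw [← h1, h, h2]
  refine ⟨?_, h3⟩
  rw [h3] at h
  have h4 : s * r = s' * r := Nat.add_right_cancel h
  exact Nat.eq_of_mul_eq_mul_right (by omega) h4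

/-- the generators -/
def gv (r n : ℕ) (ε : F) (t a : ℕ) : Fin n → F :=
  dl n (2 * t * r + a) + ε • dl n ((2 * t + 1) * r + a)

theorem pos_lt {r k j₀ t a : ℕ} (hj : 2 * j₀ ≤ k) (ht : t < j₀) (ha : a < r) :
    (2 * t + 1) * r + a < r * k := by
  have h1 : 2 * t + 2 ≤ k := by omega
  have h2 : r * (2 * t + 2) ≤ r * k := Nat.mul_le_mul_left r h1
  have h3 : r * (2 * t + 2) = (2 * t + 1) * r + r := by ring
  omega

theorem pos_lt' {r k j₀ t a : ℕ} (hj : 2 * j₀ ≤ k) (ht : t < j₀) (ha : a < r) :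
    2 * t * r + a < r * k := by
  have := pos_lt hj ht ha
  have h3 : (2 * t + 1) * r = 2 * t * r + r := by ring
  omega

theorem hB_dl_gv (σ : F →+* F) {r k j₀ : ℕ} (hj : 2 * j₀ ≤ k) (ε : F) {t a t' a' : ℕ}
    (ht : t < j₀) (ha : a < r) (ha' : a' < r) :
    hB σ (r * k) (dl (r * k) (2 * t * r + a)) (gv r (r * k) ε t' a') =
      if t = t' ∧ a = a' then 1 else 0 := by
  unfold gv
  rw [map_add, map_smul, hB_dl, hB_dl, smul_eq_mul]
  have hne : ¬ (2 * t * r + a = (2 * t' + 1) * r + a' ∧ 2 * t * r + a < r * k) := by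
    intro h
    have := (block_unique ha ha' h.1).1
    omega
  rw [if_neg hne, mul_zero, add_zero]
  by_cases h : t = t' ∧ a = a'
  · rw [if_pos h, if_pos ⟨by rw [h.1, h.2], pos_lt' hj ht ha⟩]
  · rw [if_neg h, if_neg]
    intro h2
    apply h
    have := block_unique ha ha' h2.1
    exact ⟨by omega, this.2⟩

theorem hB_dl'_gv (σ : F →+* F) {r k j₀ : ℕ} (hj : 2 * j₀ ≤ k) (ε : F) {t a t' a' : ℕ}
    (ht : t < j₀) (ha : a < r) (ha' : a' < r) :
    hB σ (r * k) (dl (r * k) ((2 * t + 1) * r + a)) (gv r (r * k) ε t' a') =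
      if t = t' ∧ a = a' then ε else 0 := by
  unfold gv
  rw [map_add, map_smul, hB_dl, hB_dl, smul_eq_mul]
  have hne : ¬ ((2 * t + 1) * r + a = 2 * t' * r + a' ∧ (2 * t + 1) * r + a < r * k) := by
    intro h
    have := (block_unique ha ha' h.1).1
    omega
  rw [if_neg hne, zero_add]
  by_cases h : t = t' ∧ a = a'
  · rw [if_pos h, if_pos ⟨by rw [h.1, h.2], pos_lt hj ht ha⟩, mul_one]
  · rw [if_neg h, if_neg, mul_zero]
    intro h2
    apply h
    have := block_unique ha ha' h2.1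
    exact ⟨by omega, this.2⟩

theorem hB_gv_gv (σ : F →+* F) {r k j₀ : ℕ} (hj : 2 * j₀ ≤ k) (ε : F) (hε : ε * σ ε = -1)
    {t a t' a' : ℕ} (ht : t < j₀) (ha : a < r) (ha' : a' < r) :
    hB σ (r * k) (gv r (r * k) ε t a) (gv r (r * k) ε t' a') = 0 := by
  have h1 := hB_dl_gv σ hj ε (t' := t') (a' := a') ht ha ha'
  have h2 := hB_dl'_gv σ hj ε (t' := t') (a' := a') ht ha ha'
  have e : gv r (r * k) ε t a =
      dl (r * k) (2 * t * r + a) + ε • dl (r * k) ((2 * t + 1) * r + a) := rfl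
  rw [e, map_add, LinearMap.add_apply, map_smulₛₗ, LinearMap.smul_apply, smul_eq_mul, h1, h2]
  by_cases h : t = t' ∧ a = a'
  · rw [if_pos h, if_pos h]
    linear_combination (hε : ε * σ ε = -1)
  · rw [if_neg h, if_neg h, mul_zero, add_zero]

/-- the columns of `shiftZ` -/
theorem mulVec_dl (r k : ℕ) (_hr : 0 < r) (z : F) {N : ℕ} (hN : N < r * k) :
    shiftZ (r * k) r z *ᵥ dl (r * k) N = cF r z N • dl (r * k) (sN r N) := by
  funext a
  rw [Matrix.mulVec, dotProduct, Finset.sum_eq_single (⟨N, hN⟩ : Fin (r * k))]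
  · unfold dl
    rw [if_pos rfl, mul_one, shiftZ_eq, Pi.smul_apply, smul_eq_mul]
    show (if (a : ℕ) = sN r N then (if N % r + 1 < r then 1 else z) else 0) = _
    unfold cF
    split_ifs <;> simp
  · intro b _ hb
    unfold dl
    rw [if_neg (fun h => hb (Fin.ext h)), mul_zero]
  · intro h0
    exact absurd (Finset.mem_univ _) h0

theorem mulVec_gv (r k : ℕ) (hr : 0 < r) (z ε : F) {j₀ t a : ℕ} (hj : 2 * j₀ ≤ k) (ht : t < j₀)
    (ha : a < r) :
    shiftZ (r * k) r z *ᵥ gv r (r * k) ε t a =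
      if a + 1 < r then gv r (r * k) ε t (a + 1) else z • gv r (r * k) ε t 0 := by
  have hm0 : (2 * t * r + a) % r = a := by
    rw [Nat.add_comm, Nat.add_mul_mod_self_right, Nat.mod_eq_of_lt ha]
  have hm1 : ((2 * t + 1) * r + a) % r = a := by
    rw [Nat.add_comm, Nat.add_mul_mod_self_right, Nat.mod_eq_of_lt ha]
  have e : gv r (r * k) ε t a =
      dl (r * k) (2 * t * r + a) + ε • dl (r * k) ((2 * t + 1) * r + a) := rfl
  rw [e, Matrix.mulVec_add, Matrix.mulVec_smul, mulVec_dl r k hr z (pos_lt' hj ht ha),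
    mulVec_dl r k hr z (pos_lt hj ht ha)]
  by_cases h : a + 1 < r
  · have c0 : cF r z (2 * t * r + a) = 1 := by unfold cF; rw [hm0, if_pos h]
    have c1 : cF r z ((2 * t + 1) * r + a) = 1 := by unfold cF; rw [hm1, if_pos h]
    have s0 : sN r (2 * t * r + a) = 2 * t * r + (a + 1) := by
      unfold sN; rw [hm0, if_pos h, Nat.add_assoc]
    have s1 : sN r ((2 * t + 1) * r + a) = (2 * t + 1) * r + (a + 1) := by
      unfold sN; rw [hm1, if_pos h, Nat.add_assoc]
    rw [if_pos h, c0, c1, s0, s1, one_smul, one_smul]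
    rfl
  · have c0 : cF r z (2 * t * r + a) = z := by unfold cF; rw [hm0, if_neg h]
    have c1 : cF r z ((2 * t + 1) * r + a) = z := by unfold cF; rw [hm1, if_neg h]
    have s0 : sN r (2 * t * r + a) = 2 * t * r + 0 := by
      unfold sN; rw [hm0, if_neg h]; omega
    have s1 : sN r ((2 * t + 1) * r + a) = (2 * t + 1) * r + 0 := by
      unfold sN; rw [hm1, if_neg h]; omega
    rw [if_neg h, c0, c1, s0, s1]
    have e' : gv r (r * k) ε t 0 =
      dl (r * k) (2 * t * r + 0) + ε • dl (r * k) ((2 * t + 1) * r + 0) := rfl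
    rw [e', smul_add, smul_comm ε z]

end SHIFTZ2

open SHIFTZ1 SHIFTZ2 in
/-- SHIFTZ2 -/
theorem shiftZ_ti {F : Type*} [Field F] [Fintype F] {q : ℕ} (hF : Fintype.card F = q ^ 2)
    (r k : ℕ) (hr : 2 ≤ r) (z : F) (j₀ : ℕ) (hj : 2 * j₀ ≤ k) :
    ∃ W : Submodule F (Fin (r * k) → F), Module.finrank F ↥W = r * j₀ ∧
      (∀ u ∈ W, ∀ v ∈ W, Cfsg.hermForm (r * k) F q u v = 0) ∧
      W.map (Matrix.toLin' (shiftZ (r * k) r z)) ≤ W := by
  classical
  have hr0 : 0 < r := by omega
  obtain ⟨σ, hσ, hσ2⟩ := Cfsg.Agent.Helper28.exists_frob hF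
  have hherm : IsHerm q (hB σ (r * k)) := hB_isHerm σ hF hσ (r * k)
  obtain ⟨ε, hε⟩ := Cfsg.Agent.Helper28.exists_norm_eq σ hherm.ne_id hσ2 (-1 : F)
    (neg_ne_zero.mpr one_ne_zero) (by rw [map_neg, map_one])
  set g : Fin j₀ × Fin r → (Fin (r * k) → F) := fun i => gv r (r * k) ε i.1 i.2 with hg
  have hgg : ∀ i i', hB σ (r * k) (g i) (g i') = 0 := fun i i' =>
    hB_gv_gv σ hj ε hε i.1.2 i.2.2 i'.2.2
  have hli : LinearIndependent F g := by
    rw [Fintype.linearIndependent_iff]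
    intro c hc i
    have h1 : hB σ (r * k) (dl (r * k) (2 * (i.1 : ℕ) * r + (i.2 : ℕ))) (∑ i', c i' • g i') =
        c i := by
      rw [map_sum]
      simp only [map_smul, smul_eq_mul]
      rw [Finset.sum_eq_single i]
      · rw [hg]
        show c i * hB σ (r * k) _ (gv r (r * k) ε i.1 i.2) = _
        rw [hB_dl_gv σ hj ε i.1.2 i.2.2 i.2.2, if_pos ⟨rfl, rfl⟩, mul_one]
      · intro i' _ hi'
        show c i' * hB σ (r * k) _ (gv r (r * k) ε i'.1 i'.2) = _
        rw [hB_dl_gv σ hj ε i.1.2 i.2.2 i'.2.2, if_neg, mul_zero]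
        intro h
        apply hi'
        exact Prod.ext (Fin.ext h.1.symm) (Fin.ext h.2.symm)
      · intro h0
        exact absurd (Finset.mem_univ _) h0
    rw [hc, map_zero] at h1
    exact h1.symm
  refine ⟨Submodule.span F (Set.range g), ?_, ?_, ?_⟩
  · rw [finrank_span_eq_card hli, Fintype.card_prod, Fintype.card_fin, Fintype.card_fin,
      Nat.mul_comm]
  · -- totally isotropic
    have hspan : ∀ u ∈ Submodule.span F (Set.range g), ∀ v ∈ Submodule.span F (Set.range g),
        hB σ (r * k) u v = 0 := by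
      intro u hu v hv
      induction hu using Submodule.span_induction with
      | mem u hu =>
        obtain ⟨i, rfl⟩ := hu
        induction hv using Submodule.span_induction with
        | mem v hv =>
          obtain ⟨i', rfl⟩ := hv
          exact hgg i i'
        | zero => rw [map_zero]
        | add a b _ _ ha hb => rw [map_add, ha, hb, add_zero]
        | smul c a _ ha => rw [map_smul, ha, smul_zero]
      | zero => rw [map_zero, LinearMap.zero_apply]
      | add a b _ _ ha hb => rw [map_add, LinearMap.add_apply, ha, hb, add_zero]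
      | smul c a _ ha => rw [map_smulₛₗ, LinearMap.smul_apply, ha, smul_zero]
    intro u hu v hv
    rw [← hB_herm σ hσ]
    exact hspan v hv u hu
  · -- invariant
    rw [Submodule.map_span_le]
    rintro _ ⟨i, rfl⟩
    rw [Matrix.toLin'_apply]
    show shiftZ (r * k) r z *ᵥ gv r (r * k) ε i.1 i.2 ∈ _
    rw [mulVec_gv r k hr0 z ε hj i.1.2 i.2.2]
    split_ifs with h
    · exact Submodule.subset_span ⟨(i.1, ⟨(i.2 : ℕ) + 1, h⟩), rfl⟩
    · exact Submodule.smul_mem _ _ (Submodule.subset_span ⟨(i.1, ⟨0, hr0⟩), rfl⟩)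

end Cfsg.Agent.S5953P
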