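import Mathlib
import Cfsg.Agent.Helper10.SwDefs

/-!
# S3211 pieces UBN / LBN: auxiliary counting lemmas and `τ`-calculus (helper28)
-/

set_option autoImplicit false

namespace Cfsg.Agent.Helper28.Sw

open Cfsg.Agent.Helper10.Sw

/-- A fixed-point-free self-map `σ` of `s` along which `f` is constant forces fibres of size `≥ 2`. -/
theorem two_mul_card_image_le {α β : Type*} [DecidableEq α] [DecidableEq β] (s : Finset α)
    (f : α → β) (σ : α → α) (hσ : ∀ x ∈ s, σ x ∈ s) (hne : ∀ x ∈ s, σ x ≠ x)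
    (hf : ∀ x ∈ s, f (σ x) = f x) : 2 * (s.image f).card ≤ s.card := by
  rw [Finset.card_eq_sum_card_image f s, mul_comm]
  have := Finset.card_nsmul_le_sum (s.image f) (fun b => (s.filter fun a => f a = b).card) 2 ?_
  · simpa [smul_eq_mul] using this
  · intro b hb
    obtain ⟨x, hx, rfl⟩ := Finset.mem_image.mp hb
    have : 1 < (s.filter fun a => f a = f x).card := by
      rw [Finset.one_lt_card]
      exact ⟨σ x, by simp [hσ x hx, hf x hx], x, by simp [hx], hne x hx⟩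
    omega

theorem two_mul_ncard_image_le {α β : Type*} (s : Set α) (hs : s.Finite)
    (f : α → β) (σ : α → α) (hσ : ∀ x ∈ s, σ x ∈ s) (hne : ∀ x ∈ s, σ x ≠ x)
    (hf : ∀ x ∈ s, f (σ x) = f x) : 2 * (f '' s).ncard ≤ s.ncard := by
  classical
  have h1 := two_mul_card_image_le hs.toFinset f σ (by simpa using hσ) (by simpa using hne)
    (by simpa using hf)
  have h2 : (f '' s).ncard = (hs.toFinset.image f).card := by
    rw [← Set.ncard_coe_finset]; congr 1; simp
  rw [h2, Set.ncard_eq_toFinset_card s hs]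
  exact h1

/-- If all fibres of `f` on `s` lie in a set `{p, q}`, then `#s ≤ 2 * #f(s)`. -/
theorem ncard_le_two_mul_ncard_image {α β : Type*} (s : Set α) (hs : s.Finite)
    (f : α → β) (σ : α → α)
    (hfib : ∀ x ∈ s, ∀ y ∈ s, f x = f y → y = x ∨ y = σ x) :
    s.ncard ≤ 2 * (f '' s).ncard := by
  classical
  have h2 : (f '' s).ncard = (hs.toFinset.image f).card := by
    rw [← Set.ncard_coe_finset]; congr 1; simp
  rw [h2, Set.ncard_eq_toFinset_card s hs]
  apply Finset.card_le_mul_card_image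
  intro b hb
  obtain ⟨x, hx, rfl⟩ := Finset.mem_image.mp hb
  have hx' : x ∈ s := by simpa using hx
  have : (hs.toFinset.filter fun y => f y = f x) ⊆ {x, σ x} := by
    intro y hy
    rw [Finset.mem_filter] at hy
    have hy' : y ∈ s := by simpa using hy.1
    rcases hfib x hx' y hy' hy.2.symm with h | h
    · simp [h]
    · simp [h]
  exact (Finset.card_le_card this).trans Finset.card_le_two

variable {G : Type*} [Group G] {L₁ L₂ : Subgroup G} {j n : G}

/-- `z ∈ {1, j}` is fixed by `τ`. -/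
theorem tau_z (h : Cfg L₁ L₂ j n) {z : G} (hz : z = 1 ∨ z = j) : n * z * n⁻¹ = z := by
  rcases hz with rfl | rfl
  · simp
  · exact h.tau_j

theorem z_sq (h : Cfg L₁ L₂ j n) {z : G} (hz : z = 1 ∨ z = j) : z * z = 1 := by
  rcases hz with rfl | rfl
  · simp
  · exact h.j_sq

theorem z_mem₁ (h : Cfg L₁ L₂ j n) {z : G} (hz : z = 1 ∨ z = j) : z ∈ L₁ := by
  rcases hz with rfl | rfl
  · exact L₁.one_mem
  · exact h.j_mem₁

theorem z_mem₂ (h : Cfg L₁ L₂ j n) {z : G} (hz : z = 1 ∨ z = j) : z ∈ L₂ := by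
  rcases hz with rfl | rfl
  · exact L₂.one_mem
  · exact h.j_mem₂

/-- `z ∈ {1,j}` commutes with everything in `L₁`. -/
theorem z_comm₁ (h : Cfg L₁ L₂ j n) {z x : G} (hz : z = 1 ∨ z = j) (hx : x ∈ L₁) :
    x * z = z * x := h.comm x hx z (z_mem₂ h hz)

theorem z_comm₂ (h : Cfg L₁ L₂ j n) {z y : G} (hz : z = 1 ∨ z = j) (hy : y ∈ L₂) :
    y * z = z * y := (h.comm z (z_mem₁ h hz) y hy).symm

/-- The key square formula: `(x y n)² = (x τ(y)) ((y τ(x)) j)`. -/
theorem sq_formula (h : Cfg L₁ L₂ j n) {x y : G} (_hx : x ∈ L₁) (hy : y ∈ L₂) :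
    (x * y * n) * (x * y * n) = (x * (n * y * n⁻¹)) * ((y * (n * x * n⁻¹)) * j) := by
  have hx2 : n * x * n⁻¹ ∈ L₂ := h.swap₁ x _hx
  have hy1 : n * y * n⁻¹ ∈ L₁ := h.swap₂ y hy
  have hc : (n * y * n⁻¹) * (y * (n * x * n⁻¹)) = (y * (n * x * n⁻¹)) * (n * y * n⁻¹) :=
    h.comm _ hy1 _ (L₂.mul_mem hy hx2)
  calc (x * y * n) * (x * y * n)
      = x * ((y * (n * x * n⁻¹)) * (n * y * n⁻¹)) * (n * n) := by group
    _ = x * ((n * y * n⁻¹) * (y * (n * x * n⁻¹))) * (n * n) := by rw [hc]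
    _ = (x * (n * y * n⁻¹)) * ((y * (n * x * n⁻¹)) * j) := by rw [h.n_sq]; group

end Cfsg.Agent.Helper28.Sw
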