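import Mathlib
import Cfsg.Agent.Helper10.SwDefs
import Cfsg.Agent.Helper28.SwAux

/-!
# S3211 piece LBN (helper28): at least `2 #K(a)` elements `m ∈ M n ∩ C(a b)` with `m² = j`
-/

set_option autoImplicit false

namespace Cfsg.Agent.Helper28.Sw

open Cfsg.Agent.Helper10.Sw

variable {G : Type*} [Group G] {L₁ L₂ : Subgroup G} {j n : G}

/-- the parametrisation `(x, z) ↦ x τ(x)⁻¹ z n`. -/
def fL (n : G) (p : G × G) : G :=
  p.1 * (n * p.1 * n⁻¹)⁻¹ * p.2 * n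

theorem conj_inv' (n A : G) : n * A⁻¹ * n⁻¹ = (n * A * n⁻¹)⁻¹ := by group

theorem conj_mul' (n A B : G) : n * (A * B) * n⁻¹ = (n * A * n⁻¹) * (n * B * n⁻¹) := by group

/-- `K(a)` embeds in `{x ∈ L₁ | x⁻¹ a x = t}` as soon as the latter is nonempty. -/
theorem ncard_cent_le [Finite G] {a t x₀ : G} (hx₀ : x₀ ∈ L₁) (hx₀a : x₀⁻¹ * a * x₀ = t) :
    ({x : G | x ∈ L₁ ∧ x * a = a * x}).ncard ≤ ({x : G | x ∈ L₁ ∧ x⁻¹ * a * x = t}).ncard := by
  apply Set.ncard_le_ncard_of_injOn (fun k => k * x₀)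
  · rintro k ⟨hk, hka⟩
    refine ⟨L₁.mul_mem hk hx₀, ?_⟩
    have hk' : k⁻¹ * a * k = a := by
      calc k⁻¹ * a * k = k⁻¹ * (a * k) := by group
        _ = k⁻¹ * (k * a) := by rw [hka]
        _ = a := by group
    calc (k * x₀)⁻¹ * a * (k * x₀) = x₀⁻¹ * (k⁻¹ * a * k) * x₀ := by group
      _ = x₀⁻¹ * a * x₀ := by rw [hk']
      _ = t := hx₀a
  · intro x _ y _ hxy
    exact mul_right_cancel hxy

theorem lbn [Finite G] (h : Cfg L₁ L₂ j n) {a b : G} (ha : a ∈ L₁) (hb : b ∈ L₂)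
    (ha2 : a * a = j) (hb2 : b * b = j) :
    2 * ({x : G | x ∈ L₁ ∧ x * a = a * x}).ncard ≤
      ({m : G | m * n⁻¹ ∈ L₁ ⊔ L₂ ∧ m * (a * b) = (a * b) * m ∧ m * m = j}).ncard := by
  classical
  set t : G := n * b * n⁻¹ with ht
  have ht1 : t ∈ L₁ := h.swap₂ b hb
  have htt : t * t = j := by
    rw [ht, ← conj_mul', hb2]; exact h.tau_j
  have hti1 : t⁻¹ ∈ L₁ := L₁.inv_mem ht1
  have htti : t⁻¹ * t⁻¹ = j := by
    rw [← mul_inv_rev, htt, h.j_inv]
  have htne : t ≠ t⁻¹ := by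
    intro he
    have : t * t = 1 := by nth_rw 2 [he]; exact mul_inv_cancel t
    rw [htt] at this; exact h.j_ne this
  -- τ t = b
  have htaut : n * t * n⁻¹ = b := h.tau_tau (h.j_comm₂ hb)
  -- (a b)² = 1
  have hab : a * b = b * a := h.comm a ha b hb
  have hab2 : (a * b) * (a * b) = 1 := by
    calc (a * b) * (a * b) = a * (b * a) * b := by group
      _ = a * (a * b) * b := by rw [hab]
      _ = (a * a) * (b * b) := by group
      _ = 1 := by rw [ha2, hb2, h.j_sq]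
  have habinv : a⁻¹ * b⁻¹ = a * b := by
    have : (a * b)⁻¹ = a * b := by rw [inv_eq_iff_mul_eq_one]; exact hab2
    rw [← this, mul_inv_rev]
    exact h.comm a⁻¹ (L₁.inv_mem ha) b⁻¹ (L₂.inv_mem hb)
  obtain ⟨y₀, hy₀, hy₀a⟩ := h.conj₁ a ha t ht1 ha2 htt
  obtain ⟨y₁, hy₁, hy₁a⟩ := h.conj₁ a ha t⁻¹ hti1 ha2 htti
  set X₀ : Set G := {x | x ∈ L₁ ∧ x⁻¹ * a * x = t} with hX₀
  set X₁ : Set G := {x | x ∈ L₁ ∧ x⁻¹ * a * x = t⁻¹} with hX₁
  set K : Set G := {x : G | x ∈ L₁ ∧ x * a = a * x} with hK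
  set T : Set G := {m : G | m * n⁻¹ ∈ L₁ ⊔ L₂ ∧ m * (a * b) = (a * b) * m ∧ m * m = j} with hT
  have hK0 : K.ncard ≤ X₀.ncard :=
    ncard_cent_le (x₀ := y₀⁻¹) (L₁.inv_mem hy₀) (by simpa using hy₀a)
  have hK1 : K.ncard ≤ X₁.ncard :=
    ncard_cent_le (x₀ := y₁⁻¹) (L₁.inv_mem hy₁) (by simpa using hy₁a)
  have hdisj : Disjoint X₀ X₁ := by
    rw [Set.disjoint_left]
    rintro x ⟨_, h0⟩ ⟨_, h1⟩
    exact htne (h0.symm.trans h1)
  set D : Set (G × G) := (X₀ ∪ X₁) ×ˢ ({1, j} : Set G) with hD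
  have hDfin : D.Finite := Set.toFinite _
  have hDcard : D.ncard = (X₀.ncard + X₁.ncard) * 2 := by
    rw [hD, Set.ncard_prod, Set.ncard_pair (Ne.symm h.j_ne),
      Set.ncard_union_eq hdisj (Set.toFinite _) (Set.toFinite _)]
  -- the image lies in T
  have himg : fL n '' D ⊆ T := by
    rintro m ⟨⟨x, z⟩, ⟨hxX, hz⟩, rfl⟩
    have hz' : z = 1 ∨ z = j := by simpa using hz
    have hx : x ∈ L₁ := by rcases hxX with hx | hx <;> exact hx.1
    have hx2 : n * x * n⁻¹ ∈ L₂ := h.swap₁ x hx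
    have hw : (n * x * n⁻¹)⁻¹ * z ∈ L₂ := L₂.mul_mem (L₂.inv_mem hx2) (z_mem₂ h hz')
    have hform : fL n (x, z) = x * ((n * x * n⁻¹)⁻¹ * z) * n := by unfold fL; group
    refine ⟨?_, ?_, ?_⟩
    · rw [hform]
      have : x * ((n * x * n⁻¹)⁻¹ * z) * n * n⁻¹ = x * ((n * x * n⁻¹)⁻¹ * z) := by group
      rw [this]
      exact h.mem_sup.mpr ⟨x, hx, _, hw, rfl⟩
    · -- commutes with a b
      have hconj : x * t * x⁻¹ * (n * (x⁻¹ * a * x) * n⁻¹) = a * b := by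
        rcases hxX with ⟨_, hxa⟩ | ⟨_, hxa⟩
        · have e1 : x * t * x⁻¹ = a := by rw [← hxa]; group
          rw [e1, hxa, htaut]
        · have e1 : x * t * x⁻¹ = a⁻¹ := by
            have : x * t⁻¹ * x⁻¹ = a := by rw [← hxa]; group
            rw [← this]; group
          have e2 : n * t⁻¹ * n⁻¹ = b⁻¹ := by rw [conj_inv', htaut]
          rw [e1, hxa, e2, habinv]
      -- m (a b) m⁻¹ = (x t x⁻¹)(τ(x⁻¹ a x))
      have hz1 := z_comm₂ h hz' (h.swap₁ a ha)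
      have hm : fL n (x, z) * (a * b) * (fL n (x, z))⁻¹
          = x * t * x⁻¹ * (n * (x⁻¹ * a * x) * n⁻¹) := by
        rw [hform]
        have e0 : x * ((n * x * n⁻¹)⁻¹ * z) * n * (a * b) * (x * ((n * x * n⁻¹)⁻¹ * z) * n)⁻¹
            = x * ((n * x * n⁻¹)⁻¹ * (z * ((n * a * n⁻¹) * t) * z⁻¹) * (n * x * n⁻¹)) * x⁻¹ := by
          rw [ht]; group
        rw [e0]
        have hz2 : t * z = z * t := z_comm₁ h hz' ht1
        have e1 : z * ((n * a * n⁻¹) * t) * z⁻¹ = (n * a * n⁻¹) * t := by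
          have : z * ((n * a * n⁻¹) * t) = ((n * a * n⁻¹) * t) * z := by
            calc z * ((n * a * n⁻¹) * t) = (z * (n * a * n⁻¹)) * t := by group
              _ = ((n * a * n⁻¹) * z) * t := by rw [hz1]
              _ = (n * a * n⁻¹) * (z * t) := by group
              _ = (n * a * n⁻¹) * (t * z) := by rw [hz2]
              _ = ((n * a * n⁻¹) * t) * z := by group
          rw [this]; group
        rw [e1]
        -- move t (∈ L₁) past L₂ elements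
        have c1 : (n * a * n⁻¹) * t = t * (n * a * n⁻¹) :=
          (h.comm t ht1 _ (h.swap₁ a ha)).symm
        have c2 : (n * x * n⁻¹)⁻¹ * t = t * (n * x * n⁻¹)⁻¹ :=
          (h.comm t ht1 _ (L₂.inv_mem hx2)).symm
        calc x * ((n * x * n⁻¹)⁻¹ * ((n * a * n⁻¹) * t) * (n * x * n⁻¹)) * x⁻¹
            = x * ((n * x * n⁻¹)⁻¹ * (t * (n * a * n⁻¹)) * (n * x * n⁻¹)) * x⁻¹ := by rw [c1]
          _ = x * (((n * x * n⁻¹)⁻¹ * t) * (n * a * n⁻¹) * (n * x * n⁻¹)) * x⁻¹ := by group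
          _ = x * ((t * (n * x * n⁻¹)⁻¹) * (n * a * n⁻¹) * (n * x * n⁻¹)) * x⁻¹ := by rw [c2]
          _ = x * t * ((n * x * n⁻¹)⁻¹ * (n * a * n⁻¹) * (n * x * n⁻¹)) * x⁻¹ := by group
          _ = x * t * x⁻¹ * (x * ((n * x * n⁻¹)⁻¹ * (n * a * n⁻¹) * (n * x * n⁻¹)) * x⁻¹) := by
              group
          _ = x * t * x⁻¹ * (n * (x⁻¹ * a * x) * n⁻¹) := by
              have c3 : x * ((n * x * n⁻¹)⁻¹ * (n * a * n⁻¹) * (n * x * n⁻¹))
                  = ((n * x * n⁻¹)⁻¹ * (n * a * n⁻¹) * (n * x * n⁻¹)) * x :=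
                h.comm x hx _ (L₂.mul_mem (L₂.mul_mem (L₂.inv_mem hx2) (h.swap₁ a ha)) hx2)
              rw [c3]; group
      have : fL n (x, z) * (a * b) * (fL n (x, z))⁻¹ = a * b := hm.trans hconj
      calc fL n (x, z) * (a * b) = (fL n (x, z) * (a * b) * (fL n (x, z))⁻¹) * fL n (x, z) := by
            group
        _ = (a * b) * fL n (x, z) := by rw [this]
    · -- m² = j
      rw [hform]
      have hsq := sq_formula h hx hw
      rw [hsq]
      -- u = x τ(w) = x x⁻¹ z = z ; v = w τ x = τx⁻¹ z τx = z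
      have e1 : n * ((n * x * n⁻¹)⁻¹ * z) * n⁻¹ = x⁻¹ * z := by
        rw [conj_mul', conj_inv', h.tau_tau (h.j_comm₁ hx), tau_z h hz']
      have e2 : (n * x * n⁻¹)⁻¹ * z * (n * x * n⁻¹) = z := by
        rw [mul_assoc, ← z_comm₂ h hz' hx2]; group
      rw [e1, e2]
      have : x * (x⁻¹ * z) * (z * j) = (z * z) * j := by group
      rw [this, z_sq h hz', one_mul]
  -- fibres of size ≤ 2
  have hfib : D.ncard ≤ 2 * (fL n '' D).ncard := by
    apply ncard_le_two_mul_ncard_image D hDfin (fL n) (fun p => (p.1 * j, p.2))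
    rintro ⟨x, z⟩ ⟨hxX, hz⟩ ⟨x', z'⟩ ⟨hxX', hz'⟩ heq
    have hz1 : z = 1 ∨ z = j := by simpa using hz
    have hz1' : z' = 1 ∨ z' = j := by simpa using hz'
    have hx : x ∈ L₁ := by rcases hxX with hx | hx <;> exact hx.1
    have hx' : x' ∈ L₁ := by rcases hxX' with hx | hx <;> exact hx.1
    have hx2 : n * x * n⁻¹ ∈ L₂ := h.swap₁ x hx
    have hx2' : n * x' * n⁻¹ ∈ L₂ := h.swap₁ x' hx'
    have hw : (n * x * n⁻¹)⁻¹ * z ∈ L₂ := L₂.mul_mem (L₂.inv_mem hx2) (z_mem₂ h hz1)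
    have hw' : (n * x' * n⁻¹)⁻¹ * z' ∈ L₂ := L₂.mul_mem (L₂.inv_mem hx2') (z_mem₂ h hz1')
    have heq' : x' * ((n * x' * n⁻¹)⁻¹ * z') = x * ((n * x * n⁻¹)⁻¹ * z) := by
      have : fL n (x', z') = fL n (x, z) := heq.symm
      unfold fL at this
      simp only at this
      have := mul_right_cancel this
      simpa [mul_assoc] using this
    rcases h.split hx' hx hw' hw heq' with ⟨h1, h2⟩ | ⟨h1, h2⟩
    · left
      subst h1
      have := mul_left_cancel h2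
      rw [this]
    · right
      have e1 : n * x' * n⁻¹ = (n * x * n⁻¹) * j := by
        rw [h1, conj_mul', h.tau_j]
      rw [e1, mul_inv_rev, h.j_inv] at h2
      have : z' = z := by
        have h3 : j * ((n * x * n⁻¹)⁻¹ * z') = j * ((n * x * n⁻¹)⁻¹ * z) := by
          rw [← h2]; group
        exact mul_left_cancel (mul_left_cancel h3)
      rw [this, h1]
  have hTle : (fL n '' D).ncard ≤ T.ncard := Set.ncard_le_ncard himg (Set.toFinite _)
  omega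

end Cfsg.Agent.Helper28.Sw
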