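import Mathlib
import Cfsg.Agent.Helper10.SwDefs
import Cfsg.Agent.Helper28.SwAux

/-!
# S3211 piece UBN (helper28): at most `#K(a)` elements `m ∈ M n` with `m² = a b`
-/

set_option autoImplicit false

namespace Cfsg.Agent.Helper28.Sw

open Cfsg.Agent.Helper10.Sw

variable {G : Type*} [Group G] {L₁ L₂ : Subgroup G} {j n : G}

theorem conj_conj3 (n A B : G) :
    n * (A⁻¹ * B * A) * n⁻¹ = (n * A * n⁻¹)⁻¹ * (n * B * n⁻¹) * (n * A * n⁻¹) := by group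

/-- the parametrisation `(x, z) ↦ x τ(x)⁻¹ τ(a) z n`. -/
def fU (n a : G) (p : G × G) : G :=
  p.1 * (n * p.1 * n⁻¹)⁻¹ * (n * a * n⁻¹) * p.2 * n

theorem fU_sigma (h : Cfg L₁ L₂ j n) (a : G) (p : G × G) :
    fU n a (p.1 * j, p.2) = fU n a p := by
  unfold fU
  have h1 : n * (p.1 * j) * n⁻¹ = (n * p.1 * n⁻¹) * j := by
    have := h.tau_j
    calc n * (p.1 * j) * n⁻¹ = (n * p.1 * n⁻¹) * (n * j * n⁻¹) := by group
      _ = _ := by rw [this]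
  simp only
  rw [h1]
  have h2 : ((n * p.1 * n⁻¹) * j)⁻¹ = j * (n * p.1 * n⁻¹)⁻¹ := by rw [mul_inv_rev, h.j_inv]
  rw [h2]
  have : p.1 * j * (j * (n * p.1 * n⁻¹)⁻¹) = p.1 * (n * p.1 * n⁻¹)⁻¹ := by
    rw [mul_assoc p.1, ← mul_assoc j, h.j_sq, one_mul]
  rw [this]

theorem ubn [Finite G] (h : Cfg L₁ L₂ j n) {a b : G} (ha : a ∈ L₁) (hb : b ∈ L₂)
    (ha2 : a * a = j) (hb2 : b * b = j) :
    ({m : G | m * n⁻¹ ∈ L₁ ⊔ L₂ ∧ m * m = a * b}).ncard ≤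
      ({x : G | x ∈ L₁ ∧ x * a = a * x}).ncard := by
  classical
  set t' : G := n * b * n⁻¹ * j with ht'
  set X : Set G := {x | x ∈ L₁ ∧ x⁻¹ * a * x = t'} with hX
  set D : Set (G × G) := X ×ˢ ({1, j} : Set G) with hD
  set S : Set G := {m : G | m * n⁻¹ ∈ L₁ ⊔ L₂ ∧ m * m = a * b} with hS
  set K : Set G := {x : G | x ∈ L₁ ∧ x * a = a * x} with hK
  have hDfin : D.Finite := Set.toFinite _
  -- Part A : S ⊆ fU '' D
  have hA : S ⊆ fU n a '' D := by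
    intro m hm
    obtain ⟨hmM, hmm⟩ := hm
    obtain ⟨x, hx, y, hy, hxy⟩ := h.mem_sup.mp hmM
    have hm' : m = x * y * n := by rw [← hxy]; group
    have hx2 : n * x * n⁻¹ ∈ L₂ := h.swap₁ x hx
    have hy1 : n * y * n⁻¹ ∈ L₁ := h.swap₂ y hy
    have ha2' : n * a * n⁻¹ ∈ L₂ := h.swap₁ a ha
    have hsq := sq_formula h hx hy
    rw [← hm', hmm] at hsq
    -- u (v j) = a b
    have hu : x * (n * y * n⁻¹) ∈ L₁ := L₁.mul_mem hx hy1
    have hv : (y * (n * x * n⁻¹)) * j ∈ L₂ := L₂.mul_mem (L₂.mul_mem hy hx2) h.j_mem₂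
    obtain ⟨z, hz, huz, hvz⟩ : ∃ z, (z = 1 ∨ z = j) ∧ x * (n * y * n⁻¹) = a * z ∧
        (y * (n * x * n⁻¹)) * j = z * b := by
      rcases h.split hu ha hv hb hsq.symm with ⟨h1, h2⟩ | ⟨h1, h2⟩
      · exact ⟨1, Or.inl rfl, by simpa using h1, by simpa using h2⟩
      · exact ⟨j, Or.inr rfl, h1, h2⟩
    -- τ y = x⁻¹ a z
    have hty : n * y * n⁻¹ = x⁻¹ * a * z := by
      calc n * y * n⁻¹ = x⁻¹ * (x * (n * y * n⁻¹)) := by group
        _ = x⁻¹ * (a * z) := by rw [huz]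
        _ = x⁻¹ * a * z := by group
    -- y = τ(x)⁻¹ τ(a) z
    have hy' : y = (n * x * n⁻¹)⁻¹ * (n * a * n⁻¹) * z := by
      have h1 := h.tau_tau (h.j_comm₂ hy)
      rw [hty] at h1
      rw [← h1]
      have h2 := tau_z h hz
      calc n * (x⁻¹ * a * z) * n⁻¹ = (n * x * n⁻¹)⁻¹ * (n * a * n⁻¹) * (n * z * n⁻¹) := by group
        _ = _ := by rw [h2]
    -- τ(x)⁻¹ τ(a) τ(x) = b j
    have hconj : (n * x * n⁻¹)⁻¹ * (n * a * n⁻¹) * (n * x * n⁻¹) = b * j := by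
      have h1 : y * (n * x * n⁻¹) * j = z * b := hvz
      rw [hy'] at h1
      have hzc : (n * x * n⁻¹)⁻¹ * (n * a * n⁻¹) * z
          = z * ((n * x * n⁻¹)⁻¹ * (n * a * n⁻¹)) :=
        z_comm₂ h hz (L₂.mul_mem (L₂.inv_mem hx2) ha2')
      rw [hzc] at h1
      have h3 : (n * x * n⁻¹)⁻¹ * (n * a * n⁻¹) * (n * x * n⁻¹) * j = b := by
        apply mul_left_cancel (a := z)
        rw [← h1]; group
      rw [← h3]; simp only [mul_assoc, h.j_sq, mul_one]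
    -- x⁻¹ a x = τ b j
    have hxa : x⁻¹ * a * x = t' := by
      have h1 : n * ((n * x * n⁻¹)⁻¹ * (n * a * n⁻¹) * (n * x * n⁻¹)) * n⁻¹
          = n * (b * j) * n⁻¹ := by rw [hconj]
      have h2 : n * ((n * x * n⁻¹)⁻¹ * (n * a * n⁻¹) * (n * x * n⁻¹)) * n⁻¹
          = (n * (n * x * n⁻¹) * n⁻¹)⁻¹ * (n * (n * a * n⁻¹) * n⁻¹) * (n * (n * x * n⁻¹) * n⁻¹) :=
        conj_conj3 n (n * x * n⁻¹) (n * a * n⁻¹)
      rw [h2, h.tau_tau (h.j_comm₁ hx), h.tau_tau (h.j_comm₁ ha)] at h1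
      rw [h1, ht']
      have := h.tau_j
      calc n * (b * j) * n⁻¹ = (n * b * n⁻¹) * (n * j * n⁻¹) := by group
        _ = _ := by rw [this]
    refine ⟨(x, z), ⟨⟨hx, hxa⟩, ?_⟩, ?_⟩
    · rcases hz with rfl | rfl <;> simp
    · unfold fU
      simp only
      rw [hm', hy']
      group
  -- Part B : 2 * #(fU '' D) ≤ #D
  have hB : 2 * (fU n a '' D).ncard ≤ D.ncard := by
    apply two_mul_ncard_image_le D hDfin (fU n a) (fun p => (p.1 * j, p.2))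
    · rintro ⟨x, z⟩ ⟨⟨hx, hxa⟩, hz⟩
      refine ⟨⟨L₁.mul_mem hx h.j_mem₁, ?_⟩, hz⟩
      have ht1 : t' ∈ L₁ := L₁.mul_mem (h.swap₂ b hb) h.j_mem₁
      have : (x * j)⁻¹ * a * (x * j) = j⁻¹ * (x⁻¹ * a * x) * j := by group
      rw [this, hxa, h.j_inv, ← h.j_comm₁ ht1, mul_assoc, h.j_sq, mul_one]
    · rintro ⟨x, z⟩ _ heq
      have h1 : x * j = x := (Prod.ext_iff.mp heq).1
      exact h.j_ne (by simpa using h1)
    · rintro p _
      exact fU_sigma h a p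
  -- Part C : #D = #X * 2
  have hC : D.ncard = X.ncard * 2 := by
    rw [hD, Set.ncard_prod, Set.ncard_pair (Ne.symm h.j_ne)]
  -- Part D : #X ≤ #K
  have hDK : X.ncard ≤ K.ncard := by
    rcases X.eq_empty_or_nonempty with he | ⟨x₁, hx₁, hx₁a⟩
    · rw [he]; simp
    · apply Set.ncard_le_ncard_of_injOn (fun x => x * x₁⁻¹)
      · rintro x ⟨hx, hxa⟩
        refine ⟨L₁.mul_mem hx (L₁.inv_mem hx₁), ?_⟩
        have e1 : a * x = x * t' := by rw [← hxa]; group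
        have e2 : a * x₁ = x₁ * t' := by rw [← hx₁a]; group
        have e3 : x₁⁻¹ * a = t' * x₁⁻¹ := by
          have : x₁⁻¹ * (a * x₁) * x₁⁻¹ = x₁⁻¹ * (x₁ * t') * x₁⁻¹ := by rw [e2]
          simpa [mul_assoc] using this
        calc x * x₁⁻¹ * a = x * (x₁⁻¹ * a) := by group
          _ = x * (t' * x₁⁻¹) := by rw [e3]
          _ = (x * t') * x₁⁻¹ := by group
          _ = (a * x) * x₁⁻¹ := by rw [e1]
          _ = a * (x * x₁⁻¹) := by group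
      · intro x _ y _ hxy
        exact mul_right_cancel hxy
  have hS1 : S.ncard ≤ (fU n a '' D).ncard :=
    Set.ncard_le_ncard hA (Set.toFinite _)
  omega

end Cfsg.Agent.Helper28.Sw
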