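import Mathlib
import Cfsg.Prelude.Def_Characters
import Cfsg.Agent.Helper12.LSpWDefs
import Cfsg.Agent.Helper12.LSpWPDefs
import Cfsg.Agent.Helper12.WGDefs
import Cfsg.Agent.Helper12.WGDefsC
import Cfsg.Agent.Helper12.WGDefsD
import Cfsg.Agent.Helper12.WGStruct

/-!
# S2524, part B, piece JJDIAG: the block diagonal elements of the Siegel radical
-/

set_option autoImplicit false

namespace Cfsg.Agent.S2524P

open Matrix Cfsg Cfsg.Agent.S2333P Cfsg.Agent.Helper2.Sp Cfsg.Agent.Helper12.LSp Cfsg.Agent.Helper25

variable {F : Type*} [Field F] [Fintype F]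

/-- **JJDIAG**: the block diagonal elements of the Siegel radical -/
theorem jj_US {m : ℕ} (y : ↥(SymM 1 F)) (Y : ↥(SymM m F)) :
    jj m F (US 1 F (Multiplicative.ofAdd y), US m F (Multiplicative.ofAdd Y)) =
      US (m + 1) F (Multiplicative.ofAdd (e00 m (y.1 0 0) + blk Y)) := by
  apply ext_mulVec
  intro x
  rw [jj_mulVec, US_mulVec]
  apply vec_ext0
  · rw [res0_jjFun, US_mulVec]
    apply vec1_ext
    · rw [res0_inl]
      simp only [Sum.elim_inl, Finset.univ_unique, Finset.sum_singleton, Fin.default_eq_zero,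
        res0_inl, res0_inr]
      rw [Fin.sum_univ_succ]
      have h0 : ∑ j : Fin m, (e00 m (y.1 0 0) + blk Y).1 0 j.succ * x (Sum.inr j.succ) = 0 := by
        apply Finset.sum_eq_zero
        intro j _
        rw [AddSubgroup.coe_add, Matrix.add_apply, e00_apply, blk_zero_left,
          if_neg (fun h => Fin.succ_ne_zero j h.2), add_zero, zero_mul]
      rw [h0, add_zero, AddSubgroup.coe_add, Matrix.add_apply, e00_apply, blk_zero_left,
        if_pos ⟨rfl, rfl⟩, add_zero]
    · rw [res0_inr]
      simp only [Sum.elim_inr, res0_inr]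
  · rw [res_jjFun, US_mulVec]
    funext k
    rcases k with i | i
    · rw [res_apply_inl]
      simp only [Sum.elim_inl, res_apply_inl, res_apply_inr]
      rw [Fin.sum_univ_succ]
      have h0 : (e00 m (y.1 0 0) + blk Y).1 i.succ 0 = 0 := by
        rw [AddSubgroup.coe_add, Matrix.add_apply, e00_apply, blk_zero_right,
          if_neg (fun h => Fin.succ_ne_zero i h.1), add_zero]
      rw [h0, zero_mul, zero_add]
      congr 1
      apply Finset.sum_congr rfl
      intro j _
      rw [AddSubgroup.coe_add, Matrix.add_apply, e00_apply, blk_succ,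
        if_neg (fun h => Fin.succ_ne_zero i h.1), zero_add]
    · rw [res_apply_inr]
      simp only [Sum.elim_inr, res_apply_inr]

end Cfsg.Agent.S2524P
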