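import Mathlib
import Cfsg.Prelude.Def_Characters
import Cfsg.Agent.Helper12.LSpWDefs
import Cfsg.Agent.Helper12.LSpWPDefs
import Cfsg.Agent.Helper12.LSLDefs
import Cfsg.Agent.Helper12.RUSpB
import Cfsg.Agent.Helper20.PermCharI
import Cfsg.Agent.Helper25.SpUH
import Cfsg.Agent.Helper12.WGDefs
import Cfsg.Agent.Helper12.WGDefsC
import Cfsg.Agent.Helper12.WGDefsD
import Cfsg.Agent.Helper12.WGStruct
import Cfsg.Agent.Helper24.Invariants
import Cfsg.Agent.Helper28.WGJJDIAG
import Cfsg.Agent.Helper7.WGHEISGEN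
import Cfsg.Agent.Helper14.WGKEY
import Cfsg.Agent.Helper22.WGFIXG1S

/-!
# S2524, part B, piece FIXG1: `Sp_2 × 1` has no fixed vectors in a nontrivial irreducible module of
`Sp_{2(m+1)}` whose `Q`-spectrum has rank at most one
-/

set_option autoImplicit false

namespace Cfsg.Agent.S2524P

open Matrix Cfsg Cfsg.Agent.S2333P Cfsg.Agent.Helper2.Sp Cfsg.Agent.Helper12.LSp Cfsg.Agent.Helper25
open Cfsg.Agent.Helper12.LSL Cfsg.Agent.Helper20.PermChar

variable {F : Type*} [Field F] [Fintype F]

theorem fixg1_two_ne_zero (hodd : Odd (Fintype.card F)) : (2 : F) ≠ 0 := by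
  intro h
  have hchar : ringChar F = 2 := by
    have h2 : (ringChar F) ∣ 2 := by
      apply ringChar.dvd
      exact_mod_cast h
    have hp : (ringChar F).Prime := CharP.char_is_prime F (ringChar F)
    exact (Nat.prime_dvd_prime_iff_eq hp Nat.prime_two).mp h2
  have := FiniteField.even_card_of_char_two hchar
  rcases hodd with ⟨k, hk⟩
  omega

/-- the trace of `c x xᵀ S` -/
theorem fixg1_trace_rk1_mul {n : ℕ} (c : F) (x : Fin n → F) (S : ↥(SymM n F)) :
    Matrix.trace ((rk1 c x).1 * S.1) = c * ∑ i, ∑ j, x i * x j * S.1 j i := by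
  rw [Matrix.trace, Finset.mul_sum]
  apply Finset.sum_congr rfl
  intro i _
  rw [Matrix.diag_apply, Matrix.mul_apply, Finset.mul_sum]
  apply Finset.sum_congr rfl
  intro j _
  rw [rk1_apply]
  ring

/-- the symmetric matrix with first row `(-s, w)` and vanishing lower right block -/
def fixg1_row {m : ℕ} (w : Fin m → F) (s : F) : ↥(SymM (m + 1) F) :=
  ⟨Matrix.of (fun i j : Fin (m + 1) =>
      Fin.cases (Fin.cases (-s) (fun j' : Fin m => w j') j)
        (fun i' : Fin m => Fin.cases (w i') (fun _ : Fin m => (0 : F)) j) i), by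
    rw [mem_SymM]
    ext i j
    rw [transpose_apply, of_apply, of_apply]
    refine Fin.cases ?_ (fun i' => ?_) i
    · refine Fin.cases ?_ (fun j' => ?_) j
      · rfl
      · simp
    · refine Fin.cases ?_ (fun j' => ?_) j
      · simp
      · simp⟩

theorem fixg1_row_zero_zero {m : ℕ} (w : Fin m → F) (s : F) : (fixg1_row w s).1 0 0 = -s := by
  show Matrix.of _ 0 0 = _
  rw [of_apply]
  rfl

theorem fixg1_row_zero_succ {m : ℕ} (w : Fin m → F) (s : F) (j : Fin m) :
    (fixg1_row w s).1 0 j.succ = w j := by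
  show Matrix.of _ 0 j.succ = _
  rw [of_apply]
  simp

theorem fixg1_row_succ_succ {m : ℕ} (w : Fin m → F) (s : F) (i j : Fin m) :
    (fixg1_row w s).1 i.succ j.succ = 0 := by
  show Matrix.of _ i.succ j.succ = _
  rw [of_apply]
  simp

theorem fixg1_qS_row {m : ℕ} (w : Fin m → F) (s : F) : qS (fixg1_row w s) = 0 := by
  apply Subtype.ext
  ext i j
  rw [qS_apply, fixg1_row_succ_succ]
  rfl

/-- `qt` of the row matrix is the Heisenberg element `(w, s)` -/
theorem fixg1_qt_row {m : ℕ} (v : Fin m ⊕ Fin m → F) (hv : InW v) (s : F) :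
    qt m F (Multiplicative.ofAdd (fixg1_row (fun j => v (Sum.inl j)) s)) =
      SemidirectProduct.inl (⟨v, s⟩ : Heis m F) := by
  apply SemidirectProduct.ext
  · apply Heis.ext
    · rw [qt_left_v]
      show _ = v
      funext k
      rcases k with i | i
      · rw [qv_inl, fixg1_row_zero_succ]
      · rw [qv_inr, hv i]
    · rw [qt_left_s, fixg1_row_zero_zero, neg_neg]
      rfl
  · rw [qt_right, fixg1_qS_row]
    exact map_one _

/-- the hypothesis `hT` of KEY for `𝒜 = {t E_00}` and a matrix with vanishing lower right block -/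
theorem fixg1_hT (ψ : AddChar F ℂ) (hψ : ψ ≠ 1) {m : ℕ} (S₀ : ↥(SymM (m + 1) F))
    (hS₀ : qS S₀ = 0) (c : F) (x : Fin (m + 1) → F)
    (h : ∀ S : ↥(SymM (m + 1) F), (∃ t : F, S = e00 m t) →
      ψ (Matrix.trace ((rk1 c x).1 * S.1)) = 1) :
    ψ (Matrix.trace ((rk1 c x).1 * S₀.1)) = 1 := by
  -- `c x₀² = 0`
  have hc0 : c * (x 0 * x 0) = 0 := by
    by_contra hne
    apply hψ
    ext s
    rw [AddChar.one_apply]
    have := h (e00 m (s / (c * (x 0 * x 0)))) ⟨_, rfl⟩
    rw [fixg1_trace_rk1_mul] at this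
    have hsum : ∑ i, ∑ j, x i * x j * (e00 m (s / (c * (x 0 * x 0)))).1 j i =
        x 0 * x 0 * (s / (c * (x 0 * x 0))) := by
      rw [Finset.sum_eq_single 0]
      · rw [Finset.sum_eq_single 0]
        · rw [e00_apply, if_pos ⟨rfl, rfl⟩]
        · intro j _ hj
          rw [e00_apply, if_neg (fun h => hj h.1), mul_zero]
        · intro h0
          exact absurd (Finset.mem_univ _) h0
      · intro i _ hi
        apply Finset.sum_eq_zero
        intro j _
        rw [e00_apply, if_neg (fun h => hi h.2), mul_zero]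
      · intro h0
        exact absurd (Finset.mem_univ _) h0
    rw [hsum] at this
    have hcne : c ≠ 0 := fun h0 => hne (by rw [h0, zero_mul])
    have hxne : x 0 ≠ 0 := fun h0 => hne (by rw [h0, mul_zero, mul_zero])
    have h3 : c * (x 0 * x 0 * (s / (c * (x 0 * x 0)))) = s := by
      field_simp
    rw [h3] at this
    exact this
  have hx0 : c = 0 ∨ x 0 = 0 := by
    rcases mul_eq_zero.mp hc0 with h | h
    · exact Or.inl h
    · exact Or.inr (mul_self_eq_zero.mp h)
  have hzero : Matrix.trace ((rk1 c x).1 * S₀.1) = 0 := by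
    rw [fixg1_trace_rk1_mul]
    rcases hx0 with h | h
    · rw [h, zero_mul]
    · have : ∑ i, ∑ j, x i * x j * S₀.1 j i = 0 := by
        apply Finset.sum_eq_zero
        intro i _
        apply Finset.sum_eq_zero
        intro j _
        revert i
        refine Fin.cases ?_ (fun i' => ?_)
        · intro _
          rw [h, zero_mul, zero_mul]
        · intro _
          revert j
          refine Fin.cases ?_ (fun j' => ?_)
          · intro _
            rw [h, mul_zero, zero_mul]
          · intro _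
            have : S₀.1 j'.succ i'.succ = 0 := by
              rw [← qS_apply, hS₀]
              rfl
            rw [this, mul_zero]
      rw [this, mul_zero]
  rw [hzero, AddChar.map_zero_eq_one]

/-- **FIXG1**: no fixed vectors of `Sp_2 × 1` -/
theorem fixG1 (hodd : Odd (Fintype.card F)) {m : ℕ} (hm : 1 ≤ m) (ψ : AddChar F ℂ) (hψ : ψ ≠ 1)
    (χ : ↥(symplecticGroup (Fin (m + 1)) F) → ℂ)
    (hχ : IsIrrCharacter ↥(symplecticGroup (Fin (m + 1)) F) χ) (h1 : χ ≠ (fun _ => 1))
    (hrk : RankLeOne ψ (US (m + 1) F) χ) :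
    classInner (fun g : ↥(symplecticGroup (Fin 1) F) => χ (jj m F (g, 1))) (fun _ => 1) = 0 := by
  classical
  have h2 : (2 : F) ≠ 0 := fixg1_two_ne_zero hodd
  obtain ⟨k, ρ, hρ, rfl⟩ := hχ
  have _hρ := hρ
  -- the invariants of the whole group vanish
  have hinv0 : Representation.invariants ρ = ⊥ := by
    haveI : Invertible (Nat.card ↥(symplecticGroup (Fin (m + 1)) F) : ℂ) := by
      apply invertibleOfNonzero
      have := Nat.card_pos (α := ↥(symplecticGroup (Fin (m + 1)) F))
      exact_mod_cast this.ne'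
    have e1 := Representation.card_inv_mul_sum_char_eq_finrank ρ
    have e2 : classInner ρ.character (fun _ => (1 : ℂ)) = 0 := by
      rw [Cfsg.Agent.Helper24.classInner_of_isIrrCharacter ⟨k, ρ, hρ, rfl⟩
        Cfsg.Agent.Helper24.isIrrCharacter_const_one, if_neg h1]
    have e3 : classInner ρ.character (fun _ => (1 : ℂ)) =
        (Nat.card ↥(symplecticGroup (Fin (m + 1)) F) : ℂ)⁻¹ *
          ∑ g : ↥(symplecticGroup (Fin (m + 1)) F), ρ.character g := by
      unfold classInner
      congr 1
      refine Finset.sum_congr rfl ?_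
      intro g _
      rw [map_one, mul_one]
    rw [← e3, e2] at e1
    have e4 : Module.finrank ℂ (Representation.invariants ρ) = 0 := by exact_mod_cast e1.symm
    exact Submodule.finrank_eq_zero.mp e4
  -- the restriction to `Sp_2 × 1`
  set ι1 : ↥(symplecticGroup (Fin 1) F) →* ↥(symplecticGroup (Fin (m + 1)) F) :=
    (jj m F).comp (MonoidHom.inl _ _) with hι1
  have hι1a : ∀ g, ι1 g = jj m F (g, 1) := fun g => rfl
  have hfin : classInner (fun g : ↥(symplecticGroup (Fin 1) F) => ρ.character (jj m F (g, 1)))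
      (fun _ => 1) = (Module.finrank ℂ (Representation.invariants (ρ.comp ι1)) : ℂ) := by
    haveI : Invertible (Nat.card ↥(symplecticGroup (Fin 1) F) : ℂ) := by
      apply invertibleOfNonzero
      have := Nat.card_pos (α := ↥(symplecticGroup (Fin 1) F))
      exact_mod_cast this.ne'
    rw [← Representation.card_inv_mul_sum_char_eq_finrank (ρ.comp ι1)]
    unfold classInner
    congr 1
    refine Finset.sum_congr rfl ?_
    intro g _
    rw [map_one, mul_one]
    rfl
  rw [hfin]
  set X := Representation.invariants (ρ.comp ι1) with hX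
  have hXmem : ∀ v : Fin k → ℂ, v ∈ X ↔ ∀ g₁, ρ (jj m F (g₁, 1)) v = v := by
    intro v
    rw [hX, Representation.mem_invariants]
    rfl
  -- the pointwise stabiliser of `X`
  let H : Subgroup ↥(symplecticGroup (Fin (m + 1)) F) :=
    { carrier := {g | ∀ v ∈ X, ρ g v = v}
      one_mem' := by
        intro v _
        rw [map_one]
        rfl
      mul_mem' := by
        intro a b ha hb v hv
        rw [map_mul, Module.End.mul_apply, hb v hv, ha v hv]
      inv_mem' := by
        intro a ha v hv
        calc ρ a⁻¹ v = ρ a⁻¹ (ρ a v) := by rw [ha v hv]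
          _ = (ρ a⁻¹ * ρ a) v := rfl
          _ = v := by rw [← map_mul, inv_mul_cancel, map_one]; rfl }
  have hHmem : ∀ g, g ∈ H ↔ ∀ v ∈ X, ρ g v = v := fun g => Iff.rfl
  -- (1) `Sp_2 × 1 ≤ H`
  have hL1 : ∀ g₁, jj m F (g₁, 1) ∈ H := fun g₁ v hv => (hXmem v).mp hv g₁
  -- (2) `X` is stable under `1 × Sp_{2m}`
  have hstab : ∀ (g : ↥(symplecticGroup (Fin m) F)) (v : Fin k → ℂ), v ∈ X →
      ρ (jj m F (1, g)) v ∈ X := by
    intro g v hv
    rw [hXmem]
    intro g₁
    have hcomm : jj m F (g₁, 1) * jj m F (1, g) = jj m F (1, g) * jj m F (g₁, 1) := by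
      rw [← map_mul, ← map_mul]
      congr 1
      ext <;> simp
    calc ρ (jj m F (g₁, 1)) (ρ (jj m F (1, g)) v)
        = (ρ (jj m F (g₁, 1)) * ρ (jj m F (1, g))) v := rfl
      _ = (ρ (jj m F (1, g)) * ρ (jj m F (g₁, 1))) v := by rw [← map_mul, hcomm, map_mul]
      _ = ρ (jj m F (1, g)) (ρ (jj m F (g₁, 1)) v) := rfl
      _ = ρ (jj m F (1, g)) v := by rw [(hXmem v).mp hv g₁]
  -- (3) `US (t E_00) ∈ H`
  have he00 : ∀ t : F, US (m + 1) F (Multiplicative.ofAdd (e00 m t)) ∈ H := by
    intro t
    have hj := jj_US (m := m) (rk1 t (fun _ => (1 : F)) : ↥(SymM 1 F)) (0 : ↥(SymM m F))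
    have h00 : (rk1 t (fun _ => (1 : F)) : ↥(SymM 1 F)).1 0 0 = t := by
      rw [rk1_apply, mul_one, mul_one]
    rw [h00, blk_zero, add_zero] at hj
    have h1' : US m F (Multiplicative.ofAdd (0 : ↥(SymM m F))) = 1 := map_one _
    rw [h1'] at hj
    rw [← hj]
    exact hL1 _
  -- (4) `US S₀ ∈ H` for `qS S₀ = 0`
  have hrow : ∀ S₀ : ↥(SymM (m + 1) F), qS S₀ = 0 →
      US (m + 1) F (Multiplicative.ofAdd S₀) ∈ H := by
    intro S₀ hS₀ v hv
    apply key_fixed h2 ψ hψ ρ hrk (fun S => ∃ t : F, S = e00 m t) S₀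
      (fun c x h => fixg1_hT ψ hψ S₀ hS₀ c x h) v
    rintro S ⟨t, rfl⟩
    exact he00 t v hv
  -- (5) the Heisenberg group lies in `H`
  have hheis : ∀ a : Heis m F, iota m F (SemidirectProduct.inl a) ∈ H := by
    let K : Subgroup (Heis m F) :=
      H.comap ((iota m F).comp (SemidirectProduct.inl : Heis m F →* Gam m F))
    have hKmem : ∀ a, a ∈ K ↔ iota m F (SemidirectProduct.inl a) ∈ H := fun a => Iff.rfl
    have hK : K = ⊤ := by
      apply heis_gen K
      · intro v s hv
        rw [hKmem, ← fixg1_qt_row v hv s, iota_qt]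
        exact hrow _ (fixg1_qS_row _ _)
      · intro g a ha
        rw [hKmem] at ha ⊢
        have hconj : iota m F (SemidirectProduct.inl (heisAct g a)) =
            jj m F (1, g) * iota m F (SemidirectProduct.inl a) * (jj m F (1, g))⁻¹ := by
          rw [← iota_inr, ← map_inv, ← map_mul, ← map_mul]
          congr 1
          rw [← heisPhi_apply, SemidirectProduct.inl_aut, map_inv]
        rw [hconj]
        intro v hv
        have hv' : ρ (jj m F (1, g))⁻¹ v ∈ X := by
          have : (jj m F (1, g))⁻¹ = jj m F (1, g⁻¹) := by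
            rw [← map_inv]
            congr 1
            ext <;> simp
          rw [this]
          exact hstab g⁻¹ v hv
        rw [map_mul, map_mul, Module.End.mul_apply, Module.End.mul_apply, ha _ hv']
        calc ρ (jj m F (1, g)) (ρ (jj m F (1, g))⁻¹ v)
            = (ρ (jj m F (1, g)) * ρ (jj m F (1, g))⁻¹) v := rfl
          _ = v := by rw [← map_mul, mul_inv_cancel, map_one]; rfl
    intro a
    rw [← hKmem, hK]
    exact Subgroup.mem_top a
  -- (6) `H = ⊤`
  have hHtop : H = ⊤ := by
    apply Cfsg.Agent.Helper12.RUSp.eq_top_of_QS (x := (e0 : Vec (m + 1) F))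
      (y := (f0 : Vec (m + 1) F))
    · constructor
      · intro a
        rw [← Cfsg.Agent.Helper12.RUSp.qq_zero]
        obtain ⟨b, hb⟩ := exists_iota_inl_eq_qq (m := m) (0 : Vec (m + 1) F)
          (Cfsg.Agent.Helper12.LSp.om_zero_right' _) a
        rw [← hb]
        exact hheis b
      · intro v hv
        obtain ⟨b, hb⟩ := exists_iota_inl_eq_qq (m := m) v hv 0
        rw [← hb]
        exact hheis b
    · intro a
      obtain ⟨g₁, hg₁⟩ := exists_jj_eq_Tg_f0 (m := m) a
      rw [← hg₁]
      exact hL1 g₁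
    · rw [om_eq_sum, Finset.sum_eq_single 0]
      · rw [e0_inr_zero, e0_inl_zero, f0_inr_zero, f0_inl_zero]
        simp
      · intro i _ hi
        have h1' : (e0 : Vec (m + 1) F) (Sum.inr i) = 0 := Pi.single_eq_of_ne (by simp) 1
        have h2' : (e0 : Vec (m + 1) F) (Sum.inl i) = 0 :=
          Pi.single_eq_of_ne (by simpa using hi) 1
        rw [h1', h2', zero_mul, zero_mul, sub_zero]
      · intro h0
        exact absurd (Finset.mem_univ _) h0
  -- (7) conclusion
  have hXbot : X = ⊥ := by
    rw [eq_bot_iff]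
    intro v hv
    have : v ∈ Representation.invariants ρ := by
      rw [Representation.mem_invariants]
      intro g
      have hg : g ∈ H := by rw [hHtop]; exact Subgroup.mem_top g
      exact hg v hv
    rw [hinv0] at this
    exact this
  rw [hXbot, finrank_bot]
  simp

end Cfsg.Agent.S2524P
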