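import Mathlib
import Cfsg.Prelude.Def_Classical
import Cfsg.Prelude.Def_ClassicalGeometry
import Cfsg.Prelude.Def_Characters
import Cfsg.Prelude.Def_LieExceptional
import Cfsg.Agent.Helper8.MatBNDefs
import Cfsg.Agent.Helper8.S2546Defs
import Cfsg.Agent.S0755
import Cfsg.Agent.Helper28.HermWitt

set_option autoImplicit false
open scoped Matrix

/-! S2546 piece MODEL (driver helper8): the antidiagonal Hermitian form `hJ` is equivalent to the
standard one; conjugation gives `SU n K q ≃* SUJ σ n`. -/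

namespace Cfsg.Agent.S2546P

open Cfsg.Agent.MatBN

variable {K : Type*} [Field K]

namespace MODEL

/-- `hJ` as a sesquilinear map (semilinear in the first argument) -/
def Bj (σ : K →+* K) (n : ℕ) : (Fin n → K) →ₛₗ[σ] (Fin n → K) →ₗ[K] K :=
  LinearMap.mk₂'ₛₗ σ (RingHom.id K) (fun x y => hJ σ n y x)
    (fun x x' y => by
      simp only [hJ, Pi.add_apply, map_add, mul_add, Finset.sum_add_distrib])
    (fun c x y => by
      simp only [hJ, Pi.smul_apply, smul_eq_mul, map_mul, Finset.mul_sum]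
      apply Finset.sum_congr rfl
      intro i _
      ring)
    (fun x y y' => by
      simp only [hJ, Pi.add_apply, add_mul, Finset.sum_add_distrib])
    (fun c x y => by
      simp only [hJ, Pi.smul_apply, smul_eq_mul, RingHom.id_apply, Finset.mul_sum]
      apply Finset.sum_congr rfl
      intro i _
      ring)

theorem Bj_apply (σ : K →+* K) (n : ℕ) (x y : Fin n → K) : Bj σ n x y = hJ σ n y x := rfl

theorem hJ_symm (σ : K →+* K) (hσ : ∀ x, σ (σ x) = x) (n : ℕ) (x y : Fin n → K) :
    σ (hJ σ n y x) = hJ σ n x y := by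
  simp only [hJ, map_sum, map_mul, hσ]
  rw [← Equiv.sum_comp Fin.revPerm]
  apply Finset.sum_congr rfl
  intro i _
  simp only [Fin.revPerm_apply, Fin.rev_rev]
  ring

end MODEL

open MODEL in
theorem exists_model [Fintype K] {q : ℕ} (hK : Fintype.card K = q ^ 2) (σ : K →+* K)
    (hσq : ∀ x, σ x = x ^ q) (hσ : ∀ x, σ (σ x) = x) (n : ℕ) :
    ∃ (P : Matrix.GeneralLinearGroup (Fin n) K) (e : Cfsg.SU n K q ≃* SUJ σ n),
      (∀ x y : Fin n → K, hJ σ n ((P : Matrix (Fin n) (Fin n) K) *ᵥ x)
        ((P : Matrix (Fin n) (Fin n) K) *ᵥ y) = Cfsg.hermForm n K q x y) ∧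
      ∀ g : Cfsg.SU n K q, rho σ n (e g) = (P : Matrix (Fin n) (Fin n) K) *
        ((g : Matrix.SpecialLinearGroup (Fin n) K) : Matrix (Fin n) (Fin n) K) *
        ((P⁻¹ : Matrix.GeneralLinearGroup (Fin n) K) : Matrix (Fin n) (Fin n) K) := by
  classical
  -- `σ ≠ id`
  have hne : σ ≠ RingHom.id K := by
    intro h
    have hall : ∀ a : K, a ^ q = a := fun a => by rw [← hσq a, h, RingHom.id_apply]
    have hq1 : 1 < q := by
      rcases Nat.lt_or_ge 1 q with h1 | h1
      · exact h1
      · exfalso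
        have hc : 1 < Fintype.card K := Fintype.one_lt_card
        rw [hK] at hc
        interval_cases q <;> simp at hc
    have hroots : (Finset.univ : Finset K) ⊆
        (Polynomial.X ^ q - Polynomial.X : Polynomial K).roots.toFinset := by
      intro a _
      have hne0 : (Polynomial.X ^ q - Polynomial.X : Polynomial K) ≠ 0 :=
        FiniteField.X_pow_card_sub_X_ne_zero K hq1
      rw [Multiset.mem_toFinset, Polynomial.mem_roots hne0, Polynomial.IsRoot, Polynomial.eval_sub,
        Polynomial.eval_pow, Polynomial.eval_X, hall a, sub_self]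
    have h1 := Finset.card_le_card hroots
    have h2 := Multiset.toFinset_card_le (Polynomial.X ^ q - Polynomial.X : Polynomial K).roots
    have h3 := Polynomial.card_roots' (Polynomial.X ^ q - Polynomial.X : Polynomial K)
    have hdeg : (Polynomial.X ^ q - Polynomial.X : Polynomial K).natDegree = q :=
      FiniteField.X_pow_card_sub_X_natDegree_eq K hq1
    rw [Finset.card_univ, hK] at h1
    rw [hdeg] at h3
    have : q ^ 2 ≤ q := le_trans h1 (le_trans h2 h3)
    nlinarith
  have hS : (Bj σ n).IsSymm := ⟨fun x y => by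
    rw [Bj_apply, Bj_apply]
    exact hJ_symm σ hσ n x y⟩
  have hsep : (Bj σ n).SeparatingRight := by
    intro y hy
    funext i
    have := hy (Pi.single i.rev 1)
    rw [Bj_apply] at this
    simp only [hJ] at this
    rw [Finset.sum_eq_single i] at this
    · simpa using this
    · intro j _ hji
      have : (Pi.single i.rev (1 : K) : Fin n → K) j.rev = 0 := by
        rw [Pi.single_apply, if_neg]
        intro h
        exact hji (Fin.rev_injective h)
      rw [this, map_zero, mul_zero]
    · intro h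
      exact absurd (Finset.mem_univ i) h
  obtain ⟨b, hb⟩ := Cfsg.Agent.S0755.aux σ hne hσ n (Bj σ n) hS hsep (Module.finrank_fin_fun K)
  set P₀ : Matrix (Fin n) (Fin n) K := Matrix.of (fun i j => b j i) with hP₀
  have hP₀v : ∀ x : Fin n → K, P₀ *ᵥ x = ∑ j, x j • b j := by
    intro x
    funext i
    simp only [hP₀, Matrix.mulVec, dotProduct, Matrix.of_apply, Finset.sum_apply, Pi.smul_apply,
      smul_eq_mul]
    apply Finset.sum_congr rfl
    intro j _
    rw [mul_comm]
  have hform : ∀ x y : Fin n → K, hJ σ n (P₀ *ᵥ x) (P₀ *ᵥ y) = Cfsg.hermForm n K q x y := by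
    intro x y
    rw [← Bj_apply, hP₀v y, Cfsg.Agent.Helper28.HW.B_sum_left]
    simp only [Cfsg.hermForm]
    apply Finset.sum_congr rfl
    intro k _
    rw [hP₀v x, map_sum]
    have : ∀ j, Bj σ n (b k) (x j • b j) = x j * (if k = j then 1 else 0) := by
      intro j
      rw [map_smul, smul_eq_mul, hb]
    simp only [this, mul_ite, mul_one, mul_zero, Finset.sum_ite_eq, Finset.mem_univ, if_true]
    rw [mul_comm]
    congr 1
    exact hσq (y k)
  have hinj : Function.Injective P₀.mulVec := by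
    intro x x' hxx'
    have h0 : P₀ *ᵥ (x - x') = 0 := by
      rw [Matrix.mulVec_sub]
      exact sub_eq_zero.mpr hxx'
    have h1 : x - x' = 0 := by
      funext k
      have := hform (x - x') (Pi.single k 1)
      rw [h0] at this
      have hz : hJ σ n (0 : Fin n → K) (P₀ *ᵥ Pi.single k 1) = 0 := by
        simp [hJ]
      rw [hz] at this
      simp only [Cfsg.hermForm] at this
      rw [Finset.sum_eq_single k] at this
      · simpa using this.symm
      · intro j _ hjk
        rw [Pi.single_apply, if_neg hjk, zero_pow, mul_zero]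
        intro hq0
        rw [hq0] at hK
        have : 1 < Fintype.card K := Fintype.one_lt_card
        omega
      · intro h
        exact absurd (Finset.mem_univ k) h
    exact sub_eq_zero.mp h1
  have hunit : IsUnit P₀ := Matrix.mulVec_injective_iff_isUnit.mp hinj
  obtain ⟨P, hP⟩ := hunit
  have hformP : ∀ x y : Fin n → K, hJ σ n ((P : Matrix (Fin n) (Fin n) K) *ᵥ x)
      ((P : Matrix (Fin n) (Fin n) K) *ᵥ y) = Cfsg.hermForm n K q x y := by
    intro x y
    rw [hP]
    exact hform x y
  have hPi : ((P⁻¹ : Matrix.GeneralLinearGroup (Fin n) K) : Matrix (Fin n) (Fin n) K) *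
      (P : Matrix (Fin n) (Fin n) K) = 1 := by
    rw [← Units.val_mul, inv_mul_cancel, Units.val_one]
  have hPi' : (P : Matrix (Fin n) (Fin n) K) *
      ((P⁻¹ : Matrix.GeneralLinearGroup (Fin n) K) : Matrix (Fin n) (Fin n) K) = 1 := by
    rw [← Units.val_mul, mul_inv_cancel, Units.val_one]
  have hformP' : ∀ u v : Fin n → K, Cfsg.hermForm n K q
      (((P⁻¹ : Matrix.GeneralLinearGroup (Fin n) K) : Matrix (Fin n) (Fin n) K) *ᵥ u)
      (((P⁻¹ : Matrix.GeneralLinearGroup (Fin n) K) : Matrix (Fin n) (Fin n) K) *ᵥ v) =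
      hJ σ n u v := by
    intro u v
    rw [← hformP, Matrix.mulVec_mulVec, Matrix.mulVec_mulVec, hPi', Matrix.one_mulVec,
      Matrix.one_mulVec]
  -- the two conjugation maps on `SL`
  have hdet : ∀ (A B : Matrix (Fin n) (Fin n) K) (g : Matrix.SpecialLinearGroup (Fin n) K),
      A * B = 1 → (A * (g : Matrix (Fin n) (Fin n) K) * B).det = 1 := by
    intro A B g hAB
    rw [Matrix.det_mul, Matrix.det_mul, mul_right_comm, ← Matrix.det_mul, hAB, Matrix.det_one,
      one_mul, g.2]
  let cj : Matrix.SpecialLinearGroup (Fin n) K → Matrix.SpecialLinearGroup (Fin n) K := fun g =>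
    ⟨(P : Matrix (Fin n) (Fin n) K) * (g : Matrix (Fin n) (Fin n) K) *
      ((P⁻¹ : Matrix.GeneralLinearGroup (Fin n) K) : Matrix (Fin n) (Fin n) K), hdet _ _ g hPi'⟩
  let cj' : Matrix.SpecialLinearGroup (Fin n) K → Matrix.SpecialLinearGroup (Fin n) K := fun g =>
    ⟨((P⁻¹ : Matrix.GeneralLinearGroup (Fin n) K) : Matrix (Fin n) (Fin n) K) *
      (g : Matrix (Fin n) (Fin n) K) * (P : Matrix (Fin n) (Fin n) K), hdet _ _ g hPi⟩
  have hsl : ∀ g : Matrix.SpecialLinearGroup (Fin n) K,
      Cfsg.slToMat n K g = (g : Matrix (Fin n) (Fin n) K) := fun g => rfl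
  have hcj_mem : ∀ g : Matrix.SpecialLinearGroup (Fin n) K, g ∈ Cfsg.SU n K q →
      cj g ∈ SUJ σ n := by
    intro g hg u v
    have hg' : ∀ u v, Cfsg.hermForm n K q ((g : Matrix (Fin n) (Fin n) K) *ᵥ u)
        ((g : Matrix (Fin n) (Fin n) K) *ᵥ v) = Cfsg.hermForm n K q u v := hg
    show hJ σ n (((cj g : Matrix.SpecialLinearGroup (Fin n) K) : Matrix (Fin n) (Fin n) K) *ᵥ u)
      (((cj g : Matrix.SpecialLinearGroup (Fin n) K) : Matrix (Fin n) (Fin n) K) *ᵥ v) = hJ σ n u v
    show hJ σ n (((P : Matrix (Fin n) (Fin n) K) * (g : Matrix (Fin n) (Fin n) K) *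
      ((P⁻¹ : Matrix.GeneralLinearGroup (Fin n) K) : Matrix (Fin n) (Fin n) K)) *ᵥ u)
      (((P : Matrix (Fin n) (Fin n) K) * (g : Matrix (Fin n) (Fin n) K) *
      ((P⁻¹ : Matrix.GeneralLinearGroup (Fin n) K) : Matrix (Fin n) (Fin n) K)) *ᵥ v) = hJ σ n u v
    rw [Matrix.mul_assoc, ← Matrix.mulVec_mulVec, ← Matrix.mulVec_mulVec (v := v), hformP,
      ← Matrix.mulVec_mulVec, ← Matrix.mulVec_mulVec (v := v), hg', hformP']
  have hcj'_mem : ∀ g : Matrix.SpecialLinearGroup (Fin n) K, g ∈ SUJ σ n →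
      cj' g ∈ Cfsg.SU n K q := by
    intro g hg u v
    have hg' : ∀ u v, hJ σ n ((g : Matrix (Fin n) (Fin n) K) *ᵥ u)
        ((g : Matrix (Fin n) (Fin n) K) *ᵥ v) = hJ σ n u v := hg
    show Cfsg.hermForm n K q ((((P⁻¹ : Matrix.GeneralLinearGroup (Fin n) K) :
      Matrix (Fin n) (Fin n) K) * (g : Matrix (Fin n) (Fin n) K) *
      (P : Matrix (Fin n) (Fin n) K)) *ᵥ u)
      ((((P⁻¹ : Matrix.GeneralLinearGroup (Fin n) K) : Matrix (Fin n) (Fin n) K) *
      (g : Matrix (Fin n) (Fin n) K) * (P : Matrix (Fin n) (Fin n) K)) *ᵥ v) =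
      Cfsg.hermForm n K q u v
    rw [Matrix.mul_assoc, ← Matrix.mulVec_mulVec, ← Matrix.mulVec_mulVec (v := v), hformP',
      ← Matrix.mulVec_mulVec, ← Matrix.mulVec_mulVec (v := v), hg', hformP]
  let e : Cfsg.SU n K q ≃* SUJ σ n :=
    { toFun := fun g => ⟨cj g.1, hcj_mem g.1 g.2⟩
      invFun := fun g => ⟨cj' g.1, hcj'_mem g.1 g.2⟩
      left_inv := by
        intro g
        apply Subtype.ext
        apply Subtype.ext
        show ((P⁻¹ : Matrix.GeneralLinearGroup (Fin n) K) : Matrix (Fin n) (Fin n) K) *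
          ((P : Matrix (Fin n) (Fin n) K) * (g.1 : Matrix (Fin n) (Fin n) K) *
          ((P⁻¹ : Matrix.GeneralLinearGroup (Fin n) K) : Matrix (Fin n) (Fin n) K)) *
          (P : Matrix (Fin n) (Fin n) K) = (g.1 : Matrix (Fin n) (Fin n) K)
        rw [Matrix.mul_assoc, Matrix.mul_assoc, hPi, Matrix.mul_one, ← Matrix.mul_assoc, hPi,
          Matrix.one_mul]
      right_inv := by
        intro g
        apply Subtype.ext
        apply Subtype.ext
        show (P : Matrix (Fin n) (Fin n) K) *
          (((P⁻¹ : Matrix.GeneralLinearGroup (Fin n) K) : Matrix (Fin n) (Fin n) K) *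
          (g.1 : Matrix (Fin n) (Fin n) K) * (P : Matrix (Fin n) (Fin n) K)) *
          ((P⁻¹ : Matrix.GeneralLinearGroup (Fin n) K) : Matrix (Fin n) (Fin n) K) =
          (g.1 : Matrix (Fin n) (Fin n) K)
        rw [Matrix.mul_assoc, Matrix.mul_assoc, hPi', Matrix.mul_one, ← Matrix.mul_assoc, hPi',
          Matrix.one_mul]
      map_mul' := by
        intro g h
        apply Subtype.ext
        apply Subtype.ext
        show (P : Matrix (Fin n) (Fin n) K) *
          ((g.1 * h.1 : Matrix.SpecialLinearGroup (Fin n) K) : Matrix (Fin n) (Fin n) K) *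
          ((P⁻¹ : Matrix.GeneralLinearGroup (Fin n) K) : Matrix (Fin n) (Fin n) K) =
          ((P : Matrix (Fin n) (Fin n) K) * (g.1 : Matrix (Fin n) (Fin n) K) *
          ((P⁻¹ : Matrix.GeneralLinearGroup (Fin n) K) : Matrix (Fin n) (Fin n) K)) *
          ((P : Matrix (Fin n) (Fin n) K) * (h.1 : Matrix (Fin n) (Fin n) K) *
          ((P⁻¹ : Matrix.GeneralLinearGroup (Fin n) K) : Matrix (Fin n) (Fin n) K))
        rw [Matrix.SpecialLinearGroup.coe_mul]
        calc (P : Matrix (Fin n) (Fin n) K) * ((g.1 : Matrix (Fin n) (Fin n) K) *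
              (h.1 : Matrix (Fin n) (Fin n) K)) *
              ((P⁻¹ : Matrix.GeneralLinearGroup (Fin n) K) : Matrix (Fin n) (Fin n) K)
            = (P : Matrix (Fin n) (Fin n) K) * (g.1 : Matrix (Fin n) (Fin n) K) * 1 *
              (h.1 : Matrix (Fin n) (Fin n) K) *
              ((P⁻¹ : Matrix.GeneralLinearGroup (Fin n) K) : Matrix (Fin n) (Fin n) K) := by
                simp only [Matrix.mul_assoc, Matrix.one_mul]
          _ = _ := by
                rw [← hPi]
                simp only [Matrix.mul_assoc] }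
  exact ⟨P, e, hformP, fun g => rfl⟩

end Cfsg.Agent.S2546P
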