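import Mathlib

/-! S3222 piece SYLFIX: an involution inverting a Sylow `p`-subgroup `P` of prime order `p ≠ 2`
normalises at most `1 + (n_p - 1)/p` Sylow `p`-subgroups. -/

set_option autoImplicit false
set_option linter.style.haveILetI false

namespace Cfsg.Agent.S3222P

theorem SYLFIX_aux_eq {G : Type*} [Group G] [Finite G] {p : ℕ} [Fact p.Prime] (P : Sylow p G)
    (hP : Nat.card ↥(P : Subgroup G) = p) (Q : Sylow p G) (x : G) (hx : x ∈ (P : Subgroup G))
    (hx1 : x ≠ 1) (hxQ : x ∈ Subgroup.normalizer ((Q : Subgroup G) : Set G)) : Q = P := by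
  have hxQ' : x ∈ (Q : Subgroup G) := by
    have h1 : x ∈ (P : Subgroup G) ⊓ Subgroup.normalizer ((Q : Subgroup G) : Set G) := ⟨hx, hxQ⟩
    have h2 := IsPGroup.inf_normalizer_sylow P.2 Q
    have h3 : x ∈ (P : Subgroup G) ⊓ (Q : Subgroup G) := by
      rw [← h2]; exact h1
    exact h3.2
  have hle : (P : Subgroup G) ≤ Q := by
    intro y hy
    have h2 : (⟨y, hy⟩ : (P : Subgroup G)) ∈ Subgroup.zpowers (⟨x, hx⟩ : (P : Subgroup G)) := by
      apply mem_zpowers_of_prime_card hP
      intro h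
      exact hx1 (congrArg Subtype.val h)
    obtain ⟨k, hk⟩ := Subgroup.mem_zpowers_iff.mp h2
    have h3 : y = x ^ k := by
      have := congrArg Subtype.val hk
      simpa using this.symm
    rw [h3]
    exact Subgroup.zpow_mem _ hxQ' k
  exact Sylow.ext (P.is_maximal' Q.2 hle)

theorem SYLFIX_aux_one {G : Type*} [Group G] [Finite G] {p : ℕ} [Fact p.Prime] (P : Sylow p G)
    (hP : Nat.card ↥(P : Subgroup G) = p) (hp2 : p ≠ 2) (u : G)
    (hinv : ∀ x ∈ (P : Subgroup G), u * x * u⁻¹ = x⁻¹)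
    (Q : Sylow p G) (hQ : u • Q = Q) (hQP : Q ≠ P) (x : G) (hx : x ∈ (P : Subgroup G))
    (hxQ : u • (x • Q) = x • Q) : x = 1 := by
  -- `x⁻¹ u x = u x x`
  have h1 : x⁻¹ * u * x = u * (x * x) := by
    have := hinv x hx
    have h2 : u * x = x⁻¹ * u := by
      calc u * x = u * x * u⁻¹ * u := by group
        _ = x⁻¹ * u := by rw [this]
    calc x⁻¹ * u * x = x⁻¹ * (u * x) := by group
      _ = x⁻¹ * (x⁻¹ * u) := by rw [h2]
      _ = x⁻¹ * x⁻¹ * u := by group
      _ = u * (x * x) := by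
        have h3 : x⁻¹ * u = u * x := h2.symm
        calc x⁻¹ * x⁻¹ * u = x⁻¹ * (x⁻¹ * u) := by group
          _ = x⁻¹ * (u * x) := by rw [h3]
          _ = (x⁻¹ * u) * x := by group
          _ = (u * x) * x := by rw [h3]
          _ = u * (x * x) := by group
  have h4 : (x⁻¹ * u * x) • Q = Q := by
    rw [mul_smul, mul_smul, hxQ, inv_smul_smul]
  rw [h1, mul_smul] at h4
  have h5 : (x * x) • Q = Q := by
    have : u⁻¹ • (u • ((x * x) • Q)) = u⁻¹ • Q := by rw [h4]
    rw [inv_smul_smul] at this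
    rw [this]
    exact inv_smul_eq_iff.mpr hQ.symm
  have h6 : x * x = 1 := by
    by_contra hne
    exact hQP (SYLFIX_aux_eq P hP Q (x * x) (Subgroup.mul_mem _ hx hx) hne
      (Sylow.smul_eq_iff_mem_normalizer.mp h5))
  -- `x ^ p = 1`
  have h7 : x ^ p = 1 := by
    have : (⟨x, hx⟩ : (P : Subgroup G)) ^ p = 1 := by
      have h := pow_card_eq_one' (G := ↥(P : Subgroup G)) (x := ⟨x, hx⟩)
      rwa [hP] at h
    simpa using congrArg Subtype.val this
  have h8 : orderOf x ∣ 2 := orderOf_dvd_of_pow_eq_one (by rw [pow_two]; exact h6)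
  have h9 : orderOf x ∣ p := orderOf_dvd_of_pow_eq_one h7
  have hp : p.Prime := Fact.out
  have h10 : orderOf x ∣ Nat.gcd 2 p := Nat.dvd_gcd h8 h9
  have h11 : Nat.gcd 2 p = 1 := by
    rw [Nat.coprime_primes Nat.prime_two hp |>.mpr (Ne.symm hp2)]
  rw [h11, Nat.dvd_one, orderOf_eq_one_iff] at h10
  exact h10

theorem SYLFIX {G : Type*} [Group G] [Finite G] {p : ℕ} [Fact p.Prime] (P : Sylow p G)
    (hP : Nat.card ↥(P : Subgroup G) = p) (hp2 : p ≠ 2) (u : G) (hu : u * u = 1)
    (hinv : ∀ x ∈ (P : Subgroup G), u * x * u⁻¹ = x⁻¹) :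
    p * Nat.card {Q : Sylow p G // u ∈ Subgroup.normalizer ((Q : Subgroup G) : Set G)} ≤
      Nat.card (Sylow p G) + p - 1 := by
  classical
  haveI : Fintype (Sylow p G) := Fintype.ofFinite _
  haveI : Fintype ↥(P : Subgroup G) := Fintype.ofFinite _
  -- `u` normalises `P`
  have huP : u • P = P := by
    rw [Sylow.smul_eq_iff_mem_normalizer]
    refine Subgroup.mem_set_normalizer_iff.mpr ?_
    intro h
    change h ∈ (P : Subgroup G) ↔ u * h * u⁻¹ ∈ (P : Subgroup G)
    constructor
    · intro hh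
      have := hinv h hh
      rw [this]; exact Subgroup.inv_mem _ hh
    · intro hh
      have h1 := hinv _ hh
      have h2 : h = u⁻¹ * (u * h * u⁻¹) * u := by group
      have h3 : u⁻¹ = u := by
        exact inv_eq_of_mul_eq_one_left hu
      have h4 : h = u * (u * h * u⁻¹) * u⁻¹ := by
        nth_rewrite 1 [h2]; rw [h3]
      rw [h4, hinv _ hh]
      exact Subgroup.inv_mem _ hh
  set F : Finset (Sylow p G) := Finset.univ.filter (fun Q => u • Q = Q) with hF
  have hcardF : Nat.card {Q : Sylow p G // u ∈ Subgroup.normalizer ((Q : Subgroup G) : Set G)}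
      = F.card := by
    rw [Nat.card_eq_fintype_card, Fintype.card_subtype]
    congr 1
    ext Q
    simp [hF, Sylow.smul_eq_iff_mem_normalizer]
  have hPF : P ∈ F := by simp [hF, huP]
  -- injection `(F \ {P}) × P → Sylow \ {P}`
  have hinj : ((F.erase P) ×ˢ (Finset.univ : Finset ↥(P : Subgroup G))).card ≤
      ((Finset.univ : Finset (Sylow p G)).erase P).card := by
    apply Finset.card_le_card_of_injOn (fun Qx => (Qx.2 : G) • Qx.1)
    · rintro ⟨Q, x⟩ hQx
      simp only [Finset.coe_product, Set.mem_prod, Finset.mem_coe, Finset.mem_erase,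
        Finset.mem_univ, and_true] at hQx
      simp only [Finset.coe_erase, Finset.coe_univ, Set.mem_sdiff, Set.mem_univ,
        Set.mem_singleton_iff, true_and]
      intro h
      apply hQx.1
      have h1 : Q = (x : G)⁻¹ • P := eq_inv_smul_iff.mpr h
      rw [h1, Sylow.smul_eq_iff_mem_normalizer]
      exact Subgroup.le_normalizer (Subgroup.inv_mem _ x.2)
    · rintro ⟨Q, x⟩ hQx ⟨Q', y⟩ hQy hxy
      simp only [Finset.coe_product, Set.mem_prod, Finset.mem_coe, Finset.mem_erase,
        Finset.mem_univ, and_true, hF, Finset.mem_filter, true_and] at hQx hQy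
      simp only at hxy
      have h1 : Q' = ((y : G)⁻¹ * (x : G)) • Q := by
        rw [mul_smul, hxy, inv_smul_smul]
      have h2 : (y : G)⁻¹ * (x : G) = 1 := by
        apply SYLFIX_aux_one P hP hp2 u hinv Q hQx.2 hQx.1 _
          (Subgroup.mul_mem _ (Subgroup.inv_mem _ y.2) x.2)
        rw [← h1]; exact hQy.2
      have h3 : (x : G) = y := by
        have := congrArg (fun g => (y : G) * g) h2
        simpa using this
      have h4 : Q' = Q := by rw [h1, h2, one_smul]
      rw [h4, Subtype.ext h3]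
  rw [Finset.card_product, Finset.card_erase_of_mem hPF, Finset.card_erase_of_mem (Finset.mem_univ _),
    Finset.card_univ, Finset.card_univ] at hinj
  have hcP : Fintype.card ↥(P : Subgroup G) = p := by
    rw [← Nat.card_eq_fintype_card]; exact hP
  have hcS : Fintype.card (Sylow p G) = Nat.card (Sylow p G) := by
    rw [Nat.card_eq_fintype_card]
  rw [hcP, hcS] at hinj
  rw [hcardF]
  have hFpos : 1 ≤ F.card := Finset.card_pos.mpr ⟨P, hPF⟩
  have hSpos : 1 ≤ Nat.card (Sylow p G) := Nat.card_pos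
  have hp : p.Prime := Fact.out
  have hppos : 1 ≤ p := hp.one_lt.le
  obtain ⟨k, hk⟩ : ∃ k, F.card = k + 1 := ⟨F.card - 1, by omega⟩
  obtain ⟨n, hn⟩ : ∃ n, Nat.card (Sylow p G) = n + 1 := ⟨Nat.card (Sylow p G) - 1, by omega⟩
  rw [hk, hn] at hinj ⊢
  simp only [Nat.add_sub_cancel] at hinj
  have : p * (k + 1) = k * p + p := by ring
  rw [this]
  omega

end Cfsg.Agent.S3222P
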