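import Mathlib
import Cfsg.Prelude.Def_Classical
import Cfsg.Agent.Helper5.S5973Defs

/-! S3589 (driver helper28): `PSp_8(q)` and the full orthogonal group `O_8^-(q)`, `q` even, have the same
set of element orders.  Shared definitions.

* `HasBlock F d hyp o` : there is a nondegenerate quadratic form of Witt type `hyp` (`true` = plus) on
  `F^(2d)` with an isometry `y` such that `y ^ j = 1 ↔ o ∣ j`;
* `ords q` : twelve numbers; every element order of `Sp_8(q)` (`q` even) divides one of them, and each of them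
  is the order of an element of `O_8^-(q)`;
* `trQ F Q₀` : the quadratic form `v ↦ Tr_{K/F} (Q₀ v)` over `F` obtained from a quadratic form `Q₀` over
  an extension `K` of `F`. -/

set_option autoImplicit false

namespace Cfsg.Agent.S3589P

open Cfsg.Agent.S5973P

/-- a nondegenerate quadratic space of dimension `2 d` and Witt type `hyp` (`true` = plus type) with an
isometry of order `o` -/
def HasBlock (F : Type*) [Field F] (d : ℕ) (hyp : Bool) (o : ℕ) : Prop :=
  ∃ (Q : QuadraticForm F (Fin (2 * d) → F)) (y : Module.End F (Fin (2 * d) → F)),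
    ND Q ∧ (IsHyp Q ↔ hyp = true) ∧ (∀ v, Q (y v) = Q v) ∧ ∀ j : ℕ, y ^ j = 1 ↔ o ∣ j

/-- the twelve orders -/
def ords (q : ℕ) : List ℕ :=
  [q ^ 4 + 1,
   Nat.lcm (q ^ 2 - 1) (q ^ 2 + 1),
   Nat.lcm (q ^ 3 - 1) (q + 1),
   Nat.lcm (q ^ 3 + 1) (q - 1),
   Nat.lcm (Nat.lcm (q ^ 2 + 1) (q - 1)) 2,
   Nat.lcm (Nat.lcm (q ^ 2 + 1) (q + 1)) 2,
   Nat.lcm (q ^ 3 - 1) 2,
   Nat.lcm (q ^ 3 + 1) 2,
   Nat.lcm (Nat.lcm (q - 1) (q + 1)) 4,
   Nat.lcm (q ^ 2 + 1) 4,
   Nat.lcm (q - 1) 8,
   Nat.lcm (q + 1) 8]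

/-- restriction of scalars: the quadratic form `v ↦ Tr_{K/F} (Q₀ v)` over `F` -/
noncomputable def trQ (F : Type*) {K W : Type*} [Field F] [Field K] [Algebra F K] [AddCommGroup W]
    [Module K W] [Module F W] [IsScalarTower F K W] (Q₀ : QuadraticForm K W) : QuadraticForm F W :=
  (Algebra.trace F K).compQuadraticMap' Q₀

theorem trQ_apply (F : Type*) {K W : Type*} [Field F] [Field K] [Algebra F K] [AddCommGroup W]
    [Module K W] [Module F W] [IsScalarTower F K W] (Q₀ : QuadraticForm K W) (v : W) :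
    trQ F Q₀ v = Algebra.trace F K (Q₀ v) := rfl

end Cfsg.Agent.S3589P
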