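import Mathlib
import Cfsg.Agent.Helper28.Herm
import Cfsg.Agent.Helper28.HermWitt
import Cfsg.Agent.Helper28.HermFrame
import Cfsg.Agent.Helper28.Norm
import Cfsg.Agent.S0754
import Cfsg.Agent.S0837

set_option autoImplicit false

namespace Cfsg.Agent.Helper28.HermCount

open Module Submodule Cfsg.Agent.Helper28 Cfsg.Agent.Helper28.HermFrame

variable {F : Type*} [Field F] [Fintype F] {q : ℕ}

open Classical in
/-- number of isotropic vectors (including 0) in the standard `n`-dimensional Hermitian space -/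
noncomputable def isoN (F : Type*) [Field F] [Fintype F] (q n : ℕ) : ℕ :=
  (Finset.univ.filter (fun v : Fin n → F => Cfsg.hermForm n F q v v = 0)).card

theorem hermForm_succ (n : ℕ) (v w : Fin (n + 1) → F) :
    Cfsg.hermForm (n + 1) F q v w = v 0 * (w 0) ^ q +
      Cfsg.hermForm n F q (fun j => v j.succ) (fun j => w j.succ) := by
  simp only [Cfsg.hermForm, Fin.sum_univ_succ]

theorem hermForm_self_fixed (hF : Fintype.card F = q ^ 2) (n : ℕ) (v : Fin n → F) :
    (Cfsg.hermForm n F q v v) ^ q = Cfsg.hermForm n F q v v := by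
  obtain ⟨σ, hσ, hσ2⟩ := exists_frob hF
  exact hermForm_conj σ hσ hσ2 v v

open Classical in
theorem card_norm_fiber (hF : Fintype.card F = q ^ 2) (c : F) (hc : c ^ q = c) :
    (Finset.univ.filter (fun x : F => x ^ (q + 1) + c = 0)).card = if c = 0 then 1 else q + 1 := by
  split_ifs with h
  · subst h
    rw [Finset.card_eq_one]
    refine ⟨0, ?_⟩
    ext x
    simp
  · obtain ⟨σ, hσ, hσ2⟩ := exists_frob hF
    have hnc : (-c) ^ q = -c := by
      rw [← hσ, map_neg, hσ, hc]
    have := Cfsg.Agent.S0754.result hF (-c) (neg_ne_zero.mpr h) hnc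
    rw [Nat.card_eq_fintype_card, Fintype.card_subtype] at this
    refine Eq.trans ?_ this
    congr 1
    ext x
    simp only [Finset.mem_filter, Finset.mem_univ, true_and]
    constructor
    · intro hx
      linear_combination hx
    · intro hx
      rw [hx]; ring

theorem isoN_succ (hF : Fintype.card F = q ^ 2) (n : ℕ) :
    isoN F q (n + 1) + q * isoN F q n = (q + 1) * q ^ (2 * n) := by
  classical
  have e : isoN F q (n + 1) = (Finset.univ.filter (fun p : F × (Fin n → F) =>
      p.1 ^ (q + 1) + Cfsg.hermForm n F q p.2 p.2 = 0)).card := by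
    unfold isoN
    apply Finset.card_bij (fun v _ => (v 0, fun j => v j.succ))
    · intro v hv
      simp only [Finset.mem_filter, Finset.mem_univ, true_and] at hv ⊢
      rw [hermForm_succ] at hv
      rw [← hv, pow_succ, mul_comm]
    · intro v _ w _ h
      simp only [Prod.mk.injEq] at h
      funext i
      refine Fin.cases h.1 (fun j => congrFun h.2 j) i
    · intro p hp
      refine ⟨Fin.cons p.1 p.2, ?_, ?_⟩
      · simp only [Finset.mem_filter, Finset.mem_univ, true_and] at hp ⊢
        rw [hermForm_succ]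
        simp only [Fin.cons_zero, Fin.cons_succ]
        rw [← hp, pow_succ, mul_comm]
      · simp
  rw [e, Finset.card_filter, Fintype.sum_prod_type_right]
  have h1 : ∀ z : Fin n → F, (∑ x : F, if x ^ (q + 1) + Cfsg.hermForm n F q z z = 0 then 1 else 0)
      = if Cfsg.hermForm n F q z z = 0 then 1 else q + 1 := by
    intro z
    rw [← Finset.card_filter]
    exact card_norm_fiber hF _ (hermForm_self_fixed hF n z)
  simp only [h1]
  unfold isoN
  rw [Finset.card_filter, Finset.mul_sum, ← Finset.sum_add_distrib]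
  have h2 : ∀ z : Fin n → F, ((if Cfsg.hermForm n F q z z = 0 then 1 else q + 1) +
      q * (if Cfsg.hermForm n F q z z = 0 then 1 else 0)) = q + 1 := by
    intro z
    split_ifs <;> ring
  simp only [h2, Finset.sum_const, Finset.card_univ, Fintype.card_fun, Fintype.card_fin, hF,
    smul_eq_mul]
  rw [← pow_mul, mul_comm]

open Classical in
/-- the set of isotropic vectors orthogonal to `u` -/
noncomputable def perpIso (q n : ℕ) (u : Fin n → F) : Finset (Fin n → F) :=
  Finset.univ.filter (fun v : Fin n → F => Cfsg.hermForm n F q v v = 0 ∧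
    Cfsg.hermForm n F q v u = 0)

theorem mem_perpIso {n : ℕ} {u v : Fin n → F} :
    v ∈ perpIso q n u ↔ Cfsg.hermForm n F q v v = 0 ∧ Cfsg.hermForm n F q v u = 0 := by
  classical
  simp [perpIso]

theorem card_perpIso_le (hF : Fintype.card F = q ^ 2) (n : ℕ) (u u' : Fin n → F) (hu : u ≠ 0)
    (huu : Cfsg.hermForm n F q u u = 0) (hu'u' : Cfsg.hermForm n F q u' u' = 0) :
    (perpIso q n u).card ≤ (perpIso q n u').card := by
  classical
  obtain ⟨σ, hσ, hσ2⟩ := exists_frob hF
  have hσid := Cfsg.Agent.S0837.frob_ne_id hF σ hσ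
  obtain ⟨i, hi⟩ : ∃ i, u i ≠ 0 := by
    by_contra h
    push Not at h
    exact hu (funext h)
  set l : (Fin n → F) →ₗ[F] F := (u i)⁻¹ • LinearMap.proj i with hl
  have hlu : l u = 1 := by simp [hl, inv_mul_cancel₀ hi]
  set g : (Fin n → F) →ₗ[F] (Fin n → F) := l.smulRight u' with hg
  have hgu : g u = u' := by simp [hg, hlu]
  by_cases hu'0 : u' = 0
  · -- everything isotropic is orthogonal to 0
    apply Finset.card_le_card
    intro v hv
    rw [mem_perpIso] at hv ⊢
    refine ⟨hv.1, ?_⟩
    rw [hu'0]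
    have hq : q ≠ 0 := by
      rintro rfl
      simp at hF
    simp [Cfsg.hermForm, hq]
  obtain ⟨g', hg'X, hg'⟩ := HW.exists_isometry_ext (B := hB σ n) hσid hσ2 (hB_isSymm σ hσ2 n)
    (hB_nondeg σ hσ2 n) n (span F {u}) g (by
      rw [Module.finrank_fin_fun]; omega) (by
      intro x hx x' hx'
      obtain ⟨c, rfl⟩ := Submodule.mem_span_singleton.mp hx
      obtain ⟨c', rfl⟩ := Submodule.mem_span_singleton.mp hx'
      simp only [map_smul, hgu, LinearMap.map_smulₛₗ, LinearMap.smul_apply, hB_eq_herm σ hσ, huu,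
        hu'u', smul_zero]) (by
      intro x hx hgx
      obtain ⟨c, rfl⟩ := Submodule.mem_span_singleton.mp hx
      rw [map_smul, hgu, smul_eq_zero] at hgx
      rcases hgx with h | h
      · rw [h, zero_smul]
      · exact absurd h hu'0)
  have hg'u : g' u = u' := by
    rw [hg'X u (Submodule.mem_span_singleton_self u), hgu]
  have hinj : Function.Injective g' := by
    rw [← LinearMap.ker_eq_bot, LinearMap.ker_eq_bot']
    intro x hx
    apply (hB_nondeg σ hσ2 n).1
    intro w
    rw [← hg', hx, map_zero, LinearMap.zero_apply]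
  apply Finset.card_le_card_of_injOn (fun v => g' v)
  · intro v hv
    have hv' := mem_perpIso.mp (Finset.mem_coe.mp hv)
    apply Finset.mem_coe.mpr
    rw [mem_perpIso, ← hB_eq_herm σ hσ, ← hB_eq_herm σ hσ, ← hg'u, hg', hg', hB_eq_herm σ hσ,
      hB_eq_herm σ hσ]
    exact hv'
  · intro v _ w _ h
    exact hinj h

theorem card_perpIso_eq (hF : Fintype.card F = q ^ 2) (n : ℕ) (u u' : Fin n → F) (hu : u ≠ 0)
    (hu' : u' ≠ 0)
    (huu : Cfsg.hermForm n F q u u = 0) (hu'u' : Cfsg.hermForm n F q u' u' = 0) :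
    (perpIso q n u).card = (perpIso q n u').card :=
  le_antisymm (card_perpIso_le hF n u u' hu huu hu'u') (card_perpIso_le hF n u' u hu' hu'u' huu)

theorem hermForm_succ2 (k : ℕ) (v w : Fin (k + 2) → F) :
    Cfsg.hermForm (k + 2) F q v w = v 0 * (w 0) ^ q + v 1 * (w 1) ^ q +
      Cfsg.hermForm k F q (fun j => v j.succ.succ) (fun j => w j.succ.succ) := by
  rw [hermForm_succ, hermForm_succ]
  simp [add_assoc]

theorem card_perpIso_std (hF : Fintype.card F = q ^ 2) (k : ℕ) (a : F) (ha : a * a ^ q = -1) :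
    (perpIso q (k + 2) (Fin.cons 1 (Fin.cons a 0) : Fin (k + 2) → F)).card
      = q ^ 2 * isoN F q k := by
  classical
  obtain ⟨σ, hσ, hσ2⟩ := exists_frob hF
  have hq : q ≠ 0 := by
    rintro rfl
    simp at hF
  unfold isoN
  rw [← hF, ← Finset.card_univ (α := F), ← Finset.card_product]
  have hu : ∀ v : Fin (k + 2) → F,
      Cfsg.hermForm (k + 2) F q v (Fin.cons 1 (Fin.cons a 0) : Fin (k + 2) → F)
        = v 0 + v 1 * a ^ q := by
    intro v
    rw [hermForm_succ2]
    have h1 : (Fin.cons 1 (Fin.cons a 0) : Fin (k + 2) → F) 1 = a := by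
      rw [← Fin.succ_zero_eq_one, Fin.cons_succ, Fin.cons_zero]
    rw [Fin.cons_zero, h1]
    simp [Cfsg.hermForm, hq]
  have hkey : ∀ (y : F), (-(y * a ^ q)) * (-(y * a ^ q)) ^ q + y * y ^ q = 0 := by
    intro y
    have : (-(y * a ^ q)) ^ q = -(y ^ q * a) := by
      rw [← hσ, map_neg, map_mul, ← hσ a, hσ2, hσ]
    rw [this]
    linear_combination (y * y ^ q) * ha
  apply Finset.card_nbij' (fun v => (v 1, fun j => v j.succ.succ))
    (fun p => (Fin.cons (-(p.1 * a ^ q)) (Fin.cons p.1 p.2) : Fin (k + 2) → F))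
  · intro v hv
    have hv' := mem_perpIso.mp (Finset.mem_coe.mp hv)
    rw [hu] at hv'
    obtain ⟨h1, h2⟩ := hv'
    have h0 : v 0 = -(v 1 * a ^ q) := by linear_combination h2
    rw [hermForm_succ2, h0, hkey, zero_add] at h1
    apply Finset.mem_coe.mpr
    simp only [Finset.mem_product, Finset.mem_univ, Finset.mem_filter, true_and]
    exact h1
  · intro p hp
    have hp' := Finset.mem_coe.mp hp
    simp only [Finset.mem_product, Finset.mem_univ, Finset.mem_filter, true_and] at hp'
    apply Finset.mem_coe.mpr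
    rw [mem_perpIso, hu, hermForm_succ2]
    beta_reduce
    have h1 : (Fin.cons (-(p.1 * a ^ q)) (Fin.cons p.1 p.2) : Fin (k + 2) → F) 1 = p.1 := by
      rw [← Fin.succ_zero_eq_one, Fin.cons_succ, Fin.cons_zero]
    rw [Fin.cons_zero, h1]
    simp only [Fin.cons_succ]
    refine ⟨?_, by ring⟩
    rw [hkey, zero_add]
    exact hp'
  · intro v hv
    have hv' := mem_perpIso.mp (Finset.mem_coe.mp hv)
    rw [hu] at hv'
    have h0 : v 0 = -(v 1 * a ^ q) := by linear_combination hv'.2
    funext i
    refine Fin.cases ?_ (fun i' => ?_) i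
    · simp [h0]
    · refine Fin.cases ?_ (fun j => ?_) i'
      · simp
      · simp
  · intro p _
    ext
    · simp only
      rw [← Fin.succ_zero_eq_one, Fin.cons_succ, Fin.cons_zero]
    · simp

theorem card_perpIso (hF : Fintype.card F = q ^ 2) (k : ℕ) (u : Fin (k + 2) → F) (hu : u ≠ 0)
    (huu : Cfsg.hermForm (k + 2) F q u u = 0) :
    (perpIso q (k + 2) u).card = q ^ 2 * isoN F q k := by
  obtain ⟨σ, hσ, hσ2⟩ := exists_frob hF
  have hσid := Cfsg.Agent.S0837.frob_ne_id hF σ hσ
  obtain ⟨a, ha⟩ := exists_norm_eq σ hσid hσ2 (-1) (neg_ne_zero.mpr one_ne_zero) (by simp)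
  rw [hσ] at ha
  have hq : q ≠ 0 := by
    rintro rfl
    simp at hF
  rw [← card_perpIso_std hF k a ha]
  apply card_perpIso_eq hF _ u _ hu ?_ huu ?_
  · intro h
    have := congrFun h 0
    simp at this
  · rw [hermForm_succ2]
    have h1 : (Fin.cons 1 (Fin.cons a 0) : Fin (k + 2) → F) 1 = a := by
      rw [← Fin.succ_zero_eq_one, Fin.cons_succ, Fin.cons_zero]
    rw [Fin.cons_zero, h1]
    simp only [Fin.cons_succ, one_pow, mul_one]
    have : Cfsg.hermForm k F q (fun j => (0 : Fin k → F) j) (fun j => (0 : Fin k → F) j) = 0 := by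
      simp [Cfsg.hermForm]
    rw [this, ha]
    ring

/-! ### double counting -/

noncomputable instance instFintypeSub (n : ℕ) : Fintype (Submodule F (Fin n → F)) :=
  Fintype.ofFinite _

variable {n : ℕ}

open Classical in
theorem card_filter_mem (W : Submodule F (Fin n → F)) :
    (Finset.univ.filter (fun w : Fin n → F => w ∈ W)).card = Fintype.card F ^ finrank F W := by
  rw [← Module.card_eq_pow_finrank (K := F) (V := W)]
  exact (Fintype.card_of_subtype _ (by simp)).symm

open Classical in
/-- Counting vectors in `W` outside a subspace `U ≤ W`. -/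
theorem card_filter_diff (U W : Submodule F (Fin n → F)) (hUW : U ≤ W) :
    (Finset.univ.filter (fun w : Fin n → F => w ∈ W ∧ w ∉ U)).card + Fintype.card F ^ finrank F U
      = Fintype.card F ^ finrank F W := by
  rw [← card_filter_mem, ← card_filter_mem]
  have := Finset.card_filter_add_card_filter_not
    (s := Finset.univ.filter (fun w : Fin n → F => w ∈ W)) (fun w => w ∈ U)
  rw [Finset.filter_filter, Finset.filter_filter] at this
  rw [← this, add_comm]
  congr 2
  ext z
  simp only [Finset.mem_filter, Finset.mem_univ, true_and]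
  exact ⟨fun h => ⟨hUW h, h⟩, fun h => h.2⟩

theorem TI_span_pair (hF : Fintype.card F = q ^ 2) {v w : Fin n → F}
    (hvv : Cfsg.hermForm n F q v v = 0)
    (hww : Cfsg.hermForm n F q w w = 0) (hwv : Cfsg.hermForm n F q w v = 0) :
    ∀ a ∈ span F {v, w}, ∀ b ∈ span F {v, w}, Cfsg.hermForm n F q a b = 0 := by
  obtain ⟨σ, hσ, hσ2⟩ := exists_frob hF
  intro a ha b hb
  obtain ⟨a1, a2, rfl⟩ := Submodule.mem_span_pair.mp ha
  obtain ⟨b1, b2, rfl⟩ := Submodule.mem_span_pair.mp hb
  have hvw : Cfsg.hermForm n F q v w = 0 := by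
    rw [← hermForm_conj σ hσ hσ2, hwv, ← hσ, map_zero]
  simp [hermForm_add_left, hermForm_add_right σ hσ, hermForm_smul_left, hermForm_smul_right,
    hvv, hww, hwv, hvw]

omit [Fintype F] in
theorem finrank_span_pair {v w : Fin n → F} (hv : v ≠ 0) (hw : w ∉ span F {v}) :
    finrank F (span F {v, w}) = 2 := by
  have hli : LinearIndependent F ![v, w] := by
    rw [LinearIndependent.pair_iff' hv]
    intro a ha
    apply hw
    rw [← ha]
    exact Submodule.smul_mem _ _ (Submodule.mem_span_singleton_self v)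
  have := finrank_span_eq_card hli
  have hr : Set.range ![v, w] = {v, w} := by
    ext z
    simp [eq_comm]
    tauto
  rw [hr] at this
  simpa using this

omit [Fintype F] in
theorem eq_span_pair {v w : Fin n → F} (hv : v ≠ 0) (hw : w ∉ span F {v})
    (W : Submodule F (Fin n → F))
    (hW : finrank F W = 2) (hvW : v ∈ W) (hwW : w ∈ W) : W = span F {v, w} := by
  symm
  apply Submodule.eq_of_le_of_finrank_eq
  · rw [Submodule.span_le]
    intro z hz
    rcases hz with rfl | rfl
    · exact hvW
    · exact hwW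
  · rw [finrank_span_pair hv hw, hW]

open Classical in
/-- the totally isotropic 2-subspaces through `v` -/
noncomputable def linesThrough (q n : ℕ) (v : Fin n → F) : Finset (Submodule F (Fin n → F)) :=
  Finset.univ.filter (fun W : Submodule F (Fin n → F) => finrank F W = 2 ∧ v ∈ W ∧
      ∀ u ∈ W, ∀ w ∈ W, Cfsg.hermForm n F q u w = 0)

open Classical in
/-- the totally isotropic 2-subspaces -/
noncomputable def tiLines (F : Type*) [Field F] [Fintype F] (q n : ℕ) :
    Finset (Submodule F (Fin n → F)) :=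
  Finset.univ.filter (fun W : Submodule F (Fin n → F) => finrank F W = 2 ∧
      ∀ u ∈ W, ∀ w ∈ W, Cfsg.hermForm n F q u w = 0)

open Classical in
theorem part2 (hF : Fintype.card F = q ^ 2) (k : ℕ) (v : Fin (k + 2) → F) (hv : v ≠ 0)
    (hvv : Cfsg.hermForm (k + 2) F q v v = 0) (A : ℕ) (hA : A + q ^ 2 = q ^ 4) :
    (linesThrough q (k + 2) v).card * A + q ^ 2 = q ^ 2 * isoN F q k := by
  set s := linesThrough q (k + 2) v with hs
  have hsv : finrank F (span F {v}) = 1 := finrank_span_singleton hv
  have hdc := Finset.sum_card_bipartiteAbove_eq_sum_card_bipartiteBelow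
    (fun (W : Submodule F (Fin (k + 2) → F)) (w : Fin (k + 2) → F) => w ∈ W ∧ w ∉ span F {v})
    (s := s) (t := (Finset.univ : Finset (Fin (k + 2) → F)))
  have hL : ∀ W ∈ s, (Finset.bipartiteAbove (fun (W : Submodule F (Fin (k + 2) → F))
      (w : Fin (k + 2) → F) => w ∈ W ∧ w ∉ span F {v}) Finset.univ W).card = A := by
    intro W hW
    rw [hs, linesThrough, Finset.mem_filter] at hW
    obtain ⟨_, hW2, hvW, _⟩ := hW
    have := card_filter_diff (span F {v}) W (by
      rw [Submodule.span_le]
      intro z hz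
      rw [Set.mem_singleton_iff] at hz
      rw [hz]
      exact hvW)
    have h4 : (q ^ 2) ^ 2 = q ^ 4 := by ring
    rw [hsv, hW2, hF, pow_one, h4] at this
    have h2 : (Finset.bipartiteAbove (fun (W : Submodule F (Fin (k + 2) → F))
      (w : Fin (k + 2) → F) => w ∈ W ∧ w ∉ span F {v}) Finset.univ W) =
      Finset.univ.filter (fun w : Fin (k + 2) → F => w ∈ W ∧ w ∉ span F {v}) := by
      unfold Finset.bipartiteAbove
      ext w
      simp
    rw [h2]
    omega
  have hR : ∀ w : Fin (k + 2) → F, (Finset.bipartiteBelow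
      (fun (W : Submodule F (Fin (k + 2) → F)) (w : Fin (k + 2) → F) =>
      w ∈ W ∧ w ∉ span F {v}) s w).card =
      if (w ∈ perpIso q (k + 2) v ∧ w ∉ span F {v}) then 1 else 0 := by
    intro w
    unfold Finset.bipartiteBelow
    split_ifs with h
    · obtain ⟨hk, hns⟩ := h
      rw [mem_perpIso] at hk
      rw [Finset.card_eq_one]
      refine ⟨span F {v, w}, ?_⟩
      ext W
      rw [Finset.mem_filter, Finset.mem_singleton, hs, linesThrough, Finset.mem_filter]
      constructor
      · rintro ⟨⟨_, hW2, hvW, _⟩, hwW, _⟩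
        exact eq_span_pair hv hns W hW2 hvW hwW
      · rintro rfl
        refine ⟨⟨Finset.mem_univ _, finrank_span_pair hv hns,
          Submodule.subset_span (by simp), TI_span_pair hF hvv hk.1 hk.2⟩,
          Submodule.subset_span (by simp), hns⟩
    · rw [Finset.card_eq_zero, Finset.filter_eq_empty_iff]
      intro W hW
      rw [hs, linesThrough, Finset.mem_filter] at hW
      obtain ⟨_, hW2, hvW, hTI⟩ := hW
      rintro ⟨hwW, hns⟩
      apply h
      refine ⟨?_, hns⟩
      rw [mem_perpIso]
      exact ⟨hTI w hwW w hwW, hTI w hwW v hvW⟩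
  have hsub : ∀ w ∈ span F {v}, w ∈ perpIso q (k + 2) v := by
    intro w hw
    obtain ⟨c, rfl⟩ := Submodule.mem_span_singleton.mp hw
    rw [mem_perpIso]
    simp [hermForm_smul_left, hermForm_smul_right, hvv]
  have hT : (Finset.univ.filter (fun w : Fin (k + 2) → F =>
      w ∈ perpIso q (k + 2) v ∧ w ∉ span F {v})).card + q ^ 2 = q ^ 2 * isoN F q k := by
    rw [← card_perpIso hF k v hv hvv]
    have h1 := Finset.card_filter_add_card_filter_not (s := perpIso q (k + 2) v)
      (fun w => w ∈ span F {v})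
    have h2 : (perpIso q (k + 2) v).filter (fun w => w ∈ span F {v}) =
        Finset.univ.filter (fun w : Fin (k + 2) → F => w ∈ span F {v}) := by
      ext w
      simp only [Finset.mem_filter, Finset.mem_univ, true_and]
      exact ⟨fun h => h.2, fun h => ⟨hsub w h, h⟩⟩
    have h3 : (perpIso q (k + 2) v).filter (fun w => ¬ w ∈ span F {v}) =
        Finset.univ.filter (fun w : Fin (k + 2) → F =>
          w ∈ perpIso q (k + 2) v ∧ w ∉ span F {v}) := by
      ext w
      simp only [Finset.mem_filter, Finset.mem_univ, true_and]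
    rw [h2, h3, card_filter_mem, hsv, hF, pow_one] at h1
    omega
  rw [Finset.sum_congr rfl (fun w _ => hR w), Finset.sum_boole,
    Finset.sum_congr rfl hL, Finset.sum_const, smul_eq_mul] at hdc
  rw [hdc, ← hT]
  simp

open Classical in
theorem part1 (hF : Fintype.card F = q ^ 2) (n : ℕ) (A : ℕ) (hA : A + 1 = q ^ 4) :
    (tiLines F q n).card * A = ∑ v ∈ Finset.univ.filter (fun v : Fin n → F =>
      v ≠ 0 ∧ Cfsg.hermForm n F q v v = 0), (linesThrough q n v).card := by
  set s := tiLines F q n with hs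
  have hdc := Finset.sum_card_bipartiteAbove_eq_sum_card_bipartiteBelow
    (fun (W : Submodule F (Fin n → F)) (w : Fin n → F) => w ∈ W ∧ w ≠ 0) (s := s)
    (t := (Finset.univ : Finset (Fin n → F)))
  have hL : ∀ W ∈ s, (Finset.bipartiteAbove (fun (W : Submodule F (Fin n → F)) (w : Fin n → F) =>
      w ∈ W ∧ w ≠ 0) Finset.univ W).card = A := by
    intro W hW
    rw [hs, tiLines, Finset.mem_filter] at hW
    obtain ⟨_, hW2, _⟩ := hW
    have := card_filter_diff (⊥ : Submodule F (Fin n → F)) W bot_le
    have h4 : (q ^ 2) ^ 2 = q ^ 4 := by ring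
    rw [finrank_bot, hW2, hF, pow_zero, h4] at this
    have h2 : (Finset.bipartiteAbove (fun (W : Submodule F (Fin n → F)) (w : Fin n → F) =>
      w ∈ W ∧ w ≠ 0) Finset.univ W) = Finset.univ.filter (fun w : Fin n → F => w ∈ W ∧ w ∉
        (⊥ : Submodule F (Fin n → F))) := by
      unfold Finset.bipartiteAbove
      ext w
      simp
    rw [h2]
    omega
  have hR : ∀ w : Fin n → F, (Finset.bipartiteBelow (fun (W : Submodule F (Fin n → F))
      (w : Fin n → F) => w ∈ W ∧ w ≠ 0) s w).card =
      if (w ≠ 0 ∧ Cfsg.hermForm n F q w w = 0) then (linesThrough q n w).card else 0 := by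
    intro w
    unfold Finset.bipartiteBelow
    split_ifs with h
    · refine congrArg Finset.card ?_
      ext W
      simp only [hs, tiLines, linesThrough, Finset.mem_filter, Finset.mem_univ, true_and]
      tauto
    · rw [Finset.card_eq_zero, Finset.filter_eq_empty_iff]
      intro W hW hw
      rw [hs, tiLines, Finset.mem_filter] at hW
      exact h ⟨hw.2, hW.2.2 w hw.1 w hw.1⟩
  rw [Finset.sum_congr rfl hL, Finset.sum_const, smul_eq_mul,
    Finset.sum_congr rfl (fun w _ => hR w), ← Finset.sum_filter] at hdc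
  exact hdc

open Classical in
theorem card_iso_nonzero (n : ℕ) :
    (Finset.univ.filter (fun v : Fin n → F =>
      v ≠ 0 ∧ Cfsg.hermForm n F q v v = 0)).card + 1 = isoN F q n := by
  unfold isoN
  have h0 : (0 : Fin n → F) ∈ Finset.univ.filter (fun v : Fin n → F =>
      Cfsg.hermForm n F q v v = 0) := by
    rw [Finset.mem_filter]
    exact ⟨Finset.mem_univ _, by simp [Cfsg.hermForm]⟩
  rw [← Finset.card_erase_add_one h0]
  congr 1
  refine congrArg Finset.card ?_
  ext v
  simp only [Finset.mem_filter, Finset.mem_univ, true_and, Finset.mem_erase]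

theorem isoN_zero : isoN F q 0 = 1 := by
  classical
  unfold isoN
  rw [Finset.filter_true_of_mem (by intro v _; simp [Cfsg.hermForm])]
  simp [Finset.card_univ]

theorem nat_card_eq (n : ℕ) :
    Nat.card {W : Submodule F (Fin n → F) // Module.finrank F W = 2 ∧
      ∀ u ∈ W, ∀ v ∈ W, Cfsg.hermForm n F q u v = 0} = (tiLines F q n).card := by
  classical
  rw [Nat.card_eq_fintype_card, tiLines]
  exact Fintype.card_of_subtype _ (by simp)

end Cfsg.Agent.Helper28.HermCount
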