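import Mathlib
import Cfsg.Prelude.Def_Characters
import Cfsg.Agent.Helper12.LSLDefs
import Cfsg.Agent.Helper2.Transvec

set_option autoImplicit false
set_option linter.unusedSimpArgs false

/-! S2332 piece GEN: `SL_{m+1}` is generated by the row group `Q` and the column group `Q⁻`. -/

namespace Cfsg.Agent.Helper12.LSL

open Matrix Cfsg

variable {F : Type*} [Field F] {m : ℕ}

theorem gen_uQ_single (j : Fin m) (c : F) :
    (uQ (Pi.single j c) : GG m F) =
      Matrix.SpecialLinearGroup.transvection (Sum.inl_ne_inr : (Sum.inl () : Unit ⊕ Fin m) ≠ Sum.inr j) c := by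
  apply sl_ext
  rw [uQ_val, Matrix.SpecialLinearGroup.transvection_coe]
  ext a b
  rcases a with a | a <;> rcases b with b | b
  · simp [Matrix.single_apply, Matrix.one_apply]
  · simp only [fromBlocks_apply₁₂, replicateRow_apply, Matrix.add_apply, Matrix.single_apply,
      Matrix.one_apply]
    by_cases h : j = b
    · subst h; simp
    · have : ¬ (Sum.inr j : Unit ⊕ Fin m) = Sum.inr b := fun h' => h (Sum.inr_injective h')
      simp [h, Pi.single_apply, Ne.symm h]
  · simp [Matrix.single_apply, Matrix.one_apply]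
  · simp [Matrix.single_apply, Matrix.one_apply]

theorem gen_uQm_single (i : Fin m) (c : F) :
    (uQm (Pi.single i c) : GG m F) =
      Matrix.SpecialLinearGroup.transvection (Sum.inr_ne_inl : (Sum.inr i : Unit ⊕ Fin m) ≠ Sum.inl ()) c := by
  apply sl_ext
  rw [uQm_val, Matrix.SpecialLinearGroup.transvection_coe]
  ext a b
  rcases a with a | a <;> rcases b with b | b
  · simp [Matrix.single_apply, Matrix.one_apply]
  · simp [Matrix.single_apply, Matrix.one_apply]
  · simp only [fromBlocks_apply₂₁, replicateCol_apply, Matrix.add_apply, Matrix.single_apply,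
      Matrix.one_apply]
    by_cases h : i = a
    · subst h; simp
    · simp [h, Pi.single_apply, Ne.symm h]
  · simp [Matrix.single_apply, Matrix.one_apply]

theorem closure_uQ_uQm (hm : 1 ≤ m) :
    Subgroup.closure (Set.range (uQ : (Fin m → F) → GG m F) ∪ Set.range uQm) = ⊤ := by
  have : Nontrivial (Unit ⊕ Fin m) :=
    ⟨⟨Sum.inl (), Sum.inr ⟨0, by omega⟩, Sum.inl_ne_inr⟩⟩
  set S : Subgroup (GG m F) :=
    Subgroup.closure (Set.range (uQ : (Fin m → F) → GG m F) ∪ Set.range uQm) with hS
  have hQ : ∀ b : Fin m → F, uQ b ∈ S := fun b =>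
    Subgroup.subset_closure (Or.inl ⟨b, rfl⟩)
  have hQm : ∀ b : Fin m → F, uQm b ∈ S := fun b =>
    Subgroup.subset_closure (Or.inr ⟨b, rfl⟩)
  refine le_antisymm le_top (fun A _ => ?_)
  refine Cfsg.Agent.Helper2.SL_transvection_induction (fun A => A ∈ S) ?_
    (fun _ _ hA hB => S.mul_mem hA hB) A
  intro i j hij c
  rcases i with i | i <;> rcases j with j | j
  · exact absurd rfl hij
  · have := hQ (Pi.single j c)
    rw [gen_uQ_single] at this
    exact this
  · have := hQm (Pi.single i c)
    rw [gen_uQm_single] at this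
    exact this
  · show Matrix.SpecialLinearGroup.transvection hij c ∈ S
    rw [← Cfsg.Agent.Helper2.transvection_comm
      (Sum.inr_ne_inl : (Sum.inr i : Unit ⊕ Fin m) ≠ Sum.inl ())
      (Sum.inl_ne_inr : (Sum.inl () : Unit ⊕ Fin m) ≠ Sum.inr j) hij c]
    have h1 := hQm (Pi.single i c)
    rw [gen_uQm_single] at h1
    have h2 := hQ (Pi.single j (1 : F))
    rw [gen_uQ_single] at h2
    rw [commutatorElement_def]
    exact S.mul_mem (S.mul_mem (S.mul_mem h1 h2) (S.inv_mem h1)) (S.inv_mem h2)

end Cfsg.Agent.Helper12.LSL
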