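import Mathlib
import Cfsg.Prelude.Def_Characters
import Cfsg.Agent.Helper12.LSLDefs
import Cfsg.Agent.Helper12.SLTrans

set_option autoImplicit false
set_option linter.unusedSimpArgs false

/-! S2332 piece TVSET: the set of transvections of `SL` is a conjugacy-closed set containing
`uQ b`, `uQm b`, `lev u` (`u` a transvection), and every transvection of `SL_{m+1}` is conjugate
to some `uQ b`. -/

namespace Cfsg.Agent.Helper12.LSL

open Matrix Cfsg

variable {F : Type*} [Field F] {m : ℕ}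

theorem tvset_inv_mulVec {ι : Type*} [Fintype ι] [DecidableEq ι]
    (h : Matrix.SpecialLinearGroup ι F) (x : ι → F) : (h⁻¹).1 *ᵥ (h.1 *ᵥ x) = x := by
  rw [mulVec_mulVec, ← Matrix.SpecialLinearGroup.coe_mul, inv_mul_cancel,
    Matrix.SpecialLinearGroup.coe_one, one_mulVec]

theorem tvset_vecMul_inv {ι : Type*} [Fintype ι] [DecidableEq ι]
    (h : Matrix.SpecialLinearGroup ι F) (φ : ι → F) : (φ ᵥ* (h⁻¹).1) ᵥ* h.1 = φ := by
  rw [vecMul_vecMul, ← Matrix.SpecialLinearGroup.coe_mul, inv_mul_cancel,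
    Matrix.SpecialLinearGroup.coe_one, vecMul_one]

/-- explicit form of the conjugate of a transvection -/
theorem tvset_conj_val {ι : Type*} [Fintype ι] [DecidableEq ι]
    (g h : Matrix.SpecialLinearGroup ι F) (x φ : ι → F) (hg : g.1 = 1 + vecMulVec x φ) :
    (h * g * h⁻¹).1 = 1 + vecMulVec (h.1 *ᵥ x) (φ ᵥ* (h⁻¹).1) := by
  rw [Matrix.SpecialLinearGroup.coe_mul, Matrix.SpecialLinearGroup.coe_mul, hg, mul_add, add_mul,
    mul_one, ← Matrix.SpecialLinearGroup.coe_mul, mul_inv_cancel, Matrix.SpecialLinearGroup.coe_one,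
    mul_vecMulVec, vecMulVec_mul]

theorem tvSet_conj {ι : Type*} [Fintype ι] [DecidableEq ι] (g h : Matrix.SpecialLinearGroup ι F)
    (hg : g ∈ tvSet ι F) : h * g * h⁻¹ ∈ tvSet ι F := by
  obtain ⟨x, φ, hx, hφ, hφx, hgv⟩ := hg
  refine ⟨h.1 *ᵥ x, φ ᵥ* (h⁻¹).1, ?_, ?_, ?_, tvset_conj_val g h x φ hgv⟩
  · intro h0
    apply hx
    rw [← tvset_inv_mulVec h x, h0, mulVec_zero]
  · intro h0
    apply hφ
    rw [← tvset_vecMul_inv h φ, h0, zero_vecMul]
  · rw [dotProduct_mulVec, tvset_vecMul_inv, hφx]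

theorem tvset_single_eq {ι : Type*} [Fintype ι] [DecidableEq ι] (i j : ι) (c : F) :
    Matrix.single i j c = vecMulVec (Pi.single i c) (Pi.single j (1 : F)) := by
  ext a b
  simp only [Matrix.single_apply, vecMulVec_apply, Pi.single_apply]
  by_cases h1 : i = a
  · by_cases h2 : j = b
    · subst h1; subst h2; simp
    · subst h1; simp [h2, Ne.symm h2]
  · simp [h1, Ne.symm h1]

theorem single_mem_tvSet {ι : Type*} [Fintype ι] [DecidableEq ι] (u : Matrix.SpecialLinearGroup ι F)
    (i j : ι) (hij : i ≠ j) (c : F) (hc : c ≠ 0)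
    (hu : (u : Matrix ι ι F) = 1 + Matrix.single i j c) : u ∈ tvSet ι F := by
  refine ⟨Pi.single i c, Pi.single j 1, ?_, ?_, ?_, ?_⟩
  · intro h0
    have := congrFun h0 i
    simp at this
    exact hc this
  · intro h0
    have := congrFun h0 j
    simp at this
  · rw [single_dotProduct, one_mul, Pi.single_apply, if_neg hij.symm]
  · rw [hu, tvset_single_eq]

theorem uQ_mem_tvSet (b : Fin m → F) (hb : b ≠ 0) : uQ b ∈ tvSet (Unit ⊕ Fin m) F := by
  refine ⟨Pi.single (Sum.inl ()) 1, Sum.elim (fun _ => 0) b, ?_, ?_, ?_, ?_⟩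
  · intro h0
    have := congrFun h0 (Sum.inl ())
    simp at this
  · intro h0
    apply hb
    funext j
    have := congrFun h0 (Sum.inr j)
    simpa using this
  · rw [dotProduct_single, mul_one, Sum.elim_inl]
  · rw [uQ_val]
    ext a c
    rcases a with a | a <;> rcases c with c | c
    · simp [vecMulVec_apply, Matrix.one_apply]
    · simp [vecMulVec_apply, Matrix.one_apply]
    · simp [vecMulVec_apply, Matrix.one_apply]
    · simp [vecMulVec_apply, Matrix.one_apply]

theorem uQm_mem_tvSet (b : Fin m → F) (hb : b ≠ 0) : uQm b ∈ tvSet (Unit ⊕ Fin m) F := by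
  refine ⟨Sum.elim (fun _ => 0) b, Pi.single (Sum.inl ()) 1, ?_, ?_, ?_, ?_⟩
  · intro h0
    apply hb
    funext j
    have := congrFun h0 (Sum.inr j)
    simpa using this
  · intro h0
    have := congrFun h0 (Sum.inl ())
    simp at this
  · rw [single_dotProduct, one_mul, Sum.elim_inl]
  · rw [uQm_val]
    ext a c
    rcases a with a | a <;> rcases c with c | c
    · simp [vecMulVec_apply, Matrix.one_apply]
    · simp [vecMulVec_apply, Matrix.one_apply]
    · simp [vecMulVec_apply, Matrix.one_apply]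
    · simp [vecMulVec_apply, Matrix.one_apply]

theorem lev_mem_tvSet (u : MM m F) (hu : u ∈ tvSet (Fin m) F) :
    lev u ∈ tvSet (Unit ⊕ Fin m) F := by
  obtain ⟨x, φ, hx, hφ, hφx, huv⟩ := hu
  refine ⟨Sum.elim (fun _ => 0) x, Sum.elim (fun _ => 0) φ, ?_, ?_, ?_, ?_⟩
  · intro h0
    apply hx
    funext j
    have := congrFun h0 (Sum.inr j)
    simpa using this
  · intro h0
    apply hφ
    funext j
    have := congrFun h0 (Sum.inr j)
    simpa using this
  · rw [dotProduct, Fintype.sum_sum_type]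
    simp only [Sum.elim_inl, Sum.elim_inr, mul_zero, Finset.sum_const_zero, zero_add]
    exact hφx
  · rw [lev_val, huv]
    ext a c
    rcases a with a | a <;> rcases c with c | c
    · simp [vecMulVec_apply, Matrix.one_apply]
    · simp [vecMulVec_apply, Matrix.one_apply]
    · simp [vecMulVec_apply, Matrix.one_apply]
    · simp [vecMulVec_apply, Matrix.one_apply]

/-- `SL ι F` is transitive on nonzero vectors when `ι` has at least two elements. -/
theorem tvset_exists_mulVec {ι : Type*} [Fintype ι] [DecidableEq ι] (hι : 2 ≤ Fintype.card ι)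
    (x x' : ι → F) (hx : x ≠ 0) (hx' : x' ≠ 0) :
    ∃ g : Matrix.SpecialLinearGroup ι F, g.1 *ᵥ x = x' := by
  set n := Fintype.card ι with hn
  let e : ι ≃ Fin n := Fintype.equivFin ι
  have hy : x ∘ e.symm ≠ 0 := by
    intro h0
    apply hx
    funext i
    have := congrFun h0 (e i)
    simpa using this
  have hy' : x' ∘ e.symm ≠ 0 := by
    intro h0
    apply hx'
    funext i
    have := congrFun h0 (e i)
    simpa using this
  have h1 : LinearIndependent F (fun _ : Fin 1 => x ∘ e.symm) :=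
    LinearIndependent.of_subsingleton (0 : Fin 1) hy
  have h2 : LinearIndependent F (fun _ : Fin 1 => x' ∘ e.symm) :=
    LinearIndependent.of_subsingleton (0 : Fin 1) hy'
  obtain ⟨g, hg⟩ := Cfsg.Agent.Helper12.exists_sl_map_family (n := n) (k := 1) (by omega)
    (fun _ => x ∘ e.symm) (fun _ => x' ∘ e.symm) h1 h2
  refine ⟨⟨g.1.submatrix e e, by rw [Matrix.det_submatrix_equiv_self]; exact g.2⟩, ?_⟩
  show g.1.submatrix e e *ᵥ x = x'
  rw [Matrix.submatrix_mulVec_equiv, hg 0]
  funext i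
  simp

theorem exists_conj_of_mem_tvSet (hm : 1 ≤ m) (g : GG m F) (hg : g ∈ tvSet (Unit ⊕ Fin m) F) :
    ∃ b : Fin m → F, b ≠ 0 ∧ IsConj g (uQ b) := by
  obtain ⟨x, φ, hx, hφ, hφx, hgv⟩ := hg
  have hcard : 2 ≤ Fintype.card (Unit ⊕ Fin m) := by
    rw [Fintype.card_sum, Fintype.card_unit, Fintype.card_fin]; omega
  have he : (Pi.single (Sum.inl ()) 1 : Unit ⊕ Fin m → F) ≠ 0 := by
    intro h0
    have := congrFun h0 (Sum.inl ())
    simp at this
  obtain ⟨h, hh⟩ := tvset_exists_mulVec hcard x (Pi.single (Sum.inl ()) 1) hx he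
  set φ' : Unit ⊕ Fin m → F := φ ᵥ* (h⁻¹).1 with hφ'
  have hval := tvset_conj_val g h x φ hgv
  rw [hh, ← hφ'] at hval
  have hφ'0 : φ' (Sum.inl ()) = 0 := by
    have h1 : φ' ⬝ᵥ (h.1 *ᵥ x) = 0 := by
      rw [hφ', dotProduct_mulVec, tvset_vecMul_inv, hφx]
    rw [hh, dotProduct_single, mul_one] at h1
    exact h1
  have hφ'ne : φ' ≠ 0 := by
    intro h0
    apply hφ
    rw [← tvset_vecMul_inv h φ, ← hφ', h0, zero_vecMul]
  refine ⟨fun j => φ' (Sum.inr j), ?_, ?_⟩
  · intro h0
    apply hφ'ne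
    funext a
    rcases a with a | a
    · exact hφ'0
    · exact congrFun h0 a
  · rw [isConj_iff]
    refine ⟨h, ?_⟩
    apply sl_ext
    rw [hval, uQ_val]
    ext a c
    rcases a with a | a <;> rcases c with c | c
    · simp [vecMulVec_apply, Matrix.one_apply, hφ'0]
    · simp [vecMulVec_apply, Matrix.one_apply]
    · simp [vecMulVec_apply, Matrix.one_apply]
    · simp [vecMulVec_apply, Matrix.one_apply]

end Cfsg.Agent.Helper12.LSL
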