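import Mathlib
import Cfsg.Prelude.Def_Characters
import Cfsg.Agent.Helper12.LSLDefs
import Cfsg.Agent.Helper12.SLTrans

set_option autoImplicit false

/-! S2332 piece CONJ: all `uQ b` (`b ≠ 0`) are conjugate in `SL_{m+1}` (`m ≥ 2`). -/

namespace Cfsg.Agent.Helper12.LSL

open Matrix Cfsg

variable {F : Type*} [Field F] {m : ℕ}

/-- `SL_m` (`m ≥ 2`) is transitive on nonzero column vectors. -/
theorem conj_exists_mulVec (hm : 2 ≤ m) (b b' : Fin m → F) (hb : b ≠ 0) (hb' : b' ≠ 0) :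
    ∃ g : MM m F, g.1 *ᵥ b = b' := by
  have h1 : LinearIndependent F (fun _ : Fin 1 => b) :=
    LinearIndependent.of_subsingleton (0 : Fin 1) hb
  have h2 : LinearIndependent F (fun _ : Fin 1 => b') :=
    LinearIndependent.of_subsingleton (0 : Fin 1) hb'
  obtain ⟨g, hg⟩ := Cfsg.Agent.Helper12.exists_sl_map_family (n := m) (k := 1) (by omega)
    (fun _ => b) (fun _ => b') h1 h2
  exact ⟨g, hg 0⟩

/-- `SL_m` (`m ≥ 2`) is transitive on nonzero row vectors. -/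
theorem conj_exists_vecMul (hm : 2 ≤ m) (b b' : Fin m → F) (hb : b ≠ 0) (hb' : b' ≠ 0) :
    ∃ g : MM m F, b ᵥ* g.1 = b' := by
  obtain ⟨g, hg⟩ := conj_exists_mulVec hm b b' hb hb'
  refine ⟨Matrix.SpecialLinearGroup.transpose g, ?_⟩
  rw [Matrix.SpecialLinearGroup.coe_transpose, Matrix.vecMul_transpose]
  exact hg

theorem isConj_uQ (hm : 2 ≤ m) (b b' : Fin m → F) (hb : b ≠ 0) (hb' : b' ≠ 0) :
    IsConj (uQ b) (uQ b') := by
  obtain ⟨g, hg⟩ := conj_exists_vecMul hm b b' hb hb'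
  rw [isConj_iff]
  refine ⟨lev g⁻¹, ?_⟩
  rw [lev_conj_uQ, inv_inv, hg]

end Cfsg.Agent.Helper12.LSL
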