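import Mathlib
import Cfsg.Prelude.Def_PLocal
import Cfsg.Agent.Helper28.S2768Defs
import Cfsg.Agent.Helper19.S2768PSLA
import Cfsg.Agent.Helper25.S2768PSLB
import Cfsg.Agent.Helper23.S2768PSLC
import Cfsg.Agent.Helper25.S2768TRANSP
import Cfsg.Agent.Helper23.S2768E0A
import Cfsg.Agent.Helper5.S2768E0B
import Cfsg.Agent.Helper19.S2768E0C

/-! S2768 / S2769 assembly, part 1: from the frozen hypotheses to `Hyp` and `Basic`
(blueprint `departures/helper28_KS12_blueprint.md`, §0 and §1). -/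

set_option autoImplicit false

namespace Cfsg.Agent.S2768P

open Subgroup

/-- `RankOne` for `PSL₂(F)`. -/
theorem ASM_aux_rank (F : Type) [Field F] [Fintype F] (p : ℕ) [Fact p.Prime] (n : ℕ) (hn : 1 ≤ n)
    (hF : Fintype.card F = p ^ n) :
    RankOne p (Matrix.ProjectiveSpecialLinearGroup (Fin 2) F) := by
  obtain ⟨h1, h2, h3⟩ := PSLA F p n hn hF
  exact ⟨h1, h2, h3, fun P N hN hPN => PSLB F p n hn hF P N hN hPN,
    fun P U₁ hU hne hnorm => PSLC F p n hn hF P U₁ hU hne hnorm⟩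

variable {G : Type*} [Group G] [Finite G] {p : ℕ} [Fact p.Prime]

theorem ASM_aux_hyp (S : Sylow p G)
    (hE₁ : Subgroup.centralizer (Cfsg.pCore p G : Set G) ≤ Cfsg.pCore p G)
    (hE₂ : ∃! M : Subgroup G, IsCoatom M ∧ (S : Subgroup G) ≤ M) (K : Subgroup G) [K.Normal]
    (F : Type) [Field F] [Fintype F] (n : ℕ) (hn : 1 ≤ n) (hF : Fintype.card F = p ^ n)
    (hE₃ : Nonempty (G ⧸ K ≃* Matrix.ProjectiveSpecialLinearGroup (Fin 2) F)) :
    ∃ M : Subgroup G, Hyp p S M K := by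
  obtain ⟨M, ⟨hM1, hM2⟩, hM3⟩ := hE₂
  obtain ⟨e⟩ := hE₃
  exact ⟨M, ⟨hE₁, hM1, hM2, fun M' h1 h2 => hM3 M' ⟨h1, h2⟩,
    TRANSP p e (ASM_aux_rank F p n hn hF)⟩⟩

theorem ASM_aux_basic (S : Sylow p G) (M K : Subgroup G) [K.Normal] (h : Hyp p S M K) :
    Basic p S M := by
  obtain ⟨a1, a2, -, -, -⟩ := E0A S M K h
  obtain ⟨c1, c2, c3⟩ := E0C S M K h
  exact ⟨h.e1, a1, a2, fun g hg => (E0B S M K h g hg).1, c1, c2, c3⟩

end Cfsg.Agent.S2768P
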