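import Mathlib
import Cfsg.Prelude.Def_GeometricClasses
import Cfsg.Agent.Helper2.S5886.Defs
import Cfsg.Agent.Helper2.S5664.Defs
import Cfsg.Agent.Helper23.S5664KSPTV
import Cfsg.Agent.Helper4.S5664PARTNER
import Cfsg.Agent.Helper25.S5664TKSPAN

/-! # S5664, chapter T, piece TIMARG (helper28). -/

set_option autoImplicit false

namespace Cfsg.Agent.S5664P

open Cfsg.Agent.S5886P

variable {F K V : Type*} [Field F] [Field K] [Algebra F K]
  [AddCommGroup V] [Module F V] [Module K V] [IsScalarTower F K V]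

/-- TIMARG (M): `w = h (k • v)`, `B w v = 0`. KSPTV (`u = v`, `c = 1`): `T ∈ SpK ≤ M`, `T x = x + B x v • v` fixes `v` and `w`. `τ = h⁻¹ * T * h ∈ M` fixes `v` and `k • v`, hence `K v` pointwise (`k ∉ F` because `h (a • v) = a • v ∈ K v`; TKSPAN); by hS2 it is `K`-linear. `τ x - x = h⁻¹ (B (h x) v • v)`. PARTNER `v'`, `x₁ = h⁻¹ v'` (`B v' v = 1`, char 2): `τ x₁ - x₁ = h⁻¹ v = v`; `K`-linearity: `τ (k • x₁) - k • x₁ = k • v`, and it equals `h⁻¹ (e • v)`, `e = B (h (k • x₁)) v`; so `h (k • v) = e • v ∈ K v`, contradicting hhk. -/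
theorem TIMARG [Finite F] [Finite K] [Finite V] [CharP F 2] (hr2 : Module.finrank F K = 2)
    (B : V →ₗ[K] V →ₗ[K] K) (hB : IsAltND B)
    (M : Subgroup (V ≃ₗ[F] V)) (hK : SpK F B ≤ M) (hM : M ≤ SpF F B)
    (v : V) (k : K) (h : V ≃ₗ[F] V) (hv : v ≠ 0)
    (hh : h ∈ M) (hhv : h v = v) (hhk : h (k • v) ∉ Kline (F := F) (K := K) v)
    (hS2 : ∀ g ∈ StabPt M (Kline (F := F) (K := K) v), ∀ (c : K) (x : V), g (c • x) = c • g x)
    (hβ : B (h (k • v)) v = 0) : False := by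
  have hmemK : ∀ c : K, c • v ∈ Kline (F := F) (K := K) v := fun c =>
    Submodule.mem_span_singleton.mpr ⟨c, rfl⟩
  have hhi : ∀ y, h⁻¹ (h y) = y := fun y => by
    show h.symm (h y) = y
    exact h.symm_apply_apply y
  have hhi' : ∀ y, h (h⁻¹ y) = y := fun y => by
    show h (h.symm y) = y
    exact h.apply_symm_apply y
  -- `k ∉ F`
  have hkF : k ∉ Set.range (algebraMap F K) := by
    rintro ⟨a, rfl⟩
    apply hhk
    rw [algebraMap_smul, map_smul, hhv, ← algebraMap_smul K a v]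
    exact hmemK _
  obtain ⟨T, hTK, hT⟩ := KSPTV (F := F) B hB v 1
  have hTx : ∀ x, T x = x + B x v • v := by
    intro x
    rw [hT, one_mul]
  have hTv : T v = v := by rw [hTx, hB.alt, zero_smul, add_zero]
  have hTw : T (h (k • v)) = h (k • v) := by rw [hTx, hβ, zero_smul, add_zero]
  obtain ⟨τ, hτ⟩ : ∃ τ : V ≃ₗ[F] V, τ = h⁻¹ * T * h := ⟨_, rfl⟩
  have hτx : ∀ x, τ x = h⁻¹ (T (h x)) := by
    intro x
    rw [hτ]
    rfl
  have hτM : τ ∈ M := by
    rw [hτ]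
    exact M.mul_mem (M.mul_mem (M.inv_mem hh) (hK hTK)) hh
  have hτv : τ v = v := by
    rw [hτx, hhv, hTv]
    conv_lhs => rw [← hhv]
    exact hhi v
  have hτk : τ (k • v) = k • v := by
    rw [hτx, hTw, hhi]
  have hτL : ∀ x ∈ Kline (F := F) (K := K) v, τ x = x := by
    intro x hx
    obtain ⟨c, rfl⟩ := Submodule.mem_span_singleton.mp hx
    obtain ⟨a, b, rfl⟩ := TKSPAN hr2 k hkF c
    have e1 : (algebraMap F K a + b • k) • v = a • v + b • (k • v) := by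
      rw [add_smul, algebraMap_smul, smul_assoc]
    rw [e1, map_add, map_smul, map_smul, hτv, hτk]
  have hτlin := hS2 τ ⟨hτM, hτL⟩
  have hτd : ∀ x, τ x - x = h⁻¹ (B (h x) v • v) := by
    intro x
    rw [hτx, hTx, map_add, hhi]
    abel
  obtain ⟨v', hv'⟩ := PARTNER B hB v hv
  have hv'v : B v' v = -1 := by
    have h1 := hB.alt (v + v')
    simp only [map_add, LinearMap.add_apply, hB.alt v, hB.alt v', hv'] at h1
    linear_combination h1
  obtain ⟨x₁, hx₁⟩ : ∃ x₁ : V, x₁ = h⁻¹ v' := ⟨_, rfl⟩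
  have hhx₁ : h x₁ = v' := by rw [hx₁, hhi']
  have h1 : τ x₁ - x₁ = -v := by
    rw [hτd, hhx₁, hv'v, neg_one_smul, map_neg]
    conv_lhs => rw [← hhv]
    rw [hhi]
  have h2 : τ (k • x₁) - k • x₁ = -(k • v) := by
    rw [hτlin, ← smul_sub, h1, smul_neg]
  have h3 := hτd (k • x₁)
  rw [h2] at h3
  -- apply `h`
  have h4 : h (-(k • v)) = B (h (k • x₁)) v • v := by
    rw [h3, hhi']
  apply hhk
  have h5 : h (k • v) = (-(B (h (k • x₁)) v)) • v := by
    rw [neg_smul, ← h4, map_neg, neg_neg]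
  rw [h5]
  exact hmemK _

end Cfsg.Agent.S5664P
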