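import Mathlib
import Cfsg.Prelude.Def_GeometricClasses
import Cfsg.Agent.Helper2.S5886.Defs
import Cfsg.Agent.Helper2.S5664.Defs
import Cfsg.Agent.Helper20.S5664TRLIN
import Cfsg.Agent.Helper17.S5664TLEVI
import Cfsg.Agent.Helper14.S5664TDELTA

/-! # S5664, chapter T, piece TS2 (helper28). -/

set_option autoImplicit false

namespace Cfsg.Agent.S5664P

open Cfsg.Agent.S5886P

variable {F K V : Type*} [Field F] [Field K] [Algebra F K]
  [AddCommGroup V] [Module F V] [Module K V] [IsScalarTower F K V]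

/-- TS2 (S-M): TDELTA gives hδ, TLEVI gives `n`; `ρ = g * n⁻¹ ∈ M` (`SpK ≤ M`) fixes `K v` pointwise (`n⁻¹ (c • v) = c • v`), and for `y ∈ v^⊥`, `z = n⁻¹ y ∈ v^⊥` (`n` isometry fixing `v`): `ρ y - y = g z - n z ∈ K v`. TRLIN: `ρ` is `K`-linear, so is `g = ρ * n`. -/
theorem TS2 [Finite F] [Finite K] [Finite V] [CharP F 2] (B : V →ₗ[K] V →ₗ[K] K) (hB : IsAltND B)
    (M : Subgroup (V ≃ₗ[F] V)) (hK : SpK F B ≤ M) (hM : M ≤ SpF F B) (v : V) (hv : v ≠ 0)
    (hY : ∀ A ∈ yset M (Kline (F := F) (K := K) v), ∀ (c : K) (x : V), A (c • x) = c • A x)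
    (g : V ≃ₗ[F] V) (hg : g ∈ StabPt M (Kline (F := F) (K := K) v)) (c : K) (x : V) :
    g (c • x) = c • g x := by
  have hδ := TDELTA B hB M hK hM v hv hY g hg
  obtain ⟨n, hnK, hnv, hn⟩ := TLEVI B hB M hM v hv g hg hδ
  have hniK : n⁻¹ ∈ SpK F B := (SpK F B).inv_mem hnK
  have hnn : ∀ y, n (n⁻¹ y) = y := fun y => by
    show n (n.symm y) = y
    exact n.apply_symm_apply y
  have hnn' : ∀ y, n⁻¹ (n y) = y := fun y => by
    show n.symm (n y) = y
    exact n.symm_apply_apply y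
  have hniv : n⁻¹ v = v := by
    conv_lhs => rw [← hnv]
    exact hnn' v
  obtain ⟨ρ, hρ⟩ : ∃ ρ : V ≃ₗ[F] V, ρ = g * n⁻¹ := ⟨_, rfl⟩
  have hρM : ρ ∈ M := by
    rw [hρ]
    exact M.mul_mem hg.1 (hK hniK)
  have hρx : ∀ y, ρ y = g (n⁻¹ y) := by
    intro y
    rw [hρ]
    rfl
  have hρL : ∀ y ∈ Kline (F := F) (K := K) v, ρ y = y := by
    intro y hy
    obtain ⟨a, rfl⟩ := Submodule.mem_span_singleton.mp hy
    rw [hρx, hniK.1, hniv]
    exact hg.2 _ hy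
  have hρP : ∀ y, B y v = 0 → ρ y - y ∈ Kline (F := F) (K := K) v := by
    intro y hy
    have hz : B (n⁻¹ y) v = 0 := by
      have := hniK.2 y v
      rw [hniv] at this
      rw [this]
      exact hy
    have := hn (n⁻¹ y) hz
    rw [hnn] at this
    rw [hρx]
    exact this
  have hlin := TRLIN B hB M hK hM v hv hY ρ hρM hρL hρP
  have hgρ : ∀ y, g y = ρ (n y) := by
    intro y
    rw [hρx, hnn']
  rw [hgρ, hnK.1, hlin, ← hgρ]

end Cfsg.Agent.S5664P
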