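import Mathlib
import Cfsg.Agent.Helper28.SemiSim3
import Cfsg.Agent.Helper28.FieldM7
import Cfsg.Agent.Helper7.FieldPSL5

set_option autoImplicit false
set_option linter.unusedSectionVars false

/-! The Galois step, the rational Siegel elements and the field automorphism of a semilinear map
commuting with them. -/

namespace Cfsg.Agent.Helper28.FB

open Matrix Cfsg.Agent.Helper28.Sg Cfsg.Agent.Helper28.Spin Cfsg.Agent.Helper28.SSim
  Cfsg.Agent.Helper28.FM
open Cfsg.Agent.Helper7.FieldPSL (finite_ringAut)

/-- **the Galois step**: an automorphism fixing the fixed field of `σ` is a power of `σ` -/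
theorem mem_zpowers_of_fixes {F : Type*} [Field F] [Finite F] (σ τ : F ≃+* F)
    (h : ∀ y, σ y = y → τ y = y) : τ ∈ Subgroup.zpowers σ := by
  have hfin : Finite (F ≃+* F) := finite_ringAut
  have hmem : ∀ x : F, x ∈ FixedPoints.subfield (↥(Subgroup.zpowers σ)) F → σ x = x := by
    intro x hx
    exact hx ⟨σ, Subgroup.mem_zpowers σ⟩
  set K := FixedPoints.subfield (↥(Subgroup.zpowers σ)) F with hK
  let τ' : F ≃ₐ[↥K] F := AlgEquiv.ofRingEquiv (f := τ) (fun x => h x.1 (hmem x.1 x.2))
  obtain ⟨g, hg⟩ := (FixedPoints.toAlgAut_bijective (↥(Subgroup.zpowers σ)) F).2 τ'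
  have : τ = g.1 := by
    ext y
    have := congrArg (fun e : F ≃ₐ[↥K] F => e y) hg
    exact this.symm
  rw [this]
  exact g.2

variable {F : Type*} [Field F] {ι : Type} [Fintype ι] [DecidableEq ι]

section siegel

variable (Q : QuadraticForm F (ι → F))

/-- a semilinear map commuting with the two Siegel elements `ρ(e₀, e₁)` and `ρ(e₀, a e₁)` has a
field automorphism fixing `a` -/
theorem tau_fix_of_sieg (fr : Frame3 Q) (h : GL ι F) (τ : F ≃+* F) (a : F)
    (H : ∀ b : F, (b = 1 ∨ b = a) →
      (h : Matrix ι ι F) * (siegM Q (fr.e 0) (b • fr.e 1)).map τ * ((h⁻¹ : GL ι F) : Matrix ι ι F) =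
        siegM Q (fr.e 0) (b • fr.e 1)) : τ a = a := by
  set u := fr.e 0 with hu
  set v := fr.e 1 with hv
  set x := fr.f 0 with hx
  have hQv : Q v = 0 := fr.Qe 1
  have hux : B Q u x = 1 := by
    have := fr.Bef 0 0
    simpa using this
  have hvx : B Q v x = 0 := by
    have := fr.Bef 1 0
    simpa using this
  have key : ∀ b : F, (b = 1 ∨ b = a) → semi h τ (b • v) =
      (b * B Q u (semi h τ x)) • v - (b * B Q v (semi h τ x)) • u := by
    intro b hb
    have h3 := semi_comm h τ _ (H b hb) x
    have hs : ∀ y : ι → F, siegM Q u (b • v) *ᵥ y = y + (b * B Q u y) • v - (b * B Q v y) • u := by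
      intro y
      rw [siegM_mulVec, Q_smul, hQv]
      simp only [B, QuadraticMap.polar_smul_left, smul_eq_mul, mul_zero, zero_mul, zero_smul,
        sub_zero, smul_smul]
      congr 2
      rw [mul_comm]
    rw [hs, hs, hux, hvx, mul_zero, zero_smul, sub_zero, mul_one, semi_add] at h3
    have : semi h τ x + semi h τ (b • v) =
        semi h τ x + ((b * B Q u (semi h τ x)) • v - (b * B Q v (semi h τ x)) • u) := by
      rw [h3]; abel
    exact add_left_cancel this
  have h1 := key 1 (Or.inl rfl)
  rw [one_smul, one_mul, one_mul] at h1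
  have h2 := key a (Or.inr rfl)
  rw [semi_smul] at h2
  have h3 : (τ a - a) • semi h τ v = 0 := by
    rw [sub_smul, h2, h1, smul_sub, smul_smul, smul_smul]
    abel
  have hv0 : v ≠ 0 := by
    intro h0
    have := fr.Bef 1 1
    rw [← hv, h0] at this
    simp [QuadraticMap.polar] at this
  have hTv : semi h τ v ≠ 0 := by
    intro h0
    apply hv0
    apply semi_injective h τ
    rw [h0]
    unfold semi
    have : (fun i => τ ((0 : ι → F) i)) = 0 := by
      funext i; simp
    rw [this, Matrix.mulVec_zero]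
  rcases smul_eq_zero.1 h3 with h | h
  · exact sub_eq_zero.1 h
  · exact absurd h hTv

end siegel

section basechange

variable {K : Type*} [Field K] {φ : F →+* K} {Q : QuadraticForm F (ι → F)}
  {QK : QuadraticForm K (ι → K)}

theorem polarVec_map (hc : CompatHom φ Q QK) (u : ι → F) :
    mv φ (Cfsg.polarVec ⇑Q u) = Cfsg.polarVec ⇑QK (mv φ u) := by
  funext i
  unfold Cfsg.polarVec
  show φ (QuadraticMap.polar ⇑Q u (Pi.single i 1)) = _
  rw [← compatHom_polar hc, mv_single]

theorem siegM_map (hc : CompatHom φ Q QK) (u v : ι → F) :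
    (siegM Q u v).map φ = siegM QK (mv φ u) (mv φ v) := by
  unfold siegM
  rw [← polarVec_map hc, ← polarVec_map hc, hc]
  ext i l
  simp only [Matrix.map_apply, Matrix.sub_apply, Matrix.add_apply, Matrix.smul_apply,
    Matrix.vecMulVec_apply, smul_eq_mul, map_sub, map_add, map_mul, mv]
  congr 3
  by_cases h : i = l
  · subst h
    simp
  · simp [h]

theorem bcO_siegO (hc : CompatHom φ Q QK) (u v : ι → F) (hu : Q u = 0) (huv : B Q u v = 0)
    (hu' : QK (mv φ u) = 0) (huv' : B QK (mv φ u) (mv φ v) = 0) :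
    bcO hc (siegO Q u v hu huv) = siegO QK (mv φ u) (mv φ v) hu' huv' := by
  apply Subtype.ext
  apply Units.ext
  rw [bcO_val]
  exact siegM_map hc u v

end basechange

end Cfsg.Agent.Helper28.FB
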