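import Mathlib
import Cfsg.Prelude.Def_Characters
import Cfsg.Agent.Helper12.LSpWDefs
import Cfsg.Agent.Helper12.LSpWPDefs
import Cfsg.Agent.Helper12.WGDefs
import Cfsg.Agent.Helper12.WGDefsC
import Cfsg.Agent.Helper12.WGDefsD
import Cfsg.Agent.Helper12.WGStruct

/-!
# S2524, part B, piece BLKCLASS: `blk T` is of class `c` iff `T` is
-/

set_option autoImplicit false

namespace Cfsg.Agent.S2524P

open Matrix Cfsg Cfsg.Agent.S2333P Cfsg.Agent.Helper2.Sp Cfsg.Agent.Helper12.LSp Cfsg.Agent.Helper25

variable {F : Type*} [Field F] [Fintype F]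

/-- **BLKCLASS** -/
theorem ofClass_blk {m : ℕ} {c : F} (hc : c ≠ 0) (T : ↥(SymM m F)) :
    OfClass c (blk T) ↔ OfClass c T := by
  constructor
  · rintro ⟨x, hx, hT⟩
    have h00 : (blk T).1 0 0 = (rk1 c x).1 0 0 := by rw [hT]
    rw [blk_zero_left, rk1_apply] at h00
    have hx0 : x 0 = 0 := by
      rcases mul_eq_zero.mp h00.symm with h | h
      · exact absurd h hc
      · exact mul_self_eq_zero.mp h
    refine ⟨fun i => x i.succ, ?_, ?_⟩
    · intro h
      apply hx
      funext i
      refine Fin.cases ?_ (fun i' => ?_) i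
      · exact hx0
      · exact congrFun h i'
    · apply Subtype.ext
      ext i j
      rw [← blk_succ T i j, hT, rk1_apply, rk1_apply]
  · rintro ⟨x, hx, hT⟩
    refine ⟨Fin.cons 0 x, ?_, ?_⟩
    · intro h
      apply hx
      funext i
      have := congrFun h i.succ
      simpa using this
    · apply Subtype.ext
      ext i j
      rw [rk1_apply]
      refine Fin.cases ?_ (fun i' => ?_) i
      · rw [blk_zero_left, Fin.cons_zero, zero_mul, mul_zero]
      · refine Fin.cases ?_ (fun j' => ?_) j
        · rw [blk_zero_right, Fin.cons_zero, mul_zero, mul_zero]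
        · rw [blk_succ, Fin.cons_succ, Fin.cons_succ, hT, rk1_apply]

end Cfsg.Agent.S2524P
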