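import Mathlib
import Cfsg.Prelude.Def_Characters
import Cfsg.Agent.Helper12.LSpWDefs
import Cfsg.Agent.Helper12.LSpWPDefs
import Cfsg.Agent.Helper12.LSpWFin
import Cfsg.Agent.Helper12.WGDefs
import Cfsg.Agent.Helper12.WGDefsC
import Cfsg.Agent.Helper12.WGStruct

/-!
# S2524, chapter WEIL, piece WNORM

Norm facts for the restriction to `Sp_{2n}(F)` of an irreducible extension `η` of `theta φ` to
`Gam n F = Heis ⋊ Sp`: it is a character of degree `q^n`, of norm at most `2`, `|η(-1)|² = 1`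
and `|η(g)|² = 1` for every `g` without nonzero fixed vector.
-/

set_option autoImplicit false

namespace Cfsg.Agent.S2524P

open Matrix Cfsg Cfsg.Agent.S2333P Cfsg.Agent.Helper2.Sp Cfsg.Agent.Helper12.LSp Cfsg.Agent.Helper25

variable {F : Type*} [Field F] [Fintype F]

/-- **WNORM**: norm facts for the restriction to `Sp` of an extension of `theta φ` -/
theorem weil_norm_facts {n : ℕ} (hn : 1 ≤ n) (h2 : (2 : F) ≠ 0) (φ : AddChar F ℂ)
    (hirr : IsIrrCharacter (Heis n F) (theta (n := n) φ))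
    (η : Gam n F → ℂ) (hη : IsIrrCharacter (Gam n F) η)
    (hres : ∀ a : Heis n F, η (SemidirectProduct.inl a) = theta φ a) :
    IsCharacter ↥(symplecticGroup (Fin n) F) (fun g => η (SemidirectProduct.inr g)) ∧
    η (SemidirectProduct.inr 1) = (Fintype.card F : ℂ) ^ n ∧
    (classInner (fun g : ↥(symplecticGroup (Fin n) F) => η (SemidirectProduct.inr g))
      (fun g => η (SemidirectProduct.inr g))).re ≤ 2 ∧
    Complex.normSq (η (SemidirectProduct.inr (negOne n F))) = 1 ∧
    ∀ g : ↥(symplecticGroup (Fin n) F), NoFix g →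
      Complex.normSq (η (SemidirectProduct.inr g)) = 1 := by
  classical
  set ω : symplecticGroup (Fin n) F → ℂ := fun g => η (SemidirectProduct.inr g) with hω
  have hωchar : IsCharacter (symplecticGroup (Fin n) F) ω :=
    Cfsg.Agent.Helper8.isCharacter_comp (SemidirectProduct.inr : _ →* Gam n F)
      (Cfsg.Agent.Helper24.IsIrrCharacter.isCharacter hη)
  have hω1 : η (SemidirectProduct.inr 1) = (Fintype.card F : ℂ) ^ n := by
    rw [map_one, ← map_one (SemidirectProduct.inl : Heis n F →* Gam n F), hres, theta_one]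
  -- the norm
  have hnorm : (classInner ω ω).re ≤ 2 := by
    unfold classInner
    have h1 : ∀ g : symplecticGroup (Fin n) F, ω g * (starRingEnd ℂ) (ω g) =
        ((Complex.normSq (ω g) : ℝ) : ℂ) := fun g => Complex.mul_conj (ω g)
    rw [Finset.sum_congr rfl (fun g _ => h1 g), ← Complex.ofReal_sum, Nat.card_eq_fintype_card]
    have h3 : ∑ g : symplecticGroup (Fin n) F, Complex.normSq (ω g) ≤
        2 * (Fintype.card ↥(symplecticGroup (Fin n) F) : ℝ) := by
      calc ∑ g : symplecticGroup (Fin n) F, Complex.normSq (ω g)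
          ≤ ∑ g : symplecticGroup (Fin n) F, (Nat.card {v : Fin n ⊕ Fin n → F //
              (g : Matrix (Fin n ⊕ Fin n) (Fin n ⊕ Fin n) F) *ᵥ v = v} : ℝ) :=
            Finset.sum_le_sum (fun g _ => normSq_chi_inr_le η hη φ hirr hres g)
        _ = 2 * (Fintype.card ↥(symplecticGroup (Fin n) F) : ℝ) := by
            rw [← Nat.cast_sum, sum_card_fix hn]
            push_cast
            ring
    have hc : (0 : ℝ) < (Fintype.card ↥(symplecticGroup (Fin n) F) : ℝ) := by
      exact_mod_cast Fintype.card_pos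
    have h4 : ((Fintype.card ↥(symplecticGroup (Fin n) F) : ℂ)⁻¹ *
        ((∑ g : symplecticGroup (Fin n) F, Complex.normSq (ω g) : ℝ) : ℂ)).re =
        (Fintype.card ↥(symplecticGroup (Fin n) F) : ℝ)⁻¹ *
          ∑ g : symplecticGroup (Fin n) F, Complex.normSq (ω g) := by
      rw [← Complex.ofReal_natCast, ← Complex.ofReal_inv, ← Complex.ofReal_mul, Complex.ofReal_re]
    rw [h4]
    calc (Fintype.card ↥(symplecticGroup (Fin n) F) : ℝ)⁻¹ *
          ∑ g : symplecticGroup (Fin n) F, Complex.normSq (ω g)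
        ≤ (Fintype.card ↥(symplecticGroup (Fin n) F) : ℝ)⁻¹ *
          (2 * (Fintype.card ↥(symplecticGroup (Fin n) F) : ℝ)) :=
          mul_le_mul_of_nonneg_left h3 (le_of_lt (inv_pos.mpr hc))
      _ = 2 := by field_simp
  -- the central involution
  have hz : Complex.normSq (ω (negOne n F)) = 1 := by
    apply normSq_chi_inr_eq_one η hη φ hirr hres
    intro v
    refine ⟨(2 : F)⁻¹ • v, ?_⟩
    show (2 : F)⁻¹ • v - (-1 : Matrix (Fin n ⊕ Fin n) (Fin n ⊕ Fin n) F) *ᵥ ((2 : F)⁻¹ • v) = v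
    rw [neg_mulVec, one_mulVec, sub_neg_eq_add, ← add_smul, ← two_mul, mul_inv_cancel₀ h2, one_smul]
  refine ⟨hωchar, hω1, hnorm, hz, ?_⟩
  intro g hg
  apply normSq_chi_inr_eq_one η hη φ hirr hres
  -- `v ↦ v - g v` is injective, hence surjective
  have hinj : Function.Injective (fun x : Fin n ⊕ Fin n → F =>
      x - (g : Matrix (Fin n ⊕ Fin n) (Fin n ⊕ Fin n) F) *ᵥ x) := by
    intro x y hxy
    have hxy' : x - (g : Matrix (Fin n ⊕ Fin n) (Fin n ⊕ Fin n) F) *ᵥ x =
        y - (g : Matrix (Fin n ⊕ Fin n) (Fin n ⊕ Fin n) F) *ᵥ y := hxy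
    have h1 : (g : Matrix (Fin n ⊕ Fin n) (Fin n ⊕ Fin n) F) *ᵥ (x - y) = x - y := by
      rw [mulVec_sub]
      have : (g : Matrix (Fin n ⊕ Fin n) (Fin n ⊕ Fin n) F) *ᵥ x -
          (g : Matrix (Fin n ⊕ Fin n) (Fin n ⊕ Fin n) F) *ᵥ y =
          (x - y) - ((x - (g : Matrix (Fin n ⊕ Fin n) (Fin n ⊕ Fin n) F) *ᵥ x) -
            (y - (g : Matrix (Fin n ⊕ Fin n) (Fin n ⊕ Fin n) F) *ᵥ y)) := by abel
      rw [this, hxy', sub_self, sub_zero]
    exact sub_eq_zero.mp (hg _ h1)
  have hsurj := Finite.injective_iff_surjective.mp hinj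
  intro v
  exact hsurj v

end Cfsg.Agent.S2524P
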