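import Mathlib
import Cfsg.Prelude.Def_Characters
import Cfsg.Agent.Helper7.S2333Defs
import Cfsg.Agent.Helper7.S2333Basic
import Cfsg.Agent.Helper12.WGDefs
import Cfsg.Agent.Helper13.WGGapDefs

/-!
# S2524, chapter GAP, piece GAP-CLASS

The numbers `N_a`, `N_{εa}` of vectors of value `a` and `ε a` (`ε` a nonsquare) of a quadratic form
over a finite field add up to at most `2 (q + 1) q^(n-2)` when there are at least `q^(n-2)` singular
vectors.  Double counting of `{(u, s) : s ≠ 0, Q u = a s² ∨ Q u = ε a s²}`.
-/

set_option autoImplicit false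

namespace Cfsg.Agent.S2524P

open Matrix Cfsg Cfsg.Agent.S2333P

variable {F : Type*} [Field F] [Fintype F]

/-- scaling by `s ≠ 0` is a bijection `{Q = t} → {Q = t s²}` -/
theorem gap_class_card_scale [DecidableEq F] {n : ℕ} (M : Matrix (Fin n) (Fin n) F) (t s : F)
    (hs : s ≠ 0) :
    (Finset.univ.filter (fun u : Fin n → F => qf M u = t * s ^ 2)).card =
      (Finset.univ.filter (fun u : Fin n → F => qf M u = t)).card := by
  apply Finset.card_nbij' (fun u => s⁻¹ • u) (fun u => s • u)
  · intro u hu
    have hu' : qf M u = t * s ^ 2 := by simpa using hu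
    have : qf M (s⁻¹ • u) = t := by
      rw [qf_smul, hu']
      field_simp
    simpa using this
  · intro u hu
    have hu' : qf M u = t := by simpa using hu
    have : qf M (s • u) = t * s ^ 2 := by
      rw [qf_smul, hu']
      ring
    simpa using this
  · intro u _
    show s • s⁻¹ • u = u
    rw [smul_smul, mul_inv_cancel₀ hs, one_smul]
  · intro u _
    show s⁻¹ • s • u = u
    rw [smul_smul, inv_mul_cancel₀ hs, one_smul]

/-- `t = d s²` has at most two solutions `s` -/
theorem gap_class_sq_fiber_le [DecidableEq F] (d t : F) (hd : d ≠ 0) (S : Finset F) :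
    (S.filter (fun s : F => t = d * s ^ 2)).card ≤ 2 := by
  by_cases h : ∃ s₁ : F, t = d * s₁ ^ 2
  · obtain ⟨s₁, hs₁⟩ := h
    have hsub : S.filter (fun s : F => t = d * s ^ 2) ⊆ {s₁, -s₁} := by
      intro s hs
      rw [Finset.mem_filter] at hs
      have h1 : d * (s ^ 2 - s₁ ^ 2) = 0 := by linear_combination hs₁ - hs.2
      have h2 : s ^ 2 = s₁ ^ 2 := by
        rcases mul_eq_zero.mp h1 with h | h
        · exact absurd h hd
        · exact sub_eq_zero.mp h
      rw [Finset.mem_insert, Finset.mem_singleton]
      exact sq_eq_sq_iff_eq_or_eq_neg.mp h2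
    exact le_trans (Finset.card_le_card hsub) Finset.card_le_two
  · have : S.filter (fun s : F => t = d * s ^ 2) = ∅ := by
      rw [Finset.filter_eq_empty_iff]
      intro s _ hs
      exact h ⟨s, hs⟩
    rw [this]
    simp

/-- for a fixed value `t`: at most two `s ≠ 0` with `t = a s²` or `t = ε a s²`, none if `t = 0` -/
theorem gap_class_fiber_le [DecidableEq F] (a ε t : F) (ha : a ≠ 0) (hε : ¬ IsSquare ε) :
    ((Finset.univ.filter (fun s : F => s ≠ 0)).filter (fun s : F => t = a * s ^ 2)).card +
      ((Finset.univ.filter (fun s : F => s ≠ 0)).filter (fun s : F => t = ε * a * s ^ 2)).card ≤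
      if t = 0 then 0 else 2 := by
  have hε0 : ε ≠ 0 := by
    intro h
    apply hε
    rw [h]
    exact ⟨0, by ring⟩
  by_cases ht : t = 0
  · rw [if_pos ht]
    have e1 : (Finset.univ.filter (fun s : F => s ≠ 0)).filter (fun s : F => t = a * s ^ 2) = ∅ := by
      rw [Finset.filter_eq_empty_iff]
      intro s hs hts
      have hs0 : s ≠ 0 := (Finset.mem_filter.mp hs).2
      rw [ht] at hts
      exact mul_ne_zero ha (pow_ne_zero 2 hs0) hts.symm
    have e2 : (Finset.univ.filter (fun s : F => s ≠ 0)).filter
        (fun s : F => t = ε * a * s ^ 2) = ∅ := by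
      rw [Finset.filter_eq_empty_iff]
      intro s hs hts
      have hs0 : s ≠ 0 := (Finset.mem_filter.mp hs).2
      rw [ht] at hts
      exact mul_ne_zero (mul_ne_zero hε0 ha) (pow_ne_zero 2 hs0) hts.symm
    rw [e1, e2]
    simp
  · rw [if_neg ht]
    by_cases h1 : ∃ s₁ : F, s₁ ≠ 0 ∧ t = a * s₁ ^ 2
    · obtain ⟨s₁, hs₁0, hs₁⟩ := h1
      have e2 : (Finset.univ.filter (fun s : F => s ≠ 0)).filter
          (fun s : F => t = ε * a * s ^ 2) = ∅ := by
        rw [Finset.filter_eq_empty_iff]
        intro s hs hts
        have hs0 : s ≠ 0 := (Finset.mem_filter.mp hs).2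
        apply hε
        refine ⟨s₁ / s, ?_⟩
        have h3 : a * (ε * s ^ 2 - s₁ ^ 2) = 0 := by linear_combination hs₁ - hts
        have h4 : ε * s ^ 2 = s₁ ^ 2 := by
          rcases mul_eq_zero.mp h3 with h | h
          · exact absurd h ha
          · exact sub_eq_zero.mp h
        field_simp
        linear_combination h4
      rw [e2, Finset.card_empty, add_zero]
      exact gap_class_sq_fiber_le a t ha _
    · have e1 : (Finset.univ.filter (fun s : F => s ≠ 0)).filter
          (fun s : F => t = a * s ^ 2) = ∅ := by
        rw [Finset.filter_eq_empty_iff]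
        intro s hs hts
        exact h1 ⟨s, (Finset.mem_filter.mp hs).2, hts⟩
      rw [e1, Finset.card_empty, zero_add]
      exact gap_class_sq_fiber_le (ε * a) t (mul_ne_zero hε0 ha) _

/-- the double count -/
theorem gap_class_double [DecidableEq F] {n : ℕ} (M : Matrix (Fin n) (Fin n) F) (a ε : F)
    (ha : a ≠ 0) (hε : ¬ IsSquare ε) :
    (Fintype.card F - 1) * ((Finset.univ.filter (fun u : Fin n → F => qf M u = a)).card +
      (Finset.univ.filter (fun u : Fin n → F => qf M u = ε * a)).card) ≤
    2 * (Finset.univ.filter (fun u : Fin n → F => qf M u ≠ 0)).card := by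
  set S := Finset.univ.filter (fun s : F => s ≠ 0) with hS
  have hScard : S.card = Fintype.card F - 1 := by
    rw [hS, Finset.filter_ne', Finset.card_erase_of_mem (Finset.mem_univ _), Finset.card_univ]
  have h1 : ∀ s ∈ S, (Finset.univ.filter (fun u : Fin n → F => qf M u = a * s ^ 2)).card +
      (Finset.univ.filter (fun u : Fin n → F => qf M u = ε * a * s ^ 2)).card =
      (Finset.univ.filter (fun u : Fin n → F => qf M u = a)).card +
      (Finset.univ.filter (fun u : Fin n → F => qf M u = ε * a)).card := by
    intro s hs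
    have hs0 : s ≠ 0 := (Finset.mem_filter.mp hs).2
    rw [gap_class_card_scale M a s hs0, gap_class_card_scale M (ε * a) s hs0]
  calc (Fintype.card F - 1) * ((Finset.univ.filter (fun u : Fin n → F => qf M u = a)).card +
        (Finset.univ.filter (fun u : Fin n → F => qf M u = ε * a)).card)
      = ∑ _s ∈ S, ((Finset.univ.filter (fun u : Fin n → F => qf M u = a)).card +
        (Finset.univ.filter (fun u : Fin n → F => qf M u = ε * a)).card) := by
        rw [Finset.sum_const, smul_eq_mul, hScard]
    _ = ∑ s ∈ S, ((Finset.univ.filter (fun u : Fin n → F => qf M u = a * s ^ 2)).card +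
        (Finset.univ.filter (fun u : Fin n → F => qf M u = ε * a * s ^ 2)).card) :=
        (Finset.sum_congr rfl h1).symm
    _ = ∑ s ∈ S, ∑ u : Fin n → F, ((if qf M u = a * s ^ 2 then 1 else 0) +
          (if qf M u = ε * a * s ^ 2 then 1 else 0)) := by
        apply Finset.sum_congr rfl
        intro s _
        rw [Finset.card_filter, Finset.card_filter, ← Finset.sum_add_distrib]
    _ = ∑ u : Fin n → F, ∑ s ∈ S, ((if qf M u = a * s ^ 2 then 1 else 0) +
          (if qf M u = ε * a * s ^ 2 then 1 else 0)) := Finset.sum_comm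
    _ = ∑ u : Fin n → F, ((S.filter (fun s : F => qf M u = a * s ^ 2)).card +
          (S.filter (fun s : F => qf M u = ε * a * s ^ 2)).card) := by
        apply Finset.sum_congr rfl
        intro u _
        rw [Finset.sum_add_distrib, ← Finset.card_filter, ← Finset.card_filter]
    _ ≤ ∑ u : Fin n → F, (if qf M u = 0 then 0 else 2) :=
        Finset.sum_le_sum (fun u _ => gap_class_fiber_le a ε (qf M u) ha hε)
    _ = 2 * (Finset.univ.filter (fun u : Fin n → F => qf M u ≠ 0)).card := by
        rw [Finset.card_filter, Finset.mul_sum]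
        apply Finset.sum_congr rfl
        intro u _
        by_cases h : qf M u = 0 <;> simp [h]

/-- **GAP-CLASS**: the numbers of vectors of value `a` and `ε a` (`ε` a nonsquare) add up to at most
`2 (q + 1) q^(n-2)` when there are at least `q^(n-2)` singular vectors -/
theorem gap_card_class_le (h2 : (2 : F) ≠ 0) (n : ℕ) (hn : 2 ≤ n)
    (M : Matrix (Fin n) (Fin n) F)
    (h0 : Fintype.card F ^ (n - 2) ≤
      (open Classical in Finset.univ.filter (fun u : Fin n → F => qf M u = 0)).card)
    (a ε : F) (ha : a ≠ 0) (hε : ¬ IsSquare ε) :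
    (open Classical in Finset.univ.filter (fun u : Fin n → F => qf M u = a)).card +
      (open Classical in Finset.univ.filter (fun u : Fin n → F => qf M u = ε * a)).card ≤
      2 * (Fintype.card F + 1) * Fintype.card F ^ (n - 2) := by
  classical
  have hd := gap_class_double M a ε ha hε
  -- the vectors split into singular and nonsingular ones
  have hsplit : (Finset.univ.filter (fun u : Fin n → F => qf M u = 0)).card +
      (Finset.univ.filter (fun u : Fin n → F => qf M u ≠ 0)).card = Fintype.card F ^ n := by
    rw [Finset.card_filter_add_card_filter_not, Finset.card_univ, Fintype.card_fun,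
      Fintype.card_fin]
  have h0' : Fintype.card F ^ (n - 2) ≤
      (Finset.univ.filter (fun u : Fin n → F => qf M u = 0)).card := by
    convert h0 using 2
  have hq : 1 ≤ Fintype.card F := Fintype.card_pos
  obtain ⟨p, hp⟩ : ∃ p, Fintype.card F = p + 1 := ⟨Fintype.card F - 1, by omega⟩
  have hp0 : 0 < p := by
    have := Fintype.one_lt_card (α := F)
    omega
  have hpow : Fintype.card F ^ n = (p + 1) ^ 2 * Fintype.card F ^ (n - 2) := by
    rw [← hp, ← pow_add]
    congr 1
    omega
  set K := Fintype.card F ^ (n - 2) with hK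
  set Z := (Finset.univ.filter (fun u : Fin n → F => qf M u ≠ 0)).card with hZ
  set N0 := (Finset.univ.filter (fun u : Fin n → F => qf M u = 0)).card with hN0
  set S := (Finset.univ.filter (fun u : Fin n → F => qf M u = a)).card +
      (Finset.univ.filter (fun u : Fin n → F => qf M u = ε * a)).card with hSdef
  have hd' : p * S ≤ 2 * Z := by
    have : Fintype.card F - 1 = p := by omega
    rw [this] at hd
    exact hd
  have hgoal : S ≤ 2 * (Fintype.card F + 1) * K := by
    apply Nat.le_of_mul_le_mul_left _ hp0
    rw [hp]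
    nlinarith
  convert hgoal using 2
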