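import Mathlib
import Cfsg.Prelude.Def_Characters
import Cfsg.Agent.Helper7.S2333Defs
import Cfsg.Agent.Helper7.S2333Basic
import Cfsg.Agent.Helper12.WGDefs
import Cfsg.Agent.Helper13.WGGapDefs

/-!
# S2524, chapter GAP, piece GAP-LINEA

For a nonsingular `u` and a triple `(Q u, c, b)` of nonzero discriminant, the quadric `Q = c` meets
each line (in a suitable direction `w₀` of the hyperplane `polar u · = 0`) of the affine hyperplane
`polar Q u · = b` in at most two points.
-/

set_option autoImplicit false

namespace Cfsg.Agent.S2524P

open Matrix Cfsg Cfsg.Agent.S2333P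

variable {F : Type*} [Field F] [Fintype F]

/-- a quadratic equation with nonzero leading coefficient has at most two roots -/
theorem gap_linea_card_roots_le [DecidableEq F] (a b c : F) (ha : a ≠ 0) :
    (Finset.univ.filter (fun t : F => c + t ^ 2 * a + t * b = 0)).card ≤ 2 := by
  by_contra hcon
  rw [not_le] at hcon
  obtain ⟨t₁, h1, t₂, h2, t₃, h3, h12, h13, h23⟩ := Finset.two_lt_card.mp hcon
  rw [Finset.mem_filter] at h1 h2 h3
  have e1 : (t₁ - t₂) * (a * (t₁ + t₂) + b) = 0 := by linear_combination h1.2 - h2.2
  have e2 : (t₁ - t₃) * (a * (t₁ + t₃) + b) = 0 := by linear_combination h1.2 - h3.2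
  have f1 : a * (t₁ + t₂) + b = 0 := by
    rcases mul_eq_zero.mp e1 with h | h
    · exact absurd (sub_eq_zero.mp h) h12
    · exact h
  have f2 : a * (t₁ + t₃) + b = 0 := by
    rcases mul_eq_zero.mp e2 with h | h
    · exact absurd (sub_eq_zero.mp h) h13
    · exact h
  have f3 : a * (t₂ - t₃) = 0 := by linear_combination f1 - f2
  rcases mul_eq_zero.mp f3 with h | h
  · exact ha h
  · exact h23 (sub_eq_zero.mp h)

/-- the general counting step in a direction `w` with `polar u w = 0`: if every line `v + F w`
(with `polar u v = b`) meets the quadric `qf = c` in at most `k` points, then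
`q * #{qf = c, polar = b} ≤ k * #{polar = b}` -/
theorem gap_linea_aux [DecidableEq F] {n : ℕ}
    (M : Matrix (Fin n) (Fin n) F) (u w : Fin n → F) (c b : F) (k : ℕ)
    (hw : polar (qf M) u w = 0)
    (hk : ∀ v : Fin n → F, polar (qf M) u v = b →
      (Finset.univ.filter (fun t : F => qf M (v + t • w) = c)).card ≤ k) :
    Fintype.card F * (Finset.univ.filter (fun v : Fin n → F =>
        qf M v = c ∧ polar (qf M) u v = b)).card ≤
      k * (Finset.univ.filter (fun v : Fin n → F => polar (qf M) u v = b)).card := by
  have hpairs : ((Finset.univ.filter (fun v : Fin n → F => polar (qf M) u v = b)).sigma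
      (fun v => Finset.univ.filter (fun t : F => qf M (v + t • w) = c))).card ≤
      k * (Finset.univ.filter (fun v : Fin n → F => polar (qf M) u v = b)).card := by
    rw [Finset.card_sigma, mul_comm]
    calc _ ≤ ∑ _v ∈ Finset.univ.filter (fun v : Fin n → F => polar (qf M) u v = b), k := by
            apply Finset.sum_le_sum
            intro v hv
            rw [Finset.mem_filter] at hv
            exact hk v hv.2
      _ = _ := by rw [Finset.sum_const, smul_eq_mul]
  refine le_trans ?_ hpairs
  have hcard : Fintype.card F * (Finset.univ.filter (fun v : Fin n → F =>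
        qf M v = c ∧ polar (qf M) u v = b)).card =
      ((Finset.univ.filter (fun v : Fin n → F =>
        qf M v = c ∧ polar (qf M) u v = b)) ×ˢ (Finset.univ : Finset F)).card := by
    rw [Finset.card_product, Finset.card_univ, mul_comm]
  rw [hcard]
  apply Finset.card_le_card_of_injOn (fun p : (Fin n → F) × F => ⟨p.1 - p.2 • w, p.2⟩)
  · intro p hp
    have hp' := Finset.mem_product.mp hp
    have hp1 := (Finset.mem_filter.mp hp'.1).2
    rw [Finset.mem_coe, Finset.mem_sigma]
    constructor
    · rw [Finset.mem_filter]
      refine ⟨Finset.mem_univ _, ?_⟩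
      show polar (qf M) u (p.1 - p.2 • w) = b
      rw [polar_sub_right, polar_smul_right, hw, mul_zero, sub_zero]
      exact hp1.2
    · rw [Finset.mem_filter]
      refine ⟨Finset.mem_univ _, ?_⟩
      show qf M (p.1 - p.2 • w + p.2 • w) = c
      rw [sub_add_cancel]
      exact hp1.1
  · intro p _ p' _ hpp
    have h2' : p.2 = p'.2 := by
      have := congrArg Sigma.snd hpp
      simpa using this
    have h1' : p.1 - p.2 • w = p'.1 - p'.2 • w := by
      have := congrArg Sigma.fst hpp
      simpa using this
    rw [h2'] at h1'
    exact Prod.ext (sub_left_injective h1') h2'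

/-- **GAP-LINEA**: for a nonsingular `u` and a triple of nonzero discriminant: at most two points
with value `c` on each line (in a suitable direction) of the hyperplane `polar Q u · = b` -/
theorem gap_card_fiber_le (h2 : (2 : F) ≠ 0) {n : ℕ} (M : Matrix (Fin n) (Fin n) F)
    (u : Fin n → F) (c b : F) (ha : qf M u ≠ 0) (hd : 4 * qf M u * c - b ^ 2 ≠ 0) :
    Fintype.card F * (open Classical in Finset.univ.filter (fun v : Fin n → F =>
        qf M v = c ∧ polar (qf M) u v = b)).card ≤
      2 * (open Classical in
        Finset.univ.filter (fun v : Fin n → F => polar (qf M) u v = b)).card := by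
  classical
  by_cases hne : ∃ v₁ : Fin n → F, qf M v₁ = c ∧ polar (qf M) u v₁ = b
  · obtain ⟨v₁, hv1c, hv1b⟩ := hne
    have h4 : (4 : F) ≠ 0 := by
      have : (4 : F) = 2 * 2 := by norm_num
      rw [this]
      exact mul_ne_zero h2 h2
    -- the direction
    set a := qf M u with hadef
    set w₀ : Fin n → F := v₁ + (-(b / (2 * a))) • u with hw0def
    have hpw : polar (qf M) u w₀ = 0 := by
      rw [hw0def, polar_add_right, polar_smul_right, gap_polar_self, hv1b, ← hadef]
      field_simp
      ring
    have hqw : qf M w₀ = (4 * a * c - b ^ 2) / (4 * a) := by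
      rw [hw0def, qf_add_smul, hv1c, polar_comm (qf M) v₁ u, hv1b, ← hadef]
      field_simp
      ring
    have hqw0 : qf M w₀ ≠ 0 := by
      rw [hqw]
      exact div_ne_zero hd (mul_ne_zero h4 ha)
    have key := gap_linea_aux M u w₀ c b 2 hpw (by
      intro v _
      have hset : Finset.univ.filter (fun t : F => qf M (v + t • w₀) = c) =
          Finset.univ.filter (fun t : F =>
            (qf M v - c) + t ^ 2 * qf M w₀ + t * polar (qf M) v w₀ = 0) := by
        ext t
        rw [Finset.mem_filter, Finset.mem_filter, qf_add_smul]
        constructor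
        · rintro ⟨h, h'⟩
          exact ⟨h, by linear_combination h'⟩
        · rintro ⟨h, h'⟩
          exact ⟨h, by linear_combination h'⟩
      rw [hset]
      exact gap_linea_card_roots_le _ _ _ hqw0)
    convert key using 3
  · have hempty : (Finset.univ.filter (fun v : Fin n → F =>
        qf M v = c ∧ polar (qf M) u v = b)) = ∅ := by
      rw [Finset.filter_eq_empty_iff]
      intro v _ hv
      exact hne ⟨v, hv⟩
    have hz : (Finset.univ.filter (fun v : Fin n → F =>
        qf M v = c ∧ polar (qf M) u v = b)).card = 0 := by
      rw [hempty, Finset.card_empty]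
    have : (open Classical in Finset.univ.filter (fun v : Fin n → F =>
        qf M v = c ∧ polar (qf M) u v = b)).card = 0 := by
      convert hz using 2
    rw [this, mul_zero]
    exact Nat.zero_le _

end Cfsg.Agent.S2524P
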