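import Mathlib

/-! S2262 piece MINCONJ (driver helper29): the minimal polynomial is a similarity invariant. -/

set_option autoImplicit false

namespace Cfsg.Agent.S2262P

open Polynomial Matrix

variable {F : Type*} [Field F]

namespace MINCONJ

/-- conjugation by a unit commutes with polynomial evaluation -/
theorem aeval_conj {ι : Type*} [Fintype ι] [DecidableEq ι] (h : GL ι F) (A : Matrix ι ι F)
    (P : F[X]) :
    aeval (((h⁻¹ : GL ι F) : Matrix ι ι F) * A * (h : Matrix ι ι F)) P
      = ((h⁻¹ : GL ι F) : Matrix ι ι F) * aeval A P * (h : Matrix ι ι F) := by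
  have hh : (h : Matrix ι ι F) * ((h⁻¹ : GL ι F) : Matrix ι ι F) = 1 := by
    rw [← Units.val_mul, mul_inv_cancel, Units.val_one]
  have hh' : ((h⁻¹ : GL ι F) : Matrix ι ι F) * (h : Matrix ι ι F) = 1 := by
    rw [← Units.val_mul, inv_mul_cancel, Units.val_one]
  induction P using Polynomial.induction_on' with
  | add p q hp hq => rw [map_add, map_add, hp, hq, mul_add, add_mul]
  | monomial n a =>
    rw [aeval_monomial, aeval_monomial]
    have hpow : (((h⁻¹ : GL ι F) : Matrix ι ι F) * A * (h : Matrix ι ι F)) ^ n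
        = ((h⁻¹ : GL ι F) : Matrix ι ι F) * A ^ n * (h : Matrix ι ι F) := by
      induction n with
      | zero => simp
      | succ k ih =>
        rw [pow_succ, ih, pow_succ]
        calc ((h⁻¹ : GL ι F) : Matrix ι ι F) * A ^ k * (h : Matrix ι ι F)
              * (((h⁻¹ : GL ι F) : Matrix ι ι F) * A * (h : Matrix ι ι F))
            = ((h⁻¹ : GL ι F) : Matrix ι ι F) * A ^ k
              * ((h : Matrix ι ι F) * ((h⁻¹ : GL ι F) : Matrix ι ι F)) * A * (h : Matrix ι ι F) := by
              simp only [mul_assoc]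
          _ = _ := by rw [hh, mul_one]; simp only [mul_assoc]
    rw [hpow]
    rw [Algebra.algebraMap_eq_smul_one, smul_mul_assoc, one_mul, smul_mul_assoc, one_mul,
      mul_smul_comm, smul_mul_assoc, mul_assoc]

end MINCONJ

/-- MINCONJ (no deps). -/
theorem minpoly_conj {ι : Type*} [Fintype ι] [DecidableEq ι] (h : GL ι F) (A : Matrix ι ι F) :
    minpoly F (((h⁻¹ : GL ι F) : Matrix ι ι F) * A * (h : Matrix ι ι F)) = minpoly F A := by
  have hh : (h : Matrix ι ι F) * ((h⁻¹ : GL ι F) : Matrix ι ι F) = 1 := by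
    rw [← Units.val_mul, mul_inv_cancel, Units.val_one]
  have hh' : ((h⁻¹ : GL ι F) : Matrix ι ι F) * (h : Matrix ι ι F) = 1 := by
    rw [← Units.val_mul, inv_mul_cancel, Units.val_one]
  have hA : IsIntegral F A := Matrix.isIntegral A
  have hB : IsIntegral F (((h⁻¹ : GL ι F) : Matrix ι ι F) * A * (h : Matrix ι ι F)) :=
    Matrix.isIntegral _
  have h1 : minpoly F (((h⁻¹ : GL ι F) : Matrix ι ι F) * A * (h : Matrix ι ι F)) ∣ minpoly F A := by
    apply minpoly.dvd
    rw [MINCONJ.aeval_conj, minpoly.aeval, mul_zero, zero_mul]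
  have h2 : minpoly F A ∣ minpoly F (((h⁻¹ : GL ι F) : Matrix ι ι F) * A * (h : Matrix ι ι F)) := by
    apply minpoly.dvd
    have hP0 := minpoly.aeval F (((h⁻¹ : GL ι F) : Matrix ι ι F) * A * (h : Matrix ι ι F))
    generalize minpoly F (((h⁻¹ : GL ι F) : Matrix ι ι F) * A * (h : Matrix ι ι F)) = P at *
    have := MINCONJ.aeval_conj h A P
    calc aeval A P = ((h : Matrix ι ι F) * ((h⁻¹ : GL ι F) : Matrix ι ι F)) * aeval A P
          * ((h : Matrix ι ι F) * ((h⁻¹ : GL ι F) : Matrix ι ι F)) := by rw [hh, one_mul, mul_one]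
      _ = (h : Matrix ι ι F) * (((h⁻¹ : GL ι F) : Matrix ι ι F) * aeval A P * (h : Matrix ι ι F))
          * ((h⁻¹ : GL ι F) : Matrix ι ι F) := by simp only [mul_assoc]
      _ = 0 := by rw [← this, hP0, mul_zero, zero_mul]
  exact Polynomial.eq_of_monic_of_associated (minpoly.monic hB) (minpoly.monic hA)
    (associated_of_dvd_dvd h1 h2)

end Cfsg.Agent.S2262P
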