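import Mathlib

/-! S2262 piece MINMAP (driver helper29): the minimal polynomial of `A.map σ`. -/

set_option autoImplicit false

namespace Cfsg.Agent.S2262P

open Polynomial Matrix

variable {F : Type*} [Field F]

namespace MINMAP

/-- entrywise application of a ring hom commutes with polynomial evaluation -/
theorem aeval_map_map {ι : Type*} [Fintype ι] [DecidableEq ι] (σ : F →+* F)
    (A : Matrix ι ι F) (P : F[X]) :
    aeval (A.map σ) (P.map σ) = (aeval A P).map σ := by
  induction P using Polynomial.induction_on' with
  | add p q hp hq =>
    rw [Polynomial.map_add, map_add, map_add, hp, hq, Matrix.map_add _ (map_add σ)]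
  | monomial n a =>
    rw [map_monomial, aeval_monomial, aeval_monomial]
    have h1 : (A.map σ) ^ n = (A ^ n).map σ := by
      have := map_pow σ.mapMatrix A n
      simpa [RingHom.mapMatrix_apply] using this.symm
    rw [h1, Algebra.algebraMap_eq_smul_one, Algebra.algebraMap_eq_smul_one, smul_mul_assoc,
      one_mul, smul_mul_assoc, one_mul]
    ext i j
    simp [Matrix.map_apply, Matrix.smul_apply]

end MINMAP

/-- MINMAP (no deps). -/
theorem minpoly_map_ringEquiv {ι : Type*} [Fintype ι] [DecidableEq ι] (σ : F ≃+* F)
    (A : Matrix ι ι F) :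
    minpoly F (A.map σ) = (minpoly F A).map (σ : F →+* F) := by
  have hA : IsIntegral F A := Matrix.isIntegral A
  have hB : IsIntegral F (A.map σ) := Matrix.isIntegral _
  have hmon : ((minpoly F A).map (σ : F →+* F)).Monic := (minpoly.monic hA).map _
  -- one divisibility
  have h1 : minpoly F (A.map σ) ∣ (minpoly F A).map (σ : F →+* F) := by
    apply minpoly.dvd
    have := MINMAP.aeval_map_map (σ : F →+* F) A (minpoly F A)
    rw [minpoly.aeval] at this
    rw [show (A.map σ) = A.map (σ : F →+* F) from rfl, this]
    ext i j
    simp
  -- the other one, via `σ.symm`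
  have h2 : minpoly F A ∣ (minpoly F (A.map σ)).map (σ.symm : F →+* F) := by
    apply minpoly.dvd
    have hAA : (A.map σ).map (σ.symm : F →+* F) = A := by
      ext i j
      simp
    have := MINMAP.aeval_map_map (σ.symm : F →+* F) (A.map σ) (minpoly F (A.map σ))
    rw [minpoly.aeval, hAA] at this
    rw [this]
    ext i j
    simp
  have h3 : (minpoly F A).map (σ : F →+* F) ∣ minpoly F (A.map σ) := by
    have := Polynomial.map_dvd (σ : F →+* F) h2
    rw [Polynomial.map_map] at this
    have hid : ((σ : F →+* F).comp (σ.symm : F →+* F)) = RingHom.id F := by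
      ext x
      simp
    rw [hid, Polynomial.map_id] at this
    exact this
  exact Polynomial.eq_of_monic_of_associated (minpoly.monic hB) hmon (associated_of_dvd_dvd h1 h3)

end Cfsg.Agent.S2262P
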