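import Mathlib

/-! S2262 piece DESCP (driver helper29): a polynomial fixed by `σ` has coefficients in the fixed
field. -/

set_option autoImplicit false

namespace Cfsg.Agent.S2262P

open Polynomial

/-- DESCP (no deps): a polynomial fixed by `σ` has coefficients in the fixed field. -/
theorem exists_poly_descent {F K : Type*} [Field F] [Field K] (σ : F ≃+* F) (j : K →+* F)
    (hj : ∀ y : F, σ y = y → ∃ x, j x = y) {μ : F[X]} (hσ : μ.map (σ : F →+* F) = μ) :
    ∃ μ₀ : K[X], μ₀.map j = μ := by
  classical
  have hfix : ∀ i, σ (μ.coeff i) = μ.coeff i := by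
    intro i
    have := congrArg (fun P => P.coeff i) hσ
    simpa [coeff_map] using this
  choose c hc using fun i => hj (μ.coeff i) (hfix i)
  refine ⟨∑ i ∈ μ.support, monomial i (c i), ?_⟩
  ext k
  rw [coeff_map, finsetSum_coeff]
  simp only [coeff_monomial]
  rw [Finset.sum_ite_eq' μ.support k]
  split_ifs with hk
  · exact hc k
  · rw [map_zero]
    exact (notMem_support_iff.mp hk).symm

end Cfsg.Agent.S2262P
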