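import Mathlib
import Cfsg.Prelude.Def_Characters
import Cfsg.Prelude.Def_Blocks
import Cfsg.Agent.Helper24.Abelian
import Cfsg.Agent.Helper24.Linear
import Cfsg.Agent.Helper1.W2pDefs
import Cfsg.Agent.Lead.S4705Defs

set_option autoImplicit false

namespace Cfsg.Agent.Helper28.S4705CENT

universe u

variable {G : Type u} [Group G] [Finite G]

theorem card_comap_mk (N : Subgroup G) [N.Normal] (K : Subgroup (G ⧸ N)) :
    Nat.card (K.comap (QuotientGroup.mk' N)) = Nat.card N * Nat.card K := by
  have h1 : Nat.card (K.comap (QuotientGroup.mk' N)) * (K.comap (QuotientGroup.mk' N)).index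
      = Nat.card G := Subgroup.card_mul_index _
  have h2 : Nat.card K * K.index = Nat.card (G ⧸ N) := Subgroup.card_mul_index _
  have h3 : (K.comap (QuotientGroup.mk' N)).index = K.index :=
    Subgroup.index_comap_of_surjective _ (QuotientGroup.mk'_surjective N)
  have h4 : Nat.card G = Nat.card (G ⧸ N) * Nat.card N :=
    Subgroup.card_eq_card_quotient_mul_card_subgroup N
  have h5 : K.index ≠ 0 := Subgroup.index_ne_zero_of_finite
  rw [h3, h4, ← h2] at h1
  have : Nat.card (K.comap (QuotientGroup.mk' N)) * K.index
      = (Nat.card N * Nat.card K) * K.index := by rw [h1]; ring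
  exact Nat.eq_of_mul_eq_mul_right (Nat.pos_of_ne_zero h5) this

end Cfsg.Agent.Helper28.S4705CENT

namespace Cfsg.Agent.S4705P

open Cfsg Cfsg.Agent.Helper24 Cfsg.Agent.Helper1.W2p
open scoped ComplexConjugate

universe u

variable {G : Type u} [Group G] [Finite G]

theorem card_centralizer_quot (t : G)
    (hW : ∀ z ∈ Subgroup.center G, IsConj t (t * z) → z = 1) :
    Nat.card (Subgroup.centralizer ({t} : Set G)) =
      Nat.card (Subgroup.center G) *
        Nat.card (Subgroup.centralizer
          ({(QuotientGroup.mk t : G ⧸ Subgroup.center G)} : Set (G ⧸ Subgroup.center G))) := by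
  have hEq : Subgroup.centralizer ({t} : Set G) =
      (Subgroup.centralizer
        ({(QuotientGroup.mk t : G ⧸ Subgroup.center G)} : Set (G ⧸ Subgroup.center G))).comap
        (QuotientGroup.mk' (Subgroup.center G)) := by
    ext g
    rw [Subgroup.mem_comap, Subgroup.mem_centralizer_singleton_iff,
      Subgroup.mem_centralizer_singleton_iff]
    constructor
    · intro h
      change (QuotientGroup.mk g : G ⧸ Subgroup.center G) * QuotientGroup.mk t
        = QuotientGroup.mk t * QuotientGroup.mk g
      rw [← QuotientGroup.mk_mul, ← QuotientGroup.mk_mul, h]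
    · intro h
      change (QuotientGroup.mk g : G ⧸ Subgroup.center G) * QuotientGroup.mk t
        = QuotientGroup.mk t * QuotientGroup.mk g at h
      rw [← QuotientGroup.mk_mul, ← QuotientGroup.mk_mul, QuotientGroup.eq] at h
      -- (g t)⁻¹ (t g) ∈ Z
      set z := (g * t)⁻¹ * (t * g) with hz
      have hzc : z ∈ Subgroup.center G := h
      have h1 : t * g = g * t * z := by rw [hz]; group
      have hconj : IsConj t (t * z) := by
        rw [isConj_iff]
        refine ⟨g⁻¹, ?_⟩
        rw [inv_inv, mul_assoc, h1]; group
      have hz1 : z = 1 := hW z hzc hconj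
      rw [h1, hz1, mul_one]
  rw [hEq]
  exact Cfsg.Agent.Helper28.S4705CENT.card_comap_mk _ _

end Cfsg.Agent.S4705P
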