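import Mathlib
import Cfsg.Prelude.Def_Characters
import Cfsg.Prelude.Def_Blocks
import Cfsg.Agent.Helper24.Abelian
import Cfsg.Agent.Helper24.Linear
import Cfsg.Agent.Helper1.W2pDefs
import Cfsg.Agent.Lead.S4705Defs

set_option autoImplicit false

namespace Cfsg.Agent.Helper28.S4705CNTW

universe u

variable {G : Type u} [Group G]

/-- Every element of a subgroup of prime order is a power of a given nontrivial element. -/
theorem exists_zpow_eq (p : ℕ) [Fact p.Prime] (P : Subgroup G) (hP : Nat.card P = p)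
    {x : G} (hx : x ∈ P) (hx1 : x ≠ 1) {n : G} (hn : n ∈ P) : ∃ k : ℤ, x ^ k = n := by
  have h1 : (⟨x, hx⟩ : P) ≠ 1 := fun h => hx1 (congrArg Subtype.val h)
  have := mem_zpowers_of_prime_card (G := P) hP (g := ⟨x, hx⟩) (g' := ⟨n, hn⟩) h1
  obtain ⟨k, hk⟩ := Subgroup.mem_zpowers_iff.mp this
  exact ⟨k, by simpa using congrArg Subtype.val hk⟩

theorem pow_p_eq_one (p : ℕ) (P : Subgroup G) (hP : Nat.card P = p)
    {x : G} (hx : x ∈ P) : x ^ p = 1 := by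
  have := pow_card_eq_one' (G := P) (x := ⟨x, hx⟩)
  rw [hP] at this
  simpa using congrArg Subtype.val this

theorem comm_of_prime (p : ℕ) [Fact p.Prime] (P : Subgroup G) (hP : Nat.card P = p)
    {a b : G} (ha : a ∈ P) (hb : b ∈ P) : a * b = b * a := by
  by_cases ha1 : a = 1
  · subst ha1; simp
  obtain ⟨k, rfl⟩ := exists_zpow_eq p P hP ha ha1 hb
  exact ((Commute.refl a).zpow_right k).eq

/-- A `p`-element of the center is trivial when the Sylow `p`-subgroup of order `p` is not normal. -/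
theorem center_pow_p [Finite G] (p : ℕ) [Fact p.Prime] (P : Sylow p G) (hP : Nat.card P = p)
    (hnn : ¬ (P : Subgroup G).Normal) {w : G} (hw : w ∈ Subgroup.center G) (hwp : w ^ p = 1) :
    w = 1 := by
  by_contra hw1
  apply hnn
  have hpg : IsPGroup p (Subgroup.zpowers w) := by
    intro g
    obtain ⟨g, hg⟩ := g
    obtain ⟨k, rfl⟩ := Subgroup.mem_zpowers_iff.mp hg
    refine ⟨1, ?_⟩
    apply Subtype.ext
    simp only [pow_one, Subgroup.coe_pow, Subgroup.coe_one]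
    rw [← zpow_natCast, ← zpow_mul, mul_comm, zpow_mul, zpow_natCast, hwp, one_zpow]
  obtain ⟨Q, hQ⟩ := hpg.exists_le_sylow
  obtain ⟨g, hg⟩ := MulAction.exists_smul_eq G Q P
  have hwQ : w ∈ (Q : Subgroup G) := hQ (Subgroup.mem_zpowers w)
  have hwP : w ∈ (P : Subgroup G) := by
    rw [← hg, Sylow.coe_subgroup_smul]
    have := Subgroup.smul_mem_pointwise_smul w (MulAut.conj g) (Q : Subgroup G) hwQ
    rw [MulAut.smul_def, MulAut.conj_apply] at this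
    have hc : g * w * g⁻¹ = w := by
      rw [Subgroup.mem_center_iff.mp hw g, mul_assoc, mul_inv_cancel, mul_one]
    rwa [hc] at this
  refine ⟨fun n hn g => ?_⟩
  obtain ⟨k, rfl⟩ := exists_zpow_eq p (P : Subgroup G) hP hwP hw1 hn
  have hc : g * w ^ k * g⁻¹ = w ^ k := by
    have : w ^ k ∈ Subgroup.center G := zpow_mem hw k
    rw [Subgroup.mem_center_iff.mp this g, mul_assoc, mul_inv_cancel, mul_one]
  rw [hc]; exact hn


theorem sq_of_isConj {t s : G} (ht2 : t * t ∈ Subgroup.center G) (h : IsConj t s) :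
    s * s = t * t := by
  obtain ⟨g, rfl⟩ := isConj_iff.mp h
  have : g * t * g⁻¹ * (g * t * g⁻¹) = g * (t * t) * g⁻¹ := by group
  rw [this, Subgroup.mem_center_iff.mp ht2 g, mul_assoc, mul_inv_cancel, mul_one]

theorem eq_one_of_sq {p : ℕ} (hodd : Odd p) {x : G} (hxp : x ^ p = 1) (hx2 : x * x = 1) :
    x = 1 := by
  obtain ⟨m, rfl⟩ := hodd
  rw [pow_succ, pow_mul, pow_two, hx2, one_pow, one_mul] at hxp
  exact hxp

/-- `s` inverts `q` when `s² = c` is central and `(s⁻¹ q)² = c⁻¹`. -/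
theorem inverts_of_sq {s q c : G} (hc : c ∈ Subgroup.center G) (hss : s * s = c)
    (hw : s⁻¹ * q * (s⁻¹ * q) = c⁻¹) : s⁻¹ * q * s = q⁻¹ := by
  set w := s⁻¹ * q with hwdef
  have hq : q = s * w := by rw [hwdef]; group
  have h1 : s⁻¹ * q * s * q = 1 := by
    calc s⁻¹ * q * s * q = w * s * (s * w) := by rw [← hq]
      _ = w * (s * s) * w := by group
      _ = w * c * w := by rw [hss]
      _ = c * w * w := by rw [Subgroup.mem_center_iff.mp hc w]
      _ = c * (w * w) := by rw [mul_assoc]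
      _ = 1 := by rw [hw, mul_inv_cancel]
  exact eq_inv_of_mul_eq_one_left h1

/-- The main analysis: any `s` in the counted set is `y t y⁻¹` with `y ∈ P`, and `z = 1`. -/
theorem analysis [Finite G] (p : ℕ) [Fact p.Prime] (hp2 : p ≠ 2) (P : Sylow p G) (hP : Nat.card P = p)
    (hnn : ¬ (P : Subgroup G).Normal)
    (t : G) (ht2 : t ^ 2 ∈ Subgroup.center G) (hinv : ∀ y ∈ (P : Subgroup G), t * y * t⁻¹ = y⁻¹)
    (hform : ∀ n ∈ Subgroup.normalizer ((P : Subgroup G) : Set G),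
        n ∉ Subgroup.centralizer ((P : Subgroup G) : Set G) →
        ∃ y ∈ (P : Subgroup G), ∃ z ∈ Subgroup.center G, n = y * t * y⁻¹ * z)
    (hW : ∀ z ∈ Subgroup.center G, IsConj t (t * z) → z = 1)
    (x : G) (hx : x ∈ (P : Subgroup G)) (hx1 : x ≠ 1) (z : G) (hz : z ∈ Subgroup.center G)
    (s : G) (hs : IsConj t s) (hs2 : IsConj t⁻¹ (s⁻¹ * (x * z))) :
    z = 1 ∧ ∃ y ∈ (P : Subgroup G), s = y * t * y⁻¹ := by
  have hodd : Odd p := ((Fact.out : p.Prime).eq_two_or_odd').resolve_left hp2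
  have hxp : x ^ p = 1 := pow_p_eq_one p _ hP hx
  have htt : t * t ∈ Subgroup.center G := by rwa [pow_two] at ht2
  have htti : t⁻¹ * t⁻¹ ∈ Subgroup.center G := by
    have := inv_mem htt
    rwa [mul_inv_rev] at this
  have hss : s * s = t * t := sq_of_isConj htt hs
  have hww : s⁻¹ * (x * z) * (s⁻¹ * (x * z)) = (t * t)⁻¹ := by
    rw [sq_of_isConj htti hs2, mul_inv_rev]
  have hinvq : s⁻¹ * (x * z) * s = (x * z)⁻¹ := inverts_of_sq htt hss hww
  -- `a := s⁻¹ x s = x⁻¹ (z z)⁻¹`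
  have hzc : ∀ a : G, a * z = z * a := fun a => Subgroup.mem_center_iff.mp hz a
  have ha : s⁻¹ * x * s = x⁻¹ * (z * z)⁻¹ := by
    have hzic : ∀ a : G, a * z⁻¹ = z⁻¹ * a :=
      fun a => Subgroup.mem_center_iff.mp (inv_mem hz) a
    have h1 : s⁻¹ * (x * z) * s = s⁻¹ * x * s * z := by
      calc s⁻¹ * (x * z) * s = s⁻¹ * x * (z * s) := by group
        _ = s⁻¹ * x * (s * z) := by rw [hzc s]
        _ = s⁻¹ * x * s * z := by group
    rw [h1] at hinvq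
    have h2 : s⁻¹ * x * s = (x * z)⁻¹ * z⁻¹ := eq_mul_inv_of_mul_eq hinvq
    rw [h2]
    calc (x * z)⁻¹ * z⁻¹ = z⁻¹ * x⁻¹ * z⁻¹ := by group
      _ = x⁻¹ * z⁻¹ * z⁻¹ := by rw [hzic x⁻¹]
      _ = x⁻¹ * (z * z)⁻¹ := by group
  have hzz : z * z = 1 := by
    apply center_pow_p p P hP hnn (mul_mem hz hz)
    have hap : (s⁻¹ * x * s) ^ p = 1 := by
      have : s⁻¹ * x * s = s⁻¹ * x * s⁻¹⁻¹ := by rw [inv_inv]
      rw [this, conj_pow, hxp, mul_one, inv_inv, inv_mul_cancel]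
    rw [ha] at hap
    have hcomm : Commute x⁻¹ (z * z)⁻¹ := by
      have : (z * z)⁻¹ ∈ Subgroup.center G := inv_mem (mul_mem hz hz)
      exact (Subgroup.mem_center_iff.mp this x⁻¹)
    rw [hcomm.mul_pow, inv_pow, hxp, inv_one, one_mul, inv_pow, inv_eq_one] at hap
    exact hap
  rw [hzz, inv_one, mul_one] at ha
  -- `s x s⁻¹ = x⁻¹`
  have hb : s * x * s⁻¹ = x⁻¹ := by
    have : x = s * x⁻¹ * s⁻¹ := by rw [← ha]; group
    calc s * x * s⁻¹ = (s * x⁻¹ * s⁻¹)⁻¹ := by group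
      _ = x⁻¹ := by rw [← this]
  have hgen : ∀ n ∈ (P : Subgroup G), s * n * s⁻¹ = n⁻¹ := by
    intro n hn
    obtain ⟨k, rfl⟩ := exists_zpow_eq p _ hP hx hx1 hn
    rw [← conj_zpow, hb, inv_zpow]
  have hgen' : ∀ n ∈ (P : Subgroup G), s⁻¹ * n * s = n⁻¹ := by
    intro n hn
    have := hgen n⁻¹ (inv_mem hn)
    rw [inv_inv] at this
    calc s⁻¹ * n * s = s⁻¹ * (s * n⁻¹ * s⁻¹) * s := by rw [this]
      _ = n⁻¹ := by group
  have hsN : s ∈ Subgroup.normalizer ((P : Subgroup G) : Set G) := by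
    rw [Subgroup.mem_normalizer_iff]
    intro h
    constructor
    · intro hh; rw [hgen h hh]; exact inv_mem hh
    · intro hh
      have := hgen' _ hh
      have e : s⁻¹ * (s * h * s⁻¹) * s = h := by group
      rw [e] at this
      rw [this]; exact inv_mem hh
  have hsC : s ∉ Subgroup.centralizer ((P : Subgroup G) : Set G) := by
    intro hc
    have := Subgroup.mem_centralizer_iff.mp hc x hx
    have h1 : s * x * s⁻¹ = x := by rw [← this]; group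
    rw [hb] at h1
    apply hx1
    apply eq_one_of_sq hodd hxp
    calc x * x = x * x⁻¹ := by rw [h1]
      _ = 1 := mul_inv_cancel x
  obtain ⟨y, hy, z₁, hz₁, hsy⟩ := hform s hsN hsC
  have hz₁c : ∀ a : G, a * z₁ = z₁ * a := fun a => Subgroup.mem_center_iff.mp hz₁ a
  have hz₁1 : z₁ = 1 := by
    apply hW z₁ hz₁
    refine hs.trans ?_
    rw [isConj_iff]
    refine ⟨y⁻¹, ?_⟩
    rw [hsy]
    calc y⁻¹ * (y * t * y⁻¹ * z₁) * y⁻¹⁻¹ = t * (y⁻¹ * z₁) * y := by group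
      _ = t * (z₁ * y⁻¹) * y := by rw [hz₁c]
      _ = t * z₁ := by group
  rw [hz₁1, mul_one] at hsy
  refine ⟨?_, y, hy, hsy⟩
  -- now `z = 1`
  obtain ⟨m, hm⟩ := hodd
  set u := x ^ m with hu
  have huP : u ∈ (P : Subgroup G) := pow_mem hx m
  have huu : u * u = x⁻¹ := by
    have : u * u * x = 1 := by
      rw [hu, ← pow_add, ← pow_succ, ← two_mul, ← hm, hxp]
    exact eq_inv_of_mul_eq_one_left this
  have hut : u * t⁻¹ * u⁻¹ = t⁻¹ * x := by
    have h1 := hinv u huP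
    calc u * t⁻¹ * u⁻¹ = t⁻¹ * (t * u * t⁻¹) * u⁻¹ := by group
      _ = t⁻¹ * u⁻¹ * u⁻¹ := by rw [h1]
      _ = t⁻¹ * (u * u)⁻¹ := by group
      _ = t⁻¹ * x := by rw [huu, inv_inv]
  have hconj : IsConj t⁻¹ (t⁻¹ * z) := by
    refine hs2.trans ?_
    rw [isConj_iff]
    refine ⟨u⁻¹ * y⁻¹, ?_⟩
    have hyx : y⁻¹ * x = x * y⁻¹ := comm_of_prime p _ hP (inv_mem hy) hx
    have e1 : s⁻¹ * (x * z) = y * (t⁻¹ * x) * y⁻¹ * z := by
      rw [hsy]
      calc (y * t * y⁻¹)⁻¹ * (x * z) = y * t⁻¹ * (y⁻¹ * x) * z := by group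
        _ = y * t⁻¹ * (x * y⁻¹) * z := by rw [hyx]
        _ = y * (t⁻¹ * x) * y⁻¹ * z := by group
    rw [e1, ← hut]
    calc (u⁻¹ * y⁻¹) * (y * (u * t⁻¹ * u⁻¹) * y⁻¹ * z) * (u⁻¹ * y⁻¹)⁻¹
        = t⁻¹ * (u⁻¹ * y⁻¹ * z) * (y * u) := by group
      _ = t⁻¹ * (z * (u⁻¹ * y⁻¹)) * (y * u) := by rw [hzc]
      _ = t⁻¹ * z := by group
  have hconj' : IsConj t (t * z⁻¹) := by
    obtain ⟨c, hc⟩ := isConj_iff.mp hconj
    rw [isConj_iff]
    refine ⟨c, ?_⟩
    have : c * t * c⁻¹ = (c * t⁻¹ * c⁻¹)⁻¹ := by group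
    rw [this, hc, mul_inv_rev, inv_inv]
    have hzi : z⁻¹ ∈ Subgroup.center G := inv_mem hz
    exact (Subgroup.mem_center_iff.mp hzi t).symm
  have := hW z⁻¹ (inv_mem hz) hconj'
  exact inv_eq_one.mp this


theorem mem_of_conj (p : ℕ) [Fact p.Prime] (hp2 : p ≠ 2) (P : Subgroup G) (hP : Nat.card P = p)
    (t : G) (hinv : ∀ y ∈ P, t * y * t⁻¹ = y⁻¹)
    (x : G) (hx : x ∈ P) (y : G) (hy : y ∈ P) :
    IsConj t (y * t * y⁻¹) ∧ IsConj t⁻¹ ((y * t * y⁻¹)⁻¹ * (x * 1)) := by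
  have hodd : Odd p := ((Fact.out : p.Prime).eq_two_or_odd').resolve_left hp2
  have hxp : x ^ p = 1 := pow_p_eq_one p _ hP hx
  refine ⟨isConj_iff.mpr ⟨y, rfl⟩, ?_⟩
  obtain ⟨m, hm⟩ := hodd
  set u := x ^ m with hu
  have huP : u ∈ P := pow_mem hx m
  have huu : u * u = x⁻¹ := by
    have : u * u * x = 1 := by
      rw [hu, ← pow_add, ← pow_succ, ← two_mul, ← hm, hxp]
    exact eq_inv_of_mul_eq_one_left this
  have hut : u * t⁻¹ * u⁻¹ = t⁻¹ * x := by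
    have h1 := hinv u huP
    calc u * t⁻¹ * u⁻¹ = t⁻¹ * (t * u * t⁻¹) * u⁻¹ := by group
      _ = t⁻¹ * u⁻¹ * u⁻¹ := by rw [h1]
      _ = t⁻¹ * (u * u)⁻¹ := by group
      _ = t⁻¹ * x := by rw [huu, inv_inv]
  have hyx : y⁻¹ * x = x * y⁻¹ := comm_of_prime p _ hP (inv_mem hy) hx
  rw [isConj_iff]
  refine ⟨y * u, ?_⟩
  rw [mul_one]
  calc y * u * t⁻¹ * (y * u)⁻¹ = y * (u * t⁻¹ * u⁻¹) * y⁻¹ := by group
    _ = y * (t⁻¹ * x) * y⁻¹ := by rw [hut]
    _ = y * t⁻¹ * (x * y⁻¹) := by group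
    _ = y * t⁻¹ * (y⁻¹ * x) := by rw [hyx]
    _ = (y * t * y⁻¹)⁻¹ * x := by group

theorem conj_inj (p : ℕ) [Fact p.Prime] (hp2 : p ≠ 2) (P : Subgroup G) (hP : Nat.card P = p)
    (t : G) (hinv : ∀ y ∈ P, t * y * t⁻¹ = y⁻¹)
    (y y' : G) (hy : y ∈ P) (hy' : y' ∈ P) (h : y * t * y⁻¹ = y' * t * y'⁻¹) : y = y' := by
  have hodd : Odd p := ((Fact.out : p.Prime).eq_two_or_odd').resolve_left hp2
  set w := y'⁻¹ * y with hw
  have hwP : w ∈ P := mul_mem (inv_mem hy') hy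
  have hwp : w ^ p = 1 := pow_p_eq_one p _ hP hwP
  have h1 : w * t * w⁻¹ = t := by
    calc w * t * w⁻¹ = y'⁻¹ * (y * t * y⁻¹) * y' := by rw [hw]; group
      _ = y'⁻¹ * (y' * t * y'⁻¹) * y' := by rw [h]
      _ = t := by group
  have h2 : t * w * t⁻¹ = w := by
    calc t * w * t⁻¹ = (w * t * w⁻¹) * w * t⁻¹ := by rw [h1]
      _ = w := by group
  have h3 : w⁻¹ = w := by rw [← hinv w hwP, h2]
  have h4 : w * w = 1 := by
    calc w * w = w * w⁻¹ := by rw [h3]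
      _ = 1 := mul_inv_cancel w
  have h5 : w = 1 := eq_one_of_sq hodd hwp h4
  have : y = y' * w := by rw [hw]; group
  rw [this, h5, mul_one]

end Cfsg.Agent.Helper28.S4705CNTW

namespace Cfsg.Agent.S4705P

open Cfsg Cfsg.Agent.Helper24 Cfsg.Agent.Helper1.W2p
open scoped ComplexConjugate

universe u

variable {G : Type u} [Group G] [Finite G]

theorem count_pairs (p : ℕ) [Fact p.Prime] (hp2 : p ≠ 2) (P : Sylow p G) (hP : Nat.card P = p)
    (hnn : ¬ (P : Subgroup G).Normal)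
    (t : G) (htN : t ∈ Subgroup.normalizer ((P : Subgroup G) : Set G))
    (ht2 : t ^ 2 ∈ Subgroup.center G) (hinv : ∀ y ∈ (P : Subgroup G), t * y * t⁻¹ = y⁻¹)
    (hform : ∀ n ∈ Subgroup.normalizer ((P : Subgroup G) : Set G),
        n ∉ Subgroup.centralizer ((P : Subgroup G) : Set G) →
        ∃ y ∈ (P : Subgroup G), ∃ z ∈ Subgroup.center G, n = y * t * y⁻¹ * z)
    (hW : ∀ z ∈ Subgroup.center G, IsConj t (t * z) → z = 1)
    (x : G) (hx : x ∈ (P : Subgroup G)) (hx1 : x ≠ 1) (z : G) (hz : z ∈ Subgroup.center G) :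
    (z = 1 → Nat.card {s : G // IsConj t s ∧ IsConj t⁻¹ (s⁻¹ * (x * z))} = p) ∧
    (z ≠ 1 → Nat.card {s : G // IsConj t s ∧ IsConj t⁻¹ (s⁻¹ * (x * z))} = 0) := by
  constructor
  · intro hz1
    subst hz1
    have hcard : Nat.card (P : Subgroup G) =
        Nat.card {s : G // IsConj t s ∧ IsConj t⁻¹ (s⁻¹ * (x * 1))} := by
      apply Nat.card_congr
      refine Equiv.ofBijective (fun y : (P : Subgroup G) =>
        ⟨(y : G) * t * (y : G)⁻¹,
          Cfsg.Agent.Helper28.S4705CNTW.mem_of_conj p hp2 _ hP t hinv x hx y y.2⟩) ⟨?_, ?_⟩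
      · intro y y' h
        apply Subtype.ext
        exact Cfsg.Agent.Helper28.S4705CNTW.conj_inj p hp2 _ hP t hinv _ _ y.2 y'.2
          (congrArg Subtype.val h)
      · rintro ⟨s, h1, h2⟩
        obtain ⟨-, y, hy, hsy⟩ := Cfsg.Agent.Helper28.S4705CNTW.analysis p hp2 P hP hnn t ht2 hinv
          hform hW x hx hx1 1 hz s h1 h2
        exact ⟨⟨y, hy⟩, Subtype.ext hsy.symm⟩
    rw [← hcard, hP]
  · intro hz1
    have : IsEmpty {s : G // IsConj t s ∧ IsConj t⁻¹ (s⁻¹ * (x * z))} :=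
      ⟨fun ⟨s, h1, h2⟩ => hz1 (Cfsg.Agent.Helper28.S4705CNTW.analysis p hp2 P hP hnn t ht2 hinv
          hform hW x hx hx1 z hz s h1 h2).1⟩
    exact Nat.card_of_isEmpty

end Cfsg.Agent.S4705P
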