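import Mathlib
import Cfsg.Prelude.Def_Solvable
import Cfsg.Agent.Lead.S2553Defs
import Cfsg.Agent.Helper11.SimpleTools
import Cfsg.Agent.Lead.S2553IDX
import Cfsg.Agent.Lead.S2553SYLAMB
import Cfsg.Agent.Helper24.S2553N5

set_option autoImplicit false

/-! S2553, piece C5: the Sylow 5-count of a non-abelian simple subgroup of `A₈`. -/

namespace Cfsg.Agent.S2553P

/-- C5 -/
theorem c5 (S : Subgroup Γ8) (hSA : S ≤ A8) (hs : IsSimpleGroup ↥S) (hna : ¬ IsMulCommutative ↥S)
    (h5 : 5 ∣ Nat.card ↥S) :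
    ∃ a : ℕ, (a = 10 ∨ a = 20 ∨ a = 30 ∨ a = 60) ∧ a ∣ Nat.card ↥S ∧ (Nat.card ↥S / a) % 5 = 1 := by
  classical
  have : Fact (Nat.Prime 5) := ⟨by norm_num⟩
  have hSdvd : Nat.card ↥S ∣ 20160 := by
    rw [← card_A8]
    exact Subgroup.card_dvd_of_le hSA
  have hSpos : 0 < Nat.card ↥S := Nat.card_pos
  -- the Sylow 5-subgroup has order 5
  obtain ⟨P⟩ : Nonempty (Sylow 5 ↥S) := inferInstance
  have hP : Nat.card ↥(P : Subgroup ↥S) = 5 := by
    rw [Sylow.card_eq_multiplicity]
    have h1 : (Nat.card ↥S).factorization 5 = 1 := by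
      have hk : 5 ^ (Nat.card ↥S).factorization 5 ∣ 20160 :=
        (Nat.ordProj_dvd (Nat.card ↥S) 5).trans hSdvd
      have hk1 : 1 ≤ (Nat.card ↥S).factorization 5 :=
        (Nat.Prime.dvd_iff_one_le_factorization (by norm_num) hSpos.ne').mp h5
      by_contra hne
      have hk2 : 2 ≤ (Nat.card ↥S).factorization 5 := by omega
      have : (5 : ℕ) ^ 2 ∣ 20160 := (pow_dvd_pow 5 hk2).trans hk
      norm_num at this
    rw [h1, pow_one]
  obtain ⟨r, hr1, hr4, hra⟩ := Cfsg.Agent.Helper11.simple_automizer_prime (G := ↥S) hna 5 P hP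
  have hmap : Nat.card ↥((P : Subgroup ↥S).map S.subtype) = 5 := by
    exact (Nat.card_congr
      ((P : Subgroup ↥S).equivMapOfInjective S.subtype S.subtype_injective).toEquiv.symm).trans hP
  have h60 := card_normalizer_dvd S hSA (P : Subgroup ↥S)
  rw [card_alt_inf_normalizer_five _ hmap] at h60
  obtain ⟨a, ha⟩ : ∃ a, a = Nat.card ↥(Subgroup.normalizer ((P : Subgroup ↥S) : Set ↥S)) :=
    ⟨_, rfl⟩
  rw [← ha] at hra h60
  refine ⟨a, ?_, ?_, ?_⟩
  · -- arithmetic
    have hr : r = 2 ∨ r = 4 := by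
      have hle : r ≤ 4 := Nat.le_of_dvd (by norm_num) hr4
      interval_cases r
      · simp at hr4
      · exact absurd rfl hr1
      · exact Or.inl rfl
      · norm_num at hr4
      · exact Or.inr rfl
    have ha60 : a ≤ 60 := Nat.le_of_dvd (by norm_num) h60
    have h10 : 10 ∣ a := by
      rcases hr with rfl | rfl
      · exact hra
      · exact Dvd.dvd.trans (by norm_num) hra
    obtain ⟨c, rfl⟩ := h10
    have hc : c ≤ 6 := by omega
    interval_cases c
    · simp at h60
    · exact Or.inl rfl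
    · exact Or.inr (Or.inl rfl)
    · exact Or.inr (Or.inr (Or.inl rfl))
    · norm_num at h60
    · norm_num at h60
    · exact Or.inr (Or.inr (Or.inr rfl))
  · rw [ha]
    exact Subgroup.card_subgroup_dvd_card _
  · have h1 := card_sylow_modEq_one 5 ↥S
    rw [Sylow.card_eq_index_normalizer P] at h1
    have h2 := Subgroup.index_mul_card (Subgroup.normalizer ((P : Subgroup ↥S) : Set ↥S))
    rw [← ha] at h2
    have hapos : 0 < a := by rw [ha]; exact Nat.card_pos
    have h3 : Nat.card ↥S / a = (Subgroup.normalizer ((P : Subgroup ↥S) : Set ↥S)).index := by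
      rw [← h2, Nat.mul_div_cancel _ hapos]
    rw [h3]
    exact h1
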