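import Mathlib
import Cfsg.Prelude.Def_GeometricClasses
import Cfsg.Agent.Helper28.UPair1

set_option autoImplicit false

/-! Pairs of complementary totally isotropic subspaces of a unitary space, Siegel root elements. -/

namespace Cfsg.Agent.Helper28.UPair

open Matrix Module Cfsg.Agent.S2644 Cfsg.Agent.Helper2.SUGen

/-- a pair of complementary totally isotropic subspaces -/
structure LP {K : Type*} [Field K] {n : ℕ} (q' : ℕ) (A B : Submodule K (Fin n → K)) : Prop where
  isoA : ∀ u ∈ A, ∀ v ∈ A, Cfsg.hermForm n K q' u v = 0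
  isoB : ∀ u ∈ B, ∀ v ∈ B, Cfsg.hermForm n K q' u v = 0
  dec : ∀ x : Fin n → K, ∃ a ∈ A, ∃ b ∈ B, x = a + b

variable {K : Type*} [Field K] {q n : ℕ}

local notation "h" => Cfsg.hermForm n K q
local notation "T" => Cfsg.unitaryTransvection n q

variable {A B A' B' : Submodule K (Fin n → K)}

theorem LP.symm (hL : LP q A B) : LP q B A :=
  ⟨hL.isoB, hL.isoA, fun x => by
    obtain ⟨a, ha, b, hb, rfl⟩ := hL.dec x
    exact ⟨b, hb, a, ha, add_comm _ _⟩⟩

variable (D : Frob K q)

include D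

/-- `A^⊥ ⊆ A` -/
theorem LP.perp_mem (hL : LP q A B) {x : Fin n → K} (hx : ∀ a ∈ A, h x a = 0) : x ∈ A := by
  obtain ⟨a, ha, b, hb, rfl⟩ := hL.dec x
  have hb0 : b = 0 := by
    apply h_nondeg D
    intro z
    obtain ⟨a', ha', b', hb', rfl⟩ := hL.dec z
    rw [h_add_right D, hL.isoB b hb b' hb', add_zero]
    have := hx a' ha'
    rw [h_add_left, hL.isoA a ha a' ha', zero_add] at this
    exact this
  rw [hb0, add_zero]
  exact ha

theorem LP.disj (hL : LP q A B) {x : Fin n → K} (ha : x ∈ A) (hb : x ∈ B) : x = 0 := by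
  apply h_nondeg D
  intro z
  obtain ⟨a', ha', b', hb', rfl⟩ := hL.dec z
  rw [h_add_right D, hL.isoA x ha a' ha', hL.isoB x hb b' hb', add_zero]

theorem LP.exists_pair (hL : LP q A B) {a : Fin n → K} (ha : a ∈ A) (ha0 : a ≠ 0) :
    ∃ b ∈ B, h a b = 1 ∧ h b a = 1 := by
  obtain ⟨b, hb, hab⟩ : ∃ b ∈ B, h a b ≠ 0 := by
    by_contra hcon
    push Not at hcon
    apply ha0
    apply h_nondeg D
    intro z
    obtain ⟨a', ha', b', hb', rfl⟩ := hL.dec z
    rw [h_add_right D, hL.isoA a ha a' ha', hcon b' hb', add_zero]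
  have h1 : h a (D.σ (h a b)⁻¹ • b) = 1 := by
    rw [h_smul_right D, D.invol, inv_mul_cancel₀ hab]
  refine ⟨D.σ (h a b)⁻¹ • b, B.smul_mem _ hb, h1, ?_⟩
  rw [← h_conj D, h1, map_one]

/-- separate two independent vectors of `A` by a vector of `B` -/
theorem LP.exists_pair2 (hL : LP q A B) {e e' : Fin n → K} (he : e ∈ A) (he' : e' ∈ A)
    (he0 : e ≠ 0) (hne : ∀ c : K, e' ≠ c • e) : ∃ f ∈ B, h e f = 1 ∧ h e' f = 1 := by
  obtain ⟨f1, hf1, h1, -⟩ := hL.exists_pair D he he0
  have hw : e' - h e' f1 • e ≠ 0 := by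
    intro h0
    exact hne _ (sub_eq_zero.mp h0)
  obtain ⟨f2, hf2, h2, -⟩ := hL.exists_pair D (A.sub_mem he' (A.smul_mem _ he)) hw
  rw [h_sub_left, h_smul_left] at h2
  set c := h e' f1 with hc
  set p := h e f2 with hp
  set r := h e' f2 with hr
  refine ⟨D.σ (1 - (1 - c) * p) • f1 + D.σ (1 - c) • f2,
    B.add_mem (B.smul_mem _ hf1) (B.smul_mem _ hf2), ?_, ?_⟩
  · rw [h_add_right D, h_smul_right D, h_smul_right D, D.invol, D.invol, h1, ← hp]
    ring
  · rw [h_add_right D, h_smul_right D, h_smul_right D, D.invol, D.invol, ← hc, ← hr]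
    linear_combination (1 - c) * h2

/-- every skew element is of the form `s - σ s` -/
theorem exists_sub_conj (c : K) (hc : D.σ c = -c) : ∃ s : K, s - D.σ s = c := by
  obtain ⟨s0, hs0, hs⟩ := exists_skew D
  have hfix : D.σ (c / s0) = c / s0 := by
    rw [map_div₀, hc, hs, neg_div_neg_eq]
  obtain ⟨t, ht⟩ := exists_trace D (c / s0) hfix
  refine ⟨t * s0, ?_⟩
  rw [map_mul, hs]
  have : (t + D.σ t) * s0 = c := by rw [ht, div_mul_cancel₀ _ hs0]
  linear_combination this

/-! ### Siegel root elements -/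

/-- the hypothesis "all root elements of the pair `(A, B)` lie in `M`" -/
def HasRoots {K : Type*} [Field K] {n : ℕ} (q' : ℕ) (M : Subgroup (Matrix.GeneralLinearGroup (Fin n) K))
    (A B : Submodule K (Fin n → K)) : Prop :=
  ∀ a ∈ A, ∀ b ∈ B, Cfsg.hermForm n K q' b a = 0 → InM M (Sg (q := q') a b 0)

theorem Sg_swap (a b : Fin n → K) : Sg (q := q) b a 0 = Sg (q := q) a (-b) 0 := by
  apply mat_ext
  intro z
  rw [Sg_mulVec, Sg_mulVec, h_neg_right D]
  module

theorem HasRoots.symm {M : Subgroup (Matrix.GeneralLinearGroup (Fin n) K)}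
    (hR : HasRoots q M A B) : HasRoots q M B A := by
  intro b hb a ha hab
  rw [Sg_swap D]
  refine hR a ha (-b) (B.neg_mem hb) ?_
  rw [h_neg_left, h_symm_zero D hab, neg_zero]

/-- if one nonzero vector of `A` is in `SS M`, all of `A` is -/
theorem SS_of_mem (hL : LP q A B) (M : Subgroup (Matrix.GeneralLinearGroup (Fin n) K))
    (hR : HasRoots q M A B) {e : Fin n → K} (he : e ∈ A) (he0 : e ≠ 0) (heS : e ∈ SS D M) :
    ∀ e' ∈ A, e' ∈ SS D M := by
  intro e' he'
  by_cases hc : ∃ c : K, e' = c • e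
  · obtain ⟨c, rfl⟩ := hc
    exact SS_smul D M heS c
  · push Not at hc
    obtain ⟨f, hf, h1, h2⟩ := hL.exists_pair2 D he he' he0 hc
    have hfe : h f e = 1 := by rw [← h_conj D, h1, map_one]
    have hfe' : h f e' = 1 := by rw [← h_conj D, h2, map_one]
    have h0 : h (-f) (e' - e) = 0 := by
      rw [h_neg_left, h_sub_right D, hfe, hfe', sub_self, neg_zero]
    have hg := hR (e' - e) (A.sub_mem he' he) (-f) (B.neg_mem hf) h0
    have hxx : h (e' - e) (e' - e) = 0 := hL.isoA _ (A.sub_mem he' he) _ (A.sub_mem he' he)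
    have hP := Sg_pres D (e' - e) (-f) 0 hxx h0 (by
      rw [map_zero, h_neg_left, h_neg_right D, hL.isoB f hf f hf]; ring)
    have := SS_map D M heS hg hP
    rw [Sg_mulVec, hL.isoA e he _ (A.sub_mem he' he), h_neg_right D, h1] at this
    have e1 : e + (0 : K) • -f - (-1 : K) • (e' - e) + ((0 : K) * 0) • (e' - e) = e' := by
      module
    rwa [e1] at this

end Cfsg.Agent.Helper28.UPair
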