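import Mathlib
import Cfsg.Prelude.Def_GeometricClasses
import Cfsg.Agent.Helper28.UPair2

set_option autoImplicit false

/-! Lemma X (unitary version): two pairs of complementary Lagrangians sharing a vector. -/

namespace Cfsg.Agent.Helper28.UPair

open Matrix Module Cfsg.Agent.S2644 Cfsg.Agent.Helper2.SUGen

variable {K : Type*} [Field K] {q n : ℕ}

local notation "h" => Cfsg.hermForm n K q
local notation "T" => Cfsg.unitaryTransvection n q

variable {A B A' B' : Submodule K (Fin n → K)}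

variable (D : Frob K q)

include D

omit D in
theorem Sg_congr' {x w w' : Fin n → K} {c c' : K} (hw : w = w') (hc : c = c') :
    Sg (q := q) x w c = Sg (q := q) x w' c' := by rw [hw, hc]

/-- the commutator of two elements of the Heisenberg group of `e` -/
theorem Sg_comm {e z z' : Fin n → K} (hee : h e e = 0) (hz : h z e = 0) (hz' : h z' e = 0)
    (hzz : h z z = 0) (hzz' : h z' z' = 0) :
    Sg (q := q) e z 0 * Sg (q := q) e z' 0 * Sg (q := q) e (-z) 0 * Sg (q := q) e (-z') 0 =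
      T e (h z z' - h z' z) := by
  have hnz : h (-z) e = 0 := by rw [h_neg_left, hz, neg_zero]
  have hnz' : h (-z') e = 0 := by rw [h_neg_left, hz', neg_zero]
  have h1 : h (z + z') e = 0 := by rw [h_add_left, hz, hz', add_zero]
  have h2 : h (z + z' + -z) e = 0 := by rw [h_add_left, h1, hnz, add_zero]
  rw [Sg_mul D e z z' 0 0 hee hz hz', Sg_mul D e (z + z') (-z) _ 0 hee h1 hnz,
    Sg_mul D e (z + z' + -z) (-z') _ 0 hee h2 hnz', ← Sg_zero D]
  apply Sg_congr'
  · abel
  · simp only [h_add_left, h_neg_left, h_add_right D, h_neg_right D, hzz, hzz']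
    ring

theorem lemX (hL : LP q A B) (M : Subgroup (Matrix.GeneralLinearGroup (Fin n) K))
    (hR : HasRoots q M A B) (hR' : HasRoots q M A' B') (hB' : ∀ u ∈ B', ∀ v ∈ B', h u v = 0)
    {e : Fin n → K} (he : e ∈ A) (he' : e ∈ A') (he0 : e ≠ 0) (hne : e ∉ SS D M)
    {z' : Fin n → K} (hz' : z' ∈ B') (hez' : h z' e = 0) : z' ∈ B := by
  have hee : h e e = 0 := hL.isoA e he e he
  -- Step 1
  have h1 : ∀ z ∈ B, h z e = 0 → h z z' = 0 := by
    intro z hz hze
    by_contra hzz
    apply hne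
    refine ⟨hee, fun c hc => ?_⟩
    obtain ⟨s, hs⟩ := exists_sub_conj D c hc
    set μ := D.σ (s / h z z') with hμ
    have e1 : h z (μ • z') = s := by
      rw [h_smul_right D, hμ, D.invol, div_mul_cancel₀ _ hzz]
    have e2 : h (μ • z') z = D.σ s := by rw [← h_conj D, e1]
    have hmz' : h (μ • z') e = 0 := by rw [h_smul_left, hez', mul_zero]
    have hcomm := Sg_comm D hee hze hmz' (hL.isoB z hz z hz)
      (hB' _ (B'.smul_mem μ hz') _ (B'.smul_mem μ hz'))
    rw [e1, e2, hs] at hcomm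
    rw [← hcomm]
    refine ((((hR e he z hz hze).mul (hR' e he' _ (B'.smul_mem μ hz') hmz')).mul
      (hR e he _ (B.neg_mem hz) ?_)).mul (hR' e he' _ (B'.neg_mem (B'.smul_mem μ hz')) ?_))
    · rw [h_neg_left, hze, neg_zero]
    · rw [h_neg_left, hmz', neg_zero]
  -- Step 2
  obtain ⟨f0, hf0, hef0, hf0e⟩ := hL.exists_pair D he he0
  obtain ⟨a, ha, b, hb, rfl⟩ := hL.dec z'
  have hbe : h b e = 0 := by
    rw [h_add_left, hL.isoA a ha e he, zero_add] at hez'
    exact hez'
  have ha' : a = h a f0 • e := by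
    have : a - h a f0 • e = 0 := by
      apply h_nondeg D
      intro z
      obtain ⟨a1, ha1, b1, hb1, rfl⟩ := hL.dec z
      rw [h_add_right D, hL.isoA _ (A.sub_mem ha (A.smul_mem _ he)) a1 ha1, zero_add]
      have hb1' : h (b1 - h b1 e • f0) e = 0 := by
        rw [h_sub_left, h_smul_left, hf0e]; ring
      have h3 := h1 (b1 - h b1 e • f0) (B.sub_mem hb1 (B.smul_mem _ hf0)) hb1'
      rw [h_add_right D, hL.isoB _ (B.sub_mem hb1 (B.smul_mem _ hf0)) b hb, add_zero] at h3
      have h4 : h a (b1 - h b1 e • f0) = 0 := h_symm_zero D h3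
      have h5 : h e (b1 - h b1 e • f0) = 0 := h_symm_zero D hb1'
      have h6 : b1 = (b1 - h b1 e • f0) + h b1 e • f0 := by abel
      rw [h6, h_add_right D, h_sub_left, h_smul_left, h4, h5, h_smul_right D, h_sub_left,
        h_smul_left, hef0]
      ring
    exact sub_eq_zero.mp this
  -- Step 3
  by_cases hs : h a f0 = 0
  · rw [ha', hs, zero_smul, zero_add]; exact hb
  · exfalso
    apply hne
    refine ⟨hee, fun c hc => ?_⟩
    obtain ⟨s, hs'⟩ := exists_sub_conj D c hc
    set μ := s / h a f0 with hμ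
    have hmb : h (-(μ • b)) e = 0 := by rw [h_neg_left, h_smul_left, hbe, mul_zero, neg_zero]
    have hmz' : h (μ • (a + b)) e = 0 := by rw [h_smul_left, hez', mul_zero]
    have hg1 := hR e he _ (B.neg_mem (B.smul_mem μ hb)) hmb
    have hg2 := hR' e he' _ (B'.smul_mem μ hz') hmz'
    have hprod := Sg_mul D e (-(μ • b)) (μ • (a + b)) 0 0 hee hmb hmz'
    have e1 : -(μ • b) + μ • (a + b) = s • e := by
      rw [ha', smul_add, smul_smul, hμ, div_mul_cancel₀ _ hs]; abel
    have e2 : (0 : K) + 0 - h (μ • (a + b)) (-(μ • b)) = 0 := by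
      rw [h_neg_right D, h_smul_left, h_smul_right D, h_add_left, hL.isoB b hb b hb, ha',
        h_smul_left, h_symm_zero D hbe]
      ring
    rw [e1, e2, Sg_self D, add_zero, hs'] at hprod
    rw [← hprod]
    exact hg1.mul hg2

theorem lemX' (hL : LP q A B) (hL' : LP q A' B') (M : Subgroup (Matrix.GeneralLinearGroup (Fin n) K))
    (hR : HasRoots q M A B) (hR' : HasRoots q M A' B')
    {e : Fin n → K} (he : e ∈ A) (he' : e ∈ A') (he0 : e ≠ 0) (hne : e ∉ SS D M)
    {z : Fin n → K} (hez : h z e = 0) : z ∈ B ↔ z ∈ B' :=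
  ⟨fun hz => lemX D hL' M hR' hR hL.isoB he' he he0 hne hz hez,
   fun hz => lemX D hL M hR hR' hL'.isoB he he' he0 hne hz hez⟩

omit D in
/-- "dimension at least three" -/
def Big {K : Type*} [Field K] {n : ℕ} (q' : ℕ) (W : Submodule K (Fin n → K)) : Prop :=
  ∀ y1 y2 : Fin n → K, ∃ z ∈ W, z ≠ 0 ∧ Cfsg.hermForm n K q' z y1 = 0 ∧
    Cfsg.hermForm n K q' z y2 = 0

theorem eq_of_mem (hL : LP q A B) (hL' : LP q A' B')
    (M : Subgroup (Matrix.GeneralLinearGroup (Fin n) K))
    (hR : HasRoots q M A B) (hR' : HasRoots q M A' B')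
    (hbA : Big q A) (hbB : Big q B) (hbA' : Big q A') (hbB' : Big q B')
    (hne : ∀ x : Fin n → K, x ≠ 0 → x ∈ A ∨ x ∈ B → x ∉ SS D M)
    {e : Fin n → K} (he : e ∈ A) (he' : e ∈ A') (he0 : e ≠ 0) : A = A' ∧ B = B' := by
  have hswap : ∀ x y : Fin n → K, h x y = 0 → h y x = 0 := fun x y hxy => h_symm_zero D hxy
  have hneE := hne e he0 (Or.inl he)
  have hRs := HasRoots.symm D hR
  have hRs' := HasRoots.symm D hR'
  have h1 : A ≤ A' := by
    intro y hy
    obtain ⟨e2, he2, he20, h3, h4⟩ := hbB e y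
    have he2' : e2 ∈ B' := (lemX' D hL hL' M hR hR' he he' he0 hneE h3).mp he2
    exact (lemX' D hL.symm hL'.symm M hRs hRs' he2 he2' he20
      (hne e2 he20 (Or.inr he2)) (hswap _ _ h4)).mp hy
  have h1' : A' ≤ A := by
    intro y hy
    obtain ⟨e2, he2', he20, h3, h4⟩ := hbB' e y
    have he2 : e2 ∈ B := (lemX' D hL hL' M hR hR' he he' he0 hneE h3).mpr he2'
    exact (lemX' D hL.symm hL'.symm M hRs hRs' he2 he2' he20
      (hne e2 he20 (Or.inr he2)) (hswap _ _ h4)).mpr hy
  refine ⟨le_antisymm h1 h1', le_antisymm ?_ ?_⟩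
  · intro y hy
    obtain ⟨e1, he1, he10, h3, _⟩ := hbA y y
    exact (lemX' D hL hL' M hR hR' he1 (h1 he1) he10 (hne e1 he10 (Or.inl he1))
      (hswap _ _ h3)).mp hy
  · intro y hy
    obtain ⟨e1, he1', he10, h3, _⟩ := hbA' y y
    have he1 := h1' he1'
    exact (lemX' D hL hL' M hR hR' he1 he1' he10 (hne e1 he10 (Or.inl he1))
      (hswap _ _ h3)).mpr hy

theorem caseI (hL : LP q A B) (hL' : LP q A' B')
    (M : Subgroup (Matrix.GeneralLinearGroup (Fin n) K))
    (hR : HasRoots q M A B) (hR' : HasRoots q M A' B')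
    (hbA : Big q A) (hbB : Big q B) (hbA' : Big q A') (hbB' : Big q B')
    (hne : ∀ x : Fin n → K, x ≠ 0 → x ∈ A ∨ x ∈ B → x ∉ SS D M)
    {e : Fin n → K} (he0 : e ≠ 0) (he : e ∈ A ∨ e ∈ B) (he' : e ∈ A' ∨ e ∈ B') :
    (A = A' ∧ B = B') ∨ (A = B' ∧ B = A') := by
  have hne' : ∀ x : Fin n → K, x ≠ 0 → x ∈ B ∨ x ∈ A → x ∉ SS D M := fun x hx hh => hne x hx hh.symm
  have hRs := HasRoots.symm D hR
  have hRs' := HasRoots.symm D hR'
  rcases he with he | he <;> rcases he' with he' | he'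
  · left
    exact eq_of_mem D hL hL' M hR hR' hbA hbB hbA' hbB' hne he he' he0
  · right
    exact eq_of_mem D hL hL'.symm M hR hRs' hbA hbB hbB' hbA' hne he he' he0
  · right
    have := eq_of_mem D hL.symm hL' M hRs hR' hbB hbA hbA' hbB' hne' he he' he0
    exact ⟨this.2, this.1⟩
  · left
    have := eq_of_mem D hL.symm hL'.symm M hRs hRs' hbB hbA hbB' hbA' hne' he he' he0
    exact ⟨this.2, this.1⟩

end Cfsg.Agent.Helper28.UPair
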