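import Mathlib
import Cfsg.Prelude.Def_GeometricClasses
import Cfsg.Agent.Helper28.UPair3

set_option autoImplicit false

/-! Abstract maximality of the stabiliser of a pair of complementary totally isotropic subspaces
in `SU_n(q)`. -/

namespace Cfsg.Agent.Helper28.UPair

open Matrix Module Cfsg.Agent.S2644 Cfsg.Agent.Helper2.SUGen

variable {K : Type*} [Field K] {q n : ℕ}

local notation "h" => Cfsg.hermForm n K q
local notation "T" => Cfsg.unitaryTransvection n q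
local notation "GLn" => Matrix.GeneralLinearGroup (Fin n) K

variable {A B A' B' : Submodule K (Fin n → K)}

/-- image of a subspace under an invertible matrix -/
def mp (g : Matrix.GeneralLinearGroup (Fin n) K) (W : Submodule K (Fin n → K)) :
    Submodule K (Fin n → K) :=
  W.map (Matrix.toLin' (g : Matrix (Fin n) (Fin n) K))

theorem mem_mp (g : GLn) (W : Submodule K (Fin n → K)) (x : Fin n → K) :
    x ∈ mp g W ↔ ∃ w ∈ W, (g : Matrix (Fin n) (Fin n) K) *ᵥ w = x := by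
  unfold mp
  rw [Submodule.mem_map]
  simp only [Matrix.toLin'_apply]

theorem mulVec_mem_mp (g : GLn) (W : Submodule K (Fin n → K)) {w : Fin n → K} (hw : w ∈ W) :
    (g : Matrix (Fin n) (Fin n) K) *ᵥ w ∈ mp g W :=
  (mem_mp g W _).mpr ⟨w, hw, rfl⟩

theorem gl_mulVec_inv (g : GLn) (x : Fin n → K) :
    (g : Matrix (Fin n) (Fin n) K) *ᵥ (((g⁻¹ : GLn) : Matrix (Fin n) (Fin n) K) *ᵥ x) = x := by
  rw [Matrix.mulVec_mulVec, ← Units.val_mul, mul_inv_cancel]
  exact Matrix.one_mulVec x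

theorem gl_inv_mulVec (g : GLn) (x : Fin n → K) :
    ((g⁻¹ : GLn) : Matrix (Fin n) (Fin n) K) *ᵥ ((g : Matrix (Fin n) (Fin n) K) *ᵥ x) = x := by
  rw [Matrix.mulVec_mulVec, ← Units.val_mul, inv_mul_cancel]
  exact Matrix.one_mulVec x

theorem LP.map (hL : LP q A B) (g : GLn) (hP : Pres (q := q) (g : Matrix (Fin n) (Fin n) K)) :
    LP q (mp g A) (mp g B) := by
  refine ⟨?_, ?_, ?_⟩
  · intro u hu v hv
    obtain ⟨a, ha, rfl⟩ := (mem_mp g A u).mp hu
    obtain ⟨a', ha', rfl⟩ := (mem_mp g A v).mp hv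
    rw [hP]
    exact hL.isoA a ha a' ha'
  · intro u hu v hv
    obtain ⟨a, ha, rfl⟩ := (mem_mp g B u).mp hu
    obtain ⟨a', ha', rfl⟩ := (mem_mp g B v).mp hv
    rw [hP]
    exact hL.isoB a ha a' ha'
  · intro x
    obtain ⟨a, ha, b, hb, hab⟩ := hL.dec (((g⁻¹ : GLn) : Matrix (Fin n) (Fin n) K) *ᵥ x)
    refine ⟨_, mulVec_mem_mp g A ha, _, mulVec_mem_mp g B hb, ?_⟩
    rw [← mulVec_add, ← hab, gl_mulVec_inv]

theorem Big.map {W : Submodule K (Fin n → K)} (hb : Big q W) (g : GLn)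
    (hP : Pres (q := q) (g : Matrix (Fin n) (Fin n) K)) : Big q (mp g W) := by
  intro y1 y2
  obtain ⟨z, hz, hz0, h1, h2⟩ := hb (((g⁻¹ : GLn) : Matrix (Fin n) (Fin n) K) *ᵥ y1)
    (((g⁻¹ : GLn) : Matrix (Fin n) (Fin n) K) *ᵥ y2)
  refine ⟨_, mulVec_mem_mp g W hz, ?_, ?_, ?_⟩
  · intro h0
    apply hz0
    have := congrArg (fun t => ((g⁻¹ : GLn) : Matrix (Fin n) (Fin n) K) *ᵥ t) h0
    simp only [gl_inv_mulVec, mulVec_zero] at this
    exact this
  · rw [← gl_mulVec_inv g y1, hP]; exact h1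
  · rw [← gl_mulVec_inv g y2, hP]; exact h2

variable (D : Frob K q)

include D

theorem HasRoots.map {M : Subgroup GLn} (hR : HasRoots q M A B) {g : GLn} (hg : g ∈ M)
    (hP : Pres (q := q) (g : Matrix (Fin n) (Fin n) K)) :
    HasRoots q M (mp g A) (mp g B) := by
  intro u hu v hv hvu
  obtain ⟨a, ha, rfl⟩ := (mem_mp g A u).mp hu
  obtain ⟨b, hb, rfl⟩ := (mem_mp g B v).mp hv
  rw [hP] at hvu
  obtain ⟨t, ht, htS⟩ := hR a ha b hb hvu
  refine ⟨g * t * g⁻¹, M.mul_mem (M.mul_mem hg ht) (M.inv_mem hg), ?_⟩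
  rw [Units.val_mul, Units.val_mul, htS, Sg_conj D _ hP, mul_assoc, ← Units.val_mul, mul_inv_cancel]
  simp

theorem caseII (hL : LP q A B) (hL' : LP q A' B') (M : Subgroup GLn)
    (hMP : ∀ g ∈ M, Pres (q := q) (g : Matrix (Fin n) (Fin n) K))
    (hR : HasRoots q M A B) (hR' : HasRoots q M A' B')
    (hbA : Big q A) (hbB : Big q B) (hbA' : Big q A') (hbB' : Big q B')
    (hne : ∀ x : Fin n → K, x ≠ 0 → x ∈ A ∨ x ∈ B → x ∉ SS D M)
    (htriv : ∀ x : Fin n → K, x ∈ A ∨ x ∈ B → x ∈ A' ∨ x ∈ B' → x = 0) : False := by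
  obtain ⟨u, hu, hu0, -, -⟩ := hbA' 0 0
  obtain ⟨u', hu', hu0', huu', -⟩ := hbB' u u
  obtain ⟨e, he, he0, heu, heu'⟩ := hbA u u'
  have key : ∀ μ : K, ∀ x ∈ A, (μ * h x u) • u' - (D.σ μ * h x u') • u ∈ A := by
    intro μ x hx
    have hwu : h (μ • u') u = 0 := by rw [h_smul_left, huu', mul_zero]
    obtain ⟨g, hg, hgS⟩ := hR' u hu (μ • u') (B'.smul_mem μ hu') hwu
    have hP := hMP g hg
    have hge : (g : Matrix (Fin n) (Fin n) K) *ᵥ e = e := by
      rw [hgS, Sg_mulVec, heu, h_smul_right D, heu']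
      simp
    have he' : e ∈ mp g A := by
      rw [← hge]; exact mulVec_mem_mp g A he
    obtain ⟨hA, -⟩ := eq_of_mem D hL (hL.map g hP) M hR (hR.map D hg hP) hbA hbB (hbA.map g hP)
      (hbB.map g hP) hne he he' he0
    have h1 : (g : Matrix (Fin n) (Fin n) K) *ᵥ x ∈ A := by
      rw [hA]; exact mulVec_mem_mp g A hx
    rw [hgS, Sg_mulVec, h_smul_right D] at h1
    have := A.sub_mem h1 hx
    have e1 : x + h x u • μ • u' - (D.σ μ * h x u') • u + (0 * h x u) • u - x =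
        (μ * h x u) • u' - (D.σ μ * h x u') • u := by module
    rwa [e1] at this
  obtain ⟨ζ, hζ⟩ : ∃ ζ, D.σ ζ ≠ ζ := by
    by_contra hcon
    push Not at hcon
    exact D.ne_id (RingHom.ext hcon)
  have hxu : ∀ x ∈ A, h x u = 0 := by
    intro x hx
    by_contra hne0
    have k1 := key 1 x hx
    have kζ := key ζ x hx
    rw [map_one, one_mul, one_mul] at k1
    have h3 := A.sub_mem (A.smul_mem (D.σ ζ) k1) kζ
    have e2 : D.σ ζ • (h x u • u' - h x u' • u) - ((ζ * h x u) • u' - (D.σ ζ * h x u') • u) =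
        ((D.σ ζ - ζ) * h x u) • u' := by module
    rw [e2] at h3
    have h4 := A.smul_mem ((D.σ ζ - ζ) * h x u)⁻¹ h3
    rw [smul_smul, inv_mul_cancel₀ (mul_ne_zero (sub_ne_zero.mpr hζ) hne0), one_smul] at h4
    exact hu0' (htriv u' (Or.inl h4) (Or.inr hu'))
  have huA : u ∈ A := hL.perp_mem D (fun a ha => h_symm_zero D (hxu a ha))
  exact hu0 (htriv u (Or.inl huA) (Or.inl hu))

theorem exists_SS (hL : LP q A B) (M : Subgroup GLn)
    (hMP : ∀ g ∈ M, Pres (q := q) (g : Matrix (Fin n) (Fin n) K))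
    (hR : HasRoots q M A B) (hbA : Big q A) (hbB : Big q B)
    (k : GLn) (hk : k ∈ M)
    (hkn : ¬ ((A = mp k A ∧ B = mp k B) ∨ (A = mp k B ∧ B = mp k A))) :
    ∃ x : Fin n → K, x ≠ 0 ∧ (x ∈ A ∨ x ∈ B) ∧ x ∈ SS D M := by
  by_contra hcon
  push Not at hcon
  have hP := hMP k hk
  by_cases htriv : ∀ x : Fin n → K, x ∈ A ∨ x ∈ B → x ∈ mp k A ∨ x ∈ mp k B → x = 0
  · exact caseII D hL (hL.map k hP) M hMP hR (hR.map D hk hP) hbA hbB (hbA.map k hP)
      (hbB.map k hP) hcon htriv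
  · push Not at htriv
    obtain ⟨e, he, he', he0⟩ := htriv
    exact hkn (caseI D hL (hL.map k hP) M hR (hR.map D hk hP) hbA hbB (hbA.map k hP)
      (hbB.map k hP) hcon he0 he he')

/-- **abstract maximality** -/
theorem u_pair_max [Fintype K] (hK : Fintype.card K = q ^ 2) (hn : 4 ≤ n)
    (hL : LP q A B) (M : Subgroup GLn)
    (hMP : ∀ g ∈ M, Pres (q := q) (g : Matrix (Fin n) (Fin n) K))
    (hR : HasRoots q M A B) (hbA : Big q A) (hbB : Big q B)
    (s : GLn) (hs : s ∈ M)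
    (hs1 : ∀ a ∈ A, (s : Matrix (Fin n) (Fin n) K) *ᵥ a ∈ B)
    (hs2 : ∀ b ∈ B, (s : Matrix (Fin n) (Fin n) K) *ᵥ b ∈ A)
    (k : GLn) (hk : k ∈ M)
    (hkn : ¬ ((A = mp k A ∧ B = mp k B) ∨ (A = mp k B ∧ B = mp k A))) :
    ∀ g : GLn, Pres (q := q) (g : Matrix (Fin n) (Fin n) K) →
      (g : Matrix (Fin n) (Fin n) K).det = 1 → g ∈ M := by
  obtain ⟨x, hx0, hx, hxS⟩ := exists_SS D hL M hMP hR hbA hbB k hk hkn
  have hsP := hMP s hs
  have hs0 : ∀ y : Fin n → K, y ≠ 0 → (s : Matrix (Fin n) (Fin n) K) *ᵥ y ≠ 0 := by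
    intro y hy h0
    apply hy
    have := congrArg (fun t => ((s⁻¹ : GLn) : Matrix (Fin n) (Fin n) K) *ᵥ t) h0
    simp only [gl_inv_mulVec, mulVec_zero] at this
    exact this
  have hsM : InM M (s : Matrix (Fin n) (Fin n) K) := ⟨s, hs, rfl⟩
  have hAS : ∀ a ∈ A, a ∈ SS D M := by
    rcases hx with hx | hx
    · exact SS_of_mem D hL M hR hx hx0 hxS
    · exact SS_of_mem D hL M hR (hs2 x hx) (hs0 x hx0) (SS_map D M hxS hsM hsP)
  have hBS : ∀ b ∈ B, b ∈ SS D M := by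
    rcases hx with hx | hx
    · exact SS_of_mem D hL.symm M (hR.symm D) (hs1 x hx) (hs0 x hx0) (SS_map D M hxS hsM hsP)
    · exact SS_of_mem D hL.symm M (hR.symm D) hx hx0 hxS
  have hall : ∀ v : Fin n → K, h v v = 0 → v ∈ SS D M := by
    intro v hv
    obtain ⟨a, ha, b, hb, rfl⟩ := hL.dec v
    by_cases hbA' : b ∈ A
    · exact hAS _ (A.add_mem ha hbA')
    · rw [add_comm]
      rw [add_comm] at hv
      refine SS_add D M A hAS hL.isoA ?_ (hBS b hb) hbA' a ha hv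
      intro y hy
      by_contra hcon
      push Not at hcon
      exact hy (hL.perp_mem D hcon)
  intro g hgP hgdet
  have hmem := SU_le_TT D hK (by omega) (by omega) hgP hgdet
  have key : ∀ A' ∈ TT D (⊤ : Submodule K (Fin n → K)), InM M A' := by
    intro A' hA'
    induction hA' using Submonoid.closure_induction with
    | mem A' hA' =>
      obtain ⟨x, c, -, hxx, hc, rfl⟩ := hA'
      exact (hall x hxx).2 c hc
    | one => exact InM.one M
    | mul A1 A2 _ _ h1 h2 => exact h1.mul h2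
  obtain ⟨g', hg', hgg'⟩ := key _ hmem
  have : g' = g := Units.ext hgg'
  rw [← this]
  exact hg'

end Cfsg.Agent.Helper28.UPair
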