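import Mathlib
import Cfsg.Prelude.Def_GeometricClasses
import Cfsg.Agent.Helper28.UPair4
import Cfsg.Agent.Helper28.GU

set_option autoImplicit false

/-! The swap element of a pair of complementary totally isotropic subspaces (unitary case). -/

namespace Cfsg.Agent.Helper28.UPair

open Matrix Module Cfsg.Agent.S2644 Cfsg.Agent.Helper2.SUGen

variable {K : Type*} [Field K] {q n : ℕ}

local notation "h" => Cfsg.hermForm n K q
local notation "T" => Cfsg.unitaryTransvection n q
local notation "GLn" => Matrix.GeneralLinearGroup (Fin n) K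

variable {A B : Submodule K (Fin n → K)}

theorem big_of_finrank (W : Submodule K (Fin n → K)) (hW : 3 ≤ finrank K W) : Big q W := by
  intro y1 y2
  let f : W →ₗ[K] (K × K) :=
    { toFun := fun z => (h (z : Fin n → K) y1, h (z : Fin n → K) y2)
      map_add' := by
        intro a b
        simp only [Submodule.coe_add, h_add_left, Prod.mk_add_mk]
      map_smul' := by
        intro c a
        simp only [Submodule.coe_smul, h_smul_left, RingHom.id_apply, Prod.smul_mk, smul_eq_mul] }
  have hker : LinearMap.ker f ≠ ⊥ := by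
    apply LinearMap.ker_ne_bot_of_finrank_lt
    rw [Module.finrank_prod, Module.finrank_self]
    omega
  obtain ⟨z, hz, hz0⟩ := (Submodule.ne_bot_iff _).mp hker
  have hz' : f z = 0 := LinearMap.mem_ker.mp hz
  refine ⟨z.1, z.2, fun h0 => hz0 (Subtype.ext h0), ?_, ?_⟩
  · exact congrArg Prod.fst hz'
  · exact congrArg Prod.snd hz'

variable (D : Frob K q)

include D

/-- Hilbert 90 for the quadratic extension -/
theorem hilbert90 (ε : K) (hε : ε * D.σ ε = 1) : ∃ l : K, l ≠ 0 ∧ l = ε * D.σ l := by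
  by_cases h1 : 1 + ε = 0
  · obtain ⟨s, hs0, hs⟩ := exists_skew D
    refine ⟨s, hs0, ?_⟩
    have : ε = -1 := by linear_combination h1
    rw [this, hs]; ring
  · refine ⟨1 + ε, h1, ?_⟩
    rw [map_add, map_one, mul_add, hε]; ring

theorem Dg_pres {u v : Fin n → K} (H : HypPair q u v) (l δ : K) (hl : l * D.σ δ = 1) :
    Pres (q := q) (Dg q u v l δ) := by
  intro z z'
  have hl' : δ * D.σ l = 1 := by
    have := congrArg D.σ hl
    rw [map_mul, D.invol, map_one] at this
    rw [mul_comm]; exact this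
  have e1 : h u z' = D.σ (h z' u) := (h_conj D u z').symm
  have e2 : h v z' = D.σ (h z' v) := (h_conj D v z').symm
  rw [Dg_mulVec, Dg_mulVec]
  simp only [h_add_left, h_smul_left, h_add_right D, h_smul_right D, H.huu, H.hvv, H.huv, H.hvu,
    map_mul, map_sub, map_one, e1, e2]
  linear_combination (h z v * D.σ (h z' u)) * hl + (h z u * D.σ (h z' v)) * hl'

omit D in
/-- the form as a linear map in the first variable -/
def hlin (y : Fin n → K) : (Fin n → K) →ₗ[K] K where
  toFun z := h z y
  map_add' a b := h_add_left a b y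
  map_smul' c a := by simp only [h_smul_left, RingHom.id_apply, smul_eq_mul]

omit D in
theorem hlin_apply (y z : Fin n → K) : hlin (q := q) y z = h z y := rfl

omit D in
theorem h_sum_left {ι : Type*} (s : Finset ι) (c : ι → Fin n → K) (y : Fin n → K) :
    h (∑ i ∈ s, c i) y = ∑ i ∈ s, h (c i) y := by
  rw [← hlin_apply, map_sum]
  rfl

theorem exists_swap {k : ℕ} (hk : 0 < k) (hL : LP q A B) (hA : finrank K A = k)
    (hB : finrank K B = k) :
    ∃ s : GLn, Pres (q := q) (s : Matrix (Fin n) (Fin n) K) ∧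
      (s : Matrix (Fin n) (Fin n) K).det = 1 ∧
      (∀ a ∈ A, (s : Matrix (Fin n) (Fin n) K) *ᵥ a ∈ B) ∧
      (∀ b ∈ B, (s : Matrix (Fin n) (Fin n) K) *ᵥ b ∈ A) := by
  classical
  have : Module.Finite K A := Module.Finite.of_injective A.subtype Subtype.val_injective
  set bA : Basis (Fin k) K A := Module.finBasisOfFinrankEq K A hA with hbA
  set e : Fin k → (Fin n → K) := fun i => (bA i : Fin n → K) with he
  have heA : ∀ i, e i ∈ A := fun i => (bA i).2
  have hsumA : ∀ a : A, (a : Fin n → K) = ∑ i, bA.repr a i • e i := by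
    intro a
    conv_lhs => rw [← bA.sum_repr a]
    rw [Submodule.coe_sum]
    rfl
  let Ψ : B →ₗ[K] (Fin k → K) :=
    { toFun := fun b i => h (b : Fin n → K) (e i)
      map_add' := by
        intro a b
        funext i
        simp only [Submodule.coe_add, h_add_left, Pi.add_apply]
      map_smul' := by
        intro c a
        funext i
        simp only [Submodule.coe_smul, h_smul_left, RingHom.id_apply, Pi.smul_apply, smul_eq_mul] }
  have hΨa : ∀ (b : B) i, Ψ b i = h (b : Fin n → K) (e i) := fun b i => rfl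
  have hinj : Function.Injective Ψ := by
    rw [← LinearMap.ker_eq_bot, LinearMap.ker_eq_bot']
    intro b hb
    apply Subtype.ext
    apply hL.disj D _ b.2
    apply hL.perp_mem D
    intro a ha
    apply h_symm_zero D
    rw [show (a : Fin n → K) = ∑ i, bA.repr ⟨a, ha⟩ i • e i from hsumA ⟨a, ha⟩, h_sum_left]
    apply Finset.sum_eq_zero
    intro i _
    rw [h_smul_left, h_symm_zero D (show h (b : Fin n → K) (e i) = 0 by rw [← hΨa, hb]; rfl),
      mul_zero]
  set Ψe : B ≃ₗ[K] (Fin k → K) := LinearMap.linearEquivOfInjective Ψ hinj (by rw [hB]; simp)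
    with hΨe
  set f : Fin k → (Fin n → K) := fun j => ((Ψe.symm (Pi.single j 1) : B) : Fin n → K) with hf
  have hfB : ∀ j, f j ∈ B := fun j => (Ψe.symm (Pi.single j 1)).2
  have hfe : ∀ i j, h (f j) (e i) = if i = j then 1 else 0 := by
    intro i j
    have h1 : Ψe (Ψe.symm (Pi.single j 1)) i = (Pi.single j (1 : K) : Fin k → K) i := by
      rw [LinearEquiv.apply_symm_apply]
    rw [Pi.single_apply] at h1
    rw [← h1]
    rfl
  have hef : ∀ i j, h (e i) (f j) = if i = j then 1 else 0 := by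
    intro i j
    rw [← h_conj D, hfe]
    split_ifs <;> simp
  have hee : ∀ i j, h (e i) (e j) = 0 := fun i j => hL.isoA _ (heA i) _ (heA j)
  have hff : ∀ i j, h (f i) (f j) = 0 := fun i j => hL.isoB _ (hfB i) _ (hfB j)
  have hsumB : ∀ b : B, (b : Fin n → K) = ∑ j, Ψe b j • f j := by
    intro b
    have h1 : Ψe b = ∑ j, Ψe b j • (Pi.single j (1 : K) : Fin k → K) := by
      funext i
      simp [Finset.sum_apply, Pi.single_apply]
    have h2 : b = ∑ j, Ψe b j • Ψe.symm (Pi.single j (1 : K)) := by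
      apply Ψe.injective
      rw [map_sum]
      simp only [map_smul, LinearEquiv.apply_symm_apply]
      exact h1
    conv_lhs => rw [h2]
    rw [Submodule.coe_sum]
    rfl
  -- completeness
  have hcomp : ∀ z : Fin n → K, z = ∑ i, h z (f i) • e i + ∑ i, h z (e i) • f i := by
    intro z
    obtain ⟨a, ha, b, hb, rfl⟩ := hL.dec z
    have h1 : ∀ i, h (a + b) (f i) = bA.repr ⟨a, ha⟩ i := by
      intro i
      rw [h_add_left, hL.isoB b hb _ (hfB i), add_zero]
      have haeq := hsumA ⟨a, ha⟩
      conv_lhs => rw [show (a : Fin n → K) = ∑ j, bA.repr ⟨a, ha⟩ j • e j from haeq]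
      rw [h_sum_left]
      simp only [h_smul_left, hef, mul_ite, mul_one, mul_zero]
      rw [Finset.sum_ite_eq' Finset.univ i]
      simp
    have h2 : ∀ i, h (a + b) (e i) = Ψe ⟨b, hb⟩ i := by
      intro i
      rw [h_add_left, hL.isoA a ha _ (heA i), zero_add]
      rfl
    simp only [h1, h2]
    rw [← hsumA ⟨a, ha⟩, ← hsumB ⟨b, hb⟩]
  -- the swap map
  let L : (Fin n → K) →ₗ[K] (Fin n → K) :=
    ∑ i, ((hlin (q := q) (f i)).smulRight (f i) + (hlin (q := q) (e i)).smulRight (e i))
  have hLz : ∀ z, L z = ∑ i, (h z (f i) • f i + h z (e i) • e i) := by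
    intro z
    simp only [L, LinearMap.sum_apply, LinearMap.add_apply, LinearMap.smulRight_apply, hlin_apply]
  set s0 : Matrix (Fin n) (Fin n) K := LinearMap.toMatrix' L with hs0
  have hs0z : ∀ z, s0 *ᵥ z = ∑ i, (h z (f i) • f i + h z (e i) • e i) := by
    intro z
    rw [hs0, LinearMap.toMatrix'_mulVec, hLz]
  have hα : ∀ z j, h (s0 *ᵥ z) (f j) = h z (e j) := by
    intro z j
    rw [hs0z, h_sum_left]
    simp only [h_add_left, h_smul_left, hff, hef, mul_zero, zero_add, mul_ite, mul_one]
    rw [Finset.sum_ite_eq' Finset.univ j]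
    simp
  have hβ : ∀ z j, h (s0 *ᵥ z) (e j) = h z (f j) := by
    intro z j
    rw [hs0z, h_sum_left]
    simp only [h_add_left, h_smul_left, hee, hfe, mul_zero, add_zero, mul_ite, mul_one]
    rw [Finset.sum_ite_eq Finset.univ j]
    simp
  have hpars : ∀ z z' : Fin n → K, h z z' =
      ∑ i, (h z (f i) * D.σ (h z' (e i)) + h z (e i) * D.σ (h z' (f i))) := by
    intro z z'
    conv_lhs => rw [hcomp z]
    rw [h_add_left, h_sum_left, h_sum_left, ← Finset.sum_add_distrib]
    apply Finset.sum_congr rfl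
    intro i _
    rw [h_smul_left, h_smul_left, h_conj D, h_conj D]
  have hs0P : Pres (q := q) s0 := by
    intro z z'
    rw [hpars (s0 *ᵥ z) (s0 *ᵥ z'), hpars z z']
    apply Finset.sum_congr rfl
    intro i _
    rw [hα, hα, hβ, hβ]
    ring
  -- determinant
  have hd : s0.det * D.σ s0.det = 1 := by
    have h1 := (Cfsg.Agent.Helper28.GUlib.preserves_iff D.σ D.pow s0).mp hs0P
    have h2 := Cfsg.Agent.Helper28.GUlib.det_pow_of_unitary D.σ D.pow s0 h1
    rw [D.pow, ← pow_succ']
    exact h2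
  have hd0 : s0.det ≠ 0 := by
    intro h0
    rw [h0, zero_mul] at hd
    exact zero_ne_one hd
  obtain ⟨l, hl0, hl⟩ := hilbert90 D (s0.det)⁻¹ (by
    rw [map_inv₀, ← mul_inv, hd, inv_one])
  have hσl0 : D.σ l ≠ 0 := σ_ne_zero D hl0
  set i0 : Fin k := ⟨0, hk⟩
  have H : HypPair q (e i0) (f i0) :=
    ⟨hee i0 i0, hff i0 i0, by rw [hef]; simp, by rw [hfe]; simp⟩
  set t : Matrix (Fin n) (Fin n) K := Dg q (e i0) (f i0) l (D.σ l)⁻¹ with ht
  have htP : Pres (q := q) t := Dg_pres D H l _ (by
    rw [map_inv₀, D.invol, mul_inv_cancel₀ hl0])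
  have htdet : t.det = (s0.det)⁻¹ := by
    rw [ht, det_Dg H]
    have h3 : l * (D.σ l)⁻¹ = (s0.det)⁻¹ * D.σ l * (D.σ l)⁻¹ := by rw [← hl]
    rw [h3, mul_assoc, mul_inv_cancel₀ hσl0, mul_one]
  have hdet : (t * s0).det = 1 := by
    rw [det_mul, htdet, inv_mul_cancel₀ hd0]
  refine ⟨Matrix.GeneralLinearGroup.mkOfDetNeZero (t * s0) (by rw [hdet]; exact one_ne_zero),
    htP.mul hs0P, hdet, ?_, ?_⟩
  · intro a ha
    show (t * s0) *ᵥ a ∈ B
    rw [← mulVec_mulVec]
    have h1 : s0 *ᵥ a ∈ B := by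
      rw [hs0z]
      apply Submodule.sum_mem
      intro i _
      rw [hL.isoA a ha _ (heA i), zero_smul, add_zero]
      exact B.smul_mem _ (hfB i)
    rw [ht, Dg_mulVec, hL.isoB _ h1 _ (hfB i0), mul_zero, zero_smul, add_zero]
    exact B.add_mem h1 (B.smul_mem _ (hfB i0))
  · intro b hb
    show (t * s0) *ᵥ b ∈ A
    rw [← mulVec_mulVec]
    have h1 : s0 *ᵥ b ∈ A := by
      rw [hs0z]
      apply Submodule.sum_mem
      intro i _
      rw [hL.isoB b hb _ (hfB i), zero_smul, zero_add]
      exact A.smul_mem _ (heA i)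
    rw [ht, Dg_mulVec, hL.isoA _ h1 _ (heA i0), mul_zero, zero_smul, add_zero]
    exact A.add_mem h1 (A.smul_mem _ (heA i0))

end Cfsg.Agent.Helper28.UPair
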