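import Mathlib
import Cfsg.Prelude.Def_GeometricClasses
import Cfsg.Agent.Helper28.UPair5
import Cfsg.Agent.Helper28.UnitMax
import Cfsg.Agent.S0749

set_option autoImplicit false

/-! Maximality of the stabiliser of a pair of complementary totally singular subspaces in
`SU_n(q)`, `n = 2k`, `k ≥ 3`. -/

namespace Cfsg.Agent.Helper28.UPair

open Matrix Module Cfsg.Agent.S2644 Cfsg.Agent.Helper2.SUGen

variable {K : Type*} [Field K] {q n : ℕ}

local notation "h" => Cfsg.hermForm n K q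
local notation "GLn" => Matrix.GeneralLinearGroup (Fin n) K

theorem mem_decompStab_of' {t k : ℕ} (D' : Fin t → Submodule K (Fin n → K))
    (hk : ∀ i, finrank K (D' i) = k) (g : GLn) (σ : Equiv.Perm (Fin t))
    (hg : ∀ i, ∀ x ∈ D' i, (g : Matrix (Fin n) (Fin n) K) *ᵥ x ∈ D' (σ i)) :
    g ∈ Cfsg.Geo.decompositionStabilizer D' := by
  refine ⟨σ, fun i => ?_⟩
  apply Submodule.eq_of_le_of_finrank_eq
  · rintro _ ⟨x, hx, rfl⟩
    rw [Matrix.toLin'_apply]
    exact hg i x hx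
  · rw [hk (σ i), Cfsg.Agent.S0749.finrank_map_of_injOn _ _ ?_, hk i]
    intro x _ hx
    rw [Matrix.toLin'_apply] at hx
    have := congrArg (fun z => ((g⁻¹ : GLn) : Matrix (Fin n) (Fin n) K) *ᵥ z) hx
    simp only [gl_inv_mulVec, mulVec_zero] at this
    exact this

theorem forall_of_mem_decompStab' {t : ℕ} (D' : Fin t → Submodule K (Fin n → K)) (g : GLn)
    (hg : g ∈ Cfsg.Geo.decompositionStabilizer D') :
    ∃ σ : Equiv.Perm (Fin t), ∀ i, ∀ x ∈ D' i,
      (g : Matrix (Fin n) (Fin n) K) *ᵥ x ∈ D' (σ i) := by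
  obtain ⟨σ, hσ⟩ := hg
  refine ⟨σ, fun i x hx => ?_⟩
  rw [← hσ i]
  exact ⟨x, hx, Matrix.toLin'_apply _ _⟩

theorem pair_maximal [Fintype K] (D : Frob K q) (hK : Fintype.card K = q ^ 2) (k : ℕ) (hk3 : 3 ≤ k)
    (hkn : 2 * k = n)
    (D' : Fin 2 → Submodule K (Fin n → K)) (hD : Cfsg.Geo.IsMDecomposition k D')
    (hts : ∀ i, Cfsg.Geo.IsTotallySingularFor (Cfsg.hermForm n K q) (D' i)) :
    Cfsg.Geo.IsMaximalIn (Cfsg.GU n K q ⊓ Cfsg.Geo.specialLinear (Fin n) K)
      (Cfsg.Geo.decompositionStabilizer D' ⊓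
        (Cfsg.GU n K q ⊓ Cfsg.Geo.specialLinear (Fin n) K)) := by
  classical
  have hL : LP q (D' 0) (D' 1) := by
    refine ⟨hts 0, hts 1, fun x => ?_⟩
    have hx : x ∈ iSup D' := by rw [hD.iSup_eq_top]; trivial
    have hle : iSup D' ≤ D' 0 ⊔ D' 1 := by
      apply iSup_le
      intro i
      fin_cases i
      · exact le_sup_left
      · exact le_sup_right
    obtain ⟨a, ha, b, hb, rfl⟩ := Submodule.mem_sup.mp (hle hx)
    exact ⟨a, ha, b, hb, rfl⟩
  have hbA : Big q (D' 0) := big_of_finrank (D' 0) (by rw [hD.finrank_eq 0]; exact hk3)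
  have hbB : Big q (D' 1) := big_of_finrank (D' 1) (by rw [hD.finrank_eq 1]; exact hk3)
  obtain ⟨s, hsP, hsdet, hs1, hs2⟩ := exists_swap D (by omega : 0 < k) hL (hD.finrank_eq 0)
    (hD.finrank_eq 1)
  have hmem1 : ∀ g : GLn,
      (∀ a ∈ D' 0, (g : Matrix (Fin n) (Fin n) K) *ᵥ a ∈ D' 0) →
      (∀ b ∈ D' 1, (g : Matrix (Fin n) (Fin n) K) *ᵥ b ∈ D' 1) →
      g ∈ Cfsg.Geo.decompositionStabilizer D' := by
    intro g h0 h1
    refine mem_decompStab_of' D' hD.finrank_eq g 1 ?_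
    intro i x hx
    fin_cases i
    · exact h0 x hx
    · exact h1 x hx
  have hmem2 : ∀ g : GLn,
      (∀ a ∈ D' 0, (g : Matrix (Fin n) (Fin n) K) *ᵥ a ∈ D' 1) →
      (∀ b ∈ D' 1, (g : Matrix (Fin n) (Fin n) K) *ᵥ b ∈ D' 0) →
      g ∈ Cfsg.Geo.decompositionStabilizer D' := by
    intro g h0 h1
    refine mem_decompStab_of' D' hD.finrank_eq g (Equiv.swap 0 1) ?_
    intro i x hx
    fin_cases i
    · exact h0 x hx
    · exact h1 x hx
  refine ⟨lt_of_le_of_ne inf_le_right ?_, ?_⟩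
  · intro heq
    obtain ⟨a', ha', ha0', -, -⟩ := hbA 0 0
    obtain ⟨b, hb, hab, hba⟩ := hL.exists_pair D ha' ha0'
    obtain ⟨c, hc0, hc⟩ := exists_skew D
    have haa : h a' a' = 0 := hL.isoA a' ha' a' ha'
    have hcc : c + D.σ c + h (0 : Fin n → K) 0 = 0 := by rw [h_zero_left, hc]; ring
    set g : GLn := Cfsg.Agent.Helper28.UM.SgG D a' 0 c haa (h_zero_left a') hcc with hg
    have hgG : g ∈ Cfsg.GU n K q ⊓ Cfsg.Geo.specialLinear (Fin n) K :=
      (Cfsg.Agent.Helper28.UM.mem_G_iff g).mpr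
        ⟨Sg_pres D a' 0 c haa (h_zero_left a') hcc, Sg_det D a' 0 c haa (h_zero_left a')⟩
    have h1 : g ∈ Cfsg.Geo.decompositionStabilizer D' ⊓
        (Cfsg.GU n K q ⊓ Cfsg.Geo.specialLinear (Fin n) K) := by
      rw [heq]; exact hgG
    obtain ⟨σ, hσ⟩ := forall_of_mem_decompStab' D' _ h1.1
    have h3 := hσ 1 b hb
    have h4 : (g : Matrix (Fin n) (Fin n) K) *ᵥ b = b + c • a' := by
      rw [hg, Cfsg.Agent.Helper28.UM.SgG_val, Sg_mulVec, hba, h_zero_right D]
      simp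
    have h3' : b + c • a' ∈ D' (σ 1) := by rw [← h4]; exact h3
    have hcases : σ 1 = 0 ∨ σ 1 = 1 := by
      generalize σ 1 = j
      fin_cases j
      · left; rfl
      · right; rfl
    rcases hcases with hh | hh
    · rw [hh] at h3'
      have hbA' : b ∈ D' 0 := by
        have := (D' 0).sub_mem h3' ((D' 0).smul_mem c ha')
        rwa [add_sub_cancel_right] at this
      have hb0 := hL.disj D hbA' hb
      rw [hb0, h_zero_right D] at hab
      exact zero_ne_one hab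
    · rw [hh] at h3'
      have haB' : c • a' ∈ D' 1 := by
        have := (D' 1).sub_mem h3' hb
        rwa [add_sub_cancel_left] at this
      have haB'' : a' ∈ D' 1 := by
        have := (D' 1).smul_mem c⁻¹ haB'
        rwa [smul_smul, inv_mul_cancel₀ hc0, one_smul] at this
      exact ha0' (hL.disj D ha' haB'')
  · intro M hHM hMS
    by_cases hMH : M ≤ Cfsg.Geo.decompositionStabilizer D' ⊓
        (Cfsg.GU n K q ⊓ Cfsg.Geo.specialLinear (Fin n) K)
    · left; exact le_antisymm hMH hHM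
    right
    refine le_antisymm hMS ?_
    obtain ⟨g, hgM, hgH⟩ := SetLike.not_le_iff_exists.mp hMH
    have hMP : ∀ a ∈ M, Pres (q := q) (a : Matrix (Fin n) (Fin n) K) :=
      fun a ha => ((Cfsg.Agent.Helper28.UM.mem_G_iff a).mp (hMS ha)).1
    intro g' hg'
    obtain ⟨hg'P, hg'det⟩ := (Cfsg.Agent.Helper28.UM.mem_G_iff g').mp hg'
    refine u_pair_max D hK (by omega) hL M hMP ?_ hbA hbB s ?_ hs1 hs2 g hgM ?_ g' hg'P hg'det
    · intro a ha b hb hba
      have haa : h a a = 0 := hL.isoA a ha a ha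
      have hcc : (0 : K) + D.σ 0 + h b b = 0 := by rw [map_zero, hL.isoB b hb b hb]; ring
      refine ⟨Cfsg.Agent.Helper28.UM.SgG D a b 0 haa hba hcc, ?_, rfl⟩
      apply hHM
      refine ⟨hmem1 _ ?_ ?_, (Cfsg.Agent.Helper28.UM.mem_G_iff _).mpr
        ⟨Sg_pres D a b 0 haa hba hcc, Sg_det D a b 0 haa hba⟩⟩
      · intro x hx
        rw [Cfsg.Agent.Helper28.UM.SgG_val, Sg_mulVec, hL.isoA x hx a ha]
        simp only [zero_smul, mul_zero, add_zero]
        exact (D' 0).sub_mem hx ((D' 0).smul_mem _ ha)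
      · intro x hx
        rw [Cfsg.Agent.Helper28.UM.SgG_val, Sg_mulVec, hL.isoB x hx b hb]
        simp only [zero_smul, zero_mul, add_zero, sub_zero]
        exact (D' 1).add_mem hx ((D' 1).smul_mem _ hb)
    · exact hHM ⟨hmem2 s hs1 hs2, (Cfsg.Agent.Helper28.UM.mem_G_iff s).mpr ⟨hsP, hsdet⟩⟩
    · intro hh
      apply hgH
      refine ⟨?_, hMS hgM⟩
      rcases hh with ⟨h1, h2'⟩ | ⟨h1, h2'⟩
      · refine hmem1 g ?_ ?_
        · intro a ha
          rw [h1]; exact mulVec_mem_mp g _ ha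
        · intro b hb
          rw [h2']; exact mulVec_mem_mp g _ hb
      · refine hmem2 g ?_ ?_
        · intro a ha
          rw [h2']; exact mulVec_mem_mp g _ ha
        · intro b hb
          rw [h1]; exact mulVec_mem_mp g _ hb

end Cfsg.Agent.Helper28.UPair
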