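import Mathlib
import Cfsg.Prelude.Def_Classical
import Cfsg.Agent.Helper28.Siegel1

set_option autoImplicit false
set_option linter.unusedSectionVars false

/-! Shared definitions for `B₂(F) ≅ PΩ₅(F)` (S1083): the quadratic form `x₀² + x₁y₁ + x₂y₂` as a
`QuadraticForm`, coordinate vectors, the coordinate Siegel transformations (long and short root
elements) and the explicit `5 × 5` root matrices with signs matched to the frozen `chevB2`
tables. -/

namespace Cfsg.Agent.Helper28.B2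

open Matrix Cfsg.Agent.Helper28.Sg

/-- the index type of `quadFormOdd 2` -/
abbrev J5 : Type := Unit ⊕ (Fin 2 ⊕ Fin 2)

/-- the hyperbolic indices -/
abbrev H4 : Type := Fin 2 ⊕ Fin 2

variable {F : Type*} [Field F]

/-- the polar form of `quadFormOdd 2` -/
def pB5 (F : Type*) [Field F] : LinearMap.BilinForm F (J5 → F) :=
  LinearMap.mk₂ F (fun u v => 2 * u (Sum.inl ()) * v (Sum.inl ()) +
      ∑ i : Fin 2, (u (Sum.inr (Sum.inl i)) * v (Sum.inr (Sum.inr i)) +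
        u (Sum.inr (Sum.inr i)) * v (Sum.inr (Sum.inl i))))
    (by intro u u' v; simp only [Pi.add_apply, Fin.sum_univ_two]; ring)
    (by intro c u v; simp only [Pi.smul_apply, smul_eq_mul, Fin.sum_univ_two]; ring)
    (by intro u v v'; simp only [Pi.add_apply, Fin.sum_univ_two]; ring)
    (by intro c u v; simp only [Pi.smul_apply, smul_eq_mul, Fin.sum_univ_two]; ring)

theorem pB5_apply (u v : J5 → F) :
    pB5 F u v = 2 * u (Sum.inl ()) * v (Sum.inl ()) +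
      ∑ i : Fin 2, (u (Sum.inr (Sum.inl i)) * v (Sum.inr (Sum.inr i)) +
        u (Sum.inr (Sum.inr i)) * v (Sum.inr (Sum.inl i))) := rfl

/-- `quadFormOdd 2` as a quadratic form -/
def Q5 (F : Type*) [Field F] : QuadraticForm F (J5 → F) where
  toFun := Cfsg.quadFormOdd 2 F
  toFun_smul a x := by
    simp only [Cfsg.quadFormOdd, Pi.smul_apply, smul_eq_mul, Fin.sum_univ_two]
    ring
  exists_companion' := ⟨pB5 F, fun x y => by
    simp only [Cfsg.quadFormOdd, pB5_apply, Pi.add_apply, Fin.sum_univ_two]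
    ring⟩

theorem Q5_coe : ⇑(Q5 F) = Cfsg.quadFormOdd 2 F := rfl

theorem Q5_apply (x : J5 → F) :
    Q5 F x = x (Sum.inl ()) ^ 2 + (x (Sum.inr (Sum.inl 0)) * x (Sum.inr (Sum.inr 0)) +
      x (Sum.inr (Sum.inl 1)) * x (Sum.inr (Sum.inr 1))) := by
  show Cfsg.quadFormOdd 2 F x = _
  simp only [Cfsg.quadFormOdd, Fin.sum_univ_two]

theorem B_apply (x y : J5 → F) :
    B (Q5 F) x y = 2 * x (Sum.inl ()) * y (Sum.inl ()) +
      (x (Sum.inr (Sum.inl 0)) * y (Sum.inr (Sum.inr 0)) +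
        x (Sum.inr (Sum.inr 0)) * y (Sum.inr (Sum.inl 0)) +
      (x (Sum.inr (Sum.inl 1)) * y (Sum.inr (Sum.inr 1)) +
        x (Sum.inr (Sum.inr 1)) * y (Sum.inr (Sum.inl 1)))) := by
  show QuadraticMap.polar ⇑(Q5 F) x y = _
  unfold QuadraticMap.polar
  rw [Q5_apply, Q5_apply, Q5_apply]
  simp only [Pi.add_apply]
  ring

/-- the coordinate vector of a hyperbolic index -/
def d (p : H4) : J5 → F := Pi.single (Sum.inr p) 1

/-- the anisotropic coordinate vector -/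
def z : J5 → F := Pi.single (Sum.inl ()) 1

theorem d_apply (p : H4) (j : J5) : (d p : J5 → F) j = if j = Sum.inr p then 1 else 0 := by
  unfold d
  rw [Pi.single_apply]

theorem z_apply (j : J5) : (z : J5 → F) j = if j = Sum.inl () then 1 else 0 := by
  unfold z
  rw [Pi.single_apply]

theorem Q5_d (p : H4) : Q5 F (d p) = 0 := by
  rw [Q5_apply]
  simp only [d_apply]
  rcases p with p | p <;> fin_cases p <;> simp

theorem Q5_z : Q5 F (z : J5 → F) = 1 := by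
  rw [Q5_apply]
  simp [z_apply]

theorem B_d (p : H4) (x : J5 → F) : B (Q5 F) (d p) x = x (Sum.inr p.swap) := by
  rw [B_apply]
  simp only [d_apply]
  rcases p with p | p <;> fin_cases p <;> simp

theorem B_z (x : J5 → F) : B (Q5 F) z x = 2 * x (Sum.inl ()) := by
  rw [B_apply]
  simp [z_apply]

theorem Q5_smul_d (c : F) (p : H4) : Q5 F (c • d p) = 0 := by
  rw [Q_smul, Q5_d, mul_zero]

theorem Q5_smul_z (c : F) : Q5 F (c • (z : J5 → F)) = c * c := by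
  rw [Q_smul, Q5_z, mul_one]

/-- the long root element `x ↦ x + c x_{p'} δ_q - c x_{q'} δ_p` (`q ≠ p'`) -/
noncomputable def sL (p q : H4) (c : F) (h : q ≠ p.swap) : ↥(Cfsg.isometryGroup F ⇑(Q5 F)) :=
  siegO (Q5 F) (d p) (c • d q) (Q5_d p) (by
    simp only [B, QuadraticMap.polar_smul_right, smul_eq_mul]
    rw [show QuadraticMap.polar ⇑(Q5 F) (d p) (d q) = (d q : J5 → F) (Sum.inr p.swap) from B_d p _,
      d_apply, if_neg (fun h' => h (Sum.inr.inj h').symm), mul_zero])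

/-- the short root element `x ↦ x + c x_{p'} e₀ - 2 c x₀ δ_p - c² x_{p'} δ_p` -/
noncomputable def sS (p : H4) (c : F) : ↥(Cfsg.isometryGroup F ⇑(Q5 F)) :=
  siegO (Q5 F) (d p) (c • z) (Q5_d p) (by
    simp only [B, QuadraticMap.polar_smul_right, smul_eq_mul]
    rw [show QuadraticMap.polar ⇑(Q5 F) (d p) z = (z : J5 → F) (Sum.inr p.swap) from B_d p _,
      z_apply, if_neg (by simp), mul_zero])

theorem sL_mulVec (p q : H4) (c : F) (h : q ≠ p.swap) (x : J5 → F) :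
    mt (Q5 F) (sL p q c h) *ᵥ x =
      x + (c * x (Sum.inr p.swap)) • d q - (c * x (Sum.inr q.swap)) • d p := by
  unfold sL
  rw [siegO_mulVec, Q5_smul_d, zero_mul, zero_smul, sub_zero, B_d]
  simp only [B, QuadraticMap.polar_smul_left, smul_eq_mul]
  rw [show QuadraticMap.polar ⇑(Q5 F) (d q) x = x (Sum.inr q.swap) from B_d q x, smul_smul,
    mul_comm (x (Sum.inr p.swap)) c]

theorem sS_mulVec (p : H4) (c : F) (x : J5 → F) :
    mt (Q5 F) (sS p c) *ᵥ x =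
      x + (c * x (Sum.inr p.swap)) • z - (2 * c * x (Sum.inl ())) • d p
        - (c * c * x (Sum.inr p.swap)) • d p := by
  unfold sS
  rw [siegO_mulVec, Q5_smul_z, B_d]
  simp only [B, QuadraticMap.polar_smul_left, smul_eq_mul]
  rw [show QuadraticMap.polar ⇑(Q5 F) z x = 2 * x (Sum.inl ()) from B_z x, smul_smul,
    mul_comm (x (Sum.inr p.swap)) c]
  congr 2
  rw [mul_left_comm, mul_assoc]

/-- the root element `x_r(t)` of `chevB2` as an isometry of `quadFormOdd 2 F`; root indices as in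
`Def_ChevB2`: `0 = -ε₁-ε₂, 1 = -ε₁, 2 = -ε₂, 3 = -ε₁+ε₂, 4 = ε₁-ε₂, 5 = ε₂, 6 = ε₁, 7 = ε₁+ε₂` -/
noncomputable def Xo (r : ℕ) (t : F) : ↥(Cfsg.isometryGroup F ⇑(Q5 F)) :=
  match r with
  | 0 => sL (Sum.inr 0) (Sum.inr 1) (-t) (by decide)
  | 1 => sS (Sum.inr 0) (-t)
  | 2 => sS (Sum.inr 1) t
  | 3 => sL (Sum.inr 0) (Sum.inl 1) (-t) (by decide)
  | 4 => sL (Sum.inl 0) (Sum.inr 1) t (by decide)
  | 5 => sS (Sum.inl 1) (-t)
  | 6 => sS (Sum.inl 0) t
  | 7 => sL (Sum.inl 0) (Sum.inl 1) t (by decide)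
  | _ => 1

/-- the explicit root matrices, coordinates ordered `e₀, e₁, e₂, f₁, f₂` -/
def Y (r : ℕ) (t : F) : Matrix (Fin 5) (Fin 5) F :=
  match r with
  | 0 => !![1, 0, 0, 0, 0; 0, 1, 0, 0, 0; 0, 0, 1, 0, 0; 0, 0, t, 1, 0; 0, -t, 0, 0, 1]
  | 1 => !![1, -t, 0, 0, 0; 0, 1, 0, 0, 0; 0, 0, 1, 0, 0; 2 * t, -t ^ 2, 0, 1, 0; 0, 0, 0, 0, 1]
  | 2 => !![1, 0, t, 0, 0; 0, 1, 0, 0, 0; 0, 0, 1, 0, 0; 0, 0, 0, 1, 0; -2 * t, 0, -t ^ 2, 0, 1]
  | 3 => !![1, 0, 0, 0, 0; 0, 1, 0, 0, 0; 0, -t, 1, 0, 0; 0, 0, 0, 1, t; 0, 0, 0, 0, 1]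
  | 4 => !![1, 0, 0, 0, 0; 0, 1, -t, 0, 0; 0, 0, 1, 0, 0; 0, 0, 0, 1, 0; 0, 0, 0, t, 1]
  | 5 => !![1, 0, 0, 0, -t; 0, 1, 0, 0, 0; 2 * t, 0, 1, 0, -t ^ 2; 0, 0, 0, 1, 0; 0, 0, 0, 0, 1]
  | 6 => !![1, 0, 0, t, 0; -2 * t, 1, 0, -t ^ 2, 0; 0, 0, 1, 0, 0; 0, 0, 0, 1, 0; 0, 0, 0, 0, 1]
  | 7 => !![1, 0, 0, 0, 0; 0, 1, 0, 0, -t; 0, 0, 1, t, 0; 0, 0, 0, 1, 0; 0, 0, 0, 0, 1]
  | _ => 1

/-- the matrix of a word in root elements -/
def wordY (w : List (ℕ × F)) : Matrix (Fin 5) (Fin 5) F := (w.map fun p => Y p.1 p.2).prod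

/-- the coordinate order `e₀, e₁, e₂, f₁, f₂` -/
def e5 : J5 → Fin 5
  | Sum.inl _ => 0
  | Sum.inr (Sum.inl i) => ⟨1 + i.val, by omega⟩
  | Sum.inr (Sum.inr i) => ⟨3 + i.val, by omega⟩

/-- the subgroup of the isometry group generated by the long and short root elements -/
def RB (F : Type*) [Field F] : Subgroup ↥(Cfsg.isometryGroup F ⇑(Q5 F)) :=
  Subgroup.closure ({g | ∃ (p q : H4) (c : F) (h : q ≠ p.swap), g = sL p q c h} ∪
    {g | ∃ (p : H4) (c : F), g = sS p c})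

theorem sL_mem_RB (p q : H4) (c : F) (h : q ≠ p.swap) : sL p q c h ∈ RB F :=
  Subgroup.subset_closure (Or.inl ⟨p, q, c, h, rfl⟩)

theorem sS_mem_RB (p : H4) (c : F) : sS p c ∈ RB F :=
  Subgroup.subset_closure (Or.inr ⟨p, c, rfl⟩)

end Cfsg.Agent.Helper28.B2
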