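import Mathlib
import Cfsg.Agent.Helper14.GLk.Defs
import Cfsg.Agent.Helper14.SLk.Defs

/-! S2479 piece ACTION: the torus `(Fˣ)^(n+1)` acts on the tuples by scaling the constant terms;
double counting gives `(q-1) ∑_{dett t = 1} idx t ≤ ∑ idx(t)^2`. -/

set_option autoImplicit false

namespace Cfsg.Agent.S2479P

open Polynomial Cfsg.Agent.S2478P

universe u

namespace ACTION

variable {F : Type u} [Field F]

/-- scale the constant term of a non-constant polynomial by `c` -/
noncomputable def sc (c : Fˣ) (h : F[X]) : F[X] :=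
  if 1 ≤ h.natDegree then h + C (((c : F) - 1) * h.coeff 0) else h

theorem sc_natDegree (c : Fˣ) (h : F[X]) : (sc c h).natDegree = h.natDegree := by
  unfold sc
  split_ifs
  · rw [natDegree_add_C]
  · rfl

theorem sc_coeff_zero (c : Fˣ) (h : F[X]) :
    (sc c h).coeff 0 = (if 1 ≤ h.natDegree then (c : F) else 1) * h.coeff 0 := by
  unfold sc
  split_ifs
  · rw [coeff_add, coeff_C_zero]; ring
  · rw [one_mul]

theorem sc_monic (c : Fˣ) {h : F[X]} (hh : h.Monic) : (sc c h).Monic := by
  unfold sc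
  split_ifs with h1
  · apply hh.add_of_left
    refine lt_of_le_of_lt degree_C_le ?_
    rw [← natDegree_pos_iff_degree_pos]
    exact h1
  · exact hh

theorem sc_coeff_zero_ne (c : Fˣ) {h : F[X]} (hh : h.coeff 0 ≠ 0) : (sc c h).coeff 0 ≠ 0 := by
  rw [sc_coeff_zero]
  apply mul_ne_zero _ hh
  split_ifs
  · exact c.ne_zero
  · exact one_ne_zero

theorem sc_of_pos (c : Fˣ) {h : F[X]} (h1 : 1 ≤ h.natDegree) :
    sc c h = h + C (((c : F) - 1) * h.coeff 0) := by
  unfold sc
  rw [if_pos h1]

theorem sc_of_not (c : Fˣ) {h : F[X]} (h1 : ¬ 1 ≤ h.natDegree) : sc c h = h := by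
  unfold sc
  rw [if_neg h1]

theorem sc_inv_sc (c : Fˣ) (h : F[X]) : sc c⁻¹ (sc c h) = h := by
  by_cases h1 : 1 ≤ h.natDegree
  · have h2 : 1 ≤ (sc c h).natDegree := by rw [sc_natDegree]; exact h1
    have h3 := sc_coeff_zero c h
    rw [if_pos h1] at h3
    rw [sc_of_pos c⁻¹ h2, h3, sc_of_pos c h1, add_assoc, ← C_add]
    have : ((c : F) - 1) * h.coeff 0 + (((c⁻¹ : Fˣ) : F) - 1) * ((c : F) * h.coeff 0) = 0 := by
      have hc : ((c⁻¹ : Fˣ) : F) * (c : F) = 1 := by
        rw [← Units.val_mul, inv_mul_cancel, Units.val_one]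
      linear_combination (h.coeff 0) * hc
    rw [this, C_0, add_zero]
  · have h2 : ¬ 1 ≤ (sc c h).natDegree := by rw [sc_natDegree]; exact h1
    rw [sc_of_not c⁻¹ h2, sc_of_not c h1]

theorem sc_one_poly (c : Fˣ) : sc c (1 : F[X]) = 1 := by
  unfold sc
  rw [if_neg]
  rw [natDegree_one]
  norm_num

theorem eps_sc (c : Fˣ) (h : F[X]) :
    eps (sc c h) = (if 1 ≤ h.natDegree then (c : F) else 1) * eps h := by
  unfold eps
  rw [sc_natDegree, sc_coeff_zero]
  ring

variable (n : ℕ)

/-- extension of a torus element to all indices -/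
def ext (γ : Fin (n + 1) → Fˣ) (m : ℕ) : Fˣ := if h : m < n + 1 then γ ⟨m, h⟩ else 1

theorem ext_inv (γ : Fin (n + 1) → Fˣ) (m : ℕ) : ext n γ⁻¹ m = (ext n γ m)⁻¹ := by
  unfold ext
  split_ifs
  · rfl
  · rw [inv_one]

theorem ext_of_lt (γ : Fin (n + 1) → Fˣ) {m : ℕ} (h : m < n + 1) : ext n γ m = γ ⟨m, h⟩ := by
  unfold ext
  rw [dif_pos h]

/-- the action of the torus on tuples -/
noncomputable def act (γ : Fin (n + 1) → Fˣ) (t : ℕ → F[X]) : ℕ → F[X] :=
  fun m => sc (ext n γ m) (t m)

theorem act_apply (γ : Fin (n + 1) → Fˣ) (t : ℕ → F[X]) (m : ℕ) :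
    act n γ t m = sc (ext n γ m) (t m) := rfl

theorem act_mem {γ : Fin (n + 1) → Fˣ} {t : ℕ → F[X]} (ht : t ∈ T F n n) :
    act n γ t ∈ T F n n := by
  obtain ⟨h1, h2, h3⟩ := ht
  refine ⟨fun m => ⟨sc_monic _ (h1 m).1, sc_coeff_zero_ne _ (h1 m).2⟩, fun m hm => ?_, ?_⟩
  · rw [act_apply, h2 m hm, sc_one_poly]
  · refine Eq.trans ?_ h3
    apply Finset.sum_congr rfl
    intro m _
    rw [act_apply, sc_natDegree]

theorem act_inv_act (γ : Fin (n + 1) → Fˣ) (t : ℕ → F[X]) : act n γ⁻¹ (act n γ t) = t := by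
  funext m
  rw [act_apply, act_apply, ext_inv, sc_inv_sc]

theorem act_act_inv (γ : Fin (n + 1) → Fˣ) (t : ℕ → F[X]) : act n γ (act n γ⁻¹ t) = t := by
  have := act_inv_act n γ⁻¹ t
  rw [inv_inv] at this
  exact this

theorem parts_act (γ : Fin (n + 1) → Fˣ) (t : ℕ → F[X]) : parts (act n γ t) = parts t := by
  ext m
  show 1 ≤ (act n γ t m).natDegree ↔ 1 ≤ (t m).natDegree
  rw [act_apply, sc_natDegree]

theorem idx_act (γ : Fin (n + 1) → Fˣ) (t : ℕ → F[X]) : idx (act n γ t) = idx t := by
  unfold idx D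
  rw [parts_act]

/-- the character by which the torus moves `dett` -/
noncomputable def chi (t : ℕ → F[X]) : (Fin (n + 1) → Fˣ) →* Fˣ where
  toFun γ := ∏ m : Fin (n + 1), if 1 ≤ (t m).natDegree then γ m ^ (m : ℕ) else 1
  map_one' := by
    apply Finset.prod_eq_one
    intro m _
    split_ifs
    · rw [Pi.one_apply, one_pow]
    · rfl
  map_mul' γ δ := by
    rw [← Finset.prod_mul_distrib]
    apply Finset.prod_congr rfl
    intro m _
    split_ifs
    · rw [Pi.mul_apply, mul_pow]
    · rw [one_mul]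

theorem chi_apply (t : ℕ → F[X]) (γ : Fin (n + 1) → Fˣ) :
    chi n t γ = ∏ m : Fin (n + 1), if 1 ≤ (t m).natDegree then γ m ^ (m : ℕ) else 1 := rfl

theorem dett_act (γ : Fin (n + 1) → Fˣ) (t : ℕ → F[X]) :
    dett n (act n γ t) = ((chi n t γ : Fˣ) : F) * dett n t := by
  unfold dett
  rw [chi_apply, Units.coe_prod, Finset.prod_range, Finset.prod_range, ← Finset.prod_mul_distrib]
  apply Finset.prod_congr rfl
  intro m _
  rw [act_apply, eps_sc, mul_pow, ext_of_lt n γ m.isLt]
  congr 1
  split_ifs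
  · rw [Units.val_pow_eq_pow_val]
  · rw [one_pow, Units.val_one]

theorem D_le_range {t : ℕ → F[X]} (ht : t ∈ T F n n) : D t ≤ (chi n t).range := by
  classical
  unfold D
  apply iSup₂_le
  intro m hm
  have hmn : m < n + 1 := by
    by_contra hlt
    have h1 := ht.2.1 m (Or.inr (by omega))
    have hm' : 1 ≤ (t m).natDegree := hm
    rw [h1, natDegree_one] at hm'
    omega
  rintro _ ⟨c, rfl⟩
  refine ⟨Pi.mulSingle ⟨m, hmn⟩ c, ?_⟩
  rw [chi_apply, Finset.prod_eq_single (⟨m, hmn⟩ : Fin (n + 1))]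
  · have hm' : 1 ≤ (t m).natDegree := hm
    rw [if_pos hm', Pi.mulSingle_eq_same]
    rfl
  · intro b _ hb
    rw [Pi.mulSingle_eq_of_ne hb, one_pow]
    split_ifs <;> rfl
  · intro h
    exact absurd (Finset.mem_univ _) h

open Classical in
/-- the size of a fibre of the character -/
theorem card_fiber_le [Fintype F] {t : ℕ → F[X]} (ht : t ∈ T F n n) (ε : Fˣ) :
    (Finset.univ.filter (fun γ : Fin (n + 1) → Fˣ => chi n t γ = ε)).card *
      (Fintype.card F - 1) ≤ Fintype.card (Fin (n + 1) → Fˣ) * idx t := by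
  by_cases hε : ε ∈ Set.range (chi n t)
  · have h1 := MonoidHom.card_fiber_eq_of_mem_range (chi n t) hε ⟨1, map_one _⟩
    rw [h1]
    have h2 : (Finset.univ.filter (fun γ : Fin (n + 1) → Fˣ => chi n t γ = 1)).card =
        Nat.card (chi n t).ker := by
      rw [Nat.card_eq_fintype_card, Fintype.card_subtype]
      congr 1
      ext γ
      simp only [Finset.mem_filter, Finset.mem_univ, true_and, MonoidHom.mem_ker]
    have h3 : Nat.card (chi n t).ker * Nat.card (chi n t).range =
        Fintype.card (Fin (n + 1) → Fˣ) := by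
      rw [← Subgroup.index_ker, Subgroup.card_mul_index, Nat.card_eq_fintype_card]
    have h4 : Nat.card (D t) ≤ Nat.card (chi n t).range :=
      Subgroup.card_le_of_le (D_le_range n ht)
    have h5 : Nat.card (D t) * idx t = Fintype.card F - 1 := by
      unfold idx
      rw [Subgroup.card_mul_index, Nat.card_units, Nat.card_eq_fintype_card]
    rw [h2, ← h5, ← h3]
    calc Nat.card (chi n t).ker * (Nat.card (D t) * idx t)
        = Nat.card (chi n t).ker * Nat.card (D t) * idx t := by ring
      _ ≤ Nat.card (chi n t).ker * Nat.card (chi n t).range * idx t :=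
        Nat.mul_le_mul_right _ (Nat.mul_le_mul_left _ h4)
  · have : (Finset.univ.filter (fun γ : Fin (n + 1) → Fˣ => chi n t γ = ε)) = ∅ := by
      rw [Finset.filter_eq_empty_iff]
      intro γ _ h
      exact hε ⟨γ, h⟩
    rw [this, Finset.card_empty, zero_mul]
    exact Nat.zero_le _

end ACTION

open ACTION

open Classical in
theorem weighted_count (F : Type u) [Field F] [Fintype F] (n : ℕ) (hT : (T F n n).Finite) :
    (Fintype.card F - 1) * ∑ t ∈ hT.toFinset.filter (fun t => dett n t = 1), idx t ≤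
      ∑ t ∈ hT.toFinset, idx t ^ 2 := by
  have hΓpos : 0 < Fintype.card (Fin (n + 1) → Fˣ) := Fintype.card_pos
  apply Nat.le_of_mul_le_mul_left _ hΓpos
  have step1 : Fintype.card (Fin (n + 1) → Fˣ) *
      ∑ t ∈ hT.toFinset.filter (fun t => dett n t = 1), idx t =
      ∑ s ∈ hT.toFinset, (Finset.univ.filter
        (fun γ : Fin (n + 1) → Fˣ => dett n (act n γ s) = 1)).card * idx s := by
    calc Fintype.card (Fin (n + 1) → Fˣ) * ∑ t ∈ hT.toFinset.filter (fun t => dett n t = 1), idx t
        = ∑ _γ : Fin (n + 1) → Fˣ, ∑ t ∈ hT.toFinset.filter (fun t => dett n t = 1), idx t := by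
          rw [Finset.sum_const, Finset.card_univ, smul_eq_mul]
      _ = ∑ γ : Fin (n + 1) → Fˣ,
            ∑ s ∈ hT.toFinset.filter (fun s => dett n (act n γ s) = 1), idx s := by
          apply Finset.sum_congr rfl
          intro γ _
          apply Finset.sum_nbij' (fun t => act n γ⁻¹ t) (fun s => act n γ s)
          · intro t ht
            rw [Finset.mem_filter, Set.Finite.mem_toFinset] at ht ⊢
            exact ⟨act_mem n ht.1, by rw [act_act_inv]; exact ht.2⟩
          · intro s hs
            rw [Finset.mem_filter, Set.Finite.mem_toFinset] at hs ⊢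
            exact ⟨act_mem n hs.1, hs.2⟩
          · intro t _
            exact act_act_inv n γ t
          · intro s _
            exact act_inv_act n γ s
          · intro t _
            exact (idx_act n γ⁻¹ t).symm
      _ = ∑ s ∈ hT.toFinset, ∑ γ ∈ Finset.univ.filter
            (fun γ : Fin (n + 1) → Fˣ => dett n (act n γ s) = 1), idx s := by
          simp_rw [Finset.sum_filter]
          rw [Finset.sum_comm]
      _ = _ := by
          apply Finset.sum_congr rfl
          intro s _
          rw [Finset.sum_const, smul_eq_mul]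
  have step2 : ∀ s ∈ hT.toFinset, (Fintype.card F - 1) * ((Finset.univ.filter
      (fun γ : Fin (n + 1) → Fˣ => dett n (act n γ s) = 1)).card * idx s) ≤
      Fintype.card (Fin (n + 1) → Fˣ) * idx s ^ 2 := by
    intro s hs
    have hsT : s ∈ T F n n := hT.mem_toFinset.1 hs
    by_cases hne : (Finset.univ.filter
        (fun γ : Fin (n + 1) → Fˣ => dett n (act n γ s) = 1)).Nonempty
    · obtain ⟨γ₀, hγ₀⟩ := hne
      have h0 : ((chi n s γ₀ : Fˣ) : F) * dett n s = 1 := by
        rw [← dett_act]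
        exact (Finset.mem_filter.1 hγ₀).2
      have hd : dett n s ≠ 0 := right_ne_zero_of_mul_eq_one h0
      have hsub : (Finset.univ.filter
          (fun γ : Fin (n + 1) → Fˣ => dett n (act n γ s) = 1)) ⊆
          Finset.univ.filter (fun γ : Fin (n + 1) → Fˣ => chi n s γ = chi n s γ₀) := by
        intro γ hγ
        rw [Finset.mem_filter] at hγ ⊢
        refine ⟨Finset.mem_univ _, ?_⟩
        have h1 : ((chi n s γ : Fˣ) : F) * dett n s = 1 := by
          rw [← dett_act]
          exact hγ.2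
        apply Units.ext
        exact mul_right_cancel₀ hd (h1.trans h0.symm)
      have hfib := card_fiber_le n hsT (chi n s γ₀)
      have hcard := Finset.card_le_card hsub
      calc (Fintype.card F - 1) * ((Finset.univ.filter
            (fun γ : Fin (n + 1) → Fˣ => dett n (act n γ s) = 1)).card * idx s)
          ≤ (Fintype.card F - 1) * ((Finset.univ.filter
            (fun γ : Fin (n + 1) → Fˣ => chi n s γ = chi n s γ₀)).card * idx s) :=
            Nat.mul_le_mul_left _ (Nat.mul_le_mul_right _ hcard)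
        _ = ((Finset.univ.filter
            (fun γ : Fin (n + 1) → Fˣ => chi n s γ = chi n s γ₀)).card *
              (Fintype.card F - 1)) * idx s := by ring
        _ ≤ (Fintype.card (Fin (n + 1) → Fˣ) * idx s) * idx s := Nat.mul_le_mul_right _ hfib
        _ = Fintype.card (Fin (n + 1) → Fˣ) * idx s ^ 2 := by ring
    · rw [Finset.not_nonempty_iff_eq_empty] at hne
      rw [hne, Finset.card_empty, zero_mul, mul_zero]
      exact Nat.zero_le _
  calc Fintype.card (Fin (n + 1) → Fˣ) *
        ((Fintype.card F - 1) * ∑ t ∈ hT.toFinset.filter (fun t => dett n t = 1), idx t)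
      = (Fintype.card F - 1) * (Fintype.card (Fin (n + 1) → Fˣ) *
          ∑ t ∈ hT.toFinset.filter (fun t => dett n t = 1), idx t) := by ring
    _ = (Fintype.card F - 1) * ∑ s ∈ hT.toFinset, (Finset.univ.filter
          (fun γ : Fin (n + 1) → Fˣ => dett n (act n γ s) = 1)).card * idx s := by rw [step1]
    _ = ∑ s ∈ hT.toFinset, (Fintype.card F - 1) * ((Finset.univ.filter
          (fun γ : Fin (n + 1) → Fˣ => dett n (act n γ s) = 1)).card * idx s) := Finset.mul_sum _ _ _
    _ ≤ ∑ s ∈ hT.toFinset, Fintype.card (Fin (n + 1) → Fˣ) * idx s ^ 2 := Finset.sum_le_sum step2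
    _ = Fintype.card (Fin (n + 1) → Fˣ) * ∑ t ∈ hT.toFinset, idx t ^ 2 :=
        (Finset.mul_sum _ _ _).symm

end Cfsg.Agent.S2479P
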