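import Mathlib

/-! S2480 piece SPLIT2: the abstract splitting lemma for a subset of the classes of a kernel. -/

set_option autoImplicit false

namespace Cfsg.Agent.S2480P

namespace SPLIT2

/-- conjugate elements of the kernel, by an element of the kernel, give the same class -/
theorem mk_eq_of_conj {G A : Type*} [Group G] [CommGroup A] (φ : G →* A) (s s' : φ.ker) (y : G)
    (hy : φ y = 1) (h : y * (s : G) * y⁻¹ = (s' : G)) :
    (ConjClasses.mk s : ConjClasses φ.ker) = ConjClasses.mk s' := by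
  rw [ConjClasses.mk_eq_mk_iff_isConj, isConj_iff]
  refine ⟨⟨y, hy⟩, ?_⟩
  apply Subtype.ext
  exact h

end SPLIT2

open SPLIT2 in
theorem card_conjClasses_ker_subset_le {G A I : Type*} [Group G] [Finite G] [CommGroup A] [Finite A]
    (φ : G →* A) (τ : G → I) (D : I → Subgroup A) (J : Finset I)
    (h1 : ∀ x y, φ x = 1 → φ y = 1 → τ x = τ y → IsConj x y)
    (h2 : ∀ g, φ g = 1 → ∀ a ∈ D (τ g), ∃ z, Commute z g ∧ φ z = a) :
    Nat.card {c : ConjClasses φ.ker // ∃ s : φ.ker, ConjClasses.mk s = c ∧ τ (s : G) ∈ J} ≤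
      ∑ i ∈ J, (D i).index := by
  classical
  -- representatives of the classes
  have hrep : ∀ c : {c : ConjClasses φ.ker // ∃ s : φ.ker, ConjClasses.mk s = c ∧ τ (s : G) ∈ J},
      ∃ s : φ.ker, ConjClasses.mk s = c.1 ∧ τ (s : G) ∈ J := fun c => c.2
  choose rep hrepc hrepJ using hrep
  have hφrep : ∀ c, φ (rep c : G) = 1 := fun c => (rep c).2
  obtain ⟨gi, hgi⟩ : ∃ gi : I → G, ∀ i, (∃ g : G, φ g = 1 ∧ τ g = i) → φ (gi i) = 1 ∧ τ (gi i) = i := by
    refine ⟨fun i => if h : ∃ g : G, φ g = 1 ∧ τ g = i then h.choose else 1, fun i h => ?_⟩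
    simp only [dif_pos h]
    exact h.choose_spec
  have hgc : ∀ c, φ (gi (τ (rep c : G))) = 1 ∧ τ (gi (τ (rep c : G))) = τ (rep c : G) :=
    fun c => hgi _ ⟨rep c, hφrep c, rfl⟩
  have hx : ∀ c, ∃ x : G, x * gi (τ (rep c : G)) * x⁻¹ = (rep c : G) := by
    intro c
    have := h1 (gi (τ (rep c : G))) (rep c) (hgc c).1 (hφrep c) (hgc c).2
    rw [isConj_iff] at this
    exact this
  choose x hxc using hx
  let f : {c : ConjClasses φ.ker // ∃ s : φ.ker, ConjClasses.mk s = c ∧ τ (s : G) ∈ J} →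
      Σ i : J, A ⧸ D (i : I) := fun c =>
    ⟨⟨τ (rep c : G), hrepJ c⟩, QuotientGroup.mk (φ (x c))⟩
  have hf : Function.Injective f := by
    intro c c' hcc
    have hi : τ (rep c : G) = τ (rep c' : G) := by
      have := congrArg (fun p => ((p.1 : J) : I)) hcc
      exact this
    have hq : (QuotientGroup.mk (φ (x c)) : A ⧸ D (τ (rep c : G))) =
        QuotientGroup.mk (φ (x c')) := by
      have h3 : f c = f c' := hcc
      simp only [f] at h3
      rw [Sigma.mk.inj_iff] at h3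
      obtain ⟨h4, h5⟩ := h3
      have h6 : ∀ (i i' : I) (hii : i = i') (hi : i ∈ J) (hi' : i' ∈ J) (a b : A),
          HEq (QuotientGroup.mk a : A ⧸ D i) (QuotientGroup.mk b : A ⧸ D i') →
          (QuotientGroup.mk a : A ⧸ D i) = QuotientGroup.mk b := by
        intro i i' hii _ _ a b hab
        subst hii
        exact eq_of_heq hab
      exact h6 _ _ hi (hrepJ c) (hrepJ c') _ _ h5
    rw [QuotientGroup.eq] at hq
    have hmem : (φ (x c))⁻¹ * φ (x c') ∈ D (τ (gi (τ (rep c : G)))) := by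
      rw [(hgc c).2]
      exact hq
    obtain ⟨z, hz, hφz⟩ := h2 (gi (τ (rep c : G))) (hgc c).1 _ hmem
    apply Subtype.ext
    rw [← hrepc c, ← hrepc c']
    apply mk_eq_of_conj φ (rep c) (rep c') (x c' * z⁻¹ * (x c)⁻¹)
    · rw [map_mul, map_mul, map_inv, map_inv, hφz]
      rw [mul_inv_rev, inv_inv]
      have : φ (x c') * ((φ (x c'))⁻¹ * φ (x c)) * (φ (x c))⁻¹ = 1 := by
        rw [mul_inv_cancel_left, mul_inv_cancel]
      exact this
    · rw [← hxc c, ← hxc c', ← hi]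
      have hz' : z⁻¹ * gi (τ (rep c : G)) * z = gi (τ (rep c : G)) := by
        rw [mul_assoc, ← hz.eq, ← mul_assoc, inv_mul_cancel, one_mul]
      calc x c' * z⁻¹ * (x c)⁻¹ * (x c * gi (τ (rep c : G)) * (x c)⁻¹) * (x c' * z⁻¹ * (x c)⁻¹)⁻¹
          = x c' * (z⁻¹ * gi (τ (rep c : G)) * z) * (x c')⁻¹ := by group
        _ = x c' * gi (τ (rep c : G)) * (x c')⁻¹ := by rw [hz']
  calc Nat.card {c : ConjClasses φ.ker // ∃ s : φ.ker, ConjClasses.mk s = c ∧ τ (s : G) ∈ J}
      ≤ Nat.card (Σ i : J, A ⧸ D (i : I)) := Nat.card_le_card_of_injective f hf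
    _ = ∑ i : J, Nat.card (A ⧸ D (i : I)) := Nat.card_sigma
    _ = ∑ i : J, (D (i : I)).index := rfl
    _ = ∑ i ∈ J, (D i).index := Finset.sum_coe_sort J (fun i => (D i).index)

end Cfsg.Agent.S2480P
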