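import Mathlib
import Cfsg.Agent.Helper14.S5559Defs
import Cfsg.Agent.Helper9.S5559MLEM

set_option autoImplicit false

namespace Cfsg.Agent.S5559P

/-- The key computation modulo a normal subgroup `N ≤ V` (MLEM applied in `K ⧸ N`); a private copy of
row MLEMQ so that this module depends on MLEM only. -/
theorem BRIDGE.M.aux_MLEMQ {K : Type*} [Group K] (V N : Subgroup K) [V.Normal] [N.Normal] (hNV : N ≤ V)
    (hV : IsPGroup 2 V) (a b : K)
    (ha : a * a = 1) (hb : b * b = 1) (h3 : (a * b) ^ 3 = 1) (hne : a * b ∉ V)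
    (htt : ∀ v ∈ V, ((v⁻¹ * a * v) * b) ^ 2 = 1 ∨ ((v⁻¹ * a * v) * b) ^ 3 = 1)
    (v : K) (hv : v ∈ V) (hvx : (a * b) * v * (a * b)⁻¹ * v⁻¹ ∈ N) : a * v * a⁻¹ * v⁻¹ ∈ N := by
  set π := QuotientGroup.mk' N with hπ
  have hsurj : Function.Surjective π := QuotientGroup.mk'_surjective N
  have : (V.map π).Normal := Subgroup.Normal.map inferInstance π hsurj
  have hV' : IsPGroup 2 (V.map π) := hV.map π
  have hne' : π a * π b ≠ 1 := by
    intro h
    rw [← map_mul, hπ, QuotientGroup.mk'_apply, QuotientGroup.eq_one_iff] at h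
    exact hne (hNV h)
  have hkey := MLEM (V.map π) hV' (π a) (π b) (by rw [← map_mul, ha, map_one])
    (by rw [← map_mul, hb, map_one]) (by rw [← map_mul, ← map_pow, h3, map_one]) hne'
    (by
      rintro _ ⟨u, hu, rfl⟩
      rcases htt u hu with h | h
      · left
        rw [← map_inv, ← map_mul, ← map_mul, ← map_mul, ← map_pow, h, map_one]
      · right
        rw [← map_inv, ← map_mul, ← map_mul, ← map_mul, ← map_pow, h, map_one])
    (π v) ⟨v, hv, rfl⟩ (by
      have h1 : π ((a * b) * v * (a * b)⁻¹ * v⁻¹) = 1 := by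
        rw [hπ, QuotientGroup.mk'_apply, QuotientGroup.eq_one_iff]; exact hvx
      rw [map_mul, map_mul, map_mul, map_inv, map_inv, map_mul] at h1
      have h2 : π a * π b * π v * (π a * π b)⁻¹ = π v := by
        rw [mul_inv_eq_one] at h1; exact h1
      rw [mul_inv_eq_iff_eq_mul] at h2
      exact h2.symm)
  have h4 : π (a * v * a⁻¹ * v⁻¹) = 1 := by
    rw [map_mul, map_mul, map_mul, map_inv, map_inv, ← hkey]
    group
  rw [hπ, QuotientGroup.mk'_apply, QuotientGroup.eq_one_iff] at h4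
  exact h4


/-- `of x = of y` in the abelianization iff `x * y⁻¹` is in the commutator subgroup. -/
theorem BRIDGE.M.aux_of_eq {V : Type*} [Group V] (x y : V)
    (h : Abelianization.of x = Abelianization.of y) : x * y⁻¹ ∈ commutator V := by
  rw [← Abelianization.ker_of, MonoidHom.mem_ker, map_mul, map_inv, h, mul_inv_cancel]

theorem BRIDGE.M.aux_of_eq' {V : Type*} [Group V] (x y : V)
    (h : x * y⁻¹ ∈ commutator V) : Abelianization.of x = Abelianization.of y := by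
  rw [← Abelianization.ker_of, MonoidHom.mem_ker, map_mul, map_inv, mul_inv_eq_one] at h
  exact h

/-- Property (M) for `rho H`. -/
theorem BRIDGE.M {H : Type*} [Group H] [Finite H] {E : Set H}
    (hE : Cfsg.IsThreeTranspositionClass E) :
    ∀ a ∈ (QuotientGroup.mk' (Cfsg.pCore 2 H)) '' E, ∀ b ∈ (QuotientGroup.mk' (Cfsg.pCore 2 H)) '' E,
      (a * b) ^ 3 = 1 → a * b ≠ 1 → ∀ w : Abelianization ↥(Cfsg.pCore 2 H),
        rho H (a * b) w = w → rho H a w = w := by
  rintro _ ⟨a0, ha0, rfl⟩ _ ⟨b0, hb0, rfl⟩ h3 hne w hw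
  obtain ⟨⟨hord, htt⟩, ⟨d0, hd0, hDeq⟩, -⟩ := hE
  have hV : IsPGroup 2 ↥(Cfsg.pCore 2 H) :=
    Sylow.sSup_of_normal _ (fun _ h => h.2) (fun _ h => h.1)
  obtain ⟨v, rfl⟩ := QuotientGroup.mk_surjective w
  change rho H (QuotientGroup.mk' (Cfsg.pCore 2 H) a0 * QuotientGroup.mk' (Cfsg.pCore 2 H) b0)
    (Abelianization.of v) = Abelianization.of v at hw
  change rho H (QuotientGroup.mk' (Cfsg.pCore 2 H) a0) (Abelianization.of v) = Abelianization.of v
  rw [← map_mul, rho_mk_of] at hw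
  rw [rho_mk_of]
  -- squares
  have hsq : ∀ d ∈ E, d * d = 1 := by
    intro d hd
    have := hord d hd
    rw [← pow_two, ← this]; exact pow_orderOf_eq_one d
  have ha : a0 * a0 = 1 := hsq a0 ha0
  have hb : b0 * b0 = 1 := hsq b0 hb0
  -- conjugation closed
  have hconj : ∀ g : H, ∀ x ∈ E, g⁻¹ * x * g ∈ E := by
    intro g x hx
    rw [hDeq] at hx ⊢
    have hx' : IsConj d0 x := hx
    show IsConj d0 (g⁻¹ * x * g)
    refine hx'.trans (isConj_iff.mpr ⟨g⁻¹, ?_⟩)
    rw [inv_inv]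
  -- a0 b0 ∉ V
  have hneV : a0 * b0 ∉ Cfsg.pCore 2 H := by
    intro hmem
    apply hne
    rw [← map_mul]
    exact (QuotientGroup.eq_one_iff _).mpr hmem
  -- (a0 b0)^3 = 1
  have h3' : (a0 * b0) ^ 3 = 1 := by
    rcases htt a0 ha0 b0 hb0 with h2 | h3'
    · exfalso
      apply hne
      have e2 : (QuotientGroup.mk' (Cfsg.pCore 2 H) a0 * QuotientGroup.mk' (Cfsg.pCore 2 H) b0) ^ 2
          = 1 := by
        rw [← map_mul, ← map_pow, h2, map_one]
      have : (QuotientGroup.mk' (Cfsg.pCore 2 H) a0 * QuotientGroup.mk' (Cfsg.pCore 2 H) b0) ^ 3 =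
          (QuotientGroup.mk' (Cfsg.pCore 2 H) a0 * QuotientGroup.mk' (Cfsg.pCore 2 H) b0) ^ 2 *
          (QuotientGroup.mk' (Cfsg.pCore 2 H) a0 * QuotientGroup.mk' (Cfsg.pCore 2 H) b0) := pow_succ _ 2
      rw [h3, e2, one_mul] at this
      exact this.symm
    · exact h3'
  -- N
  have hNV : ⁅Cfsg.pCore 2 H, Cfsg.pCore 2 H⁆ ≤ Cfsg.pCore 2 H := Subgroup.commutator_le_self _
  have hkey := BRIDGE.M.aux_MLEMQ (Cfsg.pCore 2 H) ⁅Cfsg.pCore 2 H, Cfsg.pCore 2 H⁆ hNV hV a0 b0 ha hb h3' hneV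
    (fun u hu => htt _ (hconj u a0 ha0) b0 hb0) (v : H) v.2 (by
      have h1 := BRIDGE.M.aux_of_eq _ _ hw
      rw [← Subgroup.map_subtype_commutator]
      refine ⟨_, h1, ?_⟩
      simp)
  rw [← Subgroup.map_subtype_commutator] at hkey
  obtain ⟨c, hc, hceq⟩ := hkey
  apply BRIDGE.M.aux_of_eq'
  have : c = (⟨a0 * v * a0⁻¹, (Cfsg.pCore_normal 2 H).conj_mem v v.2 a0⟩ : ↥(Cfsg.pCore 2 H)) * v⁻¹ := by
    apply Subtype.ext
    rw [Subgroup.coe_subtype] at hceq
    rw [hceq]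
    simp
  rw [← this]
  exact hc

end Cfsg.Agent.S5559P
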