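import Mathlib
import Cfsg.Prelude.Def_GeometricClasses
import Cfsg.Prelude.Def_ClassicalGeometry
import Cfsg.Agent.Helper29.S5976Defs
import Cfsg.Agent.Helper2.SpPairs
import Cfsg.Agent.Helper28.SpMax
import Cfsg.Agent.Helper24.S5976SELFREC
import Cfsg.Agent.Helper21.S5958MODEL2
import Cfsg.Agent.Helper26.S5965DIAGDER

set_option autoImplicit false
open scoped MatrixGroups

namespace Cfsg.Agent.S5976P

open Polynomial

namespace ELTODD

open Matrix

variable {F : Type*} [Field F] {n : Type*} [Fintype n] [DecidableEq n]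

theorem aeval_toLin'' (M : Matrix n n F) (P : F[X]) :
    aeval (Matrix.toLin' M) P = Matrix.toLin' (aeval M P) :=
  Polynomial.aeval_algHom_apply (Matrix.toLinAlgEquiv' : Matrix n n F ≃ₐ[F] _).toAlgHom M P

theorem aeval_transpose' (M : Matrix n n F) (P : F[X]) : aeval Mᵀ P = (aeval M P)ᵀ := by
  rw [aeval_eq_sum_range, aeval_eq_sum_range, Matrix.transpose_sum]
  apply Finset.sum_congr rfl
  intro i _
  rw [Matrix.transpose_smul, Matrix.transpose_pow]

theorem fromBlocks_pow' (A B : Matrix n n F) (k : ℕ) :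
    (Matrix.fromBlocks A 0 0 B) ^ k = Matrix.fromBlocks (A ^ k) 0 0 (B ^ k) := by
  induction k with
  | zero => rw [pow_zero, pow_zero, pow_zero, Matrix.fromBlocks_one]
  | succ k ih =>
    rw [pow_succ, ih, Matrix.fromBlocks_multiply, pow_succ, pow_succ]
    simp only [mul_zero, zero_mul, add_zero, zero_add]

theorem aeval_fromBlocks (A B : Matrix n n F) (P : F[X]) :
    aeval (Matrix.fromBlocks A 0 0 B) P = Matrix.fromBlocks (aeval A P) 0 0 (aeval B P) := by
  rw [aeval_eq_sum_range, aeval_eq_sum_range, aeval_eq_sum_range]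
  have : ∀ i : ℕ, P.coeff i • (Matrix.fromBlocks A 0 0 B) ^ i =
      Matrix.fromBlocks (P.coeff i • A ^ i) 0 0 (P.coeff i • B ^ i) := by
    intro i
    rw [fromBlocks_pow', Matrix.fromBlocks_smul, smul_zero]
  rw [Finset.sum_congr rfl (fun i _ => this i)]
  generalize Finset.range (P.natDegree + 1) = s
  induction s using Finset.induction_on with
  | empty =>
    simp only [Finset.sum_empty]
    ext (i | i) (j | j) <;> rfl
  | insert a s ha ih =>
    rw [Finset.sum_insert ha, Finset.sum_insert ha, Finset.sum_insert ha, ih,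
      Matrix.fromBlocks_add]
    simp only [add_zero]

/-- the embedding of the first block -/
def inlMap (F : Type*) [Field F] (n : Type*) : (n → F) →ₗ[F] (n ⊕ n → F) where
  toFun v := Sum.elim v 0
  map_add' u v := by
    funext s
    rcases s with s | s <;> simp
  map_smul' c v := by
    funext s
    rcases s with s | s <;> simp

omit [Fintype n] [DecidableEq n] in
theorem inlMap_injective : Function.Injective (inlMap F n) := by
  intro u v h
  funext i
  exact congrFun h (Sum.inl i)

theorem finrank_ker_fromBlocks (P₁ P₂ : Matrix n n F) (h : ∃ M : Matrix n n F, M * P₂ = 1) :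
    Module.finrank F (LinearMap.ker (Matrix.toLin' (Matrix.fromBlocks P₁ 0 0 P₂))) =
      Module.finrank F (LinearMap.ker (Matrix.toLin' P₁)) := by
  obtain ⟨M, hM⟩ := h
  have hmap : (LinearMap.ker (Matrix.toLin' P₁)).map (inlMap F n) =
      LinearMap.ker (Matrix.toLin' (Matrix.fromBlocks P₁ 0 0 P₂)) := by
    ext v
    rw [Submodule.mem_map, LinearMap.mem_ker, Matrix.toLin'_apply, Matrix.fromBlocks_mulVec]
    constructor
    · rintro ⟨w, hw, rfl⟩
      rw [LinearMap.mem_ker, Matrix.toLin'_apply] at hw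
      have h1 : (inlMap F n w) ∘ Sum.inl = w := rfl
      have h2 : (inlMap F n w) ∘ Sum.inr = 0 := rfl
      rw [h1, h2, hw]
      funext s
      rcases s with s | s <;> simp
    · intro hv
      have h1 : P₁ *ᵥ (v ∘ Sum.inl) = 0 := by
        funext i
        have := congrFun hv (Sum.inl i)
        simpa using this
      have h2 : P₂ *ᵥ (v ∘ Sum.inr) = 0 := by
        funext i
        have := congrFun hv (Sum.inr i)
        simpa using this
      have h3 : v ∘ Sum.inr = 0 := by
        have := congrArg (fun w => M *ᵥ w) h2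
        simp only [Matrix.mulVec_mulVec, hM, Matrix.one_mulVec, Matrix.mulVec_zero] at this
        exact this
      refine ⟨v ∘ Sum.inl, ?_, ?_⟩
      · rw [LinearMap.mem_ker, Matrix.toLin'_apply, h1]
      · funext s
        rcases s with s | s
        · rfl
        · exact (congrFun h3 s).symm
  rw [← hmap]
  exact (Submodule.equivMapOfInjective (inlMap F n) inlMap_injective _).finrank_eq.symm

/-- an irreducible factor of `X ^ r - 1` of odd degree (not vanishing at `1`) does not divide its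
"reciprocal" `g (X ^ (r-1))` -/
theorem not_dvd_comp (r : ℕ) (hr : Odd r) (hr0 : (r : F) ≠ 0) (g : F[X]) (hg : Irreducible g)
    (hgd : g ∣ X ^ r - 1) (hg1 : g.eval 1 ≠ 0) (hodd : Odd g.natDegree) :
    ¬ g ∣ g.comp (X ^ (r - 1)) := by
  intro hQ
  haveI : Fact (Irreducible g) := ⟨hg⟩
  have hr1 : 1 ≤ r := hr.pos
  set α : AdjoinRoot g := AdjoinRoot.root g with hα
  have hgα : aeval α g = 0 := by rw [AdjoinRoot.aeval_eq, AdjoinRoot.mk_self]
  have hαr : α ^ r = 1 := by
    have h := (AdjoinRoot.mk_eq_zero (f := g)).2 hgd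
    rw [← AdjoinRoot.aeval_eq, map_sub, map_pow, aeval_X, map_one, sub_eq_zero] at h
    exact h
  have hxα : α ^ (r - 1) * α = 1 := by
    rw [← pow_succ, Nat.sub_add_cancel hr1, hαr]
  have hinv : α ^ (r - 1) = α⁻¹ := eq_inv_of_mul_eq_one_left hxα
  have hgαi : aeval α⁻¹ g = 0 := by
    have h := (AdjoinRoot.mk_eq_zero (f := g)).2 hQ
    rw [← AdjoinRoot.aeval_eq, aeval_comp, map_pow, aeval_X, hinv] at h
    exact h
  have hα1 : α ≠ 1 := by
    intro h1
    rw [h1] at hgα
    have h3 : aeval (1 : AdjoinRoot g) g = algebraMap F (AdjoinRoot g) (g.eval 1) := by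
      have := Polynomial.aeval_algebraMap_apply (AdjoinRoot g) (1 : F) g
      rw [map_one] at this
      rw [this]
      simp
    rw [h3] at hgα
    exact hg1 ((map_eq_zero _).1 hgα)
  have hsep : g.Separable := by
    have h := Polynomial.separable_X_pow_sub_C (1 : F) hr0 one_ne_zero
    rw [C_1] at h
    exact h.of_dvd hgd
  have hev := even_natDegree_of_self_reciprocal r hr g hg hsep α hαr hα1 hgα hgαi
  exact (Nat.not_even_iff_odd.2 hodd) hev

/-- the polynomial `g (X ^ (r-1))` is prime to `g * (X - 1)` -/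
theorem coprime_comp (r : ℕ) (hr : Odd r) (hr0 : (r : F) ≠ 0) (g : F[X]) (hg : Irreducible g)
    (hgd : g ∣ X ^ r - 1) (hg1 : g.eval 1 ≠ 0) (hodd : Odd g.natDegree) :
    IsCoprime (g.comp (X ^ (r - 1))) (g * (X - 1)) := by
  apply IsCoprime.mul_right
  · exact ((hg.coprime_iff_not_dvd).2 (not_dvd_comp r hr hr0 g hg hgd hg1 hodd)).symm
  · have hirr : Irreducible (X - C (1 : F)) := irreducible_X_sub_C 1
    rw [C_1] at hirr
    refine ((hirr.coprime_iff_not_dvd).2 ?_).symm
    rw [← C_1, dvd_iff_isRoot, IsRoot.def, eval_comp, eval_pow, eval_X, one_pow]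
    exact hg1

/-- lemma L: the Levi element `diag(A, A^{-T})` -/
theorem levi_elt (d : ℕ) (r : ℕ) (hr : Odd r) (hr0 : (r : F) ≠ 0) (g : F[X]) (hg : Irreducible g)
    (hgd : g ∣ X ^ r - 1) (hg1 : g.eval 1 ≠ 0) (hodd : Odd g.natDegree)
    (Am : Matrix (Fin d) (Fin d) F) (hA : aeval Am (g * (X - 1)) = 0)
    (hker : Odd (Module.finrank F (LinearMap.ker (Matrix.toLin' (aeval Am g))))) :
    ∃ x ∈ Cfsg.spGL d F,
      ((x ^ r : GL (Fin d ⊕ Fin d) F) : Matrix (Fin d ⊕ Fin d) (Fin d ⊕ Fin d) F) = 1 ∧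
      Odd (Module.finrank F (LinearMap.ker (aeval (Matrix.toLin'
        (x : Matrix (Fin d ⊕ Fin d) (Fin d ⊕ Fin d) F)) g))) := by
  have hr1 : 1 ≤ r := hr.pos
  -- `Am ^ r = 1`
  have hAr : Am ^ r = 1 := by
    have hdvd : g * (X - 1) ∣ X ^ r - 1 := by
      apply IsCoprime.mul_dvd _ hgd
      · rw [← C_1, dvd_iff_isRoot, IsRoot.def, eval_sub, eval_pow, eval_X, eval_C, one_pow,
          sub_self]
      · have hirr : Irreducible (X - C (1 : F)) := irreducible_X_sub_C 1
        rw [C_1] at hirr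
        refine ((hirr.coprime_iff_not_dvd).2 ?_).symm
        rw [← C_1, dvd_iff_isRoot, IsRoot.def]
        exact hg1
    obtain ⟨t, ht⟩ := hdvd
    have h := congrArg (aeval Am) ht
    rw [map_mul, hA, zero_mul, map_sub, map_pow, aeval_X, map_one, sub_eq_zero] at h
    exact h
  have hab : Am * Am ^ (r - 1) = 1 := by
    rw [← pow_succ', Nat.sub_add_cancel hr1, hAr]
  have hBr : ((Am ^ (r - 1))ᵀ) ^ r = 1 := by
    rw [← Matrix.transpose_pow, ← pow_mul, mul_comm, pow_mul, hAr, one_pow, Matrix.transpose_one]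
  have hmem := Cfsg.Agent.Helper2.SpPairs.levi_mem Am (Am ^ (r - 1)) hab
  refine ⟨Cfsg.Agent.Helper28.SpMax.toGL ⟨_, hmem⟩, Cfsg.Agent.Helper28.SpMax.toGL_mem _, ?_, ?_⟩
  · rw [Units.val_pow_eq_pow_val, Cfsg.Agent.Helper28.SpMax.toGL_val]
    show (Matrix.fromBlocks Am 0 0 (Am ^ (r - 1))ᵀ) ^ r = 1
    rw [fromBlocks_pow', hAr, hBr, Matrix.fromBlocks_one]
  · rw [Cfsg.Agent.Helper28.SpMax.toGL_val]
    show Odd (Module.finrank F (LinearMap.ker (aeval (Matrix.toLin'
      (Matrix.fromBlocks Am 0 0 (Am ^ (r - 1))ᵀ)) g)))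
    rw [aeval_toLin'', aeval_fromBlocks, finrank_ker_fromBlocks]
    · exact hker
    · -- invertibility of `g ((Am^(r-1))ᵀ)`
      obtain ⟨a, b, hab'⟩ := coprime_comp r hr hr0 g hg hgd hg1 hodd
      have h := congrArg (aeval Am) hab'
      rw [map_add, map_mul, map_mul, hA, mul_zero, add_zero, map_one, aeval_comp, map_pow,
        aeval_X] at h
      have h' : aeval (Am ^ (r - 1)) g * aeval Am a = 1 := by
        exact (Matrix.mul_eq_one_comm_of_card_eq (Fin d) (Fin d) F rfl).mp h
      refine ⟨(aeval Am a)ᵀ, ?_⟩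
      rw [aeval_transpose', ← Matrix.transpose_mul, h', Matrix.transpose_one]

end ELTODD

open ELTODD in
/-- ELTODD (uses S5958P.model_single, SELFREC, Helper2 leviHom) -/
theorem exists_elt_odd {F : Type*} [Field F] [Fintype F] {p : ℕ} [Fact p.Prime] [CharP F p]
    (d : ℕ) (r : ℕ) [Fact r.Prime] (hr2 : r ≠ 2) (hrp : r ≠ p)
    (hi : Odd (orderOf ((Fintype.card F : ℕ) : ZMod r)))
    (hid : orderOf ((Fintype.card F : ℕ) : ZMod r) ≤ d) :
    ∃ x ∈ Cfsg.spGL d F,
      ((x ^ r : GL (Fin d ⊕ Fin d) F) : Matrix (Fin d ⊕ Fin d) (Fin d ⊕ Fin d) F) = 1 ∧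
      ∃ g₁ : F[X], Odd (Module.finrank F (LinearMap.ker (aeval (Matrix.toLin'
        (x : Matrix (Fin d ⊕ Fin d) (Fin d ⊕ Fin d) F)) g₁))) := by
  classical
  have hr : r.Prime := Fact.out
  have hrodd : Odd r := hr.eq_two_or_odd'.resolve_left hr2
  have hr0 : (r : F) ≠ 0 := by
    intro h0
    have hdvd : p ∣ r := (CharP.cast_eq_zero_iff F p r).1 h0
    exact hrp ((Nat.prime_dvd_prime_iff_eq (Fact.out : p.Prime) hr).1 hdvd).symm
  obtain ⟨i, hi'⟩ : ∃ i : ℕ, i = orderOf ((Fintype.card F : ℕ) : ZMod r) := ⟨_, rfl⟩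
  rw [← hi'] at hi hid
  have hipos : 0 < i := hi.pos
  suffices h : ∃ (g : F[X]) (Am : Matrix (Fin d) (Fin d) F), Irreducible g ∧ g ∣ X ^ r - 1 ∧
      g.eval 1 ≠ 0 ∧ Odd g.natDegree ∧ aeval Am (g * (X - 1)) = 0 ∧
      Odd (Module.finrank F (LinearMap.ker (Matrix.toLin' (aeval Am g)))) by
    obtain ⟨g, Am, hg, hgd, hg1, hodd, hA, hker⟩ := h
    obtain ⟨x, hx, hxr, hxo⟩ := levi_elt d r hrodd hr0 g hg hgd hg1 hodd Am hA hker
    exact ⟨x, hx, hxr, g, hxo⟩
  by_cases hi1 : i = 1
  · -- `r ∣ q - 1`: a diagonal element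
    have hd : 0 < d := by omega
    have hq1 : ((Fintype.card F : ℕ) : ZMod r) = 1 := by
      rw [← orderOf_eq_one_iff, ← hi', hi1]
    have hdvd : r ∣ Fintype.card F - 1 := by
      have h1 : 1 ≤ Fintype.card F := Fintype.card_pos
      rw [← ZMod.natCast_eq_zero_iff, Nat.cast_sub h1, hq1, Nat.cast_one, sub_self]
    have hcardu : Fintype.card Fˣ = Fintype.card F - 1 := Fintype.card_units F
    obtain ⟨αu, hαu⟩ := exists_prime_orderOf_dvd_card r (by rw [hcardu]; exact hdvd)
    set α : F := (αu : F) with hα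
    have hαr : α ^ r = 1 := by
      rw [hα, ← Units.val_pow_eq_pow_val, ← hαu, pow_orderOf_eq_one, Units.val_one]
    have hα1 : α ≠ 1 := by
      intro h1
      have : αu = 1 := Units.ext h1
      rw [this, orderOf_one] at hαu
      exact hr.one_lt.ne hαu
    set j0 : Fin d := ⟨0, hd⟩ with hj0
    set dd : Fin d → F := Function.update (fun _ => (1 : F)) j0 α with hdd
    refine ⟨X - C α, Matrix.diagonal dd, irreducible_X_sub_C α, ?_, ?_, ?_, ?_, ?_⟩
    · rw [dvd_iff_isRoot, IsRoot.def, eval_sub, eval_pow, eval_X, eval_one, hαr, sub_self]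
    · rw [eval_sub, eval_X, eval_C]
      exact sub_ne_zero.2 (Ne.symm hα1)
    · rw [natDegree_X_sub_C]; exact odd_one
    · rw [map_mul, map_sub, map_sub, aeval_X, aeval_C, map_one, Algebra.algebraMap_eq_smul_one,
        Matrix.smul_one_eq_diagonal, ← Matrix.diagonal_one, Matrix.diagonal_sub,
        Matrix.diagonal_sub, Matrix.diagonal_mul_diagonal]
      ext a b
      rw [Matrix.diagonal_apply, Matrix.zero_apply]
      split_ifs with hab
      · by_cases ha : a = j0
        · subst ha
          simp [hdd]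
        · simp [hdd, Function.update_of_ne ha]
      · rfl
    · have h1 : Matrix.toLin' (aeval (Matrix.diagonal dd) (X - C α)) =
          Matrix.toLin' (Matrix.diagonal dd) - α • (1 : Module.End F (Fin d → F)) := by
        rw [map_sub, aeval_X, aeval_C, Algebra.algebraMap_eq_smul_one, map_sub, map_smul,
          Matrix.toLin'_one]
        rfl
      rw [h1, Cfsg.Agent.S5965P.DIAGDER.finrank_ker_diag]
      have h2 : Nat.card {j // dd j = α} = 1 := by
        rw [Nat.card_eq_one_iff_unique]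
        constructor
        · constructor
          rintro ⟨a, ha⟩ ⟨b, hb⟩
          apply Subtype.ext
          show a = b
          have ha' : a = j0 := by
            by_contra hne
            rw [hdd, Function.update_of_ne hne] at ha
            exact hα1 ha.symm
          have hb' : b = j0 := by
            by_contra hne
            rw [hdd, Function.update_of_ne hne] at hb
            exact hα1 hb.symm
          rw [ha', hb']
        · exact ⟨⟨j0, by rw [hdd, Function.update_self]⟩⟩
      rw [h2]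
      exact odd_one
  · -- `i ≥ 3`: the single block model
    have hi2 : 2 ≤ orderOf ((Fintype.card F : ℕ) : ZMod r) := by
      rw [← hi']; omega
    obtain ⟨x, g, hgi, hgm, hgΦ, hxr, _, hfix, hann⟩ :=
      Cfsg.Agent.S5958P.model_single (F := F) r hrp d 1 hi2 le_rfl (by rw [← hi', mul_one]; exact hid)
    rw [← hi', mul_one] at hfix
    have hgX : g ∣ X ^ r - 1 := by
      rw [← cyclotomic_prime_mul_X_sub_one F r]
      exact Dvd.dvd.mul_right hgΦ _
    have hg1 : g.eval 1 ≠ 0 := by
      intro h0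
      obtain ⟨t, ht⟩ := hgΦ
      have h3 : (cyclotomic r F).eval 1 = 0 := by rw [ht, eval_mul, h0, zero_mul]
      rw [eval_one_cyclotomic_prime] at h3
      exact hr0 h3
    have hgdeg : g.natDegree = i := by
      rw [hi']; exact Cfsg.Agent.S5949P.natDegree_of_dvd_cyclotomic r hrp g hgi hgΦ
    have hA : aeval (x : Matrix (Fin d) (Fin d) F) (g * (X - 1)) = 0 := by
      rw [aeval_toLin''] at hann
      exact (LinearEquiv.map_eq_zero_iff _).1 hann
    refine ⟨g, (x : Matrix (Fin d) (Fin d) F), hgi, hgX, hg1, by rw [hgdeg]; exact hi, hA, ?_⟩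
    rw [← aeval_toLin'']
    set f : Module.End F (Fin d → F) := Matrix.toLin' (x : Matrix (Fin d) (Fin d) F) with hf
    have hcop : IsCoprime g (X - C (1 : F)) := by
      have hirr : Irreducible (X - C (1 : F)) := irreducible_X_sub_C 1
      refine ((hirr.coprime_iff_not_dvd).2 ?_).symm
      rw [dvd_iff_isRoot, IsRoot.def]
      exact hg1
    have hdisj := disjoint_ker_aeval_of_isCoprime f hcop
    have hsup := sup_ker_aeval_eq_ker_aeval_mul_of_coprime f hcop
    rw [C_1, hann, LinearMap.ker_zero] at hsup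
    have hcompl : IsCompl (LinearMap.ker (aeval f g)) (LinearMap.ker (aeval f (X - C (1 : F)))) :=
      ⟨hdisj, codisjoint_iff.2 hsup⟩
    have hadd := Submodule.finrank_add_eq_of_isCompl hcompl
    have hX1 : aeval f (X - C (1 : F)) = f - 1 := by
      rw [map_sub, aeval_X, aeval_C, map_one]
    rw [hX1, hfix, Module.finrank_fintype_fun_eq_card, Fintype.card_fin] at hadd
    have : Module.finrank F ↥(LinearMap.ker (aeval f g)) = i := by omega
    rw [this]
    exact hi

end Cfsg.Agent.S5976P
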