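import Mathlib
import Cfsg.Prelude.Def_JComponents
import Cfsg.Prelude.Def_Involutions
import Cfsg.Agent.Helper5.S2951Defs
import Cfsg.Agent.Helper7.S2951FIN

/-! S2951 board, piece XFIN (blueprint `departures/helper5_KS12_blueprint.md`, §8 (X3)–(X5)). -/

set_option autoImplicit false
set_option linter.style.haveILetI false

universe u

namespace Cfsg.Agent.S2951P

open Cfsg Subgroup Cfsg.Agent.Helper15.JComp

variable {G : Type u} [Group G]

/-- a subgroup all of whose elements conjugate `H` into itself normalises `H` -/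
theorem XFIN_aux_le_normalizer (K H : Subgroup G) (h : ∀ g ∈ K, ∀ x ∈ H, g * x * g⁻¹ ∈ H) :
    K ≤ normalizer (H : Set G) := by
  intro g hg
  rw [mem_normalizer_iff]
  intro x
  constructor
  · exact h g hg x
  · intro hx
    have := h g⁻¹ (K.inv_mem hg) _ hx
    have e : g⁻¹ * (g * x * g⁻¹) * g⁻¹⁻¹ = x := by group
    rwa [e] at this

/-- in a finite group, an element conjugating `H` into itself normalises `H` -/
theorem XFIN_aux_mem_normalizer [Finite G] (H : Subgroup G) (g : G)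
    (h : ∀ x ∈ H, g * x * g⁻¹ ∈ H) : g ∈ normalizer (H : Set G) := by
  have hpow : ∀ k : ℕ, ∀ x ∈ H, g ^ k * x * (g ^ k)⁻¹ ∈ H := by
    intro k
    induction k with
    | zero => intro x hx; simpa using hx
    | succ k ih =>
      intro x hx
      have := h _ (ih x hx)
      have e : g ^ (k + 1) * x * (g ^ (k + 1))⁻¹ = g * (g ^ k * x * (g ^ k)⁻¹) * g⁻¹ := by
        rw [pow_succ']; group
      rw [e]; exact this
  rw [mem_normalizer_iff]
  intro x
  constructor
  · exact h x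
  · intro hx
    obtain ⟨n, hn0, hn⟩ := isOfFinOrder_iff_pow_eq_one.mp (isOfFinOrder_of_finite g)
    have h1 := hpow (n - 1) _ hx
    have e1 : g ^ (n - 1) = g⁻¹ := by
      have : g ^ (n - 1) * g = 1 := by
        rw [← pow_succ, Nat.sub_add_cancel hn0, hn]
      exact eq_inv_of_mul_eq_one_left this
    rw [e1] at h1
    have e : g⁻¹ * (g * x * g⁻¹) * g⁻¹⁻¹ = x := by group
    rwa [e] at h1

/-- a proper subgroup of a `2`-subgroup grows in its normaliser -/
theorem XFIN_aux_grow [Finite G] {U V : Subgroup G} (hU : IsPGroup 2 ↥U) (hVU : V < U) :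
    ∃ x ∈ U, x ∈ normalizer (V : Set G) ∧ x ∉ V := by
  haveI : Fact (Nat.Prime 2) := ⟨Nat.prime_two⟩
  have hnil : Group.IsNilpotent ↥U := hU.isNilpotent
  have hlt : V.subgroupOf U < ⊤ := by
    rw [lt_top_iff_ne_top, Ne, Subgroup.subgroupOf_eq_top]
    exact not_le_of_gt hVU
  have h1 := Group.normalizerCondition_of_isNilpotent (G := ↥U) (V.subgroupOf U) hlt
  rw [← Subgroup.subgroupOf_normalizer_eq hVU.le] at h1
  obtain ⟨u, hu1, hu2⟩ := SetLike.exists_of_lt h1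
  rw [Subgroup.mem_subgroupOf] at hu1 hu2
  exact ⟨u, u.2, hu1, hu2⟩

/-- the order of a `2`-subgroup of `P` is at most the order of a Sylow `2`-subgroup of `P` -/
theorem XFIN_aux_sylow_card [Finite G] {T P Y : Subgroup G} (hTP : IsSylowTwoIn T P) (hYP : Y ≤ P)
    (hY : IsPGroup 2 ↥Y) : Nat.card ↥Y ≤ Nat.card ↥T := by
  haveI : Fact (Nat.Prime 2) := ⟨Nat.prime_two⟩
  obtain ⟨a, ha⟩ := hY.exists_card_eq
  obtain ⟨b, hb⟩ := hTP.2.1.exists_card_eq
  have h1 : Nat.card ↥Y ∣ Nat.card ↥P := Subgroup.card_dvd_of_le hYP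
  have h2 : Nat.card ↥T * T.relIndex P = Nat.card ↥P := by
    have := Subgroup.relIndex_mul_relIndex (⊥ : Subgroup G) T P bot_le hTP.1
    rwa [Subgroup.relIndex_bot_left, Subgroup.relIndex_bot_left] at this
  rw [← h2, ha, hb] at h1
  have hcop : Nat.Coprime (2 ^ a) (T.relIndex P) :=
    Nat.Coprime.pow_left a (Nat.coprime_two_left.mpr hTP.2.2)
  have h3 : 2 ^ a ∣ 2 ^ b := hcop.dvd_of_dvd_mul_right h1
  rw [ha, hb]
  exact Nat.le_of_dvd (by positivity) h3

/-- the facts of `S4Facts` for `X = ↥P`, read in the ambient group -/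
structure XFIN_aux_F (T P : Subgroup G) : Prop where
  UT : pCoreOf 2 P ≤ T
  comm : ∀ a ∈ pCoreOf 2 P, ∀ b ∈ pCoreOf 2 P, a * b = b * a
  sq : ∀ a ∈ pCoreOf 2 P, a * a = 1
  center_le : ∀ z ∈ T, (∀ x ∈ T, x * z = z * x) → z ∈ pCoreOf 2 P
  F2 : ∀ f ∈ pCoreOf 2 P, (∃ x ∈ T, x * f ≠ f * x) → ∀ y ∈ T, y * f = f * y → y ∈ pCoreOf 2 P
  F3 : ∀ x ∈ T, ∀ y ∈ T, x ∉ pCoreOf 2 P → y ∉ pCoreOf 2 P → x * x = 1 → y * y = 1 →
    ∀ t ∈ T, t * (x⁻¹ * y) = (x⁻¹ * y) * t
  card : Nat.card ↥P = 24 ∨ Nat.card ↥P = 48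
  card_T : Nat.card ↥T * 3 = Nat.card ↥P
  card_U : Nat.card ↥(pCoreOf 2 P) * 6 = Nat.card ↥P
  card_center : Nat.card ↥(T ⊓ centralizer (T : Set G)) * 12 = Nat.card ↥P
  center_P : Nat.card ↥P = 48 → ∃ c ∈ pCoreOf 2 P, c ≠ 1 ∧ ∀ x ∈ P, x * c = c * x

theorem XFIN_aux_facts {T P : Subgroup G} (hTP : T ≤ P) (hF : S4Facts ↥P (T.subgroupOf P)) :
    XFIN_aux_F T P := by
  have hmemU : ∀ q : ↥P, q ∈ pCore 2 ↥P → (q : G) ∈ pCoreOf 2 P := fun q hq => ⟨q, hq, rfl⟩
  have hmemT : ∀ (x : G) (hx : x ∈ T), (⟨x, hTP hx⟩ : ↥P) ∈ T.subgroupOf P := fun x hx =>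
    Subgroup.mem_subgroupOf.mpr hx
  refine ⟨?_, ?_, ?_, ?_, ?_, ?_, hF.card, ?_, ?_, ?_, ?_⟩
  · rintro _ ⟨q, hq, rfl⟩
    exact Subgroup.mem_subgroupOf.mp (hF.U_le hq)
  · rintro _ ⟨a, ha, rfl⟩ _ ⟨b, hb, rfl⟩
    exact congrArg Subtype.val (hF.U_comm a ha b hb)
  · rintro _ ⟨a, ha, rfl⟩
    exact congrArg Subtype.val (hF.U_sq a ha)
  · intro z hz hc
    refine hmemU ⟨z, hTP hz⟩ (hF.center_le _ (hmemT z hz) ?_)
    intro x hx
    exact Subtype.ext (hc (x : G) (Subgroup.mem_subgroupOf.mp hx))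
  · rintro _ ⟨q, hq, rfl⟩ ⟨x, hx, hxq⟩ y hy hyq
    refine hmemU ⟨y, hTP hy⟩ (hF.F2 q hq ⟨⟨x, hTP hx⟩, hmemT x hx, ?_⟩ _ (hmemT y hy) ?_)
    · intro heq
      exact hxq (congrArg Subtype.val heq)
    · exact Subtype.ext hyq
  · intro x hx y hy hxU hyU hx2 hy2 t ht
    have h := hF.F3 ⟨x, hTP hx⟩ (hmemT x hx) ⟨y, hTP hy⟩ (hmemT y hy)
      (fun h => hxU (hmemU _ h)) (fun h => hyU (hmemU _ h)) (Subtype.ext hx2) (Subtype.ext hy2)
      ⟨t, hTP ht⟩ (hmemT t ht)
    exact congrArg Subtype.val h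
  · have h1 : Nat.card ↥(T.subgroupOf P) = Nat.card ↥T :=
      Nat.card_congr (Subgroup.subgroupOfEquivOfLe hTP).toEquiv
    rw [← h1]; exact hF.card_T
  · have h1 : Nat.card ↥(pCoreOf 2 P) = Nat.card ↥(pCore 2 ↥P) := by
      unfold pCoreOf
      exact Subgroup.card_map_of_injective P.subtype_injective
    rw [h1]; exact hF.card_U
  · have h1 : T ⊓ centralizer (T : Set G) =
        (T.subgroupOf P ⊓ centralizer ((T.subgroupOf P : Subgroup ↥P) : Set ↥P)).map P.subtype := by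
      ext z
      constructor
      · intro hz
        have hzT : z ∈ T := hz.1
        have hzc : z ∈ centralizer (T : Set G) := hz.2
        refine ⟨⟨z, hTP hzT⟩, Subgroup.mem_inf.mpr ⟨hmemT z hzT, ?_⟩, rfl⟩
        rw [mem_centralizer_iff]
        intro x hx
        exact Subtype.ext (mem_centralizer_iff.mp hzc (x : G) (Subgroup.mem_subgroupOf.mp hx))
      · rintro ⟨q, hq, rfl⟩
        have hq1 : q ∈ T.subgroupOf P := hq.1
        have hq2 : q ∈ centralizer ((T.subgroupOf P : Subgroup ↥P) : Set ↥P) := hq.2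
        refine Subgroup.mem_inf.mpr ⟨Subgroup.mem_subgroupOf.mp hq1, ?_⟩
        rw [mem_centralizer_iff]
        intro x hx
        have hx' : x ∈ T := hx
        exact congrArg Subtype.val (mem_centralizer_iff.mp hq2 ⟨x, hTP hx'⟩ (hmemT x hx'))
    rw [h1, Subgroup.card_map_of_injective P.subtype_injective]
    exact hF.card_center
  · intro h48
    obtain ⟨c, hc, hc1, hcU⟩ := hF.center_X h48
    refine ⟨(c : G), hmemU c hcU, ?_, ?_⟩
    · intro h
      exact hc1 (Subtype.ext h)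
    · intro x hx
      exact congrArg Subtype.val (Subgroup.mem_center_iff.mp hc ⟨x, hx⟩)

theorem XFIN_aux_mem_cj {n x : G} {H : Subgroup G} :
    x ∈ H.map (MulAut.conj n).toMonoidHom ↔ n⁻¹ * x * n ∈ H := by
  constructor
  · rintro ⟨y, hy, rfl⟩
    simpa [MulAut.conj_apply, mul_assoc] using hy
  · intro h
    exact ⟨n⁻¹ * x * n, h, by simp [MulAut.conj_apply, mul_assoc]⟩

theorem XFIN [Finite G] (S' : Sylow 2 G) {T' P' V : Subgroup G} (hT'S' : T' ≤ (S' : Subgroup G))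
    (hne : T' ≠ (S' : Subgroup G)) (hP' : IsMaximalTwoLocal P') (hT'P' : IsSylowTwoIn T' P')
    (hiso : IsS4Type ↥P') (hVS : V ≤ (S' : Subgroup G))
    (hVn : (S' : Subgroup G) ≤ normalizer (V : Set G)) (hVsq : ∀ v ∈ V, v * v = 1)
    (hV4 : 4 ≤ Nat.card ↥V)
    (hZV : ∃ z ∈ V, z ≠ 1 ∧ ∀ s ∈ (S' : Subgroup G), s * z = z * s)
    (hVconj : Nat.card ↥V = 4 → ∀ a ∈ V, ∀ b ∈ V, a ≠ 1 → b ≠ 1 → ∃ l : G, b = l * a * l⁻¹) :
    False := by
  haveI : Fact (Nat.Prime 2) := ⟨Nat.prime_two⟩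
  have hS2 : IsPGroup 2 ↥(S' : Subgroup G) := S'.isPGroup'
  have hTP : T' ≤ P' := hT'P'.1
  -- the Sylow subgroup of `↥P'`
  have h2 : ¬ 2 ∣ (T'.subgroupOf P').index := fun hd =>
    (Nat.not_even_iff_odd.mpr hT'P'.2.2) (even_iff_two_dvd.mpr hd)
  have hT2 : IsPGroup 2 (T'.subgroupOf P') := hT'P'.2.1.comap_subtype
  have hF0 := FIN hiso (hT2.toSylow h2)
  rw [hT2.toSylow_coe h2] at hF0
  have hF := XFIN_aux_facts hTP hF0
  have hUT := hF.UT
  have hU2 : IsPGroup 2 ↥(pCoreOf 2 P') := Cfsg.Agent.Helper14.pCoreOf_isPGroup 2 P'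
  have hUne : pCoreOf 2 P' ≠ ⊥ := by
    intro h
    have h1 := hF.card_U
    rw [h, Subgroup.card_bot] at h1
    rcases hF.card with h24 | h48 <;> omega
  have hPN : P' ≤ normalizer ((pCoreOf 2 P' : Subgroup G) : Set G) :=
    Cfsg.Agent.Helper14.le_normalizer_pCoreOf 2 P'
  have hNU : normalizer ((pCoreOf 2 P' : Subgroup G) : Set G) = P' :=
    hP'.2 _ ⟨pCoreOf 2 P', hU2, hUne, rfl⟩ hPN
  -- `N_S(U) = T`
  have hNS : ∀ s ∈ (S' : Subgroup G), s ∈ normalizer ((pCoreOf 2 P' : Subgroup G) : Set G) →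
      s ∈ T' := by
    intro s hs hsN
    rw [hNU] at hsN
    have hY2 : IsPGroup 2 ↥((S' : Subgroup G) ⊓ P') := hS2.to_le inf_le_left
    have hTY : T' ≤ (S' : Subgroup G) ⊓ P' := le_inf hT'S' hTP
    have hcard := XFIN_aux_sylow_card hT'P' (inf_le_right : (S' : Subgroup G) ⊓ P' ≤ P') hY2
    have heq : T' = (S' : Subgroup G) ⊓ P' := Subgroup.eq_of_le_of_card_ge hTY hcard
    rw [heq]; exact ⟨hs, hsN⟩
  -- the element `t`
  have hTltS : T' < (S' : Subgroup G) := lt_of_le_of_ne hT'S' hne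
  obtain ⟨t, htS, htN, htT⟩ := XFIN_aux_grow hS2 hTltS
  have htU : t ∉ normalizer ((pCoreOf 2 P' : Subgroup G) : Set G) := fun h => htT (hNS t htS h)
  have hconjT : ∀ x ∈ T', t * x * t⁻¹ ∈ T' := fun x hx => (mem_normalizer_iff.mp htN x).mp hx
  have hconjT' : ∀ x ∈ T', t⁻¹ * x * t ∈ T' := by
    intro x hx
    apply (mem_normalizer_iff.mp htN (t⁻¹ * x * t)).mpr
    have e : t * (t⁻¹ * x * t) * t⁻¹ = x := by group
    rw [e]; exact hx
  -- `U''`
  have hU''T : (pCoreOf 2 P').map (MulAut.conj t).toMonoidHom ≤ T' := by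
    intro y hy
    rw [XFIN_aux_mem_cj] at hy
    have := hconjT _ (hUT hy)
    have e : t * (t⁻¹ * y * t) * t⁻¹ = y := by group
    rwa [e] at this
  have hU''ne : ¬ (pCoreOf 2 P').map (MulAut.conj t).toMonoidHom ≤ pCoreOf 2 P' := by
    intro hle
    apply htU
    apply XFIN_aux_mem_normalizer
    intro x hx
    apply hle
    rw [XFIN_aux_mem_cj]
    have e : t⁻¹ * (t * x * t⁻¹) * t = x := by group
    rw [e]; exact hx
  have hU''sq : ∀ y ∈ (pCoreOf 2 P').map (MulAut.conj t).toMonoidHom, y * y = 1 := by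
    intro y hy
    rw [XFIN_aux_mem_cj] at hy
    have := hF.sq _ hy
    calc y * y = t * ((t⁻¹ * y * t) * (t⁻¹ * y * t)) * t⁻¹ := by group
      _ = 1 := by rw [this]; group
  have hU''comm : ∀ a ∈ (pCoreOf 2 P').map (MulAut.conj t).toMonoidHom,
      ∀ b ∈ (pCoreOf 2 P').map (MulAut.conj t).toMonoidHom, a * b = b * a := by
    intro a ha b hb
    rw [XFIN_aux_mem_cj] at ha hb
    have := hF.comm _ ha _ hb
    calc a * b = t * ((t⁻¹ * a * t) * (t⁻¹ * b * t)) * t⁻¹ := by group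
      _ = t * ((t⁻¹ * b * t) * (t⁻¹ * a * t)) * t⁻¹ := by rw [this]
      _ = b * a := by group
  have hZt : ∀ z ∈ T', (∀ x ∈ T', x * z = z * x) →
      z ∈ pCoreOf 2 P' ∧ z ∈ (pCoreOf 2 P').map (MulAut.conj t).toMonoidHom := by
    intro z hz hc
    refine ⟨hF.center_le z hz hc, ?_⟩
    rw [XFIN_aux_mem_cj]
    apply hF.center_le _ (hconjT' z hz)
    intro x hx
    have := hc _ (hconjT x hx)
    calc x * (t⁻¹ * z * t) = t⁻¹ * ((t * x * t⁻¹) * z) * t := by group
      _ = t⁻¹ * (z * (t * x * t⁻¹)) * t := by rw [this]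
      _ = t⁻¹ * z * t * x := by group
  -- (X4a) `V ≤ T'`
  have hVT : V ≤ T' := by
    by_contra hcon
    have hTV : T' ≤ normalizer (V : Set G) := hT'S'.trans hVn
    have hYS : V ⊔ T' ≤ (S' : Subgroup G) := sup_le hVS hT'S'
    have hY2 : IsPGroup 2 ↥(V ⊔ T') := hS2.to_le hYS
    have hlt : T' < V ⊔ T' := by
      refine lt_of_le_of_ne le_sup_right ?_
      intro h
      apply hcon
      rw [h]; exact le_sup_left
    obtain ⟨x, hxY, hxN, hxT⟩ := XFIN_aux_grow hY2 hlt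
    have hxY' : x ∈ ((V ⊔ T' : Subgroup G) : Set G) := hxY
    rw [Subgroup.coe_mul_of_right_le_normalizer_left V T' hTV] at hxY'
    obtain ⟨v, hv, t₀, ht₀, rfl⟩ := hxY'
    have hv : v ∈ V := hv
    have ht₀ : t₀ ∈ T' := ht₀
    have hvN : v ∈ normalizer (T' : Set G) := by
      have := (normalizer (T' : Set G)).mul_mem hxN
        ((normalizer (T' : Set G)).inv_mem (Subgroup.le_normalizer ht₀))
      simpa using this
    have hvT : v ∉ T' := fun h => hxT (T'.mul_mem h ht₀)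
    have hvS : v ∈ (S' : Subgroup G) := hVS hv
    have hvU : v ∉ normalizer ((pCoreOf 2 P' : Subgroup G) : Set G) := fun h => hvT (hNS v hvS h)
    have hex : ∃ f ∈ pCoreOf 2 P', v * f * v⁻¹ ∉ pCoreOf 2 P' := by
      by_contra hall
      push Not at hall
      exact hvU (XFIN_aux_mem_normalizer _ v hall)
    obtain ⟨f, hfU, hf'U⟩ := hex
    have hfT : f ∈ T' := hUT hfU
    have hf'T : v * f * v⁻¹ ∈ T' := (mem_normalizer_iff.mp hvN f).mp hfT
    have hfnc : ∃ x ∈ T', x * f ≠ f * x := by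
      by_contra hall
      push Not at hall
      apply hf'U
      apply hF.center_le _ hf'T
      intro x hx
      have hx' : v⁻¹ * x * v ∈ T' := by
        apply (mem_normalizer_iff.mp hvN (v⁻¹ * x * v)).mpr
        have e : v * (v⁻¹ * x * v) * v⁻¹ = x := by group
        rw [e]; exact hx
      have := hall _ hx'
      calc x * (v * f * v⁻¹) = v * ((v⁻¹ * x * v) * f) * v⁻¹ := by group
        _ = v * (f * (v⁻¹ * x * v)) * v⁻¹ := by rw [this]
        _ = v * f * v⁻¹ * x := by group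
    have hw : f⁻¹ * (v * f * v⁻¹) ∈ V := by
      have h1 : f⁻¹ * v * f⁻¹⁻¹ ∈ V :=
        (mem_normalizer_iff.mp (hVn (hT'S' (T'.inv_mem hfT))) v).mp hv
      have := V.mul_mem h1 (V.inv_mem hv)
      simpa [mul_assoc] using this
    have hw2 := hVsq _ hw
    have hf2 := hF.sq f hfU
    have hf'2 : (v * f * v⁻¹) * (v * f * v⁻¹) = 1 := by
      calc (v * f * v⁻¹) * (v * f * v⁻¹) = v * (f * f) * v⁻¹ := by group
        _ = 1 := by rw [hf2]; group
    have hcomm : (v * f * v⁻¹) * f = f * (v * f * v⁻¹) := by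
      have hfinv : f⁻¹ = f := inv_eq_of_mul_eq_one_left hf2
      have hf'inv : (v * f * v⁻¹)⁻¹ = v * f * v⁻¹ := inv_eq_of_mul_eq_one_left hf'2
      rw [hfinv] at hw2
      have h3 : (f * (v * f * v⁻¹))⁻¹ = f * (v * f * v⁻¹) := inv_eq_of_mul_eq_one_left hw2
      rw [mul_inv_rev, hfinv, hf'inv] at h3
      exact h3
    exact hf'U (hF.F2 f hfU hfnc _ hf'T hcomm)
  -- (X4b) `V ≤ Z(T')`
  obtain ⟨y₀, hy₀U'', hy₀U⟩ := SetLike.not_le_iff_exists.mp hU''ne
  have hy₀T := hU''T hy₀U''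
  have hy₀2 := hU''sq y₀ hy₀U''
  have hA : ∀ y ∈ T', y * y = 1 →
      y ∈ pCoreOf 2 P' ∨ y ∈ (pCoreOf 2 P').map (MulAut.conj t).toMonoidHom := by
    intro y hy hy2
    by_cases hyU : y ∈ pCoreOf 2 P'
    · exact Or.inl hyU
    · right
      have hz := hF.F3 y₀ hy₀T y hy hy₀U hyU hy₀2 hy2
      have hzT : y₀⁻¹ * y ∈ T' := T'.mul_mem (T'.inv_mem hy₀T) hy
      have h3 := (hZt _ hzT hz).2
      have e : y = y₀ * (y₀⁻¹ * y) := by group
      rw [e]; exact Subgroup.mul_mem _ hy₀U'' h3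
  have hB : V ≤ pCoreOf 2 P' ∨ V ≤ (pCoreOf 2 P').map (MulAut.conj t).toMonoidHom := by
    by_contra hcon
    push Not at hcon
    obtain ⟨h1, h2⟩ := hcon
    obtain ⟨v₁, hv₁, hv₁U⟩ := SetLike.not_le_iff_exists.mp h1
    obtain ⟨v₂, hv₂, hv₂U''⟩ := SetLike.not_le_iff_exists.mp h2
    have hv₁U'' := (hA v₁ (hVT hv₁) (hVsq v₁ hv₁)).resolve_left hv₁U
    have hv₂U := (hA v₂ (hVT hv₂) (hVsq v₂ hv₂)).resolve_right hv₂U''
    have h12 : v₁ * v₂ ∈ V := V.mul_mem hv₁ hv₂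
    rcases hA _ (hVT h12) (hVsq _ h12) with h | h
    · apply hv₁U
      have := Subgroup.mul_mem _ h (Subgroup.inv_mem _ hv₂U)
      simpa using this
    · apply hv₂U''
      have := Subgroup.mul_mem _ (Subgroup.inv_mem _ hv₁U'') h
      simpa using this
  have hC : V ≤ pCoreOf 2 P' ⊓ (pCoreOf 2 P').map (MulAut.conj t).toMonoidHom := by
    have htV := hVn htS
    rcases hB with h | h
    · refine le_inf h ?_
      intro v hv
      rw [XFIN_aux_mem_cj]
      apply h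
      apply (mem_normalizer_iff.mp htV (t⁻¹ * v * t)).mpr
      have e : t * (t⁻¹ * v * t) * t⁻¹ = v := by group
      rw [e]; exact hv
    · refine le_inf ?_ h
      intro v hv
      have h1 : t * v * t⁻¹ ∈ V := (mem_normalizer_iff.mp htV v).mp hv
      have h2 := h h1
      rw [XFIN_aux_mem_cj] at h2
      have e : t⁻¹ * (t * v * t⁻¹) * t = v := by group
      rwa [e] at h2
  have hsup : pCoreOf 2 P' ⊔ (pCoreOf 2 P').map (MulAut.conj t).toMonoidHom = T' := by
    have hle : pCoreOf 2 P' ⊔ (pCoreOf 2 P').map (MulAut.conj t).toMonoidHom ≤ T' :=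
      sup_le hUT hU''T
    have hd1 : Nat.card ↥(pCoreOf 2 P') ∣
        Nat.card ↥(pCoreOf 2 P' ⊔ (pCoreOf 2 P').map (MulAut.conj t).toMonoidHom) :=
      Subgroup.card_dvd_of_le le_sup_left
    have hd2 : Nat.card ↥(pCoreOf 2 P' ⊔ (pCoreOf 2 P').map (MulAut.conj t).toMonoidHom) ∣
        Nat.card ↥T' := Subgroup.card_dvd_of_le hle
    have hcT : Nat.card ↥T' = 2 * Nat.card ↥(pCoreOf 2 P') := by
      have h1 := hF.card_T
      have h2 := hF.card_U
      omega
    obtain ⟨a, ha⟩ := hd1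
    obtain ⟨b, hb⟩ := hd2
    have hUpos : 0 < Nat.card ↥(pCoreOf 2 P') := Nat.card_pos
    have hab : a * b = 2 := by
      have h3 : Nat.card ↥(pCoreOf 2 P') * (a * b) = Nat.card ↥(pCoreOf 2 P') * 2 := by
        rw [← mul_assoc, ← ha, ← hb, hcT]; ring
      exact Nat.eq_of_mul_eq_mul_left hUpos h3
    have ha12 : a = 1 ∨ a = 2 := (Nat.dvd_prime Nat.prime_two).mp ⟨b, hab.symm⟩
    rcases ha12 with rfl | rfl
    · exfalso
      apply hU''ne
      have h3 : pCoreOf 2 P' = pCoreOf 2 P' ⊔ (pCoreOf 2 P').map (MulAut.conj t).toMonoidHom :=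
        Subgroup.eq_of_le_of_card_ge le_sup_left (by rw [ha, mul_one])
      exact le_sup_right.trans h3.ge
    · exact Subgroup.eq_of_le_of_card_ge hle (by rw [hcT, ha, mul_comm])
  have hVZ : V ≤ T' ⊓ centralizer (T' : Set G) := by
    intro v hv
    have hvC := hC hv
    have hvU : v ∈ pCoreOf 2 P' := hvC.1
    have hvU'' : v ∈ (pCoreOf 2 P').map (MulAut.conj t).toMonoidHom := hvC.2
    refine Subgroup.mem_inf.mpr ⟨hVT hv, ?_⟩
    have hle : pCoreOf 2 P' ⊔ (pCoreOf 2 P').map (MulAut.conj t).toMonoidHom ≤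
        centralizer ({v} : Set G) := by
      apply sup_le
      · intro u hu
        rw [mem_centralizer_iff]
        intro z hz
        rw [Set.mem_singleton_iff] at hz
        subst hz
        exact hF.comm z hvU u hu
      · intro u hu
        rw [mem_centralizer_iff]
        intro z hz
        rw [Set.mem_singleton_iff] at hz
        subst hz
        exact hU''comm z hvU'' u hu
    rw [mem_centralizer_iff]
    intro x hx
    have hx' : x ∈ pCoreOf 2 P' ⊔ (pCoreOf 2 P').map (MulAut.conj t).toMonoidHom := by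
      rw [hsup]; exact hx
    exact (mem_centralizer_iff.mp (hle hx') v rfl).symm
  -- (X5)
  have hcardV : Nat.card ↥V ≤ Nat.card ↥(T' ⊓ centralizer (T' : Set G)) :=
    Subgroup.card_le_of_le hVZ
  rcases hF.card with h24 | h48
  · have := hF.card_center
    omega
  · have hZ4 : Nat.card ↥(T' ⊓ centralizer (T' : Set G)) = 4 := by
      have := hF.card_center
      omega
    have hV4' : Nat.card ↥V = 4 := by omega
    have hVeq : V = T' ⊓ centralizer (T' : Set G) :=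
      Subgroup.eq_of_le_of_card_ge hVZ (by omega)
    obtain ⟨c, hcU, hc1, hcP⟩ := hF.center_P h48
    have hcV : c ∈ V := by
      rw [hVeq]
      refine Subgroup.mem_inf.mpr ⟨hUT hcU, ?_⟩
      rw [mem_centralizer_iff]
      intro x hx
      exact hcP x (hTP hx)
    obtain ⟨z, hzV, hz1, hzS⟩ := hZV
    obtain ⟨l, hl⟩ := hVconj hV4' z hzV c hcV hz1 hc1
    have hzp2 : IsPGroup 2 ↥(zpowers c) := hU2.to_le (by rw [zpowers_le]; exact hcU)
    have hzpne : zpowers c ≠ ⊥ := by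
      rw [Ne, zpowers_eq_bot]; exact hc1
    have hconjc : ∀ g : G, g * c = c * g → ∀ x ∈ zpowers c, g * x * g⁻¹ ∈ zpowers c := by
      intro g hgc x hx
      obtain ⟨k, rfl⟩ := mem_zpowers_iff.mp hx
      have hcomm : Commute g (c ^ k) := Commute.zpow_right hgc k
      have e : g * c ^ k * g⁻¹ = c ^ k := by rw [hcomm.eq]; group
      rw [e]; exact hx
    have hPNc : P' ≤ normalizer ((zpowers c : Subgroup G) : Set G) := by
      apply XFIN_aux_le_normalizer
      intro g hg x hx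
      exact hconjc g (hcP g hg) x hx
    have hNc : normalizer ((zpowers c : Subgroup G) : Set G) = P' :=
      hP'.2 _ ⟨zpowers c, hzp2, hzpne, rfl⟩ hPNc
    have hSlP : (S' : Subgroup G).map (MulAut.conj l).toMonoidHom ≤ P' := by
      rintro _ ⟨s, hs, rfl⟩
      rw [← hNc]
      have hcomm : (l * s * l⁻¹) * c = c * (l * s * l⁻¹) := by
        rw [hl]
        have := hzS s hs
        calc l * s * l⁻¹ * (l * z * l⁻¹) = l * (s * z) * l⁻¹ := by group
          _ = l * (z * s) * l⁻¹ := by rw [this]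
          _ = l * z * l⁻¹ * (l * s * l⁻¹) := by group
      show (MulAut.conj l) s ∈ _
      rw [MulAut.conj_apply]
      exact XFIN_aux_mem_normalizer _ _ (hconjc _ hcomm)
    have hSl2 : IsPGroup 2 ↥((S' : Subgroup G).map (MulAut.conj l).toMonoidHom) := hS2.map _
    have hcardSl : Nat.card ↥((S' : Subgroup G).map (MulAut.conj l).toMonoidHom) =
        Nat.card ↥(S' : Subgroup G) :=
      Subgroup.card_map_of_injective (MulAut.conj l).injective
    have h1 := XFIN_aux_sylow_card hT'P' hSlP hSl2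
    have h2 : Nat.card ↥(S' : Subgroup G) ≤ Nat.card ↥T' := by rw [← hcardSl]; exact h1
    exact hne (Subgroup.eq_of_le_of_card_ge hT'S' h2)

end Cfsg.Agent.S2951P
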