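import Mathlib
import Cfsg.Agent.Helper25.S2981BDefs
import Cfsg.Agent.Helper28.S3000Defs
import Cfsg.Agent.Helper20.S3000PKG3
import Cfsg.Agent.Helper10.S3000PKG2

/-! S2981, pieces PKGT and NCONJ of the board `s2981pieces`. -/

set_option autoImplicit false

namespace Cfsg.Agent.S2981P

open Cfsg.Agent.S2789P Cfsg.Agent.S2999P Cfsg.Agent.S3000P
open scoped commutatorElement

variable {G : Type*} [Group G] [Finite G] {p : ℕ} [Fact p.Prime] {V P : Subgroup G} {T : Sylow p ↥P} {M : Subgroup ↥P} {q : ℕ}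

/-- PKGT (S): `PKG3`, and conjugation of a `T`-package by `t ∈ T` (`Pack.conj`, `Based.conj`, `cjs t (MM M) = MM M`). -/
theorem PkgT.exists (Hy : Hyp p V P T M) (hq : MinQ p V P q) : ∃ A E : Subgroup G, PkgT p V P T M q A E := by
  obtain ⟨A, E, hAT, hK, hB⟩ := PKG3 Hy hq
  exact ⟨A, E, hAT, hK, hB⟩

theorem PkgT.conj (Hy : Hyp p V P T M) {A E : Subgroup G} (X : PkgT p V P T M q A E) {t : G} (ht : t ∈ TT T) :
    PkgT p V P T M q (cjs t A) (cjs t E) := by
  have hTP : TT T ≤ P := Subgroup.map_subtype_le _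
  have hTM : TT T ≤ MM M := Subgroup.map_mono Hy.hTM
  refine ⟨cj_le_of_mem ht X.hAT, Pack.conj Hy X.hK (hTP ht), ?_⟩
  have h := Based.conj X.hB t
  rw [cj_self (hTM ht)] at h
  exact h

/-- NCONJ (S) -/
theorem Ncomp_conj {Tg E : Subgroup G} {t : G} (ht : t ∈ Tg) : Ncomp Tg (cjs t E) = Ncomp Tg E := by
  apply le_antisymm
  · refine Ncomp_le fun s hs => ?_
    rw [cj_mul]
    exact le_Ncomp (Tg.mul_mem hs ht)
  · refine Ncomp_le fun s hs => ?_
    have h : cjs s E = cjs (s * t⁻¹) (cjs t E) := by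
      rw [cj_mul, inv_mul_cancel_right]
    rw [h]
    exact le_Ncomp (Tg.mul_mem hs (Tg.inv_mem ht))

theorem Ncomp_conj_self {Tg E : Subgroup G} {t : G} (ht : t ∈ Tg) : cjs t (Ncomp Tg E) = Ncomp Tg E := by
  have key : ∀ t ∈ Tg, cjs t (Ncomp Tg E) ≤ Ncomp Tg E := by
    intro t ht
    have h0 : cjs t (Ncomp Tg E) = ⨆ s : ↥Tg, cjs t (cjs (s : G) E) := by
      unfold Ncomp cjs
      rw [Subgroup.map_iSup]
    rw [h0]
    refine iSup_le fun s => ?_
    rw [cj_mul]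
    exact le_Ncomp (Tg.mul_mem ht s.2)
  apply le_antisymm (key t ht)
  have h := cj_mono (g := t) (key t⁻¹ (Tg.inv_mem ht))
  rwa [cj_cj_inv] at h

end Cfsg.Agent.S2981P
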