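import Mathlib
import Cfsg.Agent.Helper25.S2981BDefs
import Cfsg.Agent.Helper28.S3000Defs
import Cfsg.Agent.Helper28.S2981PKGT
import Cfsg.Agent.Helper2.S3000UT

/-! S2981, pieces GENN, NNORM, CTN of the board `s2981pieces`. -/

set_option autoImplicit false

namespace Cfsg.Agent.S2981P

open Cfsg.Agent.S2789P Cfsg.Agent.S2999P Cfsg.Agent.S3000P
open scoped commutatorElement

variable {G : Type*} [Group G] [Finite G] {p : ℕ} [Fact p.Prime] {V P : Subgroup G} {T : Sylow p ↥P} {M : Subgroup ↥P} {q : ℕ}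

variable {A E : Subgroup G}

/-- `E ≤ N` -/
theorem GENN_aux_E_le {Tg E : Subgroup G} : E ≤ Ncomp Tg E := by
  have h := le_Ncomp (Tg := Tg) (E := E) Tg.one_mem
  rwa [cj_one] at h

/-- `N ≤ P` -/
theorem GENN_aux_N_le (X : PkgT p V P T M q A E) : Ncomp (TT T) E ≤ P := by
  have hTP : TT T ≤ P := Subgroup.map_subtype_le _
  exact Ncomp_le fun t ht => cj_le_of_mem (hTP ht) X.hK.hEP

/-- GENN (S/M): `N T = P` (the GEN part of `ASMCORE`: `E ≰ M` and `p`-minimality). -/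
theorem GENN (Hy : Hyp p V P T M) (X : PkgT p V P T M q A E) : Ncomp (TT T) E ⊔ TT T = P := by
  have hTP : TT T ≤ P := Subgroup.map_subtype_le _
  apply le_antisymm
  · exact sup_le (GENN_aux_N_le X) hTP
  · by_contra hcon
    have hne : (Ncomp (TT T) E ⊔ TT T).subgroupOf P ≠ ⊤ := by
      intro h; exact hcon (Subgroup.subgroupOf_eq_top.mp h)
    have hT' : (T : Subgroup ↥P) ≤ (Ncomp (TT T) E ⊔ TT T).subgroupOf P := by
      intro x hx
      rw [Subgroup.mem_subgroupOf]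
      exact (le_sup_right : TT T ≤ Ncomp (TT T) E ⊔ TT T) (Subgroup.mem_map_of_mem _ hx)
    have hle : (Ncomp (TT T) E ⊔ TT T).subgroupOf P ≤ M := by
      rcases IsCoatomic.eq_top_or_exists_le_coatom ((Ncomp (TT T) E ⊔ TT T).subgroupOf P) with h | ⟨M', hM', hHM'⟩
      · exact absurd h hne
      · have := (Hy.hmin T).2.unique ⟨hM', hT'.trans hHM'⟩ ⟨Hy.hM, Hy.hTM⟩
        rw [← this]; exact hHM'
    apply X.hB.hEM
    intro x hx
    have hxH : x ∈ Ncomp (TT T) E ⊔ TT T :=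
      (le_sup_left : Ncomp (TT T) E ≤ Ncomp (TT T) E ⊔ TT T) (GENN_aux_E_le hx)
    have hxM : (⟨x, X.hK.hEP hx⟩ : ↥P) ∈ M := hle (Subgroup.mem_subgroupOf.mpr hxH)
    exact ⟨⟨x, X.hK.hEP hx⟩, hxM, rfl⟩

omit [Finite G] in
/-- a subgroup `S` all of whose elements conjugate `K` into itself normalises `K` -/
theorem NNORM_aux_le_normalizer {K S : Subgroup G} (h : ∀ s ∈ S, ∀ x ∈ K, s * x * s⁻¹ ∈ K) :
    S ≤ Subgroup.normalizer (K : Set G) := by
  intro s hs
  rw [Subgroup.mem_normalizer_iff]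
  intro x
  refine ⟨h s hs x, fun hx => ?_⟩
  have h1 := h s⁻¹ (S.inv_mem hs) _ hx
  have e : s⁻¹ * (s * x * s⁻¹) * s⁻¹⁻¹ = x := by group
  rwa [e] at h1

omit [Finite G] in
/-- `cjs s K = K` for all `s ∈ S` puts `S` in the normaliser of `K` -/
theorem NNORM_aux_le_normalizer_of_cj {K S : Subgroup G} (h : ∀ s ∈ S, cjs s K = K) :
    S ≤ Subgroup.normalizer (K : Set G) := by
  apply NNORM_aux_le_normalizer
  intro s hs x hx
  have h1 : s * x * s⁻¹ ∈ cjs s K := cj_mem_conj.mpr hx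
  rwa [h s hs] at h1

/-- NNORM (S/M): `N ⊴ P` (the normaliser of `N` contains `N` and `T`). -/
theorem NNORM (Hy : Hyp p V P T M) (X : PkgT p V P T M q A E) : ∀ x ∈ P, cjs x (Ncomp (TT T) E) = Ncomp (TT T) E := by
  intro x hx
  apply cj_norm
  have h1 : Ncomp (TT T) E ⊔ TT T ≤ Subgroup.normalizer ((Ncomp (TT T) E : Subgroup G) : Set G) :=
    sup_le Subgroup.le_normalizer (NNORM_aux_le_normalizer_of_cj fun t ht => Ncomp_conj_self ht)
  rw [GENN Hy X] at h1
  exact h1 hx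

/-- NNORMC (M): `N` normalises the component `E` (distinct `T`-conjugates commute: `COMM`). -/
theorem NNORMC (Hy : Hyp p V P T M) (hq : MinQ p V P q) (hq2 : 2 < q) (X : PkgT p V P T M q A E) :
    ∀ n ∈ Ncomp (TT T) E, cjs n E = E := by
  intro n hn
  apply cj_norm
  have hcomm := COMM Hy hq hq2 X.hK X.hB X.hAT
  have h1 : Ncomp (TT T) E ≤ Subgroup.normalizer ((E : Subgroup G) : Set G) := by
    refine Ncomp_le fun t ht => ?_
    by_cases hE : cjs t E = E
    · rw [hE]; exact Subgroup.le_normalizer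
    · apply NNORM_aux_le_normalizer
      intro y hy x hx
      have := hcomm t ht hE x hx y hy
      have e : y * x * y⁻¹ = x := by rw [← this]; group
      rw [e]; exact hx
  exact h1 hn

/-- a subgroup of `T` normalised by `P` is trivial (`O_p(P) = 1`) -/
theorem CTN_aux_normal_p_trivial (Hy : Hyp p V P T M) {J : Subgroup G} (hJT : J ≤ TT T)
    (hnorm : P ≤ Subgroup.normalizer (J : Set G)) : J = ⊥ := by
  have hTP : TT T ≤ P := Subgroup.map_subtype_le _
  have hJn : (J.subgroupOf P).Normal := by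
    constructor
    intro n hn g
    rw [Subgroup.mem_subgroupOf] at hn ⊢
    have h2 := hnorm g.2
    rw [Subgroup.mem_normalizer_iff] at h2
    have := (h2 (n : G)).mp hn
    simpa using this
  have hTp : IsPGroup p ↥(TT T) := T.isPGroup'.map P.subtype
  have hJp : IsPGroup p ↥(J.subgroupOf P) := (hTp.to_le hJT).comap_subtype
  have h3 : J.subgroupOf P ≤ Cfsg.pCore p ↥P := le_sSup ⟨hJn, hJp⟩
  rw [Hy.hOp] at h3
  rw [eq_bot_iff]
  intro x hx
  have hxP : x ∈ P := hTP (hJT hx)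
  have h5 : (⟨x, hxP⟩ : ↥P) ∈ J.subgroupOf P := by rw [Subgroup.mem_subgroupOf]; exact hx
  have h6 := h3 h5
  rw [Subgroup.mem_bot] at h6 ⊢
  exact congrArg Subtype.val h6

/-- CTN (M): `C_T(N) = 1` (`T ⊓ C(N)` is a normal `p`-subgroup of `P = N T`, and `O_p(P) = 1`). -/
theorem CTN (Hy : Hyp p V P T M) (X : PkgT p V P T M q A E) {x : G} (hx : x ∈ TT T)
    (hc : ∀ n ∈ Ncomp (TT T) E, x * n = n * x) : x = 1 := by
  set N := Ncomp (TT T) E with hN
  set J : Subgroup G := TT T ⊓ Subgroup.centralizer ((N : Subgroup G) : Set G) with hJ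
  have hmemJ : ∀ y, y ∈ J ↔ y ∈ TT T ∧ ∀ n ∈ N, y * n = n * y := by
    intro y
    rw [hJ, Subgroup.mem_inf, Subgroup.mem_centralizer_iff]
    constructor
    · rintro ⟨h1, h2⟩; exact ⟨h1, fun n hn => (h2 n hn).symm⟩
    · rintro ⟨h1, h2⟩; exact ⟨h1, fun n hn => (h2 n hn).symm⟩
  have hNn : N ≤ Subgroup.normalizer (J : Set G) := by
    apply NNORM_aux_le_normalizer
    intro n hn y hy
    have h1 := ((hmemJ y).mp hy).2 n hn
    have e : n * y * n⁻¹ = y := by rw [← h1]; group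
    rw [e]; exact hy
  have hTn : TT T ≤ Subgroup.normalizer (J : Set G) := by
    apply NNORM_aux_le_normalizer
    intro t ht y hy
    obtain ⟨hyT, hyc⟩ := (hmemJ y).mp hy
    rw [hmemJ]
    refine ⟨(TT T).mul_mem ((TT T).mul_mem ht hyT) ((TT T).inv_mem ht), ?_⟩
    intro n hn
    have hn' : t⁻¹ * n * t ∈ N := by
      have h1 : n ∈ cjs t N := by rw [hN, Ncomp_conj_self ht]; exact hn
      exact cj_mem.mp h1
    have h2 := hyc _ hn'
    have e1 : t * y * t⁻¹ * n = t * (y * (t⁻¹ * n * t)) * t⁻¹ := by group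
    have e2 : n * (t * y * t⁻¹) = t * ((t⁻¹ * n * t) * y) * t⁻¹ := by group
    rw [e1, e2, h2]
  have hP : P ≤ Subgroup.normalizer (J : Set G) := by
    rw [← GENN Hy X]
    exact sup_le hNn hTn
  have hJbot := CTN_aux_normal_p_trivial Hy (inf_le_left : J ≤ TT T) hP
  have hxJ : x ∈ J := (hmemJ x).mpr ⟨hx, hc⟩
  have hxb : x ∈ (⊥ : Subgroup G) := hJbot ▸ hxJ
  exact Subgroup.mem_bot.mp hxb

end Cfsg.Agent.S2981P
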