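import Mathlib
import Cfsg.Agent.Helper25.S2981BDefs
import Cfsg.Agent.Helper28.S3000Defs
import Cfsg.Agent.Helper28.S3000TOOL
import Cfsg.Agent.Helper10.S3000PKG2
import Cfsg.Agent.Helper12.S3000LC
import Cfsg.Agent.Helper2.S3000Z1

/-! S2981, piece NORMA of the board `s2981pieces`: `x ∈ T` normalising `E` normalises `A`. -/

set_option autoImplicit false

namespace Cfsg.Agent.S2981P

open Cfsg.Agent.S2789P Cfsg.Agent.S2999P Cfsg.Agent.S3000P
open scoped commutatorElement

variable {G : Type*} [Group G] [Finite G] {p : ℕ} [Fact p.Prime] {V P : Subgroup G} {T : Sylow p ↥P} {M : Subgroup ↥P} {q : ℕ}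

variable {A E : Subgroup G}

/-- NORMA (M): `x ∈ T` normalising `E` normalises `A` (converse of `UT`). -/
theorem NORMA (Hy : Hyp p V P T M) (hq : MinQ p V P q) (hq2 : 2 < q) (X : PkgT p V P T M q A E)
    {x : G} (hx : x ∈ TT T) (hxE : cjs x E = E) : cjs x A = A := by
  by_contra hne
  have hTP : TT T ≤ P := Subgroup.map_subtype_le _
  have hxP : x ∈ P := hTP hx
  obtain ⟨H, w, K⟩ := TOOL Hy hq2 X.hK
  have hK' : Pack p V P q (cjs x A) (cjs x E) := Pack.conj Hy X.hK hxP
  obtain ⟨H', w', K'⟩ := TOOL Hy hq2 hK'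
  have hA : InA p V P q A := X.hK.hA
  have hD : InA p V P q (cjs x A) := hK'.hA
  have hTp : IsPGroup p ↥(TT T) := T.isPGroup'.map P.subtype
  have hQ : IsPGroup p ↥(A ⊔ cjs x A) := hTp.to_le (sup_le X.hAT (cj_le_of_mem hx X.hAT))
  have hc : ∀ a ∈ A, ∀ d ∈ cjs x A, a * d = d * a :=
    LC Hy hA.le hA.so hD.le hD.so (hA.card.trans hD.card.symm) hQ
  have h1 : ∀ d ∈ cjs x A, ∀ e ∈ E, d * e = e * d := Z1 Hy hq K hD hne hc
  have hw'E : w' ∈ E := by
    have := K'.hwE
    rwa [hxE] at this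
  apply K'.hwA
  ext y
  rw [cj_mem]
  have hwc : ∀ d ∈ cjs x A, w' * d = d * w' := fun d hd => (h1 d hd w' hw'E).symm
  constructor
  · intro hy
    have h2 := hwc _ hy
    have e : y = w'⁻¹ * y * w' := by
      have : w' * (w'⁻¹ * y * w') = y * w' := by group
      rw [h2] at this
      exact (mul_right_cancel this).symm
    rw [e]; exact hy
  · intro hy
    have h2 := hwc _ hy
    have e : w'⁻¹ * y * w' = y := by
      have : w'⁻¹ * y * w' = w'⁻¹ * (y * w') := by group
      rw [this, ← h2]; group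
    rw [e]; exact hy

end Cfsg.Agent.S2981P
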