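import Mathlib
import Cfsg.Prelude.Def_LieTypeDatum

set_option autoImplicit false
set_option linter.unusedSectionVars false

/-! Abstract lemmas about `Cfsg.splitClassCount`. -/

namespace Cfsg.Agent.Helper28.SCC

variable {X : Type*} [Group X]

theorem conj_refl (K : Subgroup X) (x : X) : Cfsg.IsConjUnder K x x :=
  ⟨1, K.one_mem, by simp⟩

theorem conj_symm (K : Subgroup X) {x y : X} (h : Cfsg.IsConjUnder K x y) :
    Cfsg.IsConjUnder K y x := by
  obtain ⟨k, hk, rfl⟩ := h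
  exact ⟨k⁻¹, K.inv_mem hk, by group⟩

theorem conj_trans (K : Subgroup X) {x y z : X} (h1 : Cfsg.IsConjUnder K x y)
    (h2 : Cfsg.IsConjUnder K y z) : Cfsg.IsConjUnder K x z := by
  obtain ⟨k, hk, rfl⟩ := h1
  obtain ⟨k', hk', rfl⟩ := h2
  exact ⟨k' * k, K.mul_mem hk' hk, by group⟩

/-- the relation used in `splitClassCount` is an equivalence relation -/
theorem rel_equiv (H K : Subgroup X) (x : X) :
    Equivalence (fun y z : {y : X // Cfsg.IsConjUnder H x y} => Cfsg.IsConjUnder K y.1 z.1) :=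
  ⟨fun y => conj_refl K y.1, fun h => conj_symm K h, fun h1 h2 => conj_trans K h1 h2⟩

/-- the two candidate classes -/
noncomputable def twoMap (H K : Subgroup X) (x h₀ : X) (hh₀ : h₀ ∈ H) :
    Bool → Quot (fun y z : {y : X // Cfsg.IsConjUnder H x y} => Cfsg.IsConjUnder K y.1 z.1) :=
  fun b => if b then Quot.mk _ ⟨h₀ * x * h₀⁻¹, ⟨h₀, hh₀, rfl⟩⟩
    else Quot.mk _ ⟨x, conj_refl H x⟩

theorem twoMap_surj (H K : Subgroup X) (x h₀ : X) (hh₀ : h₀ ∈ H)
    (hcov : ∀ y, Cfsg.IsConjUnder H x y →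
      Cfsg.IsConjUnder K x y ∨ Cfsg.IsConjUnder K (h₀ * x * h₀⁻¹) y) :
    Function.Surjective (twoMap H K x h₀ hh₀) := by
  intro q
  induction q using Quot.inductionOn with
  | h y =>
    rcases hcov y.1 y.2 with h | h
    · refine ⟨false, ?_⟩
      simp only [twoMap]
      exact Quot.sound h
    · refine ⟨true, ?_⟩
      simp only [twoMap]
      exact Quot.sound h

/-- at most two classes -/
theorem count_one_or_two (H K : Subgroup X) (x h₀ : X) (hh₀ : h₀ ∈ H)
    (hcov : ∀ y, Cfsg.IsConjUnder H x y →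
      Cfsg.IsConjUnder K x y ∨ Cfsg.IsConjUnder K (h₀ * x * h₀⁻¹) y) :
    Cfsg.splitClassCount H K x = 1 ∨ Cfsg.splitClassCount H K x = 2 := by
  unfold Cfsg.splitClassCount
  have hs := twoMap_surj H K x h₀ hh₀ hcov
  haveI : Finite (Quot (fun y z : {y : X // Cfsg.IsConjUnder H x y} =>
      Cfsg.IsConjUnder K y.1 z.1)) := Finite.of_surjective _ hs
  haveI : Nonempty (Quot (fun y z : {y : X // Cfsg.IsConjUnder H x y} =>
      Cfsg.IsConjUnder K y.1 z.1)) := ⟨Quot.mk _ ⟨x, conj_refl H x⟩⟩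
  have h1 := Nat.card_le_card_of_surjective _ hs
  have h2 : Nat.card Bool = 2 := by rw [Nat.card_eq_fintype_card, Fintype.card_bool]
  have h3 : 0 < Nat.card (Quot (fun y z : {y : X // Cfsg.IsConjUnder H x y} =>
      Cfsg.IsConjUnder K y.1 z.1)) := Nat.card_pos
  omega

/-- exactly two classes -/
theorem count_two (H K : Subgroup X) (x h₀ : X) (hh₀ : h₀ ∈ H)
    (hcov : ∀ y, Cfsg.IsConjUnder H x y →
      Cfsg.IsConjUnder K x y ∨ Cfsg.IsConjUnder K (h₀ * x * h₀⁻¹) y)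
    (hsep : ¬ Cfsg.IsConjUnder K x (h₀ * x * h₀⁻¹)) :
    Cfsg.splitClassCount H K x = 2 := by
  unfold Cfsg.splitClassCount
  have hs := twoMap_surj H K x h₀ hh₀ hcov
  have hi : Function.Injective (twoMap H K x h₀ hh₀) := by
    have key : twoMap H K x h₀ hh₀ false ≠ twoMap H K x h₀ hh₀ true := by
      intro h
      simp only [twoMap] at h
      have h' := Quot.eqvGen_exact h
      rw [(rel_equiv H K x).eqvGen_iff] at h'
      exact hsep h'
    intro b b' h
    cases b <;> cases b'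
    · rfl
    · exact absurd h key
    · exact absurd h.symm key
    · rfl
  rw [← Nat.card_congr (Equiv.ofBijective _ ⟨hi, hs⟩), Nat.card_eq_fintype_card, Fintype.card_bool]

/-- covering from a chain `K ≤ P ≤ H` with `P` of index two in `H`, all of `P` fixing the
`K`-class of `x` -/
theorem cover_of_index_two (H K P : Subgroup X) [K.Normal] (x h₀ : X)
    (hP : ∀ p ∈ P, Cfsg.IsConjUnder K x (p * x * p⁻¹))
    (hidx : ∀ h ∈ H, h ∈ P ∨ h₀⁻¹ * h ∈ P) :
    ∀ y, Cfsg.IsConjUnder H x y →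
      Cfsg.IsConjUnder K x y ∨ Cfsg.IsConjUnder K (h₀ * x * h₀⁻¹) y := by
  rintro y ⟨h, hh, rfl⟩
  rcases hidx h hh with hp | hp
  · left
    exact hP h hp
  · right
    obtain ⟨k, hk, hkx⟩ := hP _ hp
    refine ⟨h₀ * k * h₀⁻¹, ‹K.Normal›.conj_mem k hk h₀, ?_⟩
    have e : h * x * h⁻¹ = h₀ * ((h₀⁻¹ * h) * x * (h₀⁻¹ * h)⁻¹) * h₀⁻¹ := by group
    rw [e, hkx]
    group

end Cfsg.Agent.Helper28.SCC
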