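import Mathlib
import Cfsg.Agent.Helper28.SplitCount

set_option autoImplicit false
set_option linter.unusedSectionVars false

/-! A dihedral quotient of order eight forces a class to split. -/

namespace Cfsg.Agent.Helper28.SCC

variable {X : Type*} [Group X]

theorem d8_center : ∀ a : DihedralGroup 4, (∀ b, a * b = b * a) →
    a = 1 ∨ a = DihedralGroup.r 2 := by
  decide

theorem d8_sq : (DihedralGroup.r 1 : DihedralGroup 4) * DihedralGroup.r 1 = DihedralGroup.r 2 := by
  decide

/-- if `G / N` is dihedral of order eight, `H` has index two in `G` and `x ∈ G \ H`, then some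
`H`-conjugate of `x` is not `N`-conjugate to `x` -/
theorem exists_not_conj (G H N : Subgroup X) (hNH : N ≤ H) (hHG : H ≤ G)
    (hidx : H.relIndex G = 2) (φ : ↥G →* DihedralGroup 4) (hφs : Function.Surjective φ)
    (hφk : φ.ker = N.subgroupOf G) (x : X) (hxG : x ∈ G) (hxH : x ∉ H) :
    ∃ h ∈ H, ¬ Cfsg.IsConjUnder N x (h * x * h⁻¹) := by
  by_contra hcon
  push Not at hcon
  have hidx' : (H.subgroupOf G).index = 2 := hidx
  set x' : ↥G := ⟨x, hxG⟩ with hx'
  have hx'H : x' ∉ H.subgroupOf G := by
    rw [Subgroup.mem_subgroupOf]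
    exact hxH
  -- every element of `H` commutes with `x` modulo `N`
  have hH : ∀ y : ↥G, y ∈ H.subgroupOf G → φ y * φ x' = φ x' * φ y := by
    intro y hy
    rw [Subgroup.mem_subgroupOf] at hy
    obtain ⟨k, hk, hkx⟩ := hcon (y : X) hy
    have hkG : k ∈ G := hHG (hNH hk)
    set k' : ↥G := ⟨k, hkG⟩ with hk'
    have hφk' : φ k' = 1 := by
      rw [← MonoidHom.mem_ker, hφk, Subgroup.mem_subgroupOf]
      exact hk
    have e : y * x' * y⁻¹ = k' * x' * k'⁻¹ := by
      apply Subtype.ext
      exact hkx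
    have e2 := congrArg φ e
    rw [map_mul, map_mul, map_mul, map_mul, map_inv, map_inv, hφk', one_mul, inv_one, mul_one,
      mul_inv_eq_iff_eq_mul] at e2
    exact e2
  have hall : ∀ y : ↥G, φ y * φ x' = φ x' * φ y := by
    intro y
    by_cases hy : y ∈ H.subgroupOf G
    · exact hH y hy
    · have hyx : y * x' ∈ H.subgroupOf G := by
        rw [Subgroup.mul_mem_iff_of_index_two hidx']
        exact ⟨fun h => absurd h hy, fun h => absurd h hx'H⟩
      have h1 := hH _ hyx
      rw [map_mul] at h1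
      have h2 : φ y * φ x' * φ x' * (φ x')⁻¹ = φ x' * (φ y * φ x') * (φ x')⁻¹ := by rw [h1]
      rw [mul_inv_cancel_right] at h2
      rw [h2]
      group
  have hcen : ∀ b : DihedralGroup 4, φ x' * b = b * φ x' := by
    intro b
    obtain ⟨y, rfl⟩ := hφs b
    exact (hall y).symm
  rcases d8_center _ hcen with h1 | h1
  · have : x' ∈ N.subgroupOf G := by
      rw [← hφk, MonoidHom.mem_ker]
      exact h1
    rw [Subgroup.mem_subgroupOf] at this
    exact hxH (hNH this)
  · obtain ⟨y, hy⟩ := hφs (DihedralGroup.r 1)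
    have hyy : y * y ∈ H.subgroupOf G := Subgroup.mul_self_mem_of_index_two hidx' y
    have h3 : (y * y)⁻¹ * x' ∈ N.subgroupOf G := by
      rw [← hφk, MonoidHom.mem_ker, map_mul, map_inv, map_mul, hy, h1, d8_sq, inv_mul_cancel]
    have h4 : (y * y)⁻¹ * x' ∈ H.subgroupOf G := by
      rw [Subgroup.mem_subgroupOf] at h3 ⊢
      exact hNH h3
    apply hx'H
    have : x' = (y * y) * ((y * y)⁻¹ * x') := by group
    rw [this]
    exact Subgroup.mul_mem _ hyy h4

end Cfsg.Agent.Helper28.SCC
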