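import Mathlib
import Cfsg.Agent.Helper28.GraphInv4
import Cfsg.Agent.Helper28.InndiagGen
import Cfsg.Agent.Helper28.SplitD8

set_option autoImplicit false
set_option linter.unusedSectionVars false

/-! Involutory graph automorphisms: the class under the similarities of sign one splits into
two classes under `Inn`. General quadratic form. -/

namespace Cfsg.Agent.Helper28.GInv

open Matrix Module Cfsg.Agent.Helper28.Spin Cfsg.Agent.Helper28.IsoTransport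
  Cfsg.Agent.Helper28.Sg Cfsg.Agent.Helper28.PA Cfsg.Agent.Helper28.PG Cfsg.Agent.Helper28.IDG
  Cfsg.Agent.Helper28.SCC

section abstract

variable {X : Type*} [Group X]

theorem mem_or_of_relIndex_two (P H : Subgroup X) (hrel : P.relIndex H = 2) {a b : X}
    (ha : a ∈ H) (hb : b ∈ H) (haP : a ∉ P) : b ∈ P ∨ a⁻¹ * b ∈ P := by
  have hidx : (P.subgroupOf H).index = 2 := hrel
  by_cases hbP : b ∈ P
  · exact Or.inl hbP
  · right
    have h1 := Subgroup.mul_mem_iff_of_index_two hidx (a := (⟨a, ha⟩ : ↥H)⁻¹) (b := ⟨b, hb⟩)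
    have h2 : (⟨a, ha⟩ : ↥H)⁻¹ * ⟨b, hb⟩ ∈ P.subgroupOf H := by
      rw [h1, inv_mem_iff]
      constructor
      · intro h
        rw [Subgroup.mem_subgroupOf] at h
        exact absurd h haP
      · intro h
        rw [Subgroup.mem_subgroupOf] at h
        exact absurd h hbP
    rw [Subgroup.mem_subgroupOf] at h2
    exact h2

theorem mul_inv_mem_of_relIndex_two (P H : Subgroup X) (hrel : P.relIndex H = 2) {a b : X}
    (ha : a ∈ H) (hb : b ∈ H) (haP : a ∉ P) (hbP : b ∉ P) : a * b⁻¹ ∈ P := by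
  have hidx : (P.subgroupOf H).index = 2 := hrel
  have h1 := Subgroup.mul_mem_iff_of_index_two hidx (a := (⟨a, ha⟩ : ↥H)) (b := (⟨b, hb⟩ : ↥H)⁻¹)
  have h2 : (⟨a, ha⟩ : ↥H) * (⟨b, hb⟩ : ↥H)⁻¹ ∈ P.subgroupOf H := by
    rw [h1, inv_mem_iff]
    constructor
    · intro h
      rw [Subgroup.mem_subgroupOf] at h
      exact absurd h haP
    · intro h
      rw [Subgroup.mem_subgroupOf] at h
      exact absurd h hbP
  rw [Subgroup.mem_subgroupOf] at h2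
  exact h2

end abstract

variable {F : Type*} [Field F] [Fintype F] [DecidableEq F] {ι : Type} [Fintype ι] [DecidableEq ι]
  (Q : QuadraticForm F (ι → F))

variable (hQ : (QuadraticMap.polarBilin Q).Nondegenerate) (fr : Frame3 Q)
  (hex : ∃ v : ι → F, Q v ≠ 0) (hperf : commutator ↥(Cfsg.Omega F ⇑Q) = ⊤) {k : ℕ}
  (hk : Fintype.card ι = 2 * k)

include hQ fr hex hperf hk

/-- a similarity of sign `-1` does not induce an element of `DD` -/
theorem cG_not_mem_DD (g : ↥(GO Q)) (hsgn : PG.sgn Q k g = -1) (h2 : (2 : F) ≠ 0) :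
    cG Q g ∉ DD Q hex k := by
  intro hmem
  obtain ⟨g', hg'sgn, hg'⟩ := exists_of_mem_DD Q hex k _ hmem
  have h3 : cG Q (g'⁻¹ * g) = 1 := by
    rw [map_mul, map_inv, hg', inv_mul_cancel]
  have h4 := (ker_of_cG Q hQ fr hex hperf hk _ h3).2
  have h5 : g = g' * (g'⁻¹ * g) := by group
  rw [h5, PG.sgn_mul Q hex, h4, hg'sgn, one_mul] at hsgn
  apply h2
  linear_combination hsgn

/-- the square of the matrix is scalar when the induced automorphism is an involution -/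
theorem exists_scalar_sq (g : ↥(GO Q)) (hg2 : cG Q g * cG Q g = 1) :
    ∃ l : F, ∀ x, mg Q g *ᵥ (mg Q g *ᵥ x) = l • x := by
  have h1 : cG Q (g * g) = 1 := by rw [map_mul, hg2]
  obtain ⟨l, hl⟩ := ker_cG Q hQ fr hperf (g * g) h1
  refine ⟨l, fun x => ?_⟩
  rw [← hl x, Matrix.mulVec_mulVec]
  rfl

theorem DD_le_pgoAut : DD Q hex k ≤ Cfsg.pgoAut F ⇑Q := by
  rw [pgoAut_eq]
  rintro _ ⟨g, -, rfl⟩
  exact ⟨g, rfl⟩

/-- when `Inn = PSO`: one or two classes -/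
theorem count_le_gen (h2 : (2 : F) ≠ 0) (h : ↥(GO Q)) (hh : PG.chi Q h = -1)
    (hrel : (Cfsg.Inn (Cfsg.POmega F ⇑Q)).relIndex (Cfsg.psoAut F ⇑Q) = 1)
    (γ : MulAut (Cfsg.POmega F ⇑Q)) :
    Cfsg.splitClassCount (DD Q hex k) (Cfsg.Inn (Cfsg.POmega F ⇑Q)) γ = 1 ∨
      Cfsg.splitClassCount (DD Q hex k) (Cfsg.Inn (Cfsg.POmega F ⇑Q)) γ = 2 := by
  have hrel2 := relIndex_pso_DD Q hQ fr hex hperf hk h hh
  have heq : Cfsg.psoAut F ⇑Q = Cfsg.Inn (Cfsg.POmega F ⇑Q) := by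
    rw [Subgroup.relIndex_eq_one] at hrel
    exact le_antisymm hrel (Inn_le_psoAut Q)
  rw [heq] at hrel2
  -- an element outside
  obtain ⟨h₀, hh₀, hh₀n⟩ : ∃ h₀ ∈ DD Q hex k, h₀ ∉ Cfsg.Inn (Cfsg.POmega F ⇑Q) := by
    by_contra hcon
    push Not at hcon
    have : (Cfsg.Inn (Cfsg.POmega F ⇑Q)).relIndex (DD Q hex k) = 1 := by
      rw [Subgroup.relIndex_eq_one]
      exact hcon
    omega
  apply count_one_or_two _ _ γ h₀ hh₀
  apply cover_of_index_two (DD Q hex k) _ (Cfsg.Inn (Cfsg.POmega F ⇑Q)) γ h₀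
  · intro p hp
    exact ⟨p, hp, rfl⟩
  · intro y hy
    exact mem_or_of_relIndex_two _ _ hrel2 hh₀ hy hh₀n

/-- when `-1 ∈ Ω`: exactly two classes -/
theorem count_two_gen (h2 : (2 : F) ≠ 0) (h6 : 6 ≤ Fintype.card ι)
    (hneg : ∃ g : ↥(Cfsg.isometryGroup F ⇑Q), g ∈ Cfsg.Omega F ⇑Q ∧
        ((g : GL ι F) : Matrix ι ι F) = -1)
    (h : ↥(GO Q)) (hh : PG.chi Q h = -1)
    (g : ↥(GO Q)) (hsgn : PG.sgn Q k g = -1) (hg2 : cG Q g * cG Q g = 1) :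
    Cfsg.splitClassCount (DD Q hex k) (Cfsg.Inn (Cfsg.POmega F ⇑Q)) (cG Q g) = 2 := by
  classical
  obtain ⟨v, hv⟩ := hex
  have hex : ∃ v : ι → F, Q v ≠ 0 := ⟨v, hv⟩
  have heven : Even (Fintype.card ι) := ⟨k, by omega⟩
  -- the commuting element
  obtain ⟨l, hl⟩ := exists_scalar_sq Q hQ fr hex hperf hk g hg2
  obtain ⟨s, hsSO, hsΩ, hsconj⟩ := exists_comm Q hQ h2 (by omega) hex hk g l hl hsgn
  have hcP : cAut Q s ∈ Cfsg.psoAut F ⇑Q := by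
    rw [PA.psoAut_eq]
    exact ⟨s, hsSO, rfl⟩
  have hcI : cAut Q s ∉ Cfsg.Inn (Cfsg.POmega F ⇑Q) := cAut_not_mem_Inn Q hQ h2 h6 hneg s hsΩ
  have hcomm : cAut Q s * cG Q g * (cAut Q s)⁻¹ = cG Q g := by
    have h1 : cG Q g * cAut Q s * (cG Q g)⁻¹ = cAut Q s := by
      rw [← cG_oGO, ← map_inv, ← map_mul, ← map_mul, conj_oGO, hsconj]
    rw [mul_inv_eq_iff_eq_mul] at h1 ⊢
    exact h1.symm
  -- indices
  have hrel1 := (relIndex_Inn_psoAut Q hQ h2 h6 heven).1 hneg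
  have hrel2 := relIndex_pso_DD Q hQ fr hex hperf hk h hh
  obtain ⟨φ₀, hφ₀s, hφ₀k⟩ := pgo_mod_pso Q hQ fr h2 hperf hk (reflGO Q v hv)
    (chi_reflGO Q hex v hv) (sgn_reflGO Q hex k v hv) h hh
  have hle2 : Cfsg.psoAut F ⇑Q ≤ Cfsg.pgoAut F ⇑Q := by
    rw [PG.psoAut_eq, pgoAut_eq]
    exact Subgroup.map_le_range _ _
  have hrel4 : (Cfsg.psoAut F ⇑Q).relIndex (Cfsg.pgoAut F ⇑Q) = 4 := by
    unfold Subgroup.relIndex
    rw [← hφ₀k, Subgroup.index_ker, MonoidHom.range_eq_top.2 hφ₀s, Subgroup.card_top,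
      Nat.card_eq_fintype_card, Fintype.card_multiplicative, Fintype.card_prod, ZMod.card]
  have hDDle := DD_le_pgoAut Q hQ fr hex hperf hk
  have hrel3 : (DD Q hex k).relIndex (Cfsg.pgoAut F ⇑Q) = 2 := by
    have := Subgroup.relIndex_mul_relIndex _ _ _ (psoAut_le_DD Q hex k) hDDle
    rw [hrel2, hrel4] at this
    omega
  -- the dihedral quotient
  obtain ⟨φ, hφs, hφk⟩ := pgo_mod_inn_D4 Q hQ fr h2 hperf hk h6 hneg v hv h hh
  have hγG : cG Q g ∈ Cfsg.pgoAut F ⇑Q := by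
    rw [pgoAut_eq]; exact ⟨g, rfl⟩
  have hγD : cG Q g ∉ DD Q hex k := cG_not_mem_DD Q hQ fr hex hperf hk g hsgn h2
  obtain ⟨h₁, hh₁, hh₁n⟩ := exists_not_conj (Cfsg.pgoAut F ⇑Q) (DD Q hex k)
    (Cfsg.Inn (Cfsg.POmega F ⇑Q)) ((Inn_le_psoAut Q).trans (psoAut_le_DD Q hex k)) hDDle hrel3
    φ hφs hφk (cG Q g) hγG hγD
  -- all of `PSO` fixes the class
  have hP : ∀ p ∈ Cfsg.psoAut F ⇑Q,
      Cfsg.IsConjUnder (Cfsg.Inn (Cfsg.POmega F ⇑Q)) (cG Q g) (p * cG Q g * p⁻¹) := by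
    intro p hp
    by_cases hpI : p ∈ Cfsg.Inn (Cfsg.POmega F ⇑Q)
    · exact ⟨p, hpI, rfl⟩
    · refine ⟨p * (cAut Q s)⁻¹, mul_inv_mem_of_relIndex_two _ _ hrel1 hp hcP hpI hcI, ?_⟩
      nth_rewrite 2 [← hcomm]
      group
  have hh₁P : h₁ ∉ Cfsg.psoAut F ⇑Q := fun hc => hh₁n (hP h₁ hc)
  apply count_two _ _ _ h₁ hh₁ _ hh₁n
  apply cover_of_index_two (DD Q hex k) _ (Cfsg.psoAut F ⇑Q) _ h₁ hP
  intro y hy
  exact mem_or_of_relIndex_two _ _ hrel2 hh₁ hy hh₁P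

end Cfsg.Agent.Helper28.GInv
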