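import Mathlib

set_option autoImplicit false
set_option linter.unusedSectionVars false

/-! Determinants of matrices with scalar square, via the characteristic polynomial. -/

namespace Cfsg.Agent.Helper28.GInv

open Matrix Polynomial

variable {F : Type*} [Field F] {ι : Type} [Fintype ι] [DecidableEq ι]

theorem scalar_X_eq : Matrix.scalar ι (X : F[X]) = (X : F[X]) • (1 : Matrix ι ι F[X]) := by
  rw [Matrix.scalar_apply, Matrix.smul_one_eq_diagonal]

theorem mapC_mul_self (G : Matrix ι ι F) (l : F) (hG : G * G = l • 1) :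
    (C : F →+* F[X]).mapMatrix G * (C : F →+* F[X]).mapMatrix G =
      (C l : F[X]) • (1 : Matrix ι ι F[X]) := by
  rw [← map_mul, hG]
  ext i j
  simp only [RingHom.mapMatrix_apply, Matrix.map_apply, Matrix.smul_apply, Matrix.one_apply,
    smul_eq_mul]
  split_ifs <;> simp

/-- `(X - G)(X + G) = X² - l` -/
theorem charmatrix_mul (G : Matrix ι ι F) (l : F) (hG : G * G = l • 1) :
    G.charmatrix * ((X : F[X]) • (1 : Matrix ι ι F[X]) + (C : F →+* F[X]).mapMatrix G) =
      ((X : F[X]) ^ 2 - C l) • (1 : Matrix ι ι F[X]) := by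
  unfold Matrix.charmatrix
  rw [scalar_X_eq]
  set A := (C : F →+* F[X]).mapMatrix G with hA
  have hAA : A * A = (C l : F[X]) • (1 : Matrix ι ι F[X]) := mapC_mul_self G l hG
  rw [sub_mul, mul_add, mul_add, hAA, Matrix.smul_mul, Matrix.one_mul, Matrix.smul_mul,
    Matrix.one_mul, Matrix.mul_smul, Matrix.mul_one, sub_smul, pow_two, mul_smul]
  abel

theorem charpoly_mul (G : Matrix ι ι F) (l : F) (hG : G * G = l • 1) :
    G.charpoly * ((X : F[X]) • (1 : Matrix ι ι F[X]) + (C : F →+* F[X]).mapMatrix G).det =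
      ((X : F[X]) ^ 2 - C l) ^ Fintype.card ι := by
  unfold Matrix.charpoly
  rw [← Matrix.det_mul, charmatrix_mul G l hG, Matrix.det_smul, Matrix.det_one, mul_one]

/-- for a skew-adjoint matrix, `det (X + G) = charpoly G` -/
theorem det_add_of_skew (G J : Matrix ι ι F) (hJ : J.det ≠ 0) (hskew : Gᵀ * J = -(J * G)) :
    ((X : F[X]) • (1 : Matrix ι ι F[X]) + (C : F →+* F[X]).mapMatrix G).det = G.charpoly := by
  set A := (C : F →+* F[X]).mapMatrix G with hA
  set JC := (C : F →+* F[X]).mapMatrix J with hJC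
  have h1 : JC * A = -(Aᵀ * JC) := by
    rw [hA, hJC, ← map_mul]
    have : (C : F →+* F[X]).mapMatrix Gᵀ = ((C : F →+* F[X]).mapMatrix G)ᵀ := by
      ext i j
      simp [RingHom.mapMatrix_apply]
    rw [← this, ← map_mul, hskew, map_neg, neg_neg]
  have h2 : JC * ((X : F[X]) • (1 : Matrix ι ι F[X]) + A) =
      ((X : F[X]) • (1 : Matrix ι ι F[X]) - A)ᵀ * JC := by
    rw [mul_add, h1, Matrix.transpose_sub, Matrix.transpose_smul, Matrix.transpose_one, sub_mul,
      Matrix.mul_smul, Matrix.mul_one, Matrix.smul_mul, Matrix.one_mul]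
    abel
  have h3 := congrArg Matrix.det h2
  rw [Matrix.det_mul, Matrix.det_mul, Matrix.det_transpose] at h3
  have hJC0 : JC.det ≠ 0 := by
    rw [hJC, ← RingHom.map_det]
    intro h
    exact hJ (Polynomial.C_eq_zero.1 h)
  have h4 : ((X : F[X]) • (1 : Matrix ι ι F[X]) - A).det = G.charpoly := by
    unfold Matrix.charpoly Matrix.charmatrix
    rw [scalar_X_eq]
  rw [h4] at h3
  exact mul_left_cancel₀ hJC0 (by rw [h3, mul_comm])

theorem charpoly_of_skew (G J : Matrix ι ι F) (h2 : (2 : F) ≠ 0) (hJ : J.det ≠ 0)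
    (hskew : Gᵀ * J = -(J * G)) (l : F) (hG : G * G = l • 1) {k : ℕ}
    (hk : Fintype.card ι = 2 * k) : G.charpoly = ((X : F[X]) ^ 2 - C l) ^ k := by
  have h1 := charpoly_mul G l hG
  rw [det_add_of_skew G J hJ hskew, hk, pow_mul'] at h1
  set p := G.charpoly with hp
  set r := ((X : F[X]) ^ 2 - C l) ^ k with hr
  have h3 : (p - r) * (p + r) = 0 := by
    have : p * p = r ^ 2 := h1
    linear_combination this
  have hpm : p.Monic := Matrix.charpoly_monic G
  have hrm : r.Monic := (monic_X_pow_sub_C l (by norm_num)).pow k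
  rcases mul_eq_zero.1 h3 with h | h
  · exact sub_eq_zero.1 h
  · exfalso
    have h4 : p = -r := by linear_combination h
    have h5 := congrArg Polynomial.leadingCoeff h4
    rw [Polynomial.leadingCoeff_neg, hpm.leadingCoeff, hrm.leadingCoeff] at h5
    apply h2
    linear_combination h5

theorem det_of_charpoly (G : Matrix ι ι F) (l : F) {k : ℕ} (hk : Fintype.card ι = 2 * k)
    (h : G.charpoly = ((X : F[X]) ^ 2 - C l) ^ k) : G.det = (-l) ^ k := by
  rw [Matrix.det_eq_sign_charpoly_coeff, hk, h, Polynomial.coeff_zero_eq_eval_zero]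
  simp [pow_mul]

theorem irreducible_sq_sub (l : F) (hns : ¬ IsSquare l) : Irreducible ((X : F[X]) ^ 2 - C l) := by
  have hm : ((X : F[X]) ^ 2 - C l).Monic := monic_X_pow_sub_C l (by norm_num)
  have hd : ((X : F[X]) ^ 2 - C l).natDegree = 2 := natDegree_X_pow_sub_C
  rw [hm.irreducible_iff_roots_eq_zero_of_degree_le_three (by rw [hd]) (by rw [hd]; norm_num)]
  rw [Multiset.eq_zero_iff_forall_notMem]
  intro x hx
  rw [mem_roots hm.ne_zero, IsRoot.def] at hx
  simp only [eval_sub, eval_pow, eval_X, eval_C] at hx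
  apply hns
  exact ⟨x, by linear_combination -hx⟩

theorem charpoly_of_nonsquare (G : Matrix ι ι F) (l : F) (hG : G * G = l • 1)
    (hns : ¬ IsSquare l) {k : ℕ} (hk : Fintype.card ι = 2 * k) :
    G.charpoly = ((X : F[X]) ^ 2 - C l) ^ k := by
  have h1 := charpoly_mul G l hG
  have hirr := irreducible_sq_sub l hns
  have hprime : Prime ((X : F[X]) ^ 2 - C l) := hirr.prime
  have hdvd : G.charpoly ∣ ((X : F[X]) ^ 2 - C l) ^ Fintype.card ι := ⟨_, h1.symm⟩
  obtain ⟨i, -, hi⟩ := (dvd_prime_pow hprime _).1 hdvd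
  have hm : ((X : F[X]) ^ 2 - C l).Monic := monic_X_pow_sub_C l (by norm_num)
  have heq := eq_of_monic_of_associated (Matrix.charpoly_monic G) (hm.pow i) hi
  have hdeg := congrArg Polynomial.natDegree heq
  rw [Matrix.charpoly_natDegree_eq_dim, hm.natDegree_pow, natDegree_X_pow_sub_C, hk] at hdeg
  have : i = k := by omega
  rw [heq, this]

end Cfsg.Agent.Helper28.GInv
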