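import Mathlib
import Cfsg.Agent.Helper28.GraphInv5
import Cfsg.Agent.Helper28.GraphInv6
import Cfsg.Agent.Helper28.CDGen

set_option autoImplicit false
set_option linter.unusedSectionVars false

/-! Involutory similarities (part 7): signs from the characteristic polynomial and from the
eigenspaces; the spinor norm obstruction. -/

namespace Cfsg.Agent.Helper28.GInv

open Matrix Module Cfsg.Agent.Helper28.Spin Cfsg.Agent.Helper28.IsoTransport
  Cfsg.Agent.Helper28.Sg Cfsg.Agent.Helper28.PA Cfsg.Agent.Helper28.PG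

variable {F : Type*} [Field F] [Fintype F] [DecidableEq F] {ι : Type} [Fintype ι] [DecidableEq ι]
  (Q : QuadraticForm F (ι → F))

theorem mg_mul_self (g : ↥(GO Q)) (l : F) (hl : ∀ x, mg Q g *ᵥ (mg Q g *ᵥ x) = l • x) :
    mg Q g * mg Q g = l • (1 : Matrix ι ι F) := by
  apply Spin.matrix_ext_mulVec
  intro x
  rw [← Matrix.mulVec_mulVec, hl, Matrix.smul_mulVec, Matrix.one_mulVec]

theorem gram_ext (M N : Matrix ι ι F) (h : ∀ x y : ι → F, x ⬝ᵥ (M *ᵥ y) = x ⬝ᵥ (N *ᵥ y)) :
    M = N := by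
  apply (Matrix.toBilin' (R₁ := F) (n := ι)).injective
  apply LinearMap.ext
  intro x
  apply LinearMap.ext
  intro y
  rw [Matrix.toBilin'_apply', Matrix.toBilin'_apply']
  exact h x y

theorem gram_skew (g : ↥(GO Q))
    (hadj : ∀ x y, B Q (mg Q g *ᵥ x) y = - B Q x (mg Q g *ᵥ y)) :
    (mg Q g)ᵀ * LinearMap.BilinForm.toMatrix' (QuadraticMap.polarBilin Q) =
      -(LinearMap.BilinForm.toMatrix' (QuadraticMap.polarBilin Q) * mg Q g) := by
  apply gram_ext
  intro x y
  rw [Matrix.neg_mulVec, dotProduct_neg, ← Matrix.mulVec_mulVec, ← Matrix.mulVec_mulVec,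
    gram_apply, Matrix.dotProduct_mulVec, Matrix.vecMul_transpose, gram_apply]
  exact hadj x y

/-- a skew-adjoint similarity with scalar square has sign one -/
theorem sgn_of_skew' (hQ : (QuadraticMap.polarBilin Q).Nondegenerate) (h2 : (2 : F) ≠ 0)
    (hex : ∃ v : ι → F, Q v ≠ 0) {k : ℕ} (hk : Fintype.card ι = 2 * k) (g : ↥(GO Q)) (l : F)
    (hl : ∀ x, mg Q g *ᵥ (mg Q g *ᵥ x) = l • x) (hμ : (mu Q g : F) = -l) :
    PG.sgn Q k g = 1 := by
  have hskew := gram_skew Q g (adj_skew Q hex g l hl hμ)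
  have hcp := charpoly_of_skew (mg Q g) _ h2 (gram_det_ne Q hQ) hskew l (mg_mul_self Q g l hl) hk
  have hdet := det_of_charpoly (mg Q g) l hk hcp
  unfold PG.sgn
  unfold mg at hdet
  rw [hdet, hμ, inv_pow]
  exact mul_inv_cancel₀ (pow_ne_zero _ (by rw [← hμ]; exact Units.ne_zero _))

/-- a similarity with non-square scalar square has sign `(-1)^k` -/
theorem sgn_of_nonsquare (hex : ∃ v : ι → F, Q v ≠ 0) {k : ℕ} (hk : Fintype.card ι = 2 * k)
    (g : ↥(GO Q)) (l : F)
    (hl : ∀ x, mg Q g *ᵥ (mg Q g *ᵥ x) = l • x) (hμ : (mu Q g : F) = l) (hns : ¬ IsSquare l) :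
    PG.sgn Q k g = (-1) ^ k := by
  have hcp := charpoly_of_nonsquare (mg Q g) l (mg_mul_self Q g l hl) hns hk
  have hdet := det_of_charpoly (mg Q g) l hk hcp
  unfold PG.sgn
  unfold mg at hdet
  have hl0 := l_ne_zero Q hex g l hl
  rw [hdet, hμ, inv_pow, neg_pow, mul_assoc, mul_inv_cancel₀ (pow_ne_zero _ hl0), mul_one]

/-- the determinant from the eigenspaces -/
theorem det_of_eig (g : ↥(GO Q)) (c : F) {k : ℕ} (hk : Fintype.card ι = 2 * k)
    (hl : ∀ x, mg Q g *ᵥ (mg Q g *ᵥ x) = (c * c) • x) :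
    (mg Q g).det = (-c) ^ finrank F (eig Q g (-c)) * c ^ (2 * k - finrank F (eig Q g (-c))) := by
  set f : (ι → F) →ₗ[F] (ι → F) := Matrix.toLin' (mg Q g) with hf
  set W := eig Q g (-c) with hW
  have hfW : W ≤ W.comap f := by
    intro x hx
    rw [Submodule.mem_comap, hf, Matrix.toLin'_apply, hW, mem_eig]
    rw [hW, mem_eig] at hx
    rw [hx, Matrix.mulVec_smul, hx]
  have h1 := LinearMap.det_eq_det_mul_det W f hfW
  have h2 : f.restrict (p := W) (q := W) hfW = (-c) • LinearMap.id := by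
    apply LinearMap.ext
    intro x
    apply Subtype.ext
    have hx : mg Q g *ᵥ (x : ι → F) = (-c) • (x : ι → F) := (mem_eig Q g (-c) _).1 x.2
    simp only [LinearMap.restrict_coe_apply, LinearMap.smul_apply, LinearMap.id_coe, id_eq,
      Submodule.coe_smul]
    rw [hf, Matrix.toLin'_apply]
    exact hx
  have h3 : W.mapQ W f hfW = c • LinearMap.id := by
    apply LinearMap.ext
    intro y
    induction y using Submodule.Quotient.induction_on with
    | H x =>
      rw [Submodule.mapQ_apply, LinearMap.smul_apply, LinearMap.id_apply,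
        ← Submodule.Quotient.mk_smul, Submodule.Quotient.eq, hW, mem_eig, hf,
        Matrix.toLin'_apply, Matrix.mulVec_sub, Matrix.mulVec_smul, hl, smul_sub, mul_smul,
        neg_smul, neg_smul, smul_smul]
      abel
  have h4 : finrank F ((ι → F) ⧸ W) = 2 * k - finrank F W := by
    have := Submodule.finrank_quotient_add_finrank W
    rw [Module.finrank_fintype_fun_eq_card, hk] at this
    omega
  rw [← LinearMap.det_toLin', ← hf, h1, h2, h3, LinearMap.det_smul, LinearMap.det_smul,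
    LinearMap.det_id, LinearMap.det_id, mul_one, mul_one, h4]

theorem sgn_of_eig (hex : ∃ v : ι → F, Q v ≠ 0) (g : ↥(GO Q)) (c : F) {k : ℕ}
    (hk : Fintype.card ι = 2 * k)
    (hl : ∀ x, mg Q g *ᵥ (mg Q g *ᵥ x) = (c * c) • x) (hμ : (mu Q g : F) = c * c) :
    PG.sgn Q k g = (-1) ^ finrank F (eig Q g (-c)) := by
  have hl0 := l_ne_zero Q hex g _ hl
  have hc : c ≠ 0 := fun h => hl0 (by rw [h, mul_zero])
  have hb : finrank F (eig Q g (-c)) ≤ 2 * k := by
    have := Submodule.finrank_le (eig Q g (-c))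
    rw [Module.finrank_fintype_fun_eq_card, hk] at this
    exact this
  unfold PG.sgn
  have hdet := det_of_eig Q g c hk hl
  unfold mg at hdet
  rw [hdet, hμ, inv_pow, neg_pow, mul_assoc, mul_assoc]
  have : c ^ finrank F (eig Q g (-c)) * (c ^ (2 * k - finrank F (eig Q g (-c))) *
      ((c * c) ^ k)⁻¹) = 1 := by
    rw [← mul_assoc, ← pow_add, Nat.add_sub_cancel' hb, ← pow_two, ← pow_mul]
    exact mul_inv_cancel₀ (pow_ne_zero _ hc)
  rw [this, mul_one]

end Cfsg.Agent.Helper28.GInv
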