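import Mathlib
import Cfsg.Agent.Helper28.GraphInv7

set_option autoImplicit false
set_option linter.unusedSectionVars false

/-! Involutory similarities (part 8): the spinor norm obstruction and the centraliser in the
non-split case. -/

namespace Cfsg.Agent.Helper28.GInv

open Matrix Module Cfsg.Agent.Helper28.Spin Cfsg.Agent.Helper28.IsoTransport
  Cfsg.Agent.Helper28.Sg Cfsg.Agent.Helper28.PA Cfsg.Agent.Helper28.PG

variable {F : Type*} [Field F] [Fintype F] [DecidableEq F] {ι : Type} [Fintype ι] [DecidableEq ι]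
  (Q : QuadraticForm F (ι → F))

/-- moving a nonsingular vector by a similarity -/
noncomputable def mvNS (d : ↥(GO Q)) (v : NS Q) : NS Q :=
  ⟨mg Q d *ᵥ v.1, by
    have h : Q (mg Q d *ᵥ v.1) = (mu Q d : F) * Q v.1 := mu_spec Q d v.1
    rw [h]
    exact mul_ne_zero (Units.ne_zero _) v.2⟩

theorem conjO_prodO (d : ↥(GO Q)) (L : List (NS Q)) :
    conjO Q d (prodO Q L) = prodO Q (L.map (mvNS Q d)) := by
  induction L with
  | nil => simp [prodO_nil]
  | cons v L ih =>
    rw [List.map_cons, prodO_cons, prodO_cons, map_mul, ih]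
    congr 1
    exact conjO_reflO Q d v.1 v.2 (mvNS Q d v).2

theorem normProd_map (d : ↥(GO Q)) (L : List (NS Q)) :
    normProd Q (L.map (mvNS Q d)) = (mu Q d : F) ^ L.length * normProd Q L := by
  induction L with
  | nil => simp [normProd]
  | cons v L ih =>
    simp only [normProd, List.map_cons, List.prod_cons, List.length_cons] at ih ⊢
    rw [ih]
    have h : Q (mvNS Q d v).1 = (mu Q d : F) * Q v.1 := mu_spec Q d v.1
    rw [h]
    ring

theorem prodO_reverse (L : List (NS Q)) : prodO Q L.reverse = (prodO Q L)⁻¹ := by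
  induction L with
  | nil => simp [prodO_nil]
  | cons v L ih =>
    rw [List.reverse_cons, TR.prodO_append', ih, prodO_cons, prodO_cons, prodO_nil, mul_one,
      _root_.mul_inv_rev, reflO_inv]

theorem normProd_reverse (L : List (NS Q)) : normProd Q L.reverse = normProd Q L := by
  unfold normProd
  rw [List.map_reverse, List.prod_reverse]

theorem exists_prodO_eq' (h2 : (2 : F) ≠ 0) (hQ : (QuadraticMap.polarBilin Q).Nondegenerate)
    (s : ↥(Cfsg.isometryGroup F ⇑Q)) : ∃ L : List (NS Q), s = prodO Q L := by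
  obtain ⟨L, hL⟩ := CDG.cartan_dieudonne Q h2 hQ _ (isom_apply Q s)
  refine ⟨L, ?_⟩
  apply Subtype.ext
  apply Units.ext
  rw [hL, prodO_val]
  rfl

/-- an isometry of determinant `-1` fixed by a similarity forces a square multiplier -/
theorem isSquare_mu_of_fix (h2 : (2 : F) ≠ 0) (hQ : (QuadraticMap.polarBilin Q).Nondegenerate)
    (d : ↥(GO Q)) (s : ↥(Cfsg.isometryGroup F ⇑Q)) (hdet : detHom Q s = -1)
    (hfix : conjO Q d s = s) : IsSquare (mu Q d : F) := by
  obtain ⟨L, rfl⟩ := exists_prodO_eq' Q h2 hQ s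
  have hodd : Odd L.length := by
    rw [detHom_prodO] at hdet
    by_contra hne
    rw [Nat.not_odd_iff_even] at hne
    rw [hne.neg_one_pow] at hdet
    have h3 := congrArg (fun u : Fˣ => (u : F)) hdet
    simp only [Units.val_one, Units.val_neg] at h3
    apply h2
    linear_combination h3
  have h1 : prodO Q (L.map (mvNS Q d) ++ L.reverse) = 1 := by
    rw [TR.prodO_append', ← conjO_prodO, hfix, prodO_reverse, mul_inv_cancel]
  have h3 : prodO Q (L.map (mvNS Q d) ++ L.reverse) ∈ Cfsg.Omega F ⇑Q := by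
    rw [h1]; exact Subgroup.one_mem _
  obtain ⟨-, r, hr⟩ := (prodO_mem_Omega_iff Q h2 _).1 h3
  rw [TR.normProd_append', normProd_map, normProd_reverse] at hr
  obtain ⟨j, hj⟩ := hodd
  have hn0 := normProd_ne_zero Q L
  have hμ0 : (mu Q d : F) ≠ 0 := Units.ne_zero _
  refine ⟨r * ((mu Q d : F) ^ j)⁻¹ * (normProd Q L)⁻¹, ?_⟩
  rw [hj, pow_succ, pow_mul] at hr
  field_simp
  linear_combination hr

end Cfsg.Agent.Helper28.GInv
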