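import Mathlib
import Cfsg.Agent.Helper28.GraphInv8

set_option autoImplicit false
set_option linter.unusedSectionVars false

/-! Involutory similarities (part 9): in dimension `2k` with `k` even, no similarity with
non-square multiplier commutes with an involutory similarity of sign `-1` modulo scalars. -/

namespace Cfsg.Agent.Helper28.GInv

open Matrix Module Cfsg.Agent.Helper28.Spin Cfsg.Agent.Helper28.IsoTransport
  Cfsg.Agent.Helper28.Sg Cfsg.Agent.Helper28.PA Cfsg.Agent.Helper28.PG Cfsg.Agent.Helper28.IDG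
  Cfsg.Agent.Helper28.SCC

variable {F : Type*} [Field F] [Fintype F] [DecidableEq F] {ι : Type} [Fintype ι] [DecidableEq ι]
  (Q : QuadraticForm F (ι → F))

theorem eig_inf (h2 : (2 : F) ≠ 0) (g : ↥(GO Q)) (c : F) (hc : c ≠ 0) :
    eig Q g c ⊓ eig Q g (-c) = ⊥ := by
  rw [eq_bot_iff]
  rintro x ⟨hx1, hx2⟩
  rw [Submodule.mem_bot]
  have h1 : mg Q g *ᵥ x = c • x := hx1
  have h3 : mg Q g *ᵥ x = (-c) • x := hx2
  have h4 : (2 * c) • x = 0 := by
    rw [mul_smul, two_smul]
    have : c • x = -(c • x) := by rw [← neg_smul, ← h3, h1]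
    nth_rewrite 1 [this]
    simp
  rcases smul_eq_zero.1 h4 with h | h
  · exact absurd h (mul_ne_zero h2 hc)
  · exact h

theorem finrank_eig_le (g d : ↥(GO Q)) (c c' : F)
    (hmap : ∀ x ∈ eig Q g c, mg Q d *ᵥ x ∈ eig Q g c') :
    finrank F (eig Q g c) ≤ finrank F (eig Q g c') := by
  set f : (ι → F) →ₗ[F] (ι → F) := Matrix.toLin' (mg Q d) with hf
  have hf' : ∀ x ∈ eig Q g c, f x ∈ eig Q g c' := by
    intro x hx
    rw [hf, Matrix.toLin'_apply]
    exact hmap x hx
  apply LinearMap.finrank_le_finrank_of_injective (f := f.restrict hf')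
  intro x y hxy
  have h1 := congrArg Subtype.val hxy
  simp only [LinearMap.restrict_coe_apply, hf, Matrix.toLin'_apply] at h1
  apply Subtype.ext
  exact (Matrix.mulVec_injective_iff_isUnit.2 ⟨(d : GL ι F), rfl⟩) h1

variable (hQ : (QuadraticMap.polarBilin Q).Nondegenerate) (fr : Frame3 Q)
  (hex : ∃ v : ι → F, Q v ≠ 0) (hperf : commutator ↥(Cfsg.Omega F ⇑Q) = ⊤) {k : ℕ}
  (hk : Fintype.card ι = 2 * k)

include hQ fr hex hperf hk

/-- commuting modulo scalars means commuting or anticommuting -/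
theorem comm_or_anticomm (g d : ↥(GO Q)) (hcomm : cG Q d * cG Q g = cG Q g * cG Q d) :
    (∀ y, mg Q d *ᵥ (mg Q g *ᵥ y) = mg Q g *ᵥ (mg Q d *ᵥ y)) ∨
    (∀ y, mg Q d *ᵥ (mg Q g *ᵥ y) = -(mg Q g *ᵥ (mg Q d *ᵥ y))) := by
  obtain ⟨v, hv⟩ := hex
  have h1 : cG Q (d * g * d⁻¹ * g⁻¹) = 1 := by
    rw [map_mul, map_mul, map_mul, map_inv, map_inv, hcomm]
    group
  obtain ⟨ζ, hζ⟩ := ker_cG Q hQ fr hperf _ h1
  have hinv : ∀ (a : GL ι F) (x : ι → F),
      ((a⁻¹ : GL ι F) : Matrix ι ι F) *ᵥ ((a : Matrix ι ι F) *ᵥ x) = x := by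
    intro a x
    rw [Matrix.mulVec_mulVec, ← Units.val_mul, inv_mul_cancel, Units.val_one, Matrix.one_mulVec]
  have hmat : (((d * g * d⁻¹ * g⁻¹ : ↥(GO Q)) : GL ι F) : Matrix ι ι F) =
      mg Q d * mg Q g * (((d : GL ι F)⁻¹ : GL ι F) : Matrix ι ι F) *
        (((g : GL ι F)⁻¹ : GL ι F) : Matrix ι ι F) := rfl
  have hDG : ∀ y, mg Q d *ᵥ (mg Q g *ᵥ y) = ζ • (mg Q g *ᵥ (mg Q d *ᵥ y)) := by
    intro y
    rw [← hζ, hmat, ← Matrix.mulVec_mulVec, ← Matrix.mulVec_mulVec, ← Matrix.mulVec_mulVec]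
    unfold mg
    rw [hinv, hinv]
  have hζ2 : ζ * ζ = 1 := by
    have h3 := congrArg Q (hDG v)
    rw [Q_smul, mu_spec, mu_spec, mu_spec, mu_spec] at h3
    have hμg : (mu Q g : F) ≠ 0 := Units.ne_zero _
    have hμd : (mu Q d : F) ≠ 0 := Units.ne_zero _
    have h4 : (ζ * ζ - 1) * ((mu Q g : F) * ((mu Q d : F) * Q v)) = 0 := by
      linear_combination -h3
    rcases mul_eq_zero.1 h4 with h | h
    · linear_combination h
    · exact absurd h (mul_ne_zero hμg (mul_ne_zero hμd hv))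
  have h5 : (ζ - 1) * (ζ + 1) = 0 := by linear_combination hζ2
  rcases mul_eq_zero.1 h5 with h | h
  · left
    intro y
    rw [hDG, sub_eq_zero.1 h, one_smul]
  · right
    intro y
    have : ζ = -1 := by linear_combination h
    rw [hDG, this, neg_smul, one_smul]

/-- the main obstruction -/
theorem no_comm_of_even (h2 : (2 : F) ≠ 0) (hkeven : Even k) (g : ↥(GO Q))
    (hsgn : PG.sgn Q k g = -1) (hg2 : cG Q g * cG Q g = 1) (d : ↥(GO Q))
    (hd : PG.chi Q d = -1) (hcomm : cG Q d * cG Q g = cG Q g * cG Q d) : False := by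
  have hone : (1 : F) ≠ -1 := by
    intro h
    apply h2
    linear_combination h
  obtain ⟨l, hl⟩ := exists_scalar_sq Q hQ fr hex hperf hk g hg2
  have hl0 := l_ne_zero Q hex g l hl
  have hdns : ¬ IsSquare (mu Q d : F) := by
    intro hsq
    have : PG.chi Q d = 1 := by
      unfold PG.chi
      rw [quadraticChar_one_iff_isSquare (Units.ne_zero _)]
      exact hsq
    rw [this] at hd
    norm_num at hd
  rcases mu_cases Q hex g l hl with hμ | hμ
  swap
  · have := sgn_of_skew' Q hQ h2 hex hk g l hl hμ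
    rw [hsgn] at this
    exact hone this.symm
  by_cases hsq : IsSquare l
  swap
  · have := sgn_of_nonsquare Q hex hk g l hl hμ hsq
    rw [hsgn, hkeven.neg_one_pow] at this
    exact hone this.symm
  obtain ⟨c, rfl⟩ := hsq
  have hc : c ≠ 0 := fun h => hl0 (by rw [h, mul_zero])
  have hsgn' := sgn_of_eig Q hex g c hk hl hμ
  rcases comm_or_anticomm Q hQ fr hex hperf hk g d hcomm with hz | hz
  · -- commuting: spinor norm
    apply hdns
    set u : Fˣ := Units.mk0 c⁻¹ (inv_ne_zero hc) with hu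
    set gs : ↥(GO Q) := scal Q u * g with hgs
    have hgsmat : ((gs : GL ι F) : Matrix ι ι F) = c⁻¹ • mg Q g := by
      rw [hgs]
      show ((scal Q u : GL ι F) : Matrix ι ι F) * ((g : GL ι F) : Matrix ι ι F) = _
      rw [scal_val, Matrix.smul_mul, Matrix.one_mul, hu, Units.val_mk0]
    have hiso : (gs : GL ι F) ∈ Cfsg.isometryGroup F ⇑Q := by
      rw [mem_isometryGroup_iff]
      intro x
      rw [hgsmat, Matrix.smul_mulVec, Q_smul, mu_spec, hμ]
      field_simp
    set s : ↥(Cfsg.isometryGroup F ⇑Q) := ⟨(gs : GL ι F), hiso⟩ with hs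
    have hdet : detHom Q s = -1 := by
      apply Units.ext
      rw [detHom_val]
      show ((gs : GL ι F) : Matrix ι ι F).det = _
      rw [hgsmat, Matrix.det_smul, hk]
      unfold PG.sgn at hsgn
      rw [hμ] at hsgn
      rw [Units.val_neg, Units.val_one, ← hsgn, mul_comm, inv_pow, inv_pow, ← pow_two, ← pow_mul]
    have hfix : conjO Q d s = s := by
      apply Subtype.ext
      rw [conjO_coe, mul_inv_eq_iff_eq_mul]
      apply Units.ext
      apply Spin.matrix_ext_mulVec
      intro x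
      show (((d : GL ι F) : Matrix ι ι F) * ((gs : GL ι F) : Matrix ι ι F)) *ᵥ x =
        (((gs : GL ι F) : Matrix ι ι F) * ((d : GL ι F) : Matrix ι ι F)) *ᵥ x
      rw [hgsmat, ← Matrix.mulVec_mulVec, ← Matrix.mulVec_mulVec, Matrix.smul_mulVec,
        Matrix.smul_mulVec, Matrix.mulVec_smul, hz]
    exact isSquare_mu_of_fix Q h2 hQ d s hdet hfix
  · -- anticommuting: dimensions
    have hz' : ∀ y, mg Q g *ᵥ (mg Q d *ᵥ y) = -(mg Q d *ᵥ (mg Q g *ᵥ y)) := by
      intro y; rw [hz, neg_neg]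
    have h1 : finrank F (eig Q g c) ≤ finrank F (eig Q g (-c)) := by
      apply finrank_eig_le Q g d
      intro x hx
      rw [mem_eig] at hx ⊢
      rw [hz', hx, Matrix.mulVec_smul, neg_smul]
    have h3 : finrank F (eig Q g (-c)) ≤ finrank F (eig Q g c) := by
      apply finrank_eig_le Q g d
      intro x hx
      rw [mem_eig] at hx ⊢
      rw [hz', hx, Matrix.mulVec_smul, neg_smul, neg_neg]
    have h4 := Submodule.finrank_sup_add_finrank_inf_eq (eig Q g c) (eig Q g (-c))
    rw [eig_sup Q h2 g c hc hl, eig_inf Q h2 g c hc, finrank_top, finrank_bot,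
      Module.finrank_fintype_fun_eq_card, hk] at h4
    have h5 : finrank F (eig Q g (-c)) = k := by omega
    rw [h5, hkeven.neg_one_pow, hsgn] at hsgn'
    exact hone hsgn'.symm

end Cfsg.Agent.Helper28.GInv
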