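import Mathlib
import Cfsg.Agent.Helper28.GraphInv9

set_option autoImplicit false
set_option linter.unusedSectionVars false

/-! Involutory graph automorphisms: two classes when `Inn = PSO` and `k` is even. -/

namespace Cfsg.Agent.Helper28.GInv

open Matrix Module Cfsg.Agent.Helper28.Spin Cfsg.Agent.Helper28.IsoTransport
  Cfsg.Agent.Helper28.Sg Cfsg.Agent.Helper28.PA Cfsg.Agent.Helper28.PG Cfsg.Agent.Helper28.IDG
  Cfsg.Agent.Helper28.SCC

variable {F : Type*} [Field F] [Fintype F] [DecidableEq F] {ι : Type} [Fintype ι] [DecidableEq ι]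
  (Q : QuadraticForm F (ι → F))

variable (hQ : (QuadraticMap.polarBilin Q).Nondegenerate) (fr : Frame3 Q)
  (hex : ∃ v : ι → F, Q v ≠ 0) (hperf : commutator ↥(Cfsg.Omega F ⇑Q) = ⊤) {k : ℕ}
  (hk : Fintype.card ι = 2 * k)

include hQ fr hex hperf hk

theorem count_two_even (h2 : (2 : F) ≠ 0) (hkeven : Even k) (h : ↥(GO Q))
    (hh : PG.chi Q h = -1)
    (hrel : (Cfsg.Inn (Cfsg.POmega F ⇑Q)).relIndex (Cfsg.psoAut F ⇑Q) = 1)
    (g : ↥(GO Q)) (hsgn : PG.sgn Q k g = -1) (hg2 : cG Q g * cG Q g = 1) :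
    Cfsg.splitClassCount (DD Q hex k) (Cfsg.Inn (Cfsg.POmega F ⇑Q)) (cG Q g) = 2 := by
  have hrel2 := relIndex_pso_DD Q hQ fr hex hperf hk h hh
  have heq : Cfsg.psoAut F ⇑Q = Cfsg.Inn (Cfsg.POmega F ⇑Q) := by
    rw [Subgroup.relIndex_eq_one] at hrel
    exact le_antisymm hrel (Inn_le_psoAut Q)
  have hrel3 := hrel2
  rw [heq] at hrel3
  obtain ⟨h₀, hh₀, hh₀n⟩ : ∃ h₀ ∈ DD Q hex k, h₀ ∉ Cfsg.Inn (Cfsg.POmega F ⇑Q) := by
    by_contra hcon
    push Not at hcon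
    have : (Cfsg.Inn (Cfsg.POmega F ⇑Q)).relIndex (DD Q hex k) = 1 := by
      rw [Subgroup.relIndex_eq_one]
      exact hcon
    omega
  have hInnDD : Cfsg.Inn (Cfsg.POmega F ⇑Q) ≤ DD Q hex k :=
    (Inn_le_psoAut Q).trans (psoAut_le_DD Q hex k)
  apply count_two _ _ _ h₀ hh₀
  · apply cover_of_index_two (DD Q hex k) _ (Cfsg.Inn (Cfsg.POmega F ⇑Q)) _ h₀
    · intro p hp
      exact ⟨p, hp, rfl⟩
    · intro y hy
      exact mem_or_of_relIndex_two _ _ hrel3 hh₀ hy hh₀n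
  · rintro ⟨k', hk', hconj⟩
    -- `c = k'⁻¹ h₀` commutes with `γ`
    set c := k'⁻¹ * h₀ with hc
    have hcDD : c ∈ DD Q hex k := Subgroup.mul_mem _ (Subgroup.inv_mem _ (hInnDD hk')) hh₀
    have hcI : c ∉ Cfsg.Inn (Cfsg.POmega F ⇑Q) := by
      intro hcmem
      apply hh₀n
      have : h₀ = k' * c := by rw [hc]; group
      rw [this]
      exact Subgroup.mul_mem _ hk' hcmem
    have hccomm : c * cG Q g = cG Q g * c := by
      have e : c * cG Q g * c⁻¹ = cG Q g := by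
        rw [hc]
        have : k'⁻¹ * h₀ * cG Q g * (k'⁻¹ * h₀)⁻¹ = k'⁻¹ * (h₀ * cG Q g * h₀⁻¹) * k' := by group
        rw [this, hconj]
        group
      rw [mul_inv_eq_iff_eq_mul] at e
      exact e
    obtain ⟨d, hdsgn, hdc⟩ := exists_of_mem_DD Q hex k c hcDD
    have hdchi : PG.chi Q d = -1 := by
      rcases PG.chi_cases Q d with h1 | h1
      · exfalso
        apply hcI
        rw [← heq, ← hdc]
        exact (cG_mem_psoAut_iff Q hQ fr hex hperf hk d hdsgn).2 h1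
      · exact h1
    rw [← hdc] at hccomm
    exact no_comm_of_even Q hQ fr hex hperf hk h2 hkeven g hsgn hg2 d hdchi hccomm

end Cfsg.Agent.Helper28.GInv
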