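import Mathlib
import Cfsg.Agent.Helper28.GraphInv10
import Cfsg.Agent.Helper28.SemiSim5
import Cfsg.Agent.Helper28.MinusInndiag6

set_option autoImplicit false
set_option linter.unusedSectionVars false

/-! Involutory graph automorphisms of `PΩ⁻`: reduction to similarities of sign `-1`. -/

namespace Cfsg.Agent.Helper28.GInv

open Matrix Module Cfsg.Agent.Helper28.Spin Cfsg.Agent.Helper28.IsoTransport
  Cfsg.Agent.Helper28.Sg Cfsg.Agent.Helper28.PA Cfsg.Agent.Helper28.PG Cfsg.Agent.Helper28.IDG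
  Cfsg.Agent.Helper28.SSim Cfsg.Agent.Helper28.IDM

variable {F : Type*} [Field F] [Fintype F] [DecidableEq F] {m : ℕ}

theorem gram_minus (a b : F) :
    LinearMap.BilinForm.toMatrix' (QuadraticMap.polarBilin (QfMinus m F a b)) =
      Matrix.fromBlocks
        (Matrix.fromBlocks (0 : Matrix (Fin m) (Fin m) F) (1 : Matrix (Fin m) (Fin m) F)
          (1 : Matrix (Fin m) (Fin m) F) (0 : Matrix (Fin m) (Fin m) F))
        (0 : Matrix (Fin m ⊕ Fin m) (Fin 2) F) (0 : Matrix (Fin 2) (Fin m ⊕ Fin m) F)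
        (!![2, a; a, 2 * b] : Matrix (Fin 2) (Fin 2) F) := by
  apply gram_ext
  intro x y
  rw [gram_apply]
  exact Cfsg.Agent.S2621.polar_minus m a b x y

theorem gram_minus_det (a b : F) :
    (LinearMap.BilinForm.toMatrix' (QuadraticMap.polarBilin (QfMinus m F a b))).det =
      (-1) ^ m * (4 * b - a ^ 2) := by
  rw [gram_minus, Matrix.det_fromBlocks_zero₂₁,
    Cfsg.Agent.Helper13.det_fromBlocks_zero_one_one_zero, Matrix.det_fin_two_of, Fintype.card_fin]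
  ring

theorem gram_minus_nonsquare (h2 : (2 : F) ≠ 0) (a b : F)
    (hab : ∀ z₁ z₂ : F, z₁ ^ 2 + a * z₁ * z₂ + b * z₂ ^ 2 = 0 → z₁ = 0 ∧ z₂ = 0)
    (σ : F ≃+* F) (hσ2 : ∀ x, σ (σ x) = x) (hσ : σ ≠ RingEquiv.refl F) :
    ¬ IsSquare (LinearMap.BilinForm.toMatrix' (QuadraticMap.polarBilin (QfMinus m F a b))).det := by
  have hδ := Cfsg.Agent.S2621.not_isSquare_disc h2 a b hab
  rw [gram_minus_det]
  obtain ⟨r, hr⟩ := isSquare_of_fixed σ h2 hσ2 hσ ((-1) ^ (m + 1)) (by simp)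
  have hr0 : r ≠ 0 := by
    rintro rfl
    rw [mul_zero] at hr
    exact pow_ne_zero _ (neg_ne_zero.2 one_ne_zero) hr
  rintro ⟨s, hs⟩
  apply hδ
  refine ⟨s * r⁻¹, ?_⟩
  have e : (-1 : F) ^ m * (4 * b - a ^ 2) = (-1) ^ (m + 1) * (a ^ 2 - 4 * b) := by
    rw [pow_succ]; ring
  rw [e, hr] at hs
  field_simp
  linear_combination hs

/-- the data extracted from an involutory graph automorphism of `PΩ⁻` -/
theorem exists_graph_data_minus (hodd : Odd (Fintype.card F)) (h2 : (2 : F) ≠ 0) (hm : 3 ≤ m)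
    (a b : F) (hab : ∀ z₁ z₂ : F, z₁ ^ 2 + a * z₁ * z₂ + b * z₂ ^ 2 = 0 → z₁ = 0 ∧ z₂ = 0)
    (γ : MulAut (Cfsg.POmega F (Cfsg.quadFormMinus m F a b)))
    (hγ : Cfsg.IsGraphAutClassPOmegaMinus m a b γ) (hγ2 : orderOf γ = 2) :
    ∃ g : ↥(GO (QfMinus m F a b)), PG.sgn (QfMinus m F a b) (m + 1) g = -1 ∧
      cG (QfMinus m F a b) g = γ ∧ cG (QfMinus m F a b) g * cG (QfMinus m F a b) g = 1 := by
  have hδ := Cfsg.Agent.S2621.not_isSquare_disc h2 a b hab
  have hdisc : 4 * b - a ^ 2 ≠ 0 := by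
    intro h
    apply hδ
    have : a ^ 2 - 4 * b = 0 := by linear_combination -h
    rw [this]
    exact ⟨0, by simp⟩
  have hQ : (QuadraticMap.polarBilin (QfMinus m F a b)).Nondegenerate :=
    Cfsg.Agent.S2171.QfMinus_nondeg_of m a b hdisc
  have hcardι : Fintype.card ((Fin m ⊕ Fin m) ⊕ Fin 2) = 2 * (m + 1) := by
    rw [Fintype.card_sum, Fintype.card_sum, Fintype.card_fin, Fintype.card_fin]; omega
  let a' : Fin 3 → (Fin m ⊕ Fin m) ⊕ Fin 2 :=
    fun j => Sum.inl (Sum.inl (Fin.castLE (by omega) j))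
  let b' : Fin 3 → (Fin m ⊕ Fin m) ⊕ Fin 2 :=
    fun j => Sum.inl (Sum.inr (Fin.castLE (by omega) j))
  have hinj : Function.Injective (Sum.elim a' b') := by
    intro x y h
    rcases x with x | x <;> rcases y with y | y <;>
      simp only [Sum.elim_inl, Sum.elim_inr, a', b', Sum.inl.injEq, Sum.inr.injEq, reduceCtorEq,
        Fin.castLE_inj] at h
    · rw [h]
    · rw [h]
  let fr : Frame3 (QfMinus m F a b) := frameOf a' b' hinj
    (fun j => Cfsg.Agent.S2615.hypPair_minus m a b _)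
  have hperf := Omega_perfect' hQ fr (hgen_odd h2 hQ)
  have hex := hex_minus (m := m) a b
  obtain ⟨hγΓ, hγD, -⟩ := hγ
  have hγγ0 : γ ^ 2 = 1 := by
    have h := pow_orderOf_eq_one γ
    rw [hγ2] at h
    exact h
  obtain ⟨g₀, σ, hp, hind⟩ := exists_of_mem_gamma (Cfsg.quadFormMinus m F a b) γ hγΓ
  rw [inndiagM_eq hodd h2 a b hab] at hγD
  obtain ⟨γ', hγ'⟩ : ∃ γ' : MulAut (Cfsg.POmega F ⇑(QfMinus m F a b)), γ' = γ := ⟨γ, rfl⟩
  have hγγ : γ' * γ' = 1 := by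
    rw [← pow_two]
    rw [hγ']
    exact hγγ0
  have hγD' : γ' ∉ DD (QfMinus m F a b) (hex_minus a b) (m + 1) := by
    rw [hγ']; exact hγD
  have hp' : Cfsg.IsSemisimilarityPair (⇑(QfMinus m F a b)) g₀ σ := hp
  have hind' : Cfsg.IsInducedBySemilinearPOmega (⇑(QfMinus m F a b)) g₀ σ γ' := by
    rw [hγ']; exact hind
  rw [← hγ']
  clear hγ' hind hγD hγΓ hγγ0 hγ2
  have hind2 := induced_mul (⇑(QfMinus m F a b)) hp' hp' hind' hind'
  rw [hγγ] at hind2
  have hp2 := semisim_mul (⇑(QfMinus m F a b)) hp' hp'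
  have hσσ := sigma_eq_refl_of_one (QfMinus m F a b) hQ fr hperf hp2 hind2
  have hσ2 : ∀ x, σ (σ x) = x := by
    intro x
    have := congrArg (fun τ : F ≃+* F => τ x) hσσ
    exact this
  rw [hσσ] at hp2 hind2
  have hh : g₀ * mapGL σ g₀ ∈ GO (QfMinus m F a b) := by
    obtain ⟨c, hc⟩ := hp2
    exact ⟨c, hc⟩
  have h1 : (1 : MulAut (Cfsg.POmega F ⇑(QfMinus m F a b))) =
      cG (QfMinus m F a b) ⟨g₀ * mapGL σ g₀, hh⟩ :=
    (induced_iff (QfMinus m F a b) _ hh _).1 hind2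
  have hsgn1 := (ker_of_cG (QfMinus m F a b) hQ fr hex hperf hcardι _ h1.symm).2
  by_cases hσ : σ = RingEquiv.refl F
  · subst hσ
    have hg₀ : g₀ ∈ GO (QfMinus m F a b) := by
      obtain ⟨c, hc⟩ := hp'
      exact ⟨c, hc⟩
    have hγg : γ' = cG (QfMinus m F a b) ⟨g₀, hg₀⟩ :=
      (induced_iff (QfMinus m F a b) g₀ hg₀ γ').1 hind'
    refine ⟨⟨g₀, hg₀⟩, ?_, hγg.symm, ?_⟩
    · rcases sgn_cases (QfMinus m F a b) hQ hcardι ⟨g₀, hg₀⟩ with h | h
      · exfalso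
        apply hγD'
        rw [hγg]
        exact cG_mem_DD (QfMinus m F a b) hex (m + 1) _ h
      · exact h
    · rw [← hγg]
      exact hγγ
  · exfalso
    have hD := gram_minus_nonsquare (m := m) h2 a b hab σ hσ2 hσ
    have := sgn_sq_semisim (QfMinus m F a b) h2 hex hcardι hσ2 hσ hp' hD hh
    rw [hsgn1] at this
    apply h2
    linear_combination this

end Cfsg.Agent.Helper28.GInv
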