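import Mathlib
import Cfsg.Prelude.Def_PLocal
import Cfsg.Agent.Helper28.S2768Defs
import Cfsg.Agent.Helper26.CF1

/-! S2768 pieces AF1, AF2, AF3 (blueprint §2): elementary facts on `𝒜(S)`, `J`, `W`, `B`. -/

set_option autoImplicit false

namespace Cfsg.Agent.S2768P

open Subgroup

variable {G : Type*} [Group G]

theorem AF1_aux_mem_cj {n x : G} {H : Subgroup G} : x ∈ cj n H ↔ n⁻¹ * x * n ∈ H := by
  unfold cj
  constructor
  · rintro ⟨y, hy, rfl⟩
    simpa [MulAut.conj_apply, mul_assoc] using hy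
  · intro h
    exact ⟨n⁻¹ * x * n, h, by simp [MulAut.conj_apply, mul_assoc]⟩

/-- the join of two abelian subgroups centralising each other is abelian -/
theorem AF1_aux_sup_comm {E A : Subgroup G} (hEc : ∀ a ∈ E, ∀ b ∈ E, a * b = b * a)
    (hAc : ∀ a ∈ A, ∀ b ∈ A, a * b = b * a) (hcent : ∀ e ∈ E, ∀ a ∈ A, e * a = a * e) :
    ∀ x ∈ E ⊔ A, ∀ y ∈ E ⊔ A, x * y = y * x := by
  have hgen : ∀ x : G, (∀ e ∈ E, e * x = x * e) → (∀ a ∈ A, a * x = x * a) →
      ∀ y ∈ E ⊔ A, y * x = x * y := by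
    intro x h1 h2 y hy
    have : E ⊔ A ≤ centralizer ({x} : Set G) := by
      apply sup_le
      · intro e he
        rw [mem_centralizer_iff]
        intro z hz
        rw [Set.mem_singleton_iff] at hz
        subst hz
        exact (h1 e he).symm
      · intro a ha
        rw [mem_centralizer_iff]
        intro z hz
        rw [Set.mem_singleton_iff] at hz
        subst hz
        exact (h2 a ha).symm
    have h3 := this hy
    rw [mem_centralizer_iff] at h3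
    exact (h3 x rfl).symm
  intro x hx y hy
  have hx1 : ∀ e ∈ E, e * x = x * e := by
    intro e he
    exact (hgen e (fun e' he' => hEc e' he' e he) (fun a ha => (hcent e he a ha).symm) x hx).symm
  have hx2 : ∀ a ∈ A, a * x = x * a := by
    intro a ha
    exact (hgen a (fun e he => hcent e he a ha) (fun a' ha' => hAc a' ha' a ha) x hx).symm
  exact (hgen x hx1 hx2 y hy).symm

variable [Finite G]

theorem AF1 {S A E : Subgroup G} (hA : A ∈ 𝒜 S) (hES : E ≤ S)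
    (hEc : ∀ a ∈ E, ∀ b ∈ E, a * b = b * a) (hcent : ∀ e ∈ E, ∀ a ∈ A, e * a = a * e) : E ≤ A := by
  obtain ⟨hAS, hAc, hmax⟩ := hA
  have h1 := hmax (E ⊔ A) (sup_le hES hAS) (AF1_aux_sup_comm hEc hAc hcent)
  have h2 : A = E ⊔ A := Subgroup.eq_of_le_of_card_ge le_sup_right h1
  rw [h2]
  exact le_sup_left

theorem AF2 (S : Subgroup G) :
    J S = sSup (𝒜 S) ∧ (𝒜 S).Nonempty ∧ Z S ≤ W S ∧ W S ≤ J S ∧ J S ≤ S ∧ J S ≤ B S ∧
      ∀ A ∈ 𝒜 S, W S ≤ A ∧ A ≤ J S := by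
  have hJ : J S = sSup (𝒜 S) := by
    unfold J 𝒜
    rw [Cfsg.Agent.Helper26.thompsonSubgroupAOf_eq, Cfsg.Agent.Helper26.famAb_eq_famEl_zero]
  have hne : (𝒜 S).Nonempty := by
    unfold 𝒜
    rw [Cfsg.Agent.Helper26.famAb_eq_famEl_zero]
    exact Cfsg.Agent.Helper26.famEl_nonempty 0 S
  have hJS : J S ≤ S := by
    rw [hJ]
    exact sSup_le fun A hA => hA.1
  have hWJ : W S ≤ J S := by
    unfold W Cfsg.centerThompsonAOf J
    exact inf_le_left
  have hWc : W S ≤ centralizer (J S : Set G) := by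
    unfold W Cfsg.centerThompsonAOf J
    exact inf_le_right
  have hZW : Z S ≤ W S := by
    intro z hz
    have h1 : z ∈ J S := Cfsg.Agent.Helper26.CF.center_le_thompsonSubgroupAOf S hz
    have h2 : z ∈ centralizer (J S : Set G) := by
      rw [mem_centralizer_iff]
      intro y hy
      have hy' : y ∈ J S := hy
      exact mem_centralizer_iff.mp hz.2 y (hJS hy')
    exact ⟨h1, h2⟩
  have hJB : J S ≤ B S := by
    unfold B
    refine le_inf hJS ?_
    intro j hj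
    rw [mem_centralizer_iff]
    intro w hw
    exact (mem_centralizer_iff.mp (hWc hw) j hj).symm
  refine ⟨hJ, hne, hZW, hWJ, hJS, hJB, ?_⟩
  intro A hA
  have hAJ : A ≤ J S := by rw [hJ]; exact le_sSup hA
  refine ⟨?_, hAJ⟩
  apply AF1 hA (hWJ.trans hJS)
  · intro a ha b hb
    exact (mem_centralizer_iff.mp (hWc hb) a (hWJ ha))
  · intro e he a ha
    exact (mem_centralizer_iff.mp (hWc he) a (hAJ ha)).symm

omit [Finite G] in
theorem AF3_aux_eq_of_le (n : G) (X : Subgroup G) (h2 : cj n⁻¹ X ≤ X) (h1 : cj n X ≤ X) :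
    cj n X = X := by
  apply le_antisymm h1
  intro x hx
  rw [AF1_aux_mem_cj]
  have : n⁻¹ * x * n ∈ cj n⁻¹ X := by
    rw [AF1_aux_mem_cj]
    simpa [mul_assoc] using hx
  exact h2 this

theorem AF3_aux_fam (S T : Subgroup G) (hJT : J S ≤ T) (hTS : T ≤ S) (n : G) (hn : cj n T ≤ T)
    (A : Subgroup G) (hA : A ∈ 𝒜 S) : cj n A ∈ 𝒜 S := by
  obtain ⟨-, -, -, -, -, -, hall⟩ := AF2 S
  have hAJ := (hall A hA).2
  obtain ⟨hAS, hAc, hmax⟩ := hA
  refine ⟨?_, ?_, ?_⟩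
  · intro x hx
    rw [AF1_aux_mem_cj] at hx
    apply hTS
    apply hn
    rw [AF1_aux_mem_cj]
    exact hJT (hAJ hx)
  · intro x hx y hy
    rw [AF1_aux_mem_cj] at hx hy
    have := hAc _ hx _ hy
    have e1 : x * y = n * ((n⁻¹ * x * n) * (n⁻¹ * y * n)) * n⁻¹ := by group
    have e2 : y * x = n * ((n⁻¹ * y * n) * (n⁻¹ * x * n)) * n⁻¹ := by group
    rw [e1, e2, this]
  · intro Y hY hYc
    have h1 := hmax Y hY hYc
    have h2 : Nat.card ↥(cj n A) = Nat.card ↥A := by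
      unfold cj
      exact Nat.card_congr (A.equivMapOfInjective _ (MulAut.conj n).injective).toEquiv.symm
    rw [h2]
    exact h1

theorem AF3_aux_J_le (S T : Subgroup G) (hJT : J S ≤ T) (hTS : T ≤ S) (n : G) (hn : cj n T ≤ T) :
    cj n (J S) ≤ J S := by
  obtain ⟨hJ, -, -, -, -, -, hall⟩ := AF2 S
  unfold cj
  rw [Subgroup.map_le_iff_le_comap]
  nth_rewrite 1 [hJ]
  apply sSup_le
  intro A hA
  rw [← Subgroup.map_le_iff_le_comap]
  exact (hall _ (AF3_aux_fam S T hJT hTS n hn A hA)).2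

omit [Finite G] in
theorem AF3_aux_inv (n : G) (T : Subgroup G) (hn : cj n T = T) : cj n⁻¹ T = T := by
  have key : ∀ x : G, x ∈ T ↔ n⁻¹ * x * n ∈ T := by
    intro x
    rw [← AF1_aux_mem_cj, hn]
  ext x
  rw [AF1_aux_mem_cj, inv_inv]
  have := key (n * x * n⁻¹)
  rw [this]
  have e : n⁻¹ * (n * x * n⁻¹) * n = x := by group
  rw [e]

theorem AF3 (S T : Subgroup G) (hJT : J S ≤ T) (hTS : T ≤ S) (n : G) (hn : cj n T = T) :
    cj n (J S) = J S ∧ cj n (W S) = W S ∧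
      cj n (T ⊓ centralizer (W S : Set G)) = T ⊓ centralizer (W S : Set G) := by
  have hn' : cj n⁻¹ T = T := AF3_aux_inv n T hn
  have hJ1 : cj n (J S) = J S :=
    AF3_aux_eq_of_le n (J S) (AF3_aux_J_le S T hJT hTS n⁻¹ hn'.le) (AF3_aux_J_le S T hJT hTS n hn.le)
  -- conjugation of a centraliser
  have hcent : ∀ (m : G) (X : Subgroup G), cj m X = X →
      cj m (centralizer (X : Set G)) ≤ centralizer (X : Set G) := by
    intro m X hX c hc
    rw [AF1_aux_mem_cj] at hc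
    rw [mem_centralizer_iff]
    intro x hx
    have hx' : x ∈ X := hx
    have h1 : m⁻¹ * x * m ∈ X := by
      have : x ∈ cj m X := by rw [hX]; exact hx'
      rwa [AF1_aux_mem_cj] at this
    have h2 := mem_centralizer_iff.mp hc _ h1
    have e1 : x * c = m * ((m⁻¹ * x * m) * (m⁻¹ * c * m)) * m⁻¹ := by group
    have e2 : c * x = m * ((m⁻¹ * c * m) * (m⁻¹ * x * m)) * m⁻¹ := by group
    rw [e1, e2, h2]
  have hJ1' : cj n⁻¹ (J S) = J S :=
    AF3_aux_eq_of_le n⁻¹ (J S) (by rw [inv_inv]; exact hJ1.le) (AF3_aux_J_le S T hJT hTS n⁻¹ hn'.le)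
  have hinf : ∀ (m : G) (X Y : Subgroup G), cj m X ≤ X → cj m Y ≤ Y → cj m (X ⊓ Y) ≤ X ⊓ Y := by
    intro m X Y hX hY x hx
    rw [AF1_aux_mem_cj] at hx
    exact ⟨hX (AF1_aux_mem_cj.mpr hx.1), hY (AF1_aux_mem_cj.mpr hx.2)⟩
  have hW1 : cj n (W S) = W S := by
    unfold W Cfsg.centerThompsonAOf
    apply AF3_aux_eq_of_le
    · exact hinf n⁻¹ _ _ hJ1'.le (hcent n⁻¹ _ hJ1')
    · exact hinf n _ _ hJ1.le (hcent n _ hJ1)
  have hW1' : cj n⁻¹ (W S) = W S := by
    unfold W Cfsg.centerThompsonAOf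
    apply AF3_aux_eq_of_le
    · rw [inv_inv]; exact hinf n _ _ hJ1.le (hcent n _ hJ1)
    · exact hinf n⁻¹ _ _ hJ1'.le (hcent n⁻¹ _ hJ1')
  refine ⟨hJ1, hW1, ?_⟩
  apply AF3_aux_eq_of_le
  · exact hinf n⁻¹ _ _ hn'.le (hcent n⁻¹ _ hW1')
  · exact hinf n _ _ hn.le (hcent n _ hW1)

end Cfsg.Agent.S2768P
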