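import Mathlib
import Cfsg.Prelude.Def_GeometricClasses
import Cfsg.Agent.Helper28.SpMax

set_option autoImplicit false

/-! Maximality of the stabiliser of a nondegenerate subspace `W` (`dim W < m`) in `Sp_2m(F)`. -/

namespace Cfsg.Agent.Helper28.SpMax

open Matrix Cfsg.Agent.Helper2.Sp

variable {F : Type*} [Field F] {m : ℕ}

local notation "V" => (Fin m ⊕ Fin m → F)
local notation "Sp" => Matrix.symplecticGroup (Fin m) F

theorem SS_step (M : Subgroup Sp) (U : Submodule F V) (hU : ∀ u ∈ U, u ∈ SS M)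
    {a a' : V} (ha : a ∈ U) (ha' : a' ∈ U) (hne : om a a' ≠ 0) (b : V)
    (hb : ∀ u ∈ U, om u b = 0) (h : a + b ∈ SS M) : a' + b ∈ SS M := by
  have ht : Tg (a - a') (-(om a a')⁻¹) ∈ M := hU _ (U.sub_mem ha ha') _
  have := SS_map M h ht
  rw [mulVec_add] at this
  have h1 : ((Tg (a - a') (-(om a a')⁻¹) : Sp) : Matrix (Fin m ⊕ Fin m) (Fin m ⊕ Fin m) F) *ᵥ a = a' :=
    T_map_of_om_ne_zero hne
  have h2 : ((Tg (a - a') (-(om a a')⁻¹) : Sp) : Matrix (Fin m ⊕ Fin m) (Fin m ⊕ Fin m) F) *ᵥ b = b := by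
    rw [Tg_mulVec, hb _ (U.sub_mem ha ha'), mul_zero, zero_smul, add_zero]
  rw [h1, h2] at this
  exact this

theorem SS_move (M : Subgroup Sp) (U : Submodule F V) (hU : ∀ u ∈ U, u ∈ SS M)
    (hnd : ∀ a ∈ U, a ≠ 0 → ∃ u ∈ U, om a u ≠ 0)
    {a a' : V} (ha : a ∈ U) (ha' : a' ∈ U) (ha0 : a ≠ 0) (ha0' : a' ≠ 0) (b : V)
    (hb : ∀ u ∈ U, om u b = 0) (h : a + b ∈ SS M) : a' + b ∈ SS M := by
  by_cases hne : om a a' ≠ 0
  · exact SS_step M U hU ha ha' hne b hb h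
  · push Not at hne
    obtain ⟨x1, hx1, h1⟩ := hnd a ha ha0
    obtain ⟨x2, hx2, h2⟩ := hnd a' ha' ha0'
    obtain ⟨u, hu, h3, h4⟩ : ∃ u ∈ U, om a u ≠ 0 ∧ om u a' ≠ 0 := by
      have h2' : ∀ x, om x a' ≠ 0 ↔ om a' x ≠ 0 := by
        intro x; rw [om_swap a' x, neg_ne_zero]
      by_cases h5 : om a' x1 = 0
      · by_cases h6 : om a x2 = 0
        · refine ⟨x1 + x2, U.add_mem hx1 hx2, ?_, ?_⟩
          · rw [om_add_right, h6, add_zero]; exact h1
          · rw [h2', om_add_right, h5, zero_add]; exact h2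
        · exact ⟨x2, hx2, h6, (h2' x2).mpr h2⟩
      · exact ⟨x1, hx1, h1, (h2' x1).mpr h5⟩
    exact SS_step M U hU hu ha' h4 b hb (SS_step M U hU ha hu h3 b hb h)

theorem sp_max2 (W : Submodule F V)
    (hWnd : ∀ a ∈ W, a ≠ 0 → ∃ u ∈ W, om a u ≠ 0) (hdim : Module.finrank F W < m)
    (M : Subgroup Sp)
    (hP : ∀ g : Sp, (∀ w ∈ W, (g : Matrix (Fin m ⊕ Fin m) (Fin m ⊕ Fin m) F) *ᵥ w ∈ W) → g ∈ M)
    (g0 : Sp) (hg0 : g0 ∈ M) (w : V) (hw : w ∈ W)
    (hgw : (g0 : Matrix (Fin m ⊕ Fin m) (Fin m ⊕ Fin m) F) *ᵥ w ∉ W) : M = ⊤ := by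
  classical
  set B := Cfsg.Agent.Helper28.SympFrame.sB m F with hB
  have hBr : B.IsRefl := (Cfsg.Agent.Helper28.SympFrame.sB_isAlt m F).isRefl
  set Wp : Submodule F V := B.orthogonal W with hWp
  have hWpmem : ∀ z, z ∈ Wp ↔ ∀ w ∈ W, om w z = 0 := fun z => Iff.rfl
  have hWpp : ∀ y : V, (∀ u ∈ Wp, om u y = 0) → y ∈ W := by
    intro y hy
    have h1 : y ∈ B.orthogonal Wp := hy
    rw [hWp, LinearMap.BilinForm.orthogonal_orthogonal (Cfsg.Agent.Helper28.SympFrame.sB_nondeg m F)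
      hBr] at h1
    exact h1
  have hrn : (B.restrict W).Nondegenerate := by
    constructor
    · intro x hx
      by_contra hx0
      obtain ⟨u, hu, h⟩ := hWnd x x.2 (fun h => hx0 (Subtype.ext h))
      exact h (hx ⟨u, hu⟩)
    · intro x hx
      by_contra hx0
      obtain ⟨u, hu, h⟩ := hWnd x x.2 (fun h => hx0 (Subtype.ext h))
      apply h
      have := hx ⟨u, hu⟩
      have h' : om u x = 0 := this
      rw [om_swap u x, h', neg_zero]
  have hcompl : IsCompl W Wp := B.isCompl_orthogonal_of_restrict_nondegenerate hBr hrn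
  have hdec : ∀ v : V, ∃ a ∈ W, ∃ b ∈ Wp, v = a + b := by
    intro v
    have hv : v ∈ W ⊔ Wp := by rw [hcompl.sup_eq_top]; trivial
    obtain ⟨a, ha, b, hb, rfl⟩ := Submodule.mem_sup.mp hv
    exact ⟨a, ha, b, hb, rfl⟩
  have hWpnd : ∀ b ∈ Wp, b ≠ 0 → ∃ u ∈ Wp, om b u ≠ 0 := by
    intro b hb hb0
    obtain ⟨y, hy⟩ := exists_om_ne_zero hb0
    obtain ⟨a', ha', b', hb', rfl⟩ := hdec y
    refine ⟨b', hb', ?_⟩
    rw [om_add_right, om_swap a' b, (hWpmem b).mp hb a' ha', neg_zero, zero_add] at hy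
    exact hy
  have hS_W : ∀ v ∈ W, v ∈ SS M := by
    intro v hv c
    apply hP
    intro w' hw'
    rw [Tg_mulVec]
    exact W.add_mem hw' (W.smul_mem _ hv)
  have hS_Wp : ∀ v ∈ Wp, v ∈ SS M := by
    intro v hv c
    apply hP
    intro w' hw'
    rw [Tg_mulVec, om_swap w' v, (hWpmem v).mp hv w' hw', neg_zero, mul_zero, zero_smul, add_zero]
    exact hw'
  -- a mixed vector in SS
  obtain ⟨a, ha, b, hb, ha0, hb0, hab⟩ : ∃ a ∈ W, ∃ b ∈ Wp, a ≠ 0 ∧ b ≠ 0 ∧ a + b ∈ SS M := by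
    by_contra hcon
    push Not at hcon
    have himg : ∀ u ∈ Wp, ((g0⁻¹ : Sp) : Matrix (Fin m ⊕ Fin m) (Fin m ⊕ Fin m) F) *ᵥ u ∈ SS M :=
      fun u hu => SS_map M (hS_Wp u hu) (M.inv_mem hg0)
    have hor : ∀ u ∈ Wp, ((g0⁻¹ : Sp) : Matrix (Fin m ⊕ Fin m) (Fin m ⊕ Fin m) F) *ᵥ u ∈ Wp ∨
        ((g0⁻¹ : Sp) : Matrix (Fin m ⊕ Fin m) (Fin m ⊕ Fin m) F) *ᵥ u ∈ W := by
      intro u hu
      obtain ⟨a, ha, b, hb, hab⟩ := hdec (((g0⁻¹ : Sp) : Matrix (Fin m ⊕ Fin m) (Fin m ⊕ Fin m) F) *ᵥ u)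
      by_cases ha0 : a = 0
      · left; rw [hab, ha0, zero_add]; exact hb
      · right
        have hb0 : b = 0 := by
          by_contra hb0
          exact hcon a ha b hb ha0 hb0 (hab ▸ himg u hu)
        rw [hab, hb0, add_zero]; exact ha
    have hcases : (∀ u ∈ Wp, ((g0⁻¹ : Sp) : Matrix (Fin m ⊕ Fin m) (Fin m ⊕ Fin m) F) *ᵥ u ∈ Wp) ∨
        (∀ u ∈ Wp, ((g0⁻¹ : Sp) : Matrix (Fin m ⊕ Fin m) (Fin m ⊕ Fin m) F) *ᵥ u ∈ W) := by
      by_contra hneg
      push Not at hneg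
      obtain ⟨⟨u1, hu1, h1⟩, ⟨u2, hu2, h2⟩⟩ := hneg
      have h1' := (hor u1 hu1).resolve_left h1
      have h2' := (hor u2 hu2).resolve_right h2
      rcases hor (u1 + u2) (Wp.add_mem hu1 hu2) with h | h
      · rw [mulVec_add] at h
        apply h1
        have := Wp.sub_mem h h2'
        rwa [add_sub_cancel_right] at this
      · rw [mulVec_add] at h
        apply h2
        have := W.sub_mem h h1'
        rwa [add_sub_cancel_left] at this
    rcases hcases with hA | hB'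
    · apply hgw
      apply hWpp
      intro u hu
      have h1 := hA u hu
      have h2 : (g0 : Matrix (Fin m ⊕ Fin m) (Fin m ⊕ Fin m) F) *ᵥ
          (((g0⁻¹ : Sp) : Matrix (Fin m ⊕ Fin m) (Fin m ⊕ Fin m) F) *ᵥ u) = u := by
        rw [← mul_mulVec, mul_inv_cancel]
        exact one_mulVec u
      rw [← h2, om_g, om_swap w _, (hWpmem _).mp h1 w hw, neg_zero]
    · -- dimension count
      have hfin : Module.finrank F Wp = 2 * m - Module.finrank F W := by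
        rw [hWp, LinearMap.BilinForm.finrank_orthogonal (Cfsg.Agent.Helper28.SympFrame.sB_nondeg m F)]
        simp only [Module.finrank_fintype_fun_eq_card, Fintype.card_sum, Fintype.card_fin]
        omega
      let f : Wp →ₗ[F] W := LinearMap.codRestrict W
        ((Matrix.mulVecLin ((g0⁻¹ : Sp) : Matrix (Fin m ⊕ Fin m) (Fin m ⊕ Fin m) F)).domRestrict Wp)
        (fun u => hB' u.1 u.2)
      have hf : Function.Injective f := by
        intro u1 u2 h
        have h' : ((g0⁻¹ : Sp) : Matrix (Fin m ⊕ Fin m) (Fin m ⊕ Fin m) F) *ᵥ (u1 : V) =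
            ((g0⁻¹ : Sp) : Matrix (Fin m ⊕ Fin m) (Fin m ⊕ Fin m) F) *ᵥ (u2 : V) :=
          congrArg Subtype.val h
        have h2 := congrArg (fun z => (g0 : Matrix (Fin m ⊕ Fin m) (Fin m ⊕ Fin m) F) *ᵥ z) h'
        simp only [← mul_mulVec, mul_inv_cancel] at h2
        apply Subtype.ext
        simpa using h2
      have := LinearMap.finrank_le_finrank_of_injective hf
      omega
  -- everything
  have hall : ∀ v : V, v ∈ SS M := by
    intro v
    obtain ⟨a', ha', b', hb', rfl⟩ := hdec v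
    by_cases ha0' : a' = 0
    · rw [ha0', zero_add]; exact hS_Wp b' hb'
    by_cases hb0' : b' = 0
    · rw [hb0', add_zero]; exact hS_W a' ha'
    have h1 : a' + b ∈ SS M :=
      SS_move M W hS_W hWnd ha ha' ha0 ha0' b (fun u hu => (hWpmem b).mp hb u hu) hab
    rw [add_comm] at h1
    have h2 : b' + a' ∈ SS M :=
      SS_move M Wp hS_Wp hWpnd hb hb' hb0 hb0' a'
        (fun u hu => by rw [om_swap a' u, (hWpmem u).mp hu a' ha', neg_zero]) h1
    rw [add_comm]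
    exact h2
  rw [eq_top_iff, ← TV_eq_top (Fin m) F]
  unfold TV
  rw [Subgroup.closure_le]
  rintro _ ⟨⟨v, c⟩, rfl⟩
  exact hall v c

/-- generic wrapper: from an abstract maximality statement in `Sp` to `IsMaximalIn` in `spGL`. -/
theorem stab_maximal_of (W : Submodule F V) (hW0 : W ≠ ⊥) (hW1 : W ≠ ⊤)
    (hmax : ∀ M : Subgroup Sp,
      (∀ g : Sp, (∀ w ∈ W, (g : Matrix (Fin m ⊕ Fin m) (Fin m ⊕ Fin m) F) *ᵥ w ∈ W) → g ∈ M) →
      ∀ g0 ∈ M, ∀ w ∈ W, (g0 : Matrix (Fin m ⊕ Fin m) (Fin m ⊕ Fin m) F) *ᵥ w ∉ W → M = ⊤) :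
    Cfsg.Geo.IsMaximalIn (Cfsg.spGL m F) (Cfsg.Geo.subspaceStabilizer W ⊓ Cfsg.spGL m F) := by
  classical
  refine ⟨lt_of_le_of_ne inf_le_right ?_, ?_⟩
  · intro heq
    obtain ⟨w, hw, hw0⟩ := (Submodule.ne_bot_iff W).mp hW0
    obtain ⟨z, hzW⟩ : ∃ z : V, z ∉ W := by
      by_contra hcon
      push Not at hcon
      exact hW1 (eq_top_iff.mpr (fun z _ => hcon z))
    have hz0 : z ≠ 0 := by
      rintro rfl
      exact hzW W.zero_mem
    obtain ⟨g, hg⟩ := exists_symplectic_mulVec_eq w z hw0 hz0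
    have h1 : toGL g ∈ Cfsg.Geo.subspaceStabilizer W ⊓ Cfsg.spGL m F := by
      rw [heq]; exact toGL_mem g
    have h2 := (h1.1 w).mp hw
    apply hzW
    rw [← hg]
    exact h2
  · intro M hPM hMS
    by_cases hMP : M ≤ Cfsg.Geo.subspaceStabilizer W ⊓ Cfsg.spGL m F
    · left; exact le_antisymm hMP hPM
    right
    refine le_antisymm hMS ?_
    obtain ⟨g, hgM, hgP⟩ := SetLike.not_le_iff_exists.mp hMP
    have hgW : g ∉ Cfsg.Geo.subspaceStabilizer W := fun h => hgP ⟨h, hMS hgM⟩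
    obtain ⟨w, hw, hgw⟩ : ∃ w ∈ W, (g : Matrix (Fin m ⊕ Fin m) (Fin m ⊕ Fin m) F) *ᵥ w ∉ W := by
      by_contra hcon
      push Not at hcon
      exact hgW (mem_stab_of_forall' W g hcon)
    obtain ⟨g0, rfl⟩ := exists_of_mem_spGL g (hMS hgM)
    have htop : M.comap toGL = ⊤ := by
      refine hmax (M.comap toGL) ?_ g0 hgM w hw hgw
      intro A hA
      apply hPM
      exact ⟨mem_stab_of_forall' W (toGL A) hA, toGL_mem A⟩
    intro h hh
    obtain ⟨A, rfl⟩ := exists_of_mem_spGL h hh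
    have : A ∈ M.comap toGL := by rw [htop]; trivial
    exact this

/-- **Maximality of the stabiliser of a nondegenerate subspace of dimension `< m` in `Sp_2m(F)`**. -/
theorem stab_maximal2 (W : Submodule F V) (hW0 : W ≠ ⊥)
    (hW : Cfsg.Geo.IsNondegenerateOn (Cfsg.sympForm m F) W) (hdim : Module.finrank F W < m) :
    Cfsg.Geo.IsMaximalIn (Cfsg.spGL m F) (Cfsg.Geo.subspaceStabilizer W ⊓ Cfsg.spGL m F) := by
  have hW1 : W ≠ ⊤ := by
    rintro rfl
    rw [finrank_top] at hdim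
    simp only [Module.finrank_fintype_fun_eq_card, Fintype.card_sum, Fintype.card_fin] at hdim
    omega
  refine stab_maximal_of W hW0 hW1 ?_
  intro M hP g0 hg0 w hw hgw
  exact sp_max2 W (fun a ha ha0 => (hW a ha ha0).2) hdim M hP g0 hg0 w hw hgw

end Cfsg.Agent.Helper28.SpMax
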