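import Mathlib
import Cfsg.Prelude.Def_GeometricClasses
import Cfsg.Agent.Helper28.SpMax2
import Cfsg.Agent.Helper28.OrthMax3
import Cfsg.Agent.Helper28.CD2
import Cfsg.Agent.Helper28.OmegaCenter

set_option autoImplicit false

/-! `O(Q)` is a maximal subgroup of `Sp_2m(q)`, `q` even. -/

namespace Cfsg.Agent.Helper28.SOM

open Matrix Module Cfsg.Agent.Helper2.Sp Cfsg.Agent.Helper28.Sg Cfsg.Agent.Helper28.Spin

variable {F : Type*} [Field F] [Fintype F] {m : ℕ}

local notation "V" => (Fin m ⊕ Fin m → F)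
local notation "Sp" => Matrix.symplecticGroup (Fin m) F

variable (Q : QuadraticForm F (Fin m ⊕ Fin m → F))

theorem exists_sq (h2 : (2 : F) = 0) (a : F) : ∃ r : F, r ^ 2 = a := by
  haveI : CharP F 2 := CharTwo.of_one_ne_zero_of_two_eq_zero one_ne_zero h2
  have h3 : ringChar F = 2 := ringChar.eq F 2
  obtain ⟨r, hr⟩ := FiniteField.isSquare_of_char_two h3 a
  exact ⟨r, by rw [hr, sq]⟩

theorem neg_eq_self (h2 : (2 : F) = 0) (a : F) : -a = a := by
  have : a + a = 0 := by rw [← two_mul, h2, zero_mul]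
  exact neg_eq_of_add_eq_zero_left this

variable {Q}

theorem Q_Tg (hpol : ∀ u v : V, QuadraticMap.polar ⇑Q u v = om u v) (h2 : (2 : F) = 0)
    (w x : V) :
    Q ((Tg w 1 : Sp).1 *ᵥ x) = Q x + om w x ^ 2 * (Q w + 1) := by
  have h := Tg_mulVec w (1 : F) x
  have h' : (Tg w 1 : Sp).1 *ᵥ x = x + (1 * om w x) • w := h
  rw [h', one_mul, Sg.Q_add, Sg.Q_smul]
  simp only [Sg.B, QuadraticMap.polar_smul_right, smul_eq_mul]
  rw [hpol, om_swap w x, neg_eq_self h2]
  ring

/-- vectors whose unit transvection lies in `M` -/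
def S (M : Subgroup Sp) : Set V := {w | Tg w 1 ∈ M}

theorem S_map (M : Subgroup Sp) {w : V} (hw : w ∈ S M) {g : Sp} (hg : g ∈ M) :
    (g : Matrix (Fin m ⊕ Fin m) (Fin m ⊕ Fin m) F) *ᵥ w ∈ S M := by
  show Tg _ 1 ∈ M
  rw [← conj_Tg]
  exact M.mul_mem (M.mul_mem hg hw) (M.inv_mem hg)

/-- an isometry of `Q`, as a symplectic matrix -/
noncomputable def toSp (hpol : ∀ u v : V, QuadraticMap.polar ⇑Q u v = om u v)
    (g : ↥(Cfsg.isometryGroup F ⇑Q)) : Sp :=
  ⟨mt Q g, mem_symplectic_iff_om.mpr (fun x y => by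
    rw [← hpol, ← hpol]
    exact polar_isom Q (isom_apply Q g) x y)⟩

theorem toSp_val (hpol : ∀ u v : V, QuadraticMap.polar ⇑Q u v = om u v)
    (g : ↥(Cfsg.isometryGroup F ⇑Q)) :
    ((toSp hpol g : Sp) : Matrix (Fin m ⊕ Fin m) (Fin m ⊕ Fin m) F) = mt Q g := rfl

/-- **abstract maximality** -/
theorem spo_max (hm : 4 ≤ m) (hQ : (QuadraticMap.polarBilin Q).Nondegenerate)
    (hpol : ∀ u v : V, QuadraticMap.polar ⇑Q u v = om u v) (h2 : (2 : F) = 0)
    (M : Subgroup Sp)
    (hP : ∀ g : Sp, (∀ x, Q ((g : Matrix (Fin m ⊕ Fin m) (Fin m ⊕ Fin m) F) *ᵥ x) = Q x) → g ∈ M)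
    (g₀ : Sp) (hg₀ : g₀ ∈ M)
    (hg₀Q : ¬ ∀ x, Q ((g₀ : Matrix (Fin m ⊕ Fin m) (Fin m ⊕ Fin m) F) *ᵥ x) = Q x) : M = ⊤ := by
  classical
  have hcard : Fintype.card (Fin m ⊕ Fin m) = 2 * m := by
    rw [Fintype.card_sum, Fintype.card_fin]; ring
  obtain ⟨fr⟩ := Cfsg.Agent.Helper28.OM.exists_frame3 hQ (by rw [hcard]; omega)
  have hone : (1 : F) + 1 = 0 := by rw [← two_mul, h2, zero_mul]
  -- (i)
  have hQ1 : ∀ w, Q w = 1 → w ∈ S M := by
    intro w hw
    apply hP
    intro x
    rw [Q_Tg hpol h2, hw, hone, mul_zero, add_zero]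
  -- isometries of Q lie in M
  have hisoM : ∀ g : ↥(Cfsg.isometryGroup F ⇑Q), toSp hpol g ∈ M :=
    fun g => hP _ (fun x => isom_apply Q g x)
  -- (iii) classes
  have hclass : ∀ x y : V, x ∈ S M → x ≠ 0 → y ≠ 0 → Q y = Q x → y ∈ S M := by
    intro x y hx hx0 hy0 hxy
    by_cases hQx : Q x = 0
    · obtain ⟨g1, hg1⟩ := witt_single hQ fr hQx hx0
      obtain ⟨g2, hg2⟩ := witt_single hQ fr (hxy.trans hQx) hy0
      have h1 : mt Q (g2 * g1⁻¹) *ᵥ x = y := by
        rw [mt_mul_mulVec, ← hg1, mt_inv_mulVec, hg2]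
      have := S_map M hx (hisoM (g2 * g1⁻¹))
      rw [toSp_val, h1] at this
      exact this
    · obtain ⟨g, -, hg⟩ := Cfsg.Agent.Helper28.CD2.exists_move Q h2 hQ
        (Or.inr (by rw [hcard]; omega)) x y hQx hxy.symm
      have := S_map M hx (hisoM g)
      rw [toSp_val, hg] at this
      exact this
  -- (ii)
  obtain ⟨w, hw1, hgw⟩ : ∃ w, Q w = 1 ∧
      Q ((g₀ : Matrix (Fin m ⊕ Fin m) (Fin m ⊕ Fin m) F) *ᵥ w) ≠ 1 := by
    by_contra hcon
    push Not at hcon
    apply hg₀Q
    have hns : ∀ x, Q x ≠ 0 →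
        Q ((g₀ : Matrix (Fin m ⊕ Fin m) (Fin m ⊕ Fin m) F) *ᵥ x) = Q x := by
      intro x hx
      obtain ⟨μ, hμ⟩ := exists_sq h2 (Q x)
      have hμ0 : μ ≠ 0 := by
        rintro rfl
        apply hx
        rw [← hμ]; ring
      have h1 : Q (μ⁻¹ • x) = 1 := by
        rw [Sg.Q_smul, ← hμ]
        field_simp
      have h3 := hcon _ h1
      rw [Matrix.mulVec_smul, Sg.Q_smul] at h3
      have : Q ((g₀ : Matrix (Fin m ⊕ Fin m) (Fin m ⊕ Fin m) F) *ᵥ x) = μ ^ 2 := by
        field_simp at h3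
        linear_combination h3
      rw [this, hμ]
    intro x
    by_cases hx : Q x ≠ 0
    · exact hns x hx
    · push Not at hx
      obtain ⟨y, hyW, hy1⟩ := Cfsg.Agent.Helper28.OC.exists_mem_orth_eq Q hQ (Submodule.span F {x})
        (by
          have : finrank F (Submodule.span F {x}) ≤ 1 :=
            le_trans (finrank_span_le_card ({x} : Set V)) (by simp)
          rw [hcard]; omega) 1
      have hxy : QuadraticMap.polar ⇑Q x y = 0 := hyW x (Submodule.mem_span_singleton_self x)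
      have e1 : Q (x + y) = 1 := by rw [Sg.Q_add, hx, hy1]; simp only [Sg.B]; rw [hxy]; ring
      have e2 := hns (x + y) (by rw [e1]; exact one_ne_zero)
      have e3 := hns y (by rw [hy1]; exact one_ne_zero)
      rw [Matrix.mulVec_add, Sg.Q_add, e3] at e2
      have e4 : Sg.B Q ((g₀ : Matrix (Fin m ⊕ Fin m) (Fin m ⊕ Fin m) F) *ᵥ x)
          ((g₀ : Matrix (Fin m ⊕ Fin m) (Fin m ⊕ Fin m) F) *ᵥ y) = 0 := by
        show QuadraticMap.polar ⇑Q _ _ = 0
        rw [hpol, om_g, ← hpol, hxy]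
      rw [e4, e1, hy1] at e2
      rw [hx]
      linear_combination e2
  set w' := (g₀ : Matrix (Fin m ⊕ Fin m) (Fin m ⊕ Fin m) F) *ᵥ w with hw'
  set β := Q w' with hβ
  have hw'S : w' ∈ S M := S_map M (hQ1 w hw1) hg₀
  have hw0 : w ≠ 0 := by
    rintro rfl
    rw [map_zero] at hw1
    exact zero_ne_one hw1
  have hw'0 : w' ≠ 0 := by
    intro h0
    apply hw0
    have h1 := congrArg (fun z => ((g₀⁻¹ : Sp) : Matrix (Fin m ⊕ Fin m) (Fin m ⊕ Fin m) F) *ᵥ z) h0
    simp only [hw', ← mul_mulVec, inv_mul_cancel, Matrix.mulVec_zero] at h1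
    simpa using h1
  have hβ1 : β + 1 ≠ 0 := by
    intro h
    apply hgw
    have : β = -1 := eq_neg_of_add_eq_zero_left h
    rw [this, neg_eq_self h2]
  -- everything
  have hall : ∀ y : V, y ≠ 0 → y ∈ S M := by
    intro y hy0
    by_cases hγ : Q y = β
    · exact hclass w' y hw'S hw'0 hy0 hγ
    · -- t with t² (β + 1) = Q y + β
      obtain ⟨t, ht⟩ := exists_sq h2 ((Q y + β) / (β + 1))
      have ht0 : t ≠ 0 := by
        rintro rfl
        apply hγ
        have h0 : (Q y + β) / (β + 1) = 0 := by rw [← ht]; ring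
        have h1 : Q y + β = 0 := by
          rcases div_eq_zero_iff.mp h0 with h | h
          · exact h
          · exact absurd h hβ1
        have : Q y = -β := eq_neg_of_add_eq_zero_left h1
        rw [this, neg_eq_self h2]
      -- partner of w'
      obtain ⟨a', ha'⟩ := exists_pair_one hQ hw'0
      obtain ⟨z, hzW, hQz⟩ := Cfsg.Agent.Helper28.OC.exists_mem_orth_eq Q hQ
        (Submodule.span F {w', a'})
        (by
          have : finrank F (Submodule.span F ({w', a'} : Set V)) ≤ 2 := by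
            rw [Submodule.span_insert]
            have h1 := Submodule.finrank_add_le_finrank_add_finrank (Submodule.span F {w'})
              (Submodule.span F {a'})
            have h3 : finrank F (Submodule.span F {w'}) ≤ 1 :=
              le_trans (finrank_span_le_card ({w'} : Set V)) (by simp)
            have h4 : finrank F (Submodule.span F {a'}) ≤ 1 :=
              le_trans (finrank_span_le_card ({a'} : Set V)) (by simp)
            omega
          rw [hcard]; omega) (β + t ^ 2 * Q a')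
      have hzw : Sg.B Q w' z = 0 := hzW w' (Submodule.subset_span (by simp))
      have hza : Sg.B Q a' z = 0 := hzW a' (Submodule.subset_span (by simp))
      set b := t • a' + z with hb
      have hQb : Q b = β := by
        rw [hb, Sg.Q_add, Sg.Q_smul, hQz]
        simp only [Sg.B, QuadraticMap.polar_smul_left, smul_eq_mul] at hza ⊢
        rw [hza, mul_zero, add_zero]
        linear_combination (t ^ 2 * Q a') * h2
      have hwb : om w' b = t := by
        rw [← hpol, hb]
        simp only [QuadraticMap.polar_add_right, QuadraticMap.polar_smul_right, smul_eq_mul]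
        have h1 : QuadraticMap.polar ⇑Q w' a' = 1 := ha'
        have h3 : QuadraticMap.polar ⇑Q w' z = 0 := hzw
        rw [h1, h3, mul_one, add_zero]
      have hb0 : b ≠ 0 := by
        rintro h0
        rw [h0] at hwb
        apply ht0
        rw [← hwb]
        unfold om
        simp
      have hbS : b ∈ S M := hclass w' b hw'S hw'0 hb0 hQb
      -- y' = τ_{w'} b
      have hy'S := S_map M hbS hw'S
      have hy' : (Tg w' 1 : Sp).1 *ᵥ b = b + t • w' := by
        have := Tg_mulVec w' (1 : F) b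
        rw [hwb, one_mul] at this
        exact this
      have hy'S' : b + t • w' ∈ S M := by
        have h := hy'S
        rw [show ((Tg w' 1 : Sp) : Matrix (Fin m ⊕ Fin m) (Fin m ⊕ Fin m) F) *ᵥ b = b + t • w' from hy'] at h
        exact h
      have hQy' : Q (b + t • w') = Q y := by
        have := Q_Tg hpol h2 w' b
        rw [hy', hwb, hQb, ← hβ] at this
        rw [this, ht]
        field_simp
        have e : β * (β + 1) + (Q y + β) * (β + 1) = (Q y) * (β + 1) + (β + β) * (β + 1) := by ring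
        have e2 : β + β = 0 := by rw [← two_mul, h2, zero_mul]
        linear_combination e + (β + 1) * e2 + (-(β ^ 2)) * h2
      have hy'0 : b + t • w' ≠ 0 := by
        intro h0
        have hbw : b = -(t • w') := eq_neg_of_add_eq_zero_left h0
        have : om w' b = 0 := by
          rw [hbw, ← hpol]
          simp only [QuadraticMap.polar_neg_right, QuadraticMap.polar_smul_right, smul_eq_mul]
          have : QuadraticMap.polar ⇑Q w' w' = 0 := by rw [hpol]; exact om_self w'
          rw [this]; simp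
        rw [hwb] at this
        exact ht0 this
      exact hclass _ y hy'S' hy'0 hy0 hQy'.symm
  rw [eq_top_iff, ← TV_eq_top (Fin m) F]
  unfold TV
  rw [Subgroup.closure_le]
  rintro _ ⟨⟨v, c⟩, rfl⟩
  show Tg v c ∈ M
  obtain ⟨μ, hμ⟩ := exists_sq h2 c
  have : Tg v c = Tg (μ • v) 1 := by rw [Tg_smul, mul_one, hμ]
  rw [this]
  by_cases h0 : μ • v = 0
  · rw [h0]
    have : (Tg (0 : V) 1 : Sp) = 1 := by
      apply ext_mulVec
      intro x
      rw [Tg_mulVec]
      simp
    rw [this]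
    exact M.one_mem
  · exact hall _ h0

open Cfsg.Agent.Helper28.SpMax in
/-- **`O(Q)` is maximal in `Sp_2m(q)`, `q` even.** -/
theorem stab_maximal_O (hm : 4 ≤ m) (Q₀ : (Fin m ⊕ Fin m → F) → F)
    (hQ₀ : Cfsg.Geo.IsNondegenerateQuadraticForm Q₀) (h2 : (2 : F) = 0)
    (hpol : ∀ u v, QuadraticMap.polar Q₀ u v = Cfsg.sympForm m F u v) :
    Cfsg.Geo.IsMaximalIn (Cfsg.spGL m F) (Cfsg.Geo.quadSimilarityGroup Q₀ ⊓ Cfsg.spGL m F) := by
  classical
  set Q := Cfsg.Agent.Helper28.NM.ofFun Q₀ hQ₀ with hQdef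
  have hQ := Cfsg.Agent.Helper28.NM.ofFun_nondeg Q₀ hQ₀
  have hpol' : ∀ u v : V, QuadraticMap.polar ⇑Q u v = om u v := hpol
  have hcard : Fintype.card (Fin m ⊕ Fin m) = 2 * m := by
    rw [Fintype.card_sum, Fintype.card_fin]; ring
  refine ⟨lt_of_le_of_ne inf_le_right ?_, ?_⟩
  · intro heq
    obtain ⟨fr⟩ := Cfsg.Agent.Helper28.OM.exists_frame3 hQ (by rw [hcard]; omega)
    set w := fr.e 0 with hw
    have hQw : Q w = 0 := fr.Qe 0
    have hw0 : w ≠ 0 := fr.e_ne_zero 0
    have h1 : toGL (Tg w 1) ∈ Cfsg.Geo.quadSimilarityGroup Q₀ ⊓ Cfsg.spGL m F := by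
      rw [heq]; exact toGL_mem _
    obtain ⟨c, hc⟩ := h1.1
    have hc' : ∀ x : V, Q x + om w x ^ 2 * (Q w + 1) = (c : F) * Q x := by
      intro x
      rw [← Q_Tg hpol' h2 w x]
      exact hc x
    obtain ⟨y, hyW, hy1⟩ := Cfsg.Agent.Helper28.OC.exists_mem_orth_eq Q hQ (Submodule.span F {w})
      (by
        have : finrank F (Submodule.span F {w}) ≤ 1 :=
          le_trans (finrank_span_le_card ({w} : Set V)) (by simp)
        rw [hcard]; omega) 1
    have hwy : om w y = 0 := by
      rw [← hpol']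
      exact hyW w (Submodule.mem_span_singleton_self w)
    have hc1 : (c : F) = 1 := by
      have := hc' y
      rw [hwy, hy1] at this
      simpa using this.symm
    obtain ⟨x, hx⟩ := exists_pair_one hQ hw0
    have hwx : om w x = 1 := by rw [← hpol']; exact hx
    have := hc' x
    rw [hwx, hQw, hc1] at this
    simp at this
  · intro M hPM hMS
    by_cases hMP : M ≤ Cfsg.Geo.quadSimilarityGroup Q₀ ⊓ Cfsg.spGL m F
    · left; exact le_antisymm hMP hPM
    right
    refine le_antisymm hMS ?_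
    obtain ⟨g, hgM, hgP⟩ := SetLike.not_le_iff_exists.mp hMP
    have hgS : g ∉ Cfsg.Geo.quadSimilarityGroup Q₀ := fun h => hgP ⟨h, hMS hgM⟩
    obtain ⟨g₀, rfl⟩ := exists_of_mem_spGL g (hMS hgM)
    have hiso : ¬ ∀ x, Q ((g₀ : Matrix (Fin m ⊕ Fin m) (Fin m ⊕ Fin m) F) *ᵥ x) = Q x := by
      intro h
      apply hgS
      exact ⟨1, fun v => by rw [Units.val_one, one_mul]; exact h v⟩
    have htop : M.comap toGL = ⊤ := by
      refine spo_max hm hQ hpol' h2 (M.comap toGL) ?_ g₀ hgM hiso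
      intro A hA
      apply hPM
      exact ⟨⟨1, fun v => by rw [Units.val_one, one_mul]; exact hA v⟩, toGL_mem A⟩
    intro h hh
    obtain ⟨A, rfl⟩ := exists_of_mem_spGL h hh
    have : A ∈ M.comap toGL := by rw [htop]; trivial
    exact this

end Cfsg.Agent.Helper28.SOM
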