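import Cfsg.Agent.Helper28.SpecAbsorb

/-! Generic "absorbing an elementary abelian 2-group" lemma for symplectic-type spectra (helper28), the
group-theoretic skeleton of S2512.

`L` a finite group, `p` an odd prime, `q = p ^ f`, `n ≥ 2`.  Inputs:
* (I1) every `x : L` of odd order is *good* (`2 * o(x)` is an element order) or *bad*:
  `o(x) = p ^ k * a`, `n = d * m`, `a ∣ q ^ d ± 1`, and `k = 0 ∨ p ^ (k - 1) < m ∨ (a = 1 ∧ p ^ (k - 1) < 2 n)`;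
* (I2) every divisor of `(q ^ n - 1) / 2` and of `(q ^ n + 1) / 2` is an element order;
* (I3) `2 * a * p ^ k` is an element order whenever `d + c = n`, `1 ≤ d`, `1 ≤ c`, `a` odd, `a ∣ q ^ d ± 1`,
  `k = 0 ∨ p ^ (k - 1) < 2 c`.
Then `L × L × L × (ℤ/2)^m` and `L × L × L` have the same element orders, and so do `L × L × (ℤ/2)^m`
and `L × L` when `2 n - 1` is not a power of `p`. -/

set_option autoImplicit false
set_option linter.unusedSectionVars false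

namespace Cfsg.Agent.SpecAbsorbSp

open Cfsg.Agent.SpecAbsorb

/-- the order data of a bad element -/
def BadOrd (p q n o : ℕ) : Prop :=
  ∃ k d m a : ℕ, o = p ^ k * a ∧ n = d * m ∧ (a ∣ q ^ d - 1 ∨ a ∣ q ^ d + 1) ∧
    (k = 0 ∨ p ^ (k - 1) < m ∨ (a = 1 ∧ p ^ (k - 1) < 2 * n))

/-! ### arithmetic -/

theorem dvd_pm (q d m a : ℕ) (hq : 1 ≤ q) (h : a ∣ q ^ d - 1 ∨ a ∣ q ^ d + 1) :
    a ∣ q ^ (d * m) - 1 ∨ a ∣ q ^ (d * m) + 1 := by
  rcases h with h | h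
  · left
    refine dvd_trans h ?_
    have := Nat.sub_dvd_pow_sub_pow (q ^ d) 1 m
    rwa [one_pow, ← pow_mul] at this
  · rcases Nat.even_or_odd m with hm | hm
    · left
      obtain ⟨j, rfl⟩ := hm
      refine dvd_trans h ?_
      have h1 : q ^ d + 1 ∣ (q ^ d) ^ 2 - 1 := by
        have h0 : 1 ≤ q ^ d := Nat.one_le_pow _ _ hq
        refine ⟨q ^ d - 1, ?_⟩
        have : (q ^ d) ^ 2 - 1 = (q ^ d + 1) * (q ^ d - 1) := by
          zify [h0, Nat.one_le_pow 2 _ h0]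
          ring
        exact this
      have h2 : (q ^ d) ^ 2 - 1 ∣ ((q ^ d) ^ 2) ^ j - 1 := by
        have := Nat.sub_dvd_pow_sub_pow ((q ^ d) ^ 2) 1 j
        rwa [one_pow] at this
      have e : q ^ (d * (j + j)) = ((q ^ d) ^ 2) ^ j := by
        rw [← pow_mul, ← pow_mul]
        congr 1
        ring
      rw [e]
      exact dvd_trans h1 h2
    · right
      refine dvd_trans h ?_
      have := Odd.nat_add_dvd_pow_add_pow (q ^ d) 1 hm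
      rwa [one_pow, ← pow_mul] at this

theorem coprime_of_dvd_pm (p f q d a : ℕ) (hp : p.Prime) (hf : 1 ≤ f) (hq : q = p ^ f) (hd : 1 ≤ d)
    (h : a ∣ q ^ d - 1 ∨ a ∣ q ^ d + 1) : Nat.Coprime p a := by
  have hpq : p ∣ q ^ d := by
    rw [hq, ← pow_mul]
    exact dvd_pow_self p (Nat.mul_ne_zero (by omega) (by omega))
  have hq1 : 2 ≤ q ^ d := by
    have h2 : 2 ≤ p := hp.two_le
    exact le_trans h2 (Nat.le_of_dvd (Nat.pos_of_ne_zero (by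
      rw [hq]; exact pow_ne_zero _ (pow_ne_zero _ hp.ne_zero))) hpq)
  rcases h with h | h
  · apply Nat.Coprime.coprime_dvd_right h
    rw [Nat.Prime.coprime_iff_not_dvd hp]
    intro h3
    have h5 : p ∣ q ^ d - (q ^ d - 1) := Nat.dvd_sub hpq h3
    have h6 : q ^ d - (q ^ d - 1) = 1 := by omega
    rw [h6] at h5
    exact hp.one_lt.ne' (Nat.dvd_one.1 h5)
  · apply Nat.Coprime.coprime_dvd_right h
    rw [Nat.Prime.coprime_iff_not_dvd hp]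
    intro h3
    have h5 : p ∣ 1 := (Nat.dvd_add_right hpq).1 h3
    exact hp.one_lt.ne' (Nat.dvd_one.1 h5)

/-- odd divisors of `N - 1` and `N + 1` are coprime -/
theorem coprime_pm (N a b : ℕ) (hN : 1 ≤ N) (ha : a ∣ N - 1) (hb : b ∣ N + 1) (hao : Odd a) :
    Nat.Coprime a b := by
  have h1 : Nat.gcd a b ∣ N - 1 := dvd_trans (Nat.gcd_dvd_left a b) ha
  have h2 : Nat.gcd a b ∣ N + 1 := dvd_trans (Nat.gcd_dvd_right a b) hb
  have h3 : Nat.gcd a b ∣ (N + 1) - (N - 1) := Nat.dvd_sub h2 h1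
  have h4 : (N + 1) - (N - 1) = 2 := by omega
  rw [h4] at h3
  have h5 : Nat.gcd a b = 1 ∨ Nat.gcd a b = 2 := (Nat.dvd_prime Nat.prime_two).1 h3
  rcases h5 with h5 | h5
  · exact h5
  · exfalso
    have h6 : 2 ∣ a := by
      rw [← h5]
      exact Nat.gcd_dvd_left a b
    exact (Nat.not_even_iff_odd.2 hao) (even_iff_two_dvd.2 h6)

/-- an odd divisor of an even number divides its half -/
theorem odd_dvd_half (X a : ℕ) (hX : 2 ∣ X) (ha : a ∣ X) (hao : Odd a) : a ∣ X / 2 := by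
  have hc : Nat.Coprime a 2 := by
    rw [Nat.coprime_comm, Nat.Prime.coprime_iff_not_dvd Nat.prime_two]
    intro h
    exact (Nat.not_even_iff_odd.2 hao) (even_iff_two_dvd.2 h)
  have h1 : a * 2 ∣ X := Nat.Coprime.mul_dvd_of_dvd_of_dvd hc ha hX
  obtain ⟨t, ht⟩ := h1
  refine ⟨t, ?_⟩
  rw [ht]
  have : a * 2 * t = 2 * (a * t) := by ring
  rw [this, Nat.mul_div_cancel_left _ (by norm_num : 0 < 2)]

/-- twice an odd divisor of a multiple of four divides its half -/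
theorem two_mul_odd_dvd_half (X a : ℕ) (hX : 4 ∣ X) (ha : a ∣ X) (hao : Odd a) : 2 * a ∣ X / 2 := by
  have hc : Nat.Coprime a 4 := by
    have : Nat.Coprime a 2 := by
      rw [Nat.coprime_comm, Nat.Prime.coprime_iff_not_dvd Nat.prime_two]
      intro h
      exact (Nat.not_even_iff_odd.2 hao) (even_iff_two_dvd.2 h)
    have h4 : (4 : ℕ) = 2 ^ 2 := by norm_num
    rw [h4]
    exact Nat.Coprime.pow_right 2 this
  have h1 : a * 4 ∣ X := Nat.Coprime.mul_dvd_of_dvd_of_dvd hc ha hX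
  obtain ⟨t, ht⟩ := h1
  refine ⟨t, ?_⟩
  rw [ht]
  have : a * 4 * t = 2 * (2 * a * t) := by ring
  rw [this, Nat.mul_div_cancel_left _ (by norm_num : 0 < 2)]

/-- for odd `N`, `4` divides `N - 1` or `N + 1` -/
theorem four_dvd_pm (N : ℕ) (hN : Odd N) : 4 ∣ N - 1 ∨ 4 ∣ N + 1 := by
  obtain ⟨t, ht⟩ := hN
  rcases Nat.even_or_odd t with ⟨s, hs⟩ | ⟨s, hs⟩
  · left
    refine ⟨s, ?_⟩
    omega
  · right
    refine ⟨s + 1, ?_⟩
    omega

theorem odd_lcm {a b : ℕ} (ha : Odd a) (hb : Odd b) : Odd (Nat.lcm a b) :=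
  Odd.of_dvd_nat (Nat.odd_mul.2 ⟨ha, hb⟩) (Nat.lcm_dvd_mul a b)

/-- splitting a divisor of `N - 1` or `N + 1` -/
theorem split_pm (N a : ℕ) (h : a ∣ N - 1 ∨ a ∣ N + 1) (hao : Odd a) :
    ∃ b c : ℕ, b ∣ N - 1 ∧ c ∣ N + 1 ∧ Nat.lcm b c = a ∧ Odd b ∧ Odd c := by
  rcases h with h | h
  · exact ⟨a, 1, h, one_dvd _, Nat.lcm_one_right a, hao, odd_one⟩
  · exact ⟨1, a, one_dvd _, h, Nat.lcm_one_left a, odd_one, hao⟩

section

variable {L : Type*} [Group L]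

/-- the processed data of a bad element -/
def BadElt (p q n : ℕ) (x : L) : Prop :=
  ∃ k d m a : ℕ, orderOf x = p ^ k * a ∧ n = d * m ∧ 1 ≤ d ∧ (a ∣ q ^ d - 1 ∨ a ∣ q ^ d + 1) ∧
    (k = 0 ∨ p ^ (k - 1) < m ∨ (a = 1 ∧ p ^ (k - 1) < 2 * n)) ∧ Odd a ∧ Nat.Coprime p a ∧
    (a ∣ q ^ n - 1 ∨ a ∣ q ^ n + 1) ∧ ∃ u : L, orderOf u = p ^ k

theorem badElt_of_badOrd (p f q n : ℕ) (hp : p.Prime) (hf : 1 ≤ f) (hq : q = p ^ f) (hn : 2 ≤ n)
    (x : L) (hx0 : 0 < orderOf x) (hxo : Odd (orderOf x)) (h : BadOrd p q n (orderOf x)) :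
    BadElt p q n x := by
  obtain ⟨k, d, m, a, ho, hnd, ha, hk⟩ := h
  have hd : 1 ≤ d := by
    rcases Nat.eq_zero_or_pos d with h0 | h0
    · rw [h0, zero_mul] at hnd
      omega
    · exact h0
  have hq1 : 1 ≤ q := by rw [hq]; exact Nat.one_le_pow _ _ hp.pos
  have hao : Odd a := by
    rw [ho] at hxo
    exact (Nat.odd_mul.1 hxo).2
  have ha0 : a ≠ 0 := by
    rintro rfl
    rw [mul_zero] at ho
    omega
  refine ⟨k, d, m, a, ho, hnd, hd, ha, hk, hao, coprime_of_dvd_pm p f q d a hp hf hq hd ha, ?_,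
    x ^ a, ?_⟩
  · rw [hnd]
    exact dvd_pm q d m a hq1 ha
  · rw [orderOf_pow_of_dvd ha0 ⟨p ^ k, by rw [ho, mul_comm]⟩, ho,
      Nat.mul_div_cancel _ (Nat.pos_of_ne_zero ha0)]

variable (p f q n : ℕ) (hp : p.Prime) (hp2 : p ≠ 2) (hf : 1 ≤ f) (hq : q = p ^ f) (hn : 2 ≤ n)
  (I1 : ∀ x : L, 0 < orderOf x → Odd (orderOf x) →
    (∃ x' : L, orderOf x' = 2 * orderOf x) ∨ BadOrd p q n (orderOf x))
  (I2 : ∀ A : ℕ, (A ∣ (q ^ n - 1) / 2 ∨ A ∣ (q ^ n + 1) / 2) → ∃ g : L, orderOf g = A)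
  (I3 : ∀ d c k a : ℕ, d + c = n → 1 ≤ d → 1 ≤ c → Odd a → (a ∣ q ^ d - 1 ∨ a ∣ q ^ d + 1) →
    (k = 0 ∨ p ^ (k - 1) < 2 * c) → ∃ g : L, orderOf g = 2 * a * p ^ k)

include hp hp2 hf hq

theorem odd_p : Odd p := hp.odd_of_ne_two hp2

theorem odd_qn : Odd (q ^ n) := by
  rw [hq, ← pow_mul]
  exact (odd_p p f q hp hp2 hf hq).pow

include hn I1

/-- good or bad -/
theorem good_or_badElt (x : L) (hx0 : 0 < orderOf x) (hxo : Odd (orderOf x)) :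
    (∃ x' : L, orderOf x' = 2 * orderOf x) ∨ BadElt p q n x := by
  rcases I1 x hx0 hxo with h | h
  · exact Or.inl h
  · exact Or.inr (badElt_of_badOrd p f q n hp hf hq hn x hx0 hxo h)

omit hp hp2 hf hq hn I1 in
/-- a good element absorbs `2` -/
theorem lcm_good2 (a N : ℕ) (ha : Odd a) : Nat.lcm (2 * a) N = Nat.lcm (Nat.lcm a N) 2 :=
  lcm_good 2 a N Nat.prime_two (fun h => (Nat.not_even_iff_odd.2 ha) (even_iff_two_dvd.2 h))

include I2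

/-- LEMMA A: three slots absorb `2` -/
theorem lemmaA (x y z : L) (hx0 : 0 < orderOf x) (hy0 : 0 < orderOf y) (hz0 : 0 < orderOf z) :
    ∃ x' y' z' : L, Nat.lcm (orderOf x') (Nat.lcm (orderOf y') (orderOf z')) =
      Nat.lcm (Nat.lcm (orderOf x) (Nat.lcm (orderOf y) (orderOf z))) 2 := by
  by_cases hx : 2 ∣ orderOf x
  · refine ⟨x, y, z, ?_⟩
    exact (Nat.lcm_eq_left (dvd_trans hx (Nat.dvd_lcm_left _ _))).symm
  by_cases hy : 2 ∣ orderOf y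
  · refine ⟨x, y, z, ?_⟩
    exact (Nat.lcm_eq_left (dvd_trans hy (dvd_trans (Nat.dvd_lcm_left _ _) (Nat.dvd_lcm_right _ _)))).symm
  by_cases hz : 2 ∣ orderOf z
  · refine ⟨x, y, z, ?_⟩
    exact (Nat.lcm_eq_left (dvd_trans hz (dvd_trans (Nat.dvd_lcm_right _ _) (Nat.dvd_lcm_right _ _)))).symm
  have hxo : Odd (orderOf x) := Nat.not_even_iff_odd.1 (fun h => hx (even_iff_two_dvd.1 h))
  have hyo : Odd (orderOf y) := Nat.not_even_iff_odd.1 (fun h => hy (even_iff_two_dvd.1 h))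
  have hzo : Odd (orderOf z) := Nat.not_even_iff_odd.1 (fun h => hz (even_iff_two_dvd.1 h))
  rcases good_or_badElt p f q n hp hp2 hf hq hn I1 x hx0 hxo with ⟨x', hx'⟩ |
    ⟨k1, -, -, a1, ho1, -, -, -, -, hao1, hc1, hpm1, hu1⟩
  · refine ⟨x', y, z, ?_⟩
    rw [hx']
    exact lcm_good2 _ _ hxo
  rcases good_or_badElt p f q n hp hp2 hf hq hn I1 y hy0 hyo with ⟨y', hy'⟩ |
    ⟨k2, -, -, a2, ho2, -, -, -, -, hao2, hc2, hpm2, hu2⟩
  · refine ⟨y', x, z, ?_⟩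
    rw [hy', lcm_good2 _ _ hyo]
    congr 1
    rw [← Nat.lcm_assoc, ← Nat.lcm_assoc, Nat.lcm_comm (orderOf y)]
  rcases good_or_badElt p f q n hp hp2 hf hq hn I1 z hz0 hzo with ⟨z', hz'⟩ |
    ⟨k3, -, -, a3, ho3, -, -, -, -, hao3, hc3, hpm3, hu3⟩
  · refine ⟨z', x, y, ?_⟩
    rw [hz', lcm_good2 _ _ hzo]
    congr 1
    rw [Nat.lcm_comm, Nat.lcm_assoc]
  -- all bad
  set N := q ^ n with hN
  have hNo : Odd N := odd_qn p f q n hp hp2 hf hq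
  have hN1 : 1 ≤ N := hNo.pos
  obtain ⟨b1, c1, hb1, hcc1, hl1, hbo1, hco1⟩ := split_pm N a1 hpm1 hao1
  obtain ⟨b2, c2, hb2, hcc2, hl2, hbo2, hco2⟩ := split_pm N a2 hpm2 hao2
  obtain ⟨b3, c3, hb3, hcc3, hl3, hbo3, hco3⟩ := split_pm N a3 hpm3 hao3
  set Am := Nat.lcm b1 (Nat.lcm b2 b3) with hAm
  set Ap := Nat.lcm c1 (Nat.lcm c2 c3) with hAp
  have hAm1 : Am ∣ N - 1 := Nat.lcm_dvd hb1 (Nat.lcm_dvd hb2 hb3)
  have hAp1 : Ap ∣ N + 1 := Nat.lcm_dvd hcc1 (Nat.lcm_dvd hcc2 hcc3)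
  have hAmo : Odd Am := odd_lcm hbo1 (odd_lcm hbo2 hbo3)
  have hApo : Odd Ap := odd_lcm hco1 (odd_lcm hco2 hco3)
  have hcop : Nat.Coprime Am Ap := coprime_pm N Am Ap hN1 hAm1 hAp1 hAmo
  have c23 : Nat.Coprime p (Nat.lcm a2 a3) :=
    Nat.Coprime.coprime_dvd_right (Nat.lcm_dvd_mul a2 a3) (hc2.mul_right hc3)
  set k := max k1 (max k2 k3) with hk
  have hA : Nat.lcm a1 (Nat.lcm a2 a3) = Am * Ap := by
    rw [← hcop.lcm_eq_mul, hAm, hAp, ← hl1, ← hl2, ← hl3]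
    ac_rfl
  have hNN : Nat.lcm (orderOf x) (Nat.lcm (orderOf y) (orderOf z)) = p ^ k * (Am * Ap) := by
    rw [ho1, ho2, ho3, merge2 p k2 k3 a2 a3 hc2 hc3, merge2 p k1 _ a1 _ hc1 c23, hA]
  have hpo : Odd (p ^ k) := (odd_p p f q hp hp2 hf hq).pow
  have cpA : Nat.Coprime (p ^ k) (Am * Ap) := by
    apply Nat.Coprime.pow_left
    rw [← hA]
    exact Nat.Coprime.coprime_dvd_right (Nat.lcm_dvd_mul _ _) (hc1.mul_right c23)
  have cpAm : Nat.Coprime (p ^ k) Am := Nat.Coprime.coprime_dvd_right (Dvd.intro _ rfl) cpA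
  have cpAp : Nat.Coprime (p ^ k) Ap := Nat.Coprime.coprime_dvd_right (Dvd.intro_left _ rfl) cpA
  obtain ⟨u, hu⟩ := exists_max p k1 (max k2 k3) hu1 (exists_max p k2 k3 hu2 hu3)
  have h2N1 : 2 ∣ N - 1 := by
    obtain ⟨t, ht⟩ := hNo
    exact ⟨t, by omega⟩
  have h2N2 : 2 ∣ N + 1 := by
    obtain ⟨t, ht⟩ := hNo
    exact ⟨t + 1, by omega⟩
  have hodd : Odd (p ^ k * (Am * Ap)) := Nat.odd_mul.2 ⟨hpo, Nat.odd_mul.2 ⟨hAmo, hApo⟩⟩
  have hRHS : Nat.lcm (p ^ k * (Am * Ap)) 2 = 2 * (p ^ k * (Am * Ap)) := by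
    rw [(Nat.coprime_two_right.2 hodd).lcm_eq_mul, mul_comm]
  rw [hNN, hRHS]
  rcases four_dvd_pm N hNo with h4 | h4
  · obtain ⟨gm, hgm⟩ := I2 (2 * Am) (Or.inl (two_mul_odd_dvd_half _ _ h4 hAm1 hAmo))
    obtain ⟨gp, hgp⟩ := I2 Ap (Or.inr (odd_dvd_half _ _ h2N2 hAp1 hApo))
    refine ⟨gm, gp, u, ?_⟩
    rw [hgm, hgp, hu, cpAp.symm.lcm_eq_mul]
    have c1 : Nat.Coprime (2 * Am) (Ap * p ^ k) := by
      apply Nat.Coprime.mul_left
      · exact Nat.coprime_two_left.2 (Nat.odd_mul.2 ⟨hApo, hpo⟩)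
      · exact Nat.Coprime.mul_right hcop cpAm.symm
    rw [c1.lcm_eq_mul]
    ring
  · obtain ⟨gm, hgm⟩ := I2 Am (Or.inl (odd_dvd_half _ _ h2N1 hAm1 hAmo))
    obtain ⟨gp, hgp⟩ := I2 (2 * Ap) (Or.inr (two_mul_odd_dvd_half _ _ h4 hAp1 hApo))
    refine ⟨gm, gp, u, ?_⟩
    rw [hgm, hgp, hu]
    have c0 : Nat.Coprime (2 * Ap) (p ^ k) := by
      apply Nat.Coprime.mul_left
      · exact Nat.coprime_two_left.2 hpo
      · exact cpAp.symm
    rw [c0.lcm_eq_mul]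
    have c1 : Nat.Coprime Am (2 * Ap * p ^ k) := by
      apply Nat.Coprime.mul_right
      · apply Nat.Coprime.mul_right
        · exact Nat.coprime_two_right.2 hAmo
        · exact hcop
      · exact cpAm.symm
    rw [c1.lcm_eq_mul]
    ring

omit hf hq hn I1 I2 in
/-- the bound on `k` for an element of order `2 * p ^ k` -/
theorem kbound (hnp : ¬ ∃ j : ℕ, 2 * n - 1 = p ^ j) (hn2 : 2 ≤ n) (k d m a : ℕ) (hnd : n = d * m)
    (hd : 1 ≤ d) (hk : k = 0 ∨ p ^ (k - 1) < m ∨ (a = 1 ∧ p ^ (k - 1) < 2 * n)) :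
    k = 0 ∨ p ^ (k - 1) < 2 * (n - 1) := by
  rcases hk with hk | hk | ⟨-, hk⟩
  · exact Or.inl hk
  · right
    have h1 : m ≤ n := by
      rw [hnd]
      exact Nat.le_mul_of_pos_left m hd
    omega
  · right
    have h1 : p ^ (k - 1) ≠ 2 * n - 1 := fun h => hnp ⟨k - 1, h.symm⟩
    have h2 : Odd (p ^ (k - 1)) := (hp.odd_of_ne_two hp2).pow
    obtain ⟨t, ht⟩ := h2
    omega

include I3

/-- the mixed case of LEMMA B -/
theorem lemmaB_mixed (x y : L) (k1 d1 m1 a1 k2 d2 m2 a2 : ℕ)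
    (ho1 : orderOf x = p ^ k1 * a1) (hnd1 : n = d1 * m1) (hd1 : 1 ≤ d1)
    (ha1 : a1 ∣ q ^ d1 - 1 ∨ a1 ∣ q ^ d1 + 1)
    (hk1 : k1 = 0 ∨ p ^ (k1 - 1) < m1 ∨ (a1 = 1 ∧ p ^ (k1 - 1) < 2 * n)) (hao1 : Odd a1)
    (hc1 : Nat.Coprime p a1)
    (ho2 : orderOf y = p ^ k2 * a2) (hnd2 : n = d2 * m2) (hd2 : 1 ≤ d2)
    (ha2 : a2 ∣ q ^ d2 - 1 ∨ a2 ∣ q ^ d2 + 1)
    (hk2 : k2 = 0 ∨ p ^ (k2 - 1) < m2 ∨ (a2 = 1 ∧ p ^ (k2 - 1) < 2 * n)) (hao2 : Odd a2)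
    (hc2 : Nat.Coprime p a2)
    (hm1 : a1 ∣ q ^ n - 1) (hp2' : a2 ∣ q ^ n + 1) (h11 : a1 ≠ 1) (h21 : a2 ≠ 1) :
    ∃ x' y' : L, Nat.lcm (orderOf x') (orderOf y') = 2 * (p ^ max k1 k2 * (a1 * a2)) := by
  set N := q ^ n with hN
  have hNo : Odd N := odd_qn p f q n hp hp2 hf hq
  have hN1 : 1 ≤ N := hNo.pos
  have hcop : Nat.Coprime a1 a2 := coprime_pm N a1 a2 hN1 hm1 hp2' hao1
  have hpo : ∀ j : ℕ, Odd (p ^ j) := fun j => (odd_p p f q hp hp2 hf hq).pow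
  have cp1 : ∀ j : ℕ, Nat.Coprime (p ^ j) a1 := fun j => Nat.Coprime.pow_left _ hc1
  have cp2 : ∀ j : ℕ, Nat.Coprime (p ^ j) a2 := fun j => Nat.Coprime.pow_left _ hc2
  -- the element of order `2 * a * p ^ k` for a non-semisimple bad element
  have key : ∀ (k d m a : ℕ), n = d * m → 1 ≤ d → (a ∣ q ^ d - 1 ∨ a ∣ q ^ d + 1) →
      (k = 0 ∨ p ^ (k - 1) < m ∨ (a = 1 ∧ p ^ (k - 1) < 2 * n)) → Odd a → a ≠ 1 → 1 ≤ k →
      ∃ g : L, orderOf g = 2 * a * p ^ k := by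
    intro k d m a hnd hd ha hk hao ha1 hk1
    have hlt : p ^ (k - 1) < m := by
      rcases hk with hk | hk | ⟨hk, -⟩
      · omega
      · exact hk
      · exact absurd hk ha1
    have hpos : 1 ≤ p ^ (k - 1) := Nat.one_le_pow _ _ hp.pos
    have hm2 : 2 ≤ m := by omega
    have hc : n - d = d * (m - 1) := by
      rw [hnd, Nat.mul_sub, mul_one]
    have hc1 : m - 1 ≤ n - d := by
      rw [hc]
      exact Nat.le_mul_of_pos_left _ hd
    have hdn : d ≤ n := by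
      rw [hnd]
      exact Nat.le_mul_of_pos_right d (by omega)
    apply I3 d (n - d) k a (by omega) hd (by omega) hao ha
    right
    omega
  rcases four_dvd_pm N hNo with h4 | h4
  · -- the factor `2` goes with `a1`
    rcases le_or_gt k1 k2 with hle | hlt
    · obtain ⟨g, hg⟩ := I2 (2 * a1) (Or.inl (two_mul_odd_dvd_half _ _ h4 hm1 hao1))
      refine ⟨g, y, ?_⟩
      rw [hg, ho2, max_eq_right hle]
      have c1 : Nat.Coprime (2 * a1) (p ^ k2 * a2) := by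
        apply Nat.Coprime.mul_left
        · exact Nat.coprime_two_left.2 (Nat.odd_mul.2 ⟨hpo k2, hao2⟩)
        · exact Nat.Coprime.mul_right (cp1 k2).symm hcop
      rw [c1.lcm_eq_mul]
      ring
    · obtain ⟨g, hg⟩ := key k1 d1 m1 a1 hnd1 hd1 ha1 hk1 hao1 h11 (by omega)
      refine ⟨y, g, ?_⟩
      rw [hg, ho2, max_eq_left hlt.le]
      have e : 2 * a1 * p ^ k1 = p ^ k1 * (2 * a1) := by ring
      rw [e]
      have c1 : Nat.Coprime p (2 * a1) :=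
        Nat.Coprime.mul_right ((Nat.coprime_primes hp Nat.prime_two).2 hp2) hc1
      rw [merge2 p k2 k1 a2 (2 * a1) hc2 c1, max_eq_right hlt.le]
      have c2 : Nat.Coprime a2 (2 * a1) :=
        Nat.Coprime.mul_right (Nat.coprime_two_right.2 hao2) hcop.symm
      rw [c2.lcm_eq_mul]
      ring
  · -- the factor `2` goes with `a2`
    have h2N2 : 2 ∣ N + 1 := by
      obtain ⟨t, ht⟩ := hNo
      exact ⟨t + 1, by omega⟩
    rcases le_or_gt k2 k1 with hle | hlt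
    · obtain ⟨g, hg⟩ := I2 (2 * a2) (Or.inr (two_mul_odd_dvd_half _ _ h4 hp2' hao2))
      refine ⟨x, g, ?_⟩
      rw [hg, ho1, max_eq_left hle]
      have c1 : Nat.Coprime (p ^ k1 * a1) (2 * a2) := by
        apply Nat.Coprime.mul_right
        · exact Nat.coprime_two_right.2 (Nat.odd_mul.2 ⟨hpo k1, hao1⟩)
        · exact Nat.Coprime.mul_left (cp2 k1) hcop
      rw [c1.lcm_eq_mul]
      ring
    · obtain ⟨g, hg⟩ := key k2 d2 m2 a2 hnd2 hd2 ha2 hk2 hao2 h21 (by omega)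
      refine ⟨x, g, ?_⟩
      rw [hg, ho1, max_eq_right hlt.le]
      have e : 2 * a2 * p ^ k2 = p ^ k2 * (2 * a2) := by ring
      rw [e]
      have c1 : Nat.Coprime p (2 * a2) :=
        Nat.Coprime.mul_right ((Nat.coprime_primes hp Nat.prime_two).2 hp2) hc2
      rw [merge2 p k1 k2 a1 (2 * a2) hc1 c1, max_eq_right hlt.le]
      have c2 : Nat.Coprime a1 (2 * a2) :=
        Nat.Coprime.mul_right (Nat.coprime_two_right.2 hao1) hcop
      rw [c2.lcm_eq_mul]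
      ring

/-- LEMMA B: two slots absorb `2` when `2 n - 1` is not a power of `p` -/
theorem lemmaB (hnp : ¬ ∃ j : ℕ, 2 * n - 1 = p ^ j) (x y : L) (hx0 : 0 < orderOf x)
    (hy0 : 0 < orderOf y) :
    ∃ x' y' : L, Nat.lcm (orderOf x') (orderOf y') =
      Nat.lcm (Nat.lcm (orderOf x) (orderOf y)) 2 := by
  by_cases hx : 2 ∣ orderOf x
  · refine ⟨x, y, ?_⟩
    exact (Nat.lcm_eq_left (dvd_trans hx (Nat.dvd_lcm_left _ _))).symm
  by_cases hy : 2 ∣ orderOf y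
  · refine ⟨x, y, ?_⟩
    exact (Nat.lcm_eq_left (dvd_trans hy (Nat.dvd_lcm_right _ _))).symm
  have hxo : Odd (orderOf x) := Nat.not_even_iff_odd.1 (fun h => hx (even_iff_two_dvd.1 h))
  have hyo : Odd (orderOf y) := Nat.not_even_iff_odd.1 (fun h => hy (even_iff_two_dvd.1 h))
  rcases good_or_badElt p f q n hp hp2 hf hq hn I1 x hx0 hxo with ⟨x', hx'⟩ |
    ⟨k1, d1, m1, a1, ho1, hnd1, hd1, ha1, hk1, hao1, hc1, hpm1, -⟩
  · refine ⟨x', y, ?_⟩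
    rw [hx']
    exact lcm_good2 _ _ hxo
  rcases good_or_badElt p f q n hp hp2 hf hq hn I1 y hy0 hyo with ⟨y', hy'⟩ |
    ⟨k2, d2, m2, a2, ho2, hnd2, hd2, ha2, hk2, hao2, hc2, hpm2, -⟩
  · refine ⟨y', x, ?_⟩
    rw [hy', lcm_good2 _ _ hyo, Nat.lcm_comm (orderOf y)]
  -- both bad
  set N := q ^ n with hN
  have hNo : Odd N := odd_qn p f q n hp hp2 hf hq
  have hN1 : 1 ≤ N := hNo.pos
  have hpo : ∀ j : ℕ, Odd (p ^ j) := fun j => (odd_p p f q hp hp2 hf hq).pow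
  set k := max k1 k2 with hk
  have hNN : Nat.lcm (orderOf x) (orderOf y) = p ^ k * Nat.lcm a1 a2 := by
    rw [ho1, ho2, merge2 p k1 k2 a1 a2 hc1 hc2]
  have hAo : Odd (Nat.lcm a1 a2) := odd_lcm hao1 hao2
  have hodd : Odd (p ^ k * Nat.lcm a1 a2) := Nat.odd_mul.2 ⟨hpo k, hAo⟩
  have hRHS : Nat.lcm (p ^ k * Nat.lcm a1 a2) 2 = 2 * (p ^ k * Nat.lcm a1 a2) := by
    rw [(Nat.coprime_two_right.2 hodd).lcm_eq_mul, mul_comm]
  rw [hNN, hRHS]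
  have h2N1 : 2 ∣ N - 1 := by
    obtain ⟨t, ht⟩ := hNo
    exact ⟨t, by omega⟩
  have h2N2 : 2 ∣ N + 1 := by
    obtain ⟨t, ht⟩ := hNo
    exact ⟨t + 1, by omega⟩
  have cA : Nat.Coprime p (Nat.lcm a1 a2) :=
    Nat.Coprime.coprime_dvd_right (Nat.lcm_dvd_mul a1 a2) (hc1.mul_right hc2)
  -- the common sign case
  have common : ((Nat.lcm a1 a2) ∣ (N - 1) / 2 ∨ (Nat.lcm a1 a2) ∣ (N + 1) / 2) →
      ∃ x' y' : L, Nat.lcm (orderOf x') (orderOf y') = 2 * (p ^ k * Nat.lcm a1 a2) := by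
    intro hA
    obtain ⟨g, hg⟩ := I2 _ hA
    have hkk : k = 0 ∨ p ^ (k - 1) < 2 * (n - 1) := by
      rcases le_total k1 k2 with h | h
      · rw [hk, max_eq_right h]
        exact kbound p n hp hp2 hnp hn k2 d2 m2 a2 hnd2 hd2 hk2
      · rw [hk, max_eq_left h]
        exact kbound p n hp hp2 hnp hn k1 d1 m1 a1 hnd1 hd1 hk1
    obtain ⟨h, hh⟩ := I3 1 (n - 1) k 1 (by omega) le_rfl (by omega) odd_one
      (Or.inl (one_dvd _)) hkk
    refine ⟨g, h, ?_⟩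
    rw [hg, hh]
    have c1 : Nat.Coprime (Nat.lcm a1 a2) (2 * 1 * p ^ k) := by
      apply Nat.Coprime.mul_right
      · rw [mul_one]
        exact Nat.coprime_two_right.2 hAo
      · exact (Nat.Coprime.pow_left k cA).symm
    rw [c1.lcm_eq_mul]
    ring
  rcases hpm1 with h1 | h1 <;> rcases hpm2 with h2 | h2
  · exact common (Or.inl (odd_dvd_half _ _ h2N1 (Nat.lcm_dvd h1 h2) hAo))
  · by_cases h11 : a1 ∣ N + 1
    · exact common (Or.inr (odd_dvd_half _ _ h2N2 (Nat.lcm_dvd h11 h2) hAo))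
    by_cases h21 : a2 ∣ N - 1
    · exact common (Or.inl (odd_dvd_half _ _ h2N1 (Nat.lcm_dvd h1 h21) hAo))
    have hcop : Nat.Coprime a1 a2 := coprime_pm N a1 a2 hN1 h1 h2 hao1
    rw [hcop.lcm_eq_mul]
    exact lemmaB_mixed p f q n hp hp2 hf hq hn I1 I2 I3 x y k1 d1 m1 a1 k2 d2 m2 a2 ho1 hnd1 hd1 ha1 hk1
      hao1 hc1 ho2 hnd2 hd2 ha2 hk2 hao2 hc2 h1 h2 (fun h => h11 (by rw [h]; exact one_dvd _))
      (fun h => h21 (by rw [h]; exact one_dvd _))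
  · by_cases h11 : a1 ∣ N - 1
    · exact common (Or.inl (odd_dvd_half _ _ h2N1 (Nat.lcm_dvd h11 h2) hAo))
    by_cases h21 : a2 ∣ N + 1
    · exact common (Or.inr (odd_dvd_half _ _ h2N2 (Nat.lcm_dvd h1 h21) hAo))
    have hcop : Nat.Coprime a2 a1 := coprime_pm N a2 a1 hN1 h2 h1 hao2
    obtain ⟨x', y', h⟩ := lemmaB_mixed p f q n hp hp2 hf hq hn I1 I2 I3 y x k2 d2 m2 a2 k1 d1 m1 a1
      ho2 hnd2 hd2 ha2 hk2 hao2 hc2 ho1 hnd1 hd1 ha1 hk1 hao1 hc1 h2 h1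
      (fun h => h21 (by rw [h]; exact one_dvd _)) (fun h => h11 (by rw [h]; exact one_dvd _))
    refine ⟨x', y', ?_⟩
    rw [h, hcop.symm.lcm_eq_mul, hk, max_comm, mul_comm a2 a1]
  · exact common (Or.inr (odd_dvd_half _ _ h2N2 (Nat.lcm_dvd h1 h2) hAo))

end

/-- the generic theorem -/
theorem main {L : Type*} [Group L] [Finite L] (p f q n m : ℕ) (hp : p.Prime) (hp2 : p ≠ 2)
    (hf : 1 ≤ f) (hq : q = p ^ f) (hn : 2 ≤ n)
    (I1 : ∀ x : L, 0 < orderOf x → Odd (orderOf x) →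
      (∃ x' : L, orderOf x' = 2 * orderOf x) ∨ BadOrd p q n (orderOf x))
    (I2 : ∀ A : ℕ, (A ∣ (q ^ n - 1) / 2 ∨ A ∣ (q ^ n + 1) / 2) → ∃ g : L, orderOf g = A)
    (I3 : ∀ d c k a : ℕ, d + c = n → 1 ≤ d → 1 ≤ c → Odd a → (a ∣ q ^ d - 1 ∨ a ∣ q ^ d + 1) →
      (k = 0 ∨ p ^ (k - 1) < 2 * c) → ∃ g : L, orderOf g = 2 * a * p ^ k) :
    Set.range (orderOf : L × L × L × Multiplicative (Fin m → ZMod 2) → ℕ) =
      Set.range (orderOf : L × L × L → ℕ) ∧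
    ((¬ ∃ j : ℕ, 2 * n - 1 = p ^ j) →
      Set.range (orderOf : L × L × Multiplicative (Fin m → ZMod 2) → ℕ) =
        Set.range (orderOf : L × L → ℕ)) :=
  ranges_of_lemmas 2 m Nat.prime_two _
    (fun x y z => lemmaA p f q n hp hp2 hf hq hn I1 I2 x y z (orderOf_pos x) (orderOf_pos y)
      (orderOf_pos z))
    (fun hnp x y => lemmaB p f q n hp hp2 hf hq hn I1 I2 I3 hnp x y (orderOf_pos x) (orderOf_pos y))

end Cfsg.Agent.SpecAbsorbSp
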