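import Mathlib
import Cfsg.Prelude.Def_Classical
import Cfsg.Agent.Helper29.S2264Defs
import Cfsg.Agent.Helper13.S2511Defs
import Cfsg.Agent.Helper28.SpecAbsorbSp

/-! S2512 (driver helper28): `PSp_2n(q)³ × (ℤ/2)^m` is isospectral to `PSp_2n(q)³` (`q` odd).
Shared definitions, namespace `Cfsg.Agent.S2512P`.

`L = PSp_2n(F) = Sp_2n(F)/{±1}`, `|F| = q = p^f` odd.  The group-theoretic skeleton is
`Cfsg.Agent.SpecAbsorbSp.main` (`Helper28/SpecAbsorbSp.lean`).  An element `x` of odd order lifts to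
`A ∈ Sp_2n(F)` of the same order; its minimal polynomial `μ` is self-reciprocal (`Cfsg.Agent.S2264P.Good`,
`recip μ = μ`).  If `μ` has two `recip`-orbits of irreducible factors, `V = V₁ ⊥ V₂` with `A`-invariant
nondegenerate summands and `t = (-1) ⊕ 1` is a non-central involution of `Sp` commuting with `A`: `x` is *good*.
Otherwise (`SingleR μ`) the order of `x` is `p ^ k * a` with `a ∣ q ^ d ± 1`, `n = d m`: `x` is *bad*.
Existence of elements: abstract symplectic spaces `(V, B)`, `IsSymp B`, orthogonal sums `Bsum`, the models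
`Bm` (on `K × K`, torus `q^d - 1`), `Bp` (on `K`, `[K : F] = 2d`, torus `q^d + 1`) and the antidiagonal
alternating form `Banti` with the shift `Nsh` (regular unipotent by the Cayley transform). -/

set_option autoImplicit false

namespace Cfsg.Agent.S2512P

open Polynomial
open Cfsg.Agent.S2264P

/-- `μ` has a single `recip`-orbit of monic irreducible factors -/
def SingleR {F : Type*} [Field F] (μ : F[X]) : Prop :=
  ∀ f ∈ facs μ, ∀ g ∈ facs μ, g = f ∨ g = recip f

/-- the matrix of an element of `Sp_2n(F)` -/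
abbrev mat {F : Type*} [Field F] {n : ℕ} (A : Matrix.symplecticGroup (Fin n) F) :
    Matrix (Fin n ⊕ Fin n) (Fin n ⊕ Fin n) F := A.1

/-- `(V, B)` is a nondegenerate symplectic space (we only use it when `2 ≠ 0`) -/
structure IsSymp {F : Type*} [Field F] {V : Type*} [AddCommGroup V] [Module F V]
    (B : V → V → F) : Prop where
  add_left : ∀ u u' v, B (u + u') v = B u v + B u' v
  smul_left : ∀ (c : F) u v, B (c • u) v = c * B u v
  skew : ∀ u v, B v u = - B u v
  nondeg : ∀ u, (∀ v, B u v = 0) → u = 0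

/-- orthogonal sum of two forms -/
def Bsum {F V W : Type*} [Add F] (B₁ : V → V → F) (B₂ : W → W → F) : V × W → V × W → F :=
  fun u v => B₁ u.1 v.1 + B₂ u.2 v.2

theorem Bsum_apply {F V W : Type*} [Add F] (B₁ : V → V → F) (B₂ : W → W → F) (u v : V × W) :
    Bsum B₁ B₂ u v = B₁ u.1 v.1 + B₂ u.2 v.2 := rfl

/-- the model of the split torus: `B((a, b), (c, e)) = Tr_{K/F}(a e - b c)` on `K × K` -/
noncomputable def Bm (F K : Type*) [Field F] [Field K] [Algebra F K] : K × K → K × K → F :=
  fun u v => Algebra.trace F K (u.1 * v.2 - u.2 * v.1)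

theorem Bm_apply (F K : Type*) [Field F] [Field K] [Algebra F K] (u v : K × K) :
    Bm F K u v = Algebra.trace F K (u.1 * v.2 - u.2 * v.1) := rfl

/-- the split torus element `(a, b) ↦ (s a, s⁻¹ b)` -/
noncomputable def torM (F K : Type*) [Field F] [Field K] [Algebra F K] (s : K) :
    K × K →ₗ[F] K × K :=
  (LinearMap.mulLeft F s).prodMap (LinearMap.mulLeft F s⁻¹)

theorem torM_apply (F K : Type*) [Field F] [Field K] [Algebra F K] (s : K) (u : K × K) :
    torM F K s u = (s * u.1, s⁻¹ * u.2) := rfl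

/-- the model of the nonsplit torus: `B(x, y) = Tr_{K/F}(ζ x y^Q)` on `K`, `[K : F] = 2 d`, `Q = q^d`,
`ζ^Q = -ζ` -/
noncomputable def Bp (F K : Type*) [Field F] [Field K] [Algebra F K] (Q : ℕ) (ζ : K) : K → K → F :=
  fun x y => Algebra.trace F K (ζ * x * y ^ Q)

theorem Bp_apply (F K : Type*) [Field F] [Field K] [Algebra F K] (Q : ℕ) (ζ : K) (x y : K) :
    Bp F K Q ζ x y = Algebra.trace F K (ζ * x * y ^ Q) := rfl

/-- the antidiagonal alternating form `Σ_i (-1)^i x_i y_{b-1-i}` on `F^b` (`b` even) -/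
def Banti (F : Type*) [Field F] (b : ℕ) : (Fin b → F) → (Fin b → F) → F :=
  Cfsg.Agent.S2511P.Hanti (RingHom.id F) b 1

theorem Banti_apply (F : Type*) [Field F] (b : ℕ) (x y : Fin b → F) :
    Banti F b x y = ∑ i : Fin b, (-1) ^ (i : ℕ) * x i * y (Fin.rev i) := by
  unfold Banti
  rw [Cfsg.Agent.S2511P.Hanti_apply, one_mul]
  rfl

end Cfsg.Agent.S2512P
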