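import Mathlib
import Cfsg.Prelude.Def_Classical
import Cfsg.Agent.Helper28.S2512Defs
import Cfsg.Agent.Helper2.SpCenter
import Cfsg.Agent.Helper21.S2264MINREV

/-! S2512 Layer 0 (helper28): CENTERSP, LIFT, ORDMIN, GOODORD, GOODMIN, NOTNEG, SUMSP. -/

set_option autoImplicit false

namespace Cfsg.Agent.S2512P

open Polynomial Matrix
open Cfsg.Agent.S2264P

section layer0

variable {F : Type*} [Field F] {n : ℕ}

namespace LIB0

theorem mat_pow (A : Matrix.symplecticGroup (Fin n) F) (j : ℕ) : mat (A ^ j) = (mat A) ^ j :=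
  SubmonoidClass.coe_pow A j

theorem mat_mul (A B : Matrix.symplecticGroup (Fin n) F) : mat (A * B) = mat A * mat B := rfl

theorem mat_one : mat (1 : Matrix.symplecticGroup (Fin n) F) = 1 := rfl

theorem mat_injective : Function.Injective (mat : Matrix.symplecticGroup (Fin n) F → _) :=
  Subtype.val_injective

/-- membership in the centre -/
theorem mem_center_iff' (hn : 1 ≤ n) (A : Matrix.symplecticGroup (Fin n) F) :
    A ∈ Subgroup.center (Matrix.symplecticGroup (Fin n) F) ↔ mat A = 1 ∨ mat A = -1 := by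
  have : Nonempty (Fin n) := ⟨⟨0, by omega⟩⟩
  rw [Cfsg.Agent.Helper2.Sp.mem_center_iff]
  constructor
  · rintro ⟨c, hc, hA⟩
    have hc' : (c - 1) * (c + 1) = 0 := by ring_nf; rw [← pow_two] at *; linear_combination hc
    rcases mul_eq_zero.mp hc' with h | h
    · left
      have : c = 1 := by linear_combination h
      show (A : Matrix (Fin n ⊕ Fin n) (Fin n ⊕ Fin n) F) = 1
      rw [hA, this, one_smul]
    · right
      have : c = -1 := by linear_combination h
      show (A : Matrix (Fin n ⊕ Fin n) (Fin n ⊕ Fin n) F) = -1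
      rw [hA, this, neg_one_smul]
  · rintro (h | h)
    · exact ⟨1, by ring, by rw [one_smul]; exact h⟩
    · exact ⟨-1, by ring, by rw [neg_one_smul]; exact h⟩

end LIB0

open LIB0

/-- CENTERSP -/
theorem mk_pow_eq_one_iff (hn : 1 ≤ n) (A : Matrix.symplecticGroup (Fin n) F) (j : ℕ) :
    (QuotientGroup.mk A : Cfsg.PSp n F) ^ j = 1 ↔ (mat A) ^ j = 1 ∨ (mat A) ^ j = -1 := by
  rw [← QuotientGroup.mk_pow, QuotientGroup.eq_one_iff, mem_center_iff' hn, mat_pow]

/-- LIFT -/
theorem exists_lift_odd (hn : 1 ≤ n) (x : Cfsg.PSp n F) (hodd : Odd (orderOf x)) :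
    ∃ A : Matrix.symplecticGroup (Fin n) F,
      (QuotientGroup.mk A : Cfsg.PSp n F) = x ∧ orderOf A = orderOf x := by
  obtain ⟨A₀, hA₀⟩ := QuotientGroup.mk_surjective x
  have hpow : (QuotientGroup.mk A₀ : Cfsg.PSp n F) ^ orderOf x = 1 := by
    rw [hA₀]; exact pow_orderOf_eq_one x
  have hdvd : ∀ A : Matrix.symplecticGroup (Fin n) F, (QuotientGroup.mk A : Cfsg.PSp n F) = x →
      orderOf x ∣ orderOf A := by
    intro A hA
    rw [← hA]
    exact orderOf_map_dvd (QuotientGroup.mk' (Subgroup.center (Matrix.symplecticGroup (Fin n) F))) A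
  rcases (mk_pow_eq_one_iff hn A₀ (orderOf x)).mp hpow with h | h
  · refine ⟨A₀, hA₀, Nat.dvd_antisymm ?_ (hdvd A₀ hA₀)⟩
    apply orderOf_dvd_of_pow_eq_one
    apply mat_injective
    rw [mat_pow, h]; rfl
  · have hmem : -(mat A₀) ∈ Matrix.symplecticGroup (Fin n) F := SymplecticGroup.neg_mem A₀.2
    set A : Matrix.symplecticGroup (Fin n) F := ⟨-(mat A₀), hmem⟩ with hAdef
    have hAx : (QuotientGroup.mk A : Cfsg.PSp n F) = x := by
      rw [← hA₀]
      rw [QuotientGroup.eq]
      rw [mem_center_iff' hn]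
      right
      rw [mat_mul]
      have h1 : mat A = -(mat A₀) := rfl
      have h2 : mat A⁻¹ * mat A = 1 := by
        rw [← mat_mul, inv_mul_cancel]; rfl
      rw [h1, mul_neg] at h2
      have h3 : mat A⁻¹ * mat A₀ = -1 := by
        rw [← h2, neg_neg]
      exact h3
    refine ⟨A, hAx, Nat.dvd_antisymm ?_ (hdvd A hAx)⟩
    apply orderOf_dvd_of_pow_eq_one
    apply mat_injective
    rw [mat_pow]
    show (-(mat A₀)) ^ orderOf x = 1
    rw [hodd.neg_pow, h, neg_neg]

/-- ORDMIN -/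
theorem orderOf_dvd_of_minpoly_dvd (A : Matrix.symplecticGroup (Fin n) F) (N : ℕ)
    (h : minpoly F (mat A) ∣ X ^ N - 1) : orderOf A ∣ N := by
  apply orderOf_dvd_of_pow_eq_one
  apply mat_injective
  rw [mat_pow]
  obtain ⟨c, hc⟩ := h
  have := congrArg (aeval (mat A)) hc
  rw [map_mul, minpoly.aeval, zero_mul, map_sub, map_pow, aeval_X, map_one, sub_eq_zero] at this
  rw [this]; rfl

/-- GOODORD -/
theorem orderOf_mk_invol_mul (hn : 1 ≤ n) (A t : Matrix.symplecticGroup (Fin n) F)
    (hc : Commute t A) (ht : t ^ 2 = 1) (ht1 : mat t ≠ 1) (htm : mat t ≠ -1)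
    (hodd : Odd (orderOf (QuotientGroup.mk A : Cfsg.PSp n F))) :
    orderOf (QuotientGroup.mk (t * A) : Cfsg.PSp n F) =
      2 * orderOf (QuotientGroup.mk A : Cfsg.PSp n F) := by
  have h2 : orderOf (QuotientGroup.mk t : Cfsg.PSp n F) = 2 := by
    apply orderOf_eq_prime
    · rw [← QuotientGroup.mk_pow, ht]; rfl
    · intro h1
      have := (mk_pow_eq_one_iff hn t 1).mp (by rw [pow_one]; exact h1)
      rw [pow_one] at this
      rcases this with h | h
      · exact ht1 h
      · exact htm h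
  have hcomm : Commute (QuotientGroup.mk t : Cfsg.PSp n F) (QuotientGroup.mk A) := by
    show (QuotientGroup.mk t : Cfsg.PSp n F) * QuotientGroup.mk A = QuotientGroup.mk A * QuotientGroup.mk t
    rw [← QuotientGroup.mk_mul, ← QuotientGroup.mk_mul, hc.eq]
  rw [QuotientGroup.mk_mul, hcomm.orderOf_mul_eq_mul_orderOf_of_coprime, h2]
  rw [h2]
  exact (Nat.coprime_two_left).mpr hodd

/-- GOODMIN -/
theorem good_minpoly_sp (A : Matrix.symplecticGroup (Fin n) F) : Good (minpoly F (mat A)) := by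
  apply good_minpoly (mat A) (Matrix.J (Fin n) F) (Matrix.isUnit_det_J (Fin n) F)
  exact SymplecticGroup.mem_iff'.mp A.2

/-- NOTNEG -/
theorem X_add_one_not_dvd (h2 : (2 : F) ≠ 0) (A : Matrix.symplecticGroup (Fin n) F)
    (hodd : Odd (orderOf A)) : ¬ (X + 1 : F[X]) ∣ minpoly F (mat A) := by
  intro hdvd
  have h1 : minpoly F (mat A) ∣ X ^ orderOf A - 1 := by
    apply minpoly.dvd
    rw [map_sub, map_pow, aeval_X, map_one, sub_eq_zero, ← mat_pow, pow_orderOf_eq_one]
    rfl
  have h3 := hdvd.trans h1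
  have h4 : (X + 1 : F[X]) = X - C (-1) := by rw [map_neg, map_one, sub_neg_eq_add]
  rw [h4, dvd_iff_isRoot, IsRoot.def, eval_sub, eval_pow, eval_X, eval_one, hodd.neg_one_pow] at h3
  apply h2
  have : (2 : F) = -(-1 - 1) := by ring
  rw [this, h3, neg_zero]

end layer0

/-! ## SUMSP -/

section sums

variable {F : Type*} [Field F]

theorem isSymp_Bsum {V W : Type*} [AddCommGroup V] [Module F V] [AddCommGroup W] [Module F W]
    {B₁ : V → V → F} {B₂ : W → W → F} (h₁ : IsSymp B₁) (h₂ : IsSymp B₂) :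
    IsSymp (Bsum B₁ B₂) where
  add_left u u' v := by
    simp only [Bsum_apply, Prod.fst_add, Prod.snd_add, h₁.add_left, h₂.add_left]; ring
  smul_left c u v := by
    simp only [Bsum_apply, Prod.smul_fst, Prod.smul_snd, h₁.smul_left, h₂.smul_left]; ring
  skew u v := by
    simp only [Bsum_apply]; rw [h₁.skew, h₂.skew]; ring
  nondeg u hu := by
    have hz₁ : B₁ 0 0 = 0 := by
      have := h₁.smul_left 0 0 0; rwa [zero_smul, zero_mul] at this
    have hz₂ : B₂ 0 0 = 0 := by
      have := h₂.smul_left 0 0 0; rwa [zero_smul, zero_mul] at this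
    have hr₁ : ∀ x : V, B₁ x 0 = 0 := by
      intro x
      have := h₁.smul_left 0 0 x
      rw [zero_smul, zero_mul] at this
      rw [h₁.skew, this, neg_zero]
    have hr₂ : ∀ y : W, B₂ y 0 = 0 := by
      intro y
      have := h₂.smul_left 0 0 y
      rw [zero_smul, zero_mul] at this
      rw [h₂.skew, this, neg_zero]
    have e1 : u.1 = 0 := by
      apply h₁.nondeg
      intro v
      have := hu (v, 0)
      rw [Bsum_apply] at this
      simpa [hr₂] using this
    have e2 : u.2 = 0 := by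
      apply h₂.nondeg
      intro w
      have := hu (0, w)
      rw [Bsum_apply] at this
      simpa [hr₁] using this
    exact Prod.ext e1 e2

theorem Bsum_prodMap {V W : Type*} [AddCommGroup V] [Module F V] [AddCommGroup W] [Module F W]
    {B₁ : V → V → F} {B₂ : W → W → F} (X₁ : Module.End F V) (X₂ : Module.End F W)
    (h₁ : ∀ u v, B₁ (X₁ u) (X₁ v) = B₁ u v) (h₂ : ∀ u v, B₂ (X₂ u) (X₂ v) = B₂ u v) (u v : V × W) :
    Bsum B₁ B₂ (X₁.prodMap X₂ u) (X₁.prodMap X₂ v) = Bsum B₁ B₂ u v := by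
  simp only [Bsum_apply, LinearMap.prodMap_apply, h₁, h₂]

namespace SUMSP

theorem prodMap_pow {V W : Type*} [AddCommGroup V] [Module F V] [AddCommGroup W]
    [Module F W] (X₁ : Module.End F V) (X₂ : Module.End F W) (j : ℕ) :
    (X₁.prodMap X₂ : Module.End F (V × W)) ^ j = (X₁ ^ j).prodMap (X₂ ^ j) := by
  induction j with
  | zero => simp only [pow_zero]; exact LinearMap.prodMap_one.symm
  | succ j ih =>
    rw [pow_succ, ih, pow_succ, pow_succ]
    exact (LinearMap.prodMap_mul _ _ _ _).symm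

theorem prodMap_eq_iff {V W : Type*} [AddCommGroup V] [Module F V] [AddCommGroup W]
    [Module F W] (X₁ Y₁ : Module.End F V) (X₂ Y₂ : Module.End F W) :
    (X₁.prodMap X₂ : Module.End F (V × W)) = Y₁.prodMap Y₂ ↔ X₁ = Y₁ ∧ X₂ = Y₂ := by
  constructor
  · intro h
    constructor
    · ext v
      have := congrArg (fun f : Module.End F (V × W) => (f (v, 0)).1) h
      simpa using this
    · ext w
      have := congrArg (fun f : Module.End F (V × W) => (f (0, w)).2) h
      simpa using this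
  · rintro ⟨rfl, rfl⟩; rfl

end SUMSP

theorem prodMap_pow_eq_one_iff {V W : Type*} [AddCommGroup V] [Module F V] [AddCommGroup W]
    [Module F W] (X₁ : Module.End F V) (X₂ : Module.End F W) (j : ℕ) :
    (X₁.prodMap X₂ : Module.End F (V × W)) ^ j = 1 ↔ X₁ ^ j = 1 ∧ X₂ ^ j = 1 := by
  rw [SUMSP.prodMap_pow, ← SUMSP.prodMap_eq_iff, LinearMap.prodMap_one]

theorem prodMap_pow_eq_neg_one_iff {V W : Type*} [AddCommGroup V] [Module F V] [AddCommGroup W]
    [Module F W] (X₁ : Module.End F V) (X₂ : Module.End F W) (j : ℕ) :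
    (X₁.prodMap X₂ : Module.End F (V × W)) ^ j = -1 ↔ X₁ ^ j = -1 ∧ X₂ ^ j = -1 := by
  rw [SUMSP.prodMap_pow, ← SUMSP.prodMap_eq_iff]
  have : (-1 : Module.End F (V × W)) = (-1 : Module.End F V).prodMap (-1 : Module.End F W) := by
    ext x <;> simp
  rw [this]

end sums

end Cfsg.Agent.S2512P
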