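import Mathlib
import Cfsg.Agent.Helper14.J3OA

set_option autoImplicit false

namespace Cfsg.Agent.Helper17.SuzOut

open Cfsg.Agent.Helper14.J3Out

namespace CLS3

/-- the elements of the cyclic group generated by an involution -/
theorem mem_zpowers_of_order_two {J : Type*} [Group J] {t x : J} (ht : orderOf t = 2)
    (hx : x ∈ Subgroup.zpowers t) : x = 1 ∨ x = t := by
  obtain ⟨k, rfl⟩ := Subgroup.mem_zpowers_iff.1 hx
  rw [← zpow_mod_orderOf, ht]
  push_cast
  have h1 : (0 : ℤ) ≤ k % 2 := Int.emod_nonneg _ (by norm_num)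
  have h2 : k % 2 < 2 := Int.emod_lt_of_pos _ (by norm_num)
  have h3 : k % 2 = 0 ∨ k % 2 = 1 := by omega
  rcases h3 with h | h
  · left; rw [h, zpow_zero]
  · right; rw [h, zpow_one]

/-- two distinct commuting involutions generate a subgroup of order four -/
theorem four_dvd_card {J : Type*} [Group J] [Finite J] (C : Subgroup J) (t₁ t₂ : J)
    (ht1 : orderOf t₁ = 2) (ht2 : orderOf t₂ = 2) (ht12 : t₁ ≠ t₂) (htt : t₁ * t₂ = t₂ * t₁)
    (h1C : t₁ ∈ C) (h2C : t₂ ∈ C) : 4 ∣ Nat.card C := by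
  have hcomm : ∀ (a : Subgroup.zpowers t₁) (b : Subgroup.zpowers t₂),
      Commute ((Subgroup.zpowers t₁).subtype a) ((Subgroup.zpowers t₂).subtype b) := by
    intro a b
    obtain ⟨i, hi⟩ := Subgroup.mem_zpowers_iff.1 a.2
    obtain ⟨j, hj⟩ := Subgroup.mem_zpowers_iff.1 b.2
    show Commute (a : J) (b : J)
    rw [← hi, ← hj]
    exact Commute.zpow_zpow htt i j
  have hne1 : t₁ ≠ 1 := by
    intro h
    rw [h, orderOf_one] at ht1
    norm_num at ht1
  have hdisj : Disjoint (Subgroup.zpowers t₁).subtype.range (Subgroup.zpowers t₂).subtype.range := by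
    rw [Subgroup.range_subtype, Subgroup.range_subtype, Subgroup.disjoint_def]
    intro x hx1 hx2
    rcases mem_zpowers_of_order_two ht1 hx1 with h | h
    · exact h
    · rcases mem_zpowers_of_order_two ht2 hx2 with h' | h'
      · exact h'
      · exact absurd (h.symm.trans h') ht12
  have hinj := (MonoidHom.noncommCoprod_injective _ _ hcomm).2
    ⟨Subgroup.subtype_injective _, Subgroup.subtype_injective _, hdisj⟩
  have hcard : Nat.card (MonoidHom.noncommCoprod _ _ hcomm).range = 4 := by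
    rw [← Nat.card_congr (MonoidHom.ofInjective hinj).toEquiv, Nat.card_prod, Nat.card_zpowers,
      Nat.card_zpowers, ht1, ht2]
  have hle : (MonoidHom.noncommCoprod _ _ hcomm).range ≤ C := by
    rw [MonoidHom.noncommCoprod_range, Subgroup.range_subtype, Subgroup.range_subtype, sup_le_iff]
    exact ⟨(Subgroup.zpowers_le).2 h1C, (Subgroup.zpowers_le).2 h2C⟩
  rw [← hcard]
  exact Subgroup.card_dvd_of_le hle

/-- commuting with a generator-power of coprime exponent -/
theorem commute_of_commute_pow {J : Type*} [Group J] [Finite J] {v y : J} {k : ℕ}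
    (hv : orderOf v = 7) (hk0 : 0 < k) (hk7 : k < 7) (h : y * v ^ k = v ^ k * y) :
    y * v = v * y := by
  have hcop : Nat.Coprime (orderOf v) k := by
    rw [hv]
    apply (Nat.Prime.coprime_iff_not_dvd (by norm_num)).2
    intro hd
    have := Nat.le_of_dvd hk0 hd
    omega
  have hord : orderOf (v ^ k) = 7 := by rw [hcop.orderOf_pow, hv]
  have hle : Subgroup.zpowers (v ^ k) ≤ Subgroup.zpowers v :=
    (Subgroup.zpowers_le).2 (Subgroup.pow_mem _ (Subgroup.mem_zpowers v) k)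
  have heq : Subgroup.zpowers (v ^ k) = Subgroup.zpowers v := by
    apply Subgroup.eq_of_le_of_card_ge hle
    rw [Nat.card_zpowers, Nat.card_zpowers, hv, hord]
  have hmem : v ∈ Subgroup.zpowers (v ^ k) := by rw [heq]; exact Subgroup.mem_zpowers v
  obtain ⟨a, ha⟩ := Subgroup.mem_zpowers_iff.1 hmem
  have hc : Commute y (v ^ k) := h
  have := hc.zpow_right a
  rw [ha] at this
  exact this

end CLS3

open CLS3 in
/-- CLS3: the class of `z` is invariant under all automorphisms, given that the centralizer of the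
element `v` of order 7 (Sylow 7-subgroups of order 7) has order `< 252` and contains `z` (order 3)
and a four-group `{1, t₁, t₂, t₁ t₂}`. -/
theorem class_invariant_of_centralizer {J : Type*} [Group J] [Finite J] (m : ℕ)
    (hcard : Nat.card J = 7 * m) (hpm : ¬ 7 ∣ m)
    (v z t₁ t₂ : J) (hv : orderOf v = 7) (hz : orderOf z = 3) (hzv : z * v = v * z)
    (ht1 : orderOf t₁ = 2) (ht2 : orderOf t₂ = 2) (ht12 : t₁ ≠ t₂) (htt : t₁ * t₂ = t₂ * t₁)
    (ht1v : t₁ * v = v * t₁) (ht2v : t₂ * v = v * t₂)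
    (hC : Nat.card (Subgroup.centralizer ({v} : Set J)) < 252) :
    ∀ φ : MulAut J, ∃ c : J, φ z = c * z * c⁻¹ ∨ φ z = c * z⁻¹ * c⁻¹ := by
  classical
  intro φ
  have : Fact (Nat.Prime 7) := ⟨by norm_num⟩
  have : Fact (Nat.Prime 3) := ⟨by norm_num⟩
  obtain ⟨C, hCdef⟩ : ∃ C : Subgroup J, C = Subgroup.centralizer ({v} : Set J) := ⟨_, rfl⟩
  have hmemC : ∀ x : J, x ∈ C ↔ x * v = v * x := by
    intro x
    rw [hCdef, Subgroup.mem_centralizer_iff]
    constructor
    · intro h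
      exact (h v (Set.mem_singleton v)).symm
    · intro h y hy
      rw [Set.mem_singleton_iff] at hy
      rw [hy]
      exact h.symm
  rw [← hCdef] at hC
  have hzC : z ∈ C := (hmemC z).2 hzv
  have hvC : v ∈ C := (hmemC v).2 rfl
  -- the order of `C`
  have h4 : 4 ∣ Nat.card C :=
    four_dvd_card C t₁ t₂ ht1 ht2 ht12 htt ((hmemC t₁).2 ht1v) ((hmemC t₂).2 ht2v)
  have h3 : 3 ∣ Nat.card C := by
    rw [← hz, ← Nat.card_zpowers]
    exact Subgroup.card_dvd_of_le ((Subgroup.zpowers_le).2 hzC)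
  have h7 : 7 ∣ Nat.card C := by
    rw [← hv, ← Nat.card_zpowers]
    exact Subgroup.card_dvd_of_le ((Subgroup.zpowers_le).2 hvC)
  have hpos : 0 < Nat.card C := Nat.card_pos
  obtain ⟨m', hm', hm3⟩ : ∃ m' : ℕ, Nat.card C = 3 * m' ∧ ¬ 3 ∣ m' := by
    have h84 : 84 ∣ Nat.card C := by
      have h12 : 12 ∣ Nat.card C :=
        Nat.Coprime.mul_dvd_of_dvd_of_dvd (by norm_num : Nat.Coprime 4 3) h4 h3
      exact Nat.Coprime.mul_dvd_of_dvd_of_dvd (by norm_num : Nat.Coprime 12 7) h12 h7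
    obtain ⟨k, hk⟩ := h84
    have hk12 : k = 1 ∨ k = 2 := by omega
    rcases hk12 with rfl | rfl
    · exact ⟨28, by omega, by norm_num⟩
    · exact ⟨56, by omega, by norm_num⟩
  -- the image of `v`
  have hφv : orderOf (φ v) = 7 := by rw [MulEquiv.orderOf_eq, hv]
  obtain ⟨g, k, hk0, hk7, hgk⟩ := exists_conj_pow 7 m hcard hpm v (φ v) hv hφv
  have hφzv : φ z * φ v = φ v * φ z := by rw [← map_mul, ← map_mul, hzv]
  obtain ⟨y, hy⟩ : ∃ y : J, y = g⁻¹ * φ z * g := ⟨_, rfl⟩
  have hyk : y * v ^ k = v ^ k * y := by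
    rw [hgk] at hφzv
    rw [hy]
    have h1 : g⁻¹ * (φ z * (g * v ^ k * g⁻¹)) * g = g⁻¹ * ((g * v ^ k * g⁻¹) * φ z) * g := by
      rw [hφzv]
    have h2 : g⁻¹ * (φ z * (g * v ^ k * g⁻¹)) * g = g⁻¹ * φ z * g * v ^ k := by group
    have h3 : g⁻¹ * ((g * v ^ k * g⁻¹) * φ z) * g = v ^ k * (g⁻¹ * φ z * g) := by group
    rw [← h2, ← h3, h1]
  have hyC : y ∈ C := (hmemC y).2 (commute_of_commute_pow hv hk0 hk7 hyk)
  have hyord : orderOf y = 3 := by
    have : y = (MulAut.conj g⁻¹) (φ z) := by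
      rw [hy, MulAut.conj_apply, inv_inv]
    rw [this, MulEquiv.orderOf_eq, MulEquiv.orderOf_eq, hz]
  -- conjugacy inside `C`
  have hzC' : orderOf (⟨z, hzC⟩ : C) = 3 := by rw [Subgroup.orderOf_mk, hz]
  have hyC' : orderOf (⟨y, hyC⟩ : C) = 3 := by rw [Subgroup.orderOf_mk, hyord]
  obtain ⟨c, j, hj0, hj3, hcj⟩ := exists_conj_pow 3 m' hm' hm3 (⟨z, hzC⟩ : C) ⟨y, hyC⟩ hzC' hyC'
  have hcj' : y = (c : J) * z ^ j * (c : J)⁻¹ := by
    have := congrArg Subtype.val hcj
    simpa using this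
  have hφz : φ z = g * y * g⁻¹ := by rw [hy]; group
  refine ⟨g * c, ?_⟩
  have hj12 : j = 1 ∨ j = 2 := by omega
  rcases hj12 with rfl | rfl
  · left
    rw [hφz, hcj', pow_one]
    group
  · right
    have hz2 : z ^ 2 = z⁻¹ := by
      have h3' : z ^ 3 = 1 := by rw [← hz]; exact pow_orderOf_eq_one z
      have : z ^ 2 * z = 1 := by rw [← pow_succ]; exact h3'
      exact eq_inv_of_mul_eq_one_left this
    rw [hφz, hcj', hz2]
    group

end Cfsg.Agent.Helper17.SuzOut
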