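import Mathlib
import Cfsg.Agent.Helper14.J3OA

set_option autoImplicit false

namespace Cfsg.Agent.Helper17.SuzOut

open Cfsg.Agent.Helper14.J3Out

namespace NONINN

/-- `2 ^ j` is not `1` modulo `13` for `0 < j < 12` -/
theorem not_dvd_two_pow_sub_one : ∀ j < 12, 0 < j → ¬ 13 ∣ 2 ^ j - 1 := by
  decide

end NONINN

open NONINN in
/-- NONINN: `u` (of order 13, self-centralizing, normalized by `n` acting as the 4th power) is not
conjugate to `u ^ 2`: otherwise the normalizer of `⟨u⟩` has order 156 and the number of Sylow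
13-subgroups `448345497600 / 156 = 2874009600 ≡ 7 (mod 13)` contradicts Sylow's theorem. -/
theorem not_conj_sq {J : Type*} [Group J] [Finite J]
    (hcard : Nat.card J = 448345497600) (u n : J) (hu : orderOf u = 13)
    (hn : n * u * n⁻¹ = u ^ 4)
    (hC : ∀ c : J, c * u = u * c → c ∈ Subgroup.zpowers u) :
    ¬ ∃ c : J, c * u * c⁻¹ = u ^ 2 := by
  classical
  rintro ⟨c, hc⟩
  have : Fact (Nat.Prime 13) := ⟨by norm_num⟩
  obtain ⟨P, hP⟩ : ∃ P : Subgroup J, P = Subgroup.zpowers u := ⟨_, rfl⟩
  have hPcard : Nat.card P = 13 := by rw [hP, Nat.card_zpowers, hu]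
  have huP : u ∈ P := by rw [hP]; exact Subgroup.mem_zpowers u
  -- `P` is a Sylow subgroup
  have hfac : (Nat.card J).factorization 13 = 1 := by
    rw [hcard]
    have : (448345497600 : ℕ) = 13 * 34488115200 := by norm_num
    rw [this, Nat.factorization_mul (by norm_num) (by norm_num), Finsupp.add_apply,
      Nat.Prime.factorization_self (by norm_num),
      Nat.factorization_eq_zero_of_not_dvd (by norm_num)]
  have hpg : IsPGroup 13 P := by
    apply IsPGroup.of_card (n := 1)
    rw [hPcard, pow_one]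
  obtain ⟨Q, hQ⟩ := hpg.exists_le_sylow
  have hQP : (Q : Subgroup J) = P := by
    symm
    apply Subgroup.eq_of_le_of_card_ge hQ
    rw [Q.card_eq_multiplicity, hfac, pow_one, hPcard]
  -- the centralizer of `P` is `P`
  have hcent : Subgroup.centralizer (P : Set J) = P := by
    apply le_antisymm
    · intro g hg
      rw [hP]
      apply hC
      exact (hg u huP).symm
    · intro g hg
      rw [Subgroup.mem_centralizer_iff]
      intro h hh
      rw [hP] at hg hh
      obtain ⟨a, rfl⟩ := Subgroup.mem_zpowers_iff.1 hg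
      obtain ⟨b, rfl⟩ := Subgroup.mem_zpowers_iff.1 hh
      exact (Commute.zpow_zpow_self u b a).eq
  -- `c` normalizes `P`
  have hconj : ∀ j : ℕ, c ^ j * u * (c ^ j)⁻¹ = u ^ (2 ^ j) := conj_pow_eq u hc
  have hcN : c ∈ Subgroup.normalizer (P : Set J) := by
    have hsub : ∀ h, h ∈ P → c * h * c⁻¹ ∈ P := by
      intro h hh
      rw [hP] at hh ⊢
      obtain ⟨a, rfl⟩ := Subgroup.mem_zpowers_iff.1 hh
      have : c * u ^ a * c⁻¹ = (c * u * c⁻¹) ^ a := by rw [conj_zpow]
      rw [this, hc]
      exact Subgroup.zpow_mem _ (Subgroup.pow_mem _ (Subgroup.mem_zpowers u) 2) a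
    rw [Subgroup.mem_normalizer_iff]
    intro h
    constructor
    · exact hsub h
    · intro hh
      -- conjugation by `c` is an injective self-map of the finite set `P`
      have hinj : Function.Injective (fun x : P => (⟨c * x * c⁻¹, hsub x x.2⟩ : P)) := by
        intro x y hxy
        have := congrArg Subtype.val hxy
        simp only at this
        apply Subtype.ext
        have h1 : c⁻¹ * (c * x * c⁻¹) * c = c⁻¹ * (c * y * c⁻¹) * c := by rw [this]
        simpa [mul_assoc] using h1
      have : Finite P := inferInstance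
      obtain ⟨x, hx⟩ := (Finite.injective_iff_surjective.1 hinj) ⟨c * h * c⁻¹, hh⟩
      have hx' : c * (x : J) * c⁻¹ = c * h * c⁻¹ := congrArg Subtype.val hx
      have : (x : J) = h := by
        have h1 : c⁻¹ * (c * x * c⁻¹) * c = c⁻¹ * (c * h * c⁻¹) * c := by rw [hx']
        simpa [mul_assoc] using h1
      rw [← this]
      exact x.2
  -- the order of the normalizer
  obtain ⟨f, hf⟩ : ∃ f : Subgroup.normalizer (P : Set J) →* MulAut P, f = P.normalizerMonoidHom := ⟨_, rfl⟩
  have hker : Nat.card f.ker = 13 := by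
    rw [hf, Subgroup.normalizerMonoidHom_ker, hcent,
      Nat.card_congr (Subgroup.subgroupOfEquivOfLe Subgroup.le_normalizer).toEquiv, hPcard]
  have : IsCyclic P := by
    rw [hP]
    infer_instance
  have hAut : Nat.card (MulAut P) = 12 := by
    rw [IsCyclic.card_mulAut, hPcard]
    decide
  have hfapply : ∀ (g : Subgroup.normalizer (P : Set J)) (x : P), ((f g x : P) : J) = (g : J) * x * (g : J)⁻¹ := by
    intro g x
    rw [hf]
    rfl
  have hord : 12 ≤ orderOf (f ⟨c, hcN⟩) := by
    by_contra hlt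
    rw [not_le] at hlt
    have hpos : 0 < orderOf (f ⟨c, hcN⟩) := orderOf_pos _
    have h1 : f ⟨c, hcN⟩ ^ orderOf (f ⟨c, hcN⟩) = 1 := pow_orderOf_eq_one _
    rw [← map_pow] at h1
    have h2 := hfapply (⟨c, hcN⟩ ^ orderOf (f ⟨c, hcN⟩)) ⟨u, huP⟩
    rw [h1] at h2
    have h3 : ((⟨c, hcN⟩ ^ orderOf (f ⟨c, hcN⟩) : Subgroup.normalizer (P : Set J)) : J) =
        c ^ orderOf (f ⟨c, hcN⟩) := by
      rw [SubgroupClass.coe_pow]
    rw [h3, hconj] at h2
    have h4 : u = u ^ (2 ^ orderOf (f ⟨c, hcN⟩)) := h2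
    have h5 : u ^ (2 ^ orderOf (f ⟨c, hcN⟩) - 1) = 1 := by
      have hge : 1 ≤ 2 ^ orderOf (f ⟨c, hcN⟩) := Nat.one_le_two_pow
      have : u ^ (2 ^ orderOf (f ⟨c, hcN⟩) - 1) * u = u := by
        rw [← pow_succ, Nat.sub_add_cancel hge, ← h4]
      exact mul_eq_right.1 this
    have h6 := orderOf_dvd_of_pow_eq_one h5
    rw [hu] at h6
    exact not_dvd_two_pow_sub_one _ hlt hpos h6
  have hrange : Nat.card f.range = 12 := by
    apply le_antisymm
    · rw [← hAut]
      exact Subgroup.card_le_card_group _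
    · have h1 : orderOf (⟨f ⟨c, hcN⟩, ⟨_, rfl⟩⟩ : f.range) ≤ Nat.card f.range := orderOf_le_card
      have h2 : orderOf (⟨f ⟨c, hcN⟩, ⟨_, rfl⟩⟩ : f.range) = orderOf (f ⟨c, hcN⟩) :=
        Subgroup.orderOf_mk _ _
      omega
  have hN : Nat.card (Subgroup.normalizer (P : Set J)) = 156 := by
    rw [← Subgroup.card_mul_index f.ker, Subgroup.index_ker, hker, hrange]
  -- Sylow counting
  have hidx : Nat.card (Sylow 13 J) = (Subgroup.normalizer (P : Set J)).index := by
    have hset : ((Q : Sylow 13 J) : Set J) = (P : Set J) := by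
      rw [← hQP]
      rfl
    rw [Sylow.card_eq_index_normalizer Q, hset]
  have hmul := Subgroup.card_mul_index (Subgroup.normalizer (P : Set J))
  rw [hN, hcard] at hmul
  have hmod := card_sylow_modEq_one 13 J
  rw [hidx] at hmod
  have hval : (Subgroup.normalizer (P : Set J)).index = 2874009600 := by omega
  rw [hval] at hmod
  exact absurd hmod (by decide)

end Cfsg.Agent.Helper17.SuzOut
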