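import Mathlib

set_option autoImplicit false
set_option linter.unusedSectionVars false
set_option linter.unusedVariables false

/-!
# Borel–Tits (S2154), generic part: subgroups of `GL ι F` attached to a real grading `d : ι → ℝ`

* `GrPar d`  : matrices (with their inverses) whose nonzero entries `(a,b)` satisfy `d b ≤ d a`;
* `GrFil d t`: matrices `g` (with inverses) such that `g - 1` raises the degree by at least `t`;
* `Gr0 d`    : degree preserving matrices;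
* `Tr n d d'`: the matrix `n` carries the grading `d` to the grading `d'`;
* `Mval V d` : the largest `t` with `V ≤ GrFil d t`.
-/

namespace Cfsg.Agent.Helper28.BT

open scoped MatrixGroups Matrix

variable {ι : Type*} [Fintype ι] [DecidableEq ι] {F : Type*} [Field F]

/-- nonzero entries do not lower the degree -/
def ParP (d : ι → ℝ) (M : Matrix ι ι F) : Prop := ∀ a b, M a b ≠ 0 → d b ≤ d a

/-- `M - 1` raises the degree by at least `t` -/
def FilP (d : ι → ℝ) (t : ℝ) (M : Matrix ι ι F) : Prop :=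
  ∀ a b, (M - 1) a b ≠ 0 → d b + t ≤ d a

/-- nonzero entries preserve the degree -/
def ZerP (d : ι → ℝ) (M : Matrix ι ι F) : Prop := ∀ a b, M a b ≠ 0 → d a = d b

theorem ParP_one (d : ι → ℝ) : ParP d (1 : Matrix ι ι F) := by
  intro a b h
  rw [Matrix.one_apply] at h
  by_cases hab : a = b
  · rw [hab]
  · rw [if_neg hab] at h; exact absurd rfl h

theorem ParP_mul {d : ι → ℝ} {M N : Matrix ι ι F} (hM : ParP d M) (hN : ParP d N) :
    ParP d (M * N) := by
  intro a b h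
  rw [Matrix.mul_apply] at h
  obtain ⟨c, _, hc⟩ := Finset.exists_ne_zero_of_sum_ne_zero h
  exact (hN c b (right_ne_zero_of_mul hc)).trans (hM a c (left_ne_zero_of_mul hc))

theorem ZerP_one (d : ι → ℝ) : ZerP d (1 : Matrix ι ι F) := by
  intro a b h
  rw [Matrix.one_apply] at h
  by_cases hab : a = b
  · rw [hab]
  · rw [if_neg hab] at h; exact absurd rfl h

theorem ZerP_mul {d : ι → ℝ} {M N : Matrix ι ι F} (hM : ZerP d M) (hN : ZerP d N) :
    ZerP d (M * N) := by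
  intro a b h
  rw [Matrix.mul_apply] at h
  obtain ⟨c, _, hc⟩ := Finset.exists_ne_zero_of_sum_ne_zero h
  rw [hM a c (left_ne_zero_of_mul hc), hN c b (right_ne_zero_of_mul hc)]

theorem FilP_one (d : ι → ℝ) (t : ℝ) : FilP d t (1 : Matrix ι ι F) := by
  intro a b h
  rw [sub_self] at h
  exact absurd rfl h

theorem FilP_mul {d : ι → ℝ} {t : ℝ} (ht : 0 ≤ t) {M N : Matrix ι ι F} (hM : FilP d t M)
    (hN : FilP d t N) : FilP d t (M * N) := by
  intro a b h
  have e : M * N - 1 = (M - 1) * (N - 1) + (M - 1) + (N - 1) := by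
    rw [sub_mul, mul_sub, mul_sub, mul_one, one_mul, mul_one]; abel
  rw [e, Matrix.add_apply, Matrix.add_apply] at h
  by_cases h1 : ((M - 1) * (N - 1)) a b = 0
  · rw [h1, zero_add] at h
    by_cases h2 : (M - 1) a b = 0
    · rw [h2, zero_add] at h
      exact hN a b h
    · exact hM a b h2
  · rw [Matrix.mul_apply] at h1
    obtain ⟨c, _, hc⟩ := Finset.exists_ne_zero_of_sum_ne_zero h1
    have h2 := hM a c (left_ne_zero_of_mul hc)
    have h3 := hN c b (right_ne_zero_of_mul hc)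
    linarith

theorem FilP_mono {d : ι → ℝ} {t t' : ℝ} (h : t ≤ t') {M : Matrix ι ι F} (hM : FilP d t' M) :
    FilP d t M := by
  intro a b hab
  have := hM a b hab
  linarith

theorem FilP.parP {d : ι → ℝ} {t : ℝ} (ht : 0 ≤ t) {M : Matrix ι ι F} (hM : FilP d t M) :
    ParP d M := by
  intro a b hab
  by_cases e : a = b
  · rw [e]
  · have h1 : (M - 1) a b ≠ 0 := by
      rw [Matrix.sub_apply, Matrix.one_apply, if_neg e, sub_zero]; exact hab
    have := hM a b h1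
    linarith

theorem ZerP.parP {d : ι → ℝ} {M : Matrix ι ι F} (hM : ZerP d M) : ParP d M := by
  intro a b hab
  rw [hM a b hab]

/-- the filtration preserving units -/
def GrPar (d : ι → ℝ) : Subgroup (GL ι F) where
  carrier := {g | ParP d (g : Matrix ι ι F) ∧ ParP d ((g⁻¹ : GL ι F) : Matrix ι ι F)}
  one_mem' := by
    refine ⟨ParP_one d, ?_⟩
    rw [inv_one]; exact ParP_one d
  mul_mem' := by
    rintro g h ⟨g1, g2⟩ ⟨h1, h2⟩
    refine ⟨?_, ?_⟩
    · rw [Units.val_mul]; exact ParP_mul g1 h1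
    · rw [mul_inv_rev, Units.val_mul]; exact ParP_mul h2 g2
  inv_mem' := by
    rintro g ⟨g1, g2⟩
    refine ⟨g2, ?_⟩
    rw [inv_inv]; exact g1

/-- the degree preserving units -/
def Gr0 (d : ι → ℝ) : Subgroup (GL ι F) where
  carrier := {g | ZerP d (g : Matrix ι ι F) ∧ ZerP d ((g⁻¹ : GL ι F) : Matrix ι ι F)}
  one_mem' := by
    refine ⟨ZerP_one d, ?_⟩
    rw [inv_one]; exact ZerP_one d
  mul_mem' := by
    rintro g h ⟨g1, g2⟩ ⟨h1, h2⟩
    refine ⟨?_, ?_⟩
    · rw [Units.val_mul]; exact ZerP_mul g1 h1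
    · rw [mul_inv_rev, Units.val_mul]; exact ZerP_mul h2 g2
  inv_mem' := by
    rintro g ⟨g1, g2⟩
    refine ⟨g2, ?_⟩
    rw [inv_inv]; exact g1

/-- the units `g` with `g - 1` raising the degree by at least `t` (`t` is replaced by `max t 0`) -/
def GrFil (d : ι → ℝ) (t : ℝ) : Subgroup (GL ι F) where
  carrier := {g | FilP d (max t 0) (g : Matrix ι ι F) ∧
    FilP d (max t 0) ((g⁻¹ : GL ι F) : Matrix ι ι F)}
  one_mem' := by
    refine ⟨FilP_one d _, ?_⟩
    rw [inv_one]; exact FilP_one d _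
  mul_mem' := by
    rintro g h ⟨g1, g2⟩ ⟨h1, h2⟩
    refine ⟨?_, ?_⟩
    · rw [Units.val_mul]; exact FilP_mul (le_max_right _ _) g1 h1
    · rw [mul_inv_rev, Units.val_mul]; exact FilP_mul (le_max_right _ _) h2 g2
  inv_mem' := by
    rintro g ⟨g1, g2⟩
    refine ⟨g2, ?_⟩
    rw [inv_inv]; exact g1

theorem mem_GrPar {d : ι → ℝ} {g : GL ι F} :
    g ∈ GrPar d ↔ ParP d (g : Matrix ι ι F) ∧ ParP d ((g⁻¹ : GL ι F) : Matrix ι ι F) := Iff.rfl

theorem mem_Gr0 {d : ι → ℝ} {g : GL ι F} :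
    g ∈ Gr0 d ↔ ZerP d (g : Matrix ι ι F) ∧ ZerP d ((g⁻¹ : GL ι F) : Matrix ι ι F) := Iff.rfl

theorem mem_GrFil {d : ι → ℝ} {t : ℝ} (ht : 0 ≤ t) {g : GL ι F} :
    g ∈ GrFil d t ↔ FilP d t (g : Matrix ι ι F) ∧ FilP d t ((g⁻¹ : GL ι F) : Matrix ι ι F) := by
  show FilP d (max t 0) _ ∧ FilP d (max t 0) _ ↔ _
  rw [max_eq_left ht]

theorem GrFil_mono (d : ι → ℝ) {t t' : ℝ} (ht : 0 ≤ t) (h : t ≤ t') :
    (GrFil d t' : Subgroup (GL ι F)) ≤ GrFil d t := by
  intro g hg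
  rw [mem_GrFil (ht.trans h)] at hg
  rw [mem_GrFil ht]
  exact ⟨FilP_mono h hg.1, FilP_mono h hg.2⟩

theorem GrFil_le_GrPar (d : ι → ℝ) (t : ℝ) : (GrFil d t : Subgroup (GL ι F)) ≤ GrPar d := by
  rintro g ⟨h1, h2⟩
  exact ⟨h1.parP (le_max_right _ _), h2.parP (le_max_right _ _)⟩

theorem Gr0_le_GrPar (d : ι → ℝ) : (Gr0 d : Subgroup (GL ι F)) ≤ GrPar d := by
  rintro g ⟨h1, h2⟩
  exact ⟨h1.parP, h2.parP⟩

theorem Gr0_inf_GrFil (d : ι → ℝ) {t : ℝ} (ht : 0 < t) :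
    (Gr0 d ⊓ GrFil d t : Subgroup (GL ι F)) = ⊥ := by
  rw [eq_bot_iff]
  intro g hg
  obtain ⟨⟨h0, _⟩, hP⟩ := Subgroup.mem_inf.1 hg
  rw [mem_GrFil ht.le] at hP
  rw [Subgroup.mem_bot]
  apply Units.ext
  rw [Units.val_one]
  have hz : (g : Matrix ι ι F) - 1 = 0 := by
    ext a b
    rw [Matrix.zero_apply]
    by_contra hne
    have h1 := hP.1 a b hne
    have hab : a ≠ b := by
      rintro rfl
      linarith
    have h2 : (g : Matrix ι ι F) a b ≠ 0 := by
      rw [Matrix.sub_apply, Matrix.one_apply, if_neg hab, sub_zero] at hne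
      exact hne
    have h3 := h0 a b h2
    linarith
  exact sub_eq_zero.1 hz

/-- conjugating a degree raising matrix by filtration preserving ones -/
theorem FilP_conj {d : ι → ℝ} {t : ℝ} {P Q M : Matrix ι ι F} (hP : ParP d P) (hQ : ParP d Q)
    (hPQ : P * Q = 1) (hM : FilP d t M) : FilP d t (P * M * Q) := by
  intro a b h
  have e : P * M * Q - 1 = P * (M - 1) * Q := by
    rw [mul_sub, sub_mul, mul_one, hPQ]
  rw [e, Matrix.mul_apply] at h
  obtain ⟨c, _, hc⟩ := Finset.exists_ne_zero_of_sum_ne_zero h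
  have h1 := left_ne_zero_of_mul hc
  have h2 := hQ c b (right_ne_zero_of_mul hc)
  rw [Matrix.mul_apply] at h1
  obtain ⟨e', _, he⟩ := Finset.exists_ne_zero_of_sum_ne_zero h1
  have h3 := hP a e' (left_ne_zero_of_mul he)
  have h4 := hM e' c (right_ne_zero_of_mul he)
  linarith

theorem GrPar_le_normalizer (d : ι → ℝ) (t : ℝ) :
    (GrPar d : Subgroup (GL ι F)) ≤ Subgroup.normalizer ((GrFil d t : Subgroup (GL ι F)) : Set (GL ι F)) := by
  have key : ∀ p ∈ (GrPar d : Subgroup (GL ι F)), ∀ g ∈ (GrFil d t : Subgroup (GL ι F)),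
      p * g * p⁻¹ ∈ (GrFil d t : Subgroup (GL ι F)) := by
    rintro p ⟨p1, p2⟩ g ⟨g1, g2⟩
    refine ⟨?_, ?_⟩
    · rw [Units.val_mul, Units.val_mul]
      exact FilP_conj p1 p2 (by rw [← Units.val_mul, mul_inv_cancel, Units.val_one]) g1
    · have e : (p * g * p⁻¹)⁻¹ = p * g⁻¹ * p⁻¹ := by group
      rw [e, Units.val_mul, Units.val_mul]
      exact FilP_conj p1 p2 (by rw [← Units.val_mul, mul_inv_cancel, Units.val_one]) g2
  intro p hp
  rw [Subgroup.mem_normalizer_iff]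
  intro g
  constructor
  · exact key p hp g
  · intro h
    have := key p⁻¹ (Subgroup.inv_mem _ hp) _ h
    have e : p⁻¹ * (p * g * p⁻¹) * p⁻¹⁻¹ = g := by group
    rwa [e] at this

/-- the midpoint property -/
theorem GrFil_inf_le (d d' : ι → ℝ) {t t' : ℝ} (ht : 0 ≤ t) (ht' : 0 ≤ t') :
    (GrFil d t ⊓ GrFil d' t' : Subgroup (GL ι F)) ≤
      GrFil (fun a => (d a + d' a) / 2) ((t + t') / 2) := by
  intro g hg
  obtain ⟨h1, h2⟩ := Subgroup.mem_inf.1 hg
  rw [mem_GrFil ht] at h1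
  rw [mem_GrFil ht'] at h2
  rw [mem_GrFil (by positivity)]
  refine ⟨fun a b hab => ?_, fun a b hab => ?_⟩
  · have := h1.1 a b hab
    have := h2.1 a b hab
    simp only
    linarith
  · have := h1.2 a b hab
    have := h2.2 a b hab
    simp only
    linarith

/-- `n` carries the grading `d` to the grading `d'` -/
def Tr (n : GL ι F) (d d' : ι → ℝ) : Prop :=
  (∀ a b, (n : Matrix ι ι F) a b ≠ 0 → d' a = d b) ∧
    (∀ a b, ((n⁻¹ : GL ι F) : Matrix ι ι F) a b ≠ 0 → d a = d' b)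

theorem Tr.symm {n : GL ι F} {d d' : ι → ℝ} (h : Tr n d d') : Tr n⁻¹ d' d :=
  ⟨h.2, by rw [inv_inv]; exact h.1⟩

theorem Tr.one (d : ι → ℝ) : Tr (1 : GL ι F) d d := by
  refine ⟨fun a b h => ?_, fun a b h => ?_⟩
  · exact ZerP_one d a b h
  · rw [inv_one] at h; exact ZerP_one d a b h

theorem Tr.mul {n m : GL ι F} {d d' d'' : ι → ℝ} (h1 : Tr n d d') (h2 : Tr m d' d'') :
    Tr (m * n) d d'' := by
  refine ⟨fun a b h => ?_, fun a b h => ?_⟩
  · rw [Units.val_mul, Matrix.mul_apply] at h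
    obtain ⟨c, _, hc⟩ := Finset.exists_ne_zero_of_sum_ne_zero h
    rw [h2.1 a c (left_ne_zero_of_mul hc), h1.1 c b (right_ne_zero_of_mul hc)]
  · rw [mul_inv_rev, Units.val_mul, Matrix.mul_apply] at h
    obtain ⟨c, _, hc⟩ := Finset.exists_ne_zero_of_sum_ne_zero h
    rw [h1.2 a c (left_ne_zero_of_mul hc), h2.2 c b (right_ne_zero_of_mul hc)]

theorem Tr.of_mem_Gr0 {n : GL ι F} {d : ι → ℝ} (h : n ∈ Gr0 d) : Tr n d d :=
  ⟨h.1, h.2⟩

theorem Tr.mem_Gr0 {n : GL ι F} {d : ι → ℝ} (h : Tr n d d) : n ∈ Gr0 d :=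
  ⟨h.1, h.2⟩

theorem Tr.conj_FilP {n : GL ι F} {d d' : ι → ℝ} (h : Tr n d d') {t : ℝ} {M : Matrix ι ι F}
    (hM : FilP d t M) :
    FilP d' t ((n : Matrix ι ι F) * M * ((n⁻¹ : GL ι F) : Matrix ι ι F)) := by
  intro a b hab
  have e : (n : Matrix ι ι F) * M * ((n⁻¹ : GL ι F) : Matrix ι ι F) - 1 =
      (n : Matrix ι ι F) * (M - 1) * ((n⁻¹ : GL ι F) : Matrix ι ι F) := by
    rw [mul_sub, sub_mul, mul_one, ← Units.val_mul, mul_inv_cancel, Units.val_one]
  rw [e, Matrix.mul_apply] at hab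
  obtain ⟨c, _, hc⟩ := Finset.exists_ne_zero_of_sum_ne_zero hab
  have h1 := left_ne_zero_of_mul hc
  have h2 := h.2 c b (right_ne_zero_of_mul hc)
  rw [Matrix.mul_apply] at h1
  obtain ⟨e', _, he⟩ := Finset.exists_ne_zero_of_sum_ne_zero h1
  have h3 := h.1 a e' (left_ne_zero_of_mul he)
  have h4 := hM e' c (right_ne_zero_of_mul he)
  linarith

theorem Tr.conj_ParP {n : GL ι F} {d d' : ι → ℝ} (h : Tr n d d') {M : Matrix ι ι F}
    (hM : ParP d M) :
    ParP d' ((n : Matrix ι ι F) * M * ((n⁻¹ : GL ι F) : Matrix ι ι F)) := by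
  intro a b hab
  rw [Matrix.mul_apply] at hab
  obtain ⟨c, _, hc⟩ := Finset.exists_ne_zero_of_sum_ne_zero hab
  have h1 := left_ne_zero_of_mul hc
  have h2 := h.2 c b (right_ne_zero_of_mul hc)
  rw [Matrix.mul_apply] at h1
  obtain ⟨e', _, he⟩ := Finset.exists_ne_zero_of_sum_ne_zero h1
  have h3 := h.1 a e' (left_ne_zero_of_mul he)
  have h4 := hM e' c (right_ne_zero_of_mul he)
  linarith

theorem Tr.conj_mem_GrFil {n : GL ι F} {d d' : ι → ℝ} (h : Tr n d d') {t : ℝ} {g : GL ι F}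
    (hg : g ∈ GrFil d t) : n * g * n⁻¹ ∈ GrFil d' t := by
  refine ⟨?_, ?_⟩
  · rw [Units.val_mul, Units.val_mul]
    exact h.conj_FilP hg.1
  · have e : (n * g * n⁻¹)⁻¹ = n * g⁻¹ * n⁻¹ := by group
    rw [e, Units.val_mul, Units.val_mul]
    exact h.conj_FilP hg.2

theorem Tr.conj_mem_GrFil_iff {n : GL ι F} {d d' : ι → ℝ} (h : Tr n d d') {t : ℝ} {g : GL ι F} :
    n * g * n⁻¹ ∈ GrFil d' t ↔ g ∈ GrFil d t := by
  constructor
  · intro hg
    have := h.symm.conj_mem_GrFil hg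
    have e : n⁻¹ * (n * g * n⁻¹) * n⁻¹⁻¹ = g := by group
    rwa [e] at this
  · exact h.conj_mem_GrFil

theorem Tr.conj_mem_GrPar {n : GL ι F} {d d' : ι → ℝ} (h : Tr n d d') {g : GL ι F}
    (hg : g ∈ GrPar d) : n * g * n⁻¹ ∈ GrPar d' := by
  refine ⟨?_, ?_⟩
  · rw [Units.val_mul, Units.val_mul]
    exact h.conj_ParP hg.1
  · have e : (n * g * n⁻¹)⁻¹ = n * g⁻¹ * n⁻¹ := by group
    rw [e, Units.val_mul, Units.val_mul]
    exact h.conj_ParP hg.2

theorem Tr.conj_mem_GrPar_iff {n : GL ι F} {d d' : ι → ℝ} (h : Tr n d d') {g : GL ι F} :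
    n * g * n⁻¹ ∈ GrPar d' ↔ g ∈ GrPar d := by
  constructor
  · intro hg
    have := h.symm.conj_mem_GrPar hg
    have e : n⁻¹ * (n * g * n⁻¹) * n⁻¹⁻¹ = g := by group
    rwa [e] at this
  · exact h.conj_mem_GrPar

/-! ### the largest admissible shift -/

open Classical in
/-- the positions where some element of `V` differs from the identity -/
noncomputable def suppV (V : Subgroup (GL ι F)) : Finset (ι × ι) :=
  Finset.univ.filter fun p => ∃ g ∈ V, ((g : Matrix ι ι F) - 1) p.1 p.2 ≠ 0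

theorem mem_suppV {V : Subgroup (GL ι F)} {p : ι × ι} :
    p ∈ suppV V ↔ ∃ g ∈ V, ((g : Matrix ι ι F) - 1) p.1 p.2 ≠ 0 := by
  classical
  unfold suppV
  simp only [Finset.mem_filter, Finset.mem_univ, true_and]

theorem suppV_nonempty {V : Subgroup (GL ι F)} (hV : V ≠ ⊥) : (suppV V).Nonempty := by
  obtain ⟨g, hg, hg1⟩ : ∃ g : GL ι F, g ∈ V ∧ g ≠ 1 := by
    obtain ⟨g, hg⟩ := (Subgroup.ne_bot_iff_exists_ne_one).1 hV
    exact ⟨g.1, g.2, fun e => hg (Subtype.ext e)⟩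
  have hne : (g : Matrix ι ι F) - 1 ≠ 0 := by
    intro h
    apply hg1
    apply Units.ext
    rw [Units.val_one]
    exact sub_eq_zero.1 h
  have : ∃ a b, ((g : Matrix ι ι F) - 1) a b ≠ 0 := by
    by_contra hcon
    simp only [not_exists, not_not] at hcon
    apply hne
    ext a b
    rw [hcon a b, Matrix.zero_apply]
  obtain ⟨a, b, hab⟩ := this
  exact ⟨(a, b), mem_suppV.2 ⟨g, hg, hab⟩⟩

/-- the largest `t` such that `V ≤ GrFil d t` (for `V ≠ ⊥`) -/
noncomputable def Mval (V : Subgroup (GL ι F)) (d : ι → ℝ) : ℝ :=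
  if h : (suppV V).Nonempty then (suppV V).inf' h (fun p => d p.1 - d p.2) else 0

theorem Mval_eq {V : Subgroup (GL ι F)} (hV : V ≠ ⊥) (d : ι → ℝ) :
    Mval V d = (suppV V).inf' (suppV_nonempty hV) (fun p => d p.1 - d p.2) := by
  unfold Mval
  rw [dif_pos (suppV_nonempty hV)]

theorem le_Mval_iff {V : Subgroup (GL ι F)} (hV : V ≠ ⊥) (d : ι → ℝ) {t : ℝ} (ht : 0 ≤ t) :
    V ≤ GrFil d t ↔ t ≤ Mval V d := by
  rw [Mval_eq hV, Finset.le_inf'_iff]
  constructor
  · intro h p hp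
    obtain ⟨g, hg, hne⟩ := mem_suppV.1 hp
    have := ((mem_GrFil ht).1 (h hg)).1 p.1 p.2 hne
    linarith
  · intro h g hg
    rw [mem_GrFil ht]
    refine ⟨fun a b hab => ?_, fun a b hab => ?_⟩
    · have := h (a, b) (mem_suppV.2 ⟨g, hg, hab⟩)
      simp only at this
      linarith
    · have := h (a, b) (mem_suppV.2 ⟨g⁻¹, Subgroup.inv_mem _ hg, hab⟩)
      simp only at this
      linarith

end Cfsg.Agent.Helper28.BT
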