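import Mathlib
import Cfsg.Agent.Helper28.BTGen
import Cfsg.Agent.Helper2.Levi.E

set_option autoImplicit false
set_option linter.unusedSectionVars false
set_option linter.unusedVariables false

/-!
# Borel–Tits (S2154): real gradings of the adjoint module of a tabulated Chevalley group

`μ : Fin D.rank → ℝ` is a real weight vector (coordinates on the fundamental coroots), the level of
the root `r` is `lev D μ r = Σ_i μ_i A_{p_i, r}`, and `degI D μ` is the induced grading of the
coordinate index set `D.Idx` (degree `0` on the Cartan part, `lev D μ s` on `e_s`).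
-/

namespace Cfsg.Agent.Helper28.BT

open Cfsg.Lie Cfsg.Agent.Helper6

/-- level of the root `r` -/
def lev (D : ChevalleyDatum) (μ : Fin D.rank → ℝ) (r : ℕ) : ℝ :=
  ∑ i : Fin D.rank, μ i * ((D.cartan i.val r : ℤ) : ℝ)

/-- the grading of the coordinates -/
def degI (D : ChevalleyDatum) (μ : Fin D.rank → ℝ) : D.Idx → ℝ
  | Sum.inl _ => 0
  | Sum.inr s => lev D μ s.val

/-- the `W`-invariant positive definite quadratic form `Σ_r lev(r)²` -/
def qf (D : ChevalleyDatum) (μ : Fin D.rank → ℝ) : ℝ :=
  ∑ r : Fin D.nroots, (lev D μ r.val) ^ 2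

/-- the weight vector reflected in the `i`-th fundamental root -/
def refl (D : ChevalleyDatum) (i : Fin D.rank) (μ : Fin D.rank → ℝ) : Fin D.rank → ℝ :=
  fun k => μ k - (if k = i then lev D μ (D.simple i.val) else 0)

/-- dominant weight vectors -/
def Dominant (D : ChevalleyDatum) (μ : Fin D.rank → ℝ) : Prop :=
  ∀ i : Fin D.rank, 0 ≤ lev D μ (D.simple i.val)

/-- the nodes on which a weight vector vanishes -/
def zeroSet (D : ChevalleyDatum) (μ : Fin D.rank → ℝ) : Set ℕ :=
  {i | ∃ h : i < D.rank, lev D μ (D.simple i) = 0}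

variable {D : ChevalleyDatum}

theorem lev_add (μ ν : Fin D.rank → ℝ) (r : ℕ) : lev D (μ + ν) r = lev D μ r + lev D ν r := by
  unfold lev
  rw [← Finset.sum_add_distrib]
  apply Finset.sum_congr rfl
  intro i _
  rw [Pi.add_apply]; ring

theorem lev_smul (c : ℝ) (μ : Fin D.rank → ℝ) (r : ℕ) : lev D (c • μ) r = c * lev D μ r := by
  unfold lev
  rw [Finset.mul_sum]
  apply Finset.sum_congr rfl
  intro i _
  rw [Pi.smul_apply, smul_eq_mul]; ring

theorem lev_zero (r : ℕ) : lev D (0 : Fin D.rank → ℝ) r = 0 := by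
  unfold lev
  apply Finset.sum_eq_zero
  intro i _
  rw [Pi.zero_apply, zero_mul]

theorem lev_sub (μ ν : Fin D.rank → ℝ) (r : ℕ) : lev D (μ - ν) r = lev D μ r - lev D ν r := by
  have e : μ - ν = μ + (-1 : ℝ) • ν := by
    ext k; simp only [Pi.sub_apply, Pi.add_apply, Pi.smul_apply, smul_eq_mul]; ring
  rw [e, lev_add, lev_smul]; ring

/-- linearity in the Cartan row of the root -/
theorem lev_lin (μ : Fin D.rank → ℝ) {q r s : ℕ} {a b : ℤ}
    (h : ∀ i < D.rank, D.cartan i q = a * D.cartan i r + b * D.cartan i s) :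
    lev D μ q = a * lev D μ r + b * lev D μ s := by
  unfold lev
  rw [Finset.mul_sum, Finset.mul_sum, ← Finset.sum_add_distrib]
  apply Finset.sum_congr rfl
  intro i _
  rw [h i.val i.isLt]; push_cast; ring

theorem degI_add (μ ν : Fin D.rank → ℝ) (a : D.Idx) :
    degI D (μ + ν) a = degI D μ a + degI D ν a := by
  rcases a with i | s
  · simp [degI]
  · simp only [degI]; exact lev_add μ ν _

theorem degI_smul (c : ℝ) (μ : Fin D.rank → ℝ) (a : D.Idx) :
    degI D (c • μ) a = c * degI D μ a := by
  rcases a with i | s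
  · simp [degI]
  · simp only [degI]; exact lev_smul c μ _

theorem degI_zero (a : D.Idx) : degI D (0 : Fin D.rank → ℝ) a = 0 := by
  rcases a with i | s
  · rfl
  · simp only [degI]; exact lev_zero _

theorem degI_mid (μ ν : Fin D.rank → ℝ) :
    degI D ((1 / 2 : ℝ) • (μ + ν)) = fun a => (degI D μ a + degI D ν a) / 2 := by
  ext a
  rw [degI_smul, degI_add]; ring

theorem qf_smul (c : ℝ) (μ : Fin D.rank → ℝ) : qf D (c • μ) = c ^ 2 * qf D μ := by
  unfold qf
  rw [Finset.mul_sum]
  apply Finset.sum_congr rfl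
  intro r _
  rw [lev_smul]; ring

theorem qf_nonneg (μ : Fin D.rank → ℝ) : 0 ≤ qf D μ := by
  unfold qf
  apply Finset.sum_nonneg
  intro r _
  positivity

/-- the parallelogram identity -/
theorem qf_mid (μ ν : Fin D.rank → ℝ) :
    qf D ((1 / 2 : ℝ) • (μ + ν)) + qf D ((1 / 2 : ℝ) • (μ - ν)) = (qf D μ + qf D ν) / 2 := by
  unfold qf
  rw [← Finset.sum_add_distrib, ← Finset.sum_add_distrib, Finset.sum_div]
  apply Finset.sum_congr rfl
  intro r _
  rw [lev_smul, lev_smul, lev_add, lev_sub]; ring

theorem continuous_lev (r : ℕ) : Continuous fun μ : Fin D.rank → ℝ => lev D μ r := by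
  unfold lev
  apply continuous_finsetSum
  intro i _
  exact (continuous_apply i).mul continuous_const

theorem continuous_degI (a : D.Idx) : Continuous fun μ : Fin D.rank → ℝ => degI D μ a := by
  rcases a with i | s
  · exact continuous_const
  · exact continuous_lev s.val

theorem continuous_qf : Continuous fun μ : Fin D.rank → ℝ => qf D μ := by
  unfold qf
  apply continuous_finsetSum
  intro r _
  exact (continuous_lev r.val).pow 2

end Cfsg.Agent.Helper28.BT
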