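import Mathlib

set_option autoImplicit false

/-! # S4701, piece CS2: in a perfect group a central Sylow subgroup is trivial (Burnside transfer) -/

namespace Cfsg.Agent.Helper28.S4701CS2

universe u

variable {G : Type u} [Group G]

/-- a homomorphism from a perfect group to a group in which all elements commute is trivial -/
theorem ker_eq_top_of_perfect {A : Type*} [Group A] (hA : ∀ x y : A, x * y = y * x)
    (hperf : commutator G = ⊤) (f : G →* A) : f.ker = ⊤ := by
  rw [eq_top_iff, ← hperf, commutator_def, Subgroup.commutator_le]
  intro a _ b _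
  rw [MonoidHom.mem_ker, map_commutatorElement, commutatorElement_def]
  rw [hA (f a) (f b)]
  group

end Cfsg.Agent.Helper28.S4701CS2

namespace Cfsg.Agent.S4701P

universe u

variable {G : Type u} [Group G] [Finite G]

/-- CS2 -/
theorem sylow_center_eq_bot (hperf : commutator G = ⊤) (p : ℕ) [Fact p.Prime] (S : Sylow p G)
    (hS : (S : Subgroup G) ≤ Subgroup.center G) : (S : Subgroup G) = ⊥ := by
  have hP : Subgroup.normalizer (S : Set G) ≤ Subgroup.centralizer (S : Set G) := by
    intro g _
    rw [Subgroup.mem_centralizer_iff]
    intro s hs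
    exact ((Subgroup.mem_center_iff.1 (hS hs)) g).symm
  have hcomm : ∀ a b : (S : Subgroup G), a * b = b * a := fun a b =>
    Subtype.ext ((Subgroup.mem_center_iff.1 (hS b.2)) a.1)
  have hker : (MonoidHom.transferSylow S hP).ker = ⊤ :=
    Cfsg.Agent.Helper28.S4701CS2.ker_eq_top_of_perfect hcomm hperf _
  have hc := MonoidHom.ker_transferSylow_isComplement' S hP
  rw [hker] at hc
  exact Subgroup.isComplement'_top_left.1 hc

end Cfsg.Agent.S4701P
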