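import Mathlib

/-!
# S4700 (Brauer–Reynolds): the arithmetic lemmas K1F–K4F

`FForm p n` : `n = F(p,u,h) = (h u p + u² + u + h)/(u + 1)` for some positive `h`, `u`.
With `e ∣ p - 1`, `t e = p - 1`, and `d ∣ e (1 + n p)`:
* K1F `d ≡ 1 (mod p)`, `d ≠ 1`  ⟹  `d = 1 + n p` or `FForm`;
* K2F `d = u p + e`, `u ≥ 1`  ⟹  `d = e (1 + n p)` or `FForm`;
* K3F `d + e = u p`, `d ≠ 1`  ⟹  `t d = 1 + n p ∧ u t = n + 1` or `FForm`;
* K4F `d + 1 = u p`, `u ≥ 2`  ⟹  `t = 1 ∧ d = e (1 + n p)` or `FForm`.
-/

set_option autoImplicit false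

namespace Cfsg.Agent.Helper28.S4700K

/-- `n = F(p,u,h)` for some positive integers `h`, `u`. -/
def FForm (p n : ℕ) : Prop :=
  ∃ h u : ℕ, 0 < h ∧ 0 < u ∧ n * (u + 1) = h * u * p + u ^ 2 + u + h

/-- core of K1F / K2F: the equation `a b p + a e + b = e n`. -/
theorem core_plus {p e n a b : ℕ} (he : e ∣ p - 1) (hp : 1 ≤ p) (he1 : 1 ≤ e) (ha : 1 ≤ a)
    (h : a * b * p + a * e + b = e * n) : (b = 0 ∧ a = n) ∨ FForm p n := by
  obtain ⟨k, hk⟩ := he
  have hpk : p = 1 + e * k := by omega
  rcases Nat.eq_zero_or_pos b with hb | hb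
  · left
    subst hb
    refine ⟨rfl, ?_⟩
    have : a * e = e * n := by simpa using h
    have h2 : e * a = e * n := by rw [mul_comm e a]; exact this
    exact Nat.eq_of_mul_eq_mul_left (by omega) h2
  · right
    -- e ∣ b (a + 1)
    have hdvd : e ∣ b * (a + 1) := by
      have h1 : b * (a + 1) + e * (a * b * k + a) = e * n := by
        rw [← h, hpk]; ring
      have h2 : e ∣ b * (a + 1) + e * (a * b * k + a) := by rw [h1]; exact dvd_mul_right _ _
      exact (Nat.dvd_add_left (dvd_mul_right _ _)).mp h2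
    obtain ⟨hh, hhh⟩ := hdvd
    have hhpos : 0 < hh := by
      rcases Nat.eq_zero_or_pos hh with h0 | h0
      · subst h0
        have : 0 < b * (a + 1) := Nat.mul_pos hb (by omega)
        omega
      · exact h0
    refine ⟨hh, a, hhpos, by omega, ?_⟩
    have key : e * (n * (a + 1)) = e * (hh * a * p + a ^ 2 + a + hh) := by
      zify at h hhh ⊢
      linear_combination (-(a + 1 : ℤ)) * h + ((a : ℤ) * p + 1) * hhh
    exact Nat.eq_of_mul_eq_mul_left (by omega) key

/-- core of K3F / K4F: the equation `a (b p - 1) = e (n + b)`, written additively. -/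
theorem core_minus {p e t n a b : ℕ} (het : t * e = p - 1) (hp : 2 ≤ p) (he1 : 1 ≤ e)
    (ha : 1 ≤ a) (hb : 1 ≤ b) (hta : 2 ≤ t * a ∨ b = 1)
    (h : a * b * p = e * (n + b) + a) : (b = 1 ∧ a * t = n + 1) ∨ FForm p n := by
  have hpt : p = 1 + t * e := by omega
  rcases Nat.lt_or_ge b 2 with hb2 | hb2
  · left
    have hb1 : b = 1 := by omega
    refine ⟨hb1, ?_⟩
    subst hb1
    have h1 : e * (a * t) = e * (n + 1) := by
      have : a * 1 * p = a + e * (a * t) := by rw [hpt]; ring
      omega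
    exact Nat.eq_of_mul_eq_mul_left (by omega) h1
  · right
    have hta2 : 2 ≤ t * a := by
      rcases hta with h | h
      · exact h
      · omega
    -- e ∣ a (b - 1)
    obtain ⟨c, hc⟩ : ∃ c, b = c + 1 := ⟨b - 1, by omega⟩
    have hdvd : e ∣ a * c := by
      have h1 : a * c + e * (a * b * t) = e * (n + b) := by
        have : a * b * p = a * b + e * (a * b * t) := by rw [hpt]; ring
        have h2 : a * b = a * c + a := by rw [hc]; ring
        omega
      have h2 : e ∣ a * c + e * (a * b * t) := by rw [h1]; exact dvd_mul_right _ _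
      exact (Nat.dvd_add_left (dvd_mul_right _ _)).mp h2
    obtain ⟨hh, hhh⟩ := hdvd
    have hcpos : 0 < c := by omega
    have hhpos : 0 < hh := by
      rcases Nat.eq_zero_or_pos hh with h0 | h0
      · subst h0
        have : 0 < a * c := Nat.mul_pos (by omega) hcpos
        omega
      · exact h0
    obtain ⟨U, hU⟩ : ∃ U, t * a = U + 1 := ⟨t * a - 1, by omega⟩
    refine ⟨hh, U, hhpos, by omega, ?_⟩
    have key : e * (n * (U + 1)) = e * (hh * U * p + U ^ 2 + U + hh) := by
      have hU' : (U : ℤ) = t * a - 1 := by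
        have : ((t * a : ℕ) : ℤ) = ((U + 1 : ℕ) : ℤ) := by rw [hU]
        push_cast at this
        linarith
      have hp' : (p : ℤ) = 1 + t * e := by exact_mod_cast hpt
      have hc' : (b : ℤ) = c + 1 := by exact_mod_cast hc
      have h' : (a : ℤ) * b * p = e * (n + b) + a := by exact_mod_cast h
      have hhh' : (a : ℤ) * (b - 1) = e * hh := by
        rw [hc']
        have : (a : ℤ) * c = e * hh := by exact_mod_cast hhh
        linear_combination this
      zify
      rw [hU']
      linear_combination (-((t : ℤ) * a)) * h' + ((t * a - 1 : ℤ) * p + 1) * hhh' +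
        ((a : ℤ) * b + a * (t * a - 1)) * hp'
    exact Nat.eq_of_mul_eq_mul_left (by omega) key


/-- `e ∣ p - 1`, `1 ≤ e`, `p` prime: `e < p` and `e` is prime to `p`. -/
theorem e_facts {p e : ℕ} (hp : p.Prime) (he : e ∣ p - 1) (he1 : 1 ≤ e) :
    e < p ∧ Nat.Coprime p e := by
  have h2 := hp.two_le
  have hle : e ≤ p - 1 := Nat.le_of_dvd (by omega) he
  have hlt : e < p := by omega
  refine ⟨hlt, ?_⟩
  rw [hp.coprime_iff_not_dvd]
  intro h
  have := Nat.le_of_dvd (by omega) h
  omega

/-- K1F -/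
theorem arith_K1F {p e n d : ℕ} (hp : p.Prime) (he : e ∣ p - 1) (he1 : 1 ≤ e)
    (hd : d ∣ e * (1 + n * p)) (hmod : d % p = 1) (hd1 : d ≠ 1) :
    d = 1 + n * p ∨ FForm p n := by
  have hp2 := hp.two_le
  obtain ⟨helt, hcop⟩ := e_facts hp he he1
  obtain ⟨d', hd'⟩ := hd
  -- d = u p + 1
  obtain ⟨u, hu⟩ : ∃ u, d = u * p + 1 := ⟨d / p, by
    have := Nat.div_add_mod d p
    rw [hmod] at this
    rw [mul_comm]; omega⟩
  have hu1 : 1 ≤ u := by
    rcases Nat.eq_zero_or_pos u with h | h
    · subst h; omega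
    · exact h
  -- d' = v p + e
  have hmod' : d' % p = e := by
    have h1 : (d * d') % p = (e * (1 + n * p)) % p := by rw [hd']
    rw [Nat.mul_mod, hmod, one_mul, Nat.mod_mod] at h1
    rw [h1]
    have : e * (1 + n * p) = e + (e * n) * p := by ring
    rw [this, Nat.add_mul_mod_self_right, Nat.mod_eq_of_lt helt]
  obtain ⟨v, hv⟩ : ∃ v, d' = v * p + e := ⟨d' / p, by
    have := Nat.div_add_mod d' p
    rw [hmod'] at this
    rw [mul_comm]; omega⟩
  have heq : u * v * p + u * e + v = e * n := by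
    have h1 : p * (u * v * p + u * e + v) = p * (e * n) := by
      have : e * (1 + n * p) = (u * p + 1) * (v * p + e) := by rw [hd', hu, hv]
      nlinarith [this]
    exact Nat.eq_of_mul_eq_mul_left (by omega) h1
  rcases core_plus he (by omega) he1 hu1 heq with ⟨-, h2⟩ | h
  · left
    rw [hu, h2]; ring
  · exact Or.inr h

/-- K2F -/
theorem arith_K2F {p e n d u : ℕ} (hp : p.Prime) (he : e ∣ p - 1) (he1 : 1 ≤ e)
    (hd : d ∣ e * (1 + n * p)) (hdu : d = u * p + e) (hu1 : 1 ≤ u) :
    d = e * (1 + n * p) ∨ FForm p n := by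
  have hp2 := hp.two_le
  obtain ⟨helt, hcop⟩ := e_facts hp he he1
  obtain ⟨d', hd'⟩ := hd
  -- d' ≡ 1
  have hmod' : d' % p = 1 := by
    have h1 : e * d' ≡ e * 1 [MOD p] := by
      have h2 : d * d' ≡ e * d' [MOD p] := by
        rw [hdu]
        have : (u * p + e) * d' = e * d' + (u * d') * p := by ring
        rw [this]
        exact Nat.add_mul_mod_self_right _ _ _
      have h3 : d * d' ≡ e * 1 [MOD p] := by
        rw [← hd']
        have : e * (1 + n * p) = e * 1 + (e * n) * p := by ring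
        rw [this]
        exact Nat.add_mul_mod_self_right _ _ _
      exact h2.symm.trans h3
    have h4 : d' ≡ 1 [MOD p] := Nat.ModEq.cancel_left_of_coprime hcop h1
    have h5 : d' % p = 1 % p := h4
    rw [h5, Nat.mod_eq_of_lt (by omega)]
  obtain ⟨w, hw⟩ : ∃ w, d' = w * p + 1 := ⟨d' / p, by
    have := Nat.div_add_mod d' p
    rw [hmod'] at this
    rw [mul_comm]; omega⟩
  have heq : w * u * p + w * e + u = e * n := by
    have h1 : p * (w * u * p + w * e + u) = p * (e * n) := by
      have : e * (1 + n * p) = (u * p + e) * (w * p + 1) := by rw [hd', hdu, hw]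
      nlinarith [this]
    exact Nat.eq_of_mul_eq_mul_left (by omega) h1
  rcases Nat.eq_zero_or_pos w with hw0 | hw0
  · left
    subst hw0
    have : u = e * n := by simpa using heq
    rw [hdu, this]; ring
  · rcases core_plus he (by omega) he1 hw0 heq with ⟨h1, -⟩ | h
    · omega
    · exact Or.inr h

/-- K3F -/
theorem arith_K3F {p e t n d u : ℕ} (hp : p.Prime) (het : t * e = p - 1) (he1 : 1 ≤ e)
    (hd : d ∣ e * (1 + n * p)) (hdu : d + e = u * p) (hd1 : d ≠ 1) :
    (t * d = 1 + n * p ∧ u * t = n + 1) ∨ FForm p n := by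
  have hp2 := hp.two_le
  have he : e ∣ p - 1 := ⟨t, by rw [← het]; ring⟩
  obtain ⟨helt, hcop⟩ := e_facts hp he he1
  have hpt : p = 1 + t * e := by omega
  have ht1 : 1 ≤ t := by
    rcases Nat.eq_zero_or_pos t with h | h
    · subst h; omega
    · exact h
  obtain ⟨d', hd'⟩ := hd
  have hu1 : 1 ≤ u := by
    rcases Nat.eq_zero_or_pos u with h | h
    · subst h; omega
    · exact h
  -- p ∣ d' + 1
  have hdvd : p ∣ d' + 1 := by
    have h1 : p ∣ e * (d' + 1) := by
      have h2 : e * (d' + 1) + (e * n) * p = u * p * d' := by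
        have : (d + e) * d' = u * p * d' := by rw [hdu]
        nlinarith [this, hd']
      have h3 : p ∣ e * (d' + 1) + (e * n) * p := by
        rw [h2]; exact ⟨u * d', by ring⟩
      exact (Nat.dvd_add_left (dvd_mul_left _ _)).mp h3
    exact (Nat.Coprime.dvd_mul_left hcop).mp h1
  obtain ⟨w, hw⟩ := hdvd
  have hw1 : 1 ≤ w := by
    rcases Nat.eq_zero_or_pos w with h | h
    · subst h; omega
    · exact h
  have heq : u * w * p = e * (n + w) + u := by
    have h1 : p * (u * w * p) = p * (e * (n + w) + u) := by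
      have h2 : (d + e) * (d' + 1) = u * p * (p * w) := by rw [hdu, hw]
      nlinarith [h2, hd', hdu]
    exact Nat.eq_of_mul_eq_mul_left (by omega) h1
  have hta : 2 ≤ t * u ∨ w = 1 := by
    by_contra hcon
    push Not at hcon
    have htu : t * u = 1 := by
      have : 1 ≤ t * u := Nat.mul_pos ht1 hu1
      omega
    have ht : t = 1 := Nat.eq_one_of_mul_eq_one_right htu
    have hu : u = 1 := Nat.eq_one_of_mul_eq_one_left htu
    subst ht hu
    omega
  rcases core_minus het hp2 he1 hu1 hw1 hta heq with ⟨hw1', hut⟩ | h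
  · left
    refine ⟨?_, hut⟩
    have h1 : t * (d + e) = t * (u * p) := by rw [hdu]
    have h2 : t * (u * p) = (n + 1) * p := by rw [← hut]; ring
    have h3 : t * d + t * e = (n + 1) * p := by rw [← h2, ← h1]; ring
    have h4 : (n + 1) * p = n * p + p := by ring
    omega
  · exact Or.inr h

/-- K4F -/
theorem arith_K4F {p e t n d u : ℕ} (hp : p.Prime) (het : t * e = p - 1) (he1 : 1 ≤ e)
    (hd : d ∣ e * (1 + n * p)) (hdu : d + 1 = u * p) (hu2 : 2 ≤ u) :
    (t = 1 ∧ d = e * (1 + n * p)) ∨ FForm p n := by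
  have hp2 := hp.two_le
  have he : e ∣ p - 1 := ⟨t, by rw [← het]; ring⟩
  obtain ⟨helt, hcop⟩ := e_facts hp he he1
  have hpt : p = 1 + t * e := by omega
  have ht1 : 1 ≤ t := by
    rcases Nat.eq_zero_or_pos t with h | h
    · subst h; omega
    · exact h
  obtain ⟨d', hd'⟩ := hd
  -- p ∣ d' + e
  have hdvd : p ∣ d' + e := by
    have h2 : (d' + e) + (e * n) * p = u * p * d' := by
      have : (d + 1) * d' = u * p * d' := by rw [hdu]
      nlinarith [this, hd']
    have h3 : p ∣ (d' + e) + (e * n) * p := by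
      rw [h2]; exact ⟨u * d', by ring⟩
    exact (Nat.dvd_add_left (dvd_mul_left _ _)).mp h3
  obtain ⟨v, hv⟩ := hdvd
  have hv1 : 1 ≤ v := by
    rcases Nat.eq_zero_or_pos v with h | h
    · subst h; omega
    · exact h
  have heq : v * u * p = e * (n + u) + v := by
    have h1 : p * (v * u * p) = p * (e * (n + u) + v) := by
      have h2 : (d + 1) * (d' + e) = u * p * (p * v) := by rw [hdu, hv]
      nlinarith [h2, hd', hdu]
    exact Nat.eq_of_mul_eq_mul_left (by omega) h1
  rcases Nat.lt_or_ge (t * v) 2 with htv | htv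
  · left
    have htv1 : t * v = 1 := by
      have : 1 ≤ t * v := Nat.mul_pos ht1 hv1
      omega
    have ht : t = 1 := Nat.eq_one_of_mul_eq_one_right htv1
    have hv' : v = 1 := Nat.eq_one_of_mul_eq_one_left htv1
    subst ht hv'
    refine ⟨rfl, ?_⟩
    have hd1 : d' = 1 := by omega
    rw [hd1, mul_one] at hd'
    exact hd'.symm
  · rcases core_minus het hp2 he1 hv1 (by omega) (Or.inl htv) heq with ⟨h1, -⟩ | h
    · omega
    · exact Or.inr h


/-- Part A: a proper factorisation `1 + n p = (1 + a p)(1 + k p)` gives the F-form. -/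
theorem fform_of_mul {p n a k : ℕ} (hp : 1 ≤ p) (ha : 1 ≤ a) (hk : 1 ≤ k)
    (h : 1 + n * p = (1 + a * p) * (1 + k * p)) : FForm p n := by
  have hn : n = a + k + a * k * p := by
    have h1 : p * n = p * (a + k + a * k * p) := by nlinarith [h]
    exact Nat.eq_of_mul_eq_mul_left (by omega) h1
  refine ⟨(a + 1) * k, a, Nat.mul_pos (by omega) (by omega), by omega, ?_⟩
  rw [hn]; ring

end Cfsg.Agent.Helper28.S4700K
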