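import Mathlib
import Cfsg.Agent.Helper28.S4701CS2

set_option autoImplicit false

/-! # S4701, piece CS1: a normal subgroup of prime order of a perfect group is central -/

namespace Cfsg.Agent.S4701P

universe u

variable {G : Type u} [Group G] [Finite G]

/-- CS1 -/
theorem normal_prime_le_center (hperf : commutator G = ⊤) (N : Subgroup G) [N.Normal]
    (p : ℕ) [Fact p.Prime] (hN : Nat.card N = p) : N ≤ Subgroup.center G := by
  have hcyc : IsCyclic N := isCyclic_of_prime_card hN
  have hcomm : ∀ x y : MulAut N, x * y = y * x := by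
    intro x y
    apply (IsCyclic.mulAutMulEquiv N).injective
    rw [map_mul, map_mul, mul_comm]
  have hker : (MulAut.conjNormal (H := N)).ker = ⊤ :=
    Cfsg.Agent.Helper28.S4701CS2.ker_eq_top_of_perfect hcomm hperf _
  intro x hx
  rw [Subgroup.mem_center_iff]
  intro g
  have hg : g ∈ (MulAut.conjNormal (H := N)).ker := by rw [hker]; exact Subgroup.mem_top g
  rw [MonoidHom.mem_ker] at hg
  have h1 := congrArg (fun f : MulAut N => ((f ⟨x, hx⟩ : N) : G)) hg
  simp only [MulAut.conjNormal_apply, MulAut.one_apply] at h1
  -- h1 : g * x * g⁻¹ = x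
  have h2 := congrArg (· * g) h1
  simpa using h2

end Cfsg.Agent.S4701P
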