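import Mathlib
import Cfsg.Prelude.Def_Solvable
import Cfsg.Prelude.Def_CaseTheorems
import Cfsg.Agent.Helper23.PSeries
import Cfsg.Agent.Helper28.S4700K
import Cfsg.Agent.Helper28.S4701CS1

/-!
# S4700 (Brauer–Reynolds), Part A: reduction modulo `H = O_{p'}(G)`

* `card_sylow_dvd_of_surjective`: for a surjective `f : G →* G'`, `|Syl_p(G')| ∣ |Syl_p(G)|`;
* `pPrimeCore_quotient_eq_bot`: `O_{p'}(G / O_{p'}(G)) = 1`;
* `commutator_quotient_eq_top`: quotients of perfect groups are perfect;
* `reduce`: if `|P| = p` and `|Syl_p(G)| = 1 + n p` then `n` has the F-form, or `G/H` has a Sylow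
  `p`-subgroup of order `p` and exactly `1 + n p` Sylow `p`-subgroups.
-/

set_option autoImplicit false

namespace Cfsg.Agent.Helper28.S4700A

open Cfsg Cfsg.Agent.Helper28.S4700K

universe u v

section

variable {G : Type u} [Group G] [Finite G] {G' : Type v} [Group G']

/-- the number of Sylow subgroups of a quotient divides the number of Sylow subgroups -/
theorem card_sylow_dvd_of_surjective (p : ℕ) [Fact p.Prime] {f : G →* G'}
    (hf : Function.Surjective f) : Nat.card (Sylow p G') ∣ Nat.card (Sylow p G) := by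
  have : Finite G' := Finite.of_surjective f hf
  obtain ⟨P⟩ : Nonempty (Sylow p G) := inferInstance
  rw [Sylow.card_eq_index_normalizer P, Sylow.card_eq_index_normalizer (P.mapSurjective hf),
    ← Subgroup.index_comap_of_surjective _ hf]
  apply Subgroup.index_dvd_of_le
  intro g hg
  rw [Subgroup.mem_comap]
  show f g ∈ Subgroup.normalizer (((P : Subgroup G).map f : Subgroup G') : Set G')
  rw [Subgroup.mem_normalizer_iff]
  have hg : g ∈ Subgroup.normalizer ((P : Subgroup G) : Set G) := hg
  rw [Subgroup.mem_normalizer_iff] at hg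
  intro h
  constructor
  · rintro ⟨x, hx, rfl⟩
    exact ⟨g * x * g⁻¹, (hg x).mp hx, by simp⟩
  · rintro ⟨y, hy, hy'⟩
    obtain ⟨x, rfl⟩ := hf h
    refine ⟨g⁻¹ * y * g, ?_, ?_⟩
    · have h1 : g * (g⁻¹ * y * g) * g⁻¹ = y := by group
      exact (hg (g⁻¹ * y * g)).mpr (by rw [h1]; exact hy)
    · simp only [map_mul, map_inv, hy']
      group

end

section

variable {G : Type u} [Group G] [Finite G]

/-- `O_{p'}(G / O_{p'}(G)) = 1` -/
theorem pPrimeCore_quotient_eq_bot (p : ℕ) [hp : Fact p.Prime] :
    pPrimeCore p (G ⧸ pPrimeCore p G) = ⊥ := by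
  set H := pPrimeCore p G with hH
  set T : Subgroup G := (pPrimeCore p (G ⧸ H)).comap (QuotientGroup.mk' H) with hT
  have hTn : T.Normal := (inferInstance : (pPrimeCore p (G ⧸ H)).Normal).comap _
  have hTcop : (Nat.card T).Coprime p := by
    rw [hT, Cfsg.Agent.Helper23.card_comap_mk']
    exact Nat.Coprime.mul_left (Cfsg.Agent.Helper23.pPrimeCore_card_coprime p G)
      (Cfsg.Agent.Helper23.pPrimeCore_card_coprime p (G ⧸ H))
  have hle : T ≤ H := le_sSup ⟨hTn, hTcop⟩
  rw [eq_bot_iff]
  intro x hx
  obtain ⟨g, rfl⟩ := QuotientGroup.mk'_surjective H x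
  have hg : g ∈ T := hx
  rw [Subgroup.mem_bot]
  exact (QuotientGroup.eq_one_iff g).mpr (hle hg)

omit [Finite G] in
/-- a quotient of a perfect group is perfect -/
theorem commutator_quotient_eq_top (hperf : commutator G = ⊤) (M : Subgroup G) [M.Normal] :
    commutator (G ⧸ M) = ⊤ := by
  have hsurj : Function.Surjective (QuotientGroup.mk' M) := QuotientGroup.mk'_surjective M
  have h2 : commutator (G ⧸ M) = (commutator G).map (QuotientGroup.mk' M) := by
    rw [commutator_def, commutator_def, Subgroup.map_commutator,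
      Subgroup.map_top_of_surjective _ hsurj]
  rw [h2, hperf, Subgroup.map_top_of_surjective _ hsurj]

/-- the image of a Sylow subgroup modulo a normal `p'`-subgroup has the same order -/
theorem card_mapSurjective_mk (p : ℕ) [hp : Fact p.Prime] (M : Subgroup G) [M.Normal]
    (hM : (Nat.card M).Coprime p) (P : Sylow p G) :
    Nat.card (P.mapSurjective (QuotientGroup.mk'_surjective M)) = Nat.card P := by
  have h1 : Nat.card (P.mapSurjective (QuotientGroup.mk'_surjective M)) =
      Nat.card ((P : Subgroup G).map (QuotientGroup.mk' M)) := rfl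
  rw [h1]
  set φ : ↥(P : Subgroup G) →* G ⧸ M := (QuotientGroup.mk' M).comp (P : Subgroup G).subtype with hφ
  have hcop : (Nat.card M).Coprime (Nat.card P) := by
    obtain ⟨k, hk⟩ := (IsPGroup.iff_card.mp P.isPGroup')
    rw [hk]
    exact Nat.Coprime.pow_right k hM
  have hinj : Function.Injective φ := by
    rw [injective_iff_map_eq_one]
    intro x hx
    have hxM : (x : G) ∈ M := by
      have : (QuotientGroup.mk' M) (x : G) = 1 := hx
      exact (QuotientGroup.eq_one_iff _).mp this
    have h2 : orderOf (x : G) ∣ Nat.card M := by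
      have := orderOf_dvd_natCard (⟨(x : G), hxM⟩ : M)
      rwa [Subgroup.orderOf_mk] at this
    have h3 : orderOf (x : G) ∣ Nat.card P := by
      have := orderOf_dvd_natCard x
      rwa [Subgroup.orderOf_coe]
    have h4 : orderOf (x : G) = 1 := Nat.eq_one_of_dvd_coprimes hcop h2 h3
    have h5 : (x : G) = 1 := orderOf_eq_one_iff.mp h4
    exact Subtype.ext h5
  have hrange : φ.range = (P : Subgroup G).map (QuotientGroup.mk' M) := by
    rw [hφ, MonoidHom.range_comp, Subgroup.range_subtype]
  rw [← hrange]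
  exact (Nat.card_congr (MonoidHom.ofInjective hinj).toEquiv).symm

/-- in a perfect group a Sylow subgroup of order `p` is not normal: `|Syl_p| ≠ 1` -/
theorem card_sylow_ne_one (hperf : commutator G = ⊤) (p : ℕ) [hp : Fact p.Prime] (P : Sylow p G)
    (hP : Nat.card P = p) : Nat.card (Sylow p G) ≠ 1 := by
  intro h1
  have hsub : Subsingleton (Sylow p G) := (Nat.card_eq_one_iff_unique.mp h1).1
  have hnorm : (P : Subgroup G).Normal := Sylow.normal_of_subsingleton P
  have hc := Cfsg.Agent.S4701P.normal_prime_le_center hperf (P : Subgroup G) p hP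
  have hb := Cfsg.Agent.S4701P.sylow_center_eq_bot hperf p P hc
  have : Nat.card (P : Subgroup G) = 1 := by rw [hb]; exact Subgroup.card_bot
  have hp2 := hp.out.two_le
  have hP' : Nat.card (P : Subgroup G) = p := hP
  omega

/-- Part A: reduction modulo `O_{p'}(G)` -/
theorem reduce (hperf : commutator G = ⊤) (p : ℕ) [hp : Fact p.Prime] (P : Sylow p G)
    (hP : Nat.card P = p) (n : ℕ) (hn : Nat.card (Sylow p G) = 1 + n * p) :
    FForm p n ∨ (∃ Q : Sylow p (G ⧸ pPrimeCore p G), Nat.card Q = p ∧
      Nat.card (Sylow p (G ⧸ pPrimeCore p G)) = 1 + n * p) := by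
  have hp2 := hp.out.two_le
  set H := pPrimeCore p G with hH
  have hsurj := QuotientGroup.mk'_surjective H
  set Q : Sylow p (G ⧸ H) := P.mapSurjective hsurj with hQ
  have hQcard : Nat.card Q = p := by
    rw [hQ, card_mapSurjective_mk p H (Cfsg.Agent.Helper23.pPrimeCore_card_coprime p G) P, hP]
  have hperfQ : commutator (G ⧸ H) = ⊤ := commutator_quotient_eq_top hperf H
  have hne1 : Nat.card (Sylow p (G ⧸ H)) ≠ 1 := card_sylow_ne_one hperfQ p Q hQcard
  have hmod : Nat.card (Sylow p (G ⧸ H)) ≡ 1 [MOD p] := card_sylow_modEq_one p (G ⧸ H)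
  obtain ⟨k, hk⟩ : Nat.card (Sylow p (G ⧸ H)) ∣ Nat.card (Sylow p G) :=
    card_sylow_dvd_of_surjective p hsurj
  set m := Nat.card (Sylow p (G ⧸ H)) with hm
  -- m = 1 + a p
  have hmpos : 0 < m := Nat.card_pos
  obtain ⟨a, ha⟩ : ∃ a, m = 1 + a * p := by
    have h1 : m % p = 1 := by
      have : m % p = 1 % p := hmod
      rwa [Nat.mod_eq_of_lt (show 1 < p by omega)] at this
    refine ⟨m / p, ?_⟩
    have := Nat.div_add_mod m p
    rw [h1] at this
    rw [mul_comm]; omega
  have ha1 : 1 ≤ a := by
    rcases Nat.eq_zero_or_pos a with h | h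
    · subst h; omega
    · exact h
  -- k ≡ 1
  have hkmod : k % p = 1 := by
    have h1 : (m * k) % p = 1 := by
      rw [← hk, hn, Nat.add_mul_mod_self_right, Nat.mod_eq_of_lt (show 1 < p by omega)]
    rw [ha, Nat.mul_mod, Nat.add_mul_mod_self_right, Nat.mod_eq_of_lt (by omega : 1 < p), one_mul,
      Nat.mod_mod] at h1
    exact h1
  obtain ⟨k', hk'⟩ : ∃ k', k = 1 + k' * p := by
    refine ⟨k / p, ?_⟩
    have := Nat.div_add_mod k p
    rw [hkmod] at this
    rw [mul_comm]; omega
  rcases Nat.eq_zero_or_pos k' with h0 | h0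
  · right
    refine ⟨Q, hQcard, ?_⟩
    subst h0
    rw [hk', zero_mul, add_zero, mul_one] at hk
    rw [← hk, hn]
  · left
    apply fform_of_mul (by omega) ha1 h0
    rw [← hn, hk, ha, hk']

end

end Cfsg.Agent.Helper28.S4700A
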