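import Mathlib
import Cfsg.Agent.Helper28.S4700K

/-!
# S4700 (Brauer–Reynolds): the degree arithmetic in the principal block when all non-trivial
degrees are at least `p` (the case `C_G(P) ≠ P`, `O_{p'}(G) = 1`)

* `arith_coreF`: at least two exceptional characters (`t ≥ 2`);
* `arith_coreF_one`: `f = p - 1` (all `p` characters of the block behave non-exceptionally).
In both cases the conclusion is the F-form of `n`.
-/

set_option autoImplicit false

namespace Cfsg.Agent.Helper28.S4700AM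

open Cfsg.Agent.Helper28.S4700K

theorem mod_one {p d : ℕ} (hp2 : 2 ≤ p) (h : (d : ℤ) ≡ 1 [ZMOD p]) : d % p = 1 := by
  have h1 : (d : ℤ) % p = 1 % p := h
  have h2 : (1 : ℤ) % p = 1 := Int.emod_eq_of_lt (by omega) (by omega)
  rw [h2] at h1
  have h3 : ((d % p : ℕ) : ℤ) = 1 := by rw [Int.natCast_mod]; exact h1
  exact_mod_cast h3

theorem mod_neg_one {p d : ℕ} (h : (d : ℤ) ≡ -1 [ZMOD p]) : ∃ u : ℕ, d + 1 = u * p := by
  have h1 : (p : ℤ) ∣ (d : ℤ) - (-1) := (Int.modEq_iff_dvd.mp h.symm)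
  have h2 : (p : ℤ) ∣ ((d + 1 : ℕ) : ℤ) := by
    push_cast
    have : (d : ℤ) - (-1) = d + 1 := by ring
    rwa [this] at h1
  obtain ⟨u, hu⟩ := Int.natCast_dvd_natCast.mp h2
  exact ⟨u, by rw [hu, mul_comm]⟩

theorem mod_pos {p d f : ℕ} (hfp : f < p) (hd : p ≤ d) (h : (d : ℤ) ≡ (f : ℤ) [ZMOD p]) :
    ∃ u : ℕ, 1 ≤ u ∧ d = u * p + f := by
  have h1 : (p : ℤ) ∣ (d : ℤ) - f := (Int.modEq_iff_dvd.mp h.symm)
  have h2 : (p : ℤ) ∣ ((d - f : ℕ) : ℤ) := by
    rw [Nat.cast_sub (by omega)]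
    exact h1
  obtain ⟨u, hu⟩ := Int.natCast_dvd_natCast.mp h2
  refine ⟨u, ?_, ?_⟩
  · rcases Nat.eq_zero_or_pos u with h0 | h0
    · subst h0; omega
    · exact h0
  · have : d - f = u * p := by rw [hu, mul_comm]
    omega

theorem mod_neg {p d f : ℕ} (h : (d : ℤ) ≡ -(f : ℤ) [ZMOD p]) : ∃ u : ℕ, d + f = u * p := by
  have h1 : (p : ℤ) ∣ (d : ℤ) - (-(f : ℤ)) := (Int.modEq_iff_dvd.mp h.symm)
  have h2 : (p : ℤ) ∣ ((d + f : ℕ) : ℤ) := by
    push_cast
    have : (d : ℤ) - (-(f : ℤ)) = d + f := by ring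
    rwa [this] at h1
  obtain ⟨u, hu⟩ := Int.natCast_dvd_natCast.mp h2
  exact ⟨u, by rw [hu, mul_comm]⟩

/-- the degree arithmetic, at least two exceptional characters -/
theorem arith_coreF {ι : Type*} {p f t n : ℕ} (hp : p.Prime) (htf : t * f = p - 1) (ht2 : 2 ≤ t)
    (hf1 : 1 ≤ f) (hn : 1 ≤ n)
    (X Y : Finset ι) (deg : ι → ℕ) (δ : ι → ℤ) (ε : ℤ) (o : ι)
    (hε : ε = 1 ∨ ε = -1) (hX : X.card = f) (hY : Y.Nonempty)
    (ho : o ∈ X) (hδo : δ o = 1) (hdo : deg o = 1)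
    (hδ : ∀ i ∈ X, δ i = 1 ∨ δ i = -1)
    (hdX : ∀ i ∈ X, (deg i : ℤ) ≡ δ i [ZMOD p])
    (hdY : ∀ j ∈ Y, (deg j : ℤ) ≡ ε * (f : ℤ) [ZMOD p])
    (hrel : ∀ j ∈ Y, ∑ i ∈ X, δ i * (deg i : ℤ) = ε * (deg j : ℤ))
    (hdvd : ∀ i, i ∈ X ∨ i ∈ Y → deg i ∣ f * (1 + n * p))
    (hbigX : ∀ i ∈ X, i ≠ o → p ≤ deg i) (hbigY : ∀ j ∈ Y, p ≤ deg j) : FForm p n := by
  classical
  by_contra hF
  have hp2 := hp.two_le
  have hfd : f ∣ p - 1 := ⟨t, by rw [← htf]; ring⟩
  have hfp : f < p := by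
    have : f ≤ p - 1 := Nat.le_of_dvd (by omega) hfd
    omega
  obtain ⟨j, hj⟩ := hY
  -- the non-trivial members of `X`
  have hXi : ∀ i ∈ X.erase o, δ i * (deg i : ℤ) = ((1 + n * p : ℕ) : ℤ) := by
    intro i hi
    have hiX : i ∈ X := Finset.mem_of_mem_erase hi
    have hio : i ≠ o := Finset.ne_of_mem_erase hi
    have hpi := hbigX i hiX hio
    rcases hδ i hiX with h | h
    · have hmodi : (deg i : ℤ) ≡ 1 [ZMOD p] := by
        have := hdX i hiX
        rwa [h] at this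
      rcases arith_K1F hp hfd hf1 (hdvd i (Or.inl hiX)) (mod_one hp2 hmodi) (by omega) with h1 | h1
      · rw [h, one_mul, h1]
      · exact absurd h1 hF
    · exfalso
      have hmodi : (deg i : ℤ) ≡ -1 [ZMOD p] := by
        have := hdX i hiX
        rwa [h] at this
      obtain ⟨u, hu⟩ := mod_neg_one hmodi
      have hu2 : 2 ≤ u := by
        by_contra hlt
        have : u ≤ 1 := by omega
        have : u * p ≤ 1 * p := Nat.mul_le_mul_right p this
        omega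
      rcases arith_K4F hp htf hf1 (hdvd i (Or.inl hiX)) hu hu2 with ⟨h1, -⟩ | h1
      · omega
      · exact hF h1
  have hsum : ∑ i ∈ X, δ i * (deg i : ℤ) = 1 + ((f : ℤ) - 1) * ((1 + n * p : ℕ) : ℤ) := by
    rw [← Finset.add_sum_erase X _ ho, hδo, hdo, Finset.sum_congr rfl hXi, Finset.sum_const,
      Finset.card_erase_of_mem ho, hX, nsmul_eq_mul, Nat.cast_sub hf1]
    norm_num
  have hr := hrel j hj
  rw [hsum] at hr
  have hpj := hbigY j hj
  rcases hε with rfl | rfl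
  · have hmodj : (deg j : ℤ) ≡ (f : ℤ) [ZMOD p] := by
      have := hdY j hj
      rwa [one_mul] at this
    obtain ⟨u, hu1, hu⟩ := mod_pos hfp hpj hmodj
    rcases arith_K2F hp hfd hf1 (hdvd j (Or.inr hj)) hu hu1 with h1 | h1
    · rw [h1] at hr
      push_cast at hr
      have h2 : (n : ℤ) * p = 0 := by linarith
      have h3 : 0 < (n : ℤ) * p := by positivity
      omega
    · exact hF h1
  · have h1 : (0 : ℤ) ≤ ((f : ℤ) - 1) * ((1 + n * p : ℕ) : ℤ) := by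
      apply mul_nonneg
      · have : (1 : ℤ) ≤ f := by exact_mod_cast hf1
        linarith
      · positivity
    have h2 : (0 : ℤ) ≤ (deg j : ℤ) := by positivity
    linarith

/-- the degree arithmetic, `f = p - 1` -/
theorem arith_coreF_one {ι : Type*} {p n : ℕ} (hp : p.Prime) (hn : 1 ≤ n)
    (S : Finset ι) (deg : ι → ℕ) (s : ι → ℤ)
    (hs : ∀ i ∈ S, s i = 1 ∨ s i = -1)
    (hd : ∀ i ∈ S, (deg i : ℤ) ≡ s i [ZMOD p])
    (hrel : 1 + ∑ i ∈ S, s i * (deg i : ℤ) = 0)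
    (hdvd : ∀ i ∈ S, deg i ∣ (p - 1) * (1 + n * p))
    (hbig : ∀ i ∈ S, p ≤ deg i) : FForm p n := by
  classical
  by_contra hF
  have hp2 := hp.two_le
  have hfd : (p - 1) ∣ p - 1 := dvd_rfl
  have htf : 1 * (p - 1) = p - 1 := one_mul _
  have hf1 : 1 ≤ p - 1 := by omega
  have hterm : ∀ i ∈ S, ((1 + n * p : ℕ) : ℤ) ∣ s i * (deg i : ℤ) := by
    intro i hi
    rcases hs i hi with h | h
    · have hmodi : (deg i : ℤ) ≡ 1 [ZMOD p] := by
        have := hd i hi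
        rwa [h] at this
      have hpi := hbig i hi
      rcases arith_K1F hp hfd hf1 (hdvd i hi) (mod_one hp2 hmodi) (by omega) with h1 | h1
      · rw [h, one_mul, h1]
      · exact absurd h1 hF
    · have hmodi : (deg i : ℤ) ≡ -1 [ZMOD p] := by
        have := hd i hi
        rwa [h] at this
      obtain ⟨u, hu⟩ := mod_neg_one hmodi
      have hpi := hbig i hi
      have hu2 : 2 ≤ u := by
        by_contra hlt
        have : u ≤ 1 := by omega
        have : u * p ≤ 1 * p := Nat.mul_le_mul_right p this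
        omega
      rcases arith_K4F hp htf hf1 (hdvd i hi) hu hu2 with ⟨-, h1⟩ | h1
      · rw [h, h1]
        push_cast
        exact ⟨-((p : ℤ) - 1), by
          have : ((p - 1 : ℕ) : ℤ) = (p : ℤ) - 1 := by
            rw [Nat.cast_sub (by omega)]; norm_num
          rw [this]; ring⟩
      · exact absurd h1 hF
  have hsumdvd : ((1 + n * p : ℕ) : ℤ) ∣ ∑ i ∈ S, s i * (deg i : ℤ) :=
    Finset.dvd_sum hterm
  have h1 : ((1 + n * p : ℕ) : ℤ) ∣ 1 := by
    have h2 : (1 : ℤ) = -(∑ i ∈ S, s i * (deg i : ℤ)) := by linarith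
    rw [h2]
    exact (dvd_neg).mpr hsumdvd
  have h3 : (1 + n * p : ℕ) ∣ 1 := by exact_mod_cast h1
  have h4 := Nat.le_of_dvd (by omega) h3
  have h5 : 1 ≤ n * p := Nat.mul_pos (by omega) (by omega)
  omega

end Cfsg.Agent.Helper28.S4700AM
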