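import Mathlib
import Cfsg.Agent.Helper1.S4503Defs
import Cfsg.Agent.Helper5.S4503PREG
import Cfsg.Agent.Helper23.S4503ORB
import Cfsg.Agent.Helper23.S4503SHIFT
import Cfsg.Agent.Helper1.D1PA

/-!
# S4700: values on `P ∖ 1` of the characters of the principal block (Sylow subgroup of order `p`)

From the expansion `χ(c) = Σ_{ν NT} d_ν ν(c)` (`c ∈ C_G(P)` `p`-singular; `S4503P.val_of_dnum_zero`):
* `value_of_const`: if all `d_ν = w` then `χ(c) = -w`;
* `sum_sylow_of_val`: `Σ_{y ∈ P} χ(y) = χ(1) - Σ_{ν NT} d_ν`.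
-/

set_option autoImplicit false

namespace Cfsg.Agent.Helper28.S4700VAL

open Cfsg Cfsg.Agent.Helper24 Cfsg.Agent.Helper8.D1 Cfsg.Agent.S4705P Cfsg.Agent.S4503P
open Cfsg.Agent.Helper23.S4503ORB Cfsg.Agent.Helper23.S4503SHIFT

universe u

variable {G : Type u} [Group G] [Finite G]

/-- the sum of the non-trivial `p`-linear functions at a `p`-singular element of `C_G(P)` is `-1` -/
theorem sum_NT_singular (p : ℕ) [Fact p.Prime] (P : Sylow p G) (hP : Nat.card P = p)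
    (c : Subgroup.centralizer ((P : Subgroup G) : Set G)) (hc : p ∣ orderOf (c : G)) :
    ∑ᶠ ν ∈ {ν : Subgroup.centralizer ((P : Subgroup G) : Set G) → ℂ | NT p ν}, ν c = -1 := by
  classical
  have hfin := finite_isPLin p P hP
  have : Fintype (Cfsg.Agent.Helper11.D1QC.Lty p (P : Subgroup G)) := hfin.fintype
  have h0 := Cfsg.Agent.Helper5.S4503PREG.sum_pLin_singular p P hP c hc
  have h1 : ∑ ν : Cfsg.Agent.Helper11.D1QC.Lty p (P : Subgroup G), ν.1 c =
      ∑ᶠ ν ∈ {ν : Subgroup.centralizer ((P : Subgroup G) : Set G) → ℂ | IsPLin p ν}, ν c := by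
    rw [← finsum_set_coe_eq_finsum_mem]
    exact (finsum_eq_sum_of_fintype _).symm
  rw [h1, isPLin_set_eq, finsum_mem_insert _ (one_not_NT p _) (finite_NT' p P hP)] at h0
  linear_combination h0

/-- a non-trivial `p`-linear function sums to zero over `P` -/
theorem sum_sylow_NT (p : ℕ) [Fact p.Prime] (P : Sylow p G) (hP : Nat.card P = p)
    [Fintype ↥(P : Subgroup G)]
    (ν : Subgroup.centralizer ((P : Subgroup G) : Set G) → ℂ) (hν : NT p ν) :
    ∑ y : ↥(P : Subgroup G), ν ⟨(y : G), Cfsg.Agent.Helper1.D1PA.le_centralizer P hP y.2⟩ = 0 := by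
  classical
  have hp : p.Prime := Fact.out
  have hPC := Cfsg.Agent.Helper1.D1PA.le_centralizer P hP
  obtain ⟨hZ, hZc, hZi⟩ := Cfsg.Agent.Helper18.D1QO.subgroupOf_facts P hP
  -- a non-trivial element of `P`
  obtain ⟨u, hu⟩ : ∃ u : ↥(P : Subgroup G), u ≠ 1 := by
    have h1 : 1 < Nat.card ↥(P : Subgroup G) := by
      have : Nat.card ↥(P : Subgroup G) = p := hP
      rw [this]; exact hp.one_lt
    have : Nontrivial ↥(P : Subgroup G) := (Finite.one_lt_card_iff_nontrivial).mp h1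
    exact exists_ne 1
  have hu' : ν ⟨(u : G), hPC u.2⟩ ≠ 1 := by
    apply Cfsg.Agent.Helper11.D1QL.pLin_apply_ne_one _ hZ hZc hZi hν.1 hν.2
    · rw [Subgroup.mem_subgroupOf]; exact u.2
    · intro h
      apply hu
      have := congrArg (fun z : Subgroup.centralizer ((P : Subgroup G) : Set G) => (z : G)) h
      exact Subtype.ext this
  have hperm : ∑ y : ↥(P : Subgroup G), ν ⟨(y : G), hPC y.2⟩ =
      ν ⟨(u : G), hPC u.2⟩ * ∑ y : ↥(P : Subgroup G), ν ⟨(y : G), hPC y.2⟩ := by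
    rw [Finset.mul_sum]
    refine (Fintype.sum_equiv (Equiv.mulLeft u) _ _ ?_).symm
    intro y
    rw [← hν.1.mul]
    rfl
  have h0 : (1 - ν ⟨(u : G), hPC u.2⟩) * ∑ y : ↥(P : Subgroup G), ν ⟨(y : G), hPC y.2⟩ = 0 := by
    rw [sub_mul, one_mul, ← hperm, sub_self]
  rcases mul_eq_zero.mp h0 with h | h
  · exact absurd (sub_eq_zero.mp h).symm hu'
  · exact h

omit [Finite G] in
/-- an element `≠ 1` of `P` is `p`-singular -/
theorem dvd_orderOf_of_mem (p : ℕ) [Fact p.Prime] (P : Sylow p G) (hP : Nat.card P = p)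
    (y : G) (hy : y ∈ (P : Subgroup G)) (hy1 : y ≠ 1) : p ∣ orderOf y := by
  have hp : p.Prime := Fact.out
  have h1 : orderOf (⟨y, hy⟩ : ↥(P : Subgroup G)) ∣ p := by
    have := orderOf_dvd_natCard (⟨y, hy⟩ : ↥(P : Subgroup G))
    rwa [show Nat.card ↥(P : Subgroup G) = p from hP] at this
  rw [Subgroup.orderOf_mk] at h1
  rcases (Nat.dvd_prime hp).mp h1 with h | h
  · exact absurd (orderOf_eq_one_iff.mp h) hy1
  · rw [h]

/-- constant `d_ν = w`: the value at a `p`-singular element is `-w` -/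
theorem value_of_const (p : ℕ) [Fact p.Prime] (P : Sylow p G) (hP : Nat.card P = p)
    (χ : G → ℂ) (d : (Subgroup.centralizer ((P : Subgroup G) : Set G) → ℂ) → ℤ) (w : ℤ)
    (hd : ∀ ν, NT p ν → d ν = w)
    (c : Subgroup.centralizer ((P : Subgroup G) : Set G)) (hc : p ∣ orderOf (c : G))
    (hval : χ c = ∑ᶠ ν ∈ {ν : Subgroup.centralizer ((P : Subgroup G) : Set G) → ℂ | NT p ν},
      ((d ν : ℤ) : ℂ) * ν c) : χ c = -(w : ℂ) := by
  rw [hval]
  have h1 : ∑ᶠ ν ∈ {ν : Subgroup.centralizer ((P : Subgroup G) : Set G) → ℂ | NT p ν},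
      ((d ν : ℤ) : ℂ) * ν c =
      ∑ᶠ ν ∈ {ν : Subgroup.centralizer ((P : Subgroup G) : Set G) → ℂ | NT p ν},
        (w : ℂ) * ν c := by
    refine finsum_mem_congr rfl ?_
    intro ν hν
    rw [hd ν hν]
  rw [h1, ← mul_finsum_mem, sum_NT_singular p P hP c hc]
  ring

/-- the sum over `P` in terms of the `d_ν` -/
theorem sum_sylow_of_val (p : ℕ) [Fact p.Prime] (P : Sylow p G) (hP : Nat.card P = p)
    (χ : G → ℂ) (d : (Subgroup.centralizer ((P : Subgroup G) : Set G) → ℂ) → ℤ)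
    (hval : ∀ c : Subgroup.centralizer ((P : Subgroup G) : Set G), p ∣ orderOf (c : G) →
      χ c = ∑ᶠ ν ∈ {ν : Subgroup.centralizer ((P : Subgroup G) : Set G) → ℂ | NT p ν},
        ((d ν : ℤ) : ℂ) * ν c) :
    ∑ᶠ y : ↥(P : Subgroup G), χ (y : G) = χ 1 -
      ((∑ᶠ ν ∈ {ν : Subgroup.centralizer ((P : Subgroup G) : Set G) → ℂ | NT p ν}, d ν : ℤ) : ℂ) := by
  classical
  have hPC := Cfsg.Agent.Helper1.D1PA.le_centralizer P hP
  have : Fintype ↥(P : Subgroup G) := Fintype.ofFinite _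
  have hNT := finite_NT' p P hP
  rw [finsum_eq_sum_of_fintype]
  -- split off `y = 1`
  have hsplit : ∑ y : ↥(P : Subgroup G), χ (y : G) =
      χ 1 + ∑ y ∈ (Finset.univ.erase (1 : ↥(P : Subgroup G))), χ (y : G) := by
    rw [← Finset.add_sum_erase Finset.univ _ (Finset.mem_univ (1 : ↥(P : Subgroup G)))]
    rfl
  rw [hsplit]
  have h1 : ∀ y ∈ (Finset.univ.erase (1 : ↥(P : Subgroup G))), χ (y : G) =
      ∑ ν ∈ hNT.toFinset, ((d ν : ℤ) : ℂ) * ν ⟨(y : G), hPC y.2⟩ := by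
    intro y hy
    have hy1 : (y : G) ≠ 1 := by
      intro h
      exact (Finset.ne_of_mem_erase hy) (Subtype.ext h)
    have := hval ⟨(y : G), hPC y.2⟩ (dvd_orderOf_of_mem p P hP (y : G) y.2 hy1)
    rw [finsum_mem_eq_finite_toFinset_sum _ hNT] at this
    exact this
  rw [Finset.sum_congr rfl h1, Finset.sum_comm]
  have h2 : ∀ ν ∈ hNT.toFinset, ∑ y ∈ (Finset.univ.erase (1 : ↥(P : Subgroup G))),
      ((d ν : ℤ) : ℂ) * ν ⟨(y : G), hPC y.2⟩ = -((d ν : ℤ) : ℂ) := by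
    intro ν hν
    have hν' : NT p ν := (Set.Finite.mem_toFinset hNT).mp hν
    rw [← Finset.mul_sum]
    have h3 := sum_sylow_NT p P hP ν hν'
    rw [← Finset.add_sum_erase Finset.univ _ (Finset.mem_univ (1 : ↥(P : Subgroup G)))] at h3
    have h4 : ν ⟨((1 : ↥(P : Subgroup G)) : G), hPC (1 : ↥(P : Subgroup G)).2⟩ = 1 := hν'.1.one
    rw [h4] at h3
    have h5 : ∑ y ∈ (Finset.univ.erase (1 : ↥(P : Subgroup G))), ν ⟨(y : G), hPC y.2⟩ = -1 := by
      linear_combination h3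
    rw [h5]; ring
  rw [Finset.sum_congr rfl h2, finsum_mem_eq_finite_toFinset_sum _ hNT]
  push_cast
  rw [Finset.sum_neg_distrib]
  ring

end Cfsg.Agent.Helper28.S4700VAL
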