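import Mathlib
import Cfsg.Agent.Helper5.S0999Defs
import Cfsg.Agent.Helper5.S0999B0X
import Cfsg.Agent.Helper5.S0999DEGP
import Cfsg.Agent.Helper20.S4503PSIANb
import Cfsg.Agent.Helper8.S4503FZ
import Cfsg.Agent.Helper8.S4503VAL
import Cfsg.Agent.Helper23.S4503ORB
import Cfsg.Agent.Helper23.S4503LIN
import Cfsg.Agent.Helper5.CentralChar
import Cfsg.Agent.Helper24.BrauerCong
import Cfsg.Agent.Helper1.D1PA
import Cfsg.Agent.S0936
import Cfsg.Agent.Helper28.S4700VAL
import Cfsg.Agent.Helper28.S4700INT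

/-!
# S4700: the principal block of a group with a Sylow subgroup of order `p`, any centraliser, any
inertial index: degrees modulo `p`, the degree relation, "kernel or degree ≥ p", and the
divisibility of the degrees by `|G : C_G(P)|`

`B0Master p P` is `S0999P.B0Full` without the restriction `f ≠ p - 1` (when `f = p - 1` the trivial
character may be the unique exceptional character) plus the divisibility facts
`χ(1) ∣ |G : C_G(P)|` (`χ` non-exceptional) and `ψ(1) ∣ |Syl_p(G)| · f` (`ψ` exceptional).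
-/

set_option autoImplicit false
set_option maxHeartbeats 1000000

namespace Cfsg.Agent.Helper28.S4700B0

open Cfsg Cfsg.Agent.Helper24 Cfsg.Agent.Helper8.D1 Cfsg.Agent.S4705P Cfsg.Agent.Helper8.W2p
  Cfsg.Agent.Helper20.S4705BLK Cfsg.Agent.Helper20.S4503PSIAN Cfsg.Agent.Helper5 Cfsg.Agent.Helper5.D1Q
  Cfsg.Agent.Helper5.Loc Cfsg.Agent.Helper5.CC Cfsg.Agent.S4503P Cfsg.Agent.S0999P
  Cfsg.Agent.Helper5.S0999B0X
open scoped ComplexConjugate

universe u

variable {G : Type u} [Group G] [Finite G]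

/-- The principal block of a group with a Sylow subgroup of order `p`. -/
structure B0Master (p : ℕ) (P : Sylow p G) where
  X : Finset (IrrCharacter G)
  Y : Finset (IrrCharacter G)
  δ : IrrCharacter G → ℤ
  ε : ℤ
  hε : ε = 1 ∨ ε = -1
  card_X : X.card = fN (P : Subgroup G)
  card_Y : Y.card * fN (P : Subgroup G) = p - 1
  disj : Disjoint X Y
  triv_mem : (trivIrr G ∈ X ∧ δ (trivIrr G) = 1) ∨ (Y = {trivIrr G} ∧ ε = -1)
  δ_pm : ∀ χ ∈ X, δ χ = 1 ∨ δ χ = -1
  deg_X : ∀ χ ∈ X, (irrDeg χ : ℤ) ≡ δ χ [ZMOD p]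
  deg_Y : ∀ ψ ∈ Y, (irrDeg ψ : ℤ) ≡ ε * (fN (P : Subgroup G) : ℤ) [ZMOD p]
  rel_one : ∀ ψ ∈ Y, ∑ χ ∈ X, δ χ * (irrDeg χ : ℤ) = ε * (irrDeg ψ : ℤ)
  big : ∀ χ : IrrCharacter G, χ ∈ X ∨ χ ∈ Y →
    (∀ c ∈ Subgroup.centralizer ((P : Subgroup G) : Set G), ¬ p ∣ orderOf c →
      (χ : G → ℂ) c = (χ : G → ℂ) 1) ∨ p ≤ irrDeg χ
  dvd_X : ∀ χ ∈ X, irrDeg χ ∣ (Subgroup.centralizer ((P : Subgroup G) : Set G)).index
  dvd_Y : ∀ ψ ∈ Y, irrDeg ψ ∣ Nat.card (Sylow p G) * fN (P : Subgroup G)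

/-- non-exceptional: from the constant value `-w` on `P ∖ 1` to the divisibility -/
theorem dvd_index_of_value (p : ℕ) [Fact p.Prime] (P : Sylow p G) (hP : Nat.card P = p)
    (χ : IrrCharacter G) (w : ℤ) (hw : w = 1 ∨ w = -1) (y : G) (hy : y ∈ (P : Subgroup G))
    (hy1 : y ≠ 1) (hval : (χ : G → ℂ) y = -(w : ℂ)) :
    irrDeg χ ∣ (Subgroup.centralizer ((P : Subgroup G) : Set G)).index := by
  have h1 := isIntegral_centralChar χ y
  rw [centralChar_def, Cfsg.Agent.Helper1.D1PA.centralizer_singleton_eq P hP hy hy1, hval,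
    irrDeg_spec] at h1
  have hne : irrDeg χ ≠ 0 := (irrDeg_pos χ).ne'
  have hne' : (irrDeg χ : ℂ) ≠ 0 := by exact_mod_cast hne
  have h2 := int_dvd_of_eq_mul_isIntegral
    (a := ((Subgroup.centralizer ((P : Subgroup G) : Set G)).index : ℤ) * (-w)) hne h1 (by
      push_cast
      field_simp)
  have h3 : (irrDeg χ : ℤ) ∣ ((Subgroup.centralizer ((P : Subgroup G) : Set G)).index : ℤ) := by
    rcases hw with h | h
    · rw [h] at h2
      have : ((Subgroup.centralizer ((P : Subgroup G) : Set G)).index : ℤ) * (-1) =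
          -((Subgroup.centralizer ((P : Subgroup G) : Set G)).index : ℤ) := by ring
      rw [this] at h2
      exact (dvd_neg).mp h2
    · rw [h] at h2
      simpa using h2
  exact_mod_cast h3


/-- the principal block data, for every inertial index -/
theorem exists_b0Master (p : ℕ) [Fact p.Prime] (P : Sylow p G) (hP : Nat.card P = p) :
    Nonempty (B0Master p P) := by
  classical
  have hp : p.Prime := Fact.out
  obtain ⟨M, hM⟩ := Cfsg.Agent.Helper24.exists_isPModular p hp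
  have hMp := isPrime_of_isPModular hM
  let _ : Fintype (IrrCharacter G) := Fintype.ofFinite _
  have hPC := Cfsg.Agent.Helper1.D1PA.le_centralizer P hP
  -- the principal block of `C` induces the principal block of `G`
  set θ₁ : IrrCharacter (Subgroup.centralizer ((P : Subgroup G) : Set G)) := trivIrr _ with hθ₁
  obtain ⟨B', hind'⟩ := Cfsg.Agent.Helper23.D1QI.exists_induced hM P hP θ₁
  have hb : blockOf M (θ₁ : Subgroup.centralizer ((P : Subgroup G) : Set G) → ℂ) =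
      principalBlock M (Subgroup.centralizer ((P : Subgroup G) : Set G)) := rfl
  have hind : IsInducedBlock M (Subgroup.centralizer ((P : Subgroup G) : Set G))
      (blockOf M (θ₁ : Subgroup.centralizer ((P : Subgroup G) : Set G) → ℂ))
      (principalBlock M G) :=
    (Cfsg.Agent.S0936.result p M hM _ _ ⟨B', hind'⟩).mpr hb
  have hθb : θ₁ ∈ blockOf M (θ₁ : Subgroup.centralizer ((P : Subgroup G) : Set G) → ℂ) :=
    mem_blockOf_self hMp θ₁
  have hθP : ∀ x : Subgroup.centralizer ((P : Subgroup G) : Set G), (x : G) ∈ (P : Subgroup G) →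
      (θ₁ : Subgroup.centralizer ((P : Subgroup G) : Set G) → ℂ) x =
        (θ₁ : Subgroup.centralizer ((P : Subgroup G) : Set G) → ℂ) 1 := fun _ _ => rfl
  have hζB : trivIrr G ∈ principalBlock M G := mem_blockOf_self hMp (trivIrr G)
  have hζdeg : irrDeg (trivIrr G) = 1 := by
    have h1 := irrDeg_spec (trivIrr G)
    rw [trivIrr_apply] at h1
    exact_mod_cast h1.symm
  have hζ : ¬ p ∣ irrDeg (trivIrr G) := by
    rw [hζdeg]
    exact hp.one_lt.not_ge ∘ Nat.le_of_dvd Nat.one_pos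
  obtain ⟨D, hDθ, hDB⟩ := exists_coreData_of_theta p M hM P hP (trivIrr G) hζ _ _ hind hζB θ₁ hθb hθP
  -- `T = N`
  have hTeq : D.T = Subgroup.normalizer ((P : Subgroup G) : Set G) := by
    ext g
    rw [D.hT g, hDθ]
    exact ⟨fun h => h.1, fun h => ⟨h, fun _ _ _ => rfl⟩⟩
  have hef : D.e = D.f := by
    rw [← D.he, ← D.hf, hTeq]
  have hfN : fN (P : Subgroup G) = D.f := D.hf
  have hp1 : 0 < p - 1 := by have := hp.two_le; omega
  have hepos : 0 < D.e := Nat.pos_of_dvd_of_pos D.e_dvd hp1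
  have hθdeg : irrDeg D.θ = 1 := by
    rw [hDθ]
    have h1 := irrDeg_spec θ₁
    rw [hθ₁, trivIrr_apply] at h1
    exact_mod_cast h1.symm
  -- the non-exceptional characters
  set X : Finset (IrrCharacter G) :=
    Finset.univ.filter (fun χ => χ ∈ D.B ∧ ∀ μ, NT p μ → χ ≠ D.Ψ μ) with hX
  set Bf : Finset (IrrCharacter G) := Finset.univ.filter (fun χ => χ ∈ D.B) with hBf
  set Yf : Finset (IrrCharacter G) := Finset.univ.filter (fun χ => ∃ μ, NT p μ ∧ χ = D.Ψ μ) with hYf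
  have hBfcard : Bf.card = D.e + (p - 1) / D.e := by
    rw [← D.card_B, hBf, Nat.card_eq_fintype_card, Fintype.card_subtype]
  have hYfcard : Yf.card = (p - 1) / D.e := by
    rw [← D.card_Y, hYf, Nat.card_eq_fintype_card, Fintype.card_subtype]
  have hYB : Yf ⊆ Bf := by
    intro χ hχ
    obtain ⟨μ, hμ, rfl⟩ := (Finset.mem_filter.1 hχ).2
    exact Finset.mem_filter.2 ⟨Finset.mem_univ _, D.Ψ_mem μ hμ⟩
  have hXeq : X = Bf \ Yf := by
    ext χ
    simp only [hX, hBf, hYf, Finset.mem_filter, Finset.mem_univ, true_and, Finset.mem_sdiff]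
    constructor
    · rintro ⟨h1, h2⟩
      exact ⟨h1, fun ⟨μ, hμ, h⟩ => h2 μ hμ h⟩
    · rintro ⟨h1, h2⟩
      exact ⟨h1, fun μ hμ h => h2 ⟨μ, hμ, h⟩⟩
  have hXcard : X.card = fN (P : Subgroup G) := by
    rw [hXeq, Finset.card_sdiff_of_subset hYB, hBfcard, hYfcard, hfN, ← hef]
    omega
  have hYcard : Yf.card * fN (P : Subgroup G) = p - 1 := by
    rw [hYfcard, hfN, ← hef]
    exact Nat.div_mul_cancel D.e_dvd
  have hXB : ∀ χ ∈ X, χ ∈ principalBlock M G := by
    intro χ hχ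
    rw [← hDB]
    exact (Finset.mem_filter.1 hχ).2.1
  have hmemB : ∀ χ : IrrCharacter G, (χ ∈ X ∨ χ ∈ Yf) → χ ∈ principalBlock M G := by
    rintro χ (h | h)
    · exact hXB χ h
    · obtain ⟨μ, hμ, rfl⟩ := (Finset.mem_filter.1 h).2
      rw [← hDB]
      exact D.Ψ_mem μ hμ
  -- a nontrivial `p`-linear character exists
  obtain ⟨μ₁, hμ₁⟩ : ∃ μ : Subgroup.centralizer ((P : Subgroup G) : Set G) → ℂ, NT p μ := by
    have h1 := Cfsg.Agent.S4503P.card_NT p P hP
    have h2 : 0 < Nat.card {ν : Subgroup.centralizer ((P : Subgroup G) : Set G) → ℂ // NT p ν} := by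
      rw [h1]; exact hp1
    obtain ⟨⟨μ, hμ⟩⟩ := (Nat.card_pos_iff.mp h2).1
    exact ⟨μ, hμ⟩
  have hDtriv : ∀ μ, NT p μ → Dnum (Subgroup.centralizer ((P : Subgroup G) : Set G)) μ
      (D.θ : Subgroup.centralizer ((P : Subgroup G) : Set G) → ℂ)
      ((trivIrr G : IrrCharacter G) : G → ℂ) = -1 := by
    intro μ hμ
    rw [hDθ]
    exact Dnum_triv_gen p P μ hμ
  have hw0 : ∀ χ, χ ∉ X → D.w χ = 0 := by
    intro χ hχ
    by_cases hB : χ ∈ D.B
    · have h1 : ¬ ∀ μ, NT p μ → χ ≠ D.Ψ μ := fun h =>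
        hχ (Finset.mem_filter.2 ⟨Finset.mem_univ _, hB, h⟩)
      push Not at h1
      obtain ⟨μ, hμ, rfl⟩ := h1
      exact D.w_Ψ μ hμ
    · exact D.w_out χ hB
  have hZ : ∀ χ : IrrCharacter G, χ ∈ principalBlock M G →
      ∀ φ : IrrCharacter (Subgroup.centralizer ((P : Subgroup G) : Set G)),
      (∀ x : Subgroup.centralizer ((P : Subgroup G) : Set G), (x : G) ∈ (P : Subgroup G) →
        (φ : Subgroup.centralizer ((P : Subgroup G) : Set G) → ℂ) x =
          (φ : Subgroup.centralizer ((P : Subgroup G) : Set G) → ℂ) 1) →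
      (∃ c, (φ : Subgroup.centralizer ((P : Subgroup G) : Set G) → ℂ) c ≠ 1) →
      ∀ μ, IsPLin p μ → Dnum (Subgroup.centralizer ((P : Subgroup G) : Set G)) μ
        (φ : Subgroup.centralizer ((P : Subgroup G) : Set G) → ℂ) (χ : G → ℂ) = 0 :=
    fun χ hχ φ hφP hφ μ hμ => dnum_eq_zero_of_ne_triv p M hM P hP χ hχ φ hφP hφ μ hμ
  -- the multiplicities
  have hθfun : (D.θ : Subgroup.centralizer ((P : Subgroup G) : Set G) → ℂ) =
      triv (Subgroup.centralizer ((P : Subgroup G) : Set G)) := by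
    rw [hDθ]
    rfl
  have hdn : ∀ μ, IsPLin p μ → ∀ χ : IrrCharacter G,
      Dnum (Subgroup.centralizer ((P : Subgroup G) : Set G)) μ
        (D.θ : Subgroup.centralizer ((P : Subgroup G) : Set G) → ℂ) (χ : G → ℂ) =
      (((multN (Subgroup.centralizer ((P : Subgroup G) : Set G)) μ (χ : G → ℂ) : ℤ) -
        multN (Subgroup.centralizer ((P : Subgroup G) : Set G)) (triv _) (χ : G → ℂ) : ℤ) : ℂ) := by
    intro μ hμ χ
    have hχc : IsCharacter G (χ : G → ℂ) := IsIrrCharacter.isCharacter χ.2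
    rw [Dnum_eq_mult, hθfun]
    have h1 : (fun c : Subgroup.centralizer ((P : Subgroup G) : Set G) =>
        μ c * triv (Subgroup.centralizer ((P : Subgroup G) : Set G)) c) = μ := by
      funext c
      show μ c * 1 = μ c
      rw [mul_one]
    rw [h1, ← multN_cast _ μ (isIrr_of_isPLin hμ) _ hχc,
      ← multN_cast _ (triv _) (isIrr_of_isPLin (isPLin_one p)) _ hχc]
    push_cast
    rfl
  -- the expansion on `p`-singular elements of `C`
  have hval : ∀ χ : IrrCharacter G, (χ ∈ X ∨ χ ∈ Yf) →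
      ∀ c : Subgroup.centralizer ((P : Subgroup G) : Set G), p ∣ orderOf (c : G) →
      (χ : G → ℂ) c = ∑ᶠ ν ∈ {ν : Subgroup.centralizer ((P : Subgroup G) : Set G) → ℂ | NT p ν},
        (((multN (Subgroup.centralizer ((P : Subgroup G) : Set G)) ν (χ : G → ℂ) : ℤ) -
          multN (Subgroup.centralizer ((P : Subgroup G) : Set G)) (triv _) (χ : G → ℂ) : ℤ) : ℂ) *
            ν c := by
    intro χ hχ c hc
    exact val_of_dnum_zero p P hP χ (hZ χ (hmemB χ hχ)) c hc
  -- a non-trivial element of `P`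
  obtain ⟨y, hyP, hy1⟩ : ∃ y : G, y ∈ (P : Subgroup G) ∧ y ≠ 1 := by
    have h1 : 1 < Nat.card ↥(P : Subgroup G) := by
      have : Nat.card ↥(P : Subgroup G) = p := hP
      rw [this]; exact hp.one_lt
    have : Nontrivial ↥(P : Subgroup G) := (Finite.one_lt_card_iff_nontrivial).mp h1
    obtain ⟨u, hu⟩ := exists_ne (1 : ↥(P : Subgroup G))
    exact ⟨(u : G), u.2, fun h => hu (Subtype.ext h)⟩
  have hysing : p ∣ orderOf y := Cfsg.Agent.Helper28.S4700VAL.dvd_orderOf_of_mem p P hP y hyP hy1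
  -- the `d`-numbers of a non-exceptional character
  have hdX : ∀ χ ∈ X, ∀ ν, NT p ν →
      ((multN (Subgroup.centralizer ((P : Subgroup G) : Set G)) ν (χ : G → ℂ) : ℤ) -
        multN (Subgroup.centralizer ((P : Subgroup G) : Set G)) (triv _) (χ : G → ℂ)) = D.w χ := by
    intro χ hχ ν hν
    have h1 := D.D_w ν hν χ ((Finset.mem_filter.1 hχ).2.2 ν hν)
    rw [hdn ν hν.1] at h1
    exact_mod_cast h1
  have hdvdX : ∀ χ ∈ X, irrDeg χ ∣ (Subgroup.centralizer ((P : Subgroup G) : Set G)).index := by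
    intro χ hχ
    have hwpm := D.w_X χ (Finset.mem_filter.1 hχ).2.1 (Finset.mem_filter.1 hχ).2.2
    have hv := Cfsg.Agent.Helper28.S4700VAL.value_of_const p P hP (χ : G → ℂ)
      (fun ν => (multN (Subgroup.centralizer ((P : Subgroup G) : Set G)) ν (χ : G → ℂ) : ℤ) -
        multN (Subgroup.centralizer ((P : Subgroup G) : Set G)) (triv _) (χ : G → ℂ)) (D.w χ)
      (hdX χ hχ) ⟨y, hPC hyP⟩ hysing (hval χ (Or.inl hχ) ⟨y, hPC hyP⟩ hysing)
    exact dvd_index_of_value p P hP χ (D.w χ) hwpm y hyP hy1 hv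
  -- exceptional characters
  have hNTfin := Cfsg.Agent.Helper23.S4503SHIFT.finite_NT' p P hP
  have hdvdY : ∀ ψ ∈ Yf, irrDeg ψ ∣ Nat.card (Sylow p G) * fN (P : Subgroup G) := by
    intro ψ hψ
    obtain ⟨μ₀, hμ₀, hψeq⟩ := (Finset.mem_filter.1 hψ).2
    set d : (Subgroup.centralizer ((P : Subgroup G) : Set G) → ℂ) → ℤ := fun ν =>
      (multN (Subgroup.centralizer ((P : Subgroup G) : Set G)) ν (ψ : G → ℂ) : ℤ) -
        multN (Subgroup.centralizer ((P : Subgroup G) : Set G)) (triv _) (ψ : G → ℂ) with hd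
    have hdval : ∀ ν, NT p ν → d ν = if D.Ψ ν = D.Ψ μ₀ then D.ε else 0 := by
      intro ν hν
      by_cases hc : D.Ψ ν = D.Ψ μ₀
      · rw [if_pos hc]
        have h1 := D.D_Ψ ν hν
        rw [hc, ← hψeq, hdn ν hν.1] at h1
        have h2 : ((d ν : ℤ) : ℂ) = ((D.ε : ℤ) : ℂ) := h1
        exact_mod_cast h2
      · rw [if_neg hc]
        have h1 := D.D_w ν hν ψ (by rw [hψeq]; exact fun h => hc h.symm)
        rw [hdn ν hν.1, hψeq, D.w_Ψ μ₀ hμ₀, ← hψeq] at h1
        have h2 : ((d ν : ℤ) : ℂ) = ((0 : ℤ) : ℂ) := h1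
        exact_mod_cast h2
    have hcount : (hNTfin.toFinset.filter (fun ν => D.Ψ ν = D.Ψ μ₀)).card = D.e := by
      rw [← D.orb μ₀ hμ₀]
      have h0 : Nat.card {ν : Subgroup.centralizer ((P : Subgroup G) : Set G) → ℂ //
          TConj (P : Subgroup G) D.T μ₀ ν} =
          {ν : Subgroup.centralizer ((P : Subgroup G) : Set G) → ℂ |
            TConj (P : Subgroup G) D.T μ₀ ν}.ncard := Nat.card_coe_set_eq _
      rw [h0, ← Set.ncard_coe_finset]
      congr 1
      ext ν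
      simp only [Finset.coe_filter, Set.Finite.mem_toFinset, Set.mem_ofPred_eq]
      constructor
      · rintro ⟨hν, hc⟩
        exact (D.Ψ_conj μ₀ ν hμ₀ hν).mp hc.symm
      · intro hc
        have hν : NT p ν := hc.nt hμ₀
        exact ⟨hν, ((D.Ψ_conj μ₀ ν hμ₀ hν).mpr hc).symm⟩
    have hsumd : ∑ᶠ ν ∈ {ν : Subgroup.centralizer ((P : Subgroup G) : Set G) → ℂ | NT p ν}, d ν =
        D.ε * (D.e : ℤ) := by
      rw [finsum_mem_eq_finite_toFinset_sum _ hNTfin]
      have h1 : ∀ ν ∈ hNTfin.toFinset, d ν = if D.Ψ ν = D.Ψ μ₀ then D.ε else 0 := by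
        intro ν hν
        exact hdval ν ((Set.Finite.mem_toFinset hNTfin).mp hν)
      rw [Finset.sum_congr rfl h1, ← Finset.sum_filter, Finset.sum_const, hcount, nsmul_eq_mul]
      ring
    have hS := Cfsg.Agent.Helper28.S4700VAL.sum_sylow_of_val p P hP (ψ : G → ℂ) d
      (fun c hc => hval ψ (Or.inr hψ) c hc)
    rw [hsumd, irrDeg_spec] at hS
    have hint := Cfsg.Agent.Helper28.S4700INT.irrDeg_dvd_card_sylow_mul p P ψ (-(D.ε * (D.e : ℤ)))
      (by rw [hS]; push_cast; ring)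
    rw [hfN, ← hef]
    have h3 : (irrDeg ψ : ℤ) ∣ ((Nat.card (Sylow p G) * D.e : ℕ) : ℤ) := by
      rcases D.ε_pm with h | h
      · rw [h] at hint
        have : (Nat.card (Sylow p G) : ℤ) * -(1 * (D.e : ℤ)) =
            -((Nat.card (Sylow p G) * D.e : ℕ) : ℤ) := by push_cast; ring
        rw [this] at hint
        exact (dvd_neg).mp hint
      · rw [h] at hint
        have : (Nat.card (Sylow p G) : ℤ) * -(-1 * (D.e : ℤ)) =
            ((Nat.card (Sylow p G) * D.e : ℕ) : ℤ) := by push_cast; ring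
        rw [this] at hint
        exact hint
    exact_mod_cast h3
  -- the trivial character
  have htriv : (trivIrr G ∈ X ∧ - D.w (trivIrr G) = 1) ∨ (Yf = {trivIrr G} ∧ D.ε = -1) := by
    by_cases htX : trivIrr G ∈ X
    · left
      refine ⟨htX, ?_⟩
      have h1 := D.D_w μ₁ hμ₁ (trivIrr G) ((Finset.mem_filter.1 htX).2.2 μ₁ hμ₁)
      rw [hDtriv μ₁ hμ₁] at h1
      have h2 : ((D.w (trivIrr G) : ℤ) : ℂ) = ((-1 : ℤ) : ℂ) := by rw [← h1]; simp
      have h3 : D.w (trivIrr G) = -1 := by exact_mod_cast h2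
      rw [h3]; rfl
    · right
      have h1 : ¬ ∀ μ, NT p μ → trivIrr G ≠ D.Ψ μ := fun h =>
        htX (Finset.mem_filter.2 ⟨Finset.mem_univ _, D.mem, h⟩)
      push Not at h1
      obtain ⟨μ₀, hμ₀, hμ₀eq⟩ := h1
      have hwtriv : D.w (trivIrr G) = 0 := by
        have h0 := D.w_Ψ μ₀ hμ₀
        rw [← hμ₀eq] at h0
        exact h0
      have hall : ∀ ν, NT p ν → D.Ψ ν = trivIrr G := by
        intro ν hν
        by_contra hne
        have h1 := D.D_w ν hν (trivIrr G) (fun h => hne h.symm)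
        rw [hDtriv ν hν, hwtriv] at h1
        norm_num at h1
      refine ⟨?_, ?_⟩
      · ext χ
        rw [Finset.mem_singleton]
        constructor
        · intro h
          obtain ⟨μ, hμ, rfl⟩ := (Finset.mem_filter.1 h).2
          exact hall μ hμ
        · intro h
          exact Finset.mem_filter.2 ⟨Finset.mem_univ _, μ₀, hμ₀, h.trans hμ₀eq⟩
      · have h1 := D.D_Ψ μ₀ hμ₀
        rw [← hμ₀eq, hDtriv μ₀ hμ₀] at h1
        have h2 : ((D.ε : ℤ) : ℂ) = ((-1 : ℤ) : ℂ) := by rw [← h1]; simp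
        exact_mod_cast h2
  refine ⟨⟨X, Yf, fun χ => - D.w χ, D.ε, D.ε_pm, hXcard, hYcard, ?_, htriv, ?_, ?_, ?_, ?_, ?_,
    hdvdX, hdvdY⟩⟩
  · -- disjoint
    rw [Finset.disjoint_left]
    intro χ hχ hχY
    obtain ⟨μ, hμ, h⟩ := (Finset.mem_filter.1 hχY).2
    exact (Finset.mem_filter.1 hχ).2.2 μ hμ h
  · intro χ hχ
    show - D.w χ = 1 ∨ - D.w χ = -1
    rcases D.w_X χ (Finset.mem_filter.1 hχ).2.1 (Finset.mem_filter.1 hχ).2.2 with h | h
    · right; rw [h]
    · left; rw [h]; rfl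
  · intro χ hχ
    have h := D.deg_X χ (Finset.mem_filter.1 hχ).2.1 (Finset.mem_filter.1 hχ).2.2
    rw [← hef, Nat.div_self hepos, hθdeg] at h
    simpa using h
  · intro ψ hψ
    obtain ⟨μ, hμ, rfl⟩ := (Finset.mem_filter.1 hψ).2
    have h := D.deg_Y μ hμ
    rw [hθdeg, mul_one, ← hfN] at h
    exact h
  · intro ψ hψ
    obtain ⟨μ, hμ, rfl⟩ := (Finset.mem_filter.1 hψ).2
    have h := D.rel μ hμ 1 (by rw [orderOf_one]; exact fun h => hp.one_lt.ne' (Nat.dvd_one.mp h))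
    rw [finsum_eq_sum_of_fintype] at h
    have h2 : ∑ χ : IrrCharacter G, (D.w χ : ℂ) * (χ : G → ℂ) 1 =
        ∑ χ ∈ X, (D.w χ : ℂ) * (χ : G → ℂ) 1 := by
      symm
      apply Finset.sum_subset (Finset.subset_univ _)
      intro χ _ hχ
      rw [hw0 χ hχ]
      simp
    rw [h2] at h
    have h3 : ((∑ χ ∈ X, (- D.w χ) * (irrDeg χ : ℤ) : ℤ) : ℂ) =
        ((D.ε * (irrDeg (D.Ψ μ) : ℤ) : ℤ) : ℂ) := by
      push_cast
      rw [← irrDeg_spec (D.Ψ μ)]
      have h4 : ∑ χ ∈ X, -(D.w χ : ℂ) * (irrDeg χ : ℂ) =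
          - ∑ χ ∈ X, (D.w χ : ℂ) * (χ : G → ℂ) 1 := by
        rw [← Finset.sum_neg_distrib]
        refine Finset.sum_congr rfl fun χ _ => ?_
        rw [irrDeg_spec]; ring
      rw [h4]
      linear_combination -h
    exact_mod_cast h3
  · intro χ hχ
    exact deg_ge_of_dnum_zero p P hP χ (hZ χ (hmemB χ hχ))

end Cfsg.Agent.Helper28.S4700B0
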