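import Mathlib
import Cfsg.Prelude.Def_Solvable
import Cfsg.Prelude.Def_CaseTheorems
import Cfsg.Agent.Helper24.Gagola
import Cfsg.Agent.Helper24.Abelian
import Cfsg.Agent.Helper24.Orthogonality

/-!
# S4700 (Brauer–Reynolds): normal subgroups containing the `p`-regular elements of `C_G(P)`

`G` perfect, `O_{p'}(G) = 1`, `|P| = p` Sylow.  If a normal subgroup `K` contains all `p`-regular
elements of `C = C_G(P)`, then `K = G` or `C = P`.
(If `p ∤ |K|` then `K ≤ O_{p'}(G) = 1`, so `C` is a `p`-group, `C = P`.  If `p ∣ |K|` then `P ≤ K`,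
`G = N_G(P) K` (Frattini), `N_G(P)' ≤ C`, so `G = G' ≤ C K`; every `c ∈ C` has `c^p ∈ K` and
`p ∤ |G : K|`, so `G = K`.)
-/

set_option autoImplicit false

namespace Cfsg.Agent.Helper28.S4700KER

open Cfsg

universe u

variable {G : Type u} [Group G] [Finite G]

/-- the `p`-part of `|G|` is `p`: `p² ∤ |G|` -/
theorem not_sq_dvd (p : ℕ) [hp : Fact p.Prime] (P : Sylow p G) (hP : Nat.card P = p) :
    ¬ p ^ 2 ∣ Nat.card G := by
  have hG0 : Nat.card G ≠ 0 := Nat.card_pos.ne'
  have hfac : (Nat.card G).factorization p = 1 := by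
    have h1 := P.card_eq_multiplicity
    rw [hP] at h1
    have h2 : p ^ 1 = p ^ (Nat.card G).factorization p := by rw [pow_one]; exact h1
    exact (Nat.pow_right_injective hp.out.two_le h2).symm
  intro h2
  have h3 := (hp.out.pow_dvd_iff_le_factorization hG0).mp h2
  omega

/-- `c ^ p` is `p`-regular -/
theorem not_dvd_orderOf_pow (p : ℕ) [hp : Fact p.Prime] (P : Sylow p G) (hP : Nat.card P = p)
    (c : G) : ¬ p ∣ orderOf (c ^ p) := by
  have hsq := not_sq_dvd p P hP
  have hpos : 0 < orderOf c := orderOf_pos c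
  rw [orderOf_pow' c hp.out.ne_zero]
  intro h
  by_cases hc : p ∣ orderOf c
  · have hg : Nat.gcd (orderOf c) p = p := Nat.gcd_eq_right hc
    rw [hg] at h
    obtain ⟨k, hk⟩ := h
    have h1 : orderOf c = p * (p * k) := by
      have := Nat.div_mul_cancel hc
      rw [hk] at this
      rw [← this]; ring
    apply hsq
    have h2 : p ^ 2 ∣ orderOf c := ⟨k, by rw [h1]; ring⟩
    exact h2.trans (orderOf_dvd_natCard c)
  · have hg : Nat.gcd (orderOf c) p = 1 := by
      rw [Nat.gcd_comm]
      exact (Nat.Prime.coprime_iff_not_dvd hp.out).mpr hc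
    rw [hg, Nat.div_one] at h
    exact hc h

omit [Finite G] in
/-- `P ≤ C_G(P)` for `|P| = p` -/
theorem le_centralizer (p : ℕ) [hp : Fact p.Prime] (P : Sylow p G) (hP : Nat.card P = p) :
    (P : Subgroup G) ≤ Subgroup.centralizer ((P : Subgroup G) : Set G) := by
  have hcyc : IsCyclic ↥(P : Subgroup G) := isCyclic_of_prime_card (p := p) hP
  intro a ha
  rw [Subgroup.mem_centralizer_iff]
  intro b hb
  obtain ⟨g, hg⟩ := hcyc.exists_generator
  obtain ⟨i, hi⟩ := Subgroup.mem_zpowers_iff.mp (hg ⟨a, ha⟩)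
  obtain ⟨j, hj⟩ := Subgroup.mem_zpowers_iff.mp (hg ⟨b, hb⟩)
  have h1 : (⟨b, hb⟩ : ↥(P : Subgroup G)) * ⟨a, ha⟩ = ⟨a, ha⟩ * ⟨b, hb⟩ := by
    rw [← hi, ← hj, ← zpow_add, ← zpow_add, add_comm]
  exact congrArg Subtype.val h1

/-- KER -/
theorem top_or_centralizer_eq (hperf : commutator G = ⊤) (p : ℕ) [hp : Fact p.Prime]
    (hO : pPrimeCore p G = ⊥) (P : Sylow p G) (hP : Nat.card P = p) (K : Subgroup G) [hKn : K.Normal]
    (hK : ∀ c ∈ Subgroup.centralizer ((P : Subgroup G) : Set G), ¬ p ∣ orderOf c → c ∈ K) :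
    K = ⊤ ∨ Subgroup.centralizer ((P : Subgroup G) : Set G) = (P : Subgroup G) := by
  have hp2 := hp.out.two_le
  set C := Subgroup.centralizer ((P : Subgroup G) : Set G) with hC
  have hPC : (P : Subgroup G) ≤ C := le_centralizer p P hP
  have hpowK : ∀ c ∈ C, c ^ p ∈ K := fun c hc =>
    hK (c ^ p) (C.pow_mem hc p) (not_dvd_orderOf_pow p P hP c)
  by_cases hdvd : p ∣ Nat.card K
  · left
    -- `P ≤ K`
    obtain ⟨y, hy⟩ := exists_prime_orderOf_dvd_card' p hdvd
    have hy' : orderOf (y : G) = p := by rw [Subgroup.orderOf_coe]; exact hy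
    have hpg : IsPGroup p (Subgroup.zpowers (y : G)) := by
      apply IsPGroup.of_card (n := 1)
      rw [Nat.card_zpowers, hy', pow_one]
    obtain ⟨Q, hQ⟩ := hpg.exists_le_sylow
    obtain ⟨g, hg⟩ := MulAction.exists_smul_eq G Q P
    have hzP : g * (y : G) * g⁻¹ ∈ (P : Subgroup G) := by
      rw [← hg]
      show g * (y : G) * g⁻¹ ∈ ((g • Q : Sylow p G) : Subgroup G)
      rw [Sylow.coe_subgroup_smul, Subgroup.mem_pointwise_smul_iff_inv_smul_mem, MulAut.smul_def,
        ← map_inv, MulAut.conj_apply]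
      have : g⁻¹ * (g * (y : G) * g⁻¹) * g⁻¹⁻¹ = (y : G) := by group
      rw [this]
      exact hQ (Subgroup.mem_zpowers _)
    have hzK : g * (y : G) * g⁻¹ ∈ K := hKn.conj_mem _ y.2 g
    have hz1 : g * (y : G) * g⁻¹ ≠ 1 := by
      intro h
      have h1 : (y : G) = 1 := by
        have : (y : G) = g⁻¹ * (g * (y : G) * g⁻¹) * g := by group
        rw [this, h]; group
      rw [h1, orderOf_one] at hy'
      omega
    have hPK : (P : Subgroup G) ≤ K := by
      intro a ha
      have hz1' : (⟨g * (y : G) * g⁻¹, hzP⟩ : ↥(P : Subgroup G)) ≠ 1 := by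
        intro h
        exact hz1 (congrArg Subtype.val h)
      have hmem := mem_zpowers_of_prime_card (G := ↥(P : Subgroup G)) (p := p) hP
        (g := ⟨g * (y : G) * g⁻¹, hzP⟩) (g' := ⟨a, ha⟩) hz1'
      obtain ⟨i, hi⟩ := Subgroup.mem_zpowers_iff.mp hmem
      have : a = (g * (y : G) * g⁻¹) ^ i := by
        have := congrArg Subtype.val hi
        simpa using this.symm
      rw [this]
      exact K.zpow_mem hzK i
    -- Frattini
    have hfr : Subgroup.normalizer ((P : Subgroup G) : Set G) ⊔ K = ⊤ :=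
      Sylow.normalizer_sup_eq_top' P hPK
    -- work in the quotient
    set π := QuotientGroup.mk' K with hπ
    have hπs : Function.Surjective π := QuotientGroup.mk'_surjective K
    -- `π(N) = ⊤`
    have hNtop : (Subgroup.normalizer ((P : Subgroup G) : Set G)).map π = ⊤ := by
      have h1 : (Subgroup.normalizer ((P : Subgroup G) : Set G) ⊔ K).map π = ⊤ := by
        rw [hfr]; exact Subgroup.map_top_of_surjective _ hπs
      rw [Subgroup.map_sup] at h1
      have h2 : K.map π = ⊥ := by
        rw [Subgroup.map_eq_bot_iff, hπ, QuotientGroup.ker_mk']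
      rw [h2, sup_bot_eq] at h1
      exact h1
    -- `[N, N] ≤ C`
    have hNN : ⁅Subgroup.normalizer ((P : Subgroup G) : Set G),
        Subgroup.normalizer ((P : Subgroup G) : Set G)⁆ ≤ C := by
      rw [Subgroup.commutator_le]
      intro a ha b hb
      -- the action hom to the commutative group `MulAut P`
      set φ := (P : Subgroup G).normalizerMonoidHom with hφ
      have hker : φ.ker = C.subgroupOf (Subgroup.normalizer ((P : Subgroup G) : Set G)) :=
        Subgroup.normalizerMonoidHom_ker (P : Subgroup G)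
      have hcyc : IsCyclic ↥(P : Subgroup G) := isCyclic_of_prime_card (p := p) hP
      have hcomm : ∀ x y : MulAut ↥(P : Subgroup G), x * y = y * x := by
        intro x y
        apply (IsCyclic.mulAutMulEquiv ↥(P : Subgroup G)).injective
        rw [map_mul, map_mul, mul_comm]
      have h1 : (⟨a, ha⟩ * ⟨b, hb⟩ * ⟨a, ha⟩⁻¹ * ⟨b, hb⟩⁻¹ :
          ↥(Subgroup.normalizer ((P : Subgroup G) : Set G))) ∈ φ.ker := by
        rw [MonoidHom.mem_ker, map_mul, map_mul, map_mul, map_inv, map_inv,
          hcomm (φ ⟨a, ha⟩) (φ ⟨b, hb⟩)]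
        group
      rw [hker, Subgroup.mem_subgroupOf] at h1
      rw [commutatorElement_def]
      exact h1
    -- `π(C) = ⊤`
    have hCtop : C.map π = ⊤ := by
      rw [eq_top_iff]
      have hperfQ : commutator (G ⧸ K) = ⊤ := by
        have h2 : commutator (G ⧸ K) = (commutator G).map π := by
          rw [commutator_def, commutator_def, Subgroup.map_commutator,
            Subgroup.map_top_of_surjective _ hπs]
        rw [h2, hperf, Subgroup.map_top_of_surjective _ hπs]
      rw [← hperfQ, commutator_def]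
      nth_rewrite 1 [← hNtop]
      nth_rewrite 1 [← hNtop]
      rw [← Subgroup.map_commutator]
      exact Subgroup.map_mono hNN
    -- `p ∤ |G ⧸ K|`
    have hindex : ¬ p ∣ Nat.card (G ⧸ K) := by
      intro h
      have h1 : Nat.card (G ⧸ K) = K.index := rfl
      rw [h1] at h
      have h2 : K.index ∣ (P : Subgroup G).index := Subgroup.index_dvd_of_le hPK
      exact P.not_dvd_index (h.trans h2)
    -- every element of the quotient is trivial
    rw [eq_top_iff]
    intro x _
    have hx : π x ∈ C.map π := by rw [hCtop]; trivial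
    obtain ⟨c, hc, hcx⟩ := hx
    have h1 : (π c) ^ p = 1 := by
      rw [← map_pow]
      exact (QuotientGroup.eq_one_iff _).mpr (hpowK c hc)
    have h2 : orderOf (π c) ∣ p := orderOf_dvd_of_pow_eq_one h1
    have h3 : orderOf (π c) ∣ Nat.card (G ⧸ K) := orderOf_dvd_natCard _
    have h4 : orderOf (π c) = 1 := by
      rcases (Nat.dvd_prime hp.out).mp h2 with h | h
      · exact h
      · exact absurd (h ▸ h3) hindex
    have h5 : π c = 1 := orderOf_eq_one_iff.mp h4
    rw [hcx] at h5
    exact (QuotientGroup.eq_one_iff x).mp h5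
  · right
    have hKbot : K = ⊥ := by
      have hcop : (Nat.card K).Coprime p := by
        rw [Nat.coprime_comm]
        exact (Nat.Prime.coprime_iff_not_dvd hp.out).mpr hdvd
      have hle : K ≤ pPrimeCore p G := le_sSup ⟨hKn, hcop⟩
      rw [hO] at hle
      exact le_bot_iff.mp hle
    have hpg : IsPGroup p C := by
      intro c
      refine ⟨1, ?_⟩
      have := hpowK (c : G) c.2
      rw [hKbot, Subgroup.mem_bot] at this
      apply Subtype.ext
      rw [pow_one]
      simpa using this
    exact P.is_maximal' hpg hPC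


open Cfsg.Agent.Helper24 in
/-- an irreducible character with kernel `G` is the trivial character -/
theorem eq_trivIrr_of_irrKer_eq_top (χ : IrrCharacter G) (ht : irrKer χ = ⊤) : χ = trivIrr G := by
  classical
  let _ : Fintype G := Fintype.ofFinite G
  by_contra hχ
  have hconst : ∀ x : G, (χ : G → ℂ) x = (irrDeg χ : ℂ) := by
    intro x
    have hx : x ∈ irrKer χ := by rw [ht]; trivial
    rw [(mem_irrKer χ x).mp hx, irrDeg_spec]
  have h0 := classInner_irr_ne hχ
  unfold Cfsg.classInner at h0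
  have hsum : ∑ x : G, (χ : G → ℂ) x * (starRingEnd ℂ) ((trivIrr G : G → ℂ) x)
      = (Nat.card G : ℂ) * (irrDeg χ : ℂ) := by
    simp only [hconst, trivIrr_apply, map_one, mul_one, Finset.sum_const, Finset.card_univ,
      nsmul_eq_mul, Nat.card_eq_fintype_card]
  rw [hsum] at h0
  have hG : (Nat.card G : ℂ) ≠ 0 := by
    exact_mod_cast (Nat.card_pos (α := G)).ne'
  rw [← mul_assoc, inv_mul_cancel₀ hG, one_mul] at h0
  have hpos := irrDeg_pos χ
  have : irrDeg χ = 0 := by exact_mod_cast h0
  omega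

open Cfsg.Agent.Helper24 in
/-- KER for characters: `G` perfect, `O_{p'}(G) = 1`, `C_G(P) ≠ P`: a non-trivial irreducible
character does not have all `p`-regular elements of `C_G(P)` in its kernel. -/
theorem exists_not_ker (hperf : commutator G = ⊤) (p : ℕ) [hp : Fact p.Prime]
    (hO : pPrimeCore p G = ⊥) (P : Sylow p G) (hP : Nat.card P = p)
    (hCP : Subgroup.centralizer ((P : Subgroup G) : Set G) ≠ (P : Subgroup G))
    (χ : IrrCharacter G) (hχ : χ ≠ trivIrr G) :
    ¬ ∀ c ∈ Subgroup.centralizer ((P : Subgroup G) : Set G), ¬ p ∣ orderOf c →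
      (χ : G → ℂ) c = (χ : G → ℂ) 1 := by
  intro h
  rcases top_or_centralizer_eq hperf p hO P hP (irrKer χ)
    (fun c hc hpc => (mem_irrKer χ c).mpr (h c hc hpc)) with ht | hc
  · exact hχ (eq_trivIrr_of_irrKer_eq_top χ ht)
  · exact hCP hc

end Cfsg.Agent.Helper28.S4700KER
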