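import Mathlib
import Cfsg.Agent.Helper28.S4700B0
import Cfsg.Agent.Helper28.S4700AM
import Cfsg.Agent.Helper28.S4700KER
import Cfsg.Agent.Helper28.S4700A

/-!
# S4700 (Brauer–Reynolds), Part C: `C_G(P) ≠ P` forces the F-form

`G` perfect, `O_{p'}(G) = 1`, `|P| = p`, `|Syl_p(G)| = 1 + n p`, `C_G(P) ≠ P`  ⟹  `n = F(p,u,h)`.
-/

set_option autoImplicit false
set_option maxHeartbeats 1000000

namespace Cfsg.Agent.Helper28.S4700C

open Cfsg Cfsg.Agent.Helper24 Cfsg.Agent.S4503P Cfsg.Agent.Helper28.S4700K
  Cfsg.Agent.Helper28.S4700B0 Cfsg.Agent.Helper28.S4700AM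

universe u

variable {G : Type u} [Group G] [Finite G]

/-- `|G : C_G(P)| = f (1 + n p)` -/
theorem index_centralizer (p : ℕ) [Fact p.Prime] (P : Sylow p G) (n : ℕ)
    (hn : Nat.card (Sylow p G) = 1 + n * p) :
    (Subgroup.centralizer ((P : Subgroup G) : Set G)).index = fN (P : Subgroup G) * (1 + n * p) := by
  rw [← hn, Sylow.card_eq_index_normalizer P]
  unfold fN
  exact (Subgroup.relIndex_mul_index (Subgroup.centralizer_le_normalizer _)).symm

theorem irrDeg_trivIrr : irrDeg (trivIrr G) = 1 := by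
  have h1 := irrDeg_spec (trivIrr G)
  rw [trivIrr_apply] at h1
  exact_mod_cast h1.symm

/-- Part C -/
theorem fform_of_centralizer_ne (hperf : commutator G = ⊤) (p : ℕ) [hp : Fact p.Prime]
    (hO : pPrimeCore p G = ⊥) (P : Sylow p G) (hP : Nat.card P = p) (n : ℕ)
    (hn : Nat.card (Sylow p G) = 1 + n * p)
    (hCP : Subgroup.centralizer ((P : Subgroup G) : Set G) ≠ (P : Subgroup G)) : FForm p n := by
  classical
  have hp2 := hp.out.two_le
  obtain ⟨D⟩ := exists_b0Master p P hP
  set f := fN (P : Subgroup G) with hf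
  have hn1 : 1 ≤ n := by
    rcases Nat.eq_zero_or_pos n with h | h
    · exfalso
      apply Cfsg.Agent.Helper28.S4700A.card_sylow_ne_one hperf p P hP
      rw [hn, h]; simp
    · exact h
  have hidx := index_centralizer p P n hn
  have hbig : ∀ χ : IrrCharacter G, χ ∈ D.X ∨ χ ∈ D.Y → χ ≠ trivIrr G → p ≤ irrDeg χ := by
    intro χ hχ hne
    rcases D.big χ hχ with h | h
    · exact absurd h (Cfsg.Agent.Helper28.S4700KER.exists_not_ker hperf p hO P hP hCP χ hne)
    · exact h
  have hf1 : 1 ≤ f := by
    rcases Nat.eq_zero_or_pos f with h | h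
    · have := D.card_Y
      rw [← hf, h, mul_zero] at this
      omega
    · exact h
  have hdvdX : ∀ χ ∈ D.X, irrDeg χ ∣ f * (1 + n * p) := by
    intro χ hχ
    rw [← hidx]
    exact D.dvd_X χ hχ
  have hdvdY : ∀ ψ ∈ D.Y, irrDeg ψ ∣ f * (1 + n * p) := by
    intro ψ hψ
    have := D.dvd_Y ψ hψ
    rwa [hn, mul_comm] at this
  have hYne : D.Y.Nonempty := by
    rw [Finset.nonempty_iff_ne_empty]
    intro h
    have := D.card_Y
    rw [h, Finset.card_empty, zero_mul] at this
    omega
  rcases Nat.lt_or_ge D.Y.card 2 with ht | ht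
  · -- one exceptional character: `f = p - 1`
    have hY1 : D.Y.card = 1 := by
      have : 0 < D.Y.card := Finset.card_pos.mpr hYne
      omega
    have hfp : f = p - 1 := by
      have := D.card_Y
      rw [hY1, one_mul] at this
      exact this
    obtain ⟨ψ, hψ⟩ := Finset.card_eq_one.mp hY1
    have hψY : ψ ∈ D.Y := by rw [hψ]; exact Finset.mem_singleton_self ψ
    have hmodψ : (irrDeg ψ : ℤ) ≡ -D.ε [ZMOD p] := by
      have h1 := D.deg_Y ψ hψY
      rw [← hf, hfp, Nat.cast_sub (by omega)] at h1
      have h2 : D.ε * (((p : ℕ) : ℤ) - ((1 : ℕ) : ℤ)) ≡ -D.ε [ZMOD p] := by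
        rw [Int.modEq_iff_dvd]
        exact ⟨-D.ε, by push_cast; ring⟩
      exact h1.trans h2
    rcases D.triv_mem with ⟨htX, hδt⟩ | ⟨hYt, hεm⟩
    · -- the trivial character is non-exceptional
      have hψX : ψ ∉ D.X := fun h => (Finset.disjoint_left.mp D.disj h) hψY
      have hψne : ψ ≠ trivIrr G := fun h => hψX (h ▸ htX)
      apply arith_coreF_one hp.out hn1 (insert ψ (D.X.erase (trivIrr G))) irrDeg
        (fun χ => if χ = ψ then -D.ε else D.δ χ)
      · intro χ hχ
        rcases Finset.mem_insert.mp hχ with h | h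
        · rw [if_pos h]
          rcases D.hε with h' | h' <;> rw [h'] <;> simp
        · have hne : χ ≠ ψ := fun h' => hψX (h' ▸ Finset.mem_of_mem_erase h)
          rw [if_neg hne]
          exact D.δ_pm χ (Finset.mem_of_mem_erase h)
      · intro χ hχ
        rcases Finset.mem_insert.mp hχ with h | h
        · rw [if_pos h, h]
          exact hmodψ
        · have hne : χ ≠ ψ := fun h' => hψX (h' ▸ Finset.mem_of_mem_erase h)
          rw [if_neg hne]
          exact D.deg_X χ (Finset.mem_of_mem_erase h)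
      · have hnotin : ψ ∉ D.X.erase (trivIrr G) := fun h => hψX (Finset.mem_of_mem_erase h)
        rw [Finset.sum_insert hnotin, if_pos rfl]
        have h1 : ∑ χ ∈ D.X.erase (trivIrr G), (if χ = ψ then -D.ε else D.δ χ) * (irrDeg χ : ℤ) =
            ∑ χ ∈ D.X.erase (trivIrr G), D.δ χ * (irrDeg χ : ℤ) := by
          refine Finset.sum_congr rfl ?_
          intro χ hχ
          have hne : χ ≠ ψ := fun h' => hψX (h' ▸ Finset.mem_of_mem_erase hχ)
          rw [if_neg hne]
        rw [h1]
        have h2 := D.rel_one ψ hψY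
        rw [← Finset.add_sum_erase D.X _ htX, hδt, irrDeg_trivIrr] at h2
        push_cast at h2
        linarith
      · intro χ hχ
        rcases Finset.mem_insert.mp hχ with h | h
        · rw [h, ← hfp]; exact hdvdY ψ hψY
        · rw [← hfp]; exact hdvdX χ (Finset.mem_of_mem_erase h)
      · intro χ hχ
        rcases Finset.mem_insert.mp hχ with h | h
        · rw [h]; exact hbig ψ (Or.inr hψY) hψne
        · exact hbig χ (Or.inl (Finset.mem_of_mem_erase h)) (Finset.ne_of_mem_erase h)
    · -- the trivial character is the exceptional one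
      have hψt : ψ = trivIrr G := by
        have : trivIrr G ∈ D.Y := by rw [hYt]; exact Finset.mem_singleton_self _
        rw [hψ, Finset.mem_singleton] at this
        exact this.symm
      have htX : trivIrr G ∉ D.X := fun h => (Finset.disjoint_left.mp D.disj h) (hψt ▸ hψY)
      apply arith_coreF_one hp.out hn1 D.X irrDeg D.δ D.δ_pm D.deg_X
      · have h2 := D.rel_one ψ hψY
        rw [hψt, irrDeg_trivIrr, hεm] at h2
        push_cast at h2
        linarith
      · intro χ hχ
        rw [← hfp]; exact hdvdX χ hχ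
      · intro χ hχ
        exact hbig χ (Or.inl hχ) (fun h => htX (h ▸ hχ))
  · -- at least two exceptional characters
    rcases D.triv_mem with ⟨htX, hδt⟩ | ⟨hYt, -⟩
    · have htY : trivIrr G ∉ D.Y := fun h => (Finset.disjoint_left.mp D.disj htX) h
      apply arith_coreF hp.out D.card_Y ht hf1 hn1 D.X D.Y irrDeg D.δ D.ε (trivIrr G) D.hε D.card_X
        hYne htX hδt irrDeg_trivIrr D.δ_pm D.deg_X D.deg_Y D.rel_one
      · rintro χ (h | h)
        · exact hdvdX χ h
        · exact hdvdY χ h
      · intro χ hχ hne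
        exact hbig χ (Or.inl hχ) hne
      · intro ψ hψ
        exact hbig ψ (Or.inr hψ) (fun h => htY (h ▸ hψ))
    · rw [hYt, Finset.card_singleton] at ht
      omega

end Cfsg.Agent.Helper28.S4700C
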