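import Mathlib

set_option autoImplicit false

namespace Cfsg.Agent.S0983P

namespace COPR

/-- conjugation by `y` as a self-map of a subgroup it normalizes -/
def conjEnd {G : Type*} [Group G] (H : Subgroup G) (y : G)
    (hy : y ∈ Subgroup.normalizer (H : Set G)) : Function.End ↥H :=
  fun x => ⟨y * x * y⁻¹, (Subgroup.mem_normalizer_iff.1 hy x).1 x.2⟩

theorem conjEnd_pow {G : Type*} [Group G] (H : Subgroup G) (y : G)
    (hy : y ∈ Subgroup.normalizer (H : Set G)) (n : ℕ) (x : ↥H) :
    (((conjEnd H y hy) ^ n) x : G) = y ^ n * x * (y ^ n)⁻¹ := by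
  induction n generalizing x with
  | zero =>
    rw [pow_zero]
    show (x : G) = y ^ 0 * x * (y ^ 0)⁻¹
    simp
  | succ n ih =>
    rw [pow_succ]
    show (((conjEnd H y hy) ^ n) (conjEnd H y hy x) : G) = _
    rw [ih]
    show y ^ n * (y * x * y⁻¹) * (y ^ n)⁻¹ = y ^ (n + 1) * x * (y ^ (n + 1))⁻¹
    rw [pow_succ]
    group

/-- fixed-point congruence for conjugation by an element of prime order -/
theorem card_modEq {G : Type*} [Group G] (q : ℕ) [Fact q.Prime] (H : Subgroup G) [Finite ↥H]
    (y : G) (hy : orderOf y = q) (hyH : y ∈ Subgroup.normalizer (H : Set G)) :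
    Nat.card ↥H ≡ Nat.card ↥(H ⊓ Subgroup.centralizer {y}) [MOD q] := by
  classical
  haveI : Fintype ↥H := Fintype.ofFinite _
  set f := conjEnd H y hyH with hf
  have hfq : f ^ q ^ 1 = 1 := by
    funext x
    apply Subtype.ext
    rw [pow_one, conjEnd_pow, ← hy, pow_orderOf_eq_one]
    show 1 * (x : G) * 1⁻¹ = x
    simp
  have h1 := Equiv.Perm.card_fixedPoints_modEq (p := q) (n := 1) hfq
  have h1' : Nat.card ↥H ≡ Nat.card ↑(Function.fixedPoints f) [MOD q] := by
    rw [Nat.card_eq_fintype_card, Nat.card_eq_fintype_card]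
    convert h1
  refine h1'.trans ?_
  have h4 : Nat.card ↑(Function.fixedPoints f) = Nat.card ↥(H ⊓ Subgroup.centralizer {y}) := by
    apply Nat.card_congr
    refine
      { toFun := fun x => ⟨x.1.1, x.1.2, ?_⟩
        invFun := fun x => ⟨⟨x.1, x.2.1⟩, ?_⟩
        left_inv := fun x => rfl
        right_inv := fun x => rfl }
    · show x.1.1 ∈ Subgroup.centralizer {y}
      rw [Subgroup.mem_centralizer_iff]
      intro z hz
      rw [Set.mem_singleton_iff] at hz
      subst hz
      have := x.2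
      have h2 : (f x.1 : G) = x.1 := congrArg Subtype.val this
      have h3 : z * x.1.1 * z⁻¹ = x.1.1 := h2
      calc z * x.1.1 = (z * x.1.1 * z⁻¹) * z := by group
        _ = x.1.1 * z := by rw [h3]
    · have h2 : x.1 ∈ Subgroup.centralizer {y} := x.2.2
      rw [Subgroup.mem_centralizer_iff] at h2
      have h3 := h2 y (Set.mem_singleton y)
      apply Subtype.ext
      show y * x.1 * y⁻¹ = x.1
      rw [h3]
      group
  rw [h4]

end COPR

/-- COPR (generic, Mathlib only): coprime action on a group of order `p²` with an invariant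
subgroup of order `p` -/
theorem mem_centralizer_of_normalizes_chain {G : Type*} [Group G] (p q : ℕ) [Fact p.Prime]
    [Fact q.Prime] (hq1 : ¬ q ∣ p - 1) (hqp : q ≠ p) (P D : Subgroup G) (hDP : D ≤ P)
    (hP : Nat.card ↥P = p ^ 2) (hD : Nat.card ↥D = p) (y : G) (hy : orderOf y = q)
    (hyP : y ∈ Subgroup.normalizer (P : Set G)) (hyD : y ∈ Subgroup.normalizer (D : Set G)) :
    y ∈ Subgroup.centralizer (P : Set G) := by
  have hp : p.Prime := Fact.out
  have hq : q.Prime := Fact.out
  haveI : Finite ↥P := Nat.finite_of_card_ne_zero (by rw [hP]; exact pow_ne_zero _ hp.ne_zero)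
  haveI : Finite ↥D := Nat.finite_of_card_ne_zero (by rw [hD]; exact hp.ne_zero)
  -- step 1: D ≤ C(y)
  have hD1 := COPR.card_modEq q D y hy hyD
  have hD2 : Nat.card ↥(D ⊓ Subgroup.centralizer {y}) ∣ Nat.card ↥D :=
    Subgroup.card_dvd_of_le inf_le_left
  rw [hD] at hD1 hD2
  have hDc : D ≤ Subgroup.centralizer {y} := by
    rcases (Nat.dvd_prime hp).1 hD2 with h | h
    · exfalso
      rw [h] at hD1
      apply hq1
      exact (Nat.modEq_iff_dvd' hp.one_le).1 hD1.symm
    · have : D ⊓ Subgroup.centralizer {y} = D :=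
        Subgroup.eq_of_le_of_card_ge inf_le_left (by rw [hD, h])
      rw [← this]
      exact inf_le_right
  -- step 2: P ≤ C(y)
  have hP1 := COPR.card_modEq q P y hy hyP
  have hP2 : Nat.card ↥(P ⊓ Subgroup.centralizer {y}) ∣ Nat.card ↥P :=
    Subgroup.card_dvd_of_le inf_le_left
  have hP3 : Nat.card ↥D ∣ Nat.card ↥(P ⊓ Subgroup.centralizer {y}) :=
    Subgroup.card_dvd_of_le (le_inf hDP hDc)
  rw [hP] at hP1 hP2
  rw [hD] at hP3
  have hPc : P ≤ Subgroup.centralizer {y} := by
    obtain ⟨k, hk, hk2⟩ := (Nat.dvd_prime_pow hp).1 hP2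
    have hk1 : k ≠ 0 := by
      rintro rfl
      rw [hk2, pow_zero] at hP3
      exact hp.one_lt.ne' (Nat.dvd_one.1 hP3)
    have hk' : k = 1 ∨ k = 2 := by omega
    rcases hk' with rfl | rfl
    · exfalso
      rw [hk2, pow_one] at hP1
      have h1 : q ∣ p ^ 2 - p := by
        apply (Nat.modEq_iff_dvd' _).1 hP1.symm
        calc p = p ^ 1 := (pow_one p).symm
          _ ≤ p ^ 2 := Nat.pow_le_pow_right hp.pos (by norm_num)
      have h2 : p ^ 2 - p = p * (p - 1) := by
        rw [Nat.mul_sub, mul_one, sq]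
      rw [h2] at h1
      rcases (Nat.Prime.dvd_mul hq).1 h1 with h | h
      · exact hqp ((Nat.prime_dvd_prime_iff_eq hq hp).1 h)
      · exact hq1 h
    · have : P ⊓ Subgroup.centralizer {y} = P :=
        Subgroup.eq_of_le_of_card_ge inf_le_left (by rw [hP, hk2])
      rw [← this]
      exact inf_le_right
  rw [Subgroup.mem_centralizer_iff]
  intro x hx
  have := hPc hx
  rw [Subgroup.mem_centralizer_iff] at this
  exact (this y (Set.mem_singleton y)).symm

end Cfsg.Agent.S0983P
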