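import Mathlib

set_option autoImplicit false

namespace Cfsg.Agent.S0983P

namespace FREE

open MulAction

/-- the Sylow subgroups meeting `P` trivially (other than `P`), as a `P`-invariant set -/
def disj {G : Type*} [Group G] (p : ℕ) (P : Sylow p G) : SubMulAction ↥(P : Subgroup G) (Sylow p G) where
  carrier := {R | (P : Subgroup G) ⊓ (R : Subgroup G) = ⊥ ∧ R ≠ P}
  smul_mem' := by
    rintro ⟨g, hg⟩ R ⟨h1, h2⟩
    have hgP : g • P = P := Sylow.smul_eq_iff_mem_normalizer.2 (Subgroup.le_normalizer hg)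
    constructor
    · show (P : Subgroup G) ⊓ ((g • R : Sylow p G) : Subgroup G) = ⊥
      rw [eq_bot_iff]
      intro x hx
      rw [Subgroup.mem_bot]
      have hx1 : x ∈ (P : Subgroup G) := hx.1
      have hx2 : x ∈ ((g • R : Sylow p G) : Subgroup G) := hx.2
      rw [Sylow.coe_subgroup_smul, Subgroup.mem_pointwise_smul_iff_inv_smul_mem] at hx2
      have hx3 : g⁻¹ * x * g ∈ (R : Subgroup G) := by
        have : (MulAut.conj g)⁻¹ • x = g⁻¹ * x * g := by
          rw [MulAut.smul_def, ← map_inv, MulAut.conj_apply, inv_inv]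
        rw [← this]
        exact hx2
      have hx4 : g⁻¹ * x * g ∈ (P : Subgroup G) :=
        Subgroup.mul_mem _ (Subgroup.mul_mem _ (Subgroup.inv_mem _ hg) hx1) hg
      have hx5 : g⁻¹ * x * g ∈ (P : Subgroup G) ⊓ (R : Subgroup G) := ⟨hx4, hx3⟩
      rw [h1, Subgroup.mem_bot] at hx5
      have : x = g * (g⁻¹ * x * g) * g⁻¹ := by group
      rw [this, hx5]
      group
    · intro h
      apply h2
      have h3 : g • R = g • P := by rw [hgP]; exact h
      exact smul_left_cancel g h3

end FREE

open FREE in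
/-- FREE (generic, Mathlib only): `P` acts freely by conjugation on the Sylow subgroups meeting
it trivially -/
theorem card_dvd_card_disjoint_sylow {G : Type*} [Group G] [Finite G] (p : ℕ) [Fact p.Prime]
    (P : Sylow p G) :
    Nat.card ↥(P : Subgroup G) ∣
      Nat.card {R : Sylow p G // (P : Subgroup G) ⊓ (R : Subgroup G) = ⊥ ∧ R ≠ P} := by
  have hfree : ∀ b : disj p P, MulAction.stabilizer ↥(P : Subgroup G) b = ⊥ := by
    rintro ⟨R, hR1, hR2⟩
    rw [eq_bot_iff]
    rintro ⟨g, hg⟩ hgs
    rw [Subgroup.mem_bot]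
    rw [MulAction.mem_stabilizer_iff] at hgs
    have h1 : g • R = R := congrArg Subtype.val hgs
    have h2 : g ∈ Subgroup.normalizer ((R : Subgroup G) : Set G) :=
      Sylow.smul_eq_iff_mem_normalizer.1 h1
    have h4 := P.isPGroup'.inf_normalizer_sylow R
    have h3 : g ∈ (P : Subgroup G) ⊓ (R : Subgroup G) := by
      rw [← h4]
      exact ⟨hg, h2⟩
    rw [hR1, Subgroup.mem_bot] at h3
    exact Subtype.ext h3
  have e := MulAction.selfEquivOrbitsQuotientProd hfree
  have hcard : Nat.card (disj p P) =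
      Nat.card (Quotient (MulAction.orbitRel ↥(P : Subgroup G) (disj p P))) *
        Nat.card ↥(P : Subgroup G) := by
    rw [Nat.card_congr e, Nat.card_prod]
  have h0 : Nat.card {R : Sylow p G // (P : Subgroup G) ⊓ (R : Subgroup G) = ⊥ ∧ R ≠ P} =
      Nat.card (disj p P) := Nat.card_congr (Equiv.refl _)
  rw [h0, hcard]
  exact dvd_mul_left _ _

end Cfsg.Agent.S0983P
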