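import Cfsg.Agent.Helper28.S2258NOEIG1

/-! S2258 piece NOEIG4 (driver helper28): an element of order dividing `q + 1` (not `1`, `2`) lifts
to a matrix of nonzero trace without eigenvectors. -/

set_option autoImplicit false

namespace Cfsg.Agent.S2258P

open Cfsg.Agent.Helper18.Dickson

variable {F : Type*} [Field F] [Fintype F] {p : ℕ}

local notation "SF" => Matrix.SpecialLinearGroup (Fin 2) F
local notation "MF" => Matrix (Fin 2) (Fin 2) F
local notation "PF" => Matrix.ProjectiveSpecialLinearGroup (Fin 2) F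
local notation "π" => QuotientGroup.mk' (Subgroup.center SF)

namespace NOEIG4

omit [Fintype F] in
theorem pow_mulVec (X : SF) (v : Fin 2 → F) (a : F) (hXv : (X : MF).mulVec v = a • v) (n : ℕ) :
    ((X ^ n : SF) : MF).mulVec v = a ^ n • v := by
  induction n with
  | zero => simp
  | succ k ih =>
    rw [pow_succ, Matrix.SpecialLinearGroup.coe_mul, ← Matrix.mulVec_mulVec, hXv,
      Matrix.mulVec_smul, ih, smul_smul, pow_succ, mul_comm]

omit [Fintype F] in
theorem exists_ne (v : Fin 2 → F) (hv : v ≠ 0) : ∃ i, v i ≠ 0 := by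
  by_contra hcon
  push Not at hcon
  exact hv (funext hcon)

end NOEIG4

/-- NOEIG4 (M). -/
theorem noEig_of_dvd_succ (h : Hyp F p) (X : SF) (h1 : (π X : PF) ≠ 1)
    (h2 : orderOf (π X : PF) ≠ 2) (hd : orderOf (π X : PF) ∣ 3 ^ p + 1) :
    tr X ≠ 0 ∧ NoEig X := by
  have h2F := h.two_ne_zero
  have h3F := h.three_eq_zero
  have hord1 : orderOf (π X : PF) ≠ 1 := fun h0 => h1 (orderOf_eq_one_iff.1 h0)
  refine ⟨?_, ?_⟩
  · intro htr
    have hsq : (π X : PF) ^ 2 = 1 := (mk_sq_eq_one_iff h2F X).2 (Or.inr (Or.inr htr))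
    have hdvd := orderOf_dvd_of_pow_eq_one hsq
    rcases (Nat.dvd_prime Nat.prime_two).1 hdvd with h0 | h0
    · exact hord1 h0
    · exact h2 h0
  · intro v hv a hXv
    have hroot := NOEIG1.eigen_root X v hv a hXv
    have ha0 : a ≠ 0 := by
      rintro rfl
      simp at hroot
    set n := orderOf (π X : PF) with hn
    -- `X ^ n = ± 1`
    have hXn : X ^ n = 1 ∨ X ^ n = -1 := by
      rw [← mk_eq_one_iff, map_pow]
      exact pow_orderOf_eq_one _
    obtain ⟨i, hi⟩ := NOEIG4.exists_ne v hv
    have han : a ^ n = 1 ∨ a ^ n = -1 := by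
      have hp := NOEIG4.pow_mulVec X v a hXv n
      rcases hXn with hX | hX
      · left
        rw [hX] at hp
        simp only [Matrix.SpecialLinearGroup.coe_one, Matrix.one_mulVec] at hp
        have := congrFun hp i
        simp only [Pi.smul_apply, smul_eq_mul] at this
        have h5 : (a ^ n - 1) * v i = 0 := by linear_combination -this
        rcases mul_eq_zero.1 h5 with h6 | h6
        · linear_combination h6
        · exact absurd h6 hi
      · right
        rw [hX] at hp
        simp only [Matrix.SpecialLinearGroup.coe_neg, Matrix.SpecialLinearGroup.coe_one,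
          Matrix.neg_mulVec, Matrix.one_mulVec] at hp
        have := congrFun hp i
        simp only [Pi.smul_apply, Pi.neg_apply, smul_eq_mul] at this
        have h5 : (a ^ n + 1) * v i = 0 := by linear_combination -this
        rcases mul_eq_zero.1 h5 with h6 | h6
        · linear_combination h6
        · exact absurd h6 hi
    have ha2n : a ^ (2 * n) = 1 := by
      rw [mul_comm, pow_mul]
      rcases han with h5 | h5 <;> rw [h5] <;> ring
    obtain ⟨m, hm⟩ := hd
    have hq1 : a ^ (2 * (3 ^ p + 1)) = 1 := by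
      rw [hm, ← mul_assoc, pow_mul, ha2n, one_pow]
    have hq2 : a ^ (3 ^ p - 1) = 1 := by
      rw [← h.card]
      exact FiniteField.pow_card_sub_one_eq_one a ha0
    have h3p : 1 ≤ 3 ^ p := Nat.one_le_pow _ _ (by norm_num)
    have ha4 : a ^ 4 = 1 := by
      have h5 : 2 * (3 ^ p + 1) = 2 * (3 ^ p - 1) + 4 := by omega
      rw [h5, pow_add, pow_mul', hq2, one_pow, one_mul] at hq1
      exact hq1
    have ha2 : a ^ 2 = 1 := by
      have h5 : (a ^ 2 - 1) * (a ^ 2 + 1) = 0 := by linear_combination ha4
      rcases mul_eq_zero.1 h5 with h6 | h6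
      · linear_combination h6
      · exfalso
        apply h.not_isSquare_neg_one
        exact ⟨a, by linear_combination -h6⟩
    -- trace squared is one
    have htr2 : tr X ^ 2 = 1 := by
      have h5 : tr X * a = 2 := by linear_combination ha2 - hroot
      have h6 : tr X ^ 2 * a ^ 2 = 4 := by
        have : tr X ^ 2 * a ^ 2 = (tr X * a) ^ 2 := by ring
        rw [this, h5]; norm_num
      rw [ha2, mul_one] at h6
      linear_combination h6 + h3F
    have hcube : (π X : PF) ^ 3 = 1 := (mk_cube_eq_one_iff h3F X).2 htr2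
    have hdvd3 : n ∣ 3 := orderOf_dvd_of_pow_eq_one hcube
    rcases (Nat.dvd_prime Nat.prime_three).1 hdvd3 with h0 | h0
    · exact hord1 h0
    · -- `3 ∣ 3 ^ p + 1` is absurd
      have h5 : 3 ∣ 3 ^ p + 1 := ⟨m, by rw [hm, h0]⟩
      have h6 : 3 ∣ 3 ^ p := dvd_pow_self 3 (by have := h.three_le; omega)
      have h7 : 3 ∣ 1 := (Nat.dvd_add_right h6).1 h5
      omega
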