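import Mathlib
import Cfsg.Prelude.Def_FusionSystem
import Cfsg.Agent.Helper18.S5113Defs
import Cfsg.Agent.Helper25.FusionNormal
import Cfsg.Agent.Helper25.FusionSat
import Cfsg.Agent.Helper14.Irreducible
import Cfsg.Agent.Helper1.S5113R3
import Cfsg.Agent.Helper18.S5113DAGGER

set_option autoImplicit false
set_option linter.style.haveILetI false

/-! S5113 piece FA: a subgroup of `T` fully automized and receptive in `F` is fully automized in `E`. -/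

namespace Cfsg.Agent.S5113P

open Cfsg Cfsg.FusionSystem Cfsg.Agent.Helper25 Cfsg.Agent.Helper25.Park Cfsg.Agent.Helper26.CB

universe u

/-- Sylow meets normal: cardinality form, for subgroups of an ambient finite group. -/
theorem FA.aux_card {G0 : Type*} [Group G0] [Finite G0] (p : ℕ) [Fact p.Prime] (P N K : Subgroup G0)
    (hPK : P ≤ K) (hNK : N ≤ K) (hnorm : ∀ n ∈ N, ∀ k ∈ K, k * n * k⁻¹ ∈ N)
    (hP : Nat.card P = pPart p (Nat.card K)) : Nat.card ↥(P ⊓ N) = pPart p (Nat.card N) := by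
  have hcardP : Nat.card (P.subgroupOf K) = p ^ (Nat.card K).factorization p := by
    have : Nat.card (P.subgroupOf K) = Nat.card P :=
      Nat.card_congr (Subgroup.subgroupOfEquivOfLe hPK).toEquiv
    rw [this, hP]
    rfl
  let T : Sylow p ↥K := Sylow.ofCard (P.subgroupOf K) hcardP
  haveI : (N.subgroupOf K).Normal := ⟨fun n hn k => by
    rw [Subgroup.mem_subgroupOf] at hn ⊢
    exact hnorm _ hn _ k.2⟩
  have h1 := Cfsg.Agent.Helper14.sylow_inf_normal_isSylowIn T (N.subgroupOf K)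
  have h2 := h1.toSylow.card_eq_multiplicity
  have e1 : Nat.card ↥(h1.toSylow : Subgroup ↥(N.subgroupOf K)) =
      Nat.card ↥((T : Subgroup ↥K) ⊓ N.subgroupOf K) :=
    Nat.card_congr (Subgroup.subgroupOfEquivOfLe (inf_le_right)).toEquiv
  have e2 : ((T : Subgroup ↥K) ⊓ N.subgroupOf K) = (P ⊓ N).subgroupOf K := by
    ext x
    simp only [Subgroup.mem_inf, Subgroup.mem_subgroupOf]
    rfl
  have e3 : Nat.card ↥((P ⊓ N).subgroupOf K) = Nat.card ↥(P ⊓ N) :=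
    Nat.card_congr (Subgroup.subgroupOfEquivOfLe (inf_le_left.trans hPK)).toEquiv
  have e4 : Nat.card ↥(N.subgroupOf K) = Nat.card N :=
    Nat.card_congr (Subgroup.subgroupOfEquivOfLe hNK).toEquiv
  rw [e1, e2, e3, e4] at h2
  exact h2

variable {Ω : Type u} [Group Ω] {S : Subgroup Ω} {X : Type u}

/-- `Aut_E(Q)` is normalized by `Aut_F(Q)`. -/
theorem FA.aux_normal [Finite S] [Finite X]
    (a : ↥(S.prod S) →* Equiv.Perm X) (x₀ : X) (F : FusionSystem S)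
    (hTD : ∀ x, TD F (stab a x))
    (hst : ∀ K K' : Subgroup ↥(S.prod S), GConj (prodSystem F F) K K' → mark a K = mark a K')
    {T : Subgroup Ω} (hTS : T ≤ S)
    (E : FusionSystem T) (hE : ∀ P : Subgroup Ω, E.Hom P = EHom a x₀ F hTD T P)
    {Q : Subgroup Ω} (hQT : Q ≤ T) (α β : MulAut Q) (hα : α ∈ E.autGroup Q)
    (hβ : β ∈ F.autGroup Q) : β * α * β⁻¹ ∈ E.autGroup Q := by
  have hQS : Q ≤ S := hQT.trans hTS
  rw [mem_autGroup_iff E hQT, hE] at hα ⊢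
  obtain ⟨hαF, -, -, m, hm, hmc⟩ := hα
  have hβF := (mem_autGroup_iff F hQS β).mp hβ
  have hαF' : α ∈ F.autGroup Q := (mem_autGroup_iff F hQS α).mpr hαF
  have hconjF : β * α * β⁻¹ ∈ F.autGroup Q :=
    Subgroup.mul_mem _ (Subgroup.mul_mem _ hβ hαF') (Subgroup.inv_mem _ hβ)
  obtain ⟨g, hg⟩ := exists_cen_conj a F hst hQS hβF (fun x => hQS (β x).2)
  refine ⟨(mem_autGroup_iff F hQS _).mp hconjF, hQT, fun x => hQT ((β * α * β⁻¹) x).2,
    g * m * g⁻¹, ?_, ?_⟩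
  · rw [mem_MM] at hm ⊢
    rw [map_mul, map_mul, map_inv, mul_comm, inv_mul_cancel_left]
    exact hm
  · intro x hx hφx
    -- y = β⁻¹ x, z = α y
    set y : Q := β⁻¹ x with hy
    have h1 := hg y
    have h2 := hmc y (hQS y.2) (hQS (α y).2)
    have h3 := hg (α y)
    have hβy : β y = x := by rw [hy]; simp
    have e1 : (⟨(autHom β) y, hQS (β y).2⟩ : ↥S) = ⟨(x : Ω), hx⟩ := by
      apply Subtype.ext
      show ((β y : Q) : Ω) = (x : Ω)
      rw [hβy]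
    rw [e1] at h1
    have e2 : (⟨(autHom (β * α * β⁻¹)) x, hφx⟩ : ↥S) = ⟨(autHom β) (α y), hQS (β (α y)).2⟩ := by
      apply Subtype.ext
      show (((β * α * β⁻¹) x : Q) : Ω) = ((β (α y) : Q) : Ω)
      rfl
    rw [e2, h3]
    have e3 : (⟨((α y : Q) : Ω), hQS (α y).2⟩ : ↥S) = ⟨(autHom α) y, hQS (α y).2⟩ := rfl
    rw [e3, h2]
    have h4 : iota a ⟨(y : Ω), hQS y.2⟩ = g⁻¹ * iota a ⟨(x : Ω), hx⟩ * g := by
      rw [h1]; group
    rw [h4]
    group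

/-- An automorphism of `Q` induced by `S` and belonging to `Aut_E(Q)` is induced by `T`. -/
theorem FA.aux_inter [Finite S] [Finite X] (p : ℕ) [Fact p.Prime] (hS : IsPGroup p S)
    (a : ↥(S.prod S) →* Equiv.Perm X) (x₀ : X) (F : FusionSystem S)
    (hTD : ∀ x, TD F (stab a x))
    (hx₀ : ∀ k ∈ graphSub (1 : MulAut ↥S), a k x₀ = x₀) (hidx : ¬ p ∣ (H0 a x₀).index)
    {T : Subgroup Ω} (hTS : T ≤ S) (hfoc : F.focalSubgroup ≤ T) (hexp : ∀ s ∈ S, s ^ p ∈ T)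
    (E : FusionSystem T) (hE : ∀ P : Subgroup Ω, E.Hom P = EHom a x₀ F hTD T P)
    {Q : Subgroup Ω} (hQT : Q ≤ T) (hQr : F.IsReceptive Q) (α : MulAut Q)
    (hαS : α ∈ autInducedBy S Q) (hαE : α ∈ E.autGroup Q) : α ∈ autInducedBy T Q := by
  have hQS : Q ≤ S := hQT.trans hTS
  obtain ⟨u, huS, hu⟩ := (mem_autInducedBy_iff S Q α).mp hαS
  rw [mem_autGroup_iff E hQT, hE] at hαE
  obtain ⟨-, -, -, m, hm, hmc⟩ := hαE
  have hcent : ∀ y : ↥S, (y : Ω) ∈ Q →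
      ((iota a ⟨u, huS⟩)⁻¹ * m) * iota a y = iota a y * ((iota a ⟨u, huS⟩)⁻¹ * m) := by
    intro y hyQ
    have h1 := hmc ⟨y, hyQ⟩ y.2 (hQS (α ⟨y, hyQ⟩).2)
    have e1 : (⟨(autHom α) ⟨(y : Ω), hyQ⟩, hQS (α ⟨y, hyQ⟩).2⟩ : ↥S) =
        (⟨u, huS⟩ : ↥S) * y * (⟨u, huS⟩ : ↥S)⁻¹ := Subtype.ext (hu ⟨y, hyQ⟩)
    rw [e1, map_mul, map_mul, map_inv] at h1
    have e2 : (⟨((⟨(y : Ω), hyQ⟩ : ↥Q) : Ω), y.2⟩ : ↥S) = y := Subtype.ext rfl
    rw [e2] at h1
    calc (iota a ⟨u, huS⟩)⁻¹ * m * iota a y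
        = (iota a ⟨u, huS⟩)⁻¹ * (m * iota a y * m⁻¹) * m := by group
      _ = (iota a ⟨u, huS⟩)⁻¹ * (iota a ⟨u, huS⟩ * iota a y * (iota a ⟨u, huS⟩)⁻¹) * m := by
          rw [h1]
      _ = iota a y * ((iota a ⟨u, huS⟩)⁻¹ * m) := by group
  have hD := DAGGER' p hS a x₀ F hTD hx₀ hTS hfoc hexp hQr ((iota a ⟨u, huS⟩)⁻¹ * m) hcent
  have hR3 := TA_mono (S := S) (le_sup_left : T ≤ T ⊔ centralizerIn S Q)
    (R3 a x₀ F hTD hfoc ⟨u, huS⟩)
  have hmT : trf a x₀ F hTD m ∈ TA S (T ⊔ centralizerIn S Q) :=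
    TA_mono le_sup_left ((mem_MM a x₀ F hTD).mp hm)
  have hof : Abelianization.of (⟨u, huS⟩ : ↥S) ^ (H0 a x₀).index ∈
      TA S (T ⊔ centralizerIn S Q) := by
    have e : Abelianization.of (⟨u, huS⟩ : ↥S) ^ (H0 a x₀).index =
        trf a x₀ F hTD m * (trf a x₀ F hTD ((iota a ⟨u, huS⟩)⁻¹ * m))⁻¹ *
          ((trf a x₀ F hTD (iota a ⟨u, huS⟩))⁻¹ *
            Abelianization.of (⟨u, huS⟩ : ↥S) ^ (H0 a x₀).index) := by
      rw [map_mul, map_inv]; group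
    rw [e]
    exact Subgroup.mul_mem _ (Subgroup.mul_mem _ hmT (Subgroup.inv_mem _ hD)) hR3
  rw [← map_pow] at hof
  have hpow : ((⟨u, huS⟩ : ↥S) : Ω) ^ (H0 a x₀).index ∈ T ⊔ centralizerIn S Q := by
    have := mem_of_of_mem_TA F (hfoc.trans le_sup_left) hof
    simpa using this
  have huTC : u ∈ T ⊔ centralizerIn S Q :=
    mem_of_pow_mem p hS hidx (v := (⟨u, huS⟩ : ↥S)) hpow
  have hnorm : centralizerIn S Q ≤ Subgroup.normalizer (T : Set Ω) :=
    (inf_le_left : S ⊓ _ ≤ S).trans (le_normalizer_of_focal_le F hTS hfoc)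
  have hset := Subgroup.coe_mul_of_right_le_normalizer_left T (centralizerIn S Q) hnorm
  have hmem : u ∈ ((T ⊔ centralizerIn S Q : Subgroup Ω) : Set Ω) := huTC
  rw [hset] at hmem
  obtain ⟨t, ht, c', hc', htc⟩ := Set.mem_mul.mp hmem
  rw [mem_autInducedBy_iff]
  refine ⟨t, ht, fun x => ?_⟩
  rw [hu x, ← htc]
  have hcx : (x : Ω) * c' = c' * (x : Ω) :=
    (Subgroup.mem_centralizer_iff.mp hc'.2) (x : Ω) x.2
  calc t * c' * (x : Ω) * (t * c')⁻¹ = t * (c' * (x : Ω)) * c'⁻¹ * t⁻¹ := by group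
    _ = t * ((x : Ω) * c') * c'⁻¹ * t⁻¹ := by rw [hcx]
    _ = t * (x : Ω) * t⁻¹ := by group

/-- FA: a subgroup of `T` fully automized and receptive in `F` is fully automized in `E`. -/
theorem FA [Finite S] [Finite X] (p : ℕ) [Fact p.Prime] (hS : IsPGroup p S)
    (a : ↥(S.prod S) →* Equiv.Perm X) (x₀ : X) (F : FusionSystem S)
    (hTD : ∀ x, TD F (stab a x))
    (hst : ∀ K K' : Subgroup ↥(S.prod S), GConj (prodSystem F F) K K' → mark a K = mark a K')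
    (hx₀ : ∀ k ∈ graphSub (1 : MulAut ↥S), a k x₀ = x₀) (hidx : ¬ p ∣ (H0 a x₀).index)
    {T : Subgroup Ω} (hTS : T ≤ S) (hfoc : F.focalSubgroup ≤ T) (hexp : ∀ s ∈ S, s ^ p ∈ T)
    (E : FusionSystem T) (hE : ∀ P : Subgroup Ω, E.Hom P = EHom a x₀ F hTD T P)
    {Q : Subgroup Ω} (hQT : Q ≤ T) (hQa : F.IsFullyAutomized p Q) (hQr : F.IsReceptive Q) :
    E.IsFullyAutomized p Q := by
  classical
  have hQS : Q ≤ S := hQT.trans hTS
  haveI : Finite ↥T := finite_of_le hTS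
  haveI : Finite ↥Q := finite_of_le hQS
  rw [isFullyAutomized_iff_card E p hQT]
  have hF := (isFullyAutomized_iff_card F p hQS).mp hQa
  have hEF : E.autGroup Q ≤ F.autGroup Q := by
    intro α hα
    rw [mem_autGroup_iff E hQT, hE] at hα
    exact (mem_autGroup_iff F hQS α).mpr hα.1
  have hcard := FA.aux_card p (autInducedBy S Q) (E.autGroup Q) (F.autGroup Q)
    (autInducedBy_le_autGroup F hQS) hEF
    (fun n hn k hk => FA.aux_normal a x₀ F hTD hst hTS E hE hQT n k hn hk) hF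
  have hint : autInducedBy S Q ⊓ E.autGroup Q = autInducedBy T Q := by
    apply le_antisymm
    · intro α hα
      exact FA.aux_inter p hS a x₀ F hTD hx₀ hidx hTS hfoc hexp E hE hQT hQr α hα.1 hα.2
    · refine le_inf ?_ (autInducedBy_le_autGroup E hQT)
      intro α hα
      obtain ⟨g, hg, h⟩ := (mem_autInducedBy_iff T Q α).mp hα
      exact (mem_autInducedBy_iff S Q α).mpr ⟨g, hTS hg, h⟩
  rw [hint] at hcard
  exact hcard

end Cfsg.Agent.S5113P
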