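import Mathlib
import Cfsg.Prelude.Def_GeometricClasses
import Cfsg.Agent.Helper18.S5707.Defs

/-! S5707 piece K4IFF: intrinsic description of `L4`. -/

set_option autoImplicit false

namespace Cfsg.Agent.S5707P

open Matrix

variable {F : Type*} [Field F] {k t : ℕ}

namespace K4IFF

/-- entries of `J4 * A`: the rows are reversed -/
theorem J4_mul_apply (A : Matrix (Fin 4) (Fin 4) F) (i j : Fin 4) :
    ((J4 : Matrix (Fin 4) (Fin 4) F) * A) i j = A (3 - i) j := by
  fin_cases i <;> simp [J4, Matrix.mul_apply, Fin.sum_univ_four]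

theorem mul_self_apply (A : Matrix (Fin 4) (Fin 4) F) (i j : Fin 4) :
    (A * A) i j = A i 0 * A 0 j + A i 1 * A 1 j + A i 2 * A 2 j + A i 3 * A 3 j := by
  rw [Matrix.mul_apply, Fin.sum_univ_four]

theorem eq_of_add_eq_zero [CharP F 2] {a b : F} (h : a + b = 0) : a = b :=
  CharTwo.add_eq_zero.mp h

end K4IFF

theorem K4.L4_iff [CharP F 2] (A : Matrix (Fin 4) (Fin 4) F) :
    A ∈ (L4 : Submodule F (Matrix (Fin 4) (Fin 4) F)) ↔
      (((J4 : Matrix (Fin 4) (Fin 4) F) * A).IsSymm ∧ (∀ a, ((J4 : Matrix (Fin 4) (Fin 4) F) * A) a a = 0) ∧ ∃ μ : F, A * A = μ • (1 : Matrix (Fin 4) (Fin 4) F)) := by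
  constructor
  · rintro ⟨a1, a2, a3, a4, a5, a6, a7, a8, a9, a10, a11⟩
    refine ⟨?_, ?_, ?_⟩
    · apply Matrix.IsSymm.ext
      intro i j
      rw [K4IFF.J4_mul_apply, K4IFF.J4_mul_apply]
      fin_cases i <;> fin_cases j <;> simp_all
    · intro a
      rw [K4IFF.J4_mul_apply]
      fin_cases a <;> simp_all
    · refine ⟨A 0 0 * A 0 0 + A 0 1 * A 1 0 + A 0 2 * A 2 0, ?_⟩
      have h2 : (2 : F) = 0 := CharTwo.two_eq_zero
      have hA : A = !![A 0 0, A 0 1, A 0 2, 0; A 1 0, A 0 0, 0, A 0 2; A 2 0, 0, A 0 0, A 0 1;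
          0, A 2 0, A 1 0, A 0 0] := by
        ext i j
        fin_cases i <;> fin_cases j <;> simp_all
      generalize A 0 0 = a at hA
      generalize A 0 1 = d at hA
      generalize A 0 2 = b at hA
      generalize A 1 0 = e at hA
      generalize A 2 0 = c at hA
      subst hA
      ext i j
      fin_cases i <;> fin_cases j <;>
        simp [Matrix.mul_apply, Fin.sum_univ_four] <;>
        first
          | ring1
          | (ring_nf; rw [h2, mul_zero])
  · rintro ⟨hs, hd, μ, hμ⟩
    have hsym : ∀ i j : Fin 4, A (3 - j) i = A (3 - i) j := by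
      intro i j
      have := Matrix.IsSymm.apply hs i j
      rwa [K4IFF.J4_mul_apply, K4IFF.J4_mul_apply] at this
    have hdiag : ∀ a : Fin 4, A (3 - a) a = 0 := by
      intro a
      have := hd a
      rwa [K4IFF.J4_mul_apply] at this
    have s01 : A 2 0 = A 3 1 := by simpa using hsym 0 1
    have s02 : A 1 0 = A 3 2 := by simpa using hsym 0 2
    have s03 : A 0 0 = A 3 3 := by simpa using hsym 0 3
    have s12 : A 1 1 = A 2 2 := by simpa using hsym 1 2
    have s13 : A 0 1 = A 2 3 := by simpa using hsym 1 3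
    have s23 : A 0 2 = A 1 3 := by simpa using hsym 2 3
    have d0 : A 3 0 = 0 := by simpa using hdiag 0
    have d1 : A 2 1 = 0 := by simpa using hdiag 1
    have d2 : A 1 2 = 0 := by simpa using hdiag 2
    have d3 : A 0 3 = 0 := by simpa using hdiag 3
    have hent : ∀ i j : Fin 4, (A * A) i j = μ * (1 : Matrix (Fin 4) (Fin 4) F) i j := by
      intro i j
      rw [hμ, Matrix.smul_apply, smul_eq_mul]
    -- key: `A 0 0 = A 1 1`
    have key : A 0 0 = A 1 1 := by
      by_contra hne
      have hx : A 0 0 + A 1 1 ≠ 0 := fun h => hne (K4IFF.eq_of_add_eq_zero h)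
      have e01 := hent 0 1
      have e02 := hent 0 2
      have e10 := hent 1 0
      have e20 := hent 2 0
      rw [K4IFF.mul_self_apply] at e01 e02 e10 e20
      simp only [Matrix.one_apply, Fin.isValue, Fin.reduceEq, if_false, mul_zero, d0, d1, d2, d3,
        zero_mul, mul_zero, add_zero] at e01 e02 e10 e20
      have z01 : A 0 1 = 0 := by
        have : A 0 1 * (A 0 0 + A 1 1) = 0 := by linear_combination e01
        exact (mul_eq_zero.mp this).resolve_right hx
      have z02 : A 0 2 = 0 := by
        have : A 0 2 * (A 0 0 + A 1 1) = 0 := by rw [s12]; linear_combination e02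
        exact (mul_eq_zero.mp this).resolve_right hx
      have z10 : A 1 0 = 0 := by
        have : A 1 0 * (A 0 0 + A 1 1) = 0 := by linear_combination e10
        exact (mul_eq_zero.mp this).resolve_right hx
      have z20 : A 2 0 = 0 := by
        have : A 2 0 * (A 0 0 + A 1 1) = 0 := by rw [s12]; linear_combination e20
        exact (mul_eq_zero.mp this).resolve_right hx
      have e00 := hent 0 0
      have e11 := hent 1 1
      rw [K4IFF.mul_self_apply] at e00 e11
      simp only [Matrix.one_apply, Fin.isValue, if_true, mul_one, d0, d1, d2, d3, z01, z02, z10, z20,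
        mul_zero, add_zero, zero_add, ← s23, ← s01] at e00 e11
      have hsq : (A 0 0 + A 1 1) * (A 0 0 + A 1 1) = 0 := by
        have h2 : ∀ x : F, x + x = 0 := CharTwo.add_self_eq_zero
        linear_combination e00 + e11 + h2 (A 0 0 * A 1 1) + h2 μ
      exact hx (mul_self_eq_zero.mp hsq)
    refine ⟨key, s12, ?_, s23, s01, s13, s02, d3, d0, d2, d1⟩
    rw [← s12, ← key, s03]

end Cfsg.Agent.S5707P
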