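import Mathlib
import Cfsg.Prelude.Def_GeometricClasses
import Cfsg.Agent.Helper18.S5707.Defs
import Cfsg.Agent.Helper28.S5707K4IFF
import Cfsg.Agent.Helper22.S5707SYMZ

/-! S5707 piece K4CONJ: similitudes of `J4` normalise `L4`. -/

set_option autoImplicit false

namespace Cfsg.Agent.S5707P

open Matrix

variable {F : Type*} [Field F] {k t : ℕ}

namespace K4CONJ

/-- congruence preserves "symmetric with zero diagonal" in characteristic 2 -/
theorem alt_congr [CharP F 2] (S h : Matrix (Fin 4) (Fin 4) F) (hs : S.IsSymm) (h0 : ∀ a, S a a = 0) :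
    (hᵀ * S * h).IsSymm ∧ ∀ a, (hᵀ * S * h) a a = 0 := by
  constructor
  · unfold Matrix.IsSymm
    rw [Matrix.transpose_mul, Matrix.transpose_mul, Matrix.transpose_transpose, hs.eq, Matrix.mul_assoc]
  · intro a
    have := SYMZ.sum_eq_zero S hs h0 (fun i => h i a)
    rw [Matrix.mul_apply]
    simp only [Matrix.mul_apply, Matrix.transpose_apply, Finset.sum_mul]
    rw [Finset.sum_comm]
    exact this

theorem alt_smul (S : Matrix (Fin 4) (Fin 4) F) (c : F) (hs : S.IsSymm) (h0 : ∀ a, S a a = 0) :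
    (c • S).IsSymm ∧ ∀ a, (c • S) a a = 0 := by
  constructor
  · unfold Matrix.IsSymm
    rw [Matrix.transpose_smul, hs.eq]
  · intro a
    rw [Matrix.smul_apply, h0, smul_zero]

theorem J4_ne_zero : (J4 : Matrix (Fin 4) (Fin 4) F) ≠ 0 := by
  intro h
  have := congrFun (congrFun h 0) 3
  simp [J4] at this

end K4CONJ

theorem K4.L4_conj [CharP F 2] (g : GL (Fin 4) F) (lam : F)
    (hg : (g : Matrix (Fin 4) (Fin 4) F)ᵀ * J4 * (g : Matrix (Fin 4) (Fin 4) F) = lam • J4)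
    (A : Matrix (Fin 4) (Fin 4) F) (hA : A ∈ (L4 : Submodule F (Matrix (Fin 4) (Fin 4) F))) :
    (g : Matrix (Fin 4) (Fin 4) F) * A * ((g⁻¹ : GL (Fin 4) F) : Matrix (Fin 4) (Fin 4) F) ∈
      (L4 : Submodule F (Matrix (Fin 4) (Fin 4) F)) ∧
    ((g⁻¹ : GL (Fin 4) F) : Matrix (Fin 4) (Fin 4) F) * A * (g : Matrix (Fin 4) (Fin 4) F) ∈
      (L4 : Submodule F (Matrix (Fin 4) (Fin 4) F)) := by
  obtain ⟨hs, h0, μ, hμ⟩ := (K4.L4_iff A).mp hA
  set G : Matrix (Fin 4) (Fin 4) F := (g : Matrix (Fin 4) (Fin 4) F) with hG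
  set H : Matrix (Fin 4) (Fin 4) F := ((g⁻¹ : GL (Fin 4) F) : Matrix (Fin 4) (Fin 4) F) with hH
  have hGH : G * H = 1 := by rw [hG, hH, ← Units.val_mul, mul_inv_cancel, Units.val_one]
  have hHG : H * G = 1 := by rw [hG, hH, ← Units.val_mul, inv_mul_cancel, Units.val_one]
  -- `J4 = lam • Hᵀ J4 H`
  have hJ : (J4 : Matrix (Fin 4) (Fin 4) F) = lam • (Hᵀ * J4 * H) := by
    have h1 : Hᵀ * (Gᵀ * J4 * G) * H = J4 := by
      have : Hᵀ * (Gᵀ * J4 * G) * H = (G * H)ᵀ * J4 * (G * H) := by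
        rw [Matrix.transpose_mul]; simp only [Matrix.mul_assoc]
      rw [this, hGH, Matrix.transpose_one, Matrix.one_mul, Matrix.mul_one]
    rw [hg, Matrix.mul_smul, Matrix.smul_mul] at h1
    exact h1.symm
  have hlam : lam ≠ 0 := by
    rintro rfl
    rw [zero_smul] at hJ
    exact K4CONJ.J4_ne_zero hJ
  constructor
  · apply (K4.L4_iff _).mpr
    have e1 : (J4 : Matrix (Fin 4) (Fin 4) F) * (G * A * H) = lam • (Hᵀ * (J4 * A) * H) := by
      conv_lhs => rw [hJ]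
      rw [Matrix.smul_mul]
      congr 1
      calc Hᵀ * J4 * H * (G * A * H) = Hᵀ * J4 * (H * G) * A * H := by simp only [Matrix.mul_assoc]
        _ = Hᵀ * (J4 * A) * H := by rw [hHG, Matrix.mul_one]; simp only [Matrix.mul_assoc]
    obtain ⟨c1, c2⟩ := K4CONJ.alt_congr (J4 * A) H hs h0
    obtain ⟨c3, c4⟩ := K4CONJ.alt_smul _ lam c1 c2
    refine ⟨by rw [e1]; exact c3, by rw [e1]; exact c4, μ, ?_⟩
    calc G * A * H * (G * A * H) = G * A * (H * G) * A * H := by simp only [Matrix.mul_assoc]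
      _ = G * (A * A) * H := by rw [hHG, Matrix.mul_one]; simp only [Matrix.mul_assoc]
      _ = μ • (1 : Matrix (Fin 4) (Fin 4) F) := by
        rw [hμ, Matrix.mul_smul, Matrix.smul_mul, Matrix.mul_one, hGH]
  · apply (K4.L4_iff _).mpr
    have e1 : (J4 : Matrix (Fin 4) (Fin 4) F) * (H * A * G) = lam⁻¹ • (Gᵀ * (J4 * A) * G) := by
      have h2 : (J4 : Matrix (Fin 4) (Fin 4) F) * H = lam⁻¹ • (Gᵀ * J4) := by
        have : Gᵀ * J4 = lam • (J4 * H) := by
          calc Gᵀ * J4 = Gᵀ * J4 * (G * H) := by rw [hGH, Matrix.mul_one]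
            _ = (Gᵀ * J4 * G) * H := by simp only [Matrix.mul_assoc]
            _ = lam • (J4 * H) := by rw [hg, Matrix.smul_mul]
        rw [this, smul_smul, inv_mul_cancel₀ hlam, one_smul]
      calc (J4 : Matrix (Fin 4) (Fin 4) F) * (H * A * G) = (J4 * H) * A * G := by
            simp only [Matrix.mul_assoc]
        _ = lam⁻¹ • (Gᵀ * (J4 * A) * G) := by
            rw [h2, Matrix.smul_mul, Matrix.smul_mul]; simp only [Matrix.mul_assoc]
    obtain ⟨c1, c2⟩ := K4CONJ.alt_congr (J4 * A) G hs h0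
    obtain ⟨c3, c4⟩ := K4CONJ.alt_smul _ lam⁻¹ c1 c2
    refine ⟨by rw [e1]; exact c3, by rw [e1]; exact c4, μ, ?_⟩
    calc H * A * G * (H * A * G) = H * A * (G * H) * A * G := by simp only [Matrix.mul_assoc]
      _ = H * (A * A) * G := by rw [hGH, Matrix.mul_one]; simp only [Matrix.mul_assoc]
      _ = μ • (1 : Matrix (Fin 4) (Fin 4) F) := by
        rw [hμ, Matrix.mul_smul, Matrix.smul_mul, Matrix.mul_one, hHG]

end Cfsg.Agent.S5707P
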