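import Mathlib
import Cfsg.Prelude.Def_GeometricClasses
import Cfsg.Prelude.Def_Classical
import Cfsg.Prelude.Def_LieClassical
import Cfsg.Agent.Helper6.S5992Defs
import Cfsg.Agent.Helper28.OrthSum
import Cfsg.Agent.Helper28.Spin6

/-! S5992, piece EMB: `O_{2(d-a)+1}(q)` embeds in the pointwise stabiliser of a hyperbolic
`2a`-space of the standard odd-dimensional quadratic space. -/

set_option autoImplicit false
open scoped MatrixGroups
universe u

namespace Cfsg.Agent.S5992P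

open Cfsg.Agent.Helper2.SympInvol Cfsg.Agent.Helper2.SympUnits Cfsg.Agent.S5961P Cfsg.Agent.S2614
  Cfsg.Agent.S5955P

namespace EMB

open Cfsg.Agent.Helper28.OrthSum Cfsg.Agent.Helper28.Spin Cfsg.Agent.Helper28.IsoTransport
open scoped Matrix

section reindex

variable {F : Type*} [Field F] {κ ι : Type} [Fintype κ] [DecidableEq κ] [Fintype ι]
  [DecidableEq ι]

/-- reindexing of `GL` -/
noncomputable def glReindex (e : κ ≃ ι) : GL κ F ≃* GL ι F :=
  Units.mapEquiv (Matrix.reindexAlgEquiv F F e).toMulEquiv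

theorem glReindex_val (e : κ ≃ ι) (g : GL κ F) :
    ((glReindex e g : GL ι F) : Matrix ι ι F) = Matrix.reindex e e (g : Matrix κ κ F) := rfl

theorem reindex_mulVec_comp (e : κ ≃ ι) (A : Matrix κ κ F) (v : ι → F) :
    (Matrix.reindex e e A *ᵥ v) ∘ e = A *ᵥ (v ∘ e) := by
  funext k
  simp only [Function.comp_apply, Matrix.mulVec, dotProduct, Matrix.reindex_apply,
    Matrix.submatrix_apply, Equiv.symm_apply_apply]
  exact Fintype.sum_equiv e.symm _ _ (fun i => by simp)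

/-- the isometry groups of a form and of its reindexing -/
noncomputable def isoReindex (e : κ ≃ ι) (Q' : (κ → F) → F) (Q : (ι → F) → F)
    (h : ∀ v, Q v = Q' (v ∘ e)) :
    ↥(Cfsg.isometryGroup F Q') →* ↥(Cfsg.isometryGroup F Q) :=
  ((glReindex e).toMonoidHom.comp (Cfsg.isometryGroup F Q').subtype).codRestrict _ (by
    intro g
    rw [mem_isometryGroup_iff]
    intro u
    show Q (Matrix.reindex e e ((g : GL κ F) : Matrix κ κ F) *ᵥ u) = Q u
    rw [h, reindex_mulVec_comp, h u]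
    exact (mem_isometryGroup_iff Q' g.1).mp g.2 (u ∘ e))

theorem isoReindex_val (e : κ ≃ ι) (Q' : (κ → F) → F) (Q : (ι → F) → F)
    (h : ∀ v, Q v = Q' (v ∘ e)) (g : ↥(Cfsg.isometryGroup F Q')) :
    ((isoReindex e Q' Q h g : GL ι F) : Matrix ι ι F) =
      Matrix.reindex e e ((g : GL κ F) : Matrix κ κ F) := rfl

theorem isoReindex_injective (e : κ ≃ ι) (Q' : (κ → F) → F) (Q : (ι → F) → F)
    (h : ∀ v, Q v = Q' (v ∘ e)) : Function.Injective (isoReindex e Q' Q h) := by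
  intro g g' hgg
  have h1 := congrArg (fun x : ↥(Cfsg.isometryGroup F Q) => ((x : GL ι F) : Matrix ι ι F)) hgg
  simp only [isoReindex_val] at h1
  apply Subtype.ext
  apply Units.ext
  exact (Matrix.reindex e e).injective h1

end reindex

section main

variable {F : Type*} [Field F] (d a : ℕ) (had : a ≤ d)

/-- `Fin (d - a) ⊕ Fin a ≃ Fin d` -/
def sg : Fin (d - a) ⊕ Fin a ≃ Fin d :=
  finSumFinEquiv.trans (finCongr (Nat.sub_add_cancel had))

/-- the reindexing `(1 + 2 (d - a)) + 2 a ≃ 1 + 2 d` -/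
def ee : (Unit ⊕ (Fin (d - a) ⊕ Fin (d - a))) ⊕ (Fin a ⊕ Fin a) ≃ Unit ⊕ (Fin d ⊕ Fin d) :=
  (Equiv.sumAssoc Unit (Fin (d - a) ⊕ Fin (d - a)) (Fin a ⊕ Fin a)).trans
    (Equiv.sumCongr (Equiv.refl Unit)
      ((Equiv.sumSumSumComm (Fin (d - a)) (Fin (d - a)) (Fin a) (Fin a)).trans
        (Equiv.sumCongr (sg d a had) (sg d a had))))

theorem ee_unit : ee d a had (Sum.inl (Sum.inl ())) = Sum.inl () := rfl

theorem ee_l1 (i : Fin (d - a)) :
    ee d a had (Sum.inl (Sum.inr (Sum.inl i))) = Sum.inr (Sum.inl (sg d a had (Sum.inl i))) := rfl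

theorem ee_l2 (i : Fin (d - a)) :
    ee d a had (Sum.inl (Sum.inr (Sum.inr i))) = Sum.inr (Sum.inr (sg d a had (Sum.inl i))) := rfl

theorem ee_r1 (j : Fin a) :
    ee d a had (Sum.inr (Sum.inl j)) = Sum.inr (Sum.inl (sg d a had (Sum.inr j))) := rfl

theorem ee_r2 (j : Fin a) :
    ee d a had (Sum.inr (Sum.inr j)) = Sum.inr (Sum.inr (sg d a had (Sum.inr j))) := rfl

/-- the standard odd form is the orthogonal sum of a smaller one and a hyperbolic space -/
theorem quadFormOdd_eq (v : Unit ⊕ (Fin d ⊕ Fin d) → F) :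
    Cfsg.quadFormOdd d F v = Qs (QfOdd (d - a) F) (QfPlus a F) (v ∘ ee d a had) := by
  rw [Qs_apply, QfOdd_coe, QfPlus_coe]
  unfold Cfsg.quadFormOdd Cfsg.quadFormPlus
  rw [← Equiv.sum_comp (sg d a had), Fintype.sum_sum_type, add_assoc]
  rfl

variable (F)

/-- the embedding `g ↦ g ⊕ 1` -/
noncomputable def phi : ↥(Cfsg.isometryGroup F (Cfsg.quadFormOdd (d - a) F)) →*
    ↥(Cfsg.isometryGroup F (Cfsg.quadFormOdd d F)) :=
  (isoReindex (ee d a had) ⇑(Qs (QfOdd (d - a) F) (QfPlus a F)) (Cfsg.quadFormOdd d F)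
      (quadFormOdd_eq d a had)).comp
    ((embL (QfOdd (d - a) F) (QfPlus a F)).comp
      (Subgroup.inclusion (le_of_eq (by rw [QfOdd_coe]))))

theorem phi_val (g : ↥(Cfsg.isometryGroup F (Cfsg.quadFormOdd (d - a) F))) :
    ((phi F d a had g : GL (Unit ⊕ (Fin d ⊕ Fin d)) F) :
      Matrix (Unit ⊕ (Fin d ⊕ Fin d)) (Unit ⊕ (Fin d ⊕ Fin d)) F) =
      Matrix.reindex (ee d a had) (ee d a had)
        (Matrix.fromBlocks ((g : GL (Unit ⊕ (Fin (d - a) ⊕ Fin (d - a))) F) :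
          Matrix (Unit ⊕ (Fin (d - a) ⊕ Fin (d - a))) (Unit ⊕ (Fin (d - a) ⊕ Fin (d - a))) F)
          0 0 (1 : Matrix (Fin a ⊕ Fin a) (Fin a ⊕ Fin a) F)) := rfl

theorem phi_injective : Function.Injective (phi F d a had) := by
  intro g g' hgg
  have h1 := congrArg (fun x : ↥(Cfsg.isometryGroup F (Cfsg.quadFormOdd d F)) =>
    ((x : GL (Unit ⊕ (Fin d ⊕ Fin d)) F) :
      Matrix (Unit ⊕ (Fin d ⊕ Fin d)) (Unit ⊕ (Fin d ⊕ Fin d)) F)) hgg
  simp only [phi_val] at h1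
  have h2 := (Matrix.reindex (ee d a had) (ee d a had)).injective h1
  rw [Matrix.fromBlocks_inj] at h2
  apply Subtype.ext
  apply Units.ext
  exact h2.1

/-- the coordinate change -/
def LL : (Unit ⊕ (Fin d ⊕ Fin d) → F) ≃ₗ[F]
    ((Unit ⊕ (Fin (d - a) ⊕ Fin (d - a))) ⊕ (Fin a ⊕ Fin a) → F) :=
  LinearEquiv.funCongrLeft F F (ee d a had)

theorem LL_apply (v : Unit ⊕ (Fin d ⊕ Fin d) → F) : LL F d a had v = v ∘ ee d a had := rfl

/-- the fixed hyperbolic `2a`-space -/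
def W0 : Submodule F (Unit ⊕ (Fin d ⊕ Fin d) → F) :=
  (LinearMap.range (inrL (Unit ⊕ (Fin (d - a) ⊕ Fin (d - a))) (Fin a ⊕ Fin a) F)).map
    (LL F d a had).symm.toLinearMap

theorem mem_W0 (w : Unit ⊕ (Fin d ⊕ Fin d) → F) :
    w ∈ W0 F d a had ↔ ∃ u : Fin a ⊕ Fin a → F,
      LL F d a had w = Sum.elim (0 : Unit ⊕ (Fin (d - a) ⊕ Fin (d - a)) → F) u := by
  constructor
  · rintro ⟨x, ⟨u, rfl⟩, rfl⟩
    exact ⟨u, by simp [inrL_apply]⟩
  · rintro ⟨u, hu⟩
    refine ⟨Sum.elim 0 u, ⟨u, rfl⟩, ?_⟩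
    rw [← hu]
    simp

theorem QfOdd_LL (v : Unit ⊕ (Fin d ⊕ Fin d) → F) :
    QfOdd d F v = Qs (QfOdd (d - a) F) (QfPlus a F) (LL F d a had v) := by
  rw [LL_apply, ← quadFormOdd_eq, QfOdd_coe]

theorem polar_LL (x y : Unit ⊕ (Fin d ⊕ Fin d) → F) :
    QuadraticMap.polar (QfOdd d F) x y =
      QuadraticMap.polar (Qs (QfOdd (d - a) F) (QfPlus a F)) (LL F d a had x) (LL F d a had y) := by
  unfold QuadraticMap.polar
  rw [QfOdd_LL F d a had, QfOdd_LL F d a had, QfOdd_LL F d a had, map_add]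

theorem finrank_W0 : Module.finrank F (W0 F d a had) = 2 * a := by
  unfold W0
  rw [LinearEquiv.finrank_map_eq, LinearMap.finrank_range_of_inj inrL_injective,
    Module.finrank_fintype_fun_eq_card, Fintype.card_sum, Fintype.card_fin]
  ring

theorem phi_fix (g : ↥(Cfsg.isometryGroup F (Cfsg.quadFormOdd (d - a) F)))
    (w : Unit ⊕ (Fin d ⊕ Fin d) → F) (hw : w ∈ W0 F d a had) :
    ((phi F d a had g : GL (Unit ⊕ (Fin d ⊕ Fin d)) F) :
      Matrix (Unit ⊕ (Fin d ⊕ Fin d)) (Unit ⊕ (Fin d ⊕ Fin d)) F) *ᵥ w = w := by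
  obtain ⟨u, hu⟩ := (mem_W0 F d a had w).mp hw
  apply (LL F d a had).injective
  rw [LL_apply, phi_val, reindex_mulVec_comp, ← LL_apply, hu, Matrix.fromBlocks_mulVec]
  simp

theorem nondeg_W0 : Nondeg (PB (QfOdd d F)) (W0 F d a had) := by
  intro w hw hw0
  obtain ⟨u, hu⟩ := (mem_W0 F d a had w).mp hw
  have hu0 : u ≠ 0 := by
    rintro rfl
    apply hw0
    apply (LL F d a had).injective
    rw [hu, map_zero]
    funext s
    rcases s with s | s <;> rfl
  obtain ⟨u', hu'⟩ : ∃ u', QuadraticMap.polar (QfPlus a F) u u' ≠ 0 := by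
    by_contra hcon
    push Not at hcon
    exact hu0 ((QfPlus_nondeg (F := F) a).1 u hcon)
  refine ⟨(LL F d a had).symm (Sum.elim 0 u'), ?_, ?_⟩
  · rw [mem_W0]
    exact ⟨u', by simp⟩
  · rw [PB_apply, polar_LL F d a had, hu, LinearEquiv.apply_symm_apply, polar_Qs,
      Sum.elim_comp_inl, Sum.elim_comp_inl, Sum.elim_comp_inr, Sum.elim_comp_inr,
      QuadraticMap.polar_zero_left, zero_add]
    exact hu'

theorem plus_W0 : Plus (QfOdd d F) (W0 F d a had) := by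
  refine ⟨(LinearMap.range ((inrL (Unit ⊕ (Fin (d - a) ⊕ Fin (d - a))) (Fin a ⊕ Fin a) F) ∘ₗ
      (inlL (Fin a) (Fin a) F))).map (LL F d a had).symm.toLinearMap, ?_, ?_, ?_⟩
  · apply Submodule.map_mono
    exact LinearMap.range_comp_le_range _ _
  · rintro _ ⟨x, ⟨t, rfl⟩, rfl⟩
    show QfOdd d F ((LL F d a had).symm _) = 0
    rw [QfOdd_LL F d a had, LinearEquiv.apply_symm_apply, LinearMap.comp_apply, inrL_apply,
      Qs_inr, inlL_apply, QfPlus_coe]
    unfold Cfsg.quadFormPlus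
    apply Finset.sum_eq_zero
    intro i _
    simp
  · have hinj : Function.Injective
        ((inrL (Unit ⊕ (Fin (d - a) ⊕ Fin (d - a))) (Fin a ⊕ Fin a) F) ∘ₗ
          (inlL (Fin a) (Fin a) F)) := by
      rw [LinearMap.coe_comp]
      exact inrL_injective.comp inlL_injective
    rw [LinearEquiv.finrank_map_eq, LinearMap.finrank_range_of_inj hinj,
      Module.finrank_fintype_fun_eq_card, Fintype.card_fin, finrank_W0]

end main

end EMB

open EMB in
/-- EMB -/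
theorem exists_emb_fix {F : Type*} [Field F] [Fintype F] (h2 : (2 : F) ≠ 0) (d a : ℕ)
    (had : a ≤ d) :
    ∃ (φ : ↥(Cfsg.isometryGroup F (Cfsg.quadFormOdd (d - a) F)) →*
          ↥(Cfsg.isometryGroup F (Cfsg.quadFormOdd d F)))
      (W₀ : Submodule F (Unit ⊕ (Fin d ⊕ Fin d) → F)),
      Function.Injective φ ∧ IsTy (QfOdd d F) true (2 * a) W₀ ∧
      ∀ g, W₀.map (Matrix.toLin' (((φ g : ↥(Cfsg.isometryGroup F (Cfsg.quadFormOdd d F))) :
        GL (Unit ⊕ (Fin d ⊕ Fin d)) F) :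
          Matrix (Unit ⊕ (Fin d ⊕ Fin d)) (Unit ⊕ (Fin d ⊕ Fin d)) F)) = W₀ := by
  refine ⟨phi F d a had, W0 F d a had, phi_injective F d a had,
    ⟨finrank_W0 F d a had, nondeg_W0 F d a had, ⟨fun _ => rfl, fun _ => plus_W0 F d a had⟩⟩, ?_⟩
  intro g
  ext x
  constructor
  · rintro ⟨w, hw, rfl⟩
    rw [Matrix.toLin'_apply, phi_fix F d a had g w hw]
    exact hw
  · intro hx
    exact ⟨x, hx, by rw [Matrix.toLin'_apply, phi_fix F d a had g x hx]⟩

end Cfsg.Agent.S5992P
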