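import Mathlib
import Cfsg.Prelude.Def_GeometricClasses
import Cfsg.Agent.Helper28.OrthMax3
import Cfsg.Agent.Helper28.NonMax
import Cfsg.Agent.Helper28.OmegaCenter

set_option autoImplicit false

/-! Orthogonal frames of constant norm in small nondegenerate quadratic spaces over `F_3`. -/

namespace Cfsg.Agent.Helper28.OFN

open Matrix Module Cfsg.Agent.Helper28.Sg Cfsg.Agent.Helper28.OM Cfsg.Agent.Helper28.Spin

section field

variable {F : Type*} [Field F] [Fintype F]

theorem three_eq_zero (hq : Fintype.card F = 3) : (3 : F) = 0 := by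
  have : ((3 : ℕ) : F) = 0 := by rw [← hq]; exact Nat.cast_card_eq_zero F
  exact_mod_cast this

theorem two_ne_zero3 (hq : Fintype.card F = 3) : (2 : F) ≠ 0 := by
  intro h
  have h3 := three_eq_zero hq
  have : (1 : F) = 0 := by linear_combination h3 - h
  exact one_ne_zero this

theorem mul_self_eq_one3 (hq : Fintype.card F = 3) {x : F} (hx : x ≠ 0) : x * x = 1 := by
  have := FiniteField.pow_card_sub_one_eq_one x hx
  rw [hq] at this
  rw [← this]; ring

theorem eq_one_or_neg_one3 (hq : Fintype.card F = 3) {x : F} (hx : x ≠ 0) : x = 1 ∨ x = -1 := by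
  have h := mul_self_eq_one3 hq hx
  have : (x - 1) * (x + 1) = 0 := by linear_combination h
  rcases mul_eq_zero.mp this with h1 | h1
  · left; exact sub_eq_zero.mp h1
  · right; exact eq_neg_of_add_eq_zero_left h1

end field

variable {F : Type*} [Field F] [Fintype F] {ι : Type} [Fintype ι] [DecidableEq ι]
  (Q : QuadraticForm F (ι → F))

/-- an orthogonal family of vectors of norm `ε` spanning `W` -/
def IsFrame (W : Submodule F (ι → F)) (k : ℕ) (ε : F) (e : Fin k → (ι → F)) : Prop :=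
  (∀ j, e j ∈ W) ∧ (∀ j, Q (e j) = ε) ∧ (∀ j j', j ≠ j' → B Q (e j) (e j') = 0) ∧
    ∀ v ∈ W, ∃ c : Fin k → F, v = ∑ j, c j • e j

theorem B_sum_right {k : ℕ} (x : ι → F) (c : Fin k → F) (e : Fin k → (ι → F)) :
    B Q x (∑ j, c j • e j) = ∑ j, c j * B Q x (e j) := by
  have : B Q x (∑ j, c j • e j) = QuadraticMap.polarBilin Q x (∑ j, c j • e j) := rfl
  rw [this, map_sum]
  apply Finset.sum_congr rfl
  intro j _
  rw [map_smul]
  rfl

theorem map_smul_sum_aux {W W' : Submodule F (ι → F)} (φ : W ≃ₗ[F] W') {k : ℕ} (c : Fin k → F)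
    (x : Fin k → W) : φ (∑ j, c j • x j) = ∑ j, c j • φ (x j) := by
  rw [map_sum]
  apply Finset.sum_congr rfl
  intro j _
  rw [map_smul]

/-- an orthogonal basis of a nondegenerate subspace in odd characteristic -/
theorem exists_orth_basis (h2 : (2 : F) ≠ 0) (W : Submodule F (ι → F))
    (hW : Cfsg.Geo.IsNondegenerateOn (QuadraticMap.polar ⇑Q) W) :
    ∃ v : Fin (finrank F W) → (ι → F), (∀ j, v j ∈ W) ∧ (∀ j, Q (v j) ≠ 0) ∧
      (∀ j j', j ≠ j' → B Q (v j) (v j') = 0) ∧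
      ∀ x ∈ W, ∃ c : Fin (finrank F W) → F, x = ∑ j, c j • v j := by
  classical
  haveI : Invertible (2 : F) := invertibleOfNonzero h2
  set BW : LinearMap.BilinForm F W := LinearMap.BilinForm.restrict (QuadraticMap.polarBilin Q) W with hBW
  have hsymm : LinearMap.IsSymm BW := by
    refine ⟨fun x y => ?_⟩
    show QuadraticMap.polar ⇑Q (x : ι → F) (y : ι → F) = QuadraticMap.polar ⇑Q (y : ι → F) (x : ι → F)
    exact QuadraticMap.polar_comm _ _ _
  obtain ⟨b, hb⟩ := LinearMap.BilinForm.exists_orthogonal_basis hsymm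
  have horth : ∀ j j', j ≠ j' → B Q (b j : ι → F) (b j' : ι → F) = 0 := by
    intro j j' hjj'
    have := hb hjj'
    exact this
  have hspan : ∀ x ∈ W, ∃ c : Fin (finrank F W) → F, x = ∑ j, c j • (b j : ι → F) := by
    intro x hx
    refine ⟨fun j => b.repr ⟨x, hx⟩ j, ?_⟩
    have := congrArg (Subtype.val) (b.sum_repr ⟨x, hx⟩)
    simp only [Submodule.coe_sum, Submodule.coe_smul] at this
    exact this.symm
  refine ⟨fun j => (b j : ι → F), fun j => (b j).2, ?_, horth, hspan⟩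
  intro j hQj
  have hbj : (b j : ι → F) ≠ 0 := fun h => b.ne_zero j (Subtype.ext h)
  obtain ⟨-, x, hx, hne⟩ := hW (b j) (b j).2 hbj
  apply hne
  obtain ⟨c, rfl⟩ := hspan x hx
  show B Q (b j : ι → F) _ = 0
  rw [B_sum_right]
  apply Finset.sum_eq_zero
  intro j' _
  by_cases hjj' : j = j'
  · subst hjj'
    rw [B_self, hQj, mul_zero, mul_zero]
  · rw [horth j j' hjj', mul_zero]

theorem exists_orth_basis' (h2 : (2 : F) ≠ 0) (W : Submodule F (ι → F))
    (hW : Cfsg.Geo.IsNondegenerateOn (QuadraticMap.polar ⇑Q) W) (k : ℕ) (hk : finrank F W = k) :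
    ∃ v : Fin k → (ι → F), (∀ j, v j ∈ W) ∧ (∀ j, Q (v j) ≠ 0) ∧
      (∀ j j', j ≠ j' → B Q (v j) (v j') = 0) ∧
      ∀ x ∈ W, ∃ c : Fin k → F, x = ∑ j, c j • v j := by
  subst hk
  exact exists_orth_basis Q h2 W hW

theorem B_add_left' (x y z : ι → F) : B Q (x + y) z = B Q x z + B Q y z :=
  QuadraticMap.polar_add_left _ _ _ _

theorem B_add_right' (x y z : ι → F) : B Q x (y + z) = B Q x y + B Q x z :=
  QuadraticMap.polar_add_right _ _ _ _

theorem B_sub_left' (x y z : ι → F) : B Q (x - y) z = B Q x z - B Q y z :=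
  QuadraticMap.polar_sub_left _ _ _ _

theorem B_sub_right' (x y z : ι → F) : B Q x (y - z) = B Q x y - B Q x z :=
  QuadraticMap.polar_sub_right _ _ _ _

theorem B_smul_left' (c : F) (x z : ι → F) : B Q (c • x) z = c * B Q x z := by
  simp [B, QuadraticMap.polar_smul_left]

theorem B_smul_right' (c : F) (x z : ι → F) : B Q x (c • z) = c * B Q x z := by
  simp [B, QuadraticMap.polar_smul_right]

theorem Q_sub' (x y : ι → F) : Q (x - y) = Q x + Q y - B Q x y := by
  have h := Q_add Q (x - y) y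
  rw [sub_add_cancel, B_sub_left', B_self] at h
  linear_combination -h

theorem neg_of_ne3 (hq : Fintype.card F = 3) {a b : F} (ha : a ≠ 0) (hb : b ≠ 0) (hab : a ≠ b) :
    b = -a := by
  rcases eq_one_or_neg_one3 hq ha with rfl | rfl <;> rcases eq_one_or_neg_one3 hq hb with rfl | rfl
  · exact absurd rfl hab
  · rfl
  · simp
  · exact absurd rfl hab

/-- frame in an anisotropic plane over `F_3` -/
theorem exists_frame_two (hq : Fintype.card F = 3) (W : Submodule F (ι → F))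
    (hW : Cfsg.Geo.IsNondegenerateOn (QuadraticMap.polar ⇑Q) W) (hfr : finrank F W = 2)
    (haniso : ∀ v ∈ W, v ≠ 0 → Q v ≠ 0) :
    ∃ (ε : F) (e : Fin 2 → (ι → F)), ε ≠ 0 ∧ IsFrame Q W 2 ε e := by
  have h2 := two_ne_zero3 hq
  obtain ⟨v, hmem, hne, horth, hspan⟩ := exists_orth_basis' Q h2 W hW 2 hfr
  have h01 : Q (v 0) = Q (v 1) := by
    by_contra hne'
    have h1 := neg_of_ne3 hq (hne 0) (hne 1) hne'
    have hsum : Q (v 0 + v 1) = 0 := by
      rw [Q_add, h1, horth 0 1 (by decide)]; ring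
    have hnz : v 0 + v 1 ≠ 0 := by
      intro h0
      have : B Q (v 0 + v 1) (v 0) = 0 := by rw [h0]; simp [B]
      rw [B_add_left', B_self, horth 1 0 (by decide), add_zero] at this
      exact hne 0 ((mul_eq_zero.mp this).resolve_left h2)
    exact haniso _ (W.add_mem (hmem 0) (hmem 1)) hnz hsum
  refine ⟨Q (v 0), v, hne 0, hmem, ?_, horth, hspan⟩
  intro j
  fin_cases j
  · rfl
  · exact h01.symm

theorem frame3_of (hq : Fintype.card F = 3) (W : Submodule F (ι → F)) (x y z : ι → F)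
    (hx : x ∈ W) (hy : y ∈ W) (hz : z ∈ W) (a : F) (Qx : Q x = a) (Qy : Q y = a)
    (Qz : Q z = -a) (hxy : B Q x y = 0) (hxz : B Q x z = 0) (hyz : B Q y z = 0)
    (hspan : ∀ v ∈ W, ∃ c₀ c₁ c₂ : F, v = c₀ • x + c₁ • y + c₂ • z) :
    IsFrame Q W 3 (-a) ![x + y, x - y, z] := by
  have h3 := three_eq_zero hq
  have hyx : B Q y x = 0 := by rw [B_comm]; exact hxy
  have hzx : B Q z x = 0 := by rw [B_comm]; exact hxz
  have hzy : B Q z y = 0 := by rw [B_comm]; exact hyz
  refine ⟨?_, ?_, ?_, ?_⟩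
  · intro j
    fin_cases j
    · exact W.add_mem hx hy
    · exact W.sub_mem hx hy
    · exact hz
  · intro j
    fin_cases j
    · show Q (x + y) = -a
      rw [Q_add, Qx, Qy, hxy]; linear_combination a * h3
    · show Q (x - y) = -a
      rw [Q_sub', Qx, Qy, hxy]; linear_combination a * h3
    · exact Qz
  · intro j j' hjj'
    fin_cases j <;> fin_cases j'
    · exact absurd rfl hjj'
    · show B Q (x + y) (x - y) = 0
      rw [B_add_left', B_sub_right', B_sub_right', B_self, B_self, hxy, hyx, Qx, Qy]; ring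
    · show B Q (x + y) z = 0
      rw [B_add_left', hxz, hyz, add_zero]
    · show B Q (x - y) (x + y) = 0
      rw [B_sub_left', B_add_right', B_add_right', B_self, B_self, hxy, hyx, Qx, Qy]; ring
    · exact absurd rfl hjj'
    · show B Q (x - y) z = 0
      rw [B_sub_left', hxz, hyz, sub_zero]
    · show B Q z (x + y) = 0
      rw [B_add_right', hzx, hzy, add_zero]
    · show B Q z (x - y) = 0
      rw [B_sub_right', hzx, hzy, sub_zero]
    · exact absurd rfl hjj'
  · intro v hv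
    obtain ⟨c₀, c₁, c₂, rfl⟩ := hspan v hv
    refine ⟨![-(c₀ + c₁), -(c₀ - c₁), c₂], ?_⟩
    rw [Fin.sum_univ_three]
    simp only [Matrix.cons_val_zero, Matrix.cons_val_one, Matrix.cons_val_two, Matrix.head_cons,
      Matrix.tail_cons]
    have e1 : c₀ • x = (-(c₀ + c₁) + -(c₀ - c₁)) • x := by
      congr 1; linear_combination c₀ * h3
    have e2 : c₁ • y = (-(c₀ + c₁) - -(c₀ - c₁)) • y := by
      congr 1; linear_combination c₁ * h3
    rw [e1, e2]
    simp only [smul_add, smul_sub, add_smul, sub_smul]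
    abel

/-- frame in a nondegenerate 3-space over `F_3` -/
theorem exists_frame_three (hq : Fintype.card F = 3) (W : Submodule F (ι → F))
    (hW : Cfsg.Geo.IsNondegenerateOn (QuadraticMap.polar ⇑Q) W) (hfr : finrank F W = 3) :
    ∃ (ε : F) (e : Fin 3 → (ι → F)), ε ≠ 0 ∧ IsFrame Q W 3 ε e := by
  have h2 := two_ne_zero3 hq
  obtain ⟨v, hmem, hne, horth, hspan⟩ := exists_orth_basis' Q h2 W hW 3 hfr
  have hspan' : ∀ x ∈ W, ∃ c₀ c₁ c₂ : F, x = c₀ • v 0 + c₁ • v 1 + c₂ • v 2 := by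
    intro x hx
    obtain ⟨c, hc⟩ := hspan x hx
    rw [Fin.sum_univ_three] at hc
    exact ⟨c 0, c 1, c 2, hc⟩
  by_cases h01 : Q (v 0) = Q (v 1)
  · by_cases h12 : Q (v 1) = Q (v 2)
    · refine ⟨Q (v 0), v, hne 0, hmem, ?_, horth, hspan⟩
      intro j
      fin_cases j
      · rfl
      · exact h01.symm
      · exact (h01.trans h12).symm
    · have h2' := neg_of_ne3 hq (hne 1) (hne 2) h12
      refine ⟨-(Q (v 0)), _, neg_ne_zero.mpr (hne 0),
        frame3_of Q hq W (v 0) (v 1) (v 2) (hmem 0) (hmem 1) (hmem 2) (Q (v 0)) rfl h01.symm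
          (by rw [h2', h01]) (horth 0 1 (by decide)) (horth 0 2 (by decide))
          (horth 1 2 (by decide)) hspan'⟩
  · have h1' := neg_of_ne3 hq (hne 0) (hne 1) h01
    by_cases h12 : Q (v 1) = Q (v 2)
    · refine ⟨-(Q (v 1)), _, neg_ne_zero.mpr (hne 1),
        frame3_of Q hq W (v 1) (v 2) (v 0) (hmem 1) (hmem 2) (hmem 0) (Q (v 1)) rfl h12.symm
          (by rw [h1']; simp) (horth 1 2 (by decide)) (horth 1 0 (by decide))
          (horth 2 0 (by decide)) ?_⟩
      intro x hx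
      obtain ⟨c₀, c₁, c₂, rfl⟩ := hspan' x hx
      exact ⟨c₁, c₂, c₀, by abel⟩
    · have h2' := neg_of_ne3 hq (hne 1) (hne 2) h12
      have h02 : Q (v 2) = Q (v 0) := by rw [h2', h1']; simp
      refine ⟨-(Q (v 0)), _, neg_ne_zero.mpr (hne 0),
        frame3_of Q hq W (v 0) (v 2) (v 1) (hmem 0) (hmem 2) (hmem 1) (Q (v 0)) rfl h02
          h1' (horth 0 2 (by decide)) (horth 0 1 (by decide))
          (horth 2 1 (by decide)) ?_⟩
      intro x hx
      obtain ⟨c₀, c₁, c₂, rfl⟩ := hspan' x hx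
      exact ⟨c₀, c₂, c₁, by abel⟩

/-- transport of a frame along an isometry of subspaces -/
theorem frame_transport (W W' : Submodule F (ι → F)) (φ : W ≃ₗ[F] W')
    (hφ : ∀ w : W, Q ((φ w : W') : ι → F) = Q (w : ι → F)) {k : ℕ} {ε : F} {e : Fin k → (ι → F)}
    (he : IsFrame Q W k ε e) :
    IsFrame Q W' k ε (fun j => ((φ ⟨e j, he.1 j⟩ : W') : ι → F)) := by
  obtain ⟨h1, h2, h3, h4⟩ := he
  refine ⟨fun j => (φ ⟨e j, h1 j⟩).2, fun j => by rw [hφ]; exact h2 j, ?_, ?_⟩
  · intro j j' hjj'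
    show QuadraticMap.polar ⇑Q _ _ = 0
    unfold QuadraticMap.polar
    have e1 : ((φ ⟨e j, h1 j⟩ : W') : ι → F) + ((φ ⟨e j', h1 j'⟩ : W') : ι → F) =
        ((φ (⟨e j, h1 j⟩ + ⟨e j', h1 j'⟩) : W') : ι → F) := by
      rw [map_add]; rfl
    rw [e1, hφ, hφ, hφ]
    exact h3 j j' hjj'
  · intro v hv
    obtain ⟨c, hc⟩ := h4 (φ.symm ⟨v, hv⟩ : W) (φ.symm ⟨v, hv⟩).2
    refine ⟨c, ?_⟩
    have e1 : φ.symm ⟨v, hv⟩ = ∑ j, c j • (⟨e j, h1 j⟩ : W) := by
      apply Subtype.ext
      rw [hc]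
      simp
    have e2 : (⟨v, hv⟩ : W') = ∑ j, c j • φ ⟨e j, h1 j⟩ := by
      rw [← map_smul_sum_aux φ c (fun j => (⟨e j, h1 j⟩ : W)), ← e1, LinearEquiv.apply_symm_apply]
    have := congrArg Subtype.val e2
    simpa using this

end Cfsg.Agent.Helper28.OFN
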