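import Mathlib
import Cfsg.Prelude.Def_GeometricClasses
import Cfsg.Agent.Helper28.SpMax2

set_option autoImplicit false

/-! Maximality of the stabiliser of a decomposition into nondegenerate subspaces in `Sp_2m(F)`:
abstract part. -/

namespace Cfsg.Agent.Helper28.SpMax

open Matrix Cfsg.Agent.Helper2.Sp

variable {F : Type*} [Field F] {m : ℕ}

local notation "V" => (Fin m ⊕ Fin m → F)
local notation "Sp" => Matrix.symplecticGroup (Fin m) F

theorem om_zero_l (u : V) : om (0 : V) u = 0 := by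
  unfold om; simp

theorem om_zero_r (u : V) : om u (0 : V) = 0 := by
  unfold om; simp

theorem om_sum_left {ι : Type*} (s : Finset ι) (c : ι → V) (u : V) :
    om (∑ i ∈ s, c i) u = ∑ i ∈ s, om (c i) u := by
  classical
  induction s using Finset.induction_on with
  | empty => simp [om_zero_l]
  | insert a s ha ih => rw [Finset.sum_insert ha, Finset.sum_insert ha, om_add_left, ih]

theorem om_sum_right {ι : Type*} (s : Finset ι) (c : ι → V) (u : V) :
    om u (∑ i ∈ s, c i) = ∑ i ∈ s, om u (c i) := by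
  classical
  induction s using Finset.induction_on with
  | empty => simp [om_zero_r]
  | insert a s ha ih => rw [Finset.sum_insert ha, Finset.sum_insert ha, om_add_right, ih]

/-- orthogonal decomposition into nondegenerate subspaces (abstract hypotheses) -/
structure OD {t : ℕ} (D : Fin t → Submodule F V) : Prop where
  nd : ∀ i, ∀ a ∈ D i, a ≠ 0 → ∃ u ∈ D i, om a u ≠ 0
  orth : ∀ i j, i ≠ j → ∀ u ∈ D i, ∀ v ∈ D j, om u v = 0
  dec : ∀ v : V, ∃ c : Fin t → V, (∀ i, c i ∈ D i) ∧ ∑ i, c i = v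
  ne : ∀ i, ∃ d ∈ D i, d ≠ 0

section

variable {t : ℕ} {D : Fin t → Submodule F (Fin m ⊕ Fin m → F)}

theorem OD.om_sum_mem (hD : OD D) {c : Fin t → V} (hc : ∀ i, c i ∈ D i) {j : Fin t} {u : V}
    (hu : u ∈ D j) : om (∑ i, c i) u = om (c j) u := by
  rw [om_sum_left, Finset.sum_eq_single j]
  · intro i _ hij
    exact hD.orth i j hij _ (hc i) _ hu
  · intro h; exact absurd (Finset.mem_univ j) h

theorem OD.om_mem_sum (hD : OD D) {c : Fin t → V} (hc : ∀ i, c i ∈ D i) {j : Fin t} {u : V}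
    (hu : u ∈ D j) : om u (∑ i, c i) = om u (c j) := by
  rw [om_swap, hD.om_sum_mem hc hu, ← om_swap]

theorem OD.om_sum_sum (hD : OD D) {v w : Fin t → V} (hv : ∀ i, v i ∈ D i) (hw : ∀ i, w i ∈ D i) :
    om (∑ i, v i) (∑ i, w i) = ∑ i, om (v i) (w i) := by
  rw [om_sum_right]
  exact Finset.sum_congr rfl (fun i _ => hD.om_sum_mem hv (hw i))

theorem OD.eq_zero_of_sum (hD : OD D) {c : Fin t → V} (hc : ∀ i, c i ∈ D i)
    (h : ∑ i, c i = 0) (j : Fin t) : c j = 0 := by
  by_contra hne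
  obtain ⟨u, hu, h1⟩ := hD.nd j (c j) (hc j) hne
  rw [← hD.om_sum_mem hc hu, h, om_zero_l] at h1
  exact h1 rfl

theorem OD.idx_eq (hD : OD D) {a b : Fin t} {x : V} (ha : x ∈ D a) (hb : x ∈ D b) (hx : x ≠ 0) :
    a = b := by
  by_contra hab
  obtain ⟨u, hu, h1⟩ := hD.nd a x ha hx
  exact h1 (by rw [om_swap]; rw [hD.orth a b hab u hu x hb, neg_zero])

/-- if `y₀ ≠ 0` lies in `D j₀`, `y` lies in some member and `y + y₀` lies in some member,
then `y ∈ D j₀`. -/
theorem OD.mem_of_add (hD : OD D) {j₀ j₁ j₂ : Fin t} {y y₀ : V} (hy₀ : y₀ ∈ D j₀) (h0 : y₀ ≠ 0)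
    (hy : y ∈ D j₁) (hs : y + y₀ ∈ D j₂) : y ∈ D j₀ := by
  by_cases h1 : j₁ = j₀
  · rw [← h1]; exact hy
  by_cases h2 : j₂ = j₀
  · rw [h2] at hs
    have := (D j₀).sub_mem hs hy₀
    rwa [add_sub_cancel_right] at this
  exfalso
  obtain ⟨u, hu, h3⟩ := hD.nd j₀ y₀ hy₀ h0
  apply h3
  have e : y₀ = (y + y₀) - y := by abel
  rw [e, om_sub_left, hD.orth j₂ j₀ h2 _ hs _ hu, hD.orth j₁ j₀ h1 _ hy _ hu, sub_zero]

/-- all vectors with support exactly `S` lie in `SS M` -/
def Good (D : Fin t → Submodule F V) (M : Subgroup Sp) (S : Finset (Fin t)) : Prop :=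
  ∀ c : Fin t → V, (∀ i, c i ∈ D i) → (∀ i, c i ≠ 0 ↔ i ∈ S) → ∑ i, c i ∈ SS M

theorem OD.step (hD : OD D) (M : Subgroup Sp) (hS1 : ∀ i, ∀ v ∈ D i, v ∈ SS M)
    {c : Fin t → V} (hc : ∀ i, c i ∈ D i) (j : Fin t) {a' : V} (ha' : a' ∈ D j)
    (hcj : c j ≠ 0) (ha0 : a' ≠ 0) (h : ∑ i, c i ∈ SS M) :
    ∑ i, Function.update c j a' i ∈ SS M := by
  classical
  have hb : ∀ u ∈ D j, om u (∑ i ∈ Finset.univ.erase j, c i) = 0 := by
    intro u hu
    rw [om_sum_right]
    apply Finset.sum_eq_zero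
    intro i hi
    exact hD.orth j i (Finset.ne_of_mem_erase hi).symm u hu _ (hc i)
  rw [← Finset.add_sum_erase _ _ (Finset.mem_univ j)] at h
  rw [← Finset.add_sum_erase _ _ (Finset.mem_univ j), Function.update_self]
  have e : ∑ i ∈ Finset.univ.erase j, Function.update c j a' i = ∑ i ∈ Finset.univ.erase j, c i := by
    apply Finset.sum_congr rfl
    intro i hi
    rw [Function.update_of_ne (Finset.ne_of_mem_erase hi)]
  rw [e]
  exact SS_move M (D j) (hS1 j) (hD.nd j) (hc j) ha' hcj ha0 _ hb h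

theorem OD.spread (hD : OD D) (M : Subgroup Sp) (hS1 : ∀ i, ∀ v ∈ D i, v ∈ SS M)
    {c0 c : Fin t → V} (hc0 : ∀ i, c0 i ∈ D i) (hc : ∀ i, c i ∈ D i)
    (hsupp : ∀ i, c0 i ≠ 0 ↔ c i ≠ 0) (h : ∑ i, c0 i ∈ SS M) : ∑ i, c i ∈ SS M := by
  classical
  have key : ∀ A : Finset (Fin t), ∑ i, (if i ∈ A then c i else c0 i) ∈ SS M := by
    intro A
    induction A using Finset.induction_on with
    | empty => simpa using h
    | insert j A hj ih =>
      have hmem : ∀ i, (if i ∈ A then c i else c0 i) ∈ D i := by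
        intro i; split_ifs
        · exact hc i
        · exact hc0 i
      have e : (fun i => if i ∈ insert j A then c i else c0 i) =
          Function.update (fun i => if i ∈ A then c i else c0 i) j (c j) := by
        funext i
        by_cases hij : i = j
        · subst hij
          rw [Function.update_self, if_pos (Finset.mem_insert_self _ _)]
        · rw [Function.update_of_ne hij]
          by_cases hiA : i ∈ A
          · rw [if_pos hiA, if_pos (Finset.mem_insert_of_mem hiA)]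
          · rw [if_neg hiA, if_neg (by
              intro h'
              rcases Finset.mem_insert.mp h' with h'' | h''
              · exact hij h''
              · exact hiA h'')]
      by_cases h0 : c0 j = 0
      · have h0' : c j = 0 := by
          by_contra hne
          exact ((hsupp j).mpr hne) h0
        have e2 : (fun i => if i ∈ insert j A then c i else c0 i) =
            (fun i => if i ∈ A then c i else c0 i) := by
          rw [e]
          funext i
          by_cases hij : i = j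
          · subst hij
            rw [Function.update_self, if_neg hj, h0, h0']
          · rw [Function.update_of_ne hij]
        have : ∑ i, (fun i => if i ∈ insert j A then c i else c0 i) i ∈ SS M := by
          rw [e2]; exact ih
        exact this
      · have h0' : c j ≠ 0 := (hsupp j).mp h0
        have h1 := hD.step M hS1 hmem j (hc j) (by
          show (if j ∈ A then c j else c0 j) ≠ 0
          rw [if_neg hj]; exact h0) h0' ih
        have : ∑ i, (fun i => if i ∈ insert j A then c i else c0 i) i ∈ SS M := by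
          rw [e]; exact h1
        exact this
  have := key Finset.univ
  simpa using this

theorem OD.good_of_mem (hD : OD D) (M : Subgroup Sp) (hS1 : ∀ i, ∀ v ∈ D i, v ∈ SS M)
    {c0 : Fin t → V} (hc0 : ∀ i, c0 i ∈ D i) {S : Finset (Fin t)}
    (hS : ∀ i, c0 i ≠ 0 ↔ i ∈ S) (h : ∑ i, c0 i ∈ SS M) : Good D M S := by
  intro c hc hcS
  exact hD.spread M hS1 hc0 hc (fun i => by rw [hS i, hcS i]) h

/-- a family with prescribed support -/
theorem OD.exists_family (hD : OD D) (S : Finset (Fin t)) :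
    ∃ c : Fin t → V, (∀ i, c i ∈ D i) ∧ ∀ i, c i ≠ 0 ↔ i ∈ S := by
  classical
  choose d hd hd0 using hD.ne
  refine ⟨fun i => if i ∈ S then d i else 0, ?_, ?_⟩
  · intro i
    show (if i ∈ S then d i else 0) ∈ D i
    split_ifs
    · exact hd i
    · exact (D i).zero_mem
  · intro i
    show (if i ∈ S then d i else 0) ≠ 0 ↔ i ∈ S
    by_cases hi : i ∈ S
    · rw [if_pos hi]; exact ⟨fun _ => hi, fun _ => hd0 i⟩
    · rw [if_neg hi]; exact ⟨fun h => absurd rfl h, fun h => absurd h hi⟩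

theorem OD.good_perm (hD : OD D) (M : Subgroup Sp) (hS1 : ∀ i, ∀ v ∈ D i, v ∈ SS M)
    {S : Finset (Fin t)} (hS : Good D M S) (σ : Equiv.Perm (Fin t)) {h : Sp} (hh : h ∈ M)
    (hσ : ∀ i, ∀ x ∈ D i, (h : Matrix (Fin m ⊕ Fin m) (Fin m ⊕ Fin m) F) *ᵥ x ∈ D (σ i)) :
    Good D M (S.map σ.toEmbedding) := by
  classical
  obtain ⟨c, hc, hcS⟩ := hD.exists_family S
  have h1 : ∑ i, c i ∈ SS M := hS c hc hcS
  have h2 := SS_map M h1 hh
  have hinj : ∀ x : V, (h : Matrix (Fin m ⊕ Fin m) (Fin m ⊕ Fin m) F) *ᵥ x = 0 → x = 0 := by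
    intro x hx
    have := congrArg (fun z => ((h⁻¹ : Sp) : Matrix (Fin m ⊕ Fin m) (Fin m ⊕ Fin m) F) *ᵥ z) hx
    simp only [← mul_mulVec, inv_mul_cancel, mulVec_zero] at this
    simpa using this
  have h3 : (h : Matrix (Fin m ⊕ Fin m) (Fin m ⊕ Fin m) F) *ᵥ (∑ i, c i) =
      ∑ j, (h : Matrix (Fin m ⊕ Fin m) (Fin m ⊕ Fin m) F) *ᵥ c (σ.symm j) := by
    rw [Matrix.mulVec_sum]
    exact (Equiv.sum_comp σ.symm (fun i => (h : Matrix (Fin m ⊕ Fin m) (Fin m ⊕ Fin m) F) *ᵥ c i)).symm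
  rw [h3] at h2
  refine hD.good_of_mem M hS1 (c0 := fun j => (h : Matrix (Fin m ⊕ Fin m) (Fin m ⊕ Fin m) F) *ᵥ c (σ.symm j))
    ?_ ?_ h2
  · intro j
    have := hσ (σ.symm j) _ (hc (σ.symm j))
    rwa [Equiv.apply_symm_apply] at this
  · intro j
    rw [Finset.mem_map_equiv, ← hcS]
    constructor
    · intro h' h''
      apply h'
      show (h : Matrix (Fin m ⊕ Fin m) (Fin m ⊕ Fin m) F) *ᵥ c (σ.symm j) = 0
      rw [h'', mulVec_zero]
    · intro h' h''
      exact h' (hinj _ h'')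

theorem om_neg_r (x y : V) : om x (-y) = - om x y := by
  rw [om_swap, om_neg_left, ← om_swap]

/-- combination lemma -/
theorem OD.good_comb (hD : OD D) (M : Subgroup Sp)
    (hP : ∀ i, ∀ x ∈ D i, x ≠ 0 → ∃ a : V, a ∈ D i ∧ ∃ b : V, b ∈ D i ∧ a ≠ 0 ∧ b ≠ 0 ∧ a + b = x ∧
      om a b = 0)
    {S S' T : Finset (Fin t)} (hS : Good D M S) (hS' : Good D M S') {j : Fin t}
    (hjS : j ∈ S) (hjS' : j ∈ S') (hjT : j ∈ T)
    (hT1 : ∀ i ∈ T, i ∈ S ∨ i ∈ S') (hT2 : ∀ i ∈ S, i ∉ S' → i ∈ T)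
    (hT3 : ∀ i ∈ S', i ∉ S → i ∈ T) : Good D M T := by
  classical
  intro x hx hxT
  have key : ∀ i, ∃ p q : V, p ∈ D i ∧ q ∈ D i ∧ p + q = x i ∧ (p ≠ 0 ↔ i ∈ S) ∧
      (q ≠ 0 ↔ i ∈ S') ∧ (i ≠ j → om p q = 0) ∧ (i = j → om p q ≠ 0) := by
    intro i
    by_cases hij : i = j
    · subst hij
      have hx0 : x i ≠ 0 := (hxT i).mpr hjT
      obtain ⟨a, ha, h1⟩ := hD.nd i (x i) (hx i) hx0
      have ha0 : a ≠ 0 := by
        rintro rfl
        exact h1 (om_zero_r _)
      have hb0 : x i - a ≠ 0 := by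
        intro h
        rw [sub_eq_zero] at h
        rw [h, om_self] at h1
        exact h1 rfl
      refine ⟨a, x i - a, ha, (D i).sub_mem (hx i) ha, by abel, ⟨fun _ => hjS, fun _ => ha0⟩,
        ⟨fun _ => hjS', fun _ => hb0⟩, fun h => absurd rfl h, fun _ => ?_⟩
      rw [om_sub_right, om_self, sub_zero, om_swap]
      exact neg_ne_zero.mpr h1
    · by_cases hiS : i ∈ S
      · by_cases hiS' : i ∈ S'
        · by_cases hiT : i ∈ T
          · obtain ⟨a, ha, b, hb, ha0, hb0, hab, h0⟩ := hP i (x i) (hx i) ((hxT i).mpr hiT)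
            exact ⟨a, b, ha, hb, hab, ⟨fun _ => hiS, fun _ => ha0⟩, ⟨fun _ => hiS', fun _ => hb0⟩,
              fun _ => h0, fun h => absurd h hij⟩
          · have hx0 : x i = 0 := by
              by_contra h; exact hiT ((hxT i).mp h)
            obtain ⟨d, hd, hd0⟩ := hD.ne i
            refine ⟨d, -d, hd, (D i).neg_mem hd, by rw [hx0]; abel, ⟨fun _ => hiS, fun _ => hd0⟩,
              ⟨fun _ => hiS', fun _ => neg_ne_zero.mpr hd0⟩, fun _ => ?_, fun h => absurd h hij⟩
            rw [om_neg_r, om_self, neg_zero]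
        · have hiT : i ∈ T := hT2 i hiS hiS'
          refine ⟨x i, 0, hx i, (D i).zero_mem, add_zero _, ⟨fun _ => hiS, fun _ => (hxT i).mpr hiT⟩,
            ⟨fun h => absurd rfl h, fun h => absurd h hiS'⟩, fun _ => om_zero_r _, fun h => absurd h hij⟩
      · by_cases hiS' : i ∈ S'
        · have hiT : i ∈ T := hT3 i hiS' hiS
          refine ⟨0, x i, (D i).zero_mem, hx i, zero_add _, ⟨fun h => absurd rfl h, fun h => absurd h hiS⟩,
            ⟨fun _ => hiS', fun _ => (hxT i).mpr hiT⟩, fun _ => om_zero_l _, fun h => absurd h hij⟩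
        · have hx0 : x i = 0 := by
            by_contra h
            rcases hT1 i ((hxT i).mp h) with h' | h'
            · exact hiS h'
            · exact hiS' h'
          refine ⟨0, 0, (D i).zero_mem, (D i).zero_mem, by rw [hx0, add_zero],
            ⟨fun h => absurd rfl h, fun h => absurd h hiS⟩,
            ⟨fun h => absurd rfl h, fun h => absurd h hiS'⟩, fun _ => om_zero_l _, fun h => absurd h hij⟩
  choose p q hp hq hpq hpS hqS' h0 hj using key
  have e : ∑ i, x i = (1 : F) • ∑ i, p i + (1 : F) • ∑ i, q i := by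
    rw [one_smul, one_smul, ← Finset.sum_add_distrib]
    exact Finset.sum_congr rfl (fun i _ => (hpq i).symm)
  rw [e]
  apply SS_line M (hS p hp hpS) (hS' q hq hqS')
  rw [hD.om_sum_sum hp hq, Finset.sum_eq_single j]
  · exact hj j rfl
  · intro i _ hij; exact h0 i hij
  · intro h; exact absurd (Finset.mem_univ j) h

theorem mulVec_inv_cancel (g : Sp) (x : V) :
    (g : Matrix (Fin m ⊕ Fin m) (Fin m ⊕ Fin m) F) *ᵥ
      (((g⁻¹ : Sp) : Matrix (Fin m ⊕ Fin m) (Fin m ⊕ Fin m) F) *ᵥ x) = x := by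
  rw [← mul_mulVec, mul_inv_cancel]
  exact one_mulVec x

theorem inv_mulVec_cancel (g : Sp) (x : V) :
    ((g⁻¹ : Sp) : Matrix (Fin m ⊕ Fin m) (Fin m ⊕ Fin m) F) *ᵥ
      ((g : Matrix (Fin m ⊕ Fin m) (Fin m ⊕ Fin m) F) *ᵥ x) = x := by
  rw [← mul_mulVec, inv_mul_cancel]
  exact one_mulVec x

/-- **abstract maximality of the stabiliser of a nondegenerate decomposition** -/
theorem sp_max_decomp (hD : OD D)
    (hP : ∀ i, ∀ x ∈ D i, x ≠ 0 → ∃ a : V, a ∈ D i ∧ ∃ b : V, b ∈ D i ∧ a ≠ 0 ∧ b ≠ 0 ∧ a + b = x ∧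
      om a b = 0)
    (M : Subgroup Sp)
    (hH : ∀ g : Sp, (∃ σ : Equiv.Perm (Fin t), ∀ i, ∀ x ∈ D i,
      (g : Matrix (Fin m ⊕ Fin m) (Fin m ⊕ Fin m) F) *ᵥ x ∈ D (σ i)) → g ∈ M)
    (hsw : ∀ a b : Fin t, a ≠ b → ∃ h : Sp, ∀ i, ∀ x ∈ D i,
      (h : Matrix (Fin m ⊕ Fin m) (Fin m ⊕ Fin m) F) *ᵥ x ∈ D (Equiv.swap a b i))
    (g0 : Sp) (hg0 : g0 ∈ M)
    (hg0' : ¬ ∃ σ : Equiv.Perm (Fin t), ∀ i, ∀ x ∈ D i,
      (g0 : Matrix (Fin m ⊕ Fin m) (Fin m ⊕ Fin m) F) *ᵥ x ∈ D (σ i)) : M = ⊤ := by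
  classical
  -- step 1
  have hS1 : ∀ i, ∀ v ∈ D i, v ∈ SS M := by
    intro i v hv c
    apply hH
    refine ⟨1, fun j x hx => ?_⟩
    rw [Tg_mulVec, Equiv.Perm.one_apply]
    by_cases hji : j = i
    · subst hji
      exact (D j).add_mem hx ((D j).smul_mem _ hv)
    · rw [hD.orth i j (Ne.symm hji) v hv x hx, mul_zero, zero_smul, add_zero]
      exact hx
  choose d hd hd0 using hD.ne
  have hinj : ∀ (g : Sp) (x : V), x ≠ 0 →
      (g : Matrix (Fin m ⊕ Fin m) (Fin m ⊕ Fin m) F) *ᵥ x ≠ 0 := by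
    intro g x hx h
    apply hx
    have := inv_mulVec_cancel g x
    rw [h, mulVec_zero] at this
    exact this.symm
  -- step 2
  obtain ⟨v0, hv0S, hv0⟩ : ∃ v0, v0 ∈ SS M ∧ ∀ j, v0 ∉ D j := by
    by_contra hcon
    push Not at hcon
    have hfun : ∀ g ∈ M, ∃ τ : Fin t → Fin t, ∀ i, ∀ x ∈ D i,
        (g : Matrix (Fin m ⊕ Fin m) (Fin m ⊕ Fin m) F) *ᵥ x ∈ D (τ i) := by
      intro g hg
      have : ∀ i, ∃ j, ∀ x ∈ D i, (g : Matrix (Fin m ⊕ Fin m) (Fin m ⊕ Fin m) F) *ᵥ x ∈ D j := by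
        intro i
        obtain ⟨j0, hj0⟩ := hcon _ (SS_map M (hS1 i (d i) (hd i)) hg)
        refine ⟨j0, fun x hx => ?_⟩
        obtain ⟨j1, hj1⟩ := hcon _ (SS_map M (hS1 i x hx) hg)
        obtain ⟨j2, hj2⟩ := hcon _ (SS_map M (hS1 i (x + d i) ((D i).add_mem hx (hd i))) hg)
        rw [mulVec_add] at hj2
        exact hD.mem_of_add hj0 (hinj g _ (hd0 i)) hj1 hj2
      choose τ hτ using this
      exact ⟨τ, hτ⟩
    obtain ⟨σ, hσ⟩ := hfun g0 hg0
    obtain ⟨τ, hτ⟩ := hfun g0⁻¹ (M.inv_mem hg0)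
    apply hg0'
    refine ⟨⟨σ, τ, ?_, ?_⟩, hσ⟩
    · intro i
      have h1 := hτ (σ i) _ (hσ i (d i) (hd i))
      rw [inv_mulVec_cancel] at h1
      exact hD.idx_eq h1 (hd i) (hd0 i)
    · intro j
      have h1 := hσ (τ j) _ (hτ j (d j) (hd j))
      rw [mulVec_inv_cancel] at h1
      exact hD.idx_eq h1 (hd j) (hd0 j)
  -- step 3
  obtain ⟨c0, hc0, hc0v⟩ := hD.dec v0
  obtain ⟨i1, hi1⟩ : ∃ i1, c0 i1 ≠ 0 := by
    by_contra hcon
    push Not at hcon
    have hne : Nonempty (Fin t) := by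
      by_contra hemp
      rw [not_nonempty_iff] at hemp
      exact hg0' ⟨1, fun i => hemp.elim i⟩
    obtain ⟨j⟩ := hne
    apply hv0 j
    rw [← hc0v, Finset.sum_eq_zero (fun i _ => hcon i)]
    exact (D j).zero_mem
  obtain ⟨i2, hi21, hi2⟩ : ∃ i2, i2 ≠ i1 ∧ c0 i2 ≠ 0 := by
    by_contra hcon
    push Not at hcon
    apply hv0 i1
    rw [← hc0v, Finset.sum_eq_single i1 (fun i _ hi => hcon i hi)
      (fun h => absurd (Finset.mem_univ i1) h)]
    exact hc0 i1
  set S0 : Finset (Fin t) := Finset.univ.filter (fun i => c0 i ≠ 0) with hS0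
  have hS0good : Good D M S0 := by
    refine hD.good_of_mem M hS1 hc0 (fun i => ?_) (hc0v ▸ hv0S)
    rw [hS0, Finset.mem_filter]
    exact ⟨fun h => ⟨Finset.mem_univ i, h⟩, fun h => h.2⟩
  have hi1S : i1 ∈ S0 := by rw [hS0, Finset.mem_filter]; exact ⟨Finset.mem_univ _, hi1⟩
  have hi2S : i2 ∈ S0 := by rw [hS0, Finset.mem_filter]; exact ⟨Finset.mem_univ _, hi2⟩
  -- step 4
  have hstep : ∀ A : Finset (Fin t), Good D M (S0 ∪ A) := by
    intro A
    induction A using Finset.induction_on with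
    | empty => rw [Finset.union_empty]; exact hS0good
    | insert l A hl ih =>
      rw [Finset.union_insert]
      by_cases hlS : l ∈ S0 ∪ A
      · rw [Finset.insert_eq_of_mem hlS]; exact ih
      · have h1S : i1 ∈ S0 ∪ A := Finset.mem_union_left _ hi1S
        have h2S : i2 ∈ S0 ∪ A := Finset.mem_union_left _ hi2S
        have h2l : i2 ≠ l := fun h => hlS (h ▸ h2S)
        have h1l : i1 ≠ l := fun h => hlS (h ▸ h1S)
        obtain ⟨h, hh⟩ := hsw i2 l h2l
        have hhM : h ∈ M := hH h ⟨Equiv.swap i2 l, hh⟩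
        have hS' := hD.good_perm M hS1 ih (Equiv.swap i2 l) hhM hh
        have hmem' : ∀ i, i ∈ (S0 ∪ A).map (Equiv.swap i2 l).toEmbedding ↔
            Equiv.swap i2 l i ∈ S0 ∪ A := by
          intro i
          rw [Finset.mem_map_equiv, Equiv.symm_swap]
        refine hD.good_comb M hP ih hS' (j := i1) h1S ?_ (Finset.mem_insert_of_mem h1S) ?_ ?_ ?_
        · rw [hmem', Equiv.swap_apply_of_ne_of_ne hi21.symm h1l]
          exact h1S
        · intro i hi
          rcases Finset.mem_insert.mp hi with rfl | hi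
          · right
            rw [hmem', Equiv.swap_apply_right]
            exact h2S
          · left; exact hi
        · intro i hi _
          exact Finset.mem_insert_of_mem hi
        · intro i hi hiS
          rw [hmem'] at hi
          by_cases hil : i = l
          · rw [hil]; exact Finset.mem_insert_self _ _
          · exfalso
            by_cases hi2' : i = i2
            · exact hiS (hi2' ▸ h2S)
            · rw [Equiv.swap_apply_of_ne_of_ne hi2' hil] at hi
              exact hiS hi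
  have hgu : Good D M Finset.univ := by
    have := hstep Finset.univ
    have e : S0 ∪ Finset.univ = Finset.univ := by
      ext i; simp
    rwa [e] at this
  -- step 6
  have hall : ∀ x : V, x ∈ SS M := by
    intro x
    obtain ⟨c, hc, rfl⟩ := hD.dec x
    by_cases hT : ∃ j, c j ≠ 0
    · obtain ⟨j, hj⟩ := hT
      have hgT : Good D M (Finset.univ.filter (fun i => c i ≠ 0)) := by
        refine hD.good_comb M hP hgu hgu (j := j) (Finset.mem_univ _) (Finset.mem_univ _) ?_ ?_ ?_ ?_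
        · rw [Finset.mem_filter]; exact ⟨Finset.mem_univ _, hj⟩
        · intro i _; left; exact Finset.mem_univ _
        · intro i _ h; exact absurd (Finset.mem_univ i) h
        · intro i _ h; exact absurd (Finset.mem_univ i) h
      refine hgT c hc (fun i => ?_)
      rw [Finset.mem_filter]
      exact ⟨fun h => ⟨Finset.mem_univ i, h⟩, fun h => h.2⟩
    · push Not at hT
      rw [Finset.sum_eq_zero (fun i _ => hT i)]
      intro c'
      have : Tg (0 : V) c' = 1 := by
        apply ext_mulVec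
        intro x
        rw [Tg_mulVec, smul_zero, add_zero]
        exact (one_mulVec x).symm
      rw [this]
      exact M.one_mem
  rw [eq_top_iff, ← TV_eq_top (Fin m) F]
  unfold TV
  rw [Subgroup.closure_le]
  rintro _ ⟨⟨v, c⟩, rfl⟩
  exact hall v c

end

end Cfsg.Agent.Helper28.SpMax
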