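import Mathlib
import Cfsg.Prelude.Def_GeometricClasses
import Cfsg.Agent.Helper28.SpDecomp
import Cfsg.Agent.S0749
import Cfsg.Agent.S0752

set_option autoImplicit false

/-! Maximality of the stabiliser of a decomposition into nondegenerate subspaces in `Sp_2m(F)`:
permuting elements and the wrapper. -/

namespace Cfsg.Agent.Helper28.SpMax

open Matrix Module Cfsg.Agent.Helper2.Sp Cfsg.Agent.Helper28.SympFrame

variable {F : Type*} [Field F] {m : ℕ}

local notation "V" => (Fin m ⊕ Fin m → F)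
local notation "Sp" => Matrix.symplecticGroup (Fin m) F

/-- Gram matrix of a hyperbolic frame -/
def GJ (j : ℕ) (F : Type*) [Field F] : (Fin j ⊕ Fin j) → (Fin j ⊕ Fin j) → F
  | Sum.inl r, Sum.inr r' => if r = r' then 1 else 0
  | Sum.inr r, Sum.inl r' => if r = r' then -1 else 0
  | _, _ => 0

theorem GJ_swap (j : ℕ) (s s' : Fin j ⊕ Fin j) :
    GJ j F s (Sum.swap s') = if s = s' then (match s with | Sum.inl _ => 1 | Sum.inr _ => -1) else 0 := by
  rcases s with r | r <;> rcases s' with r' | r' <;> simp [GJ]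

section

variable {t : ℕ} {D : Fin t → Submodule F (Fin m ⊕ Fin m → F)}

theorem exists_perm_elt (j : ℕ)
    (e f : Fin t → Fin j → V) (he : ∀ i r, e i r ∈ D i) (hf : ∀ i r, f i r ∈ D i)
    (hee : ∀ i r r', om (e i r) (e i r') = 0) (hff : ∀ i r r', om (f i r) (f i r') = 0)
    (hef : ∀ i r r', om (e i r) (f i r') = if r = r' then 1 else 0)
    (horth : ∀ i i', i ≠ i' → ∀ u : V, u ∈ D i → ∀ v : V, v ∈ D i' → om u v = 0)
    (hdim : ∀ i, Module.finrank F (D i) = 2 * j)
    (σ : Equiv.Perm (Fin t)) :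
    ∃ h : Sp, ∀ i, ∀ x ∈ D i, (h : Matrix (Fin m ⊕ Fin m) (Fin m ⊕ Fin m) F) *ᵥ x ∈ D (σ i) := by
  classical
  set z : Fin t × (Fin j ⊕ Fin j) → V := fun p => Sum.elim (e p.1) (f p.1) p.2 with hz
  have hzmem : ∀ p, z p ∈ D p.1 := by
    rintro ⟨i, r | r⟩
    · exact he i r
    · exact hf i r
  have hgram : ∀ p q, om (z p) (z q) = if p.1 = q.1 then GJ j F p.2 q.2 else 0 := by
    rintro ⟨i, s⟩ ⟨i', s'⟩
    by_cases hii : i = i'
    · subst hii
      rw [if_pos rfl]
      rcases s with r | r <;> rcases s' with r' | r'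
      · exact hee i r r'
      · exact hef i r r'
      · show om (f i r) (e i r') = GJ j F (Sum.inr r) (Sum.inl r')
        rw [om_swap, hef i r' r]
        simp only [GJ]
        by_cases h : r = r'
        · rw [if_pos h, if_pos h.symm]
        · rw [if_neg h, if_neg (Ne.symm h), neg_zero]
      · exact hff i r r'
    · rw [if_neg hii]
      exact horth i i' hii _ (hzmem (i, s)) _ (hzmem (i', s'))
  have hli : LinearIndependent F z := by
    rw [Fintype.linearIndependent_iff]
    intro g hg q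
    have h1 : om (∑ p, g p • z p) (z (q.1, Sum.swap q.2)) = 0 := by rw [hg, om_zero_l]
    rw [om_sum_left, Finset.sum_eq_single q] at h1
    · rw [om_smul_left, hgram, if_pos rfl, GJ_swap, if_pos rfl] at h1
      rcases q with ⟨i, r | r⟩
      · simpa using h1
      · simpa using h1
    · intro p _ hpq
      rw [om_smul_left, hgram]
      by_cases h : p.1 = q.1
      · rw [if_pos h, GJ_swap, if_neg, mul_zero]
        intro h'
        exact hpq (Prod.ext h h')
      · rw [if_neg h, mul_zero]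
    · intro h; exact absurd (Finset.mem_univ q) h
  have hspan : ∀ i, D i = Submodule.span F (Set.range (fun s => z (i, s))) := by
    intro i
    symm
    apply Submodule.eq_of_le_of_finrank_eq
    · rw [Submodule.span_le]
      rintro _ ⟨s, rfl⟩
      exact hzmem (i, s)
    · have hli' : LinearIndependent F (fun s => z (i, s)) :=
        hli.comp (fun s => (i, s)) (fun s s' h => (Prod.ext_iff.mp h).2)
      rw [finrank_span_eq_card hli', hdim i]
      simp [two_mul]
  -- the permutation of the index set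
  set π : Fin t × (Fin j ⊕ Fin j) ≃ Fin t × (Fin j ⊕ Fin j) :=
    Equiv.prodCongr σ (Equiv.refl _) with hπ
  set X := Submodule.span F (Set.range z) with hX
  set bX := Basis.span hli with hbX
  set φ : X ≃ₗ[F] X := bX.equiv bX π with hφ
  have hbXv : ∀ p, ((bX p : X) : V) = z p := fun p => congrArg Subtype.val (Basis.span_apply hli p)
  have hiso : ∀ x x' : X, sB m F (φ x : V) (φ x' : V) = sB m F (x : V) (x' : V) := by
    have h1 : ((sB m F).restrict X).comp φ.toLinearMap φ.toLinearMap = (sB m F).restrict X := by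
      apply LinearMap.BilinForm.ext_basis bX
      intro p q
      rw [LinearMap.BilinForm.comp_apply]
      show sB m F ((φ (bX p) : X) : V) ((φ (bX q) : X) : V) = sB m F ((bX p : X) : V) ((bX q : X) : V)
      rw [hφ, Basis.equiv_apply, Basis.equiv_apply, hbXv, hbXv, hbXv, hbXv]
      show om (z (π p)) (z (π q)) = om (z p) (z q)
      rw [hgram, hgram]
      have e1 : (π p).1 = σ p.1 := rfl
      have e2 : (π q).1 = σ q.1 := rfl
      have e3 : (π p).2 = p.2 := rfl
      have e4 : (π q).2 = q.2 := rfl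
      rw [e1, e2, e3, e4]
      by_cases h : p.1 = q.1
      · rw [if_pos h, if_pos (by rw [h])]
      · rw [if_neg h, if_neg (fun h' => h (σ.injective h'))]
    intro x x'
    have := congrArg (fun B => B x x') h1
    simpa [LinearMap.BilinForm.comp_apply] using this
  obtain ⟨g, hg, hgφ⟩ := Cfsg.Agent.S0749.result (sB m F) (sB_nondeg m F) (sB_isAlt m F) X X φ hiso
  set A : Matrix (Fin m ⊕ Fin m) (Fin m ⊕ Fin m) F := LinearMap.toMatrix' g.toLinearMap with hA
  have hAv : ∀ v, A *ᵥ v = g v := by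
    intro v
    rw [hA, LinearMap.toMatrix'_mulVec]
    rfl
  have hAmem : A ∈ Matrix.symplecticGroup (Fin m) F := by
    rw [Cfsg.Agent.Helper2.Sp.mem_symplectic_iff_om]
    intro u v
    rw [hAv, hAv]
    exact hg u v
  have hAz : ∀ p, A *ᵥ z p = z (π p) := by
    intro p
    rw [hAv, ← hbXv p, hgφ, hφ, Basis.equiv_apply, hbXv]
  refine ⟨⟨A, hAmem⟩, fun i x hx => ?_⟩
  show A *ᵥ x ∈ D (σ i)
  rw [hspan i] at hx
  induction hx using Submodule.span_induction with
  | mem u hu =>
    obtain ⟨s, rfl⟩ := hu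
    rw [hAz]
    exact hzmem (π (i, s))
  | zero => rw [mulVec_zero]; exact (D (σ i)).zero_mem
  | add a b _ _ ha hb => rw [mulVec_add]; exact (D (σ i)).add_mem ha hb
  | smul c a _ ha => rw [mulVec_smul]; exact (D (σ i)).smul_mem c ha

/-- hyperbolic frame of a nondegenerate subspace -/
theorem exists_frame_of_nd (U : Submodule F (Fin m ⊕ Fin m → F))
    (hnd : ∀ a ∈ U, a ≠ 0 → ∃ u ∈ U, om a u ≠ 0) :
    ∃ (j : ℕ) (e f : Fin j → (Fin m ⊕ Fin m → F)), Module.finrank F U = 2 * j ∧
      (∀ r, e r ∈ U) ∧ (∀ r, f r ∈ U) ∧ (∀ r r', om (e r) (e r') = 0) ∧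
      (∀ r r', om (f r) (f r') = 0) ∧ (∀ r r', om (e r) (f r') = if r = r' then 1 else 0) := by
  classical
  have hA : ((sB m F).restrict U).IsAlt := fun x => sB_isAlt m F x
  obtain ⟨j, k', e, f, r, hef, hee, hff, hr, hrli, hsum⟩ :=
    Cfsg.Agent.S0752.aux (F := F) (Module.finrank F U) ((sB m F).restrict U) hA rfl
  have hk' : k' = 0 := by
    by_contra hne
    have hpos : 0 < k' := Nat.pos_of_ne_zero hne
    have h0 : r ⟨0, hpos⟩ ≠ 0 := hrli.ne_zero _
    obtain ⟨u, hu, h1⟩ := hnd (r ⟨0, hpos⟩ : U) (r ⟨0, hpos⟩).2 (fun h => h0 (Subtype.ext h))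
    exact h1 (hr ⟨0, hpos⟩ ⟨u, hu⟩)
  refine ⟨j, fun r => (e r : U), fun r => (f r : U), by omega, fun r => (e r).2, fun r => (f r).2,
    fun r r' => hee r r', fun r r' => hff r r', fun r r' => hef r r'⟩

theorem mem_decompStab_of {k : ℕ} (D : Fin t → Submodule F (Fin m ⊕ Fin m → F))
    (hk : ∀ i, Module.finrank F (D i) = k)
    (g : Matrix.GeneralLinearGroup (Fin m ⊕ Fin m) F) (σ : Equiv.Perm (Fin t))
    (h : ∀ i, ∀ x ∈ D i, (g : Matrix (Fin m ⊕ Fin m) (Fin m ⊕ Fin m) F) *ᵥ x ∈ D (σ i)) :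
    g ∈ Cfsg.Geo.decompositionStabilizer D := by
  refine ⟨σ, fun i => ?_⟩
  apply Submodule.eq_of_le_of_finrank_eq
  · rintro _ ⟨x, hx, rfl⟩
    rw [Matrix.toLin'_apply]
    exact h i x hx
  · rw [hk (σ i), Cfsg.Agent.S0749.finrank_map_of_injOn _ _ ?_, hk i]
    intro x _ hx
    rw [Matrix.toLin'_apply] at hx
    have := congrArg (fun z => ((g⁻¹ : Matrix.GeneralLinearGroup (Fin m ⊕ Fin m) F) :
      Matrix (Fin m ⊕ Fin m) (Fin m ⊕ Fin m) F) *ᵥ z) hx
    simp only [mulVec_mulVec, ← Units.val_mul, inv_mul_cancel, mulVec_zero] at this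
    simpa using this

theorem forall_of_mem_decompStab (D : Fin t → Submodule F (Fin m ⊕ Fin m → F))
    (g : Matrix.GeneralLinearGroup (Fin m ⊕ Fin m) F)
    (hg : g ∈ Cfsg.Geo.decompositionStabilizer D) :
    ∃ σ : Equiv.Perm (Fin t), ∀ i, ∀ x ∈ D i,
      (g : Matrix (Fin m ⊕ Fin m) (Fin m ⊕ Fin m) F) *ᵥ x ∈ D (σ i) := by
  obtain ⟨σ, hσ⟩ := hg
  refine ⟨σ, fun i x hx => ?_⟩
  rw [← hσ i]
  exact ⟨x, hx, Matrix.toLin'_apply _ _⟩

/-- **Maximality of the stabiliser of a nondegenerate decomposition in `Sp_2m(F)`**. -/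
theorem decomp_maximal [Fintype F] (k : ℕ) (D : Fin t → Submodule F (Fin m ⊕ Fin m → F))
    (hD : Cfsg.Geo.IsNondegenerateMDecomposition (Cfsg.sympForm m F) k D)
    (hex : ¬ (k = 2 ∧ Fintype.card F = 2)) :
    Cfsg.Geo.IsMaximalIn (Cfsg.spGL m F) (Cfsg.Geo.decompositionStabilizer D ⊓ Cfsg.spGL m F) := by
  classical
  have hnd : ∀ i, ∀ a ∈ D i, a ≠ 0 → ∃ u ∈ D i, om a u ≠ 0 :=
    fun i a ha ha0 => (hD.nondegenerate i a ha ha0).2
  have horth : ∀ i j, i ≠ j → ∀ u ∈ D i, ∀ v ∈ D j, om u v = 0 :=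
    fun i j hij u hu v hv => hD.orthogonal i j hij u hu v hv
  have hfr : ∀ i, Module.finrank F (D i) = k := hD.decomp.finrank_eq
  have hne : ∀ i, ∃ d ∈ D i, d ≠ 0 := by
    intro i
    have hpos : 0 < Module.finrank F (D i) := by rw [hfr i]; exact hD.decomp.pos
    obtain ⟨u, hu⟩ := Module.finrank_pos_iff_exists_ne_zero.mp hpos
    exact ⟨u, u.2, fun h => hu (Subtype.ext h)⟩
  have hOD : OD D := by
    refine ⟨hnd, horth, ?_, hne⟩
    intro v
    have hv : v ∈ iSup D := by rw [hD.decomp.iSup_eq_top]; trivial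
    obtain ⟨c, hc, hcv⟩ := (Submodule.mem_iSup_iff_exists_finsupp D v).mp hv
    refine ⟨fun i => c i, hc, ?_⟩
    rw [← hcv, Finsupp.sum_fintype]
    intro i; rfl
  -- frames
  have hframes : ∀ i, ∃ (e f : Fin (k / 2) → (Fin m ⊕ Fin m → F)), 2 * (k / 2) = k ∧
      (∀ r, e r ∈ D i) ∧ (∀ r, f r ∈ D i) ∧ (∀ r r', om (e r) (e r') = 0) ∧
      (∀ r r', om (f r) (f r') = 0) ∧ (∀ r r', om (e r) (f r') = if r = r' then 1 else 0) := by
    intro i
    obtain ⟨j, e, f, hj, he, hf, hee, hff, hef⟩ := exists_frame_of_nd (D i) (hnd i)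
    have hjk : j = k / 2 := by rw [hfr i] at hj; omega
    subst hjk
    exact ⟨e, f, by rw [hfr i] at hj; omega, he, hf, hee, hff, hef⟩
  have ht2 : 2 ≤ t := hD.decomp.two_le
  have hkeven : 2 * (k / 2) = k := by
    obtain ⟨_, _, h, _⟩ := hframes ⟨0, by omega⟩
    exact h
  choose e f _ he hf hee hff hef using hframes
  have hperm : ∀ σ : Equiv.Perm (Fin t), ∃ h : Sp, ∀ i, ∀ x ∈ D i,
      (h : Matrix (Fin m ⊕ Fin m) (Fin m ⊕ Fin m) F) *ᵥ x ∈ D (σ i) :=
    fun σ => exists_perm_elt (k / 2) e f he hf hee hff hef horth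
      (fun i => by rw [hfr i, hkeven]) σ
  -- the splitting property
  have hP : ∀ i, ∀ x ∈ D i, x ≠ 0 → ∃ a : (Fin m ⊕ Fin m → F), a ∈ D i ∧
      ∃ b : (Fin m ⊕ Fin m → F), b ∈ D i ∧ a ≠ 0 ∧ b ≠ 0 ∧ a + b = x ∧ om a b = 0 := by
    intro i x hx hx0
    by_cases hq : Fintype.card F = 2
    · -- k ≥ 4
      have hk2 : k ≠ 2 := fun h => hex ⟨h, hq⟩
      have hk1 : k ≠ 0 := by have := hD.decomp.pos; omega
      have hk4 : 3 ≤ k := by omega
      -- the functional om x on D i
      let φ : D i →ₗ[F] F := ((sB m F) x).domRestrict (D i)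
      have hker : 2 ≤ Module.finrank F (LinearMap.ker φ) := by
        have h1 := LinearMap.finrank_range_add_finrank_ker φ
        have h2 : Module.finrank F (LinearMap.range φ) ≤ 1 := by
          have := Submodule.finrank_le (LinearMap.range φ)
          simpa using this
        rw [hfr i] at h1
        omega
      -- a vector in ker not in span x
      have hlt : ¬ (LinearMap.ker φ ≤ Submodule.span F {(⟨x, hx⟩ : D i)}) := by
        intro hle
        have h1 := Submodule.finrank_mono hle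
        have h2 : Module.finrank F (Submodule.span F {(⟨x, hx⟩ : D i)}) = 1 :=
          finrank_span_singleton (fun h => hx0 (congrArg Subtype.val h))
        omega
      obtain ⟨a, haker, haspan⟩ := SetLike.not_le_iff_exists.mp hlt
      have hxa : om x (a : Fin m ⊕ Fin m → F) = 0 := haker
      have ha0 : (a : Fin m ⊕ Fin m → F) ≠ 0 := by
        intro h
        apply haspan
        have : a = 0 := Subtype.ext h
        rw [this]
        exact Submodule.zero_mem _
      have hb0 : x - (a : Fin m ⊕ Fin m → F) ≠ 0 := by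
        intro h
        apply haspan
        have : a = ⟨x, hx⟩ := Subtype.ext (sub_eq_zero.mp h).symm
        rw [this]
        exact Submodule.mem_span_singleton_self _
      refine ⟨a, a.2, x - a, (D i).sub_mem hx a.2, ha0, hb0, by abel, ?_⟩
      rw [om_sub_right, om_self, sub_zero, om_swap, hxa, neg_zero]
    · -- a scalar different from 0 and 1
      have hcard : 2 < Fintype.card F := by
        have := Fintype.one_lt_card (α := F)
        omega
      obtain ⟨c, hc0, hc1⟩ : ∃ c : F, c ≠ 0 ∧ c ≠ 1 := by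
        by_contra hcon
        push Not at hcon
        have : Fintype.card F ≤ 2 := by
          have hsub : (Finset.univ : Finset F) ⊆ {0, 1} := by
            intro c _
            by_cases h0 : c = 0
            · simp [h0]
            · simp [hcon c h0]
          calc Fintype.card F = (Finset.univ : Finset F).card := rfl
            _ ≤ ({0, 1} : Finset F).card := Finset.card_le_card hsub
            _ ≤ 2 := Finset.card_le_two
        omega
      refine ⟨c • x, (D i).smul_mem c hx, (1 - c) • x, (D i).smul_mem _ hx, smul_ne_zero hc0 hx0,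
        smul_ne_zero (sub_ne_zero.mpr (Ne.symm hc1)) hx0, ?_, ?_⟩
      · rw [← add_smul]; simp
      · rw [om_smul_left, om_smul_right, om_self, mul_zero, mul_zero]
  -- an element outside the stabiliser
  obtain ⟨g1, hg1⟩ : ∃ g1 : Sp, ¬ ∃ σ : Equiv.Perm (Fin t), ∀ i, ∀ x ∈ D i,
      (g1 : Matrix (Fin m ⊕ Fin m) (Fin m ⊕ Fin m) F) *ᵥ x ∈ D (σ i) := by
    set i0 : Fin t := ⟨0, by omega⟩ with hi0
    set i1 : Fin t := ⟨1, by omega⟩ with hi1
    have h01 : i0 ≠ i1 := by
      intro h; rw [hi0, hi1, Fin.mk.injEq] at h; omega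
    obtain ⟨d0, hd0, hd00⟩ := hne i0
    obtain ⟨d1, hd1, hd10⟩ := hne i1
    obtain ⟨x, hx, hd0x⟩ := hnd i0 d0 hd0 hd00
    refine ⟨Tg (d0 + d1) 1, ?_⟩
    rintro ⟨σ, hσ⟩
    have h1 := hσ i0 x hx
    rw [Tg_mulVec, one_mul, om_add_left, horth i1 i0 h01.symm d1 hd1 x hx, add_zero, smul_add,
      ← add_assoc] at h1
    -- h1 : x + c d0 + c d1 ∈ D (σ i0)
    have hy0 : x + om d0 x • d0 ∈ D i0 := (D i0).add_mem hx ((D i0).smul_mem _ hd0)
    have hy1 : om d0 x • d1 ∈ D i1 := (D i1).smul_mem _ hd1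
    have hy10 : om d0 x • d1 ≠ 0 := smul_ne_zero hd0x hd10
    have hy00 : x + om d0 x • d0 ≠ 0 := by
      intro h
      have : om d0 (x + om d0 x • d0) = 0 := by rw [h, om_zero_r]
      rw [om_add_right, om_smul_right, om_self, mul_zero, add_zero] at this
      exact hd0x this
    by_cases hs0 : σ i0 = i0
    · rw [hs0] at h1
      have h2 := (D i0).sub_mem h1 hy0
      rw [add_sub_cancel_left] at h2
      exact h01 (hOD.idx_eq h2 hy1 hy10)
    · obtain ⟨u, hu, h3⟩ := hnd i0 _ hy0 hy00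
      apply h3
      have e1 : x + om d0 x • d0 = (x + om d0 x • d0 + om d0 x • d1) - om d0 x • d1 := by abel
      rw [e1, om_sub_left, horth (σ i0) i0 hs0 _ h1 u hu, horth i1 i0 h01.symm _ hy1 u hu, sub_zero]
  refine ⟨lt_of_le_of_ne inf_le_right ?_, ?_⟩
  · intro heq
    have h1 : toGL g1 ∈ Cfsg.Geo.decompositionStabilizer D ⊓ Cfsg.spGL m F := by
      rw [heq]; exact toGL_mem g1
    exact hg1 (forall_of_mem_decompStab D _ h1.1)
  · intro M hPM hMS
    by_cases hMP : M ≤ Cfsg.Geo.decompositionStabilizer D ⊓ Cfsg.spGL m F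
    · left; exact le_antisymm hMP hPM
    right
    refine le_antisymm hMS ?_
    obtain ⟨g, hgM, hgP⟩ := SetLike.not_le_iff_exists.mp hMP
    have hgW : g ∉ Cfsg.Geo.decompositionStabilizer D := fun h => hgP ⟨h, hMS hgM⟩
    obtain ⟨g0, rfl⟩ := exists_of_mem_spGL g (hMS hgM)
    have htop : M.comap toGL = ⊤ := by
      refine sp_max_decomp hOD hP (M.comap toGL) ?_ ?_ g0 hgM ?_
      · rintro A ⟨σ, hσ⟩
        apply hPM
        exact ⟨mem_decompStab_of D hfr (toGL A) σ hσ, toGL_mem A⟩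
      · intro a b _
        exact hperm (Equiv.swap a b)
      · rintro ⟨σ, hσ⟩
        exact hgW (mem_decompStab_of D hfr (toGL g0) σ hσ)
    intro h hh
    obtain ⟨A, rfl⟩ := exists_of_mem_spGL h hh
    have : A ∈ M.comap toGL := by rw [htop]; trivial
    exact this

end

end Cfsg.Agent.Helper28.SpMax
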