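import Mathlib
import Cfsg.Prelude.Def_GeometricClasses
import Cfsg.Agent.Helper28.SpDecomp2

set_option autoImplicit false

/-! Non-maximality of the stabiliser of a decomposition into nondegenerate 2-spaces in `Sp_2m(2)`:
it lies in the orthogonal group of the quadratic form "number of non-zero components mod 2". -/

namespace Cfsg.Agent.Helper28.SpMax

open Matrix Module Cfsg.Agent.Helper2.Sp Cfsg.Agent.Helper28.SympFrame

/-- dimension count for a decomposition -/
theorem card_eq_of_decomp {F : Type*} [Field F] {ι : Type} [Fintype ι] [DecidableEq ι] {t k : ℕ}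
    (D : Fin t → Submodule F (ι → F)) (hD : Cfsg.Geo.IsMDecomposition k D) :
    Fintype.card ι = t * k := by
  classical
  have hI : DirectSum.IsInternal D :=
    (DirectSum.isInternal_submodule_iff_iSupIndep_and_iSup_eq_top D).mpr ⟨hD.indep, hD.iSup_eq_top⟩
  have e := LinearEquiv.ofBijective (DirectSum.coeLinearMap D) hI
  have h1 := e.finrank_eq
  rw [Module.finrank_directSum, Module.finrank_fintype_fun_eq_card] at h1
  rw [← h1]
  simp [hD.finrank_eq]

theorem eq_zero_or_one_of_card {F : Type*} [Field F] [Fintype F] (hq : Fintype.card F = 2) (k : F) :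
    k = 0 ∨ k = 1 := by
  classical
  by_contra h
  push Not at h
  have h3 : ({0, 1, k} : Finset F).card = 3 := by
    rw [Finset.card_insert_of_notMem, Finset.card_insert_of_notMem, Finset.card_singleton]
    · simpa using Ne.symm h.2
    · simp only [Finset.mem_insert, Finset.mem_singleton, not_or]
      exact ⟨zero_ne_one, Ne.symm h.1⟩
  have := Finset.card_le_univ ({0, 1, k} : Finset F)
  rw [h3] at this
  change 3 ≤ Fintype.card F at this
  omega

theorem one_add_one_of_card {F : Type*} [Field F] [Fintype F] (hq : Fintype.card F = 2) :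
    (1 : F) + 1 = 0 := by
  rcases eq_zero_or_one_of_card hq ((1 : F) + 1) with h | h
  · exact h
  · exfalso
    have : (1 : F) = 0 := by
      have := congrArg (fun z => z - 1) h
      simpa using this
    exact one_ne_zero this

variable {F : Type*} [Field F] {m : ℕ} {t : ℕ}

/-- the number of non-zero components, as an element of `F` -/
noncomputable def qf (D : Fin t → Submodule F (Fin m ⊕ Fin m → F)) (x : Fin m ⊕ Fin m → F) : F := by
  classical
  exact ∑ i, (if ∃ y : (Fin m ⊕ Fin m → F), y ∈ D i ∧ om x y ≠ 0 then (1 : F) else 0)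

section

variable {D : Fin t → Submodule F (Fin m ⊕ Fin m → F)}

theorem qf_sum (hD : OD D) (c : Fin t → (Fin m ⊕ Fin m → F)) (hc : ∀ i, c i ∈ D i) :
    qf D (∑ i, c i) = by classical exact ∑ i, (if c i ≠ 0 then (1 : F) else 0) := by
  classical
  unfold qf
  apply Finset.sum_congr rfl
  intro i _
  apply if_congr _ rfl rfl
  constructor
  · rintro ⟨y, hy, h⟩
    rw [hD.om_sum_mem hc hy] at h
    intro h0
    rw [h0, om_zero_l] at h
    exact h rfl
  · intro h
    obtain ⟨u, hu, h1⟩ := hD.nd i (c i) (hc i) h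
    exact ⟨u, hu, by rwa [hD.om_sum_mem hc hu]⟩

theorem comp_zero_of_mem (hD : OD D) (c : Fin t → (Fin m ⊕ Fin m → F)) (hc : ∀ i, c i ∈ D i)
    (j : Fin t) (h : ∑ i, c i ∈ D j) (i : Fin t) (hij : i ≠ j) : c i = 0 := by
  by_contra hne
  obtain ⟨u, hu, h1⟩ := hD.nd i (c i) (hc i) hne
  rw [← hD.om_sum_mem hc hu] at h1
  exact h1 (hD.orth j i (Ne.symm hij) _ h u hu)

/-- in a nondegenerate 2-space over `F_2`, the vectors orthogonal to `a ≠ 0` are `0` and `a`. -/
theorem eq_zero_or_eq_of_orth [Fintype F] (hq : Fintype.card F = 2) (hD : OD D) (i : Fin t)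
    (hfr : Module.finrank F (D i) = 2) (a c : Fin m ⊕ Fin m → F) (ha : a ∈ D i) (hc : c ∈ D i)
    (ha0 : a ≠ 0) (h : om a c = 0) : c = 0 ∨ c = a := by
  let φ : D i →ₗ[F] F := ((sB m F) a).domRestrict (D i)
  have hφ : ∀ y : D i, φ y = om a (y : Fin m ⊕ Fin m → F) := fun y => rfl
  obtain ⟨u, hu, h1⟩ := hD.nd i a ha ha0
  have hrange : Module.finrank F (LinearMap.range φ) = 1 := by
    have hle : Module.finrank F (LinearMap.range φ) ≤ 1 := by
      have := Submodule.finrank_le (LinearMap.range φ)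
      simpa using this
    have hpos : 0 < Module.finrank F (LinearMap.range φ) := by
      apply Module.finrank_pos_iff_exists_ne_zero.mpr
      refine ⟨⟨φ ⟨u, hu⟩, ⟨_, rfl⟩⟩, ?_⟩
      intro h0
      apply h1
      have := congrArg Subtype.val h0
      simpa [hφ] using this
    omega
  have hker : Module.finrank F (LinearMap.ker φ) = 1 := by
    have := LinearMap.finrank_range_add_finrank_ker φ
    rw [hfr, hrange] at this
    omega
  have hamem : (⟨a, ha⟩ : D i) ∈ LinearMap.ker φ := by
    rw [LinearMap.mem_ker, hφ]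
    exact om_self a
  have hcmem : (⟨c, hc⟩ : D i) ∈ LinearMap.ker φ := by
    rw [LinearMap.mem_ker, hφ]
    exact h
  have hspan : Submodule.span F {(⟨a, ha⟩ : D i)} = LinearMap.ker φ := by
    apply Submodule.eq_of_le_of_finrank_eq
    · rw [Submodule.span_singleton_le_iff_mem]; exact hamem
    · rw [hker]
      exact finrank_span_singleton (fun h => ha0 (congrArg Subtype.val h))
  rw [← hspan] at hcmem
  obtain ⟨k, hk⟩ := Submodule.mem_span_singleton.mp hcmem
  have hk' : k • a = c := congrArg Subtype.val hk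
  rcases eq_zero_or_one_of_card hq k with rfl | rfl
  · left; rw [← hk', zero_smul]
  · right; rw [← hk', one_smul]

theorem loc_formula [Fintype F] (hq : Fintype.card F = 2) (hD : OD D) (i : Fin t)
    (hfr : Module.finrank F (D i) = 2) (a c : Fin m ⊕ Fin m → F) (ha : a ∈ D i) (hc : c ∈ D i) :
    (by classical exact (if c + a ≠ 0 then (1 : F) else 0)) =
      (by classical exact (if c ≠ 0 then (1 : F) else 0) + (if a ≠ 0 then (1 : F) else 0)) + om a c := by
  classical
  have h2 := one_add_one_of_card hq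
  by_cases ha0 : a = 0
  · subst ha0
    simp [om_zero_l]
  rcases eq_zero_or_one_of_card hq (om a c) with h | h
  · rcases eq_zero_or_eq_of_orth hq hD i hfr a c ha hc ha0 h with rfl | rfl
    · simp [ha0, om_zero_r]
    · have haa : c + c = 0 := by
        rw [← two_smul F c]
        have : (2 : F) = 0 := by rw [← one_add_one_eq_two]; exact h2
        rw [this, zero_smul]
      simp [ha0, haa, om_self, h2]
  · have hc0 : c ≠ 0 := by
      intro h0; rw [h0, om_zero_r] at h; exact zero_ne_one h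
    have hca : c + a ≠ 0 := by
      intro h0
      have : c = -a := eq_neg_of_add_eq_zero_left h0
      rw [this, om_neg_r, om_self, neg_zero] at h
      exact zero_ne_one h
    rw [if_pos hca, if_pos hc0, if_pos ha0, h, h2, zero_add]

/-- the change of `qf` under adding a vector -/
theorem qf_add [Fintype F] (hq : Fintype.card F = 2) (hD : OD D)
    (hfr : ∀ i, Module.finrank F (D i) = 2) (av : Fin t → (Fin m ⊕ Fin m → F))
    (hav : ∀ i, av i ∈ D i) (x : Fin m ⊕ Fin m → F) :
    qf D (x + ∑ i, av i) =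
      qf D x + (by classical exact ∑ i, (if av i ≠ 0 then (1 : F) else 0)) + om (∑ i, av i) x := by
  classical
  obtain ⟨c, hc, rfl⟩ := hD.dec x
  rw [← Finset.sum_add_distrib, qf_sum hD _ (fun i => (D i).add_mem (hc i) (hav i)), qf_sum hD c hc,
    hD.om_sum_sum hav hc, ← Finset.sum_add_distrib, ← Finset.sum_add_distrib]
  apply Finset.sum_congr rfl
  intro i _
  exact loc_formula hq hD i (hfr i) (av i) (c i) (hav i) (hc i)

end

section main

variable [Fintype F]

theorem decomp2_not_maximal (hm : 7 ≤ m) (hq : Fintype.card F = 2)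
    (D : Fin t → Submodule F (Fin m ⊕ Fin m → F))
    (hD : Cfsg.Geo.IsNondegenerateMDecomposition (Cfsg.sympForm m F) 2 D) :
    ∃ K : Subgroup (Matrix.GeneralLinearGroup (Fin m ⊕ Fin m) F),
      Cfsg.Geo.decompositionStabilizer D ⊓ Cfsg.spGL m F < K ∧ K < Cfsg.spGL m F := by
  classical
  have hnd : ∀ i, ∀ a ∈ D i, a ≠ 0 → ∃ u ∈ D i, om a u ≠ 0 :=
    fun i a ha ha0 => (hD.nondegenerate i a ha ha0).2
  have horth : ∀ i j, i ≠ j → ∀ u ∈ D i, ∀ v ∈ D j, om u v = 0 :=
    fun i j hij u hu v hv => hD.orthogonal i j hij u hu v hv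
  have hfr : ∀ i, Module.finrank F (D i) = 2 := hD.decomp.finrank_eq
  have hne : ∀ i, ∃ d ∈ D i, d ≠ 0 := by
    intro i
    have hpos : 0 < Module.finrank F (D i) := by rw [hfr i]; exact hD.decomp.pos
    obtain ⟨u, hu⟩ := Module.finrank_pos_iff_exists_ne_zero.mp hpos
    exact ⟨u, u.2, fun h => hu (Subtype.ext h)⟩
  have hOD : OD D := by
    refine ⟨hnd, horth, ?_, hne⟩
    intro v
    have hv : v ∈ iSup D := by rw [hD.decomp.iSup_eq_top]; trivial
    obtain ⟨c, hc, hcv⟩ := (Submodule.mem_iSup_iff_exists_finsupp D v).mp hv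
    refine ⟨fun i => c i, hc, ?_⟩
    rw [← hcv, Finsupp.sum_fintype]
    intro i; rfl
  have h2 := one_add_one_of_card hq
  have ht : 3 ≤ t := by
    have := card_eq_of_decomp D hD.decomp
    simp only [Fintype.card_sum, Fintype.card_fin] at this
    omega
  choose a ha ha0 using hne
  set i0 : Fin t := ⟨0, by omega⟩ with hi0
  set i1 : Fin t := ⟨1, by omega⟩ with hi1
  set i2 : Fin t := ⟨2, by omega⟩ with hi2
  have h01 : i0 ≠ i1 := by
    intro h; rw [hi0, hi1, Fin.mk.injEq] at h; omega
  have h02 : i0 ≠ i2 := by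
    intro h; rw [hi0, hi2, Fin.mk.injEq] at h; omega
  have h12 : i1 ≠ i2 := by
    intro h; rw [hi1, hi2, Fin.mk.injEq] at h; omega
  obtain ⟨b, hb, hab⟩ := hnd i0 (a i0) (ha i0) (ha0 i0)
  have hab1 : om (a i0) b = 1 := (eq_zero_or_one_of_card hq _).resolve_left hab
  let av : Finset (Fin t) → Fin t → (Fin m ⊕ Fin m → F) := fun S i => if i ∈ S then a i else 0
  have hav : ∀ S i, av S i ∈ D i := by
    intro S i
    by_cases h : i ∈ S
    · simp only [av, if_pos h]; exact ha i
    · simp only [av, if_neg h]; exact (D i).zero_mem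
  have hcnt : ∀ S : Finset (Fin t), (∑ i, if av S i ≠ 0 then (1 : F) else 0) = (S.card : F) := by
    intro S
    have : ∀ i, (if av S i ≠ 0 then (1 : F) else 0) = if i ∈ S then 1 else 0 := by
      intro i
      by_cases h : i ∈ S
      · simp [av, h, ha0 i]
      · simp [av, h]
    simp only [this]
    rw [Finset.sum_boole]
    simp
  have hub : ∀ S : Finset (Fin t), i0 ∈ S → om (∑ i, av S i) b = 1 := by
    intro S hS
    rw [hOD.om_sum_mem (hav S) hb]
    simp only [av, if_pos hS]
    exact hab1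
  -- the value of qf on transvection images
  have hTq : ∀ (S : Finset (Fin t)) (x : Fin m ⊕ Fin m → F),
      qf D ((Tg (∑ i, av S i) 1 : Matrix.symplecticGroup (Fin m) F).1 *ᵥ x) =
        if om (∑ i, av S i) x = 0 then qf D x else qf D x + (S.card : F) + 1 := by
    intro S x
    have h1 := Tg_mulVec (∑ i, av S i) 1 x
    rw [one_mul] at h1
    rw [show ((Tg (∑ i, av S i) 1 : Matrix.symplecticGroup (Fin m) F).1) =
      ((Tg (∑ i, av S i) 1 : Matrix.symplecticGroup (Fin m) F) :
        Matrix (Fin m ⊕ Fin m) (Fin m ⊕ Fin m) F) from rfl, h1]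
    rcases eq_zero_or_one_of_card hq (om (∑ i, av S i) x) with h | h
    · rw [h, zero_smul, add_zero, if_pos rfl]
    · rw [h, one_smul, if_neg one_ne_zero, qf_add hq hOD hfr (av S) (hav S) x, hcnt, h]
  -- the overgroup
  let K : Subgroup (Matrix.GeneralLinearGroup (Fin m ⊕ Fin m) F) :=
    { carrier := {g | g ∈ Cfsg.spGL m F ∧ ∀ x : Fin m ⊕ Fin m → F,
        qf D ((g : Matrix (Fin m ⊕ Fin m) (Fin m ⊕ Fin m) F) *ᵥ x) = qf D x}
      mul_mem' := by
        rintro g h ⟨hg1, hg2⟩ ⟨hh1, hh2⟩
        refine ⟨(Cfsg.spGL m F).mul_mem hg1 hh1, fun x => ?_⟩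
        rw [Units.val_mul, ← mulVec_mulVec, hg2, hh2]
      one_mem' := ⟨(Cfsg.spGL m F).one_mem, fun x => by simp⟩
      inv_mem' := by
        rintro g ⟨hg1, hg2⟩
        refine ⟨(Cfsg.spGL m F).inv_mem hg1, fun x => ?_⟩
        have e1 : (g : Matrix (Fin m ⊕ Fin m) (Fin m ⊕ Fin m) F) *ᵥ
            (((g⁻¹ : Matrix.GeneralLinearGroup (Fin m ⊕ Fin m) F) :
              Matrix (Fin m ⊕ Fin m) (Fin m ⊕ Fin m) F) *ᵥ x) = x := by
          rw [mulVec_mulVec, ← Units.val_mul, mul_inv_cancel, Units.val_one, one_mulVec]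
        rw [← hg2, e1] }
  have hKmem : ∀ g, g ∈ K ↔ g ∈ Cfsg.spGL m F ∧ ∀ x : Fin m ⊕ Fin m → F,
        qf D ((g : Matrix (Fin m ⊕ Fin m) (Fin m ⊕ Fin m) F) *ᵥ x) = qf D x := fun g => Iff.rfl
  have hle : Cfsg.Geo.decompositionStabilizer D ⊓ Cfsg.spGL m F ≤ K := by
    rintro g ⟨⟨σ, hσ⟩, hg2⟩
    refine (hKmem g).mpr ⟨hg2, fun x => ?_⟩
    unfold qf
    rw [← Equiv.sum_comp σ]
    apply Finset.sum_congr rfl
    intro i _
    have hiff : (∃ y : (Fin m ⊕ Fin m → F), y ∈ D (σ i) ∧
        om ((g : Matrix (Fin m ⊕ Fin m) (Fin m ⊕ Fin m) F) *ᵥ x) y ≠ 0) ↔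
        (∃ y : (Fin m ⊕ Fin m → F), y ∈ D i ∧ om x y ≠ 0) := by
      constructor
      · rintro ⟨y, hy, h⟩
        rw [← hσ i] at hy
        obtain ⟨y', hy', rfl⟩ := hy
        refine ⟨y', hy', ?_⟩
        rw [Matrix.toLin'_apply] at h
        rwa [show om ((g : Matrix (Fin m ⊕ Fin m) (Fin m ⊕ Fin m) F) *ᵥ x)
          ((g : Matrix (Fin m ⊕ Fin m) (Fin m ⊕ Fin m) F) *ᵥ y') = om x y' from hg2 x y'] at h
      · rintro ⟨y, hy, h⟩
        refine ⟨(g : Matrix (Fin m ⊕ Fin m) (Fin m ⊕ Fin m) F) *ᵥ y, ?_, ?_⟩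
        · rw [← hσ i]
          exact ⟨y, hy, Matrix.toLin'_apply _ _⟩
        · rwa [show om ((g : Matrix (Fin m ⊕ Fin m) (Fin m ⊕ Fin m) F) *ᵥ x)
            ((g : Matrix (Fin m ⊕ Fin m) (Fin m ⊕ Fin m) F) *ᵥ y) = om x y from hg2 x y]
    by_cases hP : ∃ y : (Fin m ⊕ Fin m → F), y ∈ D i ∧ om x y ≠ 0
    · rw [if_pos hP, if_pos (hiff.mpr hP)]
    · rw [if_neg hP, if_neg (fun h => hP (hiff.mp h))]
  refine ⟨K, lt_of_le_of_ne hle ?_, lt_of_le_of_ne (fun g hg => hg.1) ?_⟩
  · -- an element of K outside the stabiliser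
    intro heq
    set S : Finset (Fin t) := {i0, i1, i2} with hS
    have hScard : S.card = 3 := by
      rw [hS, Finset.card_insert_of_notMem, Finset.card_insert_of_notMem, Finset.card_singleton]
      · simpa using h12
      · simp only [Finset.mem_insert, Finset.mem_singleton, not_or]
        exact ⟨h01, h02⟩
    have hTK : toGL (Tg (∑ i, av S i) 1) ∈ K := by
      refine (hKmem _).mpr ⟨toGL_mem _, fun x => ?_⟩
      rw [toGL_val, hTq S x, hScard]
      split_ifs
      · rfl
      · have : ((3 : ℕ) : F) + 1 = 0 := by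
          push_cast
          linear_combination 2 * h2
        rw [add_assoc, this, add_zero]
    rw [← heq] at hTK
    obtain ⟨⟨σ, hσ⟩, -⟩ := hTK
    have hmem : (Tg (∑ i, av S i) 1 : Matrix.symplecticGroup (Fin m) F).1 *ᵥ b ∈ D (σ i0) := by
      rw [← hσ i0]
      exact ⟨b, hb, Matrix.toLin'_apply _ _⟩
    have h1 := Tg_mulVec (∑ i, av S i) 1 b
    rw [one_mul, hub S (by simp [hS]), one_smul] at h1
    rw [show ((Tg (∑ i, av S i) 1 : Matrix.symplecticGroup (Fin m) F).1) =
      ((Tg (∑ i, av S i) 1 : Matrix.symplecticGroup (Fin m) F) :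
        Matrix (Fin m ⊕ Fin m) (Fin m ⊕ Fin m) F) from rfl, h1] at hmem
    let bv : Fin t → (Fin m ⊕ Fin m → F) := fun i => if i = i0 then b else 0
    have hbv : ∀ i, bv i ∈ D i := by
      intro i
      by_cases h : i = i0
      · simp only [bv, if_pos h]; rw [h]; exact hb
      · simp only [bv, if_neg h]; exact (D i).zero_mem
    have hbsum : ∑ i, bv i = b := by
      simp [bv]
    rw [← hbsum, ← Finset.sum_add_distrib] at hmem
    have hcomp := comp_zero_of_mem hOD _ (fun i => (D i).add_mem (hbv i) (hav S i)) (σ i0) hmem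
    by_cases hj : σ i0 = i1
    · have := hcomp i2 (by rw [hj]; exact Ne.symm h12)
      simp only [bv, av, if_neg (Ne.symm h02), zero_add] at this
      rw [if_pos (by simp [hS])] at this
      exact ha0 i2 this
    · have := hcomp i1 (Ne.symm hj)
      simp only [bv, av, if_neg (Ne.symm h01), zero_add] at this
      rw [if_pos (by simp [hS])] at this
      exact ha0 i1 this
  · -- an element of Sp outside K
    intro heq
    set S : Finset (Fin t) := {i0, i1} with hS
    have hScard : S.card = 2 := by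
      rw [hS, Finset.card_insert_of_notMem, Finset.card_singleton]
      simpa using h01
    have hTK : toGL (Tg (∑ i, av S i) 1) ∈ K := by
      rw [heq]; exact toGL_mem _
    have h1 := ((hKmem _).mp hTK).2 b
    rw [toGL_val, hTq S b, hub S (by simp [hS]), if_neg one_ne_zero, hScard] at h1
    have : ((2 : ℕ) : F) + 1 = 1 := by
      push_cast
      linear_combination h2
    rw [add_assoc, this] at h1
    have h3 : (1 : F) = 0 := by simpa using h1
    exact one_ne_zero h3

end main

end Cfsg.Agent.Helper28.SpMax
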