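import Mathlib
import Cfsg.Prelude.Def_GeometricClasses
import Cfsg.Agent.Helper28.UnitMax
import Cfsg.Agent.S0837

set_option autoImplicit false

/-! Non-maximality of the stabiliser of a decomposition into nondegenerate 2-spaces in `SU_n(2)`:
each block has a unique orthonormal frame, so the stabiliser lies in the stabiliser of the refined
frame. -/

namespace Cfsg.Agent.Helper28.UM

open Matrix Module Cfsg.Agent.S2644 Cfsg.Agent.Helper2.SUGen

section field

variable {K : Type*} [Field K] [Fintype K]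

theorem one_add_one_four (hK : Fintype.card K = 4) : (1 : K) + 1 = 0 := by
  have h4 : ((4 : ℕ) : K) = 0 := by rw [← hK]; exact Nat.cast_card_eq_zero K
  have h22 : ((1 : K) + 1) * (1 + 1) = 0 := by
    have : ((4 : ℕ) : K) = (1 + 1) * (1 + 1) := by push_cast; ring
    rw [← this]; exact h4
  exact mul_self_eq_zero.mp h22

theorem pow_three_four (hK : Fintype.card K = 4) {x : K} (hx : x ≠ 0) : x ^ 3 = 1 := by
  have := FiniteField.pow_card_sub_one_eq_one x hx
  rwa [hK] at this

end field

variable {K : Type*} [Field K] {n : ℕ}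

local notation "h" => Cfsg.hermForm n K 2

variable (D : Frob K 2)

include D

theorem norm_eq_one_of_ne {v : Fin n → K} (hv : h v v ≠ 0) : h v v = 1 := by
  have h1 : D.σ (h v v) = h v v := h_self_fix D v
  rw [D.pow] at h1
  have h2 : h v v * (h v v - 1) = 0 := by linear_combination h1
  rcases mul_eq_zero.mp h2 with h3 | h3
  · exact absurd h3 hv
  · exact sub_eq_zero.mp h3

theorem smul_norm [Fintype K] (hK : Fintype.card K = 4) {a : K} (ha : a ≠ 0) : a * D.σ a = 1 := by
  rw [D.pow, ← pow_succ', pow_three_four hK ha]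

/-- orthonormal basis of a nondegenerate 2-space over `F_4` -/
theorem exists_onb [Fintype K] (hK : Fintype.card K = 4) (W : Submodule K (Fin n → K))
    (hW : Cfsg.Geo.IsNondegenerateOn (Cfsg.hermForm n K 2) W) (hfr : finrank K W = 2) :
    ∃ e e' : Fin n → K, e ∈ W ∧ e' ∈ W ∧ h e e = 1 ∧ h e' e' = 1 ∧ h e e' = 0 ∧ h e' e = 0 ∧
      ∀ v ∈ W, v = h v e • e + h v e' • e' := by
  classical
  -- an anisotropic vector
  obtain ⟨a, ha⟩ := Module.finrank_pos_iff_exists_ne_zero.mp (by rw [hfr]; norm_num : 0 < finrank K W)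
  have ha0 : (a : Fin n → K) ≠ 0 := fun h0 => ha (Subtype.ext h0)
  obtain ⟨x, hx, hax⟩ := (hW a a.2 ha0).2
  obtain ⟨e, he, hee⟩ := exists_aniso_of_pair D a.2 hx hax
  have hee1 := norm_eq_one_of_ne D hee
  -- a vector orthogonal to it
  let φ : W →ₗ[K] K :=
    { toFun := fun x => h (x : Fin n → K) e
      map_add' := fun x y => h_add_left _ _ _
      map_smul' := fun c x => h_smul_left _ _ _ }
  have hker : 0 < finrank K (LinearMap.ker φ) := by
    have h1 := LinearMap.finrank_range_add_finrank_ker φ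
    have h2 : finrank K (LinearMap.range φ) ≤ 1 := by
      have := Submodule.finrank_le (LinearMap.range φ)
      simpa using this
    rw [hfr] at h1
    omega
  have hkne : LinearMap.ker φ ≠ ⊥ := by
    intro h0
    rw [h0, finrank_bot] at hker
    omega
  obtain ⟨b, hbker, hb⟩ := (Submodule.ne_bot_iff _).mp hkne
  have hbW : ((b : W) : Fin n → K) ∈ W := (b : W).2
  have hb0 : ((b : W) : Fin n → K) ≠ 0 := fun h0 => hb (Subtype.ext h0)
  have hbe : h ((b : W) : Fin n → K) e = 0 := hbker
  have heb : h e ((b : W) : Fin n → K) = 0 := h_symm_zero D hbe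
  set b' : Fin n → K := ((b : W) : Fin n → K) with hb'
  -- span
  have hli : LinearIndependent K ![(⟨e, he⟩ : W), ⟨b', hbW⟩] := by
    rw [LinearIndependent.pair_iff]
    intro s t hst
    have hst' : s • e + t • b' = 0 := congrArg Subtype.val hst
    have h1 : h (s • e + t • b') e = 0 := by rw [hst', h_zero_left]
    rw [h_add_left, h_smul_left, h_smul_left, hbe, hee1, mul_zero, add_zero, mul_one] at h1
    subst h1
    rw [zero_smul, zero_add] at hst'
    rcases smul_eq_zero.mp hst' with h2 | h2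
    · exact ⟨rfl, h2⟩
    · exact absurd h2 hb0
  have hspan : Submodule.span K (Set.range ![(⟨e, he⟩ : W), ⟨b', hbW⟩]) = ⊤ := by
    apply Submodule.eq_top_of_finrank_eq
    rw [finrank_span_eq_card hli, hfr]
    simp
  have hdec : ∀ v ∈ W, ∃ α β : K, v = α • e + β • b' := by
    intro v hv
    have : (⟨v, hv⟩ : W) ∈ Submodule.span K (Set.range ![(⟨e, he⟩ : W), ⟨b', hbW⟩]) := by
      rw [hspan]; trivial
    obtain ⟨c, hc⟩ := (Submodule.mem_span_range_iff_exists_fun K).mp this
    rw [Fin.sum_univ_two] at hc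
    refine ⟨c 0, c 1, ?_⟩
    have := congrArg Subtype.val hc
    simpa using this.symm
  have hbb : h b' b' ≠ 0 := by
    intro hbb
    obtain ⟨y, hy, hby⟩ := (hW b' hbW hb0).2
    obtain ⟨α, β, rfl⟩ := hdec y hy
    apply hby
    rw [h_add_right D, h_smul_right D, h_smul_right D, hbe, hbb, mul_zero, mul_zero, add_zero]
  have hbb1 := norm_eq_one_of_ne D hbb
  refine ⟨e, b', he, hbW, hee1, hbb1, heb, hbe, ?_⟩
  intro v hv
  obtain ⟨α, β, rfl⟩ := hdec v hv
  rw [h_add_left, h_add_left, h_smul_left, h_smul_left, h_smul_left, h_smul_left, hee1, hbe, heb,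
    hbb1]
  simp

theorem onb_norm {e e' : Fin n → K} (n0 : h e e = 1) (n0' : h e' e' = 1) (o0 : h e e' = 0)
    (o0' : h e' e = 0) (α β : K) :
    h (α • e + β • e') (α • e + β • e') = α * D.σ α + β * D.σ β := by
  simp only [h_add_left, h_smul_left, h_add_right D, h_smul_right D, n0, n0', o0, o0']
  ring

theorem onb_aniso [Fintype K] (hK : Fintype.card K = 4) {e e' : Fin n → K} (n0 : h e e = 1)
    (n0' : h e' e' = 1) (o0 : h e e' = 0) (o0' : h e' e = 0) (α β : K)
    (hne : h (α • e + β • e') (α • e + β • e') ≠ 0) : α = 0 ∨ β = 0 := by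
  by_contra hcon
  push Not at hcon
  apply hne
  rw [onb_norm D n0 n0' o0 o0', smul_norm D hK hcon.1, smul_norm D hK hcon.2]
  exact one_add_one_four hK

/-- **`SU_n(2)`: the stabiliser of a decomposition into nondegenerate 2-spaces is not maximal.** -/
theorem decomp2_not_maximal [Fintype K] (hK : Fintype.card K = 4) {t : ℕ}
    (Dc : Fin t → Submodule K (Fin n → K))
    (hD : Cfsg.Geo.IsNondegenerateMDecomposition (Cfsg.hermForm n K 2) 2 Dc) :
    ∃ Kg : Subgroup (Matrix.GeneralLinearGroup (Fin n) K),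
      Cfsg.Geo.decompositionStabilizer Dc ⊓ (Cfsg.GU n K 2 ⊓ Cfsg.Geo.specialLinear (Fin n) K) < Kg ∧
      Kg < (Cfsg.GU n K 2 ⊓ Cfsg.Geo.specialLinear (Fin n) K) := by
  classical
  have h2 := one_add_one_four hK
  have hvv2 : ∀ v : Fin n → K, v + v = 0 := by
    intro v
    rw [← two_smul K v]
    have : (2 : K) = 0 := by rw [← one_add_one_eq_two]; exact h2
    rw [this, zero_smul]
  have ht2 := hD.decomp.two_le
  set i0 : Fin t := ⟨0, by omega⟩ with hi0
  set i1 : Fin t := ⟨1, by omega⟩ with hi1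
  have h01 : i0 ≠ i1 := by
    intro h'; rw [hi0, hi1, Fin.mk.injEq] at h'; omega
  have horth : ∀ i j, i ≠ j → ∀ u ∈ Dc i, ∀ v ∈ Dc j, h u v = 0 :=
    fun i j hij u hu v hv => hD.orthogonal i j hij u hu v hv
  obtain ⟨e0, e0', he0, he0', n0, n0', o0, o0', dec0⟩ :=
    exists_onb D hK (Dc i0) (hD.nondegenerate i0) (hD.decomp.finrank_eq i0)
  obtain ⟨e1, e1', he1, he1', n1, n1', o1, o1', dec1⟩ :=
    exists_onb D hK (Dc i1) (hD.nondegenerate i1) (hD.decomp.finrank_eq i1)
  -- the property
  let P : (Fin n → K) → Prop := fun v => h v v ≠ 0 ∧ ∃ i, v ∈ Dc i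
  let Kg : Subgroup (Matrix.GeneralLinearGroup (Fin n) K) :=
    { carrier := {g | g ∈ Cfsg.GU n K 2 ⊓ Cfsg.Geo.specialLinear (Fin n) K ∧
        ∀ v : Fin n → K, P ((g : Matrix (Fin n) (Fin n) K) *ᵥ v) ↔ P v}
      mul_mem' := by
        rintro g g' ⟨hg1, hg2⟩ ⟨hh1, hh2⟩
        refine ⟨Subgroup.mul_mem _ hg1 hh1, fun v => ?_⟩
        rw [Units.val_mul, ← mulVec_mulVec, hg2, hh2]
      one_mem' := ⟨Subgroup.one_mem _, fun v => by simp⟩
      inv_mem' := by
        rintro g ⟨hg1, hg2⟩
        refine ⟨Subgroup.inv_mem _ hg1, fun v => ?_⟩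
        have e1 : (g : Matrix (Fin n) (Fin n) K) *ᵥ
            (((g⁻¹ : Matrix.GeneralLinearGroup (Fin n) K) : Matrix (Fin n) (Fin n) K) *ᵥ v) = v := by
          rw [mulVec_mulVec, ← Units.val_mul, mul_inv_cancel, Units.val_one, one_mulVec]
        rw [← hg2, e1] }
  have hKmem : ∀ g, g ∈ Kg ↔ g ∈ Cfsg.GU n K 2 ⊓ Cfsg.Geo.specialLinear (Fin n) K ∧
        ∀ v : Fin n → K, P ((g : Matrix (Fin n) (Fin n) K) *ᵥ v) ↔ P v := fun g => Iff.rfl
  -- transvections
  have hc1 : (1 : K) + D.σ 1 + h (0 : Fin n → K) 0 = 0 := by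
    rw [map_one, h_zero_left, add_zero]; exact h2
  have tv_apply : ∀ (w : Fin n → K) (hww : h w w = 0) (z : Fin n → K),
      ((SgG D w 0 1 hww (h_zero_left w) hc1 : Matrix.GeneralLinearGroup (Fin n) K) :
        Matrix (Fin n) (Fin n) K) *ᵥ z = z + h z w • w := by
    intro w hww z
    rw [SgG_val, Sg_mulVec, h_zero_right D, one_mul]
    simp
  have tv_mem : ∀ (w : Fin n → K) (hww : h w w = 0),
      SgG D w 0 1 hww (h_zero_left w) hc1 ∈ Cfsg.GU n K 2 ⊓ Cfsg.Geo.specialLinear (Fin n) K := by
    intro w hww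
    refine (mem_G_iff _).mpr ⟨?_, ?_⟩
    · rw [SgG_val]; exact Sg_pres D w 0 1 hww (h_zero_left w) hc1
    · rw [SgG_val]; exact Sg_det D w 0 1 hww (h_zero_left w)
  have tv_invol : ∀ (w : Fin n → K) (hww : h w w = 0) (z : Fin n → K),
      (z + h z w • w) + h (z + h z w • w) w • w = z := by
    intro w hww z
    rw [h_add_left, h_smul_left, hww, mul_zero, add_zero, add_assoc, hvv2, add_zero]
  have hle : Cfsg.Geo.decompositionStabilizer Dc ⊓
      (Cfsg.GU n K 2 ⊓ Cfsg.Geo.specialLinear (Fin n) K) ≤ Kg := by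
    rintro g ⟨⟨σ, hσ⟩, hg2⟩
    refine (hKmem g).mpr ⟨hg2, fun v => ?_⟩
    have hpres : Pres (q := 2) (g : Matrix (Fin n) (Fin n) K) := ((mem_G_iff g).mp hg2).1
    constructor
    · rintro ⟨hn, j, hj⟩
      refine ⟨by rwa [hpres v v] at hn, σ.symm j, ?_⟩
      have := hσ (σ.symm j)
      rw [Equiv.apply_symm_apply] at this
      rw [← this] at hj
      obtain ⟨v', hv', hvv'⟩ := hj
      rw [Matrix.toLin'_apply] at hvv'
      have hinj : v' = v := by
        have := congrArg (fun z => ((g⁻¹ : Matrix.GeneralLinearGroup (Fin n) K) :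
          Matrix (Fin n) (Fin n) K) *ᵥ z) hvv'
        simpa [mulVec_mulVec, ← Units.val_mul] using this
      rw [← hinj]; exact hv'
    · rintro ⟨hn, i, hi⟩
      refine ⟨by rwa [hpres v v], σ i, ?_⟩
      rw [← hσ i]
      exact ⟨v, hi, Matrix.toLin'_apply _ _⟩
  refine ⟨Kg, lt_of_le_of_ne hle ?_, lt_of_le_of_ne (fun g hg => hg.1) ?_⟩
  · -- an element of Kg outside the stabiliser
    intro heq
    obtain ⟨w, hw⟩ : ∃ w : Fin n → K, w = e0' + e1 := ⟨_, rfl⟩
    have hww : h w w = 0 := by
      rw [hw, h_add_left, h_add_right D, h_add_right D, n0', n1, horth i0 i1 h01 e0' he0' e1 he1,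
        horth i1 i0 h01.symm e1 he1 e0' he0']
      linear_combination h2
    have hgK : SgG D w 0 1 hww (h_zero_left w) hc1 ∈ Kg := by
      have hone : ∀ v, P v → P (v + h v w • w) := by
        rintro v ⟨hvv, i, hvi⟩
        have hnorm : h (v + h v w • w) (v + h v w • w) ≠ 0 := by
          have := ((mem_G_iff _).mp (tv_mem w hww)).1 v v
          rw [tv_apply w hww v] at this
          rwa [this]
        refine ⟨hnorm, ?_⟩
        by_cases hvi0 : i = i0
        · rw [hvi0] at hvi
          obtain ⟨α, β, hα, hβ', hv⟩ : ∃ α β : K, h v e0 = α ∧ h v e0' = β ∧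
              v = α • e0 + β • e0' := ⟨_, _, rfl, rfl, dec0 v hvi⟩
          have hvw : h v w = β := by
            rw [hw, h_add_right D, horth i0 i1 h01 v hvi e1 he1, add_zero, hβ']
          rw [hvw]
          by_cases hβ : β = 0
          · rw [hβ, zero_smul, add_zero]; exact ⟨i0, hvi⟩
          · have hα0 : α = 0 := by
              rw [hv] at hvv
              exact (onb_aniso D hK n0 n0' o0 o0' _ _ hvv).resolve_right hβ
            refine ⟨i1, ?_⟩
            have : v + β • w = β • e1 := by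
              rw [hv, hα0, hw, zero_smul, zero_add, smul_add, ← add_assoc, hvv2, zero_add]
            rw [this]
            exact (Dc i1).smul_mem _ he1
        · by_cases hvi1 : i = i1
          · rw [hvi1] at hvi
            obtain ⟨α, β, hα', hβ', hv⟩ : ∃ α β : K, h v e1 = α ∧ h v e1' = β ∧
                v = α • e1 + β • e1' := ⟨_, _, rfl, rfl, dec1 v hvi⟩
            have hvw : h v w = α := by
              rw [hw, h_add_right D, horth i1 i0 h01.symm v hvi e0' he0', zero_add, hα']
            rw [hvw]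
            by_cases hα : α = 0
            · rw [hα, zero_smul, add_zero]; exact ⟨i1, hvi⟩
            · have hβ0 : β = 0 := by
                rw [hv] at hvv
                exact (onb_aniso D hK n1 n1' o1 o1' _ _ hvv).resolve_left hα
              refine ⟨i0, ?_⟩
              have : v + α • w = α • e0' := by
                rw [hv, hβ0, zero_smul, add_zero, hw, smul_add, add_comm (α • e0'), ← add_assoc, hvv2,
                  zero_add]
              rw [this]
              exact (Dc i0).smul_mem _ he0'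
          · have hvw : h v w = 0 := by
              rw [hw, h_add_right D, horth i i0 hvi0 v hvi e0' he0', horth i i1 hvi1 v hvi e1 he1,
                add_zero]
            rw [hvw, zero_smul, add_zero]
            exact ⟨i, hvi⟩
      refine (hKmem _).mpr ⟨tv_mem w hww, fun v => ?_⟩
      rw [tv_apply w hww v]
      constructor
      · intro hP
        have := hone _ hP
        rwa [tv_invol w hww v] at this
      · exact hone v
    rw [← heq] at hgK
    obtain ⟨⟨σ, hσ⟩, -⟩ := hgK
    have hm0 : e0 ∈ Dc (σ i0) := by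
      rw [← hσ i0]
      refine ⟨e0, he0, ?_⟩
      rw [Matrix.toLin'_apply, tv_apply w hww e0, hw, h_add_right D, o0,
        horth i0 i1 h01 e0 he0 e1 he1, add_zero, zero_smul, add_zero]
    have hm1 : e1 ∈ Dc (σ i0) := by
      rw [← hσ i0]
      refine ⟨e0', he0', ?_⟩
      rw [Matrix.toLin'_apply, tv_apply w hww e0', hw, h_add_right D, n0',
        horth i0 i1 h01 e0' he0' e1 he1, add_zero, one_smul, ← add_assoc, hvv2, zero_add]
    by_cases hs : σ i0 = i0
    · rw [hs] at hm1
      have := horth i0 i1 h01 e1 hm1 e1 he1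
      rw [n1] at this
      exact one_ne_zero this
    · have := horth (σ i0) i0 hs e0 hm0 e0 he0
      rw [n0] at this
      exact one_ne_zero this
  · -- an element of SU outside Kg
    intro heq
    obtain ⟨p0, hp0⟩ : ∃ p : Fin n → K, p = e0 + e0' := ⟨_, rfl⟩
    obtain ⟨p1, hp1⟩ : ∃ p : Fin n → K, p = e1 + e1' := ⟨_, rfl⟩
    have hp0m : p0 ∈ Dc i0 := by rw [hp0]; exact (Dc i0).add_mem he0 he0'
    have hp1m : p1 ∈ Dc i1 := by rw [hp1]; exact (Dc i1).add_mem he1 he1'
    have hp00 : h p0 p0 = 0 := by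
      rw [hp0, h_add_left, h_add_right D, h_add_right D, n0, n0', o0, o0']
      linear_combination h2
    have hp11 : h p1 p1 = 0 := by
      rw [hp1, h_add_left, h_add_right D, h_add_right D, n1, n1', o1, o1']
      linear_combination h2
    obtain ⟨w, hw⟩ : ∃ w : Fin n → K, w = p0 + p1 := ⟨_, rfl⟩
    have hww : h w w = 0 := by
      rw [hw, h_add_left, h_add_right D, h_add_right D, hp00, hp11,
        horth i0 i1 h01 p0 hp0m p1 hp1m, horth i1 i0 h01.symm p1 hp1m p0 hp0m]
      ring
    have hgK : SgG D w 0 1 hww (h_zero_left w) hc1 ∈ Kg := by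
      rw [heq]; exact tv_mem w hww
    have hP0 : P e0 := ⟨by rw [n0]; exact one_ne_zero, i0, he0⟩
    have hP1 := (((hKmem _).mp hgK).2 e0).mpr hP0
    rw [tv_apply w hww e0] at hP1
    have he0w : h e0 w = 1 := by
      rw [hw, h_add_right D, hp0, h_add_right D, n0, o0, horth i0 i1 h01 e0 he0 p1 hp1m]
      ring
    have hval : e0 + h e0 w • w = e0' + p1 := by
      rw [he0w, one_smul, hw, hp0, ← add_assoc, ← add_assoc, hvv2, zero_add]
    rw [hval] at hP1
    obtain ⟨-, j, hj⟩ := hP1
    by_cases hj0 : j = i0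
    · rw [hj0] at hj
      have := horth i0 i1 h01 _ hj e1 he1
      rw [h_add_left, horth i0 i1 h01 e0' he0' e1 he1, hp1, h_add_left, n1, o1'] at this
      simp at this
    · have := horth j i0 hj0 _ hj e0' he0'
      rw [h_add_left, n0', horth i1 i0 h01.symm p1 hp1m e0' he0'] at this
      simp at this

end Cfsg.Agent.Helper28.UM
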