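import Mathlib
import Cfsg.Prelude.Def_GeometricClasses
import Cfsg.Agent.Helper28.Quad
import Cfsg.Agent.Helper28.SpDecompNM
import Cfsg.Agent.Helper28.UnitDecompNM
import Cfsg.Agent.Helper28.OrthFrame

set_option autoImplicit false

/-! Non-maximality of the stabiliser of an `m`-decomposition in `SL_n(q)` for
`(m, q) ∈ {(1,2), (1,3), (1,4), (2,2)}`: it preserves the number of non-zero components modulo the
characteristic. -/

namespace Cfsg.Agent.Helper28.LinNM

open Matrix Module

variable {F : Type*} [Field F] {ι : Type} [Fintype ι] [DecidableEq ι] {t m : ℕ}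

/-- a basis adapted to a decomposition -/
theorem exists_adapted_basis (D : Fin t → Submodule F (ι → F))
    (hD : Cfsg.Geo.IsMDecomposition m D) :
    ∃ b : Basis (Fin t × Fin m) F (ι → F), (∀ i j, b (i, j) ∈ D i) ∧
      ∀ i, ∀ v ∈ D i, ∀ i' j, i' ≠ i → b.repr v (i', j) = 0 := by
  classical
  have hI : DirectSum.IsInternal D :=
    (DirectSum.isInternal_submodule_iff_iSupIndep_and_iSup_eq_top D).mpr ⟨hD.indep, hD.iSup_eq_top⟩
  let bi : ∀ i, Basis (Fin m) F (D i) := fun i => Module.finBasisOfFinrankEq F (D i) (hD.finrank_eq i)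
  let B := hI.collectedBasis bi
  refine ⟨B.reindex (Equiv.sigmaEquivProd (Fin t) (Fin m)), ?_, ?_⟩
  · intro i j
    rw [Basis.reindex_apply]
    exact hI.collectedBasis_mem bi ⟨i, j⟩
  · intro i v hv i' j hne
    rw [Basis.repr_reindex_apply]
    exact hI.collectedBasis_repr_of_mem_ne bi (Ne.symm hne) hv

section wt

variable (b : Basis (Fin t × Fin m) F (ι → F))

/-- the complement of the `i`-th block -/
def R (D : Fin t → Submodule F (ι → F)) (i : Fin t) : Submodule F (ι → F) := ⨆ (k) (_ : k ≠ i), D k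

theorem mem_R_iff (D : Fin t → Submodule F (ι → F)) (hb1 : ∀ i j, b (i, j) ∈ D i)
    (hb2 : ∀ i, ∀ v ∈ D i, ∀ i' j, i' ≠ i → b.repr v (i', j) = 0) (i : Fin t) (v : ι → F) :
    v ∈ R D i ↔ ∀ j, b.repr v (i, j) = 0 := by
  classical
  constructor
  · intro hv j
    let Z : Submodule F (ι → F) := LinearMap.ker (b.coord (i, j))
    have hle : R D i ≤ Z := by
      unfold R
      apply iSup₂_le
      intro k hk w hw
      show b.coord (i, j) w = 0
      rw [Basis.coord_apply]
      exact hb2 k w hw i j (Ne.symm hk)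
    have := hle hv
    rw [LinearMap.mem_ker, Basis.coord_apply] at this
    exact this
  · intro h
    have hsum := b.sum_repr v
    rw [← hsum]
    apply Submodule.sum_mem
    rintro ⟨k, j⟩ _
    by_cases hk : k = i
    · subst hk
      rw [h j, zero_smul]
      exact Submodule.zero_mem _
    · apply Submodule.smul_mem
      unfold R
      exact Submodule.mem_iSup_of_mem k (Submodule.mem_iSup_of_mem hk (hb1 k j))

/-- the number of non-zero block components, in `F` -/
noncomputable def wt (v : ι → F) : F := by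
  classical
  exact ∑ i : Fin t, (if ∃ j, b.repr v (i, j) ≠ 0 then (1 : F) else 0)

theorem wt_stab (D : Fin t → Submodule F (ι → F)) (hb1 : ∀ i j, b (i, j) ∈ D i)
    (hb2 : ∀ i, ∀ v ∈ D i, ∀ i' j, i' ≠ i → b.repr v (i', j) = 0)
    (g : GL ι F) (hg : g ∈ Cfsg.Geo.decompositionStabilizer D) (v : ι → F) :
    wt b ((g : Matrix ι ι F) *ᵥ v) = wt b v := by
  classical
  obtain ⟨σ, hσ⟩ := hg
  have hinj : Function.Injective (Matrix.toLin' (g : Matrix ι ι F)) := by
    intro x y hxy
    rw [Matrix.toLin'_apply, Matrix.toLin'_apply] at hxy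
    have := congrArg (fun z => ((g⁻¹ : GL ι F) : Matrix ι ι F) *ᵥ z) hxy
    simpa [Matrix.mulVec_mulVec, ← Units.val_mul] using this
  have hR : ∀ i, (R D i).map (Matrix.toLin' (g : Matrix ι ι F)) = R D (σ i) := by
    intro i
    unfold R
    rw [Submodule.map_iSup]
    simp only [Submodule.map_iSup, hσ]
    apply le_antisymm
    · apply iSup₂_le
      intro k hk
      exact le_iSup₂_of_le (σ k) (fun h => hk (σ.injective h)) le_rfl
    · apply iSup₂_le
      intro k hk
      refine le_iSup₂_of_le (σ.symm k) (fun h => hk ?_) (by rw [Equiv.apply_symm_apply])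
      rw [← h, Equiv.apply_symm_apply]
  have hiff : ∀ i, (∃ j, b.repr ((g : Matrix ι ι F) *ᵥ v) (σ i, j) ≠ 0) ↔ (∃ j, b.repr v (i, j) ≠ 0) := by
    intro i
    have h1 := mem_R_iff b D hb1 hb2 (σ i) ((g : Matrix ι ι F) *ᵥ v)
    have h2 := mem_R_iff b D hb1 hb2 i v
    have h3 : (g : Matrix ι ι F) *ᵥ v ∈ R D (σ i) ↔ v ∈ R D i := by
      rw [← hR i]
      constructor
      · rintro ⟨w, hw, hwv⟩
        rw [← Matrix.toLin'_apply] at hwv
        rw [← hinj hwv]; exact hw
      · intro hv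
        exact ⟨v, hv, Matrix.toLin'_apply _ _⟩
    rw [← not_iff_not]
    push Not
    rw [← h1, ← h2, h3]
  unfold wt
  rw [← Equiv.sum_comp σ]
  apply Finset.sum_congr rfl
  intro i _
  by_cases hP : ∃ j, b.repr v (i, j) ≠ 0
  · rw [if_pos hP, if_pos ((hiff i).mpr hP)]
  · rw [if_neg hP, if_neg (fun h => hP ((hiff i).mp h))]

end wt

section rankone

/-- the rank-one perturbation `v ↦ v + φ v • u` -/
noncomputable def tmat (φ : (ι → F) →ₗ[F] F) (u : ι → F) : Matrix ι ι F :=
  1 + Matrix.vecMulVec u (fun k => φ (Pi.single k 1))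

theorem phi_eq_dot (φ : (ι → F) →ₗ[F] F) (v : ι → F) :
    φ v = (fun k => φ (Pi.single k 1)) ⬝ᵥ v := by
  rw [LinearMap.pi_apply_eq_sum_univ φ v]
  unfold dotProduct
  apply Finset.sum_congr rfl
  intro k _
  rw [smul_eq_mul, mul_comm]
  show φ (fun j => if k = j then 1 else 0) * v k = φ (Pi.single k 1) * v k
  congr 2
  funext j
  simp [Pi.single_apply, eq_comm]

theorem tmat_mulVec (φ : (ι → F) →ₗ[F] F) (u v : ι → F) : tmat φ u *ᵥ v = v + φ v • u := by
  unfold tmat
  rw [Matrix.add_mulVec, Matrix.one_mulVec, phi_eq_dot φ v]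
  congr 1
  funext i
  simp only [Matrix.mulVec, Matrix.vecMulVec_apply, dotProduct, Pi.smul_apply, smul_eq_mul]
  rw [Finset.sum_mul]
  apply Finset.sum_congr rfl
  intro k _
  ring

theorem tmat_det (φ : (ι → F) →ₗ[F] F) (u : ι → F) : (tmat φ u).det = 1 + φ u := by
  unfold tmat
  rw [Cfsg.Agent.Helper28.det_one_add_vecMulVec, ← phi_eq_dot φ u]

/-- the rank-one perturbation as an element of `GL` -/
noncomputable def tGL (φ : (ι → F) →ₗ[F] F) (u : ι → F) (h : 1 + φ u ≠ 0) : GL ι F :=
  Matrix.GeneralLinearGroup.mkOfDetNeZero (tmat φ u) (by rw [tmat_det]; exact h)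

theorem tGL_val (φ : (ι → F) →ₗ[F] F) (u : ι → F) (h : 1 + φ u ≠ 0) :
    ((tGL φ u h : GL ι F) : Matrix ι ι F) = tmat φ u := rfl

theorem mem_SL_iff (g : GL ι F) :
    g ∈ Cfsg.Geo.specialLinear ι F ↔ (g : Matrix ι ι F).det = 1 := by
  unfold Cfsg.Geo.specialLinear
  rw [MonoidHom.mem_ker, Units.ext_iff]
  rfl

end rankone

section generic

variable (b : Basis (Fin t × Fin m) F (ι → F))

theorem wt_eq_card (v : ι → F) : wt b v = by
    classical
    exact ((Finset.univ.filter (fun i : Fin t => ∃ j, b.repr v (i, j) ≠ 0)).card : F) := by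
  classical
  unfold wt
  rw [Finset.sum_boole]

theorem repr_tmat (φ : (ι → F) →ₗ[F] F) (u v : ι → F) (p : Fin t × Fin m) :
    b.repr (tmat φ u *ᵥ v) p = b.repr v p + φ v * b.repr u p := by
  rw [tmat_mulVec, map_add, map_smul]
  simp

/-- an element mapping a vector of a block to a vector meeting two blocks is not in the stabiliser -/
theorem not_stab_of (D : Fin t → Submodule F (ι → F))
    (hb2 : ∀ i, ∀ v ∈ D i, ∀ i' j, i' ≠ i → b.repr v (i', j) = 0) (G : GL ι F)
    (i : Fin t) (w : ι → F) (hw : w ∈ D i) (i₁ i₂ : Fin t) (j₁ j₂ : Fin m) (h12 : i₁ ≠ i₂)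
    (h1 : b.repr ((G : Matrix ι ι F) *ᵥ w) (i₁, j₁) ≠ 0)
    (h2 : b.repr ((G : Matrix ι ι F) *ᵥ w) (i₂, j₂) ≠ 0) :
    G ∉ Cfsg.Geo.decompositionStabilizer D := by
  rintro ⟨σ, hσ⟩
  have hmem : (G : Matrix ι ι F) *ᵥ w ∈ D (σ i) := by
    rw [← hσ i]
    exact ⟨w, hw, Matrix.toLin'_apply _ _⟩
  have e1 : i₁ = σ i := by
    by_contra hne
    exact h1 (hb2 (σ i) _ hmem i₁ j₁ hne)
  have e2 : i₂ = σ i := by
    by_contra hne
    exact h2 (hb2 (σ i) _ hmem i₂ j₂ hne)
  exact h12 (e1.trans e2.symm)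

/-- the generic non-maximality statement: a weight-preserving element of `SL` outside the stabiliser
suffices. -/
theorem not_maximal_of (D : Fin t → Submodule F (ι → F)) (hb1 : ∀ i j, b (i, j) ∈ D i)
    (hb2 : ∀ i, ∀ v ∈ D i, ∀ i' j, i' ≠ i → b.repr v (i', j) = 0) (ht : 2 ≤ t) (hm : 1 ≤ m)
    (G : GL ι F) (hGdet : (G : Matrix ι ι F).det = 1)
    (hGwt : ∀ v, wt b ((G : Matrix ι ι F) *ᵥ v) = wt b v)
    (hGnot : G ∉ Cfsg.Geo.decompositionStabilizer D) :
    ∃ K : Subgroup (GL ι F), Cfsg.Geo.decompositionStabilizer D ⊓ Cfsg.Geo.specialLinear ι F < K ∧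
      K < Cfsg.Geo.specialLinear ι F := by
  classical
  let K : Subgroup (GL ι F) :=
    { carrier := {g | g ∈ Cfsg.Geo.specialLinear ι F ∧
        ∀ v : ι → F, wt b ((g : Matrix ι ι F) *ᵥ v) = wt b v}
      mul_mem' := by
        rintro g h ⟨hg1, hg2⟩ ⟨hh1, hh2⟩
        refine ⟨Subgroup.mul_mem _ hg1 hh1, fun v => ?_⟩
        rw [Units.val_mul, ← Matrix.mulVec_mulVec, hg2, hh2]
      one_mem' := ⟨Subgroup.one_mem _, fun v => by simp⟩
      inv_mem' := by
        rintro g ⟨hg1, hg2⟩
        refine ⟨Subgroup.inv_mem _ hg1, fun v => ?_⟩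
        have e1 : (g : Matrix ι ι F) *ᵥ (((g⁻¹ : GL ι F) : Matrix ι ι F) *ᵥ v) = v := by
          rw [Matrix.mulVec_mulVec, ← Units.val_mul, mul_inv_cancel, Units.val_one, Matrix.one_mulVec]
        rw [← hg2, e1] }
  have hKmem : ∀ g, g ∈ K ↔ g ∈ Cfsg.Geo.specialLinear ι F ∧
        ∀ v : ι → F, wt b ((g : Matrix ι ι F) *ᵥ v) = wt b v := fun g => Iff.rfl
  have hle : Cfsg.Geo.decompositionStabilizer D ⊓ Cfsg.Geo.specialLinear ι F ≤ K := by
    rintro g ⟨hg1, hg2⟩
    exact (hKmem g).mpr ⟨hg2, wt_stab b D hb1 hb2 g hg1⟩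
  refine ⟨K, lt_of_le_of_ne hle ?_, lt_of_le_of_ne (fun g hg => hg.1) ?_⟩
  · intro heq
    have : G ∈ K := (hKmem G).mpr ⟨(mem_SL_iff G).mpr hGdet, hGwt⟩
    rw [← heq] at this
    exact hGnot this.1
  · intro heq
    set i0 : Fin t := ⟨0, by omega⟩ with hi0
    set i1 : Fin t := ⟨1, by omega⟩ with hi1
    set j0 : Fin m := ⟨0, by omega⟩ with hj0
    have h01 : i0 ≠ i1 := by
      intro h; rw [hi0, hi1, Fin.mk.injEq] at h; omega
    have hφu : b.coord (i0, j0) (b (i1, j0)) = 0 := by
      rw [Basis.coord_apply, Basis.repr_self, Finsupp.single_apply, if_neg]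
      intro h
      exact h01 (congrArg Prod.fst h).symm
    have hne : (1 : F) + b.coord (i0, j0) (b (i1, j0)) ≠ 0 := by
      rw [hφu, add_zero]; exact one_ne_zero
    have hT : tGL (b.coord (i0, j0)) (b (i1, j0)) hne ∈ K := by
      rw [heq, mem_SL_iff, tGL_val, tmat_det, hφu, add_zero]
    have hwt := ((hKmem _).mp hT).2 (b (i0, j0))
    rw [wt_eq_card, wt_eq_card] at hwt
    have hc1 : (Finset.univ.filter (fun i : Fin t => ∃ j, b.repr (b (i0, j0)) (i, j) ≠ 0)) = {i0} := by
      ext i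
      simp only [Finset.mem_filter, Finset.mem_univ, true_and, Finset.mem_singleton,
        Basis.repr_self, Finsupp.single_apply]
      constructor
      · rintro ⟨j, hj⟩
        by_contra hne'
        apply hj
        rw [if_neg]
        intro h
        exact hne' (congrArg Prod.fst h).symm
      · rintro rfl
        exact ⟨j0, by simp⟩
    have hrepr : ∀ p, b.repr ((tGL (b.coord (i0, j0)) (b (i1, j0)) hne : GL ι F) *ᵥ b (i0, j0)) p =
        (if (i0, j0) = p then (1 : F) else 0) + (if (i1, j0) = p then (1 : F) else 0) := by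
      intro p
      rw [tGL_val, repr_tmat, Basis.coord_apply, Basis.repr_self, Basis.repr_self,
        Finsupp.single_apply, Finsupp.single_apply, Finsupp.single_apply, if_pos rfl, one_mul]
    have hc2 : (Finset.univ.filter (fun i : Fin t => ∃ j,
        b.repr ((tGL (b.coord (i0, j0)) (b (i1, j0)) hne : GL ι F) *ᵥ b (i0, j0)) (i, j) ≠ 0)) =
        {i0, i1} := by
      ext i
      simp only [Finset.mem_filter, Finset.mem_univ, true_and, Finset.mem_insert,
        Finset.mem_singleton]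
      constructor
      · rintro ⟨j, hj⟩
        by_contra hne'
        push Not at hne'
        apply hj
        rw [hrepr, if_neg, if_neg, add_zero]
        · intro h; exact hne'.2 (congrArg Prod.fst h).symm
        · intro h; exact hne'.1 (congrArg Prod.fst h).symm
      · rintro (rfl | rfl)
        · refine ⟨j0, ?_⟩
          rw [hrepr, if_pos rfl, if_neg, add_zero]
          · exact one_ne_zero
          · intro h; exact h01 (congrArg Prod.fst h).symm
        · refine ⟨j0, ?_⟩
          rw [hrepr, if_neg, if_pos rfl, zero_add]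
          · exact one_ne_zero
          · intro h; exact h01 (congrArg Prod.fst h)
    rw [hc1, hc2, Finset.card_singleton, Finset.card_pair h01] at hwt
    have : (1 : F) = 0 := by
      push_cast at hwt
      linear_combination hwt
    exact one_ne_zero this

end generic

end Cfsg.Agent.Helper28.LinNM
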