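import Cfsg.Agent.Helper28.S2258Defs
import Cfsg.Agent.Helper18.Dickson45
import Cfsg.Agent.Helper20.S2258DICT

/-! S2258 piece NOEIG1 (driver helper28): an involution of `PSL₂(F)` lifts to a matrix of trace `0`
without eigenvectors (`-1` is not a square). -/

set_option autoImplicit false

namespace Cfsg.Agent.S2258P

open Cfsg.Agent.Helper18.Dickson

variable {F : Type*} [Field F] [Fintype F] {p : ℕ}

local notation "SF" => Matrix.SpecialLinearGroup (Fin 2) F
local notation "MF" => Matrix (Fin 2) (Fin 2) F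
local notation "PF" => Matrix.ProjectiveSpecialLinearGroup (Fin 2) F
local notation "π" => QuotientGroup.mk' (Subgroup.center SF)

namespace NOEIG1

omit [Fintype F] in
/-- an eigenvalue of `X` is a root of the characteristic polynomial -/
theorem eigen_root (X : SF) (v : Fin 2 → F) (hv : v ≠ 0) (a : F)
    (hXv : (X : MF).mulVec v = a • v) : a ^ 2 - tr X * a + 1 = 0 := by
  have hch := ch_sq X
  have h1 : ((X : MF) * (X : MF)).mulVec v = (a * a) • v := by
    rw [← Matrix.mulVec_mulVec, hXv, Matrix.mulVec_smul, hXv, smul_smul]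
  rw [hch, Matrix.sub_mulVec, Matrix.smul_mulVec, hXv, Matrix.one_mulVec, smul_smul] at h1
  obtain ⟨i, hi⟩ : ∃ i, v i ≠ 0 := by
    by_contra hcon
    push Not at hcon
    exact hv (funext hcon)
  have h2 := congrFun h1 i
  simp only [Pi.sub_apply, Pi.smul_apply, smul_eq_mul] at h2
  have h3 : (a ^ 2 - tr X * a + 1) * v i = 0 := by
    unfold tr
    linear_combination -h2
  rcases mul_eq_zero.1 h3 with h4 | h4
  · exact h4
  · exact absurd h4 hi

end NOEIG1

/-- NOEIG1 (S–M). -/
theorem noEig_of_invol (h : Hyp F p) (X : SF) (hx : orderOf (π X : PF) = 2) :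
    tr X = 0 ∧ NoEig X := by
  have h2 := h.two_ne_zero
  have hsq : (π X : PF) ^ 2 = 1 := by
    have := pow_orderOf_eq_one (π X : PF)
    rwa [hx] at this
  have hne : (π X : PF) ≠ 1 := by
    intro h1
    rw [h1, orderOf_one] at hx
    omega
  have htr : tr X = 0 := by
    rcases (mk_sq_eq_one_iff h2 X).1 hsq with h1 | h1 | h1
    · exact absurd ((mk_eq_one_iff X).2 (Or.inl h1)) hne
    · exact absurd ((mk_eq_one_iff X).2 (Or.inr h1)) hne
    · exact h1
  refine ⟨htr, ?_⟩
  intro v hv a hXv
  have := NOEIG1.eigen_root X v hv a hXv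
  rw [htr] at this
  apply h.not_isSquare_neg_one
  exact ⟨a, by linear_combination -this⟩

end Cfsg.Agent.S2258P
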