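import Mathlib
import Cfsg.Prelude.Def_GeometricClasses
import Cfsg.Agent.Helper2.SU.Main
import Cfsg.Agent.Helper28.SimMax

set_option autoImplicit false

/-! Maximality of the unitary similarity group in `SL_n(q^2)` (standard Hermitian form). -/

namespace Cfsg.Agent.Helper28.USim

open Matrix Module Cfsg.Agent.S2644 Cfsg.Agent.Helper2.SUGen Cfsg.Agent.Helper28.SLMax
  Cfsg.Agent.Helper28.SimMax

variable {K : Type*} [Field K] {q n : ℕ}

local notation "h" => Cfsg.hermForm n K q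

variable (D : Frob K q)

include D

theorem cj_add (u v : Fin n → K) : cj (q := q) (u + v) = cj (q := q) u + cj (q := q) v := by
  funext i
  simp only [cj, Pi.add_apply]
  rw [← D.pow, ← D.pow, ← D.pow, map_add]

theorem cj_smul (c : K) (u : Fin n → K) : cj (q := q) (c • u) = D.σ c • cj (q := q) u := by
  funext i
  simp only [cj, Pi.smul_apply, smul_eq_mul]
  rw [mul_pow, D.pow]

theorem cj_neg (u : Fin n → K) : cj (q := q) (-u) = - cj (q := q) u := by
  have := cj_smul D (-1 : K) u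
  simpa using this

theorem cj_surj (φ : Fin n → K) : ∃ u : Fin n → K, cj (q := q) u = φ := by
  refine ⟨fun i => D.σ (φ i), ?_⟩
  funext i
  simp only [cj]
  rw [← D.pow, D.invol]

omit D in
/-- conjugating a transvection `E w (cj u)` by an isometry -/
theorem conj_pres (g : Matrix.GeneralLinearGroup (Fin n) K)
    (hg : Pres (q := q) (g : Matrix (Fin n) (Fin n) K)) (w u : Fin n → K) :
    (g : Matrix (Fin n) (Fin n) K) * E w (cj (q := q) u) *
      ((g⁻¹ : Matrix.GeneralLinearGroup (Fin n) K) : Matrix (Fin n) (Fin n) K) =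
    E ((g : Matrix (Fin n) (Fin n) K) *ᵥ w) (cj (q := q) ((g : Matrix (Fin n) (Fin n) K) *ᵥ u)) := by
  rw [conj_E]
  congr 1
  apply covec_ext
  intro z
  rw [← Matrix.dotProduct_mulVec, cj_dot, cj_dot]
  have h1 : (g : Matrix (Fin n) (Fin n) K) *ᵥ
      (((g⁻¹ : Matrix.GeneralLinearGroup (Fin n) K) : Matrix (Fin n) (Fin n) K) *ᵥ z) = z := by
    rw [Matrix.mulVec_mulVec, ← Units.val_mul, mul_inv_cancel, Units.val_one, Matrix.one_mulVec]
  conv_rhs => rw [← h1]
  rw [hg]

omit D in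
theorem MS_inv {M : Subgroup (Matrix.GeneralLinearGroup (Fin n) K)}
    {A A' : Matrix (Fin n) (Fin n) K} (hA : A ∈ MS M) (h1 : A * A' = 1) : A' ∈ MS M := by
  obtain ⟨g, hg, rfl⟩ := hA
  refine ⟨g⁻¹, M.inv_mem hg, ?_⟩
  have h2 : (g : Matrix (Fin n) (Fin n) K) *
      ((g⁻¹ : Matrix.GeneralLinearGroup (Fin n) K) : Matrix (Fin n) (Fin n) K) = 1 := by
    rw [← Units.val_mul, mul_inv_cancel, Units.val_one]
  have h3 : ((g⁻¹ : Matrix.GeneralLinearGroup (Fin n) K) : Matrix (Fin n) (Fin n) K) *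
      (g : Matrix (Fin n) (Fin n) K) = 1 := by
    rw [← Units.val_mul, inv_mul_cancel, Units.val_one]
  calc ((g⁻¹ : Matrix.GeneralLinearGroup (Fin n) K) : Matrix (Fin n) (Fin n) K)
      = ((g⁻¹ : Matrix.GeneralLinearGroup (Fin n) K) : Matrix (Fin n) (Fin n) K) *
          ((g : Matrix (Fin n) (Fin n) K) * A') := by rw [h1, Matrix.mul_one]
    _ = A' := by rw [← Matrix.mul_assoc, h3, Matrix.one_mul]

omit D in
/-- isometries of determinant one lie in any subgroup containing `Sim ⊓ SL` -/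
theorem mem_of_pres (M : Subgroup (Matrix.GeneralLinearGroup (Fin n) K))
    (hHM : Cfsg.Geo.similarityGroup (Cfsg.hermForm n K q) ⊓ SL n K ≤ M)
    (A : Matrix (Fin n) (Fin n) K) (hA : Pres (q := q) A) (hdet : A.det = 1) : A ∈ MS M := by
  refine ⟨Matrix.GeneralLinearGroup.mkOfDetNeZero A (by rw [hdet]; exact one_ne_zero), hHM ⟨?_, ?_⟩,
    rfl⟩
  · refine ⟨1, fun u v => ?_⟩
    rw [Units.val_one, one_mul]
    exact hA u v
  · apply (mem_SL_iff _).mpr
    exact hdet


/-- If `M ⊇ Sim ⊓ SL` contains one transvection with isotropic centre `x` and axis `u₀^⊥ ≠ x^⊥`,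
it contains all transvections with centre `x`. -/
theorem all_center_iso [Finite K] (hn : 5 ≤ n) (M : Subgroup (Matrix.GeneralLinearGroup (Fin n) K))
    (hHM : Cfsg.Geo.similarityGroup (Cfsg.hermForm n K q) ⊓ SL n K ≤ M)
    (x u₀ : Fin n → K) (hxx : h x x = 0) (hx0 : x ≠ 0) (hux : h u₀ x = 0)
    (hu₀ : ∀ c : K, u₀ ≠ c • x) (h0 : E x (cj (q := q) u₀) ∈ MS M) :
    ∀ φ : Fin n → K, φ ⬝ᵥ x = 0 → E x φ ∈ MS M := by
  classical
  -- closure properties of `U`
  have hU_add : ∀ u u' : Fin n → K, h u x = 0 → E x (cj (q := q) u) ∈ MS M →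
      E x (cj (q := q) u') ∈ MS M → E x (cj (q := q) (u + u')) ∈ MS M := by
    intro u u' hu h1 h2
    rw [cj_add D, ← E_mul_E x _ _ (by rw [cj_dot]; exact h_symm_zero D hu)]
    exact MS_mul h1 h2
  have hU_neg : ∀ u : Fin n → K, h u x = 0 → E x (cj (q := q) u) ∈ MS M →
      E x (cj (q := q) (-u)) ∈ MS M := by
    intro u hu h1
    apply MS_inv h1
    rw [E_mul_E x _ _ (by rw [cj_dot]; exact h_symm_zero D hu), cj_neg D, add_neg_cancel,
      E_zero_right]
  have hU_map : ∀ (A : Matrix (Fin n) (Fin n) K), Pres (q := q) A → A.det = 1 → A *ᵥ x = x →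
      ∀ u : Fin n → K, E x (cj (q := q) u) ∈ MS M → E x (cj (q := q) (A *ᵥ u)) ∈ MS M := by
    intro A hA hdet hAx u hu
    obtain ⟨g, hgM, hgA⟩ := mem_of_pres M hHM A hA hdet
    have h1 := MS_conj g hgM hu
    rw [conj_pres g (by rw [hgA]; exact hA), hgA, hAx] at h1
    exact h1
  -- Step 1: multiples of `x`
  obtain ⟨w₀, hw₀x, hw₀u⟩ : ∃ w₀ : Fin n → K, h w₀ x = 0 ∧ h u₀ w₀ ≠ 0 := by
    by_contra hcon
    push Not at hcon
    have hmem : u₀ ∈ perpL q (perpL q (Submodule.span K {x})) := by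
      intro w hw
      exact hcon w (hw x (Submodule.subset_span rfl))
    rw [perpL_perpL D] at hmem
    obtain ⟨c, hc⟩ := Submodule.mem_span_singleton.mp hmem
    exact hu₀ c hc.symm
  have hU_x : ∀ l : K, E x (cj (q := q) (l • x)) ∈ MS M := by
    intro l
    set μ : K := D.σ (-l / h u₀ w₀) with hμ
    set w : Fin n → K := μ • w₀ with hw
    have hwx : h w x = 0 := by rw [hw, h_smul_left, hw₀x, mul_zero]
    obtain ⟨c, hc⟩ := exists_trace D (-(h w w)) (by rw [map_neg, h_self_fix D])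
    have hc' : c + D.σ c + h w w = 0 := by rw [hc]; ring
    have hSx : Sg (q := q) x w c *ᵥ x = x := by
      rw [Sg_mulVec, hxx, h_symm_zero D hwx]
      module
    have hSu : Sg (q := q) x w c *ᵥ u₀ = u₀ + l • x := by
      rw [Sg_mulVec, hux, hw, h_smul_right D, hμ, D.invol, div_mul_cancel₀ _ hw₀u]
      module
    have h1 := hU_map _ (Sg_pres D x w c hxx hwx hc') (Sg_det D x w c hxx hwx) hSx u₀ h0
    rw [hSu] at h1
    have h2 := hU_add (-u₀) (u₀ + l • x) (by rw [h_neg_left, hux, neg_zero])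
      (hU_neg u₀ hux h0) h1
    rw [neg_add_cancel_left] at h2
    exact h2
  have hlx : ∀ l : K, h (l • x) x = 0 := by
    intro l; rw [h_smul_left, hxx, mul_zero]
  -- Step 2: an isotropic vector outside `⟨x⟩`
  obtain ⟨z, hzz, hzx, hzu⟩ : ∃ z : Fin n → K, h z z = 0 ∧ h z x = 0 ∧ h u₀ z ≠ 0 := by
    obtain ⟨w1, w2, hw, h11, h22, h1x, h2x⟩ := exists_sum_iso D (by omega) x w₀ hw₀x
    by_cases h1 : h u₀ w1 = 0
    · refine ⟨w2, h22, h2x, ?_⟩
      intro h2
      apply hw₀u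
      rw [hw, h_add_right D, h1, h2, add_zero]
    · exact ⟨w1, h11, h1x, h1⟩
  obtain ⟨s, hs0, hs⟩ := exists_skew D
  set z₁ : Fin n → K := (s * h u₀ z) • z with hz₁
  have hz₁U : E x (cj (q := q) z₁) ∈ MS M := by
    have hSx : Sg (q := q) z 0 s *ᵥ x = x := by
      rw [Sg_mulVec, h_symm_zero D hzx, h_zero_right D]
      module
    have hSu : Sg (q := q) z 0 s *ᵥ u₀ = u₀ + z₁ := by
      rw [Sg_mulVec, h_zero_right D, hz₁]
      module
    have hc' : s + D.σ s + h (0 : Fin n → K) 0 = 0 := by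
      rw [hs, h_zero_left]; ring
    have h1 := hU_map _ (Sg_pres D z 0 s hzz (h_zero_left z) hc')
      (Sg_det D z 0 s hzz (h_zero_left z)) hSx u₀ h0
    rw [hSu] at h1
    have h2 := hU_add (-u₀) (u₀ + z₁) (by rw [h_neg_left, hux, neg_zero])
      (hU_neg u₀ hux h0) h1
    rw [neg_add_cancel_left] at h2
    exact h2
  have hz₁x : h z₁ x = 0 := by rw [hz₁, h_smul_left, hzx, mul_zero]
  have hz₁z₁ : h z₁ z₁ = 0 := by
    rw [hz₁, h_smul_left, h_smul_right D, hzz, mul_zero, mul_zero]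
  have hz₁n : ∀ c : K, z₁ ≠ c • x := by
    intro c hc
    have h1 : h u₀ z₁ = 0 := by
      rw [hc, h_smul_right D, hux, mul_zero]
    rw [hz₁, h_smul_right D] at h1
    rcases mul_eq_zero.mp h1 with h2 | h2
    · exact mul_ne_zero hs0 hzu (by
        have := σ_injective D (a₁ := s * h u₀ z) (a₂ := 0) (by rw [h2, map_zero])
        exact this)
    · exact hzu h2
  -- Step 3: the hyperbolic complement
  obtain ⟨y, -, hyy, hxy, hyx⟩ := exists_partner D (nonDeg_top D) (Submodule.mem_top) hx0 hxx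
  set Y₀ : Submodule K (Fin n → K) := perpL q (⊥ ⊔ Submodule.span K {x, y}) with hY₀
  have hY₀nd : NonDeg q Y₀ := by
    apply nonDeg_cut D (X := ⊥) (by rw [perpL_bot D]; exact nonDeg_top D)
      (by rw [perpL_bot D]; exact Submodule.mem_top) (by rw [perpL_bot D]; exact Submodule.mem_top)
      hxx hyy hxy hyx
  have hY₀mem : ∀ v : Fin n → K, v ∈ Y₀ ↔ h v x = 0 ∧ h v y = 0 := by
    intro v
    rw [hY₀, mem_perpL_sup_pair D, perpL_bot D]
    simp
  have hY₀fr : 3 ≤ finrank K Y₀ := by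
    rw [hY₀]
    have h1 := finrank_perpL D (⊥ ⊔ Submodule.span K {x, y} : Submodule K (Fin n → K))
    have h2 : finrank K (⊥ ⊔ Submodule.span K {x, y} : Submodule K (Fin n → K)) ≤ 2 := by
      rw [bot_sup_eq]
      have := finrank_span_finset_le_card (R := K) ({x, y} : Finset (Fin n → K))
      have h3 : ({x, y} : Finset (Fin n → K)).card ≤ 2 := Finset.card_le_two
      rw [Finset.coe_insert, Finset.coe_singleton] at this
      exact le_trans this h3
    omega
  -- the `Y₀`-component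
  have hcomp : ∀ v : Fin n → K, h v x = 0 → h v v = 0 →
      (v - h v y • x) ∈ Y₀ ∧ h (v - h v y • x) (v - h v y • x) = 0 := by
    intro v hvx hvv
    refine ⟨?_, ?_⟩
    · rw [hY₀mem]
      refine ⟨?_, ?_⟩
      · rw [h_sub_left, h_smul_left, hvx, hxx]; ring
      · rw [h_sub_left, h_smul_left, hxy]; ring
    · rw [h_sub_left, h_sub_right D, h_sub_right D, h_smul_left, h_smul_left, h_smul_right D,
        h_smul_right D, hvv, hvx, hxx, h_symm_zero D hvx]
      ring
  have hcompU : ∀ v : Fin n → K, h v x = 0 →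
      (E x (cj (q := q) (v - h v y • x)) ∈ MS M ↔ E x (cj (q := q) v) ∈ MS M) := by
    intro v hvx
    constructor
    · intro h1
      have h2 := hU_add _ (h v y • x) (by
        rw [h_sub_left, h_smul_left, hvx, hxx]; ring) h1 (hU_x _)
      rw [sub_add_cancel] at h2
      exact h2
    · intro h1
      have h2 := hU_add v ((-(h v y)) • x) hvx h1 (hU_x _)
      have e : v + (-(h v y)) • x = v - h v y • x := by module
      rw [e] at h2
      exact h2
  obtain ⟨hz₁₀Y, hz₁₀iso⟩ := hcomp z₁ hz₁x hz₁z₁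
  have hz₁₀U := (hcompU z₁ hz₁x).mpr hz₁U
  have hz₁₀ne : z₁ - h z₁ y • x ≠ 0 := by
    intro h0
    exact hz₁n (h z₁ y) (sub_eq_zero.mp h0)
  have hU_Y₀ : ∀ v ∈ Y₀, h v v = 0 → E x (cj (q := q) v) ∈ MS M := by
    intro v hv hvv
    by_cases hv0 : v = 0
    · have := hU_x 0
      rw [zero_smul] at this
      rw [hv0]; exact this
    obtain ⟨t, ht, htz⟩ := trans_iso D hY₀nd hY₀fr hz₁₀Y hv hz₁₀iso hvv hz₁₀ne hv0
    have htx : t *ᵥ x = x := by
      apply Gen_fix D ht
      intro y' hy'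
      exact h_symm_zero D ((hY₀mem y').mp hy').1
    have := hU_map t (Gen_pres D ht) (Gen_det D ht) htx _ hz₁₀U
    rw [htz] at this
    exact this
  -- Step 4: all isotropic vectors of `x^⊥`
  have hU_iso : ∀ v : Fin n → K, h v x = 0 → h v v = 0 → E x (cj (q := q) v) ∈ MS M := by
    intro v hvx hvv
    obtain ⟨h1, h2⟩ := hcomp v hvx hvv
    exact (hcompU v hvx).mp (hU_Y₀ _ h1 h2)
  -- Step 5: everything
  intro φ hφ
  obtain ⟨u, rfl⟩ := cj_surj D φ
  rw [cj_dot] at hφ
  have hux' : h u x = 0 := h_symm_zero D hφ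
  obtain ⟨w1, w2, hw, h11, h22, h1x, h2x⟩ := exists_sum_iso D (by omega) x u hux'
  rw [hw]
  exact hU_add w1 w2 h1x (hU_iso w1 h1x h11) (hU_iso w2 h2x h22)


omit D in
theorem finrank_top_eq : finrank K (⊤ : Submodule K (Fin n → K)) = n := by
  rw [finrank_top, Module.finrank_fin_fun]

/-- one isotropic centre gives all transvections -/
theorem all_of_iso_center [Finite K] (hn : 5 ≤ n)
    (M : Subgroup (Matrix.GeneralLinearGroup (Fin n) K))
    (hHM : Cfsg.Geo.similarityGroup (Cfsg.hermForm n K q) ⊓ SL n K ≤ M)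
    (x : Fin n → K) (hxx : h x x = 0) (hx0 : x ≠ 0)
    (hall : ∀ φ : Fin n → K, φ ⬝ᵥ x = 0 → E x φ ∈ MS M) :
    ∀ w φ : Fin n → K, φ ⬝ᵥ w = 0 → E w φ ∈ MS M := by
  classical
  have hiso : ∀ x' : Fin n → K, h x' x' = 0 → ∀ φ : Fin n → K, φ ⬝ᵥ x' = 0 → E x' φ ∈ MS M := by
    intro x' hx'x' φ' hφ'
    by_cases hx'0 : x' = 0
    · rw [hx'0, E_zero_left]; exact one_mem_MS M
    obtain ⟨t, ht, htx⟩ := trans_iso D (nonDeg_top D) (by rw [finrank_top_eq]; omega)
      (Submodule.mem_top) (Submodule.mem_top) hxx hx'x' hx0 hx'0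
    obtain ⟨g, hgM, hgt⟩ := mem_of_pres M hHM t (Gen_pres D ht) (Gen_det D ht)
    have h1 := MS_conj g hgM (hall (φ' ᵥ* t) (by rw [← Matrix.dotProduct_mulVec, htx, hφ']))
    rw [conj_E, hgt, htx, ← hgt, Matrix.vecMul_vecMul, ← Units.val_mul, mul_inv_cancel,
      Units.val_one, Matrix.vecMul_one] at h1
    exact h1
  intro w φ hφ
  obtain ⟨u, rfl⟩ := cj_surj D φ
  rw [cj_dot] at hφ
  obtain ⟨w1, w2, hw, h11, h22, h1u, h2u⟩ := exists_sum_iso D (by omega) u w hφ
  have e1 : E w (cj (q := q) u) = E w1 (cj (q := q) u) * E w2 (cj (q := q) u) := by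
    apply Cfsg.Agent.Helper28.Spin.matrix_ext_mulVec
    intro z
    rw [← Matrix.mulVec_mulVec, E_mulVec, E_mulVec, E_mulVec, hw, dotProduct_add, dotProduct_smul,
      cj_dot, cj_dot, h2u]
    module
  rw [e1]
  exact MS_mul (hiso w1 h11 _ (by rw [cj_dot]; exact h1u)) (hiso w2 h22 _ (by rw [cj_dot]; exact h2u))

theorem Sg_zero_eq_E (v : Fin n → K) (s : K) :
    Sg (q := q) v 0 s = E v (s • cj (q := q) v) := by
  apply mat_ext
  intro z
  rw [Sg_mulVec, E_mulVec, smul_dotProduct, cj_dot, smul_eq_mul, h_zero_right D]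
  module

/-- unitary transvections lie in `M` -/
theorem UT_mem (M : Subgroup (Matrix.GeneralLinearGroup (Fin n) K))
    (hHM : Cfsg.Geo.similarityGroup (Cfsg.hermForm n K q) ⊓ SL n K ≤ M)
    (v : Fin n → K) (s : K) (hvv : h v v = 0) (hs : D.σ s = -s) :
    E v (s • cj (q := q) v) ∈ MS M := by
  rw [← Sg_zero_eq_E D]
  have hc' : s + D.σ s + h (0 : Fin n → K) 0 = 0 := by
    rw [hs, h_zero_left]; ring
  exact mem_of_pres M hHM _ (Sg_pres D v 0 s hvv (h_zero_left v) hc')
    (Sg_det D v 0 s hvv (h_zero_left v))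

/-- the conjugate of a unitary transvection by `g ∈ M` -/
theorem conj_data (M : Subgroup (Matrix.GeneralLinearGroup (Fin n) K))
    (hHM : Cfsg.Geo.similarityGroup (Cfsg.hermForm n K q) ⊓ SL n K ≤ M)
    (g : Matrix.GeneralLinearGroup (Fin n) K) (hg : g ∈ M)
    (v : Fin n → K) (s : K) (hvv : h v v = 0) (hs : D.σ s = -s) :
    ∃ u : Fin n → K, (∀ z, h ((g : Matrix (Fin n) (Fin n) K) *ᵥ z) u = s * h z v) ∧
      E ((g : Matrix (Fin n) (Fin n) K) *ᵥ v) (cj (q := q) u) ∈ MS M := by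
  obtain ⟨u, hu⟩ := cj_surj D ((s • cj (q := q) v) ᵥ*
    ((g⁻¹ : Matrix.GeneralLinearGroup (Fin n) K) : Matrix (Fin n) (Fin n) K))
  refine ⟨u, fun z => ?_, ?_⟩
  · rw [← cj_dot, hu, ← Matrix.dotProduct_mulVec, Matrix.mulVec_mulVec, ← Units.val_mul,
      inv_mul_cancel, Units.val_one, Matrix.one_mulVec, smul_dotProduct, cj_dot, smul_eq_mul]
  · have h1 := MS_conj g hg (UT_mem D M hHM v s hvv hs)
    rw [conj_E, ← hu] at h1
    exact h1


/-- Case A: a transvection in `M` with anisotropic centre gives a good transvection with isotropic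
centre. -/
theorem good_of_aniso [Finite K] (hn : 5 ≤ n) (M : Subgroup (Matrix.GeneralLinearGroup (Fin n) K))
    (hHM : Cfsg.Geo.similarityGroup (Cfsg.hermForm n K q) ⊓ SL n K ≤ M)
    (w u : Fin n → K) (hww : h w w ≠ 0) (hwu : h w u = 0) (hu0 : u ≠ 0)
    (hE : E w (cj (q := q) u) ∈ MS M) :
    ∃ x u₀ : Fin n → K, h x x = 0 ∧ x ≠ 0 ∧ h u₀ x = 0 ∧ (∀ c : K, u₀ ≠ c • x) ∧
      E x (cj (q := q) u₀) ∈ MS M := by
  classical
  obtain ⟨s, hs0, hs⟩ := exists_skew D
  obtain ⟨z, hzz, hzu, hzw⟩ : ∃ z : Fin n → K, h z z = 0 ∧ h z u = 0 ∧ h z w ≠ 0 := by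
    obtain ⟨w1, w2, hw, h11, h22, h1u, h2u⟩ := exists_sum_iso D (by omega) u w hwu
    by_cases h1 : h w1 w = 0
    · refine ⟨w2, h22, h2u, ?_⟩
      intro h2
      apply hww
      have e : h w w = h w1 w + h w2 w := by rw [← h_add_left, ← hw]
      rw [e, h1, h2, add_zero]
    · exact ⟨w1, h11, h1u, h1⟩
  have hwz : h w z ≠ 0 := h_symm_ne D hzw
  obtain ⟨g₁, hg₁M, hg₁⟩ := hE
  have hg₁z : (g₁ : Matrix (Fin n) (Fin n) K) *ᵥ z = z := by
    rw [hg₁, E_mulVec, cj_dot, hzu, zero_smul, add_zero]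
  have hg₁z' : ((g₁⁻¹ : Matrix.GeneralLinearGroup (Fin n) K) : Matrix (Fin n) (Fin n) K) *ᵥ z
      = z := by
    conv_lhs => rw [← hg₁z]
    rw [Matrix.mulVec_mulVec, ← Units.val_mul, inv_mul_cancel, Units.val_one, Matrix.one_mulVec]
  have h1 := MS_conj g₁⁻¹ (M.inv_mem hg₁M) (UT_mem D M hHM z s hzz hs)
  rw [conj_E, hg₁z', inv_inv, hg₁] at h1
  have hs' : D.σ (-s) = -(-s) := by rw [map_neg, hs]
  have h2 := MS_mul h1 (UT_mem D M hHM z (-s) hzz hs')
  set c : K := s * h w z with hc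
  have hc0 : c ≠ 0 := mul_ne_zero hs0 hwz
  have e1 : (s • cj (q := q) z) ᵥ* E w (cj (q := q) u) = s • cj (q := q) z + c • cj (q := q) u := by
    apply covec_ext
    intro y
    rw [← Matrix.dotProduct_mulVec, E_mulVec, dotProduct_add, dotProduct_smul, add_dotProduct,
      smul_dotProduct, smul_dotProduct, smul_dotProduct, cj_dot, cj_dot, cj_dot, hc]
    simp only [smul_eq_mul]
    ring
  rw [e1, E_mul_E z _ _ (by
    rw [add_dotProduct, smul_dotProduct, smul_dotProduct, cj_dot, cj_dot, hzz, hzu]; simp)] at h2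
  have e2 : s • cj (q := q) z + c • cj (q := q) u + -s • cj (q := q) z
      = cj (q := q) (D.σ c • u) := by
    rw [cj_smul D, D.invol]
    module
  rw [e2] at h2
  have hσc0 : D.σ c ≠ 0 := σ_ne_zero D hc0
  refine ⟨z, D.σ c • u, hzz, ?_, ?_, ?_, h2⟩
  · rintro rfl
    exact hzw (h_zero_left w)
  · rw [h_smul_left, h_symm_zero D hzu, mul_zero]
  · intro l hl
    have hu' : u = (l / D.σ c) • z := by
      rw [div_eq_inv_mul, ← smul_smul, ← hl, smul_smul, inv_mul_cancel₀ hσc0, one_smul]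
    have h3 := hwu
    rw [hu', h_smul_right D] at h3
    rcases mul_eq_zero.mp h3 with h4 | h4
    · have h5 : l / D.σ c = 0 := by
        have := σ_injective D (a₁ := l / D.σ c) (a₂ := 0) (by rw [h4, map_zero])
        exact this
      apply hu0
      rw [hu', h5, zero_smul]
    · exact hwz h4

/-- Case B2: if `g` maps isotropic vectors `v` to vectors with `h (g ·) (g v)` proportional to
`h · v`, then `g` is a similarity. -/
theorem sim_of_forall [Finite K] (hn : 5 ≤ n) (g : Matrix.GeneralLinearGroup (Fin n) K)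
    (hall : ∀ v : Fin n → K, h v v = 0 → ∃ e : K, ∀ z,
      h ((g : Matrix (Fin n) (Fin n) K) *ᵥ z) ((g : Matrix (Fin n) (Fin n) K) *ᵥ v) = e * h z v) :
    g ∈ Cfsg.Geo.similarityGroup (Cfsg.hermForm n K q) := by
  classical
  obtain ⟨s, hs0, hs⟩ := exists_skew D
  have hginv : ∀ y, (g : Matrix (Fin n) (Fin n) K) *ᵥ
      (((g⁻¹ : Matrix.GeneralLinearGroup (Fin n) K) : Matrix (Fin n) (Fin n) K) *ᵥ y) = y := by
    intro y
    rw [Matrix.mulVec_mulVec, ← Units.val_mul, mul_inv_cancel, Units.val_one, Matrix.one_mulVec]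
  have hginv' : ∀ y, ((g⁻¹ : Matrix.GeneralLinearGroup (Fin n) K) : Matrix (Fin n) (Fin n) K) *ᵥ
      ((g : Matrix (Fin n) (Fin n) K) *ᵥ y) = y := by
    intro y
    rw [Matrix.mulVec_mulVec, ← Units.val_mul, inv_mul_cancel, Units.val_one, Matrix.one_mulVec]
  -- uniqueness of the factor
  have huniq : ∀ (v : Fin n → K) (e e' : K), v ≠ 0 →
      (∀ z, h ((g : Matrix (Fin n) (Fin n) K) *ᵥ z) ((g : Matrix (Fin n) (Fin n) K) *ᵥ v)
        = e * h z v) →
      (∀ z, h ((g : Matrix (Fin n) (Fin n) K) *ᵥ z) ((g : Matrix (Fin n) (Fin n) K) *ᵥ v)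
        = e' * h z v) → e = e' := by
    intro v e e' hv he he'
    obtain ⟨z, hz⟩ : ∃ z, h z v ≠ 0 := by
      by_contra hcon
      push Not at hcon
      apply hv
      apply h_nondeg D
      intro y
      exact h_symm_zero D (hcon y)
    have := (he z).symm.trans (he' z)
    exact mul_right_cancel₀ hz this
  -- the key step
  have hstep : ∀ (v v' : Fin n → K) (e e' : K), h v v = 0 → h v' v' = 0 → h v v' ≠ 0 →
      (∀ z, h ((g : Matrix (Fin n) (Fin n) K) *ᵥ z) ((g : Matrix (Fin n) (Fin n) K) *ᵥ v)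
        = e * h z v) →
      (∀ z, h ((g : Matrix (Fin n) (Fin n) K) *ᵥ z) ((g : Matrix (Fin n) (Fin n) K) *ᵥ v')
        = e' * h z v') → e = e' := by
    intro v v' e e' hvv hv'v' hvv' he he'
    have hv'v : h v' v ≠ 0 := h_symm_ne D hvv'
    set τ : K := s / h v' v with hτ
    have hτ0 : τ ≠ 0 := div_ne_zero hs0 hv'v
    have e1 : τ * h v' v = s := div_mul_cancel₀ _ hv'v
    have e2 : D.σ τ * h v v' = -s := by
      rw [← h_conj D v v', ← map_mul, e1, hs]
    have hiso : h (v + τ • v') (v + τ • v') = 0 := by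
      rw [h_self_add_smul D, hvv, hv'v', e1, e2]; ring
    obtain ⟨e'', he''⟩ := hall _ hiso
    have hexp : ∀ z, e * h z v + D.σ τ * (e' * h z v') = e'' * (h z v + D.σ τ * h z v') := by
      intro z
      have := he'' z
      rw [Matrix.mulVec_add, Matrix.mulVec_smul, h_add_right D, h_smul_right D, he, he',
        h_add_right D, h_smul_right D] at this
      exact this
    have h1 := hexp v'
    simp only [hv'v', mul_zero, add_zero] at h1
    have h2 := hexp v
    simp only [hvv, mul_zero, zero_add] at h2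
    have h3 : e = e'' := mul_right_cancel₀ hv'v h1
    have hστ : D.σ τ ≠ 0 := σ_ne_zero D hτ0
    have h4 : e' = e'' := by
      have : e' * (D.σ τ * h v v') = e'' * (D.σ τ * h v v') := by linear_combination h2
      exact mul_right_cancel₀ (mul_ne_zero hστ hvv') this
    rw [h3, h4]
  choose e he using hall
  have hconst : ∀ (v v' : Fin n → K) (hv : h v v = 0) (hv' : h v' v' = 0), v ≠ 0 → v' ≠ 0 →
      e v hv = e v' hv' := by
    intro v v' hv hv' hv0 hv'0
    obtain ⟨z, -, hzz, hzv, hzv'⟩ := exists_iso_both D (nonDeg_top D) (Submodule.mem_top)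
      (Submodule.mem_top) hv hv' hv0 hv'0
    rw [← hstep z v (e z hzz) (e v hv) hzz hv hzv (he z hzz) (he v hv),
      hstep z v' (e z hzz) (e v' hv') hzz hv' hzv' (he z hzz) (he v' hv')]
  obtain ⟨v₀, -, -, -, hv₀0, hv₀v₀, -⟩ := exists_hyp_pair D
    (Y := (⊤ : Submodule K (Fin n → K))) (nonDeg_top D) (by rw [finrank_top_eq]; omega)
  set c : K := e v₀ hv₀v₀ with hc
  have hc0 : c ≠ 0 := by
    intro h0
    have hgv : (g : Matrix (Fin n) (Fin n) K) *ᵥ v₀ = 0 := by
      apply h_nondeg D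
      intro y
      apply h_symm_zero D
      rw [← hginv y, he v₀ hv₀v₀, ← hc, h0, zero_mul]
    apply hv₀0
    rw [← hginv' v₀, hgv, Matrix.mulVec_zero]
  have hiso : ∀ v : Fin n → K, h v v = 0 → ∀ z,
      h ((g : Matrix (Fin n) (Fin n) K) *ᵥ z) ((g : Matrix (Fin n) (Fin n) K) *ᵥ v) = c * h z v := by
    intro v hv z
    by_cases hv0 : v = 0
    · rw [hv0, Matrix.mulVec_zero, h_zero_right D, h_zero_right D, mul_zero]
    · rw [he v hv, hconst v v₀ hv hv₀v₀ hv0 hv₀0]
  refine ⟨Units.mk0 c hc0, fun z v => ?_⟩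
  show h _ _ = c * h z v
  obtain ⟨v1, v2, hv, h11, h22, -, -⟩ := exists_sum_iso D (by omega) (0 : Fin n → K) v
    (h_zero_right D v)
  rw [hv, Matrix.mulVec_add, h_add_right D, h_add_right D, hiso v1 h11, hiso v2 h22]
  ring


/-- a non-similarity in `M` yields a good transvection with isotropic centre -/
theorem exists_good [Finite K] (hn : 5 ≤ n) (M : Subgroup (Matrix.GeneralLinearGroup (Fin n) K))
    (hHM : Cfsg.Geo.similarityGroup (Cfsg.hermForm n K q) ⊓ SL n K ≤ M)
    (g : Matrix.GeneralLinearGroup (Fin n) K) (hgM : g ∈ M)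
    (hg : g ∉ Cfsg.Geo.similarityGroup (Cfsg.hermForm n K q)) :
    ∃ x u₀ : Fin n → K, h x x = 0 ∧ x ≠ 0 ∧ h u₀ x = 0 ∧ (∀ c : K, u₀ ≠ c • x) ∧
      E x (cj (q := q) u₀) ∈ MS M := by
  classical
  obtain ⟨s, hs0, hs⟩ := exists_skew D
  have hginv' : ∀ y, ((g⁻¹ : Matrix.GeneralLinearGroup (Fin n) K) : Matrix (Fin n) (Fin n) K) *ᵥ
      ((g : Matrix (Fin n) (Fin n) K) *ᵥ y) = y := by
    intro y
    rw [Matrix.mulVec_mulVec, ← Units.val_mul, inv_mul_cancel, Units.val_one, Matrix.one_mulVec]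
  have hgne : ∀ v : Fin n → K, v ≠ 0 → (g : Matrix (Fin n) (Fin n) K) *ᵥ v ≠ 0 := by
    intro v hv h0
    apply hv
    rw [← hginv' v, h0, Matrix.mulVec_zero]
  by_cases hA : ∃ v : Fin n → K, h v v = 0 ∧
      h ((g : Matrix (Fin n) (Fin n) K) *ᵥ v) ((g : Matrix (Fin n) (Fin n) K) *ᵥ v) ≠ 0
  · -- Case A
    obtain ⟨v, hvv, hgv⟩ := hA
    obtain ⟨u, hu, hE⟩ := conj_data D M hHM g hgM v s hvv hs
    have hv0 : v ≠ 0 := by
      rintro rfl
      apply hgv
      rw [Matrix.mulVec_zero, h_zero_left]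
    have hu0 : u ≠ 0 := by
      rintro rfl
      apply hv0
      apply h_nondeg D
      intro y
      apply h_symm_zero D
      have := hu y
      rw [h_zero_right D] at this
      rcases mul_eq_zero.mp this.symm with h1 | h1
      · exact absurd h1 hs0
      · exact h1
    exact good_of_aniso D hn M hHM _ u hgv (by rw [hu, hvv, mul_zero]) hu0 hE
  · push Not at hA
    by_cases hB : ∃ v u : Fin n → K, h v v = 0 ∧ v ≠ 0 ∧
        (∀ z, h ((g : Matrix (Fin n) (Fin n) K) *ᵥ z) u = s * h z v) ∧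
        E ((g : Matrix (Fin n) (Fin n) K) *ᵥ v) (cj (q := q) u) ∈ MS M ∧
        ∀ c : K, u ≠ c • ((g : Matrix (Fin n) (Fin n) K) *ᵥ v)
    · obtain ⟨v, u, hvv, hv0, hu, hE, hne⟩ := hB
      refine ⟨_, u, hA v hvv, hgne v hv0, ?_, hne, hE⟩
      apply h_symm_zero D
      rw [hu, hvv, mul_zero]
    · exfalso
      apply hg
      apply sim_of_forall D hn
      intro v hvv
      by_cases hv0 : v = 0
      · refine ⟨0, fun z => ?_⟩
        rw [hv0, Matrix.mulVec_zero, h_zero_right D, h_zero_right D, mul_zero]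
      obtain ⟨u, hu, hE⟩ := conj_data D M hHM g hgM v s hvv hs
      have : ∃ c : K, u = c • ((g : Matrix (Fin n) (Fin n) K) *ᵥ v) := by
        by_contra hcon
        push Not at hcon
        exact hB ⟨v, u, hvv, hv0, hu, hE, hcon⟩
      obtain ⟨c, hc⟩ := this
      have hc0 : c ≠ 0 := by
        rintro rfl
        rw [zero_smul] at hc
        apply hv0
        apply h_nondeg D
        intro y
        apply h_symm_zero D
        have := hu y
        rw [hc, h_zero_right D] at this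
        rcases mul_eq_zero.mp this.symm with h1 | h1
        · exact absurd h1 hs0
        · exact h1
      have hσc0 : D.σ c ≠ 0 := σ_ne_zero D hc0
      refine ⟨s / D.σ c, fun z => ?_⟩
      have := hu z
      rw [hc, h_smul_right D] at this
      rw [div_mul_eq_mul_div, ← this]
      field_simp


theorem q_ne_zero : q ≠ 0 := by
  rintro rfl
  have := D.pow 0
  rw [map_zero, pow_zero] at this
  exact zero_ne_one this

theorem h_single (i j : Fin n) :
    h (Pi.single i (1 : K)) (Pi.single j (1 : K)) = if i = j then 1 else 0 := by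
  classical
  rw [← cj_dot, dotProduct_single, mul_one]
  simp only [cj, Pi.single_apply]
  by_cases hij : i = j
  · rw [if_pos hij, one_pow]
  · rw [if_neg hij, zero_pow (q_ne_zero D)]

theorem exists_not_sim_std (hn : 2 ≤ n) :
    ∃ g ∈ SL n K, g ∉ Cfsg.Geo.similarityGroup (Cfsg.hermForm n K q) := by
  classical
  set i0 : Fin n := ⟨0, by omega⟩ with hi0
  set i1 : Fin n := ⟨1, by omega⟩ with hi1
  have h01 : i0 ≠ i1 := by
    intro h'
    have := congrArg Fin.val h'
    simp [hi0, hi1] at this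
  have hdot : (Pi.single i1 (1 : K) : Fin n → K) ⬝ᵥ (Pi.single i0 (1 : K)) = 0 := by
    rw [dotProduct_single, mul_one, Pi.single_apply, if_neg h01]
  refine ⟨Eg (Pi.single i0 1) (Pi.single i1 1) (by rw [hdot, add_zero]; exact one_ne_zero), ?_, ?_⟩
  · apply (mem_SL_iff _).mpr
    rw [Eg_val, E_det, hdot, add_zero]
  · rintro ⟨c, hc⟩
    have hg0 : E (Pi.single i0 (1 : K)) (Pi.single i1 (1 : K)) *ᵥ (Pi.single i0 (1 : K))
        = Pi.single i0 1 := by
      rw [E_mulVec, hdot, zero_smul, add_zero]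
    have hg1 : E (Pi.single i0 (1 : K)) (Pi.single i1 (1 : K)) *ᵥ (Pi.single i1 (1 : K))
        = Pi.single i1 1 + Pi.single i0 1 := by
      rw [E_mulVec, dotProduct_single, mul_one, Pi.single_eq_same, one_smul]
    have h1 := hc (Pi.single i0 1) (Pi.single i0 1)
    rw [Eg_val, hg0, h_single D, if_pos rfl, mul_one] at h1
    have h2 := hc (Pi.single i1 1) (Pi.single i0 1)
    rw [Eg_val, hg0, hg1, h_add_left, h_single D, h_single D, if_pos rfl, if_neg h01.symm,
      mul_zero, zero_add] at h2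
    exact one_ne_zero h2

/-- **The unitary similarity group is maximal in `SL_n(K)`** (standard Hermitian form, `n ≥ 5`). -/
theorem usim_maximal [Finite K] (hn : 5 ≤ n) :
    Cfsg.Geo.IsMaximalIn (SL n K)
      (Cfsg.Geo.similarityGroup (Cfsg.hermForm n K q) ⊓ SL n K) := by
  classical
  refine ⟨lt_of_le_of_ne inf_le_right ?_, ?_⟩
  · intro heq
    obtain ⟨g, hg1, hg2⟩ := exists_not_sim_std D (n := n) (by omega)
    apply hg2
    have : g ∈ Cfsg.Geo.similarityGroup (Cfsg.hermForm n K q) ⊓ SL n K := by rw [heq]; exact hg1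
    exact this.1
  · intro M hPM hMS
    by_cases hMP : M ≤ Cfsg.Geo.similarityGroup (Cfsg.hermForm n K q) ⊓ SL n K
    · left; exact le_antisymm hMP hPM
    right
    refine le_antisymm hMS ?_
    obtain ⟨g, hgM, hgP⟩ := SetLike.not_le_iff_exists.mp hMP
    have hgS : g ∉ Cfsg.Geo.similarityGroup (Cfsg.hermForm n K q) := fun h' => hgP ⟨h', hMS hgM⟩
    obtain ⟨x, u₀, hxx, hx0, hux, hu₀, hE⟩ := exists_good D hn M hPM g hgM hgS
    have hcen := all_center_iso D hn M hPM x u₀ hxx hx0 hux hu₀ hE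
    have hall := all_of_iso_center D hn M hPM x hxx hx0 hcen
    apply SL_le_of_transvections (by omega)
    intro v φ hφ
    exact Eg_mem_of_MS _ _ _ (hall v φ hφ)

end Cfsg.Agent.Helper28.USim
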