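import Mathlib
import Cfsg.Prelude.Def_GeometricClasses
import Cfsg.Agent.S0755
import Cfsg.Agent.Helper28.HermWitt
import Cfsg.Agent.Helper28.UnitSim

set_option autoImplicit false

/-! Standardisation of a non-degenerate unitary form over a finite field, and maximality of the
unitary similarity group in `SL_n`. -/

namespace Cfsg.Agent.Helper28.HermStd

open Matrix Module Cfsg.Agent.Helper2.SUGen Cfsg.Agent.Helper28.SLMax

/-- every automorphism of a finite field is a power map -/
theorem exists_pow_of_ringEquiv {F : Type*} [Field F] [Fintype F] (σ : F ≃+* F) :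
    ∃ q : ℕ, ∀ x : F, σ x = x ^ q := by
  classical
  obtain ⟨p, hp⟩ := CharP.exists F
  have : Fact p.Prime := ⟨CharP.char_is_prime F p⟩
  let _ : Algebra (ZMod p) F := ZMod.algebra F p
  let σ' : F ≃ₐ[ZMod p] F := AlgEquiv.ofRingEquiv (f := σ) (by
    intro r
    have : (σ : F →+* F).comp (algebraMap (ZMod p) F) = algebraMap (ZMod p) F :=
      Subsingleton.elim _ _
    exact RingHom.congr_fun this r)
  obtain ⟨i, hi⟩ := (FiniteField.bijective_frobeniusAlgEquivOfAlgebraic_pow (ZMod p) F).2 σ'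
  refine ⟨p ^ i.1, fun x => ?_⟩
  have h1 : σ x = σ' x := rfl
  have h2 : σ' x = (FiniteField.frobeniusAlgEquivOfAlgebraic (ZMod p) F ^ i.1) x := by
    rw [← hi]
  rw [h1, h2, AlgEquiv.coe_pow, FiniteField.coe_frobeniusAlgEquivOfAlgebraic_iterate, ZMod.card]

variable {F : Type*} [Field F] [Fintype F] {n : ℕ}

/-- standardisation of a unitary form -/
theorem exists_std (σ : F ≃+* F) (f : (Fin n → F) → (Fin n → F) → F)
    (hf : Cfsg.Geo.IsUnitaryForm σ f) :
    ∃ (q : ℕ) (_ : Frob F q) (P : Matrix.GeneralLinearGroup (Fin n) F), ∀ x y : Fin n → F,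
      f ((P : Matrix (Fin n) (Fin n) F) *ᵥ x) ((P : Matrix (Fin n) (Fin n) F) *ᵥ y)
        = Cfsg.hermForm n F q x y := by
  classical
  obtain ⟨q, hq⟩ := exists_pow_of_ringEquiv σ
  have hne : (σ : F →+* F) ≠ RingHom.id F := by
    intro h0
    apply hf.ne_refl
    ext x
    exact RingHom.congr_fun h0 x
  have hinv : ∀ a : F, (σ : F →+* F) ((σ : F →+* F) a) = a := hf.involutive
  let D : Frob F q := ⟨(σ : F →+* F), hq, hinv, hne⟩
  -- right (semi)linearity
  have hadd_r : ∀ x y y', f x (y + y') = f x y + f x y' := by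
    intro x y y'
    rw [hf.herm, hf.add_left, map_add, ← hf.herm, ← hf.herm]
  have hsmul_r : ∀ (c : F) x y, f x (c • y) = σ c * f x y := by
    intro c x y
    rw [hf.herm, hf.smul_left, map_mul, ← hf.herm]
  let B : (Fin n → F) →ₛₗ[(σ : F →+* F)] (Fin n → F) →ₗ[F] F :=
    LinearMap.mk₂'ₛₗ (σ : F →+* F) (RingHom.id F) (fun x y => f y x)
      (fun x x' y => hadd_r y x x') (fun c x y => hsmul_r c y x)
      (fun x y y' => hf.add_left y y' x) (fun c x y => hf.smul_left c y x)
  have hBa : ∀ x y, B x y = f y x := fun x y => rfl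
  have hS : B.IsSymm := ⟨fun x y => by
    rw [hBa, hBa]
    exact (hf.herm x y).symm⟩
  have hsep : B.SeparatingRight := by
    intro y hy
    by_contra hy0
    obtain ⟨-, ⟨x, hx⟩⟩ := hf.nondegenerate y hy0
    exact hx (hy x)
  obtain ⟨b, hb⟩ := Cfsg.Agent.S0755.aux (σ : F →+* F) hne hinv n B hS hsep
    (Module.finrank_fin_fun F)
  set P₀ : Matrix (Fin n) (Fin n) F := Matrix.of (fun i j => b j i) with hP₀
  have hP₀v : ∀ x : Fin n → F, P₀ *ᵥ x = ∑ j, x j • b j := by
    intro x
    funext i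
    simp only [hP₀, Matrix.mulVec, dotProduct, Matrix.of_apply, Finset.sum_apply, Pi.smul_apply,
      smul_eq_mul]
    apply Finset.sum_congr rfl
    intro j _
    rw [mul_comm]
  have hform : ∀ x y : Fin n → F, f (P₀ *ᵥ x) (P₀ *ᵥ y) = Cfsg.hermForm n F q x y := by
    intro x y
    rw [← hBa, hP₀v y, Cfsg.Agent.Helper28.HW.B_sum_left]
    simp only [Cfsg.hermForm]
    apply Finset.sum_congr rfl
    intro k _
    rw [hP₀v x, map_sum]
    have : ∀ j, B (b k) (x j • b j) = x j * (if k = j then 1 else 0) := by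
      intro j
      rw [map_smul, smul_eq_mul, hb]
    simp only [this, mul_ite, mul_one, mul_zero, Finset.sum_ite_eq, Finset.mem_univ, if_true]
    rw [mul_comm]
    congr 1
    exact hq (y k)
  have hinj : Function.Injective P₀.mulVec := by
    intro x x' hxx'
    have h0 : P₀ *ᵥ (x - x') = 0 := by
      rw [Matrix.mulVec_sub]
      exact sub_eq_zero.mpr hxx'
    have h1 : x - x' = 0 := by
      apply h_nondeg D
      intro y
      rw [← hform, h0]
      have := hf.smul_left 0 0 (P₀ *ᵥ y)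
      simpa using this
    exact sub_eq_zero.mp h1
  have hunit : IsUnit P₀ := Matrix.mulVec_injective_iff_isUnit.mp hinj
  obtain ⟨P, hP⟩ := hunit
  exact ⟨q, D, P, fun x y => by rw [hP]; exact hform x y⟩


omit [Fintype F] in
/-- transfer of maximality of a similarity group along an equivalence of forms -/
theorem maximal_transfer (f h : (Fin n → F) → (Fin n → F) → F)
    (P : Matrix.GeneralLinearGroup (Fin n) F)
    (hP : ∀ x y : Fin n → F,
      f ((P : Matrix (Fin n) (Fin n) F) *ᵥ x) ((P : Matrix (Fin n) (Fin n) F) *ᵥ y) = h x y)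
    (hmax : Cfsg.Geo.IsMaximalIn (SL n F) (Cfsg.Geo.similarityGroup h ⊓ SL n F)) :
    Cfsg.Geo.IsMaximalIn (SL n F) (Cfsg.Geo.similarityGroup f ⊓ SL n F) := by
  classical
  set c : Matrix.GeneralLinearGroup (Fin n) F ≃* Matrix.GeneralLinearGroup (Fin n) F :=
    MulAut.conj P with hc
  have hcg : ∀ g, c g = P * g * P⁻¹ := fun g => rfl
  have hPinv : ∀ y, (P : Matrix (Fin n) (Fin n) F) *ᵥ
      (((P⁻¹ : Matrix.GeneralLinearGroup (Fin n) F) : Matrix (Fin n) (Fin n) F) *ᵥ y) = y := by
    intro y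
    rw [Matrix.mulVec_mulVec, ← Units.val_mul, mul_inv_cancel, Units.val_one, Matrix.one_mulVec]
  have hPinv' : ∀ y, ((P⁻¹ : Matrix.GeneralLinearGroup (Fin n) F) : Matrix (Fin n) (Fin n) F) *ᵥ
      ((P : Matrix (Fin n) (Fin n) F) *ᵥ y) = y := by
    intro y
    rw [Matrix.mulVec_mulVec, ← Units.val_mul, inv_mul_cancel, Units.val_one, Matrix.one_mulVec]
  have hsim : ∀ g, c g ∈ Cfsg.Geo.similarityGroup f ↔ g ∈ Cfsg.Geo.similarityGroup h := by
    intro g
    constructor
    · rintro ⟨a, ha⟩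
      refine ⟨a, fun u v => ?_⟩
      have := ha ((P : Matrix (Fin n) (Fin n) F) *ᵥ u) ((P : Matrix (Fin n) (Fin n) F) *ᵥ v)
      rw [hcg, Units.val_mul, Units.val_mul, ← Matrix.mulVec_mulVec, ← Matrix.mulVec_mulVec,
        ← Matrix.mulVec_mulVec, ← Matrix.mulVec_mulVec, hPinv', hPinv', hP, hP] at this
      exact this
    · rintro ⟨a, ha⟩
      refine ⟨a, fun u v => ?_⟩
      have := ha (((P⁻¹ : Matrix.GeneralLinearGroup (Fin n) F) : Matrix (Fin n) (Fin n) F) *ᵥ u)
        (((P⁻¹ : Matrix.GeneralLinearGroup (Fin n) F) : Matrix (Fin n) (Fin n) F) *ᵥ v)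
      rw [← hP, ← hP, hPinv, hPinv] at this
      rw [hcg, Units.val_mul, Units.val_mul, ← Matrix.mulVec_mulVec, ← Matrix.mulVec_mulVec,
        ← Matrix.mulVec_mulVec, ← Matrix.mulVec_mulVec]
      exact this
  have hSL : ∀ g, c g ∈ SL n F ↔ g ∈ SL n F := by
    intro g
    rw [mem_SL_iff, mem_SL_iff, hcg, Units.val_mul, Units.val_mul, Matrix.det_mul, Matrix.det_mul,
      mul_right_comm, ← Matrix.det_mul, ← Units.val_mul, mul_inv_cancel, Units.val_one,
      Matrix.det_one, one_mul]
  have hcomapH : (Cfsg.Geo.similarityGroup f ⊓ SL n F).comap c.toMonoidHom =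
      Cfsg.Geo.similarityGroup h ⊓ SL n F := by
    ext g
    simp only [Subgroup.mem_comap, Subgroup.mem_inf]
    exact and_congr (hsim g) (hSL g)
  have hcomapS : (SL n F).comap c.toMonoidHom = SL n F := by
    ext g
    simp only [Subgroup.mem_comap]
    exact hSL g
  have hinj : Function.Injective (Subgroup.comap c.toMonoidHom) :=
    Subgroup.comap_injective c.surjective
  obtain ⟨hlt, hall⟩ := hmax
  refine ⟨lt_of_le_of_ne inf_le_right ?_, ?_⟩
  · intro heq
    apply hlt.ne
    rw [← hcomapH, heq, hcomapS]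
  · intro M hHM hMS
    have h1 : Cfsg.Geo.similarityGroup h ⊓ SL n F ≤ M.comap c.toMonoidHom := by
      rw [← hcomapH]
      exact Subgroup.comap_mono hHM
    have h2 : M.comap c.toMonoidHom ≤ SL n F := by
      rw [← hcomapS]
      exact Subgroup.comap_mono hMS
    rcases hall _ h1 h2 with h3 | h3
    · left
      apply hinj
      rw [h3, hcomapH]
    · right
      apply hinj
      rw [h3, hcomapS]

/-- **The similarity group of a non-degenerate unitary form is maximal in `SL_n(F)`**, `n ≥ 5`. -/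
theorem usim_maximal_gen (hn : 5 ≤ n) (σ : F ≃+* F) (f : (Fin n → F) → (Fin n → F) → F)
    (hf : Cfsg.Geo.IsUnitaryForm σ f) :
    Cfsg.Geo.IsMaximalIn (SL n F) (Cfsg.Geo.similarityGroup f ⊓ SL n F) := by
  obtain ⟨q, D, P, hP⟩ := exists_std σ f hf
  exact maximal_transfer f (Cfsg.hermForm n F q) P hP (Cfsg.Agent.Helper28.USim.usim_maximal D hn)

end Cfsg.Agent.Helper28.HermStd
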