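import Mathlib
import Cfsg.Prelude.Def_GeometricClasses
import Cfsg.Prelude.Def_Classical
import Cfsg.Prelude.Def_LieClassical
import Cfsg.Agent.Helper27.S5989Defs
import Cfsg.Agent.Helper27.S5991Defs
import Cfsg.Agent.Helper28.Spin6
import Cfsg.Agent.Helper24.S5991J3
import Cfsg.Agent.Helper7.S5991PRODUQ
import Cfsg.Agent.Helper18.S5991PRODDISC
import Cfsg.Agent.Helper18.S5991KERTS
import Cfsg.Agent.Helper29.S5989LEVIP
import Cfsg.Agent.Helper9.S5989UNIMAT
import Cfsg.Agent.Helper6.S5992PLUSDISC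
import Cfsg.Agent.Helper9.S5989PLUSTOP

/-! S5991 piece MODELJ31 (driver helper27): the model space `J₃ ⊕ J₁ ⊕ J₂^k` of minus type with a
prescribed square class of the `J₁`-vector. -/

set_option autoImplicit false
open scoped MatrixGroups
universe u

namespace Cfsg.Agent.S5989P

open Cfsg.Agent.Helper2.SympInvol Cfsg.Agent.Helper2.SympUnits Cfsg.Agent.S5961P
  Cfsg.Agent.S5992P Cfsg.Agent.Helper28.Spin

namespace MODELJ31

theorem pow_char_eq_one_of_cube {F V : Type*} [Field F] [AddCommGroup V] [Module F V] {p : ℕ}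
    [Fact p.Prime] [CharP F p] (hp : 3 ≤ p) (x : Module.End F V) (h : (x - 1) ^ 3 = 0) :
    x ^ p = 1 := by
  have hc : CharP (Module.End F V) p ∨ Subsingleton (Module.End F V) := by
    by_cases hs : Subsingleton (Module.End F V)
    · exact Or.inr hs
    · left
      have : Nontrivial (Module.End F V) := not_subsingleton_iff_nontrivial.mp hs
      exact charP_of_injective_algebraMap (FaithfulSMul.algebraMap_injective F (Module.End F V)) p
  rcases hc with hc | hc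
  · have h1 : x = (x - 1) + 1 := by abel
    have hcomm : Commute (x - 1) (1 : Module.End F V) := Commute.one_right _
    rw [h1, add_pow_char_of_commute _ hcomm, one_pow]
    have : (x - 1) ^ p = 0 := by
      have : p = 3 + (p - 3) := by omega
      rw [this, pow_add, h, zero_mul]
    rw [this, zero_add]
  · exact Subsingleton.elim _ _

/-- the hyperbolic part `J₂^k` -/
theorem exists_hyp {F : Type*} [Field F] [Fintype F] {p : ℕ} [Fact p.Prime] [CharP F p]
    (h2 : (2 : F) ≠ 0) (k : ℕ) (hk : Even k) (hk2 : 2 ≤ k) :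
    ∃ y : Module.End F (Fin k ⊕ Fin k → F), (∀ v, QfPlus k F (y v) = QfPlus k F v) ∧ y ^ p = 1 ∧
      (y - 1) ^ 2 = 0 ∧ Module.finrank F (LinearMap.ker (y - 1)) = k := by
  have hp2 : p ≠ 2 := by
    intro hp
    apply h2
    have : ((p : ℕ) : F) = 0 := CharP.cast_eq_zero F p
    rw [hp] at this
    exact_mod_cast this
  have hpodd : Odd p := (Fact.out : p.Prime).odd_of_ne_two hp2
  obtain ⟨m, hm⟩ := hk
  obtain ⟨A, hAp, hA1, hA2, -⟩ := exists_unip_matrix (F := F) (p := p) hp2 0 m 0 k (by omega)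
  obtain ⟨x, hxΩ, hxp, hxk⟩ := levi_plus h2 k (by omega) A p hpodd hAp
  refine ⟨Matrix.toLin' (x : Matrix (Fin k ⊕ Fin k) (Fin k ⊕ Fin k) F), ?_, ?_, ?_, ?_⟩
  · intro v
    obtain ⟨g, -, hg⟩ := hxΩ
    have hgm : (g : GL (Fin k ⊕ Fin k) F) ∈ Cfsg.isometryGroup F (Cfsg.quadFormPlus k F) := g.2
    rw [Cfsg.Agent.Helper28.IsoTransport.mem_isometryGroup_iff] at hgm
    have := hgm v
    rw [← hg, QfPlus_coe, Matrix.toLin'_apply]
    exact this
  · rw [← Matrix.toLin'_pow, ← Units.val_pow_eq_pow_val, hxp, Units.val_one, Matrix.toLin'_one]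
    rfl
  · have h := hxk 2
    rw [hA2] at h
    have hfin : Module.finrank F (Fin k ⊕ Fin k → F) = 2 * k := by
      rw [Module.finrank_pi]; simp; omega
    have htop : LinearMap.ker ((Matrix.toLin'
        (x : Matrix (Fin k ⊕ Fin k) (Fin k ⊕ Fin k) F) - 1) ^ 2) = ⊤ := by
      apply Submodule.eq_top_of_finrank_eq
      rw [h, hfin]; omega
    exact LinearMap.ker_eq_top.mp htop
  · have h := hxk 1
    rw [pow_one, pow_one, hA1] at h
    rw [h]; omega

theorem finrank_ker_zero_pow {F V : Type*} [Field F] [AddCommGroup V] [Module F V] (j : ℕ)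
    (hj : 1 ≤ j) :
    Module.finrank F (LinearMap.ker (((1 : Module.End F V) - 1) ^ j)) = Module.finrank F V := by
  have : ((1 : Module.End F V) - 1) ^ j = 0 := by
    rw [sub_self, zero_pow (by omega)]
  rw [this]
  have : LinearMap.ker (0 : Module.End F V) = ⊤ := LinearMap.ker_zero
  rw [this, finrank_top]

end MODELJ31

open MODELJ31 in
/-- MODELJ31 -/
theorem exists_j31_space {F : Type u} [Field F] [Fintype F] {p : ℕ} [Fact p.Prime] [CharP F p]
    (h2 : (2 : F) ≠ 0) (k : ℕ) (hk : Even k) (hk2 : 2 ≤ k) (δ : Prop) :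
    ∃ (V : Type u) (_ : AddCommGroup V) (_ : Module F V) (_ : FiniteDimensional F V)
      (Q : QuadraticForm F V) (x : Module.End F V) (c₂ : F),
      Nondeg (PB Q) ⊤ ∧ (∀ v, Q (x v) = Q v) ∧ x ^ p = 1 ∧ (x - 1) ^ 3 = 0 ∧
      Module.finrank F V = 4 + 2 * k ∧ ¬ Plus Q ⊤ ∧
      Module.finrank F (LinearMap.ker (x - 1)) = 2 + k ∧
      Module.finrank F (LinearMap.ker ((x - 1) ^ 2)) = 3 + 2 * k ∧
      c₂ ≠ 0 ∧ (IsSquare (2 * c₂) ↔ δ) ∧
      ∀ u ∈ LinearMap.ker (x - 1), ∃ t : F, Q u = c₂ * t * t := by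
  classical
  have hp2 : p ≠ 2 := by
    intro hp
    apply h2
    have : ((p : ℕ) : F) = 0 := CharP.cast_eq_zero F p
    rw [hp] at this
    exact_mod_cast this
  have hp3 : 3 ≤ p := by
    have := (Fact.out : p.Prime).two_le
    omega
  obtain ⟨ν, hν0, hνns⟩ : ∃ ν : F, ν ≠ 0 ∧ ¬ IsSquare ν := by
    have hchar : ringChar F ≠ 2 := by
      intro h
      have : CharP F 2 := by rw [← h]; exact ringChar.charP F
      exact h2 (CharTwo.two_eq_zero)
    obtain ⟨ν, hν⟩ := FiniteField.exists_nonsquare hchar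
    refine ⟨ν, ?_, hν⟩
    rintro rfl
    exact hν ⟨0, by simp⟩
  obtain ⟨c₂, hc₂, hc₂δ⟩ : ∃ c₂ : F, c₂ ≠ 0 ∧ (IsSquare (2 * c₂) ↔ δ) := by
    by_cases hδ : δ
    · refine ⟨2⁻¹, inv_ne_zero h2, ?_⟩
      rw [mul_inv_cancel₀ h2]
      simp [hδ]
    · refine ⟨2⁻¹ * ν, mul_ne_zero (inv_ne_zero h2) hν0, ?_⟩
      rw [← mul_assoc, mul_inv_cancel₀ h2, one_mul]
      simp [hδ, hνns]
  obtain ⟨c₁, hc₁, hc12⟩ : ∃ c₁ : F, c₁ ≠ 0 ∧ (2 * c₁) * (2 * c₂) * (-1) = ν * 2 ^ 2 := by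
    refine ⟨-ν / c₂, ?_, ?_⟩
    · exact div_ne_zero (neg_ne_zero.mpr hν0) hc₂
    · field_simp
  obtain ⟨y, hyQ, hyp, hy2, hyk⟩ := exists_hyp (p := p) h2 k hk hk2
  obtain ⟨j1, j2, j3, j4, j5, j6, j7⟩ := j3_props h2 c₁ hc₁
  obtain ⟨l1, l2, l3⟩ := line_props h2 c₂ hc₂
  have hPn : Nondeg (PB (QfPlus k F)) ⊤ := nondeg_top_of_nondegenerate _ (QfPlus_nondeg k)
  obtain ⟨a1, a2, a3, a4, a5, a6⟩ := prod_props (lineQ F c₂) (QfPlus k F)
    (1 : Module.End F (Fin 1 → F)) y (fun v => rfl) hyQ l1 hPn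
  obtain ⟨b1, b2, b3, b4, b5, b6⟩ := prod_props (j3Q F c₁) ((lineQ F c₂).prod (QfPlus k F))
    (j3X F c₁) ((1 : Module.End F (Fin 1 → F)).prodMap y) j1 a1 j5 a2
  have hfinP : Module.finrank F (Fin k ⊕ Fin k → F) = 2 * k := by
    rw [Module.finrank_pi]; simp; omega
  have hfin1 : Module.finrank F (Fin 1 → F) = 1 := by
    rw [Module.finrank_pi]; simp
  have hfin3 : Module.finrank F (Fin 3 → F) = 3 := by
    rw [Module.finrank_pi]; simp
  have hfin2 : Module.finrank F ((Fin 1 → F) × (Fin k ⊕ Fin k → F)) = 1 + 2 * k := by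
    rw [Module.finrank_prod, hfin1, hfinP]
  have hfinV : Module.finrank F ((Fin 3 → F) × ((Fin 1 → F) × (Fin k ⊕ Fin k → F))) =
      4 + 2 * k := by
    rw [Module.finrank_prod, hfin3, hfin2]; omega
  have hy3 : (y - 1) ^ 3 = 0 := by
    rw [show 3 = 2 + 1 from rfl, pow_succ, hy2, zero_mul]
  have hyk2 : Module.finrank F (LinearMap.ker ((y - 1) ^ 2)) = 2 * k := by
    rw [hy2]
    have : LinearMap.ker (0 : Module.End F (Fin k ⊕ Fin k → F)) = ⊤ := LinearMap.ker_zero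
    rw [this, finrank_top, hfinP]
  refine ⟨(Fin 3 → F) × ((Fin 1 → F) × (Fin k ⊕ Fin k → F)), inferInstance, inferInstance,
    inferInstance, (j3Q F c₁).prod ((lineQ F c₂).prod (QfPlus k F)),
    (j3X F c₁).prodMap ((1 : Module.End F (Fin 1 → F)).prodMap y), c₂, b2, b1, ?_, ?_, hfinV, ?_,
    ?_, ?_, hc₂, hc₂δ, ?_⟩
  · exact b5 p (pow_char_eq_one_of_cube hp3 _ j2) (a5 p (one_pow p) hyp)
  · refine b4 3 j2 (a4 3 ?_ hy3)
    rw [sub_self, zero_pow (by norm_num)]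
  · -- minus type
    have hev : Even (Module.finrank F (⊤ : Submodule F
        ((Fin 3 → F) × ((Fin 1 → F) × (Fin k ⊕ Fin k → F))))) := by
      rw [finrank_top, hfinV]
      exact ⟨2 + k, by ring⟩
    rw [plus_iff_discSq h2 _ ⊤ b2 hev]
    have hd2 : DiscSq ((lineQ F c₂).prod (QfPlus k F)) ⊤ ↔ IsSquare (2 * c₂) := by
      have h := (discSq_prod h2 (lineQ F c₂) (QfPlus k F) l1 hPn).1
        (Or.inr (by rw [hfinP]; exact ⟨k, by ring⟩))
      have hplus : DiscSq (QfPlus k F) ⊤ := by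
        have hev' : Even (Module.finrank F (⊤ : Submodule F (Fin k ⊕ Fin k → F))) := by
          rw [finrank_top, hfinP]; exact ⟨k, by ring⟩
        exact (plus_iff_discSq h2 _ ⊤ hPn hev').mp (plus_top_QfPlus k)
      rw [h, l2]
      exact iff_true_right hplus
    have hd := (discSq_prod h2 (j3Q F c₁) ((lineQ F c₂).prod (QfPlus k F)) j5 a2).2
      (by rw [hfin3]; exact ⟨1, by norm_num⟩) (by rw [hfin2]; exact ⟨k, by ring⟩)
    rw [hd, j7, hd2]
    have hne1 : (2 * c₁) ≠ 0 := mul_ne_zero h2 hc₁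
    have hne2 : (2 * c₂) ≠ 0 := mul_ne_zero h2 hc₂
    have hm1 : (-1 : F) ≠ 0 := neg_ne_zero.mpr one_ne_zero
    rw [← isSquare_mul_iff h2 hne1 hne2, ← isSquare_mul_iff h2 (mul_ne_zero hne1 hne2) hm1, hc12]
    rintro ⟨s, hs⟩
    apply hνns
    refine ⟨s / 2, ?_⟩
    field_simp
    rw [hs]
    ring
  · have h := b3 1
    have h' := a3 1
    rw [pow_one] at h h'
    rw [pow_one, pow_one] at h h'
    rw [h, h', j3, hyk]
    have := finrank_ker_zero_pow (F := F) (V := Fin 1 → F) 1 le_rfl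
    rw [pow_one] at this
    rw [this, hfin1]
    omega
  · have h := b3 2
    have h' := a3 2
    rw [h, h', j4, hyk2, finrank_ker_zero_pow (F := F) (V := Fin 1 → F) 2 (by norm_num), hfin1]
    omega
  · intro u hu
    obtain ⟨hu1, hu2⟩ := b6 u hu
    obtain ⟨-, hu22⟩ := a6 u.2 hu2
    obtain ⟨t, ht⟩ := l3 u.2.1
    refine ⟨t, ?_⟩
    have hq1 := j6 u.1 hu1
    have hq3 := ts_ker_of_sq_zero h2 (QfPlus k F) y hyQ hy2 (by rw [hyk, hfinP]) u.2.2 hu22
    rw [QuadraticMap.prod_apply, QuadraticMap.prod_apply, hq1, hq3, ht]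
    ring

end Cfsg.Agent.S5989P
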