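import Mathlib
import Cfsg.Agent.Helper2.CT.Defs
import Cfsg.Agent.Helper2.Stb.Main
import Cfsg.Agent.Helper2.Stb.RankOne
import Cfsg.Agent.Helper18.S1164CLOSURE
import Cfsg.Agent.Helper18.S1164IHNcore

set_option autoImplicit false
set_option linter.unusedSectionVars false
set_option linter.unusedVariables false

/-! S1164 (Curtis–Tits), piece I-BRAID (core): the braid relations `(n̂_i n̂_j)^m ∈ Ĥ`, from (R1) and
the relations (3), (4) inside the rank two subsystems (taken as hypotheses `NConj`, `IHN.HConj`). -/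

namespace Cfsg.Agent.S1164P.IBRAID

open Cfsg.Lie Cfsg.Agent.Helper6 Cfsg.Agent.Helper2.StPerf Cfsg.Agent.Helper2.Stb Cfsg.Agent.S1164P

/-! ### abstract group theory modulo a subgroup -/

section grp

variable {M : Type*} [Group M] (H : Subgroup M)

theorem braid2 (a b : M) (ha2 : a * a ∈ H) (hb2 : b * b ∈ H)
    (hb : b ∈ Subgroup.normalizer (H : Set M)) (h : a * b * a⁻¹ = b ∨ a * b * a⁻¹ = b⁻¹) :
    a * (b * (a * (b * 1))) ∈ H := by
  rcases h with h | h
  · have e : a * (b * (a * (b * 1))) = (a * b * a⁻¹) * (a * a) * b := by group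
    rw [e, h]
    have e2 : b * (a * a) * b = (b * (a * a) * b⁻¹) * (b * b) := by group
    rw [e2]
    exact H.mul_mem ((Subgroup.mem_normalizer_iff.1 hb _).1 ha2) hb2
  · have e : a * (b * (a * (b * 1))) = (a * b * a⁻¹) * (a * a) * b := by group
    rw [e, h]
    have hb' : b⁻¹ ∈ Subgroup.normalizer (H : Set M) := Subgroup.inv_mem _ hb
    have := (Subgroup.mem_normalizer_iff.1 hb' _).1 ha2
    rw [inv_inv] at this
    exact this

theorem braid3 (a b c : M) (ha2 : a * a ∈ H) (hb2 : b * b ∈ H)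
    (ha : a ∈ Subgroup.normalizer (H : Set M)) (hb : b ∈ Subgroup.normalizer (H : Set M))
    (h1 : a * b * a⁻¹ = c ∨ a * b * a⁻¹ = c⁻¹) (h2 : b * a * b⁻¹ = c ∨ b * a * b⁻¹ = c⁻¹) :
    a * (b * (a * (b * (a * (b * 1))))) ∈ H := by
  have e : a * (b * (a * (b * (a * (b * 1))))) =
      (a * b * a⁻¹) * (a * a) * (b * a * b⁻¹) * (b * b) := by group
  rw [e]
  apply H.mul_mem _ hb2
  have hc2 : b * a * b⁻¹ ∈ Subgroup.normalizer (H : Set M) :=
    Subgroup.mul_mem _ (Subgroup.mul_mem _ hb ha) (Subgroup.inv_mem _ hb)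
  have hsq : (b * a * b⁻¹) * (b * a * b⁻¹) ∈ H := by
    have e2 : (b * a * b⁻¹) * (b * a * b⁻¹) = b * (a * a) * b⁻¹ := by group
    rw [e2]
    exact (Subgroup.mem_normalizer_iff.1 hb _).1 ha2
  -- `a b a⁻¹ = (b a b⁻¹)^{±1}`
  have h3 : a * b * a⁻¹ = b * a * b⁻¹ ∨ a * b * a⁻¹ = (b * a * b⁻¹)⁻¹ := by
    rcases h1 with h1 | h1 <;> rcases h2 with h2 | h2
    · left; rw [h1, h2]
    · right; rw [h1, h2, inv_inv]
    · right; rw [h1, h2]
    · left; rw [h1, h2]
  rcases h3 with h3 | h3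
  · rw [h3]
    have e3 : (b * a * b⁻¹) * (a * a) * (b * a * b⁻¹) =
        ((b * a * b⁻¹) * (a * a) * (b * a * b⁻¹)⁻¹) * ((b * a * b⁻¹) * (b * a * b⁻¹)) := by group
    rw [e3]
    exact H.mul_mem ((Subgroup.mem_normalizer_iff.1 hc2 _).1 ha2) hsq
  · rw [h3]
    have hc2' := Subgroup.inv_mem _ hc2
    have := (Subgroup.mem_normalizer_iff.1 hc2' _).1 ha2
    rw [inv_inv] at this
    exact this

theorem braid4 (a b c : M) (ha2 : a * a ∈ H) (hb2 : b * b ∈ H)
    (ha : a ∈ Subgroup.normalizer (H : Set M)) (hb : b ∈ Subgroup.normalizer (H : Set M))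
    (hc : a * b * a⁻¹ = c) (h : b * c * b⁻¹ = c ∨ b * c * b⁻¹ = c⁻¹) :
    a * (b * (a * (b * (a * (b * (a * (b * 1))))))) ∈ H := by
  have hcN : c ∈ Subgroup.normalizer (H : Set M) := by
    rw [← hc]
    exact Subgroup.mul_mem _ (Subgroup.mul_mem _ ha hb) (Subgroup.inv_mem _ ha)
  have hcc : c * c ∈ H := by
    rw [← hc]
    have e2 : (a * b * a⁻¹) * (a * b * a⁻¹) = a * (b * b) * a⁻¹ := by group
    rw [e2]
    exact (Subgroup.mem_normalizer_iff.1 ha _).1 hb2
  -- `c b c b ∈ H`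
  have hcb : c * b * (c * b) ∈ H := by
    have e : c * b * (c * b) = c * (b * c * b⁻¹) * (b * b) := by group
    rw [e]
    rcases h with h | h
    · rw [h]; exact H.mul_mem hcc hb2
    · rw [h, mul_inv_cancel, one_mul]; exact hb2
  -- `(ab)^4 = (c h b)(c h b)` with `h = a²`
  have hbN' := Subgroup.inv_mem _ hb
  have hcbN : c * b ∈ Subgroup.normalizer (H : Set M) := Subgroup.mul_mem _ hcN hb
  have hcbN' := Subgroup.inv_mem _ hcbN
  have h' : b⁻¹ * (a * a) * b ∈ H := by
    have := (Subgroup.mem_normalizer_iff.1 hbN' _).1 ha2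
    rw [inv_inv] at this
    exact this
  have h'' : (c * b)⁻¹ * (b⁻¹ * (a * a) * b) * (c * b) ∈ H := by
    have := (Subgroup.mem_normalizer_iff.1 hcbN' _).1 h'
    rw [inv_inv] at this
    exact this
  have e : a * (b * (a * (b * (a * (b * (a * (b * 1))))))) =
      (c * b * (c * b)) * ((c * b)⁻¹ * (b⁻¹ * (a * a) * b) * (c * b)) * (b⁻¹ * (a * a) * b) := by
    rw [← hc]
    group
  rw [e]
  exact H.mul_mem (H.mul_mem hcb h'') h'

end grp

/-! ### the table facts -/

/-- for `i ≠ j`: the Cartan product is `0, 1, 2` and the root `w_i p_j` is as expected -/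
def braidChk (D : ChevalleyDatum) : Bool :=
  allLt D.rank fun i => allLt D.rank fun j => Nat.beq i j ||
    (decide (cartanF D i (D.simple j) * cartanF D j (D.simple i) = 0) &&
      Nat.beq (wD D i (D.simple j)) (D.simple j)) ||
    (decide (cartanF D i (D.simple j) * cartanF D j (D.simple i) = 1) &&
      Nat.beq (wD D i (D.simple j)) (wD D j (D.simple i))) ||
    (decide (cartanF D i (D.simple j) * cartanF D j (D.simple i) = 2) &&
      Nat.beq (wD D j (wD D i (D.simple j))) (wD D i (D.simple j)))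

set_option maxRecDepth 100000 in
theorem braidChk_of_isCT {D : ChevalleyDatum} (hD : IsCT D) : braidChk D = true := by
  simp only [IsCT, List.mem_cons, List.not_mem_nil, or_false] at hD
  rcases hD with rfl | rfl | rfl | rfl | rfl <;> decide +kernel

variable {D : ChevalleyDatum} {K : Type*} [Field K] {M : Type*} [Group M]
  {X : ℕ → K → M} {P : ℕ → ℕ → Prop}

/-- the content of `braidChk` -/
theorem braid_spec (hD : IsCT D) {i j : ℕ} (hi : i < D.rank) (hj : j < D.rank) (hij : i ≠ j) :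
    (D.cartan i (D.simple j) * D.cartan j (D.simple i) = 0 ∧
      wR D (D.simple i) (D.simple j) = D.simple j) ∨
    (D.cartan i (D.simple j) * D.cartan j (D.simple i) = 1 ∧
      wR D (D.simple i) (D.simple j) = wR D (D.simple j) (D.simple i)) ∨
    (D.cartan i (D.simple j) * D.cartan j (D.simple i) = 2 ∧
      wR D (D.simple j) (wR D (D.simple i) (D.simple j)) = wR D (D.simple i) (D.simple j)) := by
  have h := braidChk_of_isCT hD
  have hB := basicOK_of_tabulated hD.tab
  have hF := fastOK_of_tabulated hD.tab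
  have hn := nroots_le_of_tabulated hD.tab
  have hAi := simpleAll_of_tabulated hD.tab hi
  have hAj := simpleAll_of_tabulated hD.tab hj
  have hpi := hAi.hS.1
  have hpj := hAj.hS.1
  have hwi : ∀ s < D.nroots, wD D i s = wR D (D.simple i) s := fun s hs =>
    wD_eq hF hn (fun s hs => wR_lt hB hpi hAi.hR hs) hs
  have hwj : ∀ s < D.nroots, wD D j s = wR D (D.simple j) s := fun s hs =>
    wD_eq hF hn (fun s hs => wR_lt hB hpj hAj.hR hs) hs
  have hβ : wR D (D.simple i) (D.simple j) < D.nroots := wR_lt hB hpi hAi.hR hpj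
  simp only [braidChk, allLt_iff] at h
  have h1 := h i hi j hj
  rw [cartanF_eq hF.chk, hwi _ hpj, hwj _ hpi, hwj _ hβ] at h1
  simp only [Bool.or_eq_true, Bool.and_eq_true, Nat.beq_eq, decide_eq_true_eq] at h1
  rcases h1 with ((h1 | h1) | h1) | h1
  · exact absurd h1 hij
  · exact Or.inl h1
  · exact Or.inr (Or.inl h1)
  · exact Or.inr (Or.inr h1)

/-- relation (3) inside the rank two subsystems -/
def NConj (X : ℕ → K → M) (D : ChevalleyDatum) : Prop :=
  ∀ (i j s : ℕ), D.InRankTwoSub i j s → ∀ u : K,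
    nH X D (D.simple i) 1 * X s u * (nH X D (D.simple i) 1)⁻¹ =
      X (wR D (D.simple i) s) (((etaR D (D.simple i) s : ℤ) : K) * u)

/-- `n̂_i n̂_s(t) n̂_i⁻¹ = n̂_{w_i s}(η t)` for `s ∈ Φ_ij` -/
theorem nS_conj_nH (hD : IsCT D) (hn : NConj X D) {i j s : ℕ} (hs : D.InRankTwoSub i j s)
    (t : K) :
    nH X D (D.simple i) 1 * nH X D s t * (nH X D (D.simple i) 1)⁻¹ =
      nH X D (wR D (D.simple i) s) (((etaR D (D.simple i) s : ℤ) : K) * t) := by
  have hB := basicOK_of_tabulated hD.tab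
  have hA := simpleAll_of_tabulated hD.tab hs.2.1
  have hp := hA.hS.1
  have e : ∀ (g a b c : M), g * (a * b * c) * g⁻¹ = (g * a * g⁻¹) * (g * b * g⁻¹) * (g * c * g⁻¹) := by
    intros; group
  rw [nH_eq X s t, e, hn i j s hs, hn i j (D.neg s) (inR2_neg hD hs), etaR_neg hB hA hs.1,
    hA.hC.negw s hs.1, nH_eq]
  congr 2
  rcases etaR_pm hB hp hA.hR hs.1 with h1 | h1 <;> rw [h1] <;> simp

/-- `n̂_i n̂_s(1) n̂_i⁻¹ = n̂_{w_i s}(1)^{±1}` for `s ∈ Φ_ij` -/
theorem nS_conj_nH_one (hD : IsCT D) (h : R12On D X P) (hn : NConj X D) {i j s : ℕ}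
    (hs : D.InRankTwoSub i j s) :
    nH X D (D.simple i) 1 * nH X D s 1 * (nH X D (D.simple i) 1)⁻¹ =
        nH X D (wR D (D.simple i) s) 1 ∨
      nH X D (D.simple i) 1 * nH X D s 1 * (nH X D (D.simple i) 1)⁻¹ =
        (nH X D (wR D (D.simple i) s) 1)⁻¹ := by
  have hB := basicOK_of_tabulated hD.tab
  have hA := simpleAll_of_tabulated hD.tab hs.2.1
  have hp := hA.hS.1
  have hβ : wR D (D.simple i) s < D.nroots := wR_lt hB hp hA.hR hs.1
  rw [nS_conj_nH hD hn hs 1]
  rcases etaR_pm hB hp hA.hR hs.1 with h1 | h1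
  · left; rw [h1]; simp
  · right
    rw [h1, ← IHN.nH_neg_one h hB hβ]
    simp

/-- `n̂_i ∈ N(Ĥ)` -/
theorem nS_mem_normalizer (hD : IsCT D) (h : R12On D X P) (hc : IHN.HConj X D) {i : ℕ}
    (hi : i < D.rank) : nH X D (D.simple i) 1 ∈ Subgroup.normalizer (Hh X D : Set M) := by
  rw [Subgroup.mem_normalizer_iff]
  intro g
  constructor
  · intro hg
    exact IHN.nS_conj_Hh hD h hc hi hg
  · intro hg
    have := IHN.nS_inv_conj_Hh hD h hc hi hg
    have e : (nH X D (D.simple i) 1)⁻¹ * (nH X D (D.simple i) 1 * g * (nH X D (D.simple i) 1)⁻¹) *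
        nH X D (D.simple i) 1 = g := by group
    rw [e] at this
    exact this

/-- I-BRAID (core): the braid relations modulo `Ĥ` -/
theorem braid_core (hD : IsCT D) (h : R12On D X P) (hn : NConj X D) (hc : IHN.HConj X D)
    {i j : ℕ} (hi : i < D.rank) (hj : j < D.rank) (hij : i ≠ j) :
    nWd X D (cycW i j (mOf D i j)) ∈ Hh X D := by
  have hB := basicOK_of_tabulated hD.tab
  have hAi := simpleAll_of_tabulated hD.tab hi
  have hAj := simpleAll_of_tabulated hD.tab hj
  have hpj := hAj.hS.1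
  have ha2 := IHN.nS_sq_mem hD h hi
  have hb2 := IHN.nS_sq_mem hD h hj
  have ha := nS_mem_normalizer hD h hc hi
  have hb := nS_mem_normalizer hD h hc hj
  -- `p_j ∈ Φ_ij`, `p_i ∈ Φ_ji`
  have hjin : D.InRankTwoSub i j (D.simple j) := inR2_symm (inR2_simple hD hj hi)
  have hiin : D.InRankTwoSub j i (D.simple i) := inR2_symm (inR2_simple hD hi hj)
  have h1 := nS_conj_nH_one hD h hn hjin
  rcases braid_spec hD hi hj hij with ⟨hc0, hw⟩ | ⟨hc1, hw⟩ | ⟨hc2, hw⟩
  · -- `m = 2`
    have hm : mOf D i j = 2 := by unfold mOf; rw [if_pos hc0]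
    rw [hm]
    simp only [cycW, nWd_cons, nWd_nil]
    rw [hw] at h1
    exact braid2 _ _ _ ha2 hb2 hb h1
  · -- `m = 3`
    have hm : mOf D i j = 3 := by
      unfold mOf
      rw [if_neg (by rw [hc1]; norm_num), if_pos hc1]
    rw [hm]
    simp only [cycW, nWd_cons, nWd_nil]
    have h2 := nS_conj_nH_one hD h hn hiin
    rw [← hw] at h2
    exact braid3 _ _ _ _ ha2 hb2 ha hb h1 h2
  · -- `m = 4`
    have hm : mOf D i j = 4 := by
      unfold mOf
      rw [if_neg (by rw [hc2]; norm_num), if_neg (by rw [hc2]; norm_num), if_pos hc2]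
    rw [hm]
    simp only [cycW, nWd_cons, nWd_nil]
    -- `β = w_i p_j ∈ Φ_ji`
    have hβin : D.InRankTwoSub j i (wR D (D.simple i) (D.simple j)) :=
      inR2_symm (inR2_wR hD hjin)
    have hβ : wR D (D.simple i) (D.simple j) < D.nroots := hβin.1
    have h2 := nS_conj_nH_one hD h hn hβin
    rw [hw] at h2
    rcases h1 with h1 | h1
    · exact braid4 _ _ _ _ ha2 hb2 ha hb h1 h2
    · refine braid4 _ _ _ _ ha2 hb2 ha hb h1 ?_
      -- conjugate the inverse
      have e : ∀ (g x : M), g * x⁻¹ * g⁻¹ = (g * x * g⁻¹)⁻¹ := by intros; group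
      rw [e]
      rcases h2 with h2 | h2
      · left; rw [h2]
      · right; rw [h2]

end Cfsg.Agent.S1164P.IBRAID
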