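import Mathlib
import Cfsg.Prelude.Def_Solvable

set_option autoImplicit false
set_option linter.unusedSectionVars false

/-! Abstract group theory for the failure of local balance at a field automorphism:
the `p'`-core of the centralizer. -/

namespace Cfsg.Agent.Helper28.FB

open scoped commutatorElement

section core

variable {H H' : Type*} [Group H] [Group H']

theorem pPrimeCore_ne_bot_iff (p : ℕ) :
    Cfsg.pPrimeCore p H ≠ ⊥ ↔
      ∃ N : Subgroup H, N.Normal ∧ (Nat.card N).Coprime p ∧ N ≠ ⊥ := by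
  unfold Cfsg.pPrimeCore
  rw [Ne, sSup_eq_bot]
  push Not
  constructor
  · rintro ⟨N, ⟨h1, h2⟩, h3⟩
    exact ⟨N, h1, h2, h3⟩
  · rintro ⟨N, h1, h2, h3⟩
    exact ⟨N, ⟨h1, h2⟩, h3⟩

theorem pPrimeCore_ne_bot_of_equiv (p : ℕ) (e : H ≃* H')
    (h : Cfsg.pPrimeCore p H ≠ ⊥) : Cfsg.pPrimeCore p H' ≠ ⊥ := by
  rw [pPrimeCore_ne_bot_iff] at h ⊢
  obtain ⟨N, h1, h2, h3⟩ := h
  refine ⟨N.map e.toMonoidHom, h1.map _ e.surjective, ?_, ?_⟩
  · have := Nat.card_congr (e.subgroupMap N).toEquiv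
    show (Nat.card ↥(N.map (e : H →* H'))).Coprime p
    rw [← this]
    exact h2
  · intro h4
    apply h3
    rw [Subgroup.map_eq_bot_iff_of_injective _ e.injective] at h4
    exact h4

theorem pPrimeCore_ne_bot_congr (p : ℕ) (e : H ≃* H') :
    Cfsg.pPrimeCore p H ≠ ⊥ ↔ Cfsg.pPrimeCore p H' ≠ ⊥ :=
  ⟨pPrimeCore_ne_bot_of_equiv p e, pPrimeCore_ne_bot_of_equiv p e.symm⟩

end core

section ambient

variable {G : Type*} [Group G]

/-- the `p'`-core of a subgroup is trivial if all normalised `p'`-subgroups are trivial -/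
theorem pPrimeCore_eq_bot_of (p : ℕ) (C : Subgroup G)
    (h : ∀ N : Subgroup G, N ≤ C → (∀ c ∈ C, ∀ n ∈ N, c * n * c⁻¹ ∈ N) →
      (Nat.card N).Coprime p → N = ⊥) : Cfsg.pPrimeCore p ↥C = ⊥ := by
  by_contra hne
  obtain ⟨N, h1, h2, h3⟩ := (pPrimeCore_ne_bot_iff p).1 hne
  apply h3
  have h4 := h (N.map C.subtype) (by
      rintro _ ⟨n, _, rfl⟩
      exact n.2) (by
      rintro c hc _ ⟨n, hn, rfl⟩
      refine ⟨⟨c, hc⟩ * n * ⟨c, hc⟩⁻¹, h1.conj_mem n hn ⟨c, hc⟩, rfl⟩) (by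
      rw [← Nat.card_congr (N.equivMapOfInjective C.subtype C.subtype_injective).toEquiv]
      exact h2)
  rw [Subgroup.map_eq_bot_iff_of_injective _ C.subtype_injective] at h4
  exact h4

theorem pPrimeCore_ne_bot_of (p : ℕ) (C N : Subgroup G) (hNC : N ≤ C)
    (hnorm : ∀ c ∈ C, ∀ n ∈ N, c * n * c⁻¹ ∈ N) (hcop : (Nat.card N).Coprime p) (hne : N ≠ ⊥) :
    Cfsg.pPrimeCore p ↥C ≠ ⊥ := by
  rw [pPrimeCore_ne_bot_iff]
  refine ⟨N.subgroupOf C, ?_, ?_, ?_⟩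
  · constructor
    intro n hn c
    rw [Subgroup.mem_subgroupOf] at hn ⊢
    exact hnorm c.1 c.2 n.1 hn
  · rw [Nat.card_congr (Subgroup.subgroupOfEquivOfLe hNC).toEquiv]
    exact hcop
  · intro h
    apply hne
    rw [Subgroup.subgroupOf_eq_bot] at h
    rw [eq_bot_iff]
    intro n hn
    have := h.le_bot ⟨hn, hNC hn⟩
    exact this

/-- **the abstract core lemma**: a simple perfect subgroup `I₀` of the centralizer of `φ`, of order
divisible by `p`, whose centralizer in the centralizer of `φ` is `⟨φ⟩`, kills all `p'`-subgroups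
normalised by the centralizer. -/
theorem normal_coprime_eq_bot [Finite G] {p : ℕ} [Fact p.Prime] (φ : G) (hφ : orderOf φ = p)
    (A Inn I₀ P : Subgroup G) [hInn : Inn.Normal]
    (hI₀Inn : I₀ ≤ Inn) (hI₀C : I₀ ≤ Subgroup.centralizer {φ}) (hInnA : Inn ≤ A)
    (hInnP : Inn ⊓ Subgroup.centralizer {φ} ≤ P)
    (hPnorm : ∀ g ∈ P, ∀ s ∈ I₀, g * s * g⁻¹ ∈ I₀)
    (hsimple : ∀ M : Subgroup G, M ≤ I₀ → (∀ s ∈ I₀, ∀ n ∈ M, s * n * s⁻¹ ∈ M) →
      M = ⊥ ∨ M = I₀)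
    (hperf : ⁅I₀, I₀⁆ = I₀) (hp : p ∣ Nat.card I₀)
    (hD : ∀ γ ∈ Subgroup.centralizer {φ}, (∀ s ∈ I₀, γ * s = s * γ) → γ ∈ Subgroup.zpowers φ)
    (N : Subgroup G) (hNC : N ≤ A ⊓ Subgroup.centralizer {φ})
    (hNnorm : ∀ c ∈ A ⊓ Subgroup.centralizer {φ}, ∀ n ∈ N, c * n * c⁻¹ ∈ N)
    (hcop : (Nat.card N).Coprime p) : N = ⊥ := by
  have hI₀C' : I₀ ≤ A ⊓ Subgroup.centralizer {φ} := le_inf (hI₀Inn.trans hInnA) hI₀C
  -- `[N, I₀] ≤ N ⊓ Inn`
  have h1 : ⁅N, I₀⁆ ≤ N ⊓ Inn := by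
    rw [Subgroup.commutator_le]
    intro n hn s hs
    rw [commutatorElement_def]
    refine ⟨?_, ?_⟩
    · have h := hNnorm s (hI₀C' hs) n⁻¹ (N.inv_mem hn)
      have e : n * s * n⁻¹ * s⁻¹ = n * (s * n⁻¹ * s⁻¹) := by group
      rw [e]
      exact N.mul_mem hn h
    · have h := hInn.conj_mem s (hI₀Inn hs) n
      exact Inn.mul_mem h (Inn.inv_mem (hI₀Inn hs))
  -- `[N ⊓ Inn, I₀] ≤ N ⊓ Inn ⊓ I₀`
  have h2 : ⁅N ⊓ Inn, I₀⁆ ≤ N ⊓ Inn ⊓ I₀ := by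
    rw [Subgroup.commutator_le]
    intro n hn s hs
    refine ⟨?_, ?_⟩
    · exact h1 (Subgroup.commutator_mem_commutator hn.1 hs)
    · rw [commutatorElement_def]
      have hnP : n ∈ P := hInnP ⟨hn.2, (hNC hn.1).2⟩
      exact I₀.mul_mem (hPnorm n hnP s hs) (I₀.inv_mem hs)
  -- `N ⊓ Inn ⊓ I₀ = ⊥`
  have h3 : N ⊓ Inn ⊓ I₀ = ⊥ := by
    rcases hsimple (N ⊓ Inn ⊓ I₀) inf_le_right (by
      intro s hs n hn
      refine ⟨⟨hNnorm s (hI₀C' hs) n hn.1.1, hInn.conj_mem n hn.1.2 s⟩, ?_⟩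
      exact I₀.mul_mem (I₀.mul_mem hs hn.2) (I₀.inv_mem hs)) with h | h
    · exact h
    · exfalso
      have hle : I₀ ≤ N := by
        rw [← h]
        exact inf_le_left.trans inf_le_left
      have hdvd : Nat.card I₀ ∣ Nat.card N := Subgroup.card_dvd_of_le hle
      have hpN : p ∣ Nat.card N := hp.trans hdvd
      have := Nat.Coprime.eq_one_of_dvd hcop.symm hpN
      exact (Fact.out : p.Prime).one_lt.ne' this
  have h4 : ⁅⁅N, I₀⁆, I₀⁆ = ⊥ := by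
    rw [eq_bot_iff, ← h3]
    exact (Subgroup.commutator_mono h1 le_rfl).trans h2
  have h5 : ⁅⁅I₀, N⁆, I₀⁆ = ⊥ := by
    rw [Subgroup.commutator_comm I₀ N]
    exact h4
  have h6 : ⁅⁅I₀, I₀⁆, N⁆ = ⊥ := Subgroup.commutator_commutator_eq_bot_of_rotate h5 h4
  rw [hperf, Subgroup.commutator_eq_bot_iff_le_centralizer] at h6
  -- `N ≤ ⟨φ⟩`
  have h7 : N ≤ Subgroup.zpowers φ := by
    intro n hn
    apply hD n (hNC hn).2
    intro s hs
    exact h6 hs n hn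
  have h8 : Nat.card N ∣ p := by
    have := Subgroup.card_dvd_of_le h7
    rwa [Nat.card_zpowers, hφ] at this
  have h9 : Nat.card N = 1 := Nat.Coprime.eq_one_of_dvd hcop h8
  exact Subgroup.card_eq_one.1 h9

end ambient

end Cfsg.Agent.Helper28.FB
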