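import Mathlib
import Cfsg.Prelude.Def_LieTypeDatum
import Cfsg.Agent.Helper28.FieldO4
import Cfsg.Agent.Helper28.GammaCount4
import Cfsg.Agent.S2694

set_option autoImplicit false
set_option linter.unusedSectionVars false

/-! Coset conjugacy for field automorphisms of prime order of `Ω_{2m+1}(q)`. -/

namespace Cfsg.Agent.Helper28.FO

open Matrix Module Cfsg.Agent.Helper28.SSim Cfsg.Agent.S2614 Cfsg.Agent.Helper28.Sg
  Cfsg.Agent.Helper28.PG Cfsg.Agent.Helper28.GC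
open Cfsg.Agent.Helper7.FieldPSL (orderOf_pos_ringAut orderOf_conj' isConjUnder_conj_iff)

variable {F : Type*} [Field F]

theorem isStd_odd (m : ℕ) : IsStd (QfOdd m F) := by
  intro σ v
  rw [QfOdd_coe]
  unfold Cfsg.quadFormOdd
  rw [map_add, map_pow, map_sum]
  simp only [map_mul]

/-- the standard frame of the odd-dimensional form -/
noncomputable def frOdd {m : ℕ} (hm : 3 ≤ m) : Frame3 (QfOdd m F) :=
  frameOf (fun j => Sum.inr (Sum.inl (Fin.castLE hm j)))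
    (fun j => Sum.inr (Sum.inr (Fin.castLE hm j)))
    (by
      intro x y h
      rcases x with x | x <;> rcases y with y | y <;>
        simp only [Sum.elim_inl, Sum.elim_inr, Sum.inl.injEq, Sum.inr.injEq, reduceCtorEq,
          Fin.castLE_inj] at h
      · rw [h]
      · rw [h])
    (fun j => hypPair_odd m _)

theorem two_ne_zero_of_odd [Fintype F] (hodd : Odd (Fintype.card F)) : (2 : F) ≠ 0 := by
  apply Ring.two_ne_zero
  intro h
  rw [FiniteField.even_card_iff_char_two] at h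
  rcases hodd with ⟨k, hk⟩
  omega

theorem perf_odd [Fintype F] (h2 : (2 : F) ≠ 0) {m : ℕ} (hm : 3 ≤ m) :
    commutator ↥(Cfsg.Omega F ⇑(QfOdd m F)) = ⊤ :=
  Omega_perfect' (Cfsg.Agent.S0292.QfOdd_nondeg h2 m) (frOdd hm)
    (hgen_odd h2 (Cfsg.Agent.S0292.QfOdd_nondeg h2 m))

theorem inndiagOdd_eq (m : ℕ) :
    Cfsg.inndiagPOmegaOdd m F = Cfsg.pgoAut F (Cfsg.quadFormOdd m F) := rfl

theorem gamma_top_odd [Fintype F] (hodd : Odd (Fintype.card F)) {m : ℕ} (hm : 3 ≤ m) :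
    Cfsg.gammaPOmega F ⇑(QfOdd m F) = ⊤ := by
  rw [QfOdd_coe]
  exact Cfsg.Agent.S2694.result hodd hm

/-- **coset conjugacy for field automorphisms of prime order of `Ω_{2m+1}(q)`**, form version -/
theorem coset_conj_main_odd' [Fintype F] (hodd : Odd (Fintype.card F)) {m : ℕ} (hm : 3 ≤ m)
    (x δ : MulAut (Cfsg.POmega F ⇑(QfOdd m F)))
    (hx : Cfsg.IsFieldAutClassPOmega (⇑(QfOdd m F)) x) {r : ℕ} (hxr : orderOf x = r)
    (hδ : δ ∈ Cfsg.pgoAut F ⇑(QfOdd m F)) :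
    orderOf (δ * x) = r ↔ Cfsg.IsConjUnder (Cfsg.pgoAut F ⇑(QfOdd m F)) x (δ * x) := by
  have h2 := two_ne_zero_of_odd hodd
  have hQ := Cfsg.Agent.S0292.QfOdd_nondeg h2 (F := F) m
  have hperf := perf_odd h2 hm
  have hstd := isStd_odd (F := F) m
  have hDn : (Cfsg.pgoAut F ⇑(QfOdd m F)).Normal :=
    pgoAut_normal hQ (frOdd hm) hperf (gamma_top_odd hodd hm)
  constructor
  · intro hord
    obtain ⟨α, φ, σ, hσ1, hφ, hα⟩ := hx
    have hφ' : φ = phiO hstd σ := (isFieldAut_iff hstd σ φ).1 hφ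
    have hσr : orderOf σ = r := by
      rw [← orderOf_phiO hQ (frOdd hm) hperf hstd σ, ← hφ', ← hα, orderOf_conj', hxr]
    have hσpos : 0 < orderOf σ := orderOf_pos_ringAut σ
    have h2' : α * δ * α⁻¹ ∈ Cfsg.pgoAut F ⇑(QfOdd m F) := hDn.conj_mem δ hδ α
    rw [pgoAut_eq] at h2'
    obtain ⟨g, hg⟩ := h2'
    have h3 : α * (δ * x) * α⁻¹ = cG (QfOdd m F) g * phiO hstd σ := by
      rw [hg, ← hφ', ← hα]
      group
    have h4 : (cG (QfOdd m F) g * phiO hstd σ) ^ (orderOf σ) = 1 := by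
      rw [← h3, hσr, ← hord, ← orderOf_conj' α (δ * x)]
      exact pow_orderOf_eq_one _
    obtain ⟨B, hB⟩ := conj_of_pow_eq_one_O hQ (frOdd hm) hperf hstd σ
      (hclass_odd h2 m σ) g h4
    rw [← isConjUnder_conj_iff (Cfsg.pgoAut F ⇑(QfOdd m F)) α, h3, hα, hφ']
    refine ⟨cG (QfOdd m F) B, ?_, hB⟩
    rw [pgoAut_eq]
    exact ⟨B, rfl⟩
  · rintro ⟨h, hh, e⟩
    rw [e, orderOf_conj', hxr]

/-- **coset conjugacy for field automorphisms of prime order of `Ω_{2m+1}(q)`** -/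
theorem coset_conj_main_odd [Fintype F] (hodd : Odd (Fintype.card F)) {m : ℕ} (hm : 3 ≤ m)
    (x δ : MulAut (Cfsg.POmega F (Cfsg.quadFormOdd m F)))
    (hx : Cfsg.IsFieldAutClassPOmega (Cfsg.quadFormOdd m F) x) {r : ℕ} (hxr : orderOf x = r)
    (hδ : δ ∈ Cfsg.inndiagPOmegaOdd m F) :
    orderOf (δ * x) = r ↔ Cfsg.IsConjUnder (Cfsg.inndiagPOmegaOdd m F) x (δ * x) := by
  have key := fun (x δ : MulAut (Cfsg.POmega F ⇑(QfOdd m F))) =>
    coset_conj_main_odd' hodd hm x δ (r := r)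
  rw [QfOdd_coe] at key
  rw [inndiagOdd_eq] at hδ ⊢
  exact key x δ hx hxr hδ

end Cfsg.Agent.Helper28.FO
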