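import Mathlib
import Cfsg.Prelude.Def_LieTypeDatum
import Cfsg.Agent.Helper28.FieldO9
import Cfsg.Agent.Helper28.FieldO5
import Cfsg.Agent.Helper7.FieldPSL5

set_option autoImplicit false
set_option linter.unusedSectionVars false

/-! Field automorphisms of prime order of `Ω_{2m+1}(q)`: centralizer and class splitting. -/

namespace Cfsg.Agent.Helper28.FO

open Matrix Module Cfsg.Agent.Helper28.SSim Cfsg.Agent.S2614 Cfsg.Agent.Helper28.Sg
  Cfsg.Agent.Helper28.PG Cfsg.Agent.Helper28.GC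
open Cfsg.Agent.Helper7.FieldPSL (FDesc orderOf_pos_ringAut orderOf_conj' isConjUnder_conj_iff
  centEquiv splitClassCount_conj exists_FDesc)

variable {F : Type*} [Field F] {F₀ : Type*} [Field F₀]

theorem compat_odd (E : FDesc F F₀) (m : ℕ) : Compat E (QfOdd m F) (QfOdd m F₀) := by
  intro w
  rw [QfOdd_coe, QfOdd_coe]
  unfold Cfsg.quadFormOdd
  rw [map_add, map_pow, map_sum]
  simp only [map_mul]
  rfl

theorem card_index_odd (m : ℕ) : Fintype.card (Unit ⊕ (Fin m ⊕ Fin m)) = 2 * m + 1 := by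
  simp only [Fintype.card_sum, Fintype.card_unit, Fintype.card_fin]
  omega

/-- **field automorphisms of prime order of `Ω_{2m+1}(q)`**, form version -/
theorem field_aut_main_odd' [Fintype F] [Fintype F₀] {p f : ℕ} [Fact p.Prime]
    (hF : Fintype.card F = p ^ f) (hf : 1 ≤ f) (hodd : Odd (Fintype.card F)) {m : ℕ} (hm : 3 ≤ m)
    (x : MulAut (Cfsg.POmega F ⇑(QfOdd m F)))
    (hx : Cfsg.IsFieldAutClassPOmega (⇑(QfOdd m F)) x) {r : ℕ}
    (hxr : orderOf x = r) (hF₀ : Fintype.card F₀ = p ^ (f / r)) :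
    r ∣ f ∧
      Nonempty (↥(Cfsg.pgoAut F ⇑(QfOdd m F) ⊓ Subgroup.centralizer {x}) ≃*
        ↥(Cfsg.pgoAut F₀ ⇑(QfOdd m F₀))) ∧
      (Odd r → Cfsg.splitClassCount (Cfsg.pgoAut F ⇑(QfOdd m F))
        (Cfsg.Inn (Cfsg.POmega F ⇑(QfOdd m F))) x = 1) ∧
      (r = 2 → Cfsg.splitClassCount (Cfsg.pgoAut F ⇑(QfOdd m F))
        (Cfsg.Inn (Cfsg.POmega F ⇑(QfOdd m F))) x = 2) := by
  classical
  have h2 := two_ne_zero_of_odd hodd
  have hQ := Cfsg.Agent.S0292.QfOdd_nondeg h2 (F := F) m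
  have hperf := perf_odd h2 hm
  have hstd := isStd_odd (F := F) m
  have hDn : (Cfsg.pgoAut F ⇑(QfOdd m F)).Normal :=
    pgoAut_normal hQ (frOdd hm) hperf (gamma_top_odd hodd hm)
  obtain ⟨α, φ, σ, hσ1, hφ, hα⟩ := hx
  have hφ' : φ = phiO hstd σ := (isFieldAut_iff hstd σ φ).1 hφ
  have hσr : orderOf σ = r := by
    rw [← orderOf_phiO hQ (frOdd hm) hperf hstd σ, ← hφ', ← hα, orderOf_conj', hxr]
  have hσpos : 0 < orderOf σ := orderOf_pos_ringAut σ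
  have hrf : r ∣ f := by
    rw [← hσr]
    exact Cfsg.Agent.Helper7.FieldPSL.orderOf_dvd hf hF σ
  obtain ⟨E, hE⟩ := exists_FDesc hF σ (by rw [hσr]; exact hF₀)
  subst hE
  have h2₀ : (2 : F₀) ≠ 0 := two_ne_zero_sub E h2
  have hQ₀ := Cfsg.Agent.S0292.QfOdd_nondeg h2₀ (F := F₀) m
  have hperf₀ := perf_odd h2₀ hm
  have hc := compat_odd E m
  have hxα : α * x * α⁻¹ = phiO hstd E.σ := by rw [hα, hφ']
  have h6 : 6 ≤ Fintype.card (Unit ⊕ (Fin m ⊕ Fin m)) := by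
    rw [card_index_odd]
    omega
  refine ⟨hrf, ?_, ?_, ?_⟩
  · obtain ⟨e⟩ := nonempty_centralizer_equiv E hQ (frOdd hm) hperf hstd hc hQ₀ (frOdd hm) hperf₀
      hσpos
    have e1 := centEquiv (Cfsg.pgoAut F ⇑(QfOdd m F)) α x
    rw [hxα] at e1
    exact ⟨e1.trans e⟩
  · intro hrodd
    rw [← splitClassCount_conj (Cfsg.pgoAut F ⇑(QfOdd m F))
      (Cfsg.Inn (Cfsg.POmega F ⇑(QfOdd m F))) α x, hxα]
    exact split_odd_order E hQ (frOdd hm) hperf hstd hc (frOdd hm) h2 h6 (card_index_odd m)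
      (by rw [hσr]; exact hrodd)
  · intro hr2
    rw [← splitClassCount_conj (Cfsg.pgoAut F ⇑(QfOdd m F))
      (Cfsg.Inn (Cfsg.POmega F ⇑(QfOdd m F))) α x, hxα]
    exact split_order_two E hQ (frOdd hm) hperf hstd hc hQ₀ (frOdd hm) hperf₀ h2 h6
      (card_index_odd m) (by rw [hσr]; exact hr2)

/-- **field automorphisms of prime order of `Ω_{2m+1}(q)`** -/
theorem field_aut_main_odd [Fintype F] [Fintype F₀] {p f : ℕ} [Fact p.Prime]
    (hF : Fintype.card F = p ^ f) (hf : 1 ≤ f) (hodd : Odd (Fintype.card F)) {m : ℕ} (hm : 3 ≤ m)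
    (x : MulAut (Cfsg.POmega F (Cfsg.quadFormOdd m F)))
    (hx : Cfsg.IsFieldAutClassPOmega (Cfsg.quadFormOdd m F) x) {r : ℕ}
    (hxr : orderOf x = r) (hF₀ : Fintype.card F₀ = p ^ (f / r)) :
    r ∣ f ∧
      Nonempty (↥(Cfsg.inndiagPOmegaOdd m F ⊓ Subgroup.centralizer {x}) ≃*
        ↥(Cfsg.inndiagPOmegaOdd m F₀)) ∧
      (Odd r → Cfsg.splitClassCount (Cfsg.inndiagPOmegaOdd m F)
        (Cfsg.Inn (Cfsg.POmega F (Cfsg.quadFormOdd m F))) x = 1) ∧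
      (r = 2 → Cfsg.splitClassCount (Cfsg.inndiagPOmegaOdd m F)
        (Cfsg.Inn (Cfsg.POmega F (Cfsg.quadFormOdd m F))) x = 2) := by
  have key := fun (x : MulAut (Cfsg.POmega F ⇑(QfOdd m F))) =>
    field_aut_main_odd' (F₀ := F₀) hF hf hodd hm x (r := r)
  rw [QfOdd_coe, QfOdd_coe] at key
  rw [inndiagOdd_eq, inndiagOdd_eq]
  exact key x hx hxr hF₀

end Cfsg.Agent.Helper28.FO
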