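import Mathlib
import Cfsg.Prelude.Def_LieTypeDatum
import Cfsg.Agent.Helper28.FieldO10
import Cfsg.Agent.Helper28.FieldM14
import Cfsg.Agent.Helper28.FieldB2

set_option autoImplicit false
set_option linter.unusedSectionVars false

/-! The rational subgroup `I₀ ≅ Ω(Q₀)` of the centralizer of the standard field automorphism. -/

namespace Cfsg.Agent.Helper28.FB

open Matrix Module Cfsg.Agent.Helper28.SSim Cfsg.Agent.Helper28.Sg Cfsg.Agent.Helper28.PG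
  Cfsg.Agent.Helper28.GC Cfsg.Agent.Helper28.Spin Cfsg.Agent.Helper28.PA Cfsg.Agent.Helper28.FO
  Cfsg.Agent.Helper28.FM
open Cfsg.Agent.Helper7.FieldPSL (FDesc)

variable {F : Type*} [Field F] [Fintype F] [DecidableEq F] {F₀ : Type*} [Field F₀] [Fintype F₀]
  [DecidableEq F₀] {ι : Type} [Fintype ι] [DecidableEq ι]

section iota

variable (E : FDesc F F₀) {Q : QuadraticForm F (ι → F)} {Q₀ : QuadraticForm F₀ (ι → F₀)}

theorem compatHom_of (hc : Compat E Q Q₀) : CompatHom E.j Q₀ Q := fun w => hc w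

/-- the embedding of the rational `Ω` into the automorphism group -/
noncomputable def iotaO (hc : Compat E Q Q₀) :
    ↥(Cfsg.Omega F₀ ⇑Q₀) →* MulAut (Cfsg.POmega F ⇑Q) :=
  (psiO E hc).comp ((oGO Q₀).comp (Cfsg.Omega F₀ ⇑Q₀).subtype)

theorem iotaO_apply (hc : Compat E Q Q₀) (s : ↥(Cfsg.Omega F₀ ⇑Q₀)) :
    iotaO E hc s = psiO E hc (oGO Q₀ (s : ↥(Cfsg.isometryGroup F₀ ⇑Q₀))) := rfl

theorem jGO_oGO (hc : Compat E Q Q₀) (s : ↥(Cfsg.isometryGroup F₀ ⇑Q₀)) :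
    jGO E hc (oGO Q₀ s) = oGO Q (bcO (compatHom_of E hc) s) := by
  apply Subtype.ext
  apply Units.ext
  rfl

/-- base change on `Ω` -/
noncomputable def bcΩ (hc : Compat E Q Q₀) : ↥(Cfsg.Omega F₀ ⇑Q₀) →* ↥(Cfsg.Omega F ⇑Q) :=
  ((bcO (compatHom_of E hc)).comp (Cfsg.Omega F₀ ⇑Q₀).subtype).codRestrict _
    (fun s => bcO_mem_Omega (compatHom_of E hc) s.1 s.2)

theorem bcΩ_coe (hc : Compat E Q Q₀) (s : ↥(Cfsg.Omega F₀ ⇑Q₀)) :
    ((bcΩ E hc s : ↥(Cfsg.Omega F ⇑Q)) : ↥(Cfsg.isometryGroup F ⇑Q)) =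
      bcO (compatHom_of E hc) (s : ↥(Cfsg.isometryGroup F₀ ⇑Q₀)) := rfl

theorem bcΩ_injective (hc : Compat E Q Q₀) : Function.Injective (bcΩ E hc) := by
  rw [injective_iff_map_eq_one]
  intro s hs
  have h1 := congrArg (fun t : ↥(Cfsg.Omega F ⇑Q) =>
    ((((t : ↥(Cfsg.isometryGroup F ⇑Q)) : GL ι F)) : Matrix ι ι F)) hs
  simp only [bcΩ_coe, bcO_val] at h1
  apply Subtype.ext
  apply Subtype.ext
  apply Units.ext
  have h2 : (1 : Matrix ι ι F) = (1 : Matrix ι ι F₀).map E.j := by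
    rw [Matrix.map_one _ (map_zero _) (map_one _)]
  have h3 : ((((1 : ↥(Cfsg.Omega F ⇑Q)) : ↥(Cfsg.isometryGroup F ⇑Q)) : GL ι F) : Matrix ι ι F) = 1 :=
    rfl
  rw [h3, h2] at h1
  exact Matrix.map_injective E.j.injective h1

theorem iotaO_eq_conj (hc : Compat E Q Q₀) (s : ↥(Cfsg.Omega F₀ ⇑Q₀)) :
    iotaO E hc s = MulAut.conj (QuotientGroup.mk (bcΩ E hc s) : Cfsg.POmega F ⇑Q) := by
  rw [iotaO_apply, psiO_apply, jGO_oGO, cG_oGO, ← cAut_coe, bcΩ_coe]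

theorem iotaO_mem_Inn (hc : Compat E Q Q₀) (s : ↥(Cfsg.Omega F₀ ⇑Q₀)) :
    iotaO E hc s ∈ Cfsg.Inn (Cfsg.POmega F ⇑Q) := by
  rw [iotaO_eq_conj]
  exact ⟨_, rfl⟩

theorem iotaO_mem_range (hc : Compat E Q Q₀) (s : ↥(Cfsg.Omega F₀ ⇑Q₀)) :
    iotaO E hc s ∈ (psiO E hc).range := ⟨_, rfl⟩

/-- `I₀` is normalised by the image of the rational similarities -/
theorem iotaO_conj (hc : Compat E Q Q₀) (k : ↥(GO Q₀)) (s : ↥(Cfsg.Omega F₀ ⇑Q₀)) :
    psiO E hc k * iotaO E hc s * (psiO E hc k)⁻¹ = iotaO E hc (conjΩ Q₀ k s) := by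
  rw [iotaO_apply, iotaO_apply, ← map_inv, ← map_mul, ← map_mul, conj_oGO, conjΩ_coe]

theorem iotaO_injective (hc : Compat E Q Q₀)
    (hZ : Subgroup.center ↥(Cfsg.Omega F ⇑Q) = ⊥)
    (hZP : Subgroup.center (Cfsg.POmega F ⇑Q) = ⊥) : Function.Injective (iotaO E hc) := by
  rw [injective_iff_map_eq_one]
  intro s hs
  rw [iotaO_eq_conj] at hs
  have h1 : (QuotientGroup.mk (bcΩ E hc s) : Cfsg.POmega F ⇑Q) ∈
      Subgroup.center (Cfsg.POmega F ⇑Q) := by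
    rw [Subgroup.mem_center_iff]
    intro y
    have := congrArg (fun e : MulAut (Cfsg.POmega F ⇑Q) => e y) hs
    simp only [MulAut.conj_apply, MulAut.one_apply] at this
    exact (mul_inv_eq_iff_eq_mul.1 this).symm
  rw [hZP, Subgroup.mem_bot, QuotientGroup.eq_one_iff, hZ, Subgroup.mem_bot] at h1
  apply bcΩ_injective E hc
  rw [h1, map_one]

end iota

section simple

variable (Q : QuadraticForm F (ι → F))

/-- `Ω` is simple if its centre is trivial -/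
theorem Omega_simple (hQ : (QuadraticMap.polarBilin Q).Nondegenerate) (fr : Frame3 Q)
    (hgen : ∀ (H : Subgroup ↥(Cfsg.isometryGroup F ⇑Q)),
      (∀ (v : ι → F) (hv : Q v ≠ 0), reflO Q v hv ∈ H) → ∀ g, g ∈ H)
    (hZ : Subgroup.center ↥(Cfsg.Omega F ⇑Q) = ⊥) : IsSimpleGroup ↥(Cfsg.Omega F ⇑Q) := by
  have hnt : Nontrivial ↥(Cfsg.Omega F ⇑Q) := by
    by_contra hcon
    rw [not_nontrivial_iff_subsingleton] at hcon
    have h01 : B Q (fr.e 0) (fr.e 1) = 0 := fr.Bee 0 1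
    have hmem : siegO Q (fr.e 0) (fr.e 1) (fr.Qe 0) h01 ∈ Cfsg.Omega F ⇑Q :=
      S_le_Omega hQ fr (siegO_mem_S Q _ _ _ _)
    have h1 : (⟨_, hmem⟩ : ↥(Cfsg.Omega F ⇑Q)) = 1 := Subsingleton.elim _ _
    have h2 : siegO Q (fr.e 0) (fr.e 1) (fr.Qe 0) h01 = 1 := congrArg Subtype.val h1
    have h3 := congrArg (fun z => mt Q z *ᵥ (fr.f 0)) h2
    simp only [siegO_mulVec, mt_one_mulVec] at h3
    simp only [B, fr.Bef, fr.Qe] at h3
    have h4 : fr.e 1 = 0 := by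
      simpa using h3
    have := fr.Bef 1 1
    rw [h4] at this
    simp [QuadraticMap.polar] at this
  refine { exists_pair_ne := hnt.exists_pair_ne, eq_bot_or_eq_top_of_normal := ?_ }
  intro N hN
  rcases normal_cases hQ fr hgen N with h | h
  · left
    rw [hZ] at h
    exact le_bot_iff.1 h
  · right
    exact h

end simple

end Cfsg.Agent.Helper28.FB
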