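import Mathlib
import Cfsg.Prelude.Def_LieTypeDatum
import Cfsg.Agent.Helper28.FieldB3

set_option autoImplicit false
set_option linter.unusedSectionVars false

/-! The centralizer of the rational subgroup `I₀` in the centralizer of the standard field
automorphism is generated by the field automorphism. -/

namespace Cfsg.Agent.Helper28.FB

open Matrix Module Cfsg.Agent.Helper28.SSim Cfsg.Agent.Helper28.Sg Cfsg.Agent.Helper28.PG
  Cfsg.Agent.Helper28.GC Cfsg.Agent.Helper28.Spin Cfsg.Agent.Helper28.PA Cfsg.Agent.Helper28.FO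
  Cfsg.Agent.Helper28.FM
open Cfsg.Agent.Helper7.FieldPSL (FDesc)

section group

variable {G : Type*} [Group G]

theorem conj_injective_of_center (hZ : Subgroup.center G = ⊥) {a b : G}
    (h : MulAut.conj a = MulAut.conj b) : a = b := by
  have h1 : b⁻¹ * a ∈ Subgroup.center G := by
    rw [Subgroup.mem_center_iff]
    intro y
    have := congrArg (fun e : MulAut G => e y) h
    simp only [MulAut.conj_apply] at this
    calc y * (b⁻¹ * a) = b⁻¹ * (b * y * b⁻¹) * a := by group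
      _ = b⁻¹ * (a * y * a⁻¹) * a := by rw [this]
      _ = b⁻¹ * a * y := by group
  rw [hZ, Subgroup.mem_bot, inv_mul_eq_one] at h1
  exact h1.symm

theorem aut_mul_conj (β : MulAut G) (a : G) : β * MulAut.conj a = MulAut.conj (β a) * β := by
  ext y
  simp only [MulAut.mul_apply, MulAut.conj_apply, map_mul, map_inv]

/-- an automorphism of a centreless group commuting with `conj a` fixes `a` -/
theorem apply_eq_of_comm_conj (hZ : Subgroup.center G = ⊥) (β : MulAut G) (a : G)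
    (h : β * MulAut.conj a = MulAut.conj a * β) : β a = a := by
  rw [aut_mul_conj] at h
  exact conj_injective_of_center hZ (mul_right_cancel h)

end group

variable {F : Type*} [Field F] [Fintype F] [DecidableEq F] {F₀ : Type*} [Field F₀] [Fintype F₀]
  [DecidableEq F₀] {ι : Type} [Fintype ι] [DecidableEq ι]

section decomp

variable {Q : QuadraticForm F (ι → F)}

theorem mem_GO_of_semisim (hstd : IsStd Q) {g₀ : GL ι F} {τ : F ≃+* F}
    (hp : Cfsg.IsSemisimilarityPair (⇑Q) g₀ τ) : g₀ ∈ GO Q := by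
  obtain ⟨c, hc⟩ := hp
  refine ⟨c, fun v => ?_⟩
  have h1 := hc (fun i => τ.symm (v i))
  rw [hstd τ.symm v] at h1
  simp only [RingEquiv.apply_symm_apply] at h1
  exact h1

/-- every semilinear automorphism is the product of a similarity and a standard field
automorphism -/
theorem exists_decomp (hstd : IsStd Q) (γ : MulAut (Cfsg.POmega F ⇑Q))
    (hγ : γ ∈ Cfsg.gammaPOmega F ⇑Q) :
    ∃ (g : ↥(GO Q)) (τ : F ≃+* F), Cfsg.IsSemisimilarityPair (⇑Q) (g : GL ι F) τ ∧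
      Cfsg.IsInducedBySemilinearPOmega (⇑Q) (g : GL ι F) τ γ ∧ γ = cG Q g * phiO hstd τ := by
  obtain ⟨g₀, τ, hp, hind⟩ := exists_of_mem_gamma (⇑Q) γ hγ
  have hg₀ := mem_GO_of_semisim hstd hp
  refine ⟨⟨g₀, hg₀⟩, τ, hp, hind, ?_⟩
  have h2 := induced_mul (⇑Q) (semisim_GO (⟨g₀, hg₀⟩ : ↥(GO Q))) (semisim_std hstd τ)
    (induced_cG (⟨g₀, hg₀⟩ : ↥(GO Q))) (induced_phiO hstd τ)
  rw [map_one, mul_one] at h2
  have e : τ.trans (RingEquiv.refl F) = τ := by
    ext x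
    rfl
  rw [e] at h2
  exact induced_unique hp hind h2

end decomp

section lemmaD

variable (E : FDesc F F₀) {Q : QuadraticForm F (ι → F)} {Q₀ : QuadraticForm F₀ (ι → F₀)}

/-- a similarity-induced automorphism commuting with the field automorphism and centralising `I₀`
is trivial -/
theorem cG_eq_one_of_centralizes [Nonempty ι] (hQ : (QuadraticMap.polarBilin Q).Nondegenerate)
    (fr : Frame3 Q) (hperf : commutator ↥(Cfsg.Omega F ⇑Q) = ⊤) (hstd : IsStd Q)
    (hc : Compat E Q Q₀) (hQ₀ : (QuadraticMap.polarBilin Q₀).Nondegenerate) (fr₀ : Frame3 Q₀)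
    (hperf₀ : commutator ↥(Cfsg.Omega F₀ ⇑Q₀) = ⊤) (hσ : 0 < orderOf E.σ)
    (hZP₀ : Subgroup.center (Cfsg.POmega F₀ ⇑Q₀) = ⊥)
    (δ : MulAut (Cfsg.POmega F ⇑Q)) (hδ : δ ∈ Cfsg.pgoAut F ⇑Q)
    (hδC : δ ∈ Subgroup.centralizer {phiO hstd E.σ})
    (hcomm : ∀ s : ↥(Cfsg.Omega F₀ ⇑Q₀), δ * iotaO E hc s = iotaO E hc s * δ) : δ = 1 := by
  have h1 : δ ∈ (psiO E hc).range := by
    rw [range_psiO E hQ fr hperf hstd hc (frame_ex fr₀) hσ]
    exact ⟨hδ, hδC⟩
  obtain ⟨k, rfl⟩ := h1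
  have hker := ker_psiO E hQ fr hperf hc hQ₀ fr₀ hperf₀
  have h2 : ∀ s : ↥(Cfsg.Omega F₀ ⇑Q₀),
      cG Q₀ k * MulAut.conj (QuotientGroup.mk s : Cfsg.POmega F₀ ⇑Q₀) =
        MulAut.conj (QuotientGroup.mk s : Cfsg.POmega F₀ ⇑Q₀) * cG Q₀ k := by
    intro s
    have h3 := hcomm s
    rw [iotaO_apply, ← map_mul, ← map_mul] at h3
    have h4 : (k * oGO Q₀ (s : ↥(Cfsg.isometryGroup F₀ ⇑Q₀)))⁻¹ *
        (oGO Q₀ (s : ↥(Cfsg.isometryGroup F₀ ⇑Q₀)) * k) ∈ (psiO E hc).ker := by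
      rw [MonoidHom.mem_ker, map_mul, map_inv, h3, inv_mul_cancel]
    rw [hker, MonoidHom.mem_ker, map_mul, map_inv, inv_mul_eq_one, map_mul, map_mul, cG_oGO,
      cAut_coe] at h4
    exact h4
  have h5 : cG Q₀ k = 1 := by
    ext y
    induction y using QuotientGroup.induction_on with
    | H s => exact apply_eq_of_comm_conj hZP₀ _ _ (h2 s)
  have h6 : k ∈ (psiO E hc).ker := by
    rw [hker]
    exact h5
  exact h6

/-- **Lemma D**: the centralizer of `I₀` in the centralizer of the field automorphism -/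
theorem mem_zpowers_of_centralizes [Nonempty ι] (hQ : (QuadraticMap.polarBilin Q).Nondegenerate)
    (fr : Frame3 Q) (hperf : commutator ↥(Cfsg.Omega F ⇑Q) = ⊤) (hstd : IsStd Q)
    (hc : Compat E Q Q₀) (hQ₀ : (QuadraticMap.polarBilin Q₀).Nondegenerate) (fr₀ : Frame3 Q₀)
    (hperf₀ : commutator ↥(Cfsg.Omega F₀ ⇑Q₀) = ⊤) (hσ : 0 < orderOf E.σ)
    (htop : Cfsg.gammaPOmega F ⇑Q = ⊤)
    (hZ : Subgroup.center ↥(Cfsg.Omega F ⇑Q) = ⊥)
    (hZP₀ : Subgroup.center (Cfsg.POmega F₀ ⇑Q₀) = ⊥)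
    (hfr0 : fr.e 0 = jv E (fr₀.e 0)) (hfr1 : fr.e 1 = jv E (fr₀.e 1))
    (γ : MulAut (Cfsg.POmega F ⇑Q)) (hγC : γ ∈ Subgroup.centralizer {phiO hstd E.σ})
    (hcomm : ∀ s : ↥(Cfsg.Omega F₀ ⇑Q₀), γ * iotaO E hc s = iotaO E hc s * γ) :
    γ ∈ Subgroup.zpowers (phiO hstd E.σ) := by
  have hZP : Subgroup.center (Cfsg.POmega F ⇑Q) = ⊥ := by
    rw [eq_bot_iff]
    intro z hz
    induction z using QuotientGroup.induction_on with
    | H s =>
      rw [Subgroup.mem_bot, QuotientGroup.eq_one_iff]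
      rw [Subgroup.mem_center_iff] at hz ⊢
      intro t
      have h1 := hz (QuotientGroup.mk t)
      rw [← QuotientGroup.mk_mul, ← QuotientGroup.mk_mul, QuotientGroup.eq, hZ,
        Subgroup.mem_bot, inv_mul_eq_one] at h1
      exact h1
  have hγΓ : γ ∈ Cfsg.gammaPOmega F ⇑Q := by rw [htop]; exact Subgroup.mem_top γ
  obtain ⟨g, τ, hp, hind, hγ⟩ := exists_decomp hstd γ hγΓ
  -- the matrices of the rational elements are fixed
  have hfix : ∀ s : ↥(Cfsg.Omega F₀ ⇑Q₀),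
      ((g : GL ι F) : Matrix ι ι F) *
        ((((s : ↥(Cfsg.isometryGroup F₀ ⇑Q₀)) : GL ι F₀) : Matrix ι ι F₀).map E.j).map τ *
        (((g : GL ι F)⁻¹ : GL ι F) : Matrix ι ι F) =
      (((s : ↥(Cfsg.isometryGroup F₀ ⇑Q₀)) : GL ι F₀) : Matrix ι ι F₀).map E.j := by
    intro s
    have h1 := hcomm s
    rw [iotaO_eq_conj] at h1
    have h2 := apply_eq_of_comm_conj hZP γ _ h1
    rw [induced_apply (⇑Q) hp hind, QuotientGroup.eq, hZ, Subgroup.mem_bot, inv_mul_eq_one] at h2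
    have h3 := congrArg (fun t : ↥(Cfsg.Omega F ⇑Q) =>
      ((((t : ↥(Cfsg.isometryGroup F ⇑Q)) : GL ι F)) : Matrix ι ι F)) h2
    simp only [actΩ_val, bcΩ_coe, bcO_val] at h3
    exact h3
  -- the field automorphism fixes the fixed field
  have hτfix : ∀ a₀ : F₀, τ (E.j a₀) = E.j a₀ := by
    intro a₀
    apply tau_fix_of_sieg Q fr (g : GL ι F) τ (E.j a₀)
    intro b hb
    obtain ⟨b₀, rfl⟩ : ∃ b₀ : F₀, E.j b₀ = b := by
      rcases hb with rfl | rfl
      · exact ⟨1, map_one _⟩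
      · exact ⟨a₀, rfl⟩
    have h01 : B Q₀ (fr₀.e 0) (b₀ • fr₀.e 1) = 0 := B_smul_right_zero Q₀ b₀ (fr₀.Bee 0 1)
    have hmem : siegO Q₀ (fr₀.e 0) (b₀ • fr₀.e 1) (fr₀.Qe 0) h01 ∈ Cfsg.Omega F₀ ⇑Q₀ :=
      S_le_Omega hQ₀ fr₀ (siegO_mem_S Q₀ _ _ _ _)
    have h4 := hfix ⟨_, hmem⟩
    have h5 : ((((⟨_, hmem⟩ : ↥(Cfsg.Omega F₀ ⇑Q₀)) : ↥(Cfsg.isometryGroup F₀ ⇑Q₀)) : GL ι F₀) :
        Matrix ι ι F₀).map E.j = siegM Q (fr.e 0) (E.j b₀ • fr.e 1) := by
      show (siegM Q₀ (fr₀.e 0) (b₀ • fr₀.e 1)).map E.j = _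
      rw [siegM_map (compatHom_of E hc), hfr0, hfr1]
      congr 1
      funext i
      simp [mv, jv]
    rw [h5] at h4
    exact h4
  have hτz : τ ∈ Subgroup.zpowers E.σ := by
    apply mem_zpowers_of_fixes
    intro y hy
    obtain ⟨a₀, rfl⟩ := E.exists_j y hy
    exact hτfix a₀
  have hφz : phiO hstd τ ∈ Subgroup.zpowers (phiO hstd E.σ) := by
    obtain ⟨n, rfl⟩ := hτz
    rw [← phiHom_apply, ← phiHom_apply, map_zpow]
    exact Subgroup.zpow_mem_zpowers _ n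
  -- the similarity part is trivial
  have hφC : phiO hstd τ ∈ Subgroup.centralizer {phiO hstd E.σ} := by
    rw [Subgroup.mem_centralizer_singleton_iff]
    obtain ⟨n, hn⟩ := hφz
    rw [← hn]
    exact (Commute.zpow_right (Commute.refl _) n).eq.symm
  have hg1 : cG Q g = 1 := by
    have e : cG Q g = γ * (phiO hstd τ)⁻¹ := by rw [hγ, mul_inv_cancel_right]
    apply cG_eq_one_of_centralizes E hQ fr hperf hstd hc hQ₀ fr₀ hperf₀ hσ hZP₀
    · rw [pgoAut_eq]
      exact ⟨g, rfl⟩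
    · rw [e]
      exact Subgroup.mul_mem _ hγC (Subgroup.inv_mem _ hφC)
    · intro s
      have h6 : phiO hstd τ * iotaO E hc s = iotaO E hc s * phiO hstd τ := by
        have h7 : iotaO E hc s ∈ Subgroup.centralizer {phiO hstd E.σ} := by
          have := iotaO_mem_range E hc s
          rw [range_psiO E hQ fr hperf hstd hc (frame_ex fr₀) hσ] at this
          exact this.2
        rw [Subgroup.mem_centralizer_singleton_iff] at h7
        obtain ⟨n, hn⟩ := hφz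
        rw [← hn]
        have h8 : Commute (iotaO E hc s) (phiO hstd E.σ) := h7
        exact (h8.zpow_right n).eq.symm
      have h9 : (phiO hstd τ)⁻¹ * iotaO E hc s = iotaO E hc s * (phiO hstd τ)⁻¹ := by
        rw [inv_mul_eq_iff_eq_mul, ← mul_assoc, h6, mul_inv_cancel_right]
      rw [e, mul_assoc, h9, ← mul_assoc, hcomm s, mul_assoc]
  rw [hγ, hg1, one_mul]
  exact hφz

end lemmaD

end Cfsg.Agent.Helper28.FB
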