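import Mathlib
import Cfsg.Prelude.Def_LieTypeDatum
import Cfsg.Agent.Helper28.FieldB1
import Cfsg.Agent.Helper28.FieldB4
import Cfsg.Agent.Helper28.TwoRankLow

set_option autoImplicit false
set_option linter.unusedSectionVars false

/-! The `p'`-core of the centralizer of the standard field automorphism of an odd-dimensional
orthogonal group. -/

namespace Cfsg.Agent.Helper28.FB

open Matrix Module Cfsg.Agent.Helper28.SSim Cfsg.Agent.Helper28.Sg Cfsg.Agent.Helper28.PG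
  Cfsg.Agent.Helper28.GC Cfsg.Agent.Helper28.Spin Cfsg.Agent.Helper28.PA Cfsg.Agent.Helper28.FO
  Cfsg.Agent.Helper28.FM
open Cfsg.Agent.Helper7.FieldPSL (FDesc)
open scoped commutatorElement

variable {F : Type*} [Field F] [Fintype F] [DecidableEq F] {F₀ : Type*} [Field F₀] [Fintype F₀]
  [DecidableEq F₀] {ι : Type} [Fintype ι] [DecidableEq ι]

section even

variable (Q : QuadraticForm F (ι → F))

/-- in odd characteristic `Ω` has even order -/
theorem even_card_Omega (fr : Frame3 Q) (h2 : (2 : F) ≠ 0) :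
    2 ∣ Nat.card ↥(Cfsg.Omega F ⇑Q) := by
  set w : Fin 2 → ι → F := fun i => if i = 0 then fr.e 0 + fr.f 0 else fr.e 1 + fr.f 1 with hw
  have hQ0 : Q (fr.e 0 + fr.f 0) = 1 := by
    rw [Cfsg.Agent.Helper28.Sg.Q_add, fr.Qe, fr.Qf]
    simp only [B, fr.Bef]
    simp
  have hQ1 : Q (fr.e 1 + fr.f 1) = 1 := by
    rw [Cfsg.Agent.Helper28.Sg.Q_add, fr.Qe, fr.Qf]
    simp only [B, fr.Bef]
    simp
  have hB : QuadraticMap.polar ⇑Q (fr.e 0 + fr.f 0) (fr.e 1 + fr.f 1) = 0 := by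
    simp only [QuadraticMap.polar_add_left, QuadraticMap.polar_add_right, fr.Bee, fr.Bff, fr.Bef,
      fr.Bfe]
    simp
  obtain ⟨A, -, hexp, hcard⟩ := Cfsg.Agent.Helper28.TR.exists_elem_abelian Q h2 1 w 1 one_ne_zero
    (by
      intro i
      fin_cases i
      · simpa [hw] using hQ0
      · simpa [hw] using hQ1)
    (by
      intro i j hij
      fin_cases i <;> fin_cases j
      · exact absurd rfl hij
      · simpa [hw] using hB
      · rw [QuadraticMap.polar_comm]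
        simpa [hw] using hB
      · exact absurd rfl hij)
  have hne : A ≠ ⊥ := by
    intro h
    rw [h, Subgroup.card_bot] at hcard
    norm_num at hcard
  obtain ⟨a, ha1⟩ := (Subgroup.ne_bot_iff_exists_ne_one).1 hne
  have ha1' : (a : ↥(Cfsg.Omega F ⇑Q)) ≠ 1 := by
    intro h
    apply ha1
    exact Subtype.ext h
  have hord : orderOf (a : ↥(Cfsg.Omega F ⇑Q)) = 2 :=
    orderOf_eq_prime (hexp _ a.2) ha1'
  rw [← hord]
  exact orderOf_dvd_natCard _

end even

section main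

variable (E : FDesc F F₀) {Q : QuadraticForm F (ι → F)} {Q₀ : QuadraticForm F₀ (ι → F₀)}

/-- the fixed points of an automorphism of a centreless group and the inner automorphisms
commuting with it -/
theorem inn_inf_centralizer {G : Type*} [Group G] (hZ : Subgroup.center G = ⊥) (φ : MulAut G) :
    Cfsg.Inn G ⊓ Subgroup.centralizer {φ} =
      (MonoidHom.eqLocus φ.toMonoidHom (MonoidHom.id G)).map (MulAut.conj : G →* MulAut G) := by
  ext y
  rw [Subgroup.mem_inf, Subgroup.mem_centralizer_singleton_iff, Subgroup.mem_map]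
  constructor
  · rintro ⟨⟨k, rfl⟩, h⟩
    refine ⟨k, ?_, rfl⟩
    exact apply_eq_of_comm_conj hZ φ k h.symm
  · rintro ⟨k, hk, rfl⟩
    refine ⟨⟨k, rfl⟩, ?_⟩
    have hk' : φ k = k := hk
    rw [aut_mul_conj, hk']

theorem card_inn_inf_centralizer {G : Type*} [Group G] (hZ : Subgroup.center G = ⊥)
    (φ : MulAut G) :
    Nat.card ↥(Cfsg.Inn G ⊓ Subgroup.centralizer {φ}) =
      Nat.card ↥(MonoidHom.eqLocus φ.toMonoidHom (MonoidHom.id G)) := by
  rw [inn_inf_centralizer hZ φ]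
  have hinj : Function.Injective (MulAut.conj : G →* MulAut G) :=
    fun a b h => conj_injective_of_center hZ h
  exact (Nat.card_congr (Subgroup.equivMapOfInjective _ _ hinj).toEquiv).symm

/-- **the `p'`-core of the centralizer of the standard field automorphism** -/
theorem core_iff [Nonempty ι] (hQ : (QuadraticMap.polarBilin Q).Nondegenerate)
    (fr : Frame3 Q) (hperf : commutator ↥(Cfsg.Omega F ⇑Q) = ⊤) (hstd : IsStd Q)
    (hc : Compat E Q Q₀) (hQ₀ : (QuadraticMap.polarBilin Q₀).Nondegenerate) (fr₀ : Frame3 Q₀)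
    (hperf₀ : commutator ↥(Cfsg.Omega F₀ ⇑Q₀) = ⊤)
    (htop : Cfsg.gammaPOmega F ⇑Q = ⊤)
    (hgen : ∀ (H : Subgroup ↥(Cfsg.isometryGroup F ⇑Q)),
      (∀ (v : ι → F) (hv : Q v ≠ 0), reflO Q v hv ∈ H) → ∀ g, g ∈ H)
    (hgen₀ : ∀ (H : Subgroup ↥(Cfsg.isometryGroup F₀ ⇑Q₀)),
      (∀ (v : ι → F₀) (hv : Q₀ v ≠ 0), reflO Q₀ v hv ∈ H) → ∀ g, g ∈ H)
    (hZ : Subgroup.center ↥(Cfsg.Omega F ⇑Q) = ⊥)
    (hZ₀ : Subgroup.center ↥(Cfsg.Omega F₀ ⇑Q₀) = ⊥)
    (hfr0 : fr.e 0 = jv E (fr₀.e 0)) (hfr1 : fr.e 1 = jv E (fr₀.e 1))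
    (h2 : (2 : F) ≠ 0) (h6 : 6 ≤ Fintype.card ι) {k : ℕ} (hk : Fintype.card ι = 2 * k + 1)
    {p : ℕ} [Fact p.Prime] (hp : orderOf E.σ = p)
    (A : Subgroup (MulAut (Cfsg.POmega F ⇑Q)))
    (hinn : ∀ k : Cfsg.POmega F ⇑Q, MulAut.conj k ∈ A) :
    Cfsg.pPrimeCore p ↥(A ⊓ Subgroup.centralizer {phiO hstd E.σ}) ≠ ⊥ ↔
      Nat.Coprime p (Nat.card ↥(MonoidHom.eqLocus (phiO hstd E.σ).toMonoidHom
        (MonoidHom.id (Cfsg.POmega F ⇑Q)))) := by
  have hpp : p.Prime := Fact.out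
  have hσ : 0 < orderOf E.σ := by rw [hp]; exact hpp.pos
  have h2₀ : (2 : F₀) ≠ 0 := two_ne_zero_sub E h2
  have hZP : Subgroup.center (Cfsg.POmega F ⇑Q) = ⊥ := center_POmega_eq_bot Q hQ fr hgen
  have hZP₀ : Subgroup.center (Cfsg.POmega F₀ ⇑Q₀) = ⊥ := center_POmega_eq_bot Q₀ hQ₀ fr₀ hgen₀
  have hsimp₀ : IsSimpleGroup ↥(Cfsg.Omega F₀ ⇑Q₀) := Omega_simple Q₀ hQ₀ fr₀ hgen₀ hZ₀
  have hinj := iotaO_injective E hc hZ hZP
  have hrange := range_psiO E hQ fr hperf hstd hc (frame_ex fr₀) hσ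
  set φ := phiO hstd E.σ with hφ
  have hInnA : Cfsg.Inn (Cfsg.POmega F ⇑Q) ≤ A := by
    rintro _ ⟨k, rfl⟩
    exact hinn k
  have hI₀Inn : (iotaO E hc).range ≤ Cfsg.Inn (Cfsg.POmega F ⇑Q) := by
    rintro _ ⟨s, rfl⟩
    exact iotaO_mem_Inn E hc s
  have hI₀C : (iotaO E hc).range ≤ Subgroup.centralizer {φ} := by
    rintro _ ⟨s, rfl⟩
    have := iotaO_mem_range E hc s
    rw [hrange] at this
    exact this.2
  have hcardN := card_inn_inf_centralizer hZP φ
  have hI₀ne : (iotaO E hc).range ≠ ⊥ := by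
    intro h
    obtain ⟨a, b, hab⟩ := hsimp₀.exists_pair_ne
    apply hab
    apply hinj
    have ha : iotaO E hc a ∈ (iotaO E hc).range := ⟨a, rfl⟩
    have hb : iotaO E hc b ∈ (iotaO E hc).range := ⟨b, rfl⟩
    rw [h, Subgroup.mem_bot] at ha hb
    rw [ha, hb]
  constructor
  · intro hne
    by_contra hcop
    apply hne
    have hdvd : p ∣ Nat.card ↥(MonoidHom.eqLocus φ.toMonoidHom
        (MonoidHom.id (Cfsg.POmega F ⇑Q))) := by
      by_contra h
      exact hcop ((Nat.Prime.coprime_iff_not_dvd hpp).2 h)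
    rw [← hcardN] at hdvd
    -- `p` divides the order of `I₀`
    have hcardI : Nat.card ↥(iotaO E hc).range = Nat.card ↥(Cfsg.Omega F₀ ⇑Q₀) :=
      (Nat.card_congr (MonoidHom.ofInjective hinj).toEquiv).symm
    have hpI : p ∣ Nat.card ↥(iotaO E hc).range := by
      rw [hcardI]
      have h1 : Cfsg.Inn (Cfsg.POmega F ⇑Q) ⊓ Subgroup.centralizer {φ} ≤
          Cfsg.pgoAut F ⇑Q ⊓ Subgroup.centralizer {φ} :=
        inf_le_inf_right _ (Inn_le_pgoAut Q)
      have h3 := hdvd.trans (Subgroup.card_dvd_of_le h1)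
      obtain ⟨e⟩ := nonempty_centralizer_equiv E hQ fr hperf hstd hc hQ₀ fr₀ hperf₀ hσ
      rw [Nat.card_congr e.toEquiv, card_pgoAut_odd Q₀ hQ₀ h2₀ (frame_ex fr₀) h6 hk] at h3
      have h4 : Nat.card (Cfsg.POmega F₀ ⇑Q₀) ∣ Nat.card ↥(Cfsg.Omega F₀ ⇑Q₀) :=
        Subgroup.card_quotient_dvd_card _
      rcases (Nat.Prime.dvd_mul hpp).1 h3 with h5 | h5
      · rw [(Nat.prime_dvd_prime_iff_eq hpp Nat.prime_two).1 h5]
        exact even_card_Omega Q₀ fr₀ h2₀
      · exact h5.trans h4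
    apply pPrimeCore_eq_bot_of
    intro N hNC hNnorm hNcop
    refine normal_coprime_eq_bot φ (by rw [hφ, orderOf_phiO hQ fr hperf hstd, hp]) A
      (Cfsg.Inn (Cfsg.POmega F ⇑Q)) (iotaO E hc).range (psiO E hc).range hI₀Inn hI₀C hInnA ?_ ?_ ?_
      ?_ hpI ?_ N hNC hNnorm hNcop
    · rw [hrange]
      exact inf_le_inf_right _ (Inn_le_pgoAut Q)
    · rintro _ ⟨k, rfl⟩ _ ⟨s, rfl⟩
      rw [iotaO_conj]
      exact ⟨_, rfl⟩
    · intro M hM hMnorm
      have hMn : (M.comap (iotaO E hc)).Normal := by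
        constructor
        intro n hn s
        rw [Subgroup.mem_comap, map_mul, map_mul, map_inv]
        exact hMnorm _ ⟨s, rfl⟩ _ hn
      rcases hMn.eq_bot_or_eq_top with h | h
      · left
        rw [eq_bot_iff]
        intro y hy
        obtain ⟨s, rfl⟩ := hM hy
        have hs : s ∈ M.comap (iotaO E hc) := hy
        rw [h, Subgroup.mem_bot] at hs
        rw [hs, map_one]
        exact Subgroup.mem_bot.2 rfl
      · right
        apply le_antisymm hM
        rintro _ ⟨s, rfl⟩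
        have hs : s ∈ M.comap (iotaO E hc) := by rw [h]; exact Subgroup.mem_top s
        exact hs
    · rw [MonoidHom.range_eq_map, ← Subgroup.map_commutator, ← commutator_def, hperf₀]
    · intro γ hγC hγ
      apply mem_zpowers_of_centralizes E hQ fr hperf hstd hc hQ₀ fr₀ hperf₀ hσ htop hZ hZP₀ hfr0 hfr1
        γ hγC
      intro s
      exact hγ _ ⟨s, rfl⟩
  · intro hcop
    apply pPrimeCore_ne_bot_of p _ (Cfsg.Inn (Cfsg.POmega F ⇑Q) ⊓ Subgroup.centralizer {φ})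
    · exact inf_le_inf_right _ hInnA
    · intro c hc' n hn
      refine ⟨(inferInstance : (Cfsg.Inn (Cfsg.POmega F ⇑Q)).Normal).conj_mem n hn.1 c, ?_⟩
      exact Subgroup.mul_mem _ (Subgroup.mul_mem _ hc'.2 hn.2) (Subgroup.inv_mem _ hc'.2)
    · rw [hcardN]
      exact hcop.symm
    · intro h
      apply hI₀ne
      rw [eq_bot_iff, ← h]
      exact le_inf hI₀Inn hI₀C

end main

end Cfsg.Agent.Helper28.FB
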