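import Mathlib
import Cfsg.Prelude.Def_LieTypeDatum
import Cfsg.Agent.Helper28.FieldB5

set_option autoImplicit false
set_option linter.unusedSectionVars false

/-! Failure of local balance for `Ω_{2m+1}(q)`: automorphisms of prime order outside the
inner-diagonal group. -/

namespace Cfsg.Agent.Helper28.FB

open Matrix Module Cfsg.Agent.Helper28.SSim Cfsg.Agent.S2614 Cfsg.Agent.Helper28.Sg
  Cfsg.Agent.Helper28.PG Cfsg.Agent.Helper28.GC Cfsg.Agent.Helper28.Spin Cfsg.Agent.Helper28.PA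
  Cfsg.Agent.Helper28.FO Cfsg.Agent.Helper28.FM
open Cfsg.Agent.Helper7.FieldPSL (FDesc orderOf_pos_ringAut finite_ringAut)

section fdesc

variable {F : Type*} [Field F]

/-- the fixed field of a field automorphism -/
noncomputable def fixF (σ : F ≃+* F) : Subfield F :=
  FixedPoints.subfield (↥(Subgroup.zpowers σ)) F

theorem mem_fixF (σ : F ≃+* F) (x : F) : x ∈ fixF σ ↔ σ x = x := by
  constructor
  · intro hx
    exact hx ⟨σ, Subgroup.mem_zpowers σ⟩
  · intro hx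
    rintro ⟨τ, hτ⟩
    have h5 : σ ∈ MulAction.stabilizer (F ≃+* F) x := by
      rw [MulAction.mem_stabilizer_iff]
      exact hx
    have h6 : τ ∈ MulAction.stabilizer (F ≃+* F) x := (Subgroup.zpowers_le.2 h5) hτ
    exact MulAction.mem_stabilizer_iff.1 h6

/-- the descent datum of a field automorphism -/
noncomputable def fdescOf (σ : F ≃+* F) : FDesc F ↥(fixF σ) where
  σ := σ
  j := (fixF σ).subtype
  fix_j x := (mem_fixF σ x.1).1 x.2
  exists_j y hy := ⟨⟨y, (mem_fixF σ y).2 hy⟩, rfl⟩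

theorem fdescOf_σ (σ : F ≃+* F) : (fdescOf σ).σ = σ := rfl

end fdesc

section conj

variable {G : Type*} [Group G]

theorem map_conj_inf_centralizer (A : Subgroup G) (α x : G) :
    (A ⊓ Subgroup.centralizer {x}).map (MulAut.conj α).toMonoidHom =
      A.map (MulAut.conj α).toMonoidHom ⊓ Subgroup.centralizer {α * x * α⁻¹} := by
  ext z
  simp only [Subgroup.mem_map, Subgroup.mem_inf, Subgroup.mem_centralizer_singleton_iff,
    MulEquiv.coe_toMonoidHom, MulAut.conj_apply]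
  constructor
  · rintro ⟨y, ⟨hyA, hyx⟩, rfl⟩
    refine ⟨⟨y, hyA, rfl⟩, ?_⟩
    calc α * y * α⁻¹ * (α * x * α⁻¹) = α * (y * x) * α⁻¹ := by group
      _ = α * (x * y) * α⁻¹ := by rw [hyx]
      _ = _ := by group
  · rintro ⟨⟨y, hyA, rfl⟩, h⟩
    refine ⟨y, ⟨hyA, ?_⟩, rfl⟩
    have e : y * x = α⁻¹ * (α * y * α⁻¹ * (α * x * α⁻¹)) * α := by group
    rw [e, h]
    group

theorem core_conj (p : ℕ) (A : Subgroup G) (α x φ : G) (h : α * x * α⁻¹ = φ) :
    Cfsg.pPrimeCore p ↥(A ⊓ Subgroup.centralizer {x}) ≠ ⊥ ↔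
      Cfsg.pPrimeCore p ↥(A.map (MulAut.conj α).toMonoidHom ⊓
        Subgroup.centralizer {φ}) ≠ ⊥ := by
  subst h
  exact pPrimeCore_ne_bot_congr p
    (((MulAut.conj α).subgroupMap (A ⊓ Subgroup.centralizer {x})).trans
      (MulEquiv.subgroupCongr (map_conj_inf_centralizer A α x)))

theorem card_eqLocus_conj (α x φ : MulAut G) (h : α * x * α⁻¹ = φ) :
    Nat.card ↥(MonoidHom.eqLocus φ.toMonoidHom (MonoidHom.id G)) =
      Nat.card ↥(MonoidHom.eqLocus x.toMonoidHom (MonoidHom.id G)) := by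
  subst h
  symm
  apply Nat.card_congr
  refine Equiv.subtypeEquiv α.toEquiv ?_
  intro k
  show x k = k ↔ (α * x * α⁻¹) (α k) = α k
  rw [MulAut.mul_apply, MulAut.mul_apply, MulAut.inv_apply, MulEquiv.symm_apply_apply]
  exact (α.injective.eq_iff).symm

theorem conj_inv_conj (b f : G) : b⁻¹ * (b * f * b⁻¹) * (b⁻¹)⁻¹ = f := by
  group

theorem conj_mem_map_conj (A : Subgroup (MulAut G)) (hinn : ∀ k : G, MulAut.conj k ∈ A)
    (α : MulAut G) (k : G) : MulAut.conj k ∈ A.map (MulAut.conj α).toMonoidHom := by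
  refine ⟨MulAut.conj (α⁻¹ k), hinn _, ?_⟩
  show α * MulAut.conj (α⁻¹ k) * α⁻¹ = MulAut.conj k
  rw [aut_mul_conj, mul_inv_cancel_right, MulAut.inv_apply, MulEquiv.apply_symm_apply]

end conj

section odd

variable {F : Type*} [Field F] [Fintype F]

theorem center_Omega_odd (h2 : (2 : F) ≠ 0) {m : ℕ} (hm : 3 ≤ m) :
    Subgroup.center ↥(Cfsg.Omega F ⇑(QfOdd m F)) = ⊥ := by
  have hQ := Cfsg.Agent.S0292.QfOdd_nondeg h2 (F := F) m
  have h6 : 6 ≤ Fintype.card (Unit ⊕ (Fin m ⊕ Fin m)) := by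
    rw [card_index_odd]
    omega
  have hodd : Odd (Fintype.card (Unit ⊕ (Fin m ⊕ Fin m))) := ⟨m, card_index_odd m⟩
  have hc := Cfsg.Agent.Helper28.OC.card_center_Omega_eq_one (QfOdd m F) hQ h6 (by
    rintro ⟨-, g, hgΩ, hg⟩
    have h1 := hom_eq_one_of_mem_Omega (QfOdd m F) (detHom (QfOdd m F)) hgΩ
    have h3 : ((detHom (QfOdd m F) g : Fˣ) : F) = 1 := by rw [h1]; rfl
    rw [detHom_val, hg, Matrix.det_neg, Matrix.det_one, mul_one, hodd.neg_one_pow] at h3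
    apply h2
    linear_combination -h3)
  exact Subgroup.card_eq_one.1 hc

/-- **the `p'`-core of the centralizer of a standard field automorphism of `Ω_{2m+1}(q)`** -/
theorem core_iff_odd (hodd : Odd (Fintype.card F)) {m : ℕ} (hm : 3 ≤ m) (σ : F ≃+* F)
    {p : ℕ} [Fact p.Prime] (hp : orderOf σ = p)
    (A : Subgroup (MulAut (Cfsg.POmega F ⇑(QfOdd m F))))
    (hinn : ∀ k : Cfsg.POmega F ⇑(QfOdd m F), MulAut.conj k ∈ A) :
    Cfsg.pPrimeCore p ↥(A ⊓ Subgroup.centralizer {phiO (isStd_odd (F := F) m) σ}) ≠ ⊥ ↔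
      Nat.Coprime p (Nat.card ↥(MonoidHom.eqLocus (phiO (isStd_odd (F := F) m) σ).toMonoidHom
        (MonoidHom.id (Cfsg.POmega F ⇑(QfOdd m F))))) := by
  classical
  have h2 := two_ne_zero_of_odd hodd
  have hfin : Fintype ↥(fixF σ) := Fintype.ofFinite _
  have h2₀ : (2 : ↥(fixF σ)) ≠ 0 := two_ne_zero_sub (fdescOf σ) h2
  have hQ := Cfsg.Agent.S0292.QfOdd_nondeg h2 (F := F) m
  have hQ₀ := Cfsg.Agent.S0292.QfOdd_nondeg h2₀ (F := ↥(fixF σ)) m
  have h6 : 6 ≤ Fintype.card (Unit ⊕ (Fin m ⊕ Fin m)) := by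
    rw [card_index_odd]
    omega
  have : Nonempty (Unit ⊕ (Fin m ⊕ Fin m)) := ⟨Sum.inl ()⟩
  exact core_iff (fdescOf σ) hQ (frOdd hm) (perf_odd h2 hm) (isStd_odd m)
    (compat_odd (fdescOf σ) m) hQ₀ (frOdd hm) (perf_odd h2₀ hm) (gamma_top_odd hodd hm)
    (hgen_odd h2 hQ) (hgen_odd h2₀ hQ₀) (center_Omega_odd h2 hm) (center_Omega_odd h2₀ hm)
    (jv_single (fdescOf σ) _).symm (jv_single (fdescOf σ) _).symm h2 h6 (card_index_odd m) hp A hinn

/-- an automorphism of prime order outside the image of the similarity group is conjugate to a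
standard field automorphism -/
theorem exists_conj_std (hodd : Odd (Fintype.card F)) {m : ℕ} (hm : 3 ≤ m)
    (x : MulAut (Cfsg.POmega F ⇑(QfOdd m F))) {p : ℕ} [Fact p.Prime] (hord : orderOf x = p)
    (hnot : x ∉ Cfsg.pgoAut F ⇑(QfOdd m F)) :
    ∃ (σ : F ≃+* F) (B : ↥(GO (QfOdd m F))), orderOf σ = p ∧ σ ≠ RingEquiv.refl F ∧
      x = cG (QfOdd m F) B * phiO (isStd_odd (F := F) m) σ * (cG (QfOdd m F) B)⁻¹ := by
  classical
  have hpp : p.Prime := Fact.out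
  have h2 := two_ne_zero_of_odd hodd
  have hQ := Cfsg.Agent.S0292.QfOdd_nondeg h2 (F := F) m
  have hperf := perf_odd h2 hm
  have hstd := isStd_odd (F := F) m
  have hxΓ : x ∈ Cfsg.gammaPOmega F ⇑(QfOdd m F) := by
    rw [gamma_top_odd hodd hm]
    exact Subgroup.mem_top x
  obtain ⟨g, τ, hp, hind, hx⟩ := exists_decomp hstd x hxΓ
  have hτ1 : τ ≠ RingEquiv.refl F := by
    intro h
    apply hnot
    have h1 : phiO hstd τ = 1 := by
      rw [h]
      exact phiO_one hstd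
    rw [hx, h1, mul_one, pgoAut_eq]
    exact ⟨g, rfl⟩
  have hτp : τ ^ p = 1 := by
    have h1 : x ^ p = 1 := by rw [← hord]; exact pow_orderOf_eq_one x
    rw [hx, cG_mul_phiO_pow] at h1
    have h3 : phiO hstd (τ ^ p) = cG (QfOdd m F) (nrmGO hstd τ g p)⁻¹ := by
      rw [map_inv]
      exact eq_inv_of_mul_eq_one_right h1
    have h4 : Cfsg.IsInducedBySemilinearPOmega (⇑(QfOdd m F))
        (((nrmGO hstd τ g p)⁻¹ : ↥(GO (QfOdd m F))) : GL (Unit ⊕ (Fin m ⊕ Fin m)) F)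
        (RingEquiv.refl F) (phiO hstd (τ ^ p)) := by
      rw [h3]
      exact induced_cG _
    exact sigma_unique (QfOdd m F) hQ (frOdd hm) hperf (semisim_std hstd (τ ^ p))
      (semisim_GO ((nrmGO hstd τ g p)⁻¹)) (induced_phiO hstd (τ ^ p)) h4
  have hτord : orderOf τ = p := by
    have h1 : orderOf τ ∣ p := orderOf_dvd_of_pow_eq_one hτp
    rcases (Nat.dvd_prime hpp).1 h1 with h | h
    · exfalso
      apply hτ1
      rw [orderOf_eq_one_iff] at h
      exact h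
    · exact h
  have h5 : (cG (QfOdd m F) g * phiO hstd τ) ^ orderOf τ = 1 := by
    rw [hτord, ← hx, ← hord]
    exact pow_orderOf_eq_one x
  obtain ⟨B, hB⟩ := conj_of_pow_eq_one_O hQ (frOdd hm) hperf hstd τ (hclass_odd h2 m τ) g h5
  exact ⟨τ, B, hτord, hτ1, by rw [hx, hB]⟩

/-- **failure of local balance for `Ω_{2m+1}(q)`**, form version -/
theorem main_odd' (hodd : Odd (Fintype.card F)) {m : ℕ} (hm : 3 ≤ m)
    (A : Subgroup (MulAut (Cfsg.POmega F ⇑(QfOdd m F))))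
    (hinn : ∀ k : Cfsg.POmega F ⇑(QfOdd m F), MulAut.conj k ∈ A) {p : ℕ} [Fact p.Prime]
    (x : MulAut (Cfsg.POmega F ⇑(QfOdd m F))) (hord : orderOf x = p)
    (hnot : ¬ Cfsg.IsSimilarityInducedAutPOmega (⇑(QfOdd m F)) x) :
    Cfsg.pPrimeCore p ↥(A ⊓ Subgroup.centralizer {x}) ≠ ⊥ ↔
      (Cfsg.IsFieldAutClassPOmega (⇑(QfOdd m F)) x ∧
        Nat.Coprime p (Nat.card ↥(MonoidHom.eqLocus x.toMonoidHom
          (MonoidHom.id (Cfsg.POmega F ⇑(QfOdd m F)))))) := by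
  have hstd := isStd_odd (F := F) m
  have hnot' : x ∉ Cfsg.pgoAut F ⇑(QfOdd m F) := by
    intro h
    apply hnot
    rw [pgoAut_eq] at h
    obtain ⟨g, rfl⟩ := h
    exact ⟨g.1, g.2, (PG.induced_iff (QfOdd m F) g.1 g.2 _).2 rfl⟩
  obtain ⟨σ, B, hσ, hσ1, hx⟩ := exists_conj_std hodd hm x hord hnot'
  obtain ⟨α, hα⟩ : ∃ α : MulAut (Cfsg.POmega F ⇑(QfOdd m F)), α = (cG (QfOdd m F) B)⁻¹ := ⟨_, rfl⟩
  have hαx : α * x * α⁻¹ = phiO hstd σ := by
    rw [hx, hα]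
    exact conj_inv_conj _ _
  have hfield : Cfsg.IsFieldAutClassPOmega (⇑(QfOdd m F)) x :=
    ⟨α, phiO hstd σ, σ, hσ1, (isFieldAut_iff hstd σ _).2 rfl, hαx⟩
  have h1 := core_conj p A α x _ hαx
  have h2 := core_iff_odd hodd hm σ hσ (A.map (MulAut.conj α).toMonoidHom)
    (conj_mem_map_conj A hinn α)
  have h3 := card_eqLocus_conj α x _ hαx
  rw [h1, h2, h3]
  exact ⟨fun h => ⟨hfield, h⟩, fun h => h.2⟩

end odd

end Cfsg.Agent.Helper28.FB
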