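import Mathlib
import Cfsg.Agent.Helper28.BTDefs

set_option autoImplicit false
set_option linter.unusedSectionVars false
set_option linter.unusedVariables false

/-!
# Borel–Tits (S2154), piece TAB2: the quadratic form is positive definite, regular weight vectors
-/

namespace Cfsg.Agent.Helper28.BT

open Cfsg.Lie Cfsg.Agent.Helper6 Cfsg.Agent.Helper2.Levi

/-- entry of the scaled inverse Cartan matrix -/
def cget (C : List (List ℤ)) (j k : ℕ) : ℤ := (C.getD j []).getD k 0

/-- `A · C = det · I` where `A_{ij} = cartan i (simple j)` -/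
def invChk (D : ChevalleyDatum) (C : List (List ℤ)) (det : ℤ) : Bool :=
  allLt D.rank fun i => allLt D.rank fun k =>
    decide (sumLt D.rank (fun j => D.cartan i (D.simple j) * cget C j k) = if i = k then det else 0)

/-- the regular vector `m_k = Σ_j C[j][k]` -/
def regv (D : ChevalleyDatum) (C : List (List ℤ)) (k : ℕ) : ℤ := sumLt D.rank fun j => cget C j k

/-- all positive roots have level `≥ 1` with respect to `regv` -/
def regChk (D : ChevalleyDatum) (C : List (List ℤ)) : Bool :=
  allLt D.nroots fun r =>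
    bif Nat.ble (D.nroots / 2) r then decide (1 ≤ sumLt D.rank fun i => regv D C i * D.cartan i r)
    else true

variable {D : ChevalleyDatum}

theorem invChk_spec {C : List (List ℤ)} {det : ℤ} (h : invChk D C det = true)
    (i k : Fin D.rank) :
    ∑ j : Fin D.rank, ((D.cartan i.val (D.simple j.val) : ℤ) : ℝ) * ((cget C j.val k.val : ℤ) : ℝ) =
      if i = k then (det : ℝ) else 0 := by
  simp only [invChk, allLt_iff, decide_eq_true_eq] at h
  have h1 := h i.val i.isLt k.val k.isLt
  rw [sumLt_eq] at h1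
  have h2 : ∑ j : Fin D.rank, ((D.cartan i.val (D.simple j.val) : ℤ) : ℝ) * ((cget C j.val k.val : ℤ) : ℝ)
      = ((∑ j ∈ Finset.range D.rank, D.cartan i.val (D.simple j) * cget C j k.val : ℤ) : ℝ) := by
    rw [Fin.sum_univ_eq_sum_range (fun j => ((D.cartan i.val (D.simple j) : ℤ) : ℝ) * ((cget C j k.val : ℤ) : ℝ))]
    push_cast; rfl
  rw [h2, h1]
  by_cases hik : i = k
  · rw [if_pos hik, if_pos (congrArg Fin.val hik)]
  · rw [if_neg hik, if_neg (fun h => hik (Fin.ext h))]; simp

/-- `det · μ_k = Σ_j lev μ (simple j) · C[j][k]` -/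
theorem det_mul_eq {C : List (List ℤ)} {det : ℤ} (h : invChk D C det = true)
    (μ : Fin D.rank → ℝ) (k : Fin D.rank) :
    (det : ℝ) * μ k = ∑ j : Fin D.rank, lev D μ (D.simple j.val) * ((cget C j.val k.val : ℤ) : ℝ) := by
  unfold lev
  simp_rw [Finset.sum_mul]
  rw [Finset.sum_comm]
  have : ∀ i : Fin D.rank, ∑ j : Fin D.rank,
      μ i * ((D.cartan i.val (D.simple j.val) : ℤ) : ℝ) * ((cget C j.val k.val : ℤ) : ℝ)
      = μ i * (if i = k then (det : ℝ) else 0) := by
    intro i
    rw [← invChk_spec h i k, Finset.mul_sum]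
    apply Finset.sum_congr rfl
    intro j _; ring
  simp_rw [this]
  rw [Finset.sum_eq_single k]
  · rw [if_pos rfl]; ring
  · intro i _ hik; rw [if_neg hik, mul_zero]
  · intro hk; exact absurd (Finset.mem_univ k) hk

theorem qf_pos_of_chk (Δ : BNData D ℚ) {C : List (List ℤ)} {det : ℤ} (hdet : det ≠ 0)
    (h : invChk D C det = true) {μ : Fin D.rank → ℝ} (hμ : μ ≠ 0) : 0 < qf D μ := by
  have hex : ∃ j : Fin D.rank, lev D μ (D.simple j.val) ≠ 0 := by
    by_contra hcon
    simp only [not_exists, not_not] at hcon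
    apply hμ
    funext k
    have h1 := det_mul_eq h μ k
    have h2 : ∑ j : Fin D.rank, lev D μ (D.simple j.val) * ((cget C j.val k.val : ℤ) : ℝ) = 0 := by
      apply Finset.sum_eq_zero
      intro j _
      rw [hcon j, zero_mul]
    rw [h2] at h1
    have hd : (det : ℝ) ≠ 0 := Int.cast_ne_zero.mpr hdet
    rcases mul_eq_zero.mp h1 with h0 | h0
    · exact absurd h0 hd
    · exact h0
  obtain ⟨j, hj⟩ := hex
  have hlt : D.simple j.val < D.nroots := (Δ.hAll j.val j.isLt).hS.1
  unfold qf
  have hle : (lev D μ (D.simple j.val)) ^ 2 ≤ ∑ r : Fin D.nroots, (lev D μ r.val) ^ 2 := by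
    have := Finset.single_le_sum (s := Finset.univ) (f := fun r : Fin D.nroots => (lev D μ r.val) ^ 2)
      (fun r _ => sq_nonneg _) (Finset.mem_univ (⟨D.simple j.val, hlt⟩ : Fin D.nroots))
    exact this
  have hpos : 0 < (lev D μ (D.simple j.val)) ^ 2 := by
    have := sq_nonneg (lev D μ (D.simple j.val))
    have h3 : (lev D μ (D.simple j.val)) ^ 2 ≠ 0 := pow_ne_zero 2 hj
    exact lt_of_le_of_ne this (Ne.symm h3)
  exact lt_of_lt_of_le hpos hle

theorem exists_regular_of_chk (Δ : BNData D ℚ) {C : List (List ℤ)} (h : regChk D C = true) :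
    ∃ μ : Fin D.rank → ℝ, ∀ r, D.IsPosRoot r → 1 ≤ lev D μ r := by
  refine ⟨fun i => ((regv D C i.val : ℤ) : ℝ), fun r hr => ?_⟩
  simp only [regChk, allLt_iff] at h
  have h1 := h r hr.1
  have h2 : D.nroots / 2 ≤ r := ((Δ.hsign r hr.1).1).1 hr
  rw [show Nat.ble (D.nroots / 2) r = true from Nat.ble_eq ▸ h2, cond_true, decide_eq_true_eq,
    sumLt_eq] at h1
  unfold lev
  rw [Fin.sum_univ_eq_sum_range (fun i => ((regv D C i : ℤ) : ℝ) * ((D.cartan i r : ℤ) : ℝ))]
  have : (1 : ℝ) ≤ ((∑ i ∈ Finset.range D.rank, regv D C i * D.cartan i r : ℤ) : ℝ) := by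
    exact_mod_cast h1
  push_cast at this
  exact this

set_option maxRecDepth 100000 in
theorem invChk_G2 : invChk chevG2 cG2 1 = true := by decide +kernel
set_option maxRecDepth 100000 in
theorem invChk_B2 : invChk chevB2 cB2 2 = true := by decide +kernel
set_option maxRecDepth 100000 in
theorem invChk_D4 : invChk chevD4 cD4 2 = true := by decide +kernel
set_option maxRecDepth 100000 in
theorem invChk_F4 : invChk chevF4 cF4 1 = true := by decide +kernel
set_option maxRecDepth 100000 in
theorem invChk_E6 : invChk chevE6 cE6 3 = true := by decide +kernel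
set_option maxRecDepth 100000 in
theorem invChk_E7 : invChk chevE7 cE7 2 = true := by decide +kernel
set_option maxRecDepth 100000 in
theorem invChk_E8 : invChk chevE8 cE8 1 = true := by decide +kernel
set_option maxRecDepth 100000 in
theorem regChk_G2 : regChk chevG2 cG2 = true := by decide +kernel
set_option maxRecDepth 100000 in
theorem regChk_B2 : regChk chevB2 cB2 = true := by decide +kernel
set_option maxRecDepth 100000 in
theorem regChk_D4 : regChk chevD4 cD4 = true := by decide +kernel
set_option maxRecDepth 100000 in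
theorem regChk_F4 : regChk chevF4 cF4 = true := by decide +kernel
set_option maxRecDepth 100000 in
theorem regChk_E6 : regChk chevE6 cE6 = true := by decide +kernel
set_option maxRecDepth 100000 in
theorem regChk_E7 : regChk chevE7 cE7 = true := by decide +kernel
set_option maxRecDepth 100000 in
theorem regChk_E8 : regChk chevE8 cE8 = true := by decide +kernel

theorem qf_pos (hD : IsTabulated D) {μ : Fin D.rank → ℝ} (hμ : μ ≠ 0) : 0 < qf D μ := by
  have Δ : BNData D ℚ := bnData_of_tabulated ℚ hD
  simp only [IsTabulated, List.mem_cons, List.not_mem_nil, or_false] at hD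
  rcases hD with rfl | rfl | rfl | rfl | rfl | rfl | rfl
  · exact qf_pos_of_chk Δ (by norm_num) invChk_G2 hμ
  · exact qf_pos_of_chk Δ (by norm_num) invChk_B2 hμ
  · exact qf_pos_of_chk Δ (by norm_num) invChk_D4 hμ
  · exact qf_pos_of_chk Δ (by norm_num) invChk_F4 hμ
  · exact qf_pos_of_chk Δ (by norm_num) invChk_E6 hμ
  · exact qf_pos_of_chk Δ (by norm_num) invChk_E7 hμ
  · exact qf_pos_of_chk Δ (by norm_num) invChk_E8 hμ

theorem exists_regular (hD : IsTabulated D) :
    ∃ μ : Fin D.rank → ℝ, ∀ r, D.IsPosRoot r → 1 ≤ lev D μ r := by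
  have Δ : BNData D ℚ := bnData_of_tabulated ℚ hD
  simp only [IsTabulated, List.mem_cons, List.not_mem_nil, or_false] at hD
  rcases hD with rfl | rfl | rfl | rfl | rfl | rfl | rfl
  · exact exists_regular_of_chk Δ regChk_G2
  · exact exists_regular_of_chk Δ regChk_B2
  · exact exists_regular_of_chk Δ regChk_D4
  · exact exists_regular_of_chk Δ regChk_F4
  · exact exists_regular_of_chk Δ regChk_E6
  · exact exists_regular_of_chk Δ regChk_E7
  · exact exists_regular_of_chk Δ regChk_E8

end Cfsg.Agent.Helper28.BT
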