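import Mathlib
import Cfsg.Agent.Helper28.BTDefs
import Cfsg.Agent.Helper28.BTTAB2

set_option autoImplicit false
set_option linter.unusedSectionVars false
set_option linter.unusedVariables false

/-!
# Borel–Tits (S2154), piece TAB1: levels of positive roots for a dominant weight vector
-/

namespace Cfsg.Agent.Helper28.BT

open Cfsg.Lie Cfsg.Agent.Helper6 Cfsg.Agent.Helper2.Levi

/-- `det · A_{i,r} = Σ_k coord_k(r) A_{i,p_k}` : the Cartan row of `r` is the combination of the
Cartan rows of the fundamental roots with the (scaled) root coordinates -/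
def expChk (D : ChevalleyDatum) (C : List (List ℤ)) (det : ℤ) : Bool :=
  allLt D.nroots fun r => allLt D.rank fun i =>
    decide (det * D.cartan i r = sumLt D.rank fun k => coord D C k r * D.cartan i (D.simple k))

variable {D : ChevalleyDatum}

theorem det_mul_lev {C : List (List ℤ)} {det : ℤ} (h : expChk D C det = true)
    (μ : Fin D.rank → ℝ) {r : ℕ} (hr : r < D.nroots) :
    (det : ℝ) * lev D μ r =
      ∑ k : Fin D.rank, ((coord D C k.val r : ℤ) : ℝ) * lev D μ (D.simple k.val) := by
  simp only [expChk, allLt_iff, decide_eq_true_eq] at h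
  unfold lev
  simp_rw [Finset.mul_sum]
  rw [Finset.sum_comm]
  apply Finset.sum_congr rfl
  intro i _
  have h1 := h r hr i.val i.isLt
  rw [sumLt_eq] at h1
  have h2 : ((det * D.cartan i.val r : ℤ) : ℝ)
      = ((∑ k ∈ Finset.range D.rank, coord D C k r * D.cartan i.val (D.simple k) : ℤ) : ℝ) := by
    rw [h1]
  rw [Fin.sum_univ_eq_sum_range
    (fun k => ((coord D C k r : ℤ) : ℝ) * (μ i * ((D.cartan i.val (D.simple k) : ℤ) : ℝ)))]
  push_cast at h2
  calc (det : ℝ) * (μ i * ((D.cartan i.val r : ℤ) : ℝ))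
      = μ i * ((det : ℝ) * ((D.cartan i.val r : ℤ) : ℝ)) := by ring
    _ = μ i * ∑ k ∈ Finset.range D.rank,
          ((coord D C k r : ℤ) : ℝ) * ((D.cartan i.val (D.simple k) : ℤ) : ℝ) := by rw [h2]
    _ = _ := by
      rw [Finset.mul_sum]
      apply Finset.sum_congr rfl
      intro k _; ring

theorem lev_nonneg_of_chk (Δ : BNData D ℚ) {C : List (List ℤ)} {det : ℤ} (hdet : 0 < det)
    (hs : signChk D C = true) (h : expChk D C det = true)
    {μ : Fin D.rank → ℝ} (hdom : Dominant D μ) {r : ℕ} (hr : D.IsPosRoot r) : 0 ≤ lev D μ r := by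
  have h1 := det_mul_lev h μ hr.1
  have hN : D.nroots / 2 ≤ r := ((Δ.hsign r hr.1).1).1 hr
  have h2 : 0 ≤ ∑ k : Fin D.rank, ((coord D C k.val r : ℤ) : ℝ) * lev D μ (D.simple k.val) := by
    apply Finset.sum_nonneg
    intro k _
    apply mul_nonneg
    · exact_mod_cast (signChk_spec hs hr.1 k.isLt).1 hN
    · exact hdom k
  rw [← h1] at h2
  have hd : (0 : ℝ) < (det : ℝ) := by exact_mod_cast hdet
  exact nonneg_of_mul_nonneg_right h2 hd

theorem lev_eq_zero_iff_of_chk (Δ : BNData D ℚ) {C : List (List ℤ)} {det : ℤ} (hdet : 0 < det)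
    (hs : signChk D C = true) (h : expChk D C det = true)
    {μ : Fin D.rank → ℝ} (hdom : Dominant D μ) {r : ℕ} (hr : D.IsPosRoot r) :
    lev D μ r = 0 ↔ D.InRootSub (zeroSet D μ) r := by
  have h1 := det_mul_lev h μ hr.1
  have hN : D.nroots / 2 ≤ r := ((Δ.hsign r hr.1).1).1 hr
  have hd : (det : ℝ) ≠ 0 := by
    have : (0 : ℝ) < (det : ℝ) := by exact_mod_cast hdet
    exact ne_of_gt this
  have hterm : ∀ k : Fin D.rank,
      0 ≤ ((coord D C k.val r : ℤ) : ℝ) * lev D μ (D.simple k.val) := by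
    intro k
    apply mul_nonneg
    · exact_mod_cast (signChk_spec hs hr.1 k.isLt).1 hN
    · exact hdom k
  constructor
  · intro h0
    rw [h0, mul_zero] at h1
    have h3 := (Finset.sum_eq_zero_iff_of_nonneg (fun k _ => hterm k)).mp h1.symm
    refine ⟨hr.1, fun i hi hiJ => ?_⟩
    have h4 := h3 ⟨i, hi⟩ (Finset.mem_univ _)
    rcases mul_eq_zero.mp h4 with h5 | h5
    · have h6 : coord D C i r = 0 := by exact_mod_cast h5
      exact (signChk_spec hs hr.1 hi).2.2.1 h6
    · exact absurd ⟨hi, h5⟩ hiJ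
  · intro hin
    have h3 : ∑ k : Fin D.rank, ((coord D C k.val r : ℤ) : ℝ) * lev D μ (D.simple k.val) = 0 := by
      apply Finset.sum_eq_zero
      intro k _
      by_cases hk : k.val ∈ zeroSet D μ
      · obtain ⟨_, h5⟩ := hk
        rw [h5, mul_zero]
      · have h5 := hin.2 k.val k.isLt hk
        have h6 : coord D C k.val r = 0 := (signChk_spec hs hr.1 k.isLt).2.2.2 h5
        rw [h6]; simp
    rw [h3] at h1
    rcases mul_eq_zero.mp h1 with h5 | h5
    · exact absurd h5 hd
    · exact h5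

set_option maxRecDepth 100000 in
theorem expChk_G2 : expChk chevG2 cG2 1 = true := by decide +kernel
set_option maxRecDepth 100000 in
theorem expChk_B2 : expChk chevB2 cB2 2 = true := by decide +kernel
set_option maxRecDepth 100000 in
theorem expChk_D4 : expChk chevD4 cD4 2 = true := by decide +kernel
set_option maxRecDepth 100000 in
theorem expChk_F4 : expChk chevF4 cF4 1 = true := by decide +kernel
set_option maxRecDepth 100000 in
theorem expChk_E6 : expChk chevE6 cE6 3 = true := by decide +kernel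
set_option maxRecDepth 100000 in
theorem expChk_E7 : expChk chevE7 cE7 2 = true := by decide +kernel
set_option maxRecDepth 100000 in
theorem expChk_E8 : expChk chevE8 cE8 1 = true := by decide +kernel

theorem lev_nonneg_of_dominant (hD : IsTabulated D) {μ : Fin D.rank → ℝ} (hdom : Dominant D μ)
    {r : ℕ} (hr : D.IsPosRoot r) : 0 ≤ lev D μ r := by
  have Δ : BNData D ℚ := bnData_of_tabulated ℚ hD
  simp only [IsTabulated, List.mem_cons, List.not_mem_nil, or_false] at hD
  rcases hD with rfl | rfl | rfl | rfl | rfl | rfl | rfl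
  · exact lev_nonneg_of_chk Δ (by norm_num) signChk_G2 expChk_G2 hdom hr
  · exact lev_nonneg_of_chk Δ (by norm_num) signChk_B2 expChk_B2 hdom hr
  · exact lev_nonneg_of_chk Δ (by norm_num) signChk_D4 expChk_D4 hdom hr
  · exact lev_nonneg_of_chk Δ (by norm_num) signChk_F4 expChk_F4 hdom hr
  · exact lev_nonneg_of_chk Δ (by norm_num) signChk_E6 expChk_E6 hdom hr
  · exact lev_nonneg_of_chk Δ (by norm_num) signChk_E7 expChk_E7 hdom hr
  · exact lev_nonneg_of_chk Δ (by norm_num) signChk_E8 expChk_E8 hdom hr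

theorem lev_eq_zero_iff (hD : IsTabulated D) {μ : Fin D.rank → ℝ} (hdom : Dominant D μ)
    {r : ℕ} (hr : D.IsPosRoot r) : lev D μ r = 0 ↔ D.InRootSub (zeroSet D μ) r := by
  have Δ : BNData D ℚ := bnData_of_tabulated ℚ hD
  simp only [IsTabulated, List.mem_cons, List.not_mem_nil, or_false] at hD
  rcases hD with rfl | rfl | rfl | rfl | rfl | rfl | rfl
  · exact lev_eq_zero_iff_of_chk Δ (by norm_num) signChk_G2 expChk_G2 hdom hr
  · exact lev_eq_zero_iff_of_chk Δ (by norm_num) signChk_B2 expChk_B2 hdom hr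
  · exact lev_eq_zero_iff_of_chk Δ (by norm_num) signChk_D4 expChk_D4 hdom hr
  · exact lev_eq_zero_iff_of_chk Δ (by norm_num) signChk_F4 expChk_F4 hdom hr
  · exact lev_eq_zero_iff_of_chk Δ (by norm_num) signChk_E6 expChk_E6 hdom hr
  · exact lev_eq_zero_iff_of_chk Δ (by norm_num) signChk_E7 expChk_E7 hdom hr
  · exact lev_eq_zero_iff_of_chk Δ (by norm_num) signChk_E8 expChk_E8 hdom hr

end Cfsg.Agent.Helper28.BT
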