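import Mathlib
import Cfsg.Agent.Helper28.BTDefs
import Cfsg.Agent.Helper28.BTTAB2
import Cfsg.Agent.Helper6.Chev.TablesBN
import Cfsg.Agent.Helper6.Chev.ConjChk

set_option autoImplicit false
set_option linter.unusedSectionVars false
set_option linter.unusedVariables false

/-!
# S5751 (iterated cores of conjugate maximal subgroups, the `E₈(2)` example): shared definitions

`G = E₈(2)`, `M₁ = P` the maximal parabolic subgroup of the node `j = 3` (0-based; coefficient `6`
in the highest root), `M₂ = n_j P n_j⁻¹`.  With `μ = ω_j^∨` (`muE`), the iterated cores are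
`A_i = Q_{i+1}`, `Q_m = G ∩ GrFil(degI μ, m)` = the subgroup generated by the root subgroups of
level `≥ m`; `Q_6 ≠ 1 = Q_7`.
-/

namespace Cfsg.Agent.S5751P

open Cfsg.Lie Cfsg.Agent.Helper6 Cfsg.Agent.Helper28.BT Cfsg.Agent.Helper2.Levi

/-- the subgroup generated by the root elements of level `≥ m` -/
def RGe (D : ChevalleyDatum) (F : Type*) [Field F] (μ : Fin D.rank → ℝ) (m : ℝ) :
    Subgroup (GL D.Idx F) :=
  Subgroup.closure {g | ∃ (r : ℕ) (t : F), r < D.nroots ∧ m ≤ lev D μ r ∧
    (g : Matrix D.Idx D.Idx F) = D.x F r t}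

/-- `Q_m = G ∩ GrFil(degI μ, m)` -/
def QF (D : ChevalleyDatum) (F : Type*) [Field F] (μ : Fin D.rank → ℝ) (m : ℝ) :
    Subgroup (GL D.Idx F) :=
  GrFil (degI D μ) m ⊓ D.group F

/-- the ordered word over the positive roots with coefficients `t` -/
def posWord (D : ChevalleyDatum) {F : Type*} [Field F] (t : ℕ → F) : List (ℕ × F) :=
  (List.range' (D.nroots / 2) (D.nroots / 2)).map fun r => (r, t r)

/-- the field with two elements -/
abbrev F2 : Type := ZMod 2

theorem tabE8 : IsTabulated chevE8 := by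
  unfold IsTabulated; simp

/-- the table facts for `E₈` -/
theorem hBE : BasicOK chevE8 := basicOK_of_tabulated tabE8

/-- the node of `E₈` with coefficient `6` in the highest root -/
def jE : Fin chevE8.rank := ⟨3, by decide⟩

/-- `μ = ω_j^∨` in coordinates on the fundamental coroots (row `3` of the inverse Cartan matrix) -/
noncomputable def muE : Fin chevE8.rank → ℝ := fun k => ((cget cE8 3 k.val : ℤ) : ℝ)

/-- integer coordinates of the grading with `lev(α_i) = 1` for `i ≠ j` and `lev(α_j) = 5`: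
`η = Σ_{i ≠ j} ω_i^∨ + 5 ω_j^∨` -/
def etaV (k : ℕ) : ℤ := sumLt 8 fun i => (if i = 3 then 5 else 1) * cget cE8 i k

/-- the grading `η` -/
noncomputable def etaE : Fin chevE8.rank → ℝ := fun k => ((etaV k.val : ℤ) : ℝ)

/-- the integer level of a root of `E₈` (coefficient of `α_j`) -/
def levZ (r : ℕ) : ℤ := sumLt 8 fun k => cget cE8 3 k * chevE8.cartan k r

/-- the integer level for the grading `etaE` -/
def etaZ (r : ℕ) : ℤ := sumLt 8 fun k => etaV k * chevE8.cartan k r

/-- the level of a vector with integer coordinates -/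
theorem lev_intCast (D : ChevalleyDatum) (v : ℕ → ℤ) (r : ℕ) :
    lev D (fun k : Fin D.rank => ((v k.val : ℤ) : ℝ)) r =
      (((sumLt D.rank fun k => v k * D.cartan k r) : ℤ) : ℝ) := by
  unfold lev
  rw [sumLt_eq, Fin.sum_univ_eq_sum_range (fun k => ((v k : ℤ) : ℝ) * ((D.cartan k r : ℤ) : ℝ))]
  push_cast
  rfl

theorem lev_muE (r : ℕ) : lev chevE8 muE r = ((levZ r : ℤ) : ℝ) :=
  lev_intCast chevE8 (fun k => cget cE8 3 k) r

theorem lev_etaE (r : ℕ) : lev chevE8 etaE r = ((etaZ r : ℤ) : ℝ) :=
  lev_intCast chevE8 etaV r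

/-- the nodes different from `j` -/
noncomputable def JE : Set ℕ := zeroSet chevE8 muE

/-- the maximal parabolic subgroup -/
noncomputable def PE : Subgroup (GL chevE8.Idx F2) := chevE8.parabolicSubgroup F2 JE

/-- the element `n_j` -/
def gE : GL chevE8.Idx F2 := nU hBE (chevE8.simple 3) (one_ne_zero (α := F2))

/-- the group `E₈(2)` -/
abbrev GE : Subgroup (GL chevE8.Idx F2) := chevE8.group F2

/-- the level filtration of the unipotent radical -/
noncomputable def QE (m : ℕ) : Subgroup (GL chevE8.Idx F2) := QF chevE8 F2 muE (m : ℝ)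

end Cfsg.Agent.S5751P
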