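import Mathlib
import Cfsg.Agent.Helper28.S5751Defs
import Cfsg.Agent.Helper8.BTWACT

set_option autoImplicit false
set_option linter.unusedSectionVars false
set_option linter.unusedVariables false

/-!
# S5751: table facts for `E₈` (levels with respect to the node `j = 3`)
-/

namespace Cfsg.Agent.S5751P

open Cfsg.Lie Cfsg.Agent.Helper6 Cfsg.Agent.Helper28.BT Cfsg.Agent.Helper2.Levi

/-- "there is `i < n` with `p i`" -/
def anyLt (n : ℕ) (p : ℕ → Bool) : Bool := Nat.rec false (fun k ih => bif p k then true else ih) n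

theorem anyLt_iff {n : ℕ} {p : ℕ → Bool} : anyLt n p = true ↔ ∃ k < n, p k = true := by
  induction n with
  | zero => simp [anyLt]
  | succ n ih =>
    have e : anyLt (n + 1) p = (bif p n then true else anyLt n p) := rfl
    rw [e]
    constructor
    · intro h
      cases hp : p n with
      | true => exact ⟨n, Nat.lt_succ_self n, hp⟩
      | false =>
        rw [hp, cond_false] at h
        obtain ⟨k, hk, hpk⟩ := ih.1 h
        exact ⟨k, Nat.lt_succ_of_lt hk, hpk⟩
    · rintro ⟨k, hk, hpk⟩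
      cases hp : p n with
      | true => rfl
      | false =>
        rw [cond_false]
        rcases Nat.lt_succ_iff_lt_or_eq.1 hk with h | h
        · exact ih.2 ⟨k, h, hpk⟩
        · rw [h, hp] at hpk; exact absurd hpk (by simp)

/-- distance to a "good" root inside the `W_J`-orbit of the roots of a given level -/
def rkE : List ℕ := [0, 0, 0, 0, 0, 0, 0, 0, 0, 0, 0, 0, 0, 0, 0, 0, 0, 0, 0, 0, 0, 0, 0, 0, 0, 0, 0, 0, 0, 0, 0, 0, 0, 0, 0, 0, 0, 0, 0, 0, 0, 0, 0, 0, 0, 0, 0, 0, 0, 0, 0, 0, 0, 0, 0, 0, 0, 0, 0, 0, 0, 0, 0, 0, 0, 0, 0, 0, 0, 0, 0, 0, 0, 0, 0, 0, 0, 0, 0, 0, 0, 0, 0, 0, 0, 0, 0, 0, 0, 0, 0, 0, 0, 0, 0, 0, 0, 0, 0, 0, 0, 0, 0, 0, 0, 0, 0, 0, 0, 0, 0, 0, 0, 0, 0, 0, 0, 0, 0, 0, 0, 0, 0, 0, 0, 0, 0, 0, 0, 0, 0, 1, 2, 3, 4, 0, 1, 2, 3, 4, 5, 0, 1, 2, 3, 4, 5, 2, 3, 4, 5, 6, 0, 0, 0, 0, 1, 1, 1, 2, 2, 3, 0, 0, 2, 3, 4, 5, 6, 3, 4, 5, 6, 7, 0, 0, 0, 0, 1, 1, 1, 2, 2, 3, 1, 1, 1, 1, 2, 2, 2, 3, 3, 4, 0, 0, 0, 0, 0, 0, 1, 1, 1,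 2, 1, 1, 1, 1, 1, 1, 2, 2, 2, 3, 0, 0, 0, 0, 1, 1, 1, 1, 1, 2, 0, 1, 2, 2, 2, 2, 3, 0, 1, 1, 2, 0, 1, 2, 3, 4]

/-- the rank function -/
def rk (r : ℕ) : ℕ := rkE.getD r 0

/-! ### the checks -/

def oddChk : Bool := allLt 240 fun r => anyLt 8 fun i => decide (chevE8.cartan i r % 2 ≠ 0)

def simpleChk3 : Bool := allLt 8 fun i => decide (levZ (chevE8.simple i) = if i = 3 then 1 else 0) &&
  decide (etaZ (chevE8.simple i) = if i = 3 then 5 else 1)

def boundChk : Bool := allLt 240 fun r => decide (levZ r ≤ 6) &&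
  allLt 8 fun i => decide (r = chevE8.simple i) || decide (chevE8.cartan i r ≤ 1)

def pathChk : Bool := allLt 240 fun r => Nat.blt r 120 || decide (levZ r ≤ 0) ||
  (decide (rk r = 0) && (bif decide (levZ r = 1) then decide (r = 130) else decide (chevE8.cartan 3 r = 1))) ||
  anyLt 8 fun i => !(Nat.beq i 3) && Nat.blt (rk (wD chevE8 i r)) (rk r)

def etaChk : Bool := allLt 240 fun r => Nat.blt r 120 ||
  (decide (1 ≤ etaZ r) && decide (0 ≤ levZ r) && (decide (levZ r = 0) == decide (etaZ r < 5)) &&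
    (!(decide (levZ r = 0)) || 
      (bif decide (etaZ r = 1) then anyLt 8 fun i => !(Nat.beq i 3) && Nat.beq r (chevE8.simple i)
       else anyLt 8 fun i => !(Nat.beq i 3) && decide (chevE8.cartan i r = 1))))

set_option maxRecDepth 100000 in
theorem oddChk_true : oddChk = true := by decide +kernel
set_option maxRecDepth 100000 in
theorem simpleChk3_true : simpleChk3 = true := by decide +kernel
set_option maxRecDepth 100000 in
theorem boundChk_true : boundChk = true := by decide +kernel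
set_option maxRecDepth 100000 in
theorem pathChk_true : pathChk = true := by decide +kernel
set_option maxRecDepth 100000 in
theorem etaChk_true : etaChk = true := by decide +kernel


end Cfsg.Agent.S5751P
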