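import Mathlib
import Cfsg.Agent.Helper28.S5751Tab

set_option autoImplicit false
set_option linter.unusedSectionVars false
set_option linter.unusedVariables false
set_option linter.deprecated false

/-!
# S5751: table facts for `E₈`, in usable form
-/

namespace Cfsg.Agent.S5751P

open Cfsg.Lie Cfsg.Agent.Helper6 Cfsg.Agent.Helper28.BT Cfsg.Agent.Helper2.Levi

theorem nbeq_false {a b : ℕ} : Nat.beq a b = false ↔ a ≠ b := by
  constructor
  · intro h hab
    subst hab
    rw [Nat.beq_refl] at h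
    exact absurd h (by decide)
  · intro h
    cases hc : Nat.beq a b with
    | false => rfl
    | true => exact absurd (Nat.eq_of_beq_eq_true hc) h

theorem nbeq_true {a b : ℕ} : Nat.beq a b = true ↔ a = b :=
  ⟨Nat.eq_of_beq_eq_true, fun h => by subst h; exact Nat.beq_refl a⟩

/-! ### the facts -/

theorem nrootsE : chevE8.nroots = 240 := rfl
theorem rankE : chevE8.rank = 8 := rfl
theorem simple3 : chevE8.simple 3 = 130 := by decide

/-- the table facts for `E₈` over any field -/
theorem bnE (F : Type*) [Field F] : BNData chevE8 F := bnData_of_tabulated F tabE8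

theorem pos_iff {r : ℕ} (hr : r < 240) : chevE8.IsPosRoot r ↔ 120 ≤ r :=
  ((bnE ℚ).hsign r hr).1

theorem hoddE : ∀ r < chevE8.nroots, ∃ i : Fin chevE8.rank, ((chevE8.cartan i.val r : ℤ) : F2) ≠ 0 := by
  intro r hr
  have h := oddChk_true
  simp only [oddChk, allLt_iff, anyLt_iff, decide_eq_true_eq] at h
  obtain ⟨i, hi, h2⟩ := h r hr
  refine ⟨⟨i, hi⟩, ?_⟩
  intro h0
  apply h2
  have := (ZMod.intCast_zmod_eq_zero_iff_dvd (chevE8.cartan i r) 2).1 h0
  exact Int.emod_eq_zero_of_dvd this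

theorem levZ_simple (i : Fin chevE8.rank) : levZ (chevE8.simple i.val) = if i.val = 3 then 1 else 0 := by
  have h := simpleChk3_true
  simp only [simpleChk3, allLt_iff, Bool.and_eq_true, decide_eq_true_eq] at h
  exact (h i.val i.isLt).1

theorem etaZ_simple (i : Fin chevE8.rank) : etaZ (chevE8.simple i.val) = if i.val = 3 then 5 else 1 := by
  have h := simpleChk3_true
  simp only [simpleChk3, allLt_iff, Bool.and_eq_true, decide_eq_true_eq] at h
  exact (h i.val i.isLt).2

theorem dominant_muE : Dominant chevE8 muE := by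
  intro i
  rw [lev_muE, levZ_simple]
  split_ifs <;> simp

theorem dominant_etaE : Dominant chevE8 etaE := by
  intro i
  rw [lev_etaE, etaZ_simple]
  split_ifs <;> simp

theorem mem_JE {i : ℕ} : i ∈ JE ↔ i < 8 ∧ i ≠ 3 := by
  unfold JE zeroSet
  simp only [Set.mem_setOf_eq]
  constructor
  · rintro ⟨h, h0⟩
    refine ⟨h, fun h3 => ?_⟩
    rw [lev_muE, levZ_simple ⟨i, h⟩] at h0
    simp only [h3, if_true] at h0
    norm_num at h0
  · rintro ⟨h, h3⟩
    refine ⟨h, ?_⟩
    rw [lev_muE, levZ_simple ⟨i, h⟩]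
    simp [h3]

theorem levZ_le {r : ℕ} (hr : r < 240) : levZ r ≤ 6 := by
  have h := boundChk_true
  simp only [boundChk, allLt_iff, Bool.and_eq_true, decide_eq_true_eq] at h
  exact (h r hr).1

theorem cartan_le_one {r : ℕ} (hr : r < 240) (i : Fin chevE8.rank) (hne : r ≠ chevE8.simple i.val) :
    chevE8.cartan i.val r ≤ 1 := by
  have h := boundChk_true
  simp only [boundChk, allLt_iff, Bool.and_eq_true, Bool.or_eq_true, decide_eq_true_eq] at h
  rcases (h r hr).2 i.val i.isLt with h1 | h1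
  · exact absurd h1 hne
  · exact h1

/-- `wD` computes the reflected root -/
theorem wD_eq_wR (i : Fin chevE8.rank) {r : ℕ} (hr : r < 240) :
    wD chevE8 i.val r = wR chevE8 (chevE8.simple i.val) r := by
  have Δ := bnE ℚ
  have hA := Δ.hAll i.val i.isLt
  exact wD_eq Δ.hF Δ.hn (fun s hs => wR_lt Δ.hB hA.hS.1 hA.hR hs) hr

set_option maxRecDepth 100000 in
theorem path_spec {r : ℕ} (hr : chevE8.IsPosRoot r) (hl : 1 ≤ levZ r) :
    (rk r = 0 ∧ (if levZ r = 1 then r = 130 else chevE8.cartan 3 r = 1)) ∨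
      ∃ i : Fin chevE8.rank, i.val ≠ 3 ∧ rk (wR chevE8 (chevE8.simple i.val) r) < rk r := by
  have h := pathChk_true
  simp only [pathChk, allLt_iff, anyLt_iff, Bool.or_eq_true, Bool.and_eq_true, decide_eq_true_eq,
    Nat.blt_eq, Bool.not_eq_true', nbeq_false] at h
  have hr240 : r < 240 := hr.1
  have hpos : 120 ≤ r := (pos_iff hr240).1 hr
  rcases h r hr240 with ((h1 | h1) | h1) | h1
  · omega
  · omega
  · left
    refine ⟨h1.1, ?_⟩
    by_cases hl1 : levZ r = 1
    · rw [if_pos hl1]
      have := h1.2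
      rw [show decide (levZ r = 1) = true from decide_eq_true hl1, cond_true, decide_eq_true_eq] at this
      exact this
    · rw [if_neg hl1]
      have := h1.2
      rw [show decide (levZ r = 1) = false from decide_eq_false hl1, cond_false, decide_eq_true_eq] at this
      exact this
  · right
    obtain ⟨i, hi, h3, h4⟩ := h1
    refine ⟨⟨i, hi⟩, h3, ?_⟩
    rw [← wD_eq_wR ⟨i, hi⟩ hr240]
    exact h4

set_option maxRecDepth 100000 in
theorem eta_spec {r : ℕ} (hr : chevE8.IsPosRoot r) :
    1 ≤ etaZ r ∧ 0 ≤ levZ r ∧ (levZ r = 0 ↔ etaZ r < 5) ∧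
      (levZ r = 0 → etaZ r = 1 → ∃ i : Fin chevE8.rank, i.val ≠ 3 ∧ r = chevE8.simple i.val) ∧
      (levZ r = 0 → etaZ r ≠ 1 → ∃ i : Fin chevE8.rank, i.val ≠ 3 ∧ chevE8.cartan i.val r = 1) := by
  have h := etaChk_true
  simp only [etaChk, allLt_iff, anyLt_iff, Bool.or_eq_true, Bool.and_eq_true, decide_eq_true_eq,
    Nat.blt_eq, Bool.not_eq_true', nbeq_false, beq_iff_eq, decide_eq_decide,
    decide_eq_false_iff_not] at h
  have hr240 : r < 240 := hr.1
  have hpos : 120 ≤ r := (pos_iff hr240).1 hr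
  rcases h r hr240 with h1 | h1
  · omega
  · obtain ⟨⟨⟨h2, h3⟩, h4⟩, h5⟩ := h1
    refine ⟨h2, h3, h4, ?_, ?_⟩
    · intro h0 h1'
      rcases h5 with h5 | h5
      · exact absurd h0 h5
      · rw [show decide (etaZ r = 1) = true from decide_eq_true h1', cond_true, anyLt_iff] at h5
        obtain ⟨i, hi, h6⟩ := h5
        simp only [Bool.and_eq_true, Bool.not_eq_true', nbeq_false, nbeq_true] at h6
        exact ⟨⟨i, hi⟩, h6.1, h6.2⟩
    · intro h0 h1'
      rcases h5 with h5 | h5
      · exact absurd h0 h5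
      · rw [show decide (etaZ r = 1) = false from decide_eq_false h1', cond_false, anyLt_iff] at h5
        obtain ⟨i, hi, h6⟩ := h5
        simp only [Bool.and_eq_true, Bool.not_eq_true', nbeq_false, decide_eq_true_eq] at h6
        exact ⟨⟨i, hi⟩, h6.1, h6.2⟩

/-- the level of a reflected root -/
theorem lev_wR {D : ChevalleyDatum} {F : Type*} [Field F] (Δ : BNData D F) (i : Fin D.rank)
    (μ : Fin D.rank → ℝ) {r : ℕ} (hr : r < D.nroots) :
    lev D μ (wR D (D.simple i.val) r) =
      lev D μ r - ((D.cartan i.val r : ℤ) : ℝ) * lev D μ (D.simple i.val) := by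
  have h1 : lev D μ (wR D (D.simple i.val) r) =
      ((1 : ℤ) : ℝ) * lev D μ r + ((-(D.cartan i.val r) : ℤ) : ℝ) * lev D μ (D.simple i.val) :=
    lev_lin μ (fun k hk => by rw [Cfsg.Agent.Helper8.BT.cartan_wR Δ i hr k hk]; ring)
  rw [h1]; push_cast; ring

end Cfsg.Agent.S5751P
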