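import Mathlib
import Cfsg.Agent.Helper28.BTDefs
import Cfsg.Agent.Helper11.ChevSylow
import Cfsg.Agent.Helper18.BTLEV
import Cfsg.Agent.Helper8.BTWACT
import Cfsg.Agent.Helper28.BTTAB2
import Cfsg.Agent.Helper28.BTTAB1
import Cfsg.Agent.Helper29.BTDOM
import Cfsg.Agent.Helper20.BTSTAB1
import Cfsg.Agent.Helper20.BTSTAB2
import Cfsg.Agent.Helper7.BTOPT
import Cfsg.Agent.Helper7.BTSYL
import Cfsg.Agent.Helper6.Chev.BruhatNF2

set_option autoImplicit false
set_option linter.unusedSectionVars false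
set_option linter.unusedVariables false

namespace Cfsg.Agent.Helper28.BT

open Cfsg.Lie Cfsg.Agent.Helper6 Cfsg.Agent.Helper18.BT Cfsg.Agent.Helper7.BT Cfsg.Agent.Helper8.BT Cfsg.Agent.Helper29.BT Cfsg.Agent.Helper20.BT

variable {D : ChevalleyDatum} {F : Type*} [Field F]

/-- roots of `Φ_J` have level zero (`J` the zero set of a dominant weight vector) -/
theorem lev_eq_zero_of_inRootSub (hD : IsTabulated D) {μ : Fin D.rank → ℝ} (hdom : Dominant D μ)
    {r : ℕ} (hr : D.InRootSub (zeroSet D μ) r) : lev D μ r = 0 := by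
  have Δ : BNData D ℚ := bnData_of_tabulated ℚ hD
  rcases Δ.pos_or_neg hr.1 with h | h
  · exact (lev_eq_zero_iff hD hdom h).2 hr
  · have h1 : r < D.nroots / 2 := ((Δ.hsign r hr.1).2).1 h
    have h2 := Δ.hnegpos hr.1 h1
    have h3 : D.neg r < D.nroots := (Δ.hB.neg r hr.1).1
    have h4 : D.IsPosRoot (D.neg r) := ((Δ.hsign _ h3).1).2 h2
    have h5 : D.InRootSub (zeroSet D μ) (D.neg r) := by
      refine ⟨h3, fun i hi hiJ => ?_⟩
      have := (Δ.hB.negTab r hr.1).2 i hi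
      unfold corootC at this
      rw [this, hr.2 i hi hiJ, neg_zero]
    have h6 := (lev_eq_zero_iff hD hdom h4).2 h5
    have h7 := lev_neg Δ μ hr.1
    rw [h6] at h7
    linarith

/-- a uniform positive lower bound for the levels of the roots of `U_J` -/
theorem exists_pos_bound (hD : IsTabulated D) {μ : Fin D.rank → ℝ} (hdom : Dominant D μ)
    {t : ℝ} (ht : 0 < t) :
    ∃ t' : ℝ, 0 < t' ∧ t' ≤ t ∧
      ∀ r, D.IsPosRoot r → ¬ D.InRootSub (zeroSet D μ) r → t' ≤ lev D μ r := by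
  classical
  let S : Finset ℝ := insert t (((Finset.range D.nroots).filter fun r =>
    D.IsPosRoot r ∧ ¬ D.InRootSub (zeroSet D μ) r).image (lev D μ))
  have hS : S.Nonempty := ⟨t, Finset.mem_insert_self _ _⟩
  refine ⟨S.min' hS, ?_, Finset.min'_le _ _ (Finset.mem_insert_self _ _), fun r hr hnr => ?_⟩
  · rw [Finset.lt_min'_iff]
    intro y hy
    rw [Finset.mem_insert] at hy
    rcases hy with rfl | hy
    · exact ht
    · rw [Finset.mem_image] at hy
      obtain ⟨r, hr, rfl⟩ := hy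
      rw [Finset.mem_filter] at hr
      have h1 := lev_nonneg_of_dominant hD hdom hr.2.1
      have h2 : lev D μ r ≠ 0 := fun h0 => hr.2.2 ((lev_eq_zero_iff hD hdom hr.2.1).1 h0)
      exact lt_of_le_of_ne h1 (Ne.symm h2)
  · apply Finset.min'_le
    rw [Finset.mem_insert]
    right
    rw [Finset.mem_image]
    exact ⟨r, Finset.mem_filter.2 ⟨Finset.mem_range.2 hr.1, hr, hnr⟩, rfl⟩

theorem levi_le_Gr0 (hD : IsTabulated D) {μ : Fin D.rank → ℝ} (hdom : Dominant D μ) :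
    D.leviSubgroup F (zeroSet D μ) ≤ Gr0 (degI D μ) := by
  have Δ : BNData D F := bnData_of_tabulated F hD
  unfold ChevalleyDatum.leviSubgroup
  refine sup_le (diagonal_le_Gr0 Δ μ) ?_
  rw [Subgroup.closure_le]
  rintro g ⟨r, s, hr, hg⟩
  have hg' : g = xU Δ.hB r s := Units.ext (by rw [hg, xU_val])
  rw [hg']
  exact xU_mem_Gr0 Δ μ hr.1 (lev_eq_zero_of_inRootSub hD hdom hr) s

theorem GrFil_inf_group_le (hD : IsTabulated D) {μ : Fin D.rank → ℝ} (hdom : Dominant D μ)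
    {t : ℝ} (ht : 0 < t) :
    GrFil (degI D μ) t ⊓ D.group F ≤ D.unipotentRadical F (zeroSet D μ) := by
  have Δ : BNData D F := bnData_of_tabulated F hD
  intro g hg
  obtain ⟨hgF, hgG⟩ := Subgroup.mem_inf.1 hg
  have hgP : g ∈ D.parabolicSubgroup F (zeroSet D μ) :=
    GrPar_inf_group_le hD hdom (Subgroup.mem_inf.2 ⟨GrFil_le_GrPar _ _ hgF, hgG⟩)
  obtain ⟨hN, hsup, hinf⟩ := Cfsg.Agent.Helper2.Levi.levi_of_tabulated (F := F) hD (zeroSet D μ)
  have hLN : D.leviSubgroup F (zeroSet D μ) ≤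
      Subgroup.normalizer (D.unipotentRadical F (zeroSet D μ) : Set (GL D.Idx F)) := by
    refine le_trans ?_ hN
    rw [← hsup]
    exact le_sup_right
  rw [← hsup] at hgP
  have hgP' : g ∈ ((D.unipotentRadical F (zeroSet D μ) ⊔ D.leviSubgroup F (zeroSet D μ) :
      Subgroup (GL D.Idx F)) : Set (GL D.Idx F)) := hgP
  rw [Subgroup.coe_mul_of_right_le_normalizer_left _ _ hLN, Set.mem_mul] at hgP'
  obtain ⟨u, hu, l, hl, rfl⟩ := hgP'
  obtain ⟨t', ht', htt', hbound⟩ := exists_pos_bound hD hdom ht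
  have hUF : D.unipotentRadical F (zeroSet D μ) ≤ GrFil (degI D μ) t' := by
    unfold ChevalleyDatum.unipotentRadical
    rw [Subgroup.closure_le]
    rintro y ⟨r, s, hr1, hr2, hy⟩
    have hy' : y = xU Δ.hB r s := Units.ext (by rw [hy, xU_val])
    rw [hy']
    have h1 := hbound r hr1 hr2
    exact GrFil_mono _ ht'.le h1 (xU_mem_GrFil Δ μ hr1.1 (by linarith) s)
  have hlF : l ∈ GrFil (degI D μ) t' := by
    have h1 : u * l ∈ GrFil (degI D μ) t' := GrFil_mono _ ht'.le htt' hgF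
    have h2 := Subgroup.mul_mem _ (Subgroup.inv_mem _ (hUF hu)) h1
    rwa [inv_mul_cancel_left] at h2
  have hl0 : l ∈ Gr0 (degI D μ) := levi_le_Gr0 hD hdom hl
  have hl1 : l = 1 := by
    have : l ∈ (Gr0 (degI D μ) ⊓ GrFil (degI D μ) t' : Subgroup (GL D.Idx F)) :=
      Subgroup.mem_inf.2 ⟨hl0, hlF⟩
    rw [Gr0_inf_GrFil _ ht'] at this
    exact Subgroup.mem_bot.1 this
  rw [hl1, mul_one]
  exact hu

end Cfsg.Agent.Helper28.BT
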