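import Mathlib
import Cfsg.Agent.Helper28.BTGen

set_option autoImplicit false
set_option linter.unusedSectionVars false
set_option linter.unusedVariables false

/-!
# S5751, piece ADD: entries of exact degree are additive on `GrFil`
-/

namespace Cfsg.Agent.S5751P

open Cfsg.Agent.Helper28.BT

variable {F : Type*} [Field F]

theorem entry_eq_zero_of_mem_GrFil {ι : Type*} [Fintype ι] [DecidableEq ι] (d : ι → ℝ) {m : ℝ}
    (hm : 0 ≤ m) {g : GL ι F} (hg : g ∈ GrFil d m) {a b : ι} (hne : a ≠ b) (hab : d a - d b < m) :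
    (g : Matrix ι ι F) a b = 0 := by
  by_contra h
  have h1 := ((mem_GrFil hm).1 hg).1 a b
  rw [Matrix.sub_apply, Matrix.one_apply_ne hne, sub_zero] at h1
  have := h1 h
  linarith

theorem diag_eq_one_of_mem_GrFil {ι : Type*} [Fintype ι] [DecidableEq ι] (d : ι → ℝ) {m : ℝ}
    (hm : 0 < m) {g : GL ι F} (hg : g ∈ GrFil d m) (a : ι) : (g : Matrix ι ι F) a a = 1 := by
  by_contra h
  have h1 := ((mem_GrFil hm.le).1 hg).1 a a
  rw [Matrix.sub_apply, Matrix.one_apply_eq] at h1
  have := h1 (sub_ne_zero.2 h)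
  linarith

theorem entry_mul {ι : Type*} [Fintype ι] [DecidableEq ι] (d : ι → ℝ) {m : ℝ} (hm : 0 < m)
    {g h : GL ι F} (hg : g ∈ GrFil d m) (hh : h ∈ GrFil d m) (a b : ι) (hab : d a - d b = m) :
    ((g * h : GL ι F) : Matrix ι ι F) a b = (g : Matrix ι ι F) a b + (h : Matrix ι ι F) a b := by
  have hne : a ≠ b := by
    intro e; rw [e, sub_self] at hab; linarith
  rw [Units.val_mul, Matrix.mul_apply]
  rw [Finset.sum_eq_add b a hne.symm]
  · rw [diag_eq_one_of_mem_GrFil d hm hh b, diag_eq_one_of_mem_GrFil d hm hg a, mul_one, one_mul]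
  · intro c _ hc
    by_contra hcon
    have h1 : (g : Matrix ι ι F) a c ≠ 0 := left_ne_zero_of_mul hcon
    have h2 : (h : Matrix ι ι F) c b ≠ 0 := right_ne_zero_of_mul hcon
    have e1 := ((mem_GrFil hm.le).1 hg).1 a c
    rw [Matrix.sub_apply, Matrix.one_apply_ne (Ne.symm hc.2), sub_zero] at e1
    have e2 := ((mem_GrFil hm.le).1 hh).1 c b
    rw [Matrix.sub_apply, Matrix.one_apply_ne hc.1, sub_zero] at e2
    have := e1 h1
    have := e2 h2
    linarith
  · intro h; exact absurd (Finset.mem_univ _) h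
  · intro h; exact absurd (Finset.mem_univ _) h

theorem entry_list_prod {ι : Type*} [Fintype ι] [DecidableEq ι] (d : ι → ℝ) {m : ℝ} (hm : 0 < m)
    (L : List (GL ι F)) (hL : ∀ g ∈ L, g ∈ GrFil d m) (a b : ι) (hab : d a - d b = m) :
    ((L.prod : GL ι F) : Matrix ι ι F) a b = (L.map fun g : GL ι F => (g : Matrix ι ι F) a b).sum := by
  have hne : a ≠ b := by
    intro e; rw [e, sub_self] at hab; linarith
  induction L with
  | nil =>
    rw [List.prod_nil, List.map_nil, List.sum_nil, Units.val_one, Matrix.one_apply_ne hne]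
  | cons g L ih =>
    have hg : g ∈ GrFil d m := hL g List.mem_cons_self
    have hL' : ∀ g ∈ L, g ∈ GrFil d m := fun g' hg' => hL g' (List.mem_cons_of_mem _ hg')
    have hp : L.prod ∈ GrFil d m := Subgroup.list_prod_mem _ hL'
    rw [List.prod_cons, entry_mul d hm hg hp a b hab, ih hL', List.map_cons, List.sum_cons]

theorem GrFil_inf_le_add {ι : Type*} [Fintype ι] [DecidableEq ι] (d d' : ι → ℝ) {t t' ε : ℝ}
    (ht : 0 ≤ t) (ht' : 0 ≤ t') (hε : 0 ≤ ε) :
    (GrFil d t ⊓ GrFil d' t' : Subgroup (GL ι F)) ≤ GrFil (fun a => d a + ε * d' a) (t + ε * t') := by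
  intro g hg
  obtain ⟨h1, h2⟩ := Subgroup.mem_inf.1 hg
  rw [mem_GrFil ht] at h1
  rw [mem_GrFil ht'] at h2
  have h0 : 0 ≤ t + ε * t' := add_nonneg ht (mul_nonneg hε ht')
  rw [mem_GrFil h0]
  refine ⟨fun a b hab => ?_, fun a b hab => ?_⟩
  · have e1 := h1.1 a b hab
    have e2 := h2.1 a b hab
    have := mul_le_mul_of_nonneg_left e2 hε
    simp only
    linarith
  · have e1 := h1.2 a b hab
    have e2 := h2.2 a b hab
    have := mul_le_mul_of_nonneg_left e2 hε
    simp only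
    linarith

theorem GrPar_inf_le_add {ι : Type*} [Fintype ι] [DecidableEq ι] (d d' : ι → ℝ) {c c' : ℝ}
    (hc : 0 ≤ c) (hc' : 0 ≤ c') :
    (GrPar d ⊓ GrPar d' : Subgroup (GL ι F)) ≤ GrPar (fun a => c * d a + c' * d' a) := by
  intro g hg
  obtain ⟨h1, h2⟩ := Subgroup.mem_inf.1 hg
  rw [mem_GrPar] at h1 h2 ⊢
  refine ⟨fun a b hab => ?_, fun a b hab => ?_⟩
  · have e1 := mul_le_mul_of_nonneg_left (h1.1 a b hab) hc
    have e2 := mul_le_mul_of_nonneg_left (h2.1 a b hab) hc'
    simp only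
    linarith
  · have e1 := mul_le_mul_of_nonneg_left (h1.2 a b hab) hc
    have e2 := mul_le_mul_of_nonneg_left (h2.2 a b hab) hc'
    simp only
    linarith

end Cfsg.Agent.S5751P
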