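import Mathlib
import Cfsg.Agent.Helper28.S5751Defs
import Cfsg.Agent.Helper28.BTStab3
import Cfsg.Agent.Helper28.S5751ADD
import Cfsg.Agent.Helper6.S5751XENT

set_option autoImplicit false
set_option linter.unusedSectionVars false
set_option linter.unusedVariables false

/-!
# S5751, piece SLA: the coefficients of an ordered word in `G ∩ GrFil`
-/

namespace Cfsg.Agent.Helper28.S5751SLA

open Cfsg.Lie Cfsg.Agent.Helper6 Cfsg.Agent.Helper28.BT Cfsg.Agent.Helper2.Levi Cfsg.Agent.S5751P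
open Cfsg.Agent.Helper18.BT

variable {D : ChevalleyDatum} {F : Type*} [Field F]

theorem sum_map_ite {M : Type*} [AddCommMonoid M] (l : List ℕ) (hl : l.Nodup) (a : ℕ) (f : ℕ → M) :
    (l.map fun s => if a = s then f s else 0).sum = if a ∈ l then f a else 0 := by
  induction l with
  | nil => simp
  | cons x l ih =>
    rw [List.nodup_cons] at hl
    rw [List.map_cons, List.sum_cons, ih hl.2]
    by_cases hax : a = x
    · subst hax
      rw [if_pos rfl, if_neg hl.1, add_zero, if_pos List.mem_cons_self]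
    · rw [if_neg hax, zero_add]
      by_cases hal : a ∈ l
      · rw [if_pos hal, if_pos (List.mem_cons_of_mem _ hal)]
      · rw [if_neg hal, if_neg]
        intro h
        rcases List.mem_cons.1 h with h | h
        · exact hax h
        · exact hal h

/-- the entry `(e_{r₀}, h_i)` of an ordered word all of whose factors lie in `GrFil d m₀`, when this
entry has degree exactly `m₀` -/
theorem entry_word (Δ : BNData D F) (d : D.Idx → ℝ) {m0 : ℝ} (hm0 : 0 < m0) (t : ℕ → F)
    (hfac : ∀ s, D.nroots / 2 ≤ s → s < D.nroots → xU Δ.hB s (t s) ∈ GrFil d m0)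
    {r0 : ℕ} (hr0 : D.nroots / 2 ≤ r0) (hr0' : r0 < D.nroots) (i : Fin D.rank)
    (hdeg : d (Sum.inr ⟨r0, hr0'⟩) - d (Sum.inl i) = m0) :
    ((wordU Δ.hB (posWord D t) : GL D.Idx F) : Matrix D.Idx D.Idx F) (Sum.inr ⟨r0, hr0'⟩) (Sum.inl i)
      = -(((D.cartan i.val r0 : ℤ) : F)) * t r0 := by
  have heven := Δ.even
  unfold wordU posWord
  rw [List.map_map]
  rw [entry_list_prod d hm0 _ _ _ _ hdeg]
  · rw [List.map_map]
    have e : ((fun g : GL D.Idx F => (g : Matrix D.Idx D.Idx F) (Sum.inr ⟨r0, hr0'⟩) (Sum.inl i)) ∘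
        ((fun p : ℕ × F => xU Δ.hB p.1 p.2) ∘ fun r => (r, t r))) =
        fun s => if r0 = s then -(((D.cartan i.val s : ℤ) : F)) * t s else 0 := by
      funext s
      simp only [Function.comp_apply, xU_val]
      by_cases hs : s < D.nroots
      · rw [x_entry Δ.hB hs (t s) ⟨r0, hr0'⟩ i]
      · have hne : r0 ≠ s := fun h => hs (h ▸ hr0')
        rw [if_neg hne]
        have : D.x F s (t s) = 1 := by
          unfold ChevalleyDatum.x
          rw [dif_neg hs]
        rw [this, Matrix.one_apply_ne (by simp)]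
    rw [e, sum_map_ite _ (List.nodup_range' ..) r0
      (fun s => -(((D.cartan i.val s : ℤ) : F)) * t s), if_pos]
    rw [List.mem_range'_1]
    omega
  · intro g hg
    rw [List.mem_map] at hg
    obtain ⟨s, hs, rfl⟩ := hg
    rw [List.mem_range'_1] at hs
    exact hfac s hs.1 (by omega)

theorem degI_add_smul (μ ρ : Fin D.rank → ℝ) (ε : ℝ) :
    (fun a => degI D μ a + ε * degI D ρ a) = degI D (μ + ε • ρ) := by
  funext a
  cases a with
  | inl i => simp [Cfsg.Agent.Helper28.BT.degI]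
  | inr s => simp only [Cfsg.Agent.Helper28.BT.degI]; rw [lev_add, lev_smul]

theorem word_mem_GrFil (Δ : BNData D F) (d : D.Idx → ℝ) {m0 : ℝ} (t : ℕ → F)
    (hfac : ∀ s, D.nroots / 2 ≤ s → s < D.nroots → xU Δ.hB s (t s) ∈ GrFil d m0) :
    wordU Δ.hB (posWord D t) ∈ GrFil d m0 := by
  have heven := Δ.even
  unfold wordU posWord
  apply Subgroup.list_prod_mem
  intro g hg
  rw [List.map_map, List.mem_map] at hg
  obtain ⟨s, hs, rfl⟩ := hg
  rw [List.mem_range'_1] at hs
  exact hfac s hs.1 (by omega)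

end Cfsg.Agent.Helper28.S5751SLA

namespace Cfsg.Agent.S5751P

open Cfsg.Lie Cfsg.Agent.Helper6 Cfsg.Agent.Helper28.BT Cfsg.Agent.Helper2.Levi
open Cfsg.Agent.Helper18.BT Cfsg.Agent.Helper28.S5751SLA

variable {D : ChevalleyDatum} {F : Type*} [Field F]

theorem coef_eq_zero (hD : IsTabulated D)
    (hodd : ∀ r < D.nroots, ∃ i : Fin D.rank, ((D.cartan i.val r : ℤ) : F) ≠ 0)
    {μ : Fin D.rank → ℝ} (hdom : Dominant D μ) {m : ℝ} (hm : 0 < m) (t : ℕ → F)
    (hg : wordU (basicOK_of_tabulated hD) (posWord D t) ∈ GrFil (degI D μ) m)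
    {r : ℕ} (hr : D.IsPosRoot r) (hlt : lev D μ r < m) : t r = 0 := by
  classical
  by_contra htr
  have Δ : BNData D F := bnData_of_tabulated F hD
  have heven := Δ.even
  obtain ⟨ρ, hρ⟩ := exists_regular hD
  have hρr : 1 ≤ lev D ρ r := hρ r hr
  set ε : ℝ := (m - lev D μ r) / lev D ρ r with hε
  have hεpos : 0 < ε := div_pos (by linarith) (by linarith)
  set lam : Fin D.rank → ℝ := μ + ε • ρ with hlam
  have hlev : ∀ s, lev D lam s = lev D μ s + ε * lev D ρ s := by
    intro s; rw [hlam, lev_add, lev_smul]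
  have hlevr : lev D lam r = m := by
    rw [hlev, hε]; field_simp; ring
  -- the word lies in the `ρ`-filtration of level 1
  have hfacρ : ∀ s, D.nroots / 2 ≤ s → s < D.nroots → xU Δ.hB s (t s) ∈ GrFil (degI D ρ) 1 := by
    intro s hs1 hs2
    have hpos : D.IsPosRoot s := ((Δ.hsign s hs2).1).2 hs1
    have h1 := hρ s hpos
    exact GrFil_mono _ zero_le_one h1 (xU_mem_GrFil Δ ρ hs2 (by linarith) (t s))
  have hgρ : wordU Δ.hB (posWord D t) ∈ GrFil (degI D ρ) 1 := word_mem_GrFil Δ _ t hfacρ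
  have hgl : wordU Δ.hB (posWord D t) ∈ GrFil (degI D lam) (m + ε * 1) := by
    have := GrFil_inf_le_add (F := F) (degI D μ) (degI D ρ) hm.le zero_le_one hεpos.le
      (Subgroup.mem_inf.2 ⟨hg, hgρ⟩)
    rw [degI_add_smul] at this
    exact this
  -- minimise the `lam`-level over the support
  let T : Finset ℕ := (Finset.range D.nroots).filter fun s => D.nroots / 2 ≤ s ∧ t s ≠ 0
  have hrT : r ∈ T := by
    rw [Finset.mem_filter, Finset.mem_range]
    exact ⟨hr.1, ((Δ.hsign r hr.1).1).1 hr, htr⟩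
  obtain ⟨r0, hr0T, hmin⟩ := Finset.exists_min_image T (fun s => lev D lam s) ⟨r, hrT⟩
  rw [Finset.mem_filter, Finset.mem_range] at hr0T
  obtain ⟨hr0n, hr0h, htr0⟩ := hr0T
  have hr0pos : D.IsPosRoot r0 := ((Δ.hsign r0 hr0n).1).2 hr0h
  have hm0pos : 0 < lev D lam r0 := by
    rw [hlev]
    have h1 := lev_nonneg_of_dominant hD hdom hr0pos
    have h2 := hρ r0 hr0pos
    nlinarith
  have hm0le : lev D lam r0 ≤ m := by
    rw [← hlevr]; exact hmin r hrT
  have hfac : ∀ s, D.nroots / 2 ≤ s → s < D.nroots →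
      xU Δ.hB s (t s) ∈ GrFil (degI D lam) (lev D lam r0) := by
    intro s hs1 hs2
    by_cases hts : t s = 0
    · rw [hts, xU_zero]; exact Subgroup.one_mem _
    · have hsT : s ∈ T := by
        rw [Finset.mem_filter, Finset.mem_range]; exact ⟨hs2, hs1, hts⟩
      have hle := hmin s hsT
      exact GrFil_mono _ hm0pos.le hle (xU_mem_GrFil Δ lam hs2 (hm0pos.le.trans hle) (t s))
  obtain ⟨i, hi⟩ := hodd r0 hr0n
  have hent := entry_word Δ (degI D lam) hm0pos t hfac hr0h hr0n i (by simp [Cfsg.Agent.Helper28.BT.degI])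
  have hzero := entry_eq_zero_of_mem_GrFil (degI D lam) (by nlinarith : (0:ℝ) ≤ m + ε * 1) hgl
    (a := Sum.inr ⟨r0, hr0n⟩) (b := Sum.inl i) (by simp) (by simp only [Cfsg.Agent.Helper28.BT.degI]; nlinarith)
  rw [hent] at hzero
  rcases mul_eq_zero.1 hzero with h | h
  · exact hi (neg_eq_zero.1 h)
  · exact htr0 h

theorem entry_posWord (hD : IsTabulated D) {μ : Fin D.rank → ℝ} (hdom : Dominant D μ) {m : ℝ}
    (hm : 0 < m) (t : ℕ → F) (ht : ∀ r, D.IsPosRoot r → lev D μ r < m → t r = 0)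
    {r : ℕ} (hr : D.IsPosRoot r) (hlr : lev D μ r = m) (a : Fin D.rank) :
    ((wordU (basicOK_of_tabulated hD) (posWord D t) : GL D.Idx F) : Matrix D.Idx D.Idx F)
        (Sum.inr ⟨r, hr.1⟩) (Sum.inl a) = -(((D.cartan a.val r : ℤ) : F)) * t r := by
  have Δ : BNData D F := bnData_of_tabulated F hD
  have hfac : ∀ s, D.nroots / 2 ≤ s → s < D.nroots →
      xU Δ.hB s (t s) ∈ GrFil (degI D μ) m := by
    intro s hs1 hs2
    have hpos : D.IsPosRoot s := ((Δ.hsign s hs2).1).2 hs1
    by_cases hts : t s = 0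
    · rw [hts, xU_zero]; exact Subgroup.one_mem _
    · have hle : m ≤ lev D μ s := by
        by_contra hlt
        exact hts (ht s hpos (not_le.1 hlt))
      exact GrFil_mono _ hm.le hle (xU_mem_GrFil Δ μ hs2 (hm.le.trans hle) (t s))
  exact entry_word Δ (degI D μ) hm t hfac (((Δ.hsign r hr.1).1).1 hr) hr.1 a
    (by simp only [Cfsg.Agent.Helper28.BT.degI]; rw [hlr]; ring)

end Cfsg.Agent.S5751P
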