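import Mathlib
import Cfsg.Prelude.Def_Classical
import Cfsg.Agent.Helper23.S5953Defs
import Cfsg.Agent.Helper20.S5954Defs
import Cfsg.Agent.Helper2.UnitaryCount

/-! S5954, piece COUNTA: the span of an orthonormal frame is non-degenerate of dimension `k`. -/

set_option autoImplicit false
open scoped MatrixGroups Matrix

universe u

namespace Cfsg.Agent.S5954P

open Polynomial Cfsg.Agent.S5953P Cfsg.Agent.Helper28.HW Cfsg.Agent.Helper28.HermFrame
open Cfsg.Agent.S2644 Cfsg.Agent.Helper2.SUGen Cfsg.Agent.Helper28.UPair Cfsg.Agent.S5984P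

namespace COUNTA

open Cfsg.Agent.Helper2.Herm

variable {F : Type*} [Field F] [Fintype F] {q n : ℕ}

theorem linearIndependent_of_isON {k : ℕ} (c : Fin k → (Fin n → F)) (hc : IsON q c) :
    LinearIndependent F c := by
  rw [Fintype.linearIndependent_iff]
  intro a ha i
  have h := hf_comb_left c hc a i
  rw [ha, hf_zero_left] at h
  exact h.symm

/-- every element of the span is the combination of the frame with its Fourier coefficients -/
theorem eq_comb_of_mem_span {k : ℕ} (c : Fin k → (Fin n → F)) (hc : IsON q c)
    {v : Fin n → F} (hv : v ∈ Submodule.span F (Set.range c)) :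
    v = ∑ j, Cfsg.hermForm n F q v (c j) • c j := by
  obtain ⟨a, rfl⟩ := (Submodule.mem_span_range_iff_exists_fun F).mp hv
  apply Finset.sum_congr rfl
  intro j _
  rw [hf_comb_left c hc]

end COUNTA

open COUNTA Cfsg.Agent.Helper2.Herm in
/-- COUNTA: the span of an orthonormal frame -/
theorem nd_span_of_isON {F : Type*} [Field F] [Fintype F] {q n : ℕ} (hF : Fintype.card F = q ^ 2)
    {k : ℕ} (c : Fin k → (Fin n → F)) (hc : Cfsg.Agent.Helper2.Herm.IsON q c) :
    NonDeg q (Submodule.span F (Set.range c)) ∧
      Module.finrank F (Submodule.span F (Set.range c)) = k := by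
  refine ⟨?_, ?_⟩
  · intro y hy hall
    rw [eq_comb_of_mem_span c hc hy]
    apply Finset.sum_eq_zero
    intro j _
    rw [hall (c j) (Submodule.subset_span ⟨j, rfl⟩), zero_smul]
  · rw [finrank_span_eq_card (linearIndependent_of_isON c hc), Fintype.card_fin]

end Cfsg.Agent.S5954P
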