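import Mathlib
import Cfsg.Prelude.Def_Classical
import Cfsg.Agent.Helper23.S5953Defs
import Cfsg.Agent.Helper20.S5954Defs
import Cfsg.Agent.Helper2.UnitaryCount
import Cfsg.Agent.Helper28.Herm
import Cfsg.Agent.Helper7.S5953ORTHCU
import Cfsg.Agent.S0755
import Cfsg.Agent.Helper28.S5954COUNTA

/-! S5954, piece ONB: a non-degenerate subspace of the standard Hermitian space has an orthonormal
basis. -/

set_option autoImplicit false
open scoped MatrixGroups Matrix

universe u

namespace Cfsg.Agent.S5954P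

open Polynomial Cfsg.Agent.S5953P Cfsg.Agent.Helper28.HW Cfsg.Agent.Helper28.HermFrame
open Cfsg.Agent.S2644 Cfsg.Agent.Helper2.SUGen Cfsg.Agent.Helper28.UPair Cfsg.Agent.S5984P

open COUNTA Cfsg.Agent.Helper2.Herm in
/-- ONB: a non-degenerate subspace has an orthonormal basis -/
theorem exists_on_basis {F : Type*} [Field F] [Fintype F] {q n : ℕ} (hF : Fintype.card F = q ^ 2)
    {W : Submodule F (Fin n → F)} (hW : NonDeg q W) (k : ℕ) (hk : Module.finrank F W = k) :
    ∃ c : Fin k → (Fin n → F), Cfsg.Agent.Helper2.Herm.IsON q c ∧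
      Submodule.span F (Set.range c) = W := by
  classical
  obtain ⟨σ, hσ, hσ2⟩ := Cfsg.Agent.Helper28.exists_frob hF
  have hherm : IsHerm q (hB σ n) := hB_isHerm σ hF hσ n
  have hWU : NondegU (hB σ n) W := by
    intro m hm hm0
    by_contra hcon
    push Not at hcon
    apply hm0
    apply hW m hm
    intro y hy
    rw [← hB_herm σ hσ]
    exact hherm.eq_zero_comm (hcon y hy)
  have hsymm := Cfsg.Agent.S5953P.ORTHCU.restr_isSymm hherm W
  have hnd := Cfsg.Agent.S5953P.ORTHCU.restr_nondeg hherm W hWU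
  obtain ⟨b, hb⟩ := Cfsg.Agent.S0755.aux σ hherm.ne_id hσ2 k
    ((hB σ n).domRestrict₁₂ W W) hsymm hnd.2 hk
  have hc : IsON q (fun i => ((b i : W) : Fin n → F)) := by
    intro i j
    have h1 := hb j i
    rw [LinearMap.domRestrict₁₂_apply, hB_herm σ hσ] at h1
    rw [h1]
    by_cases h : i = j
    · rw [if_pos h, if_pos h.symm]
    · rw [if_neg h, if_neg (fun h' => h h'.symm)]
  refine ⟨fun i => ((b i : W) : Fin n → F), hc, ?_⟩
  apply Submodule.eq_of_le_of_finrank_eq
  · rw [Submodule.span_le]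
    rintro _ ⟨i, rfl⟩
    exact (b i).2
  · rw [(nd_span_of_isON hF _ hc).2, hk]

end Cfsg.Agent.S5954P
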