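import Mathlib
import Cfsg.Prelude.Def_Classical
import Cfsg.Agent.Helper23.S5953Defs
import Cfsg.Agent.Helper20.S5954Defs
import Cfsg.Agent.Helper2.UnitaryCount
import Cfsg.Agent.Helper28.S5954COUNTA
import Cfsg.Agent.Helper28.S5954ONB

/-! S5954, piece COUNTB: the number of orthonormal bases of a non-degenerate `m`-space of the
standard Hermitian space is the number of orthonormal bases of `F^m`. -/

set_option autoImplicit false
open scoped MatrixGroups Matrix

universe u

namespace Cfsg.Agent.S5954P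

open Polynomial Cfsg.Agent.S5953P Cfsg.Agent.Helper28.HW Cfsg.Agent.Helper28.HermFrame
open Cfsg.Agent.S2644 Cfsg.Agent.Helper2.SUGen Cfsg.Agent.Helper28.UPair Cfsg.Agent.S5984P

namespace COUNTB

open Cfsg.Agent.Helper2.Herm COUNTA

variable {F : Type*} [Field F] [Fintype F] {q n : ℕ}

/-- the form on combinations of an orthonormal frame -/
theorem hf_comb_comb (hF : Fintype.card F = q ^ 2) {k : ℕ} (c : Fin k → (Fin n → F))
    (hc : IsON q c) (a b : Fin k → F) :
    Cfsg.hermForm n F q (∑ j, a j • c j) (∑ j, b j • c j) = Cfsg.hermForm k F q a b := by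
  rw [hf_sum_right hF, hf_eq hF a b]
  apply Finset.sum_congr rfl
  intro i _
  rw [hf_smul_right hF, hf_comb_left c hc, mul_comm]

end COUNTB

open COUNTA COUNTB Cfsg.Agent.Helper2.Herm in
/-- COUNTB (uses ONB): the number of orthonormal bases of a non-degenerate `m`-space -/
theorem card_on_in_nd {F : Type*} [Field F] [Fintype F] {q n : ℕ} (hF : Fintype.card F = q ^ 2)
    {W : Submodule F (Fin n → F)} (hW : NonDeg q W) (m : ℕ) (hm : Module.finrank F W = m) :
    Nat.card {c : Fin m → (Fin n → F) // Cfsg.Agent.Helper2.Herm.IsON q c ∧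
      Submodule.span F (Set.range c) = W} = Cfsg.Agent.Helper2.Herm.A F q m m := by
  classical
  obtain ⟨c₀, hc₀, hspan⟩ := exists_on_basis hF hW m hm
  unfold Cfsg.Agent.Helper2.Herm.A
  have hmemW : ∀ a : Fin m → F, ∑ j, a j • c₀ j ∈ W := by
    intro a
    rw [← hspan]
    exact Submodule.sum_mem _ (fun j _ => Submodule.smul_mem _ _ (Submodule.subset_span ⟨j, rfl⟩))
  have hON : ∀ c' : Fin m → (Fin m → F), IsON q c' →
      IsON q (fun i => ∑ j, c' i j • c₀ j) := by
    intro c' hc' i i'
    rw [hf_comb_comb hF c₀ hc₀]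
    exact hc' i i'
  apply Nat.card_congr
  refine
    { toFun := fun c => ⟨fun i j => Cfsg.hermForm n F q (c.1 i) (c₀ j), ?_⟩
      invFun := fun c' => ⟨fun i => ∑ j, c'.1 i j • c₀ j, hON c'.1 c'.2, ?_⟩
      left_inv := ?_
      right_inv := ?_ }
  · intro i i'
    have hcW : ∀ i, c.1 i ∈ Submodule.span F (Set.range c₀) := by
      intro i
      rw [hspan]
      have h1 : c.1 i ∈ Submodule.span F (Set.range c.1) := Submodule.subset_span ⟨i, rfl⟩
      have h2 : Submodule.span F (Set.range c.1) = W := c.2.2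
      exact h2.le h1
    have hi := hcW i
    have hi' := hcW i'
    rw [← hf_comb_comb hF c₀ hc₀, ← eq_comb_of_mem_span c₀ hc₀ hi,
      ← eq_comb_of_mem_span c₀ hc₀ hi']
    exact c.2.1 i i'
  · apply Submodule.eq_of_le_of_finrank_eq
    · rw [Submodule.span_le]
      rintro _ ⟨i, rfl⟩
      exact hmemW _
    · rw [(nd_span_of_isON hF _ (hON c'.1 c'.2)).2, hm]
  · rintro ⟨c, hc, hcW⟩
    apply Subtype.ext
    funext i
    have hi : c i ∈ Submodule.span F (Set.range c₀) := by
      rw [hspan, ← hcW]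
      exact Submodule.subset_span ⟨i, rfl⟩
    exact (eq_comb_of_mem_span c₀ hc₀ hi).symm
  · rintro ⟨c', hc'⟩
    apply Subtype.ext
    funext i j
    exact hf_comb_left c₀ hc₀ (c' i) j

end Cfsg.Agent.S5954P
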