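import Mathlib
import Cfsg.Prelude.Def_Classical
import Cfsg.Agent.Helper23.S5953Defs
import Cfsg.Agent.Helper20.S5954Defs
import Cfsg.Agent.Helper2.UnitaryCount
import Cfsg.Agent.Helper28.S5954COUNTA
import Cfsg.Agent.Helper28.S5954COUNTB

/-! S5954, piece COUNT: the number of non-degenerate `m`-spaces of the standard Hermitian space times
the number of orthonormal bases of `F^m` is the number of orthonormal `m`-frames of `F^n`. -/

set_option autoImplicit false
open scoped MatrixGroups Matrix

universe u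

namespace Cfsg.Agent.S5954P

open Polynomial Cfsg.Agent.S5953P Cfsg.Agent.Helper28.HW Cfsg.Agent.Helper28.HermFrame
open Cfsg.Agent.S2644 Cfsg.Agent.Helper2.SUGen Cfsg.Agent.Helper28.UPair Cfsg.Agent.S5984P

open Cfsg.Agent.Helper2.Herm in
/-- COUNT (uses COUNTA, COUNTB): the number of non-degenerate `m`-spaces -/
theorem card_nd_mul {F : Type*} [Field F] [Fintype F] {q : ℕ} (hF : Fintype.card F = q ^ 2)
    (n m : ℕ) :
    Nat.card {W : Submodule F (Fin n → F) // Module.finrank F W = m ∧ NonDeg q W} *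
      Cfsg.Agent.Helper2.Herm.A F q m m = Cfsg.Agent.Helper2.Herm.A F q m n := by
  classical
  let _ : Fintype {W : Submodule F (Fin n → F) // Module.finrank F W = m ∧ NonDeg q W} :=
    Fintype.ofFinite _
  have E : {c : Fin m → (Fin n → F) // IsON q c} ≃
      Σ W : {W : Submodule F (Fin n → F) // Module.finrank F W = m ∧ NonDeg q W},
        {c : Fin m → (Fin n → F) // IsON q c ∧ Submodule.span F (Set.range c) = W.1} :=
    { toFun := fun c => ⟨⟨Submodule.span F (Set.range c.1), (nd_span_of_isON hF c.1 c.2).2,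
        (nd_span_of_isON hF c.1 c.2).1⟩, ⟨c.1, c.2, rfl⟩⟩
      invFun := fun p => ⟨p.2.1, p.2.2.1⟩
      left_inv := fun c => rfl
      right_inv := by
        rintro ⟨⟨W, hW⟩, ⟨c, hc, hcW⟩⟩
        exact Sigma.subtype_ext (Subtype.ext hcW) rfl }
  have h1 : Cfsg.Agent.Helper2.Herm.A F q m n = Nat.card {c : Fin m → (Fin n → F) // IsON q c} :=
    rfl
  rw [h1, Nat.card_congr E, Nat.card_sigma]
  rw [Finset.sum_congr rfl (fun W _ => card_on_in_nd hF W.2.2 m W.2.1), Finset.sum_const,
    Finset.card_univ, smul_eq_mul, Nat.card_eq_fintype_card]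

end Cfsg.Agent.S5954P
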