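import Mathlib
import Cfsg.Prelude.Def_Classical
import Cfsg.Agent.Helper23.S5953Defs
import Cfsg.Agent.Helper20.S5954Defs
import Cfsg.Agent.Helper2.UnitaryCount
import Cfsg.Agent.Helper28.S5954COUNT

/-! S5954, piece NTA: a prime `r ∤ q` dividing the number of non-degenerate `m`-spaces divides
`q^j - (-1)^j` for some `n - m < j ≤ n`. -/

set_option autoImplicit false
open scoped MatrixGroups Matrix

universe u

namespace Cfsg.Agent.S5954P

open Polynomial Cfsg.Agent.S5953P Cfsg.Agent.Helper28.HW Cfsg.Agent.Helper28.HermFrame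
open Cfsg.Agent.S2644 Cfsg.Agent.Helper2.SUGen Cfsg.Agent.Helper28.UPair Cfsg.Agent.S5984P

open Cfsg.Agent.Helper2.Herm in
/-- NTA (uses COUNT, `Helper2.Herm.A_eq_prod`, `T_one`): a prime `r ∤ q` dividing the number of non-degenerate
`m`-spaces divides `q^j - (-1)^j` for some `n - m < j ≤ n` -/
theorem exists_dvd_eps_of_dvd_card {F : Type*} [Field F] [Fintype F] {q : ℕ}
    (hF : Fintype.card F = q ^ 2) (r : ℕ) [Fact r.Prime] (hrq : ¬ r ∣ q) (n m : ℕ) (hmn : m ≤ n)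
    (h : r ∣ Nat.card {W : Submodule F (Fin n → F) // Module.finrank F W = m ∧ NonDeg q W}) :
    ∃ j : ℕ, n - m < j ∧ j ≤ n ∧ r ∣ eps q j := by
  have hrp : r.Prime := Fact.out
  have h1 : r ∣ Cfsg.Agent.Helper2.Herm.A F q m n := by
    rw [← card_nd_mul hF n m]
    exact Dvd.dvd.mul_right h _
  rw [A_eq_prod hF n m hmn, hrp.prime.dvd_finsetProd_iff] at h1
  obtain ⟨i, hi, hdvd⟩ := h1
  rw [Finset.mem_range] at hi
  refine ⟨n - i, by omega, by omega, ?_⟩
  rw [T_one hF] at hdvd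
  unfold eps
  have hq : ∀ k : ℕ, ¬ r ∣ q ^ k := fun k hk => hrq (hrp.dvd_of_dvd_pow hk)
  split_ifs at hdvd ⊢ with hev
  · exact (hrp.dvd_mul.mp hdvd).resolve_left (hq _)
  · exact (hrp.dvd_mul.mp hdvd).resolve_left (hq _)

end Cfsg.Agent.S5954P
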