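import Mathlib
import Cfsg.Prelude.Def_Classical
import Cfsg.Agent.Helper23.S5953Defs
import Cfsg.Agent.Helper20.S5954Defs
import Cfsg.Agent.Helper2.UnitaryCount

/-! S5954, piece WALLSTEPU: a unipotent isometry of a Hermitian space has a non-degenerate invariant
cyclic subspace inside every non-zero non-degenerate invariant subspace. -/

set_option autoImplicit false
open scoped MatrixGroups Matrix

universe u

namespace Cfsg.Agent.S5954P

open Polynomial Cfsg.Agent.S5953P Cfsg.Agent.Helper28.HW Cfsg.Agent.Helper28.HermFrame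
open Cfsg.Agent.S2644 Cfsg.Agent.Helper2.SUGen Cfsg.Agent.Helper28.UPair Cfsg.Agent.S5984P

namespace WALLSTEPU

section

variable {F V : Type*} [Field F] [AddCommGroup V] [Module F V] {σ : F →+* F}
  (B : V →ₛₗ[σ] V →ₗ[F] F) (y : Module.End F V) (hyB : ∀ u v, B (y u) (y v) = B u v)

include hyB

/-- the adjoint relation for `N = y - 1` -/
theorem rel1 (u v : V) : B ((y - 1) u) v = - B (y u) ((y - 1) v) := by
  rw [LinearMap.sub_apply, LinearMap.sub_apply, Module.End.one_apply, Module.End.one_apply,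
    map_sub, map_sub, LinearMap.sub_apply, hyB]
  ring

theorem rel (i : ℕ) (u v : V) :
    B (((y - 1) ^ i) u) v = (-1) ^ i * B ((y ^ i) u) (((y - 1) ^ i) v) := by
  induction i generalizing u v with
  | zero => simp
  | succ i ih =>
    have hcomm : Commute y (y - 1) := (Commute.refl y).sub_right (Commute.one_right y)
    have h1 : ((y - 1) ^ (i + 1)) u = ((y - 1) ^ i) ((y - 1) u) := by
      rw [pow_succ, Module.End.mul_apply]
    have h2 : (y ^ i) ((y - 1) u) = (y - 1) ((y ^ i) u) :=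
      LinearMap.congr_fun (hcomm.pow_left i).eq u
    rw [h1, ih, h2, rel1 B y hyB, pow_succ' y, pow_succ' (y - 1), Module.End.mul_apply,
      Module.End.mul_apply]
    ring

end

end WALLSTEPU

open WALLSTEPU in
/-- WALLSTEPU: a non-degenerate invariant cyclic subspace for a unipotent isometry -/
theorem exists_cyc_nd_u {F V : Type*} [Field F] [Fintype F] [AddCommGroup V] [Module F V]
    [FiniteDimensional F V] {q : ℕ} {σ : F →+* F} (B : V →ₛₗ[σ] V →ₗ[F] F) (hB : IsHerm q B)
    (y : Module.End F V) (hyB : ∀ u v, B (y u) (y v) = B u v) (k : ℕ) (hk : (y - 1) ^ k = 0)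
    (M : Submodule F V) (hM : M.map y ≤ M) (hMnd : NondegU B M) (hne : M ≠ ⊥) :
    ∃ E : Submodule F V, E ≤ M ∧ E ≠ ⊥ ∧ NondegU B E ∧ E.map y ≤ E ∧ IsCyc (y - 1) E := by
  classical
  obtain ⟨N, hN⟩ : ∃ N : Module.End F V, N = y - 1 := ⟨_, rfl⟩
  have hNy : ∀ u, N u = y u - u := fun u => by
    rw [hN, LinearMap.sub_apply, Module.End.one_apply]
  have hyN : ∀ u, y u = u + N u := fun u => by rw [hNy]; abel
  have hyM : ∀ u ∈ M, y u ∈ M := fun u hu => hM ⟨u, hu, rfl⟩
  have hNM : ∀ u ∈ M, N u ∈ M := fun u hu => by rw [hNy]; exact M.sub_mem (hyM u hu) hu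
  have hyMi : ∀ i : ℕ, ∀ u ∈ M, (y ^ i) u ∈ M := by
    intro i
    induction i with
    | zero => intro u hu; simpa using hu
    | succ i ih => intro u hu; rw [pow_succ', Module.End.mul_apply]; exact hyM _ (ih u hu)
  have hNMi : ∀ i : ℕ, ∀ u ∈ M, (N ^ i) u ∈ M := by
    intro i
    induction i with
    | zero => intro u hu; simpa using hu
    | succ i ih => intro u hu; rw [pow_succ', Module.End.mul_apply]; exact hNM _ (ih u hu)
  have R1 : ∀ u v, B (N u) v = - B (y u) (N v) := by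
    intro u v; rw [hN]; exact rel1 B y hyB u v
  have R2 : ∀ (i : ℕ) (u v : V), B ((N ^ i) u) v = (-1) ^ i * B ((y ^ i) u) ((N ^ i) v) := by
    intro i u v; rw [hN]; exact rel B y hyB i u v
  -- the nilpotency index on `M`
  have hex : ∃ e : ℕ, ∀ v ∈ M, (N ^ e) v = 0 := ⟨k, fun v _ => by rw [hN, hk]; rfl⟩
  obtain ⟨e, he, hmin⟩ : ∃ e : ℕ, (∀ v ∈ M, (N ^ e) v = 0) ∧
      ∀ e' < e, ¬ ∀ v ∈ M, (N ^ e') v = 0 :=
    ⟨Nat.find hex, Nat.find_spec hex, fun e' he' => Nat.find_min hex he'⟩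
  have he0 : e ≠ 0 := by
    rintro rfl
    apply hne
    rw [Submodule.eq_bot_iff]
    intro v hv
    simpa using he v hv
  obtain ⟨e', rfl⟩ := Nat.exists_eq_succ_of_ne_zero he0
  have hpow0 : ∀ t : ℕ, e' + 1 ≤ t → ∀ b ∈ M, (N ^ t) b = 0 := by
    intro t ht b hb
    obtain ⟨s, rfl⟩ := Nat.exists_eq_add_of_le ht
    rw [Nat.add_comm, pow_add, Module.End.mul_apply, he b hb, map_zero]
  obtain ⟨b₀, hb₀, hb₀ne⟩ : ∃ b ∈ M, (N ^ e') b ≠ 0 := by
    have := hmin e' (Nat.lt_succ_self e')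
    push Not at this
    exact this
  have F2 : ∀ a ∈ M, ∀ b ∈ M, B (y a) ((N ^ e') b) = B a ((N ^ e') b) := by
    intro a ha b hb
    rw [hyN a, map_add, LinearMap.add_apply, R1, ← Module.End.mul_apply N, ← pow_succ',
      he b hb, map_zero, neg_zero, add_zero]
  have F2i : ∀ i : ℕ, ∀ a ∈ M, ∀ b ∈ M, B ((y ^ i) a) ((N ^ e') b) = B a ((N ^ e') b) := by
    intro i
    induction i with
    | zero => intro a _ b _; simp
    | succ i ih =>
      intro a ha b hb
      rw [pow_succ', Module.End.mul_apply, F2 _ (hyMi i a ha) b hb, ih a ha b hb]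
  have F3 : ∀ i j : ℕ, e' + 1 ≤ i + j → ∀ a ∈ M, ∀ b ∈ M, B ((N ^ i) a) ((N ^ j) b) = 0 := by
    intro i j hij a ha b hb
    rw [R2, ← Module.End.mul_apply (N ^ i), ← pow_add, hpow0 _ hij b hb, map_zero, mul_zero]
  have F4 : ∀ i j : ℕ, i + j = e' → ∀ a ∈ M, ∀ b ∈ M,
      B ((N ^ i) a) ((N ^ j) b) = (-1) ^ i * B a ((N ^ e') b) := by
    intro i j hij a ha b hb
    rw [R2, ← Module.End.mul_apply (N ^ i), ← pow_add, hij, F2i i a ha b hb]
  have F5 : ∀ a ∈ M, ∀ b ∈ M, σ (B a ((N ^ e') b)) = (-1) ^ e' * B b ((N ^ e') a) := by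
    intro a ha b hb
    rw [hB.symm, R2, F2i e' b hb a ha]
  obtain ⟨v, hv, hvv⟩ : ∃ v ∈ M, B v ((N ^ e') v) ≠ 0 := by
    by_contra hcon
    push Not at hcon
    obtain ⟨a, ha, hwa⟩ := hMnd _ (hNMi e' b₀ hb₀) hb₀ne
    obtain ⟨t, ht⟩ : ∃ t, t = B a ((N ^ e') b₀) := ⟨_, rfl⟩
    have ht0 : t ≠ 0 := by
      intro h0
      apply hwa
      rw [← hB.symm, ← ht, h0, map_zero]
    have hsq : ((-1 : F) ^ e') * ((-1) ^ e') = 1 := by rw [← mul_pow]; simp
    have hε : ∀ c : F, c * t + (-1) ^ e' * σ (c * t) = 0 := by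
      intro c
      have h1 := hcon (a + c • b₀) (M.add_mem ha (M.smul_mem c hb₀))
      have h2 : B (a + c • b₀) ((N ^ e') (a + c • b₀)) =
          B a ((N ^ e') a) + c * B a ((N ^ e') b₀) + σ c * B b₀ ((N ^ e') a) +
            σ c * c * B b₀ ((N ^ e') b₀) := by
        simp only [map_add, map_smul, map_smulₛₗ, LinearMap.add_apply, LinearMap.smul_apply,
          smul_eq_mul]
        ring
      rw [h2, hcon a ha, hcon b₀ hb₀, ← ht] at h1
      have h3 := F5 a ha b₀ hb₀
      rw [← ht] at h3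
      rw [map_mul]
      linear_combination h1 + ((-1) ^ e' * σ c) * h3 + (σ c * B b₀ ((N ^ e') a)) * hsq
    have hε1 : (-1 : F) ^ e' = -1 := by
      have := hε t⁻¹
      rw [inv_mul_cancel₀ ht0, map_one, mul_one] at this
      linear_combination this
    apply hB.ne_id
    ext s
    have := hε (s * t⁻¹)
    rw [mul_assoc, inv_mul_cancel₀ ht0, mul_one, hε1] at this
    rw [RingHom.id_apply]
    linear_combination -this
  obtain ⟨E, hE⟩ : ∃ E : Submodule F V,
      E = Submodule.span F (Set.range fun a : ℕ => (N ^ a) v) := ⟨_, rfl⟩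
  have hgen : ∀ a : ℕ, (N ^ a) v ∈ E := fun a => by
    rw [hE]; exact Submodule.subset_span ⟨a, rfl⟩
  have hEM : E ≤ M := by
    rw [hE, Submodule.span_le]
    rintro _ ⟨a, rfl⟩
    exact hNMi a v hv
  have hv0 : v ≠ 0 := by
    rintro rfl
    apply hvv
    rw [map_zero, LinearMap.zero_apply]
  have hEne : E ≠ ⊥ := by
    intro h
    apply hv0
    have := hgen 0
    rw [h, Submodule.mem_bot] at this
    simpa using this
  have hEN : ∀ w ∈ E, N w ∈ E := by
    intro w hw
    rw [hE] at hw ⊢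
    induction hw using Submodule.span_induction with
    | mem w hw =>
      obtain ⟨a, rfl⟩ := hw
      show N ((N ^ a) v) ∈ _
      rw [← Module.End.mul_apply, ← pow_succ']
      exact Submodule.subset_span ⟨a + 1, rfl⟩
    | zero => rw [map_zero]; exact Submodule.zero_mem _
    | add a b _ _ ha hb => rw [map_add]; exact Submodule.add_mem _ ha hb
    | smul c a _ ha => rw [map_smul]; exact Submodule.smul_mem _ c ha
  have hEy : E.map y ≤ E := by
    rintro _ ⟨w, hw, rfl⟩
    rw [hyN]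
    exact E.add_mem hw (hEN w hw)
  have hEfin : ∀ m ∈ E, ∃ c : Fin (e' + 1) → F, m = ∑ a, c a • (N ^ (a : ℕ)) v := by
    intro m hm
    have hle : E ≤ Submodule.span F (Set.range fun a : Fin (e' + 1) => (N ^ (a : ℕ)) v) := by
      rw [hE, Submodule.span_le]
      rintro _ ⟨a, rfl⟩
      by_cases ha : a < e' + 1
      · exact Submodule.subset_span ⟨⟨a, ha⟩, rfl⟩
      · show (N ^ a) v ∈ _
        rw [hpow0 a (by omega) v hv]
        exact Submodule.zero_mem _
    obtain ⟨c, hc⟩ := (Submodule.mem_span_range_iff_exists_fun F).mp (hle hm)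
    exact ⟨c, hc.symm⟩
  have hEnd : NondegU B E := by
    intro m hm hm0
    obtain ⟨c, rfl⟩ := hEfin m hm
    have hex : ∃ a, c a ≠ 0 := by
      by_contra hcon
      push Not at hcon
      apply hm0
      apply Finset.sum_eq_zero
      intro a _
      rw [hcon a, zero_smul]
    obtain ⟨i₀, hi₀, hmin⟩ : ∃ i₀ : Fin (e' + 1), c i₀ ≠ 0 ∧ ∀ a, a < i₀ → c a = 0 := by
      have hS : (Finset.univ.filter fun a => c a ≠ 0).Nonempty := by
        obtain ⟨a, ha⟩ := hex
        exact ⟨a, by simp [ha]⟩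
      refine ⟨(Finset.univ.filter fun a => c a ≠ 0).min' hS, ?_, ?_⟩
      · have := Finset.min'_mem _ hS
        simpa using this
      · intro a ha
        by_contra hca
        have : a ∈ Finset.univ.filter fun a => c a ≠ 0 := by simp [hca]
        exact absurd (Finset.min'_le _ a this) (not_le.mpr ha)
    refine ⟨(N ^ (e' - (i₀ : ℕ))) v, hgen _, ?_⟩
    rw [map_sum, LinearMap.sum_apply, Finset.sum_eq_single i₀]
    · rw [map_smulₛₗ, LinearMap.smul_apply, smul_eq_mul,
        F4 i₀ (e' - i₀) (by have := i₀.2; omega) v hv v hv]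
      refine mul_ne_zero ?_ (mul_ne_zero (pow_ne_zero _ (neg_ne_zero.mpr one_ne_zero)) hvv)
      intro h
      apply hi₀
      rw [← hB.invol (c i₀), h, map_zero]
    · intro a _ hai
      rw [map_smulₛₗ, LinearMap.smul_apply, smul_eq_mul]
      rcases lt_or_gt_of_ne hai with h | h
      · rw [hmin a h, map_zero, zero_mul]
      · rw [F3 a (e' - i₀) (by have := Fin.lt_def.mp h; have := i₀.2; omega) v hv v hv, mul_zero]
    · intro h
      exact absurd (Finset.mem_univ _) h
  exact ⟨E, hEM, hEne, hEnd, hEy, ⟨v, by rw [hE, hN]⟩⟩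

end Cfsg.Agent.S5954P
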