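import Mathlib
import Cfsg.Prelude.Def_PLocal
import Cfsg.Agent.Helper28.S2768Defs
import Cfsg.Agent.Helper28.S2768AF
import Cfsg.Agent.Helper14.PCore
import Cfsg.Agent.Helper1.S2768VF1
import Cfsg.Agent.Helper6.S2768CASE2A

/-! S2768 piece SJQ (blueprint 5.8): `S = J Q`, `G = G₁ Q`, `B = J R`, `W ∩ V = Z(S)`, `[W,S] = [W,Q]`. -/

set_option autoImplicit false
set_option linter.style.haveILetI false

namespace Cfsg.Agent.S2768P

open Subgroup
open scoped commutatorElement

variable {G : Type*} [Group G]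

/-- a subgroup all of whose elements conjugate `H` into itself normalises `H` -/
theorem SJQ_aux_le_normalizer (K H : Subgroup G) (h : ∀ g ∈ K, ∀ x ∈ H, g * x * g⁻¹ ∈ H) :
    K ≤ normalizer (H : Set G) := by
  intro g hg
  rw [mem_normalizer_iff]
  intro x
  constructor
  · exact h g hg x
  · intro hx
    have := h g⁻¹ (K.inv_mem hg) _ hx
    have e : g⁻¹ * (g * x * g⁻¹) * g⁻¹⁻¹ = x := by group
    rwa [e] at this

/-- an element of the normaliser of `T` fixes `T` under `cj` -/
theorem SJQ_aux_cj_eq (T : Subgroup G) (n : G) (hn : n ∈ normalizer (T : Set G)) : cj n T = T := by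
  ext x
  rw [AF1_aux_mem_cj]
  have hn' : n⁻¹ ∈ normalizer (T : Set G) := (normalizer (T : Set G)).inv_mem hn
  rw [mem_normalizer_iff] at hn'
  have := hn' x
  rw [inv_inv] at this
  exact this.symm

variable [Finite G] {p : ℕ} [Fact p.Prime]

/-- the normaliser of `S` normalises `J(S)` and `W` -/
theorem SJQ_aux_norm (S : Subgroup G) (n : G) (hn : n ∈ normalizer (S : Set G)) :
    (∀ x ∈ J S, n * x * n⁻¹ ∈ J S) ∧ (∀ x ∈ W S, n * x * n⁻¹ ∈ W S) := by
  obtain ⟨-, -, -, -, hJS, -, -⟩ := AF2 S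
  have hcj := SJQ_aux_cj_eq S n hn
  obtain ⟨h1, h2, -⟩ := AF3 S S hJS le_rfl n hcj
  constructor
  · intro x hx
    rw [← h1, AF1_aux_mem_cj]
    have e : n⁻¹ * (n * x * n⁻¹) * n = x := by group
    rw [e]; exact hx
  · intro x hx
    rw [← h2, AF1_aux_mem_cj]
    have e : n⁻¹ * (n * x * n⁻¹) * n = x := by group
    rw [e]; exact hx

theorem SJQ (S : Sylow p G) (M : Subgroup G) (hc : Ctx p S M) :
    J (S : Subgroup G) ⊔ Cfsg.pCore p G = (S : Subgroup G) ∧
    G₁ (S : Subgroup G) ⊔ Cfsg.pCore p G = ⊤ ∧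
    B (S : Subgroup G) = J (S : Subgroup G) ⊔ R p (S : Subgroup G) ∧
    W (S : Subgroup G) ⊓ V (S : Subgroup G) = Z (S : Subgroup G) ∧
    ⁅W (S : Subgroup G), (S : Subgroup G)⁆ = ⁅W (S : Subgroup G), Cfsg.pCore p G⁆ := by
  have hb := hc.basic
  obtain ⟨hVQ, hQV, -, -⟩ := VF1 S M hb
  obtain ⟨-, -, hZW, hWJ, hJS, hJB, -⟩ := AF2 (S : Subgroup G)
  haveI hQn : (Cfsg.pCore p G).Normal := Cfsg.Agent.Helper14.pCore_normal p
  obtain ⟨g₀, hg₀⟩ : ∃ g : G, g ∉ M := by
    by_contra hcon
    push Not at hcon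
    exact hb.M_ne_top (eq_top_iff.mpr fun x _ => hcon x)
  have hQS : Cfsg.pCore p G ≤ (S : Subgroup G) := by
    have h0 := hb.lemmaA g₀ hg₀
    rw [← h0]; exact inf_le_left
  have hWc : W (S : Subgroup G) ≤ centralizer (J (S : Subgroup G) : Set G) := by
    unfold W Cfsg.centerThompsonAOf J
    exact inf_le_right
  -- (a)
  have ha : J (S : Subgroup G) ⊔ Cfsg.pCore p G = (S : Subgroup G) := by
    apply hc.irr _ le_sup_right (sup_le hJS hQS)
    · intro heq
      apply hc.hJ
      rw [← heq]; exact le_sup_left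
    · apply SJQ_aux_le_normalizer
      intro n hn
      have hle : J (S : Subgroup G) ⊔ Cfsg.pCore p G ≤
          (J (S : Subgroup G) ⊔ Cfsg.pCore p G).comap (MulAut.conj n).toMonoidHom := by
        apply sup_le
        · intro x hx
          rw [Subgroup.mem_comap]
          show n * x * n⁻¹ ∈ _
          exact (le_sup_left : J (S : Subgroup G) ≤ _) ((SJQ_aux_norm (S : Subgroup G) n hn).1 x hx)
        · intro x hx
          rw [Subgroup.mem_comap]
          show n * x * n⁻¹ ∈ _
          exact (le_sup_right : Cfsg.pCore p G ≤ _) (hQn.conj_mem x hx n)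
      intro x hx
      exact hle hx
  -- (b)
  have hb' : G₁ (S : Subgroup G) ⊔ Cfsg.pCore p G = ⊤ := by
    haveI : (G₁ (S : Subgroup G)).Normal := by unfold G₁; exact Subgroup.normalClosure_normal
    have hn : (G₁ (S : Subgroup G) ⊔ Cfsg.pCore p G).Normal := Subgroup.sup_normal _ _
    apply CASE2A_aux_eq_top S M hb _ hn
    have h1 : J (S : Subgroup G) ≤ G₁ (S : Subgroup G) := by
      unfold G₁; exact Subgroup.le_normalClosure
    exact ha.ge.trans (sup_le_sup h1 le_rfl)
  -- `S` normalises `W`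
  have hSW : ∀ s ∈ (S : Subgroup G), ∀ w ∈ W (S : Subgroup G), s * w * s⁻¹ ∈ W (S : Subgroup G) := by
    intro s hs w hw
    exact (SJQ_aux_norm (S : Subgroup G) s (Subgroup.le_normalizer hs)).2 w hw
  -- elements of `S` as products
  have hprod : ∀ s ∈ (S : Subgroup G), ∃ j ∈ J (S : Subgroup G), ∃ q ∈ Cfsg.pCore p G, s = j * q := by
    intro s hs
    have hs' : s ∈ ((J (S : Subgroup G) ⊔ Cfsg.pCore p G : Subgroup G) : Set G) := by
      rw [ha]; exact hs
    rw [Subgroup.mul_normal] at hs'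
    obtain ⟨j, hj, q, hq, rfl⟩ := hs'
    exact ⟨j, hj, q, hq, rfl⟩
  -- (c)
  have hcc : B (S : Subgroup G) = J (S : Subgroup G) ⊔ R p (S : Subgroup G) := by
    apply le_antisymm
    · intro x hx
      have hxS : x ∈ (S : Subgroup G) := hx.1
      have hxW : x ∈ centralizer (W (S : Subgroup G) : Set G) := hx.2
      obtain ⟨j, hj, q, hq, rfl⟩ := hprod x hxS
      have hjW : j ∈ centralizer (W (S : Subgroup G) : Set G) := (hJB hj).2
      have hqW : q ∈ centralizer (W (S : Subgroup G) : Set G) := by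
        have := (centralizer (W (S : Subgroup G) : Set G)).mul_mem
          ((centralizer (W (S : Subgroup G) : Set G)).inv_mem hjW) hxW
        simpa using this
      exact Subgroup.mul_mem_sup hj (Subgroup.mem_inf.mpr ⟨hq, hqW⟩)
    · apply sup_le hJB
      unfold R B
      exact inf_le_inf hQS le_rfl
  -- (d)
  have hd : W (S : Subgroup G) ⊓ V (S : Subgroup G) = Z (S : Subgroup G) := by
    apply le_antisymm
    · intro x hx
      have hxW : x ∈ W (S : Subgroup G) := hx.1
      have hxV : x ∈ V (S : Subgroup G) := hx.2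
      refine Subgroup.mem_inf.mpr ⟨hJS (hWJ hxW), ?_⟩
      rw [mem_centralizer_iff]
      intro s hs
      obtain ⟨j, hj, q, hq, rfl⟩ := hprod s hs
      have h1 : j * x = x * j := mem_centralizer_iff.mp (hWc hxW) j hj
      have h2 : q * x = x * q := (mem_centralizer_iff.mp (hQV hq) x hxV).symm
      calc j * q * x = j * (q * x) := by group
        _ = j * (x * q) := by rw [h2]
        _ = (j * x) * q := by group
        _ = x * j * q := by rw [h1]
        _ = x * (j * q) := by group
    · apply le_inf hZW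
      unfold V
      exact Subgroup.le_normalClosure
  -- (e)
  have he : ⁅W (S : Subgroup G), (S : Subgroup G)⁆ = ⁅W (S : Subgroup G), Cfsg.pCore p G⁆ := by
    apply le_antisymm
    · rw [Subgroup.commutator_le]
      intro w hw s hs
      obtain ⟨j, hj, q, hq, rfl⟩ := hprod s hs
      have hw' : q * w⁻¹ * q⁻¹ ∈ W (S : Subgroup G) :=
        hSW q (hQS hq) w⁻¹ ((W (S : Subgroup G)).inv_mem hw)
      have h1 : j * (q * w⁻¹ * q⁻¹) = (q * w⁻¹ * q⁻¹) * j := mem_centralizer_iff.mp (hWc hw') j hj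
      have e : ⁅w, j * q⁆ = ⁅w, q⁆ := by
        rw [commutatorElement_def, commutatorElement_def]
        calc w * (j * q) * w⁻¹ * (j * q)⁻¹ = w * (j * (q * w⁻¹ * q⁻¹)) * j⁻¹ := by group
          _ = w * ((q * w⁻¹ * q⁻¹) * j) * j⁻¹ := by rw [h1]
          _ = w * q * w⁻¹ * q⁻¹ := by group
      rw [e]
      exact Subgroup.commutator_mem_commutator hw hq
    · exact Subgroup.commutator_mono le_rfl hQS
  exact ⟨ha, hb', hcc, hd, he⟩

end Cfsg.Agent.S2768P
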