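import Mathlib
import Cfsg.Prelude.Def_PLocal
import Cfsg.Agent.Helper28.S2768Defs
import Cfsg.Agent.Helper28.S2768AF
import Cfsg.Agent.Helper26.Basic
import Cfsg.Agent.Helper1.S2768VF1
import Cfsg.Agent.Helper3.S2768NOO

/-! S2768 piece FF (blueprint 5.6): `C_V(A) = V ∩ A` and `V (A ∩ Q) ∈ 𝒜(S)` for `A ∈ 𝒜(S)`. -/

set_option autoImplicit false
set_option linter.style.haveILetI false

namespace Cfsg.Agent.S2768P

open Subgroup

variable {G : Type*} [Group G] [Finite G] {p : ℕ} [Fact p.Prime]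

theorem FF (S : Sylow p G) (M : Subgroup G) (hb : Basic p S M)
    (hZ : ¬ (Z (S : Subgroup G)).Normal) (A : Subgroup G) (hA : A ∈ 𝒜 (S : Subgroup G)) :
    V (S : Subgroup G) ⊓ centralizer (A : Set G) = V (S : Subgroup G) ⊓ A ∧
      V (S : Subgroup G) ⊔ (A ⊓ Cfsg.pCore p G) ∈ 𝒜 (S : Subgroup G) := by
  obtain ⟨hVQ, hQV, -, -⟩ := VF1 S M hb
  obtain ⟨g, hg⟩ : ∃ g : G, g ∉ M := by
    by_contra hcon
    push Not at hcon
    exact hb.M_ne_top (eq_top_iff.mpr fun x _ => hcon x)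
  have hQS : Cfsg.pCore p G ≤ (S : Subgroup G) := by
    have h0 := hb.lemmaA g hg
    rw [← h0]; exact inf_le_left
  obtain ⟨hAS, hAc, hmax⟩ := hA
  have hnoo := NOO S M hb hZ A hAS
  haveI hVn : (V (S : Subgroup G)).Normal := by
    unfold V; exact Subgroup.normalClosure_normal
  -- `V` abelian
  have hVc : ∀ a ∈ V (S : Subgroup G), ∀ b ∈ V (S : Subgroup G), a * b = b * a := by
    intro a ha b hb'
    exact (mem_centralizer_iff.mp (hQV (hVQ ha)) b hb').symm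
  -- `F` abelian, inside `S`
  have hFS : V (S : Subgroup G) ⊔ (A ⊓ Cfsg.pCore p G) ≤ (S : Subgroup G) :=
    sup_le (hVQ.trans hQS) (inf_le_left.trans hAS)
  have hFc : ∀ x ∈ V (S : Subgroup G) ⊔ (A ⊓ Cfsg.pCore p G),
      ∀ y ∈ V (S : Subgroup G) ⊔ (A ⊓ Cfsg.pCore p G), x * y = y * x := by
    apply AF1_aux_sup_comm hVc
    · intro a ha b hb'
      exact hAc a ha.1 b hb'.1
    · intro v hv a ha
      exact (mem_centralizer_iff.mp (hQV ha.2) v hv)
  have hle := hmax _ hFS hFc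
  -- product formula
  have hprod : Nat.card ↥(V (S : Subgroup G) ⊔ (A ⊓ Cfsg.pCore p G)) *
      Nat.card ↥(V (S : Subgroup G) ⊓ A) =
      Nat.card ↥(V (S : Subgroup G)) * Nat.card ↥(A ⊓ Cfsg.pCore p G) := by
    have h1 := Cfsg.Agent.Helper26.card_sup_mul_card_inf
      (H := A ⊓ Cfsg.pCore p G) (N := V (S : Subgroup G)) (by
        rw [Subgroup.normalizer_eq_top]; exact le_top)
    have e1 : (A ⊓ Cfsg.pCore p G) ⊓ V (S : Subgroup G) = V (S : Subgroup G) ⊓ A := by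
      rw [inf_assoc, inf_eq_right.mpr hVQ, inf_comm]
    rw [e1, sup_comm] at h1
    rw [h1, mul_comm]
  -- `V ∩ A ≤ C_V(A)`
  have hle2 : V (S : Subgroup G) ⊓ A ≤ V (S : Subgroup G) ⊓ centralizer (A : Set G) := by
    intro x hx
    have hx1 : x ∈ V (S : Subgroup G) := hx.1
    have hx2 : x ∈ A := hx.2
    refine Subgroup.mem_inf.mpr ⟨hx1, ?_⟩
    rw [mem_centralizer_iff]
    intro a ha
    exact hAc a ha x hx2
  have hc2 : Nat.card ↥(V (S : Subgroup G) ⊓ A) ≤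
      Nat.card ↥(V (S : Subgroup G) ⊓ centralizer (A : Set G)) :=
    Subgroup.card_le_of_le hle2
  have hposA : 0 < Nat.card ↥A := Nat.card_pos
  have hposVA : 0 < Nat.card ↥(V (S : Subgroup G) ⊓ A) := Nat.card_pos
  -- the chain of inequalities
  have hchain : Nat.card ↥A * Nat.card ↥(V (S : Subgroup G) ⊓ centralizer (A : Set G)) ≤
      Nat.card ↥(V (S : Subgroup G) ⊔ (A ⊓ Cfsg.pCore p G)) * Nat.card ↥(V (S : Subgroup G) ⊓ A) := by
    rw [hprod]; exact hnoo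
  have hcard1 : Nat.card ↥(V (S : Subgroup G) ⊓ centralizer (A : Set G)) ≤
      Nat.card ↥(V (S : Subgroup G) ⊓ A) := by
    have h2 : Nat.card ↥A * Nat.card ↥(V (S : Subgroup G) ⊓ centralizer (A : Set G)) ≤
        Nat.card ↥A * Nat.card ↥(V (S : Subgroup G) ⊓ A) :=
      hchain.trans (Nat.mul_le_mul_right _ hle)
    exact Nat.le_of_mul_le_mul_left h2 hposA
  have hcard2 : Nat.card ↥A ≤ Nat.card ↥(V (S : Subgroup G) ⊔ (A ⊓ Cfsg.pCore p G)) := by
    have h2 : Nat.card ↥A * Nat.card ↥(V (S : Subgroup G) ⊓ A) ≤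
        Nat.card ↥(V (S : Subgroup G) ⊔ (A ⊓ Cfsg.pCore p G)) * Nat.card ↥(V (S : Subgroup G) ⊓ A) :=
      (Nat.mul_le_mul_left _ hc2).trans hchain
    exact Nat.le_of_mul_le_mul_right h2 hposVA
  refine ⟨?_, hFS, hFc, ?_⟩
  · exact (Subgroup.eq_of_le_of_card_ge hle2 hcard1).symm
  · intro Y hY hYc
    exact (hmax Y hY hYc).trans hcard2

end Cfsg.Agent.S2768P
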