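import Mathlib
import Cfsg.Prelude.Def_PLocal
import Cfsg.Agent.Helper28.S2768Defs
import Cfsg.Agent.Helper28.S2768AF
import Cfsg.Agent.Helper14.PCore
import Cfsg.Agent.Helper1.S2768VF1
import Cfsg.Agent.Helper28.S2768FF

/-! S2768 pieces UQA, UQB (blueprint 5.7): the normal abelian subgroup `U_Q = Z(J_Q)`. -/

set_option autoImplicit false
set_option linter.style.haveILetI false

namespace Cfsg.Agent.S2768P

open Subgroup
open scoped commutatorElement

variable {G : Type*} [Group G] [Finite G] {p : ℕ} [Fact p.Prime]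

omit [Finite G] in
/-- `O_p(G) ≤ S` -/
theorem UQA_aux_Q_le_S (S : Sylow p G) (M : Subgroup G) (hb : Basic p S M) :
    Cfsg.pCore p G ≤ (S : Subgroup G) := by
  obtain ⟨g, hg⟩ : ∃ g : G, g ∉ M := by
    by_contra hcon
    push Not at hcon
    exact hb.M_ne_top (eq_top_iff.mpr fun x _ => hcon x)
  have h0 := hb.lemmaA g hg
  rw [← h0]; exact inf_le_left

omit [Finite G] in
/-- conjugation preserves the family generating `J_Q` -/
theorem UQA_aux_fam (S : Sylow p G) (M : Subgroup G) (hb : Basic p S M) (g : G) (A : Subgroup G)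
    (hA : A ∈ 𝒜 (S : Subgroup G)) (hAQ : A ≤ Cfsg.pCore p G) :
    cj g A ∈ 𝒜 (S : Subgroup G) ∧ cj g A ≤ Cfsg.pCore p G := by
  have hQS := UQA_aux_Q_le_S S M hb
  have hQn : (Cfsg.pCore p G).Normal := Cfsg.Agent.Helper14.pCore_normal p
  have h1 : cj g A ≤ Cfsg.pCore p G := by
    intro x hx
    rw [AF1_aux_mem_cj] at hx
    have := hQn.conj_mem _ (hAQ hx) g
    simpa [mul_assoc] using this
  obtain ⟨hAS, hAc, hmax⟩ := hA
  refine ⟨⟨h1.trans hQS, ?_, ?_⟩, h1⟩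
  · intro x hx y hy
    rw [AF1_aux_mem_cj] at hx hy
    have := hAc _ hx _ hy
    have e1 : x * y = g * ((g⁻¹ * x * g) * (g⁻¹ * y * g)) * g⁻¹ := by group
    have e2 : y * x = g * ((g⁻¹ * y * g) * (g⁻¹ * x * g)) * g⁻¹ := by group
    rw [e1, e2, this]
  · intro Y hY hYc
    have h2 : Nat.card ↥(cj g A) = Nat.card ↥A := by
      unfold cj
      exact Nat.card_congr (A.equivMapOfInjective _ (MulAut.conj g).injective).toEquiv.symm
    rw [h2]
    exact hmax Y hY hYc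

omit [Finite G] in
theorem UQA_aux_JQ_normal (S : Sylow p G) (M : Subgroup G) (hb : Basic p S M) :
    (JQ p (S : Subgroup G)).Normal := by
  constructor
  intro n hn g
  have key : cj g (JQ p (S : Subgroup G)) ≤ JQ p (S : Subgroup G) := by
    unfold cj
    rw [Subgroup.map_le_iff_le_comap]
    unfold JQ
    apply sSup_le
    rintro A ⟨hA, hAQ⟩
    rw [← Subgroup.map_le_iff_le_comap]
    obtain ⟨h1, h2⟩ := UQA_aux_fam S M hb g A hA hAQ
    exact le_sSup ⟨h1, h2⟩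
  apply key
  rw [AF1_aux_mem_cj]
  simpa [mul_assoc] using hn

theorem UQA (S : Sylow p G) (M : Subgroup G) (hb : Basic p S M)
    (hZ : ¬ (Z (S : Subgroup G)).Normal) :
    (JQ p (S : Subgroup G)).Normal ∧ (UQ p (S : Subgroup G)).Normal ∧
    JQ p (S : Subgroup G) ≤ Cfsg.pCore p G ∧ JQ p (S : Subgroup G) ≤ J (S : Subgroup G) ∧
    (∀ a ∈ UQ p (S : Subgroup G), ∀ b ∈ UQ p (S : Subgroup G), a * b = b * a) ∧
    V (S : Subgroup G) ≤ UQ p (S : Subgroup G) ∧ W (S : Subgroup G) ≤ UQ p (S : Subgroup G) ∧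
    ∀ A ∈ 𝒜 (S : Subgroup G), UQ p (S : Subgroup G) ≤ V (S : Subgroup G) ⊔ (A ⊓ Cfsg.pCore p G) := by
  have hQS := UQA_aux_Q_le_S S M hb
  obtain ⟨hVQ, hQV, -, -⟩ := VF1 S M hb
  obtain ⟨hJ, ⟨A₀, hA₀⟩, -, hWJ, hJS, -, hall⟩ := AF2 (S : Subgroup G)
  have hJQn := UQA_aux_JQ_normal S M hb
  have hJQQ : JQ p (S : Subgroup G) ≤ Cfsg.pCore p G := by
    unfold JQ
    exact sSup_le fun A hA => hA.2
  have hJQJ : JQ p (S : Subgroup G) ≤ J (S : Subgroup G) := by
    unfold JQ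
    exact sSup_le fun A hA => (hall A hA.1).2
  have hUQn : (UQ p (S : Subgroup G)).Normal := by
    unfold UQ
    haveI := hJQn
    exact Subgroup.normal_inf_normal _ _
  have hUQc : ∀ a ∈ UQ p (S : Subgroup G), ∀ b ∈ UQ p (S : Subgroup G), a * b = b * a := by
    intro a ha b hb
    exact mem_centralizer_iff.mp hb.2 a ha.1
  -- the members `F_A` of the family
  have hF : ∀ A ∈ 𝒜 (S : Subgroup G),
      V (S : Subgroup G) ⊔ (A ⊓ Cfsg.pCore p G) ∈ 𝒜 (S : Subgroup G) ∧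
      V (S : Subgroup G) ⊔ (A ⊓ Cfsg.pCore p G) ≤ JQ p (S : Subgroup G) := by
    intro A hA
    have h1 := (FF S M hb hZ A hA).2
    refine ⟨h1, ?_⟩
    unfold JQ
    exact le_sSup ⟨h1, sup_le hVQ inf_le_right⟩
  have hVJQ : V (S : Subgroup G) ≤ JQ p (S : Subgroup G) := le_sup_left.trans (hF A₀ hA₀).2
  have hVc : V (S : Subgroup G) ≤ centralizer (JQ p (S : Subgroup G) : Set G) := by
    intro v hv
    rw [mem_centralizer_iff]
    intro y hy
    exact (mem_centralizer_iff.mp (hQV (hJQQ hy)) v hv).symm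
  have hVUQ : V (S : Subgroup G) ≤ UQ p (S : Subgroup G) := le_inf hVJQ hVc
  have hWc : W (S : Subgroup G) ≤ centralizer (J (S : Subgroup G) : Set G) := by
    unfold W Cfsg.centerThompsonAOf J
    exact inf_le_right
  have hWUQ : W (S : Subgroup G) ≤ UQ p (S : Subgroup G) := by
    refine le_inf ?_ ?_
    · exact ((hall _ (hF A₀ hA₀).1).1).trans (hF A₀ hA₀).2
    · exact hWc.trans (Subgroup.centralizer_le hJQJ)
  refine ⟨hJQn, hUQn, hJQQ, hJQJ, hUQc, hVUQ, hWUQ, ?_⟩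
  intro A hA
  obtain ⟨hFA, hFJQ⟩ := hF A hA
  apply AF1 hFA ((inf_le_left.trans hJQQ).trans hQS) hUQc
  intro e he a ha
  exact (mem_centralizer_iff.mp he.2 a (hFJQ ha)).symm

theorem UQB (S : Sylow p G) (M : Subgroup G) (hb : Basic p S M)
    (hZ : ¬ (Z (S : Subgroup G)).Normal) :
    (∀ A ∈ 𝒜 (S : Subgroup G), ⁅UQ p (S : Subgroup G), A⁆ ≤ V (S : Subgroup G)) ∧
    ⁅UQ p (S : Subgroup G), G₁ (S : Subgroup G)⁆ ≤ V (S : Subgroup G) ∧
    W (S : Subgroup G) = UQ p (S : Subgroup G) ⊓ centralizer (J (S : Subgroup G) : Set G) := by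
  obtain ⟨hJQn, hUQn, hJQQ, hJQJ, hUQc, hVUQ, hWUQ, hUF⟩ := UQA S M hb hZ
  obtain ⟨hJ, -, -, hWJ, hJS, -, hall⟩ := AF2 (S : Subgroup G)
  haveI hVn : (V (S : Subgroup G)).Normal := by
    unfold V; exact Subgroup.normalClosure_normal
  -- (e)
  have he : ∀ A ∈ 𝒜 (S : Subgroup G), ∀ u ∈ UQ p (S : Subgroup G), ∀ a ∈ A,
      ⁅u, a⁆ ∈ V (S : Subgroup G) := by
    intro A hA u hu a ha
    have hu' : u ∈ ((V (S : Subgroup G) ⊔ (A ⊓ Cfsg.pCore p G) : Subgroup G) : Set G) := hUF A hA hu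
    rw [Subgroup.normal_mul] at hu'
    obtain ⟨v, hv, a₀, ha₀, rfl⟩ := hu'
    have hcomm : a₀ * a = a * a₀ := hA.2.1 a₀ ha₀.1 a ha
    have e : ⁅v * a₀, a⁆ = v * (a * v⁻¹ * a⁻¹) := by
      rw [commutatorElement_def]
      have e2 : a₀ * a * a₀⁻¹ = a := by rw [hcomm]; group
      calc v * a₀ * a * (v * a₀)⁻¹ * a⁻¹ = v * (a₀ * a * a₀⁻¹) * v⁻¹ * a⁻¹ := by group
        _ = v * a * v⁻¹ * a⁻¹ := by rw [e2]
        _ = v * (a * v⁻¹ * a⁻¹) := by group
    rw [e]
    exact (V (S : Subgroup G)).mul_mem hv (hVn.conj_mem _ ((V (S : Subgroup G)).inv_mem hv) a)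
  have he' : ∀ A ∈ 𝒜 (S : Subgroup G), ⁅UQ p (S : Subgroup G), A⁆ ≤ V (S : Subgroup G) := by
    intro A hA
    rw [Subgroup.commutator_le]
    exact he A hA
  -- (f): the normal subgroup `N₁`
  let φ := QuotientGroup.mk' (V (S : Subgroup G))
  haveI hUn' : ((UQ p (S : Subgroup G)).map φ).Normal :=
    Subgroup.Normal.map hUQn φ (QuotientGroup.mk'_surjective _)
  let N₁ : Subgroup G := (centralizer (((UQ p (S : Subgroup G)).map φ : Subgroup _) : Set _)).comap φ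
  haveI hN₁ : N₁.Normal := Subgroup.Normal.comap Subgroup.normal_centralizer φ
  have hmemN₁ : ∀ x : G, x ∈ N₁ ↔ ∀ u ∈ UQ p (S : Subgroup G), ⁅u, x⁆ ∈ V (S : Subgroup G) := by
    intro x
    constructor
    · intro hx u hu
      have h1 : φ x ∈ centralizer (((UQ p (S : Subgroup G)).map φ : Subgroup _) : Set _) := hx
      have h2 := mem_centralizer_iff.mp h1 (φ u) ⟨u, hu, rfl⟩
      have h3 : φ ⁅u, x⁆ = 1 := by
        rw [commutatorElement_def]
        simp only [map_mul, map_inv]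
        rw [h2]; group
      exact (QuotientGroup.eq_one_iff _).mp h3
    · intro h
      show φ x ∈ centralizer (((UQ p (S : Subgroup G)).map φ : Subgroup _) : Set _)
      rw [mem_centralizer_iff]
      rintro _ ⟨u, hu, rfl⟩
      have h3 : φ ⁅u, x⁆ = 1 := (QuotientGroup.eq_one_iff _).mpr (h u hu)
      rw [commutatorElement_def] at h3
      simp only [map_mul, map_inv] at h3
      calc φ u * φ x = (φ u * φ x * (φ u)⁻¹ * (φ x)⁻¹) * φ x * φ u := by group
        _ = φ x * φ u := by rw [h3, one_mul]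
  have hJN₁ : J (S : Subgroup G) ≤ N₁ := by
    rw [hJ]
    apply sSup_le
    intro A hA a ha
    rw [hmemN₁]
    intro u hu
    exact he A hA u hu a ha
  have hG₁N₁ : G₁ (S : Subgroup G) ≤ N₁ := by
    unfold G₁
    exact Subgroup.normalClosure_le_normal hJN₁
  have hf : ⁅UQ p (S : Subgroup G), G₁ (S : Subgroup G)⁆ ≤ V (S : Subgroup G) := by
    rw [Subgroup.commutator_le]
    intro u hu x hx
    exact (hmemN₁ x).mp (hG₁N₁ hx) u hu
  refine ⟨he', hf, ?_⟩
  -- (g)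
  have hWc : W (S : Subgroup G) ≤ centralizer (J (S : Subgroup G) : Set G) := by
    unfold W Cfsg.centerThompsonAOf J
    exact inf_le_right
  apply le_antisymm (le_inf hWUQ hWc)
  rintro u ⟨hu1, hu2⟩
  exact ⟨hJQJ hu1.1, hu2⟩

end Cfsg.Agent.S2768P
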