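import Mathlib
import Cfsg.Prelude.Def_PLocal
import Cfsg.Agent.Helper28.S2768Defs
import Cfsg.Agent.Helper28.S2768AF
import Cfsg.Agent.Helper14.PCore
import Cfsg.Agent.Helper1.S2768VF1
import Cfsg.Agent.Helper28.S2768UQ
import Cfsg.Agent.Helper28.S2768SJQ

/-! S2768 piece DWV (blueprint 5.9, 5.10): `⟨W^G⟩ = W V`, `R = C_Q(W V)` is normal,
`[W,S] = [W V, Q]` is normal and lies in `W`. -/

set_option autoImplicit false
set_option linter.style.haveILetI false

namespace Cfsg.Agent.S2768P

open Subgroup
open scoped commutatorElement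

variable {G : Type*} [Group G]

/-- a subgroup all of whose elements conjugate `H` into itself normalises `H` -/
theorem DWV_aux_le_normalizer (K H : Subgroup G) (h : ∀ g ∈ K, ∀ x ∈ H, g * x * g⁻¹ ∈ H) :
    K ≤ normalizer (H : Set G) := by
  intro g hg
  rw [mem_normalizer_iff]
  intro x
  constructor
  · exact h g hg x
  · intro hx
    have := h g⁻¹ (K.inv_mem hg) _ hx
    have e : g⁻¹ * (g * x * g⁻¹) * g⁻¹⁻¹ = x := by group
    rwa [e] at this

variable [Finite G] {p : ℕ} [Fact p.Prime]

theorem DWV (S : Sylow p G) (M : Subgroup G) (hc : Ctx p S M) :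
    normalClosure (W (S : Subgroup G) : Set G) = W (S : Subgroup G) ⊔ V (S : Subgroup G) ∧
    R p (S : Subgroup G) =
      Cfsg.pCore p G ⊓ centralizer ((W (S : Subgroup G) ⊔ V (S : Subgroup G) : Subgroup G) : Set G) ∧
    (R p (S : Subgroup G)).Normal ∧
    ⁅W (S : Subgroup G), (S : Subgroup G)⁆ =
      ⁅W (S : Subgroup G) ⊔ V (S : Subgroup G), Cfsg.pCore p G⁆ ∧
    (⁅W (S : Subgroup G), (S : Subgroup G)⁆).Normal ∧
    ⁅W (S : Subgroup G), (S : Subgroup G)⁆ ≤ W (S : Subgroup G) := by
  have hb := hc.basic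
  obtain ⟨hVQ, hQV, -, -⟩ := VF1 S M hb
  obtain ⟨-, -, -, -, -, -, hWUQ, -⟩ := UQA S M hb hc.hZ
  obtain ⟨-, hf, -⟩ := UQB S M hb hc.hZ
  obtain ⟨-, hG₁Q, -, -, hWSQ⟩ := SJQ S M hc
  obtain ⟨-, -, hZW, -, hJS, -, -⟩ := AF2 (S : Subgroup G)
  haveI hQn : (Cfsg.pCore p G).Normal := Cfsg.Agent.Helper14.pCore_normal p
  haveI hVn : (V (S : Subgroup G)).Normal := by
    unfold V; exact Subgroup.normalClosure_normal
  obtain ⟨g₀, hg₀⟩ : ∃ g : G, g ∉ M := by
    by_contra hcon
    push Not at hcon
    exact hb.M_ne_top (eq_top_iff.mpr fun x _ => hcon x)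
  have hQS : Cfsg.pCore p G ≤ (S : Subgroup G) := by
    have h0 := hb.lemmaA g₀ hg₀
    rw [← h0]; exact inf_le_left
  -- `S` normalises `W`
  have hSW : ∀ s ∈ (S : Subgroup G), ∀ w ∈ W (S : Subgroup G), s * w * s⁻¹ ∈ W (S : Subgroup G) := by
    intro s hs w hw
    have hcj : cj s (S : Subgroup G) = (S : Subgroup G) := by
      apply AF3_aux_eq_of_le
      · intro x hx
        rw [AF1_aux_mem_cj] at hx
        have := (S : Subgroup G).mul_mem ((S : Subgroup G).mul_mem ((S : Subgroup G).inv_mem hs) hx) hs
        simpa [mul_assoc] using this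
      · intro x hx
        rw [AF1_aux_mem_cj] at hx
        have := (S : Subgroup G).mul_mem ((S : Subgroup G).mul_mem hs hx) ((S : Subgroup G).inv_mem hs)
        simpa [mul_assoc] using this
    have h1 := (AF3 (S : Subgroup G) (S : Subgroup G) hJS le_rfl s hcj).2.1
    rw [← h1, AF1_aux_mem_cj]
    have e : s⁻¹ * (s * w * s⁻¹) * s = w := by group
    rw [e]; exact hw
  -- `D = W V` is normal
  have hDn : (W (S : Subgroup G) ⊔ V (S : Subgroup G)).Normal := by
    rw [← Subgroup.normalizer_eq_top_iff, eq_top_iff, ← hG₁Q]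
    apply sup_le
    · apply DWV_aux_le_normalizer
      intro g hg
      have hle : W (S : Subgroup G) ⊔ V (S : Subgroup G) ≤
          (W (S : Subgroup G) ⊔ V (S : Subgroup G)).comap (MulAut.conj g).toMonoidHom := by
        apply sup_le
        · intro w hw
          rw [Subgroup.mem_comap]
          show g * w * g⁻¹ ∈ _
          have h1 : ⁅w, g⁆ ∈ V (S : Subgroup G) :=
            hf (Subgroup.commutator_mem_commutator (hWUQ hw) hg)
          have e : g * w * g⁻¹ = (⁅w, g⁆)⁻¹ * w := by
            rw [commutatorElement_def]; group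
          rw [e]
          have h2 : (⁅w, g⁆)⁻¹ * w ∈ V (S : Subgroup G) ⊔ W (S : Subgroup G) :=
            Subgroup.mul_mem_sup ((V (S : Subgroup G)).inv_mem h1) hw
          rwa [sup_comm] at h2
        · intro v hv
          rw [Subgroup.mem_comap]
          show g * v * g⁻¹ ∈ _
          exact (le_sup_right : V (S : Subgroup G) ≤ _) (hVn.conj_mem v hv g)
      intro x hx
      exact hle hx
    · apply DWV_aux_le_normalizer
      intro g hg
      have hle : W (S : Subgroup G) ⊔ V (S : Subgroup G) ≤
          (W (S : Subgroup G) ⊔ V (S : Subgroup G)).comap (MulAut.conj g).toMonoidHom := by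
        apply sup_le
        · intro w hw
          rw [Subgroup.mem_comap]
          show g * w * g⁻¹ ∈ _
          exact (le_sup_left : W (S : Subgroup G) ≤ _) (hSW g (hQS hg) w hw)
        · intro v hv
          rw [Subgroup.mem_comap]
          show g * v * g⁻¹ ∈ _
          exact (le_sup_right : V (S : Subgroup G) ≤ _) (hVn.conj_mem v hv g)
      intro x hx
      exact hle hx
  haveI := hDn
  -- (1)
  have h1 : normalClosure (W (S : Subgroup G) : Set G) = W (S : Subgroup G) ⊔ V (S : Subgroup G) := by
    apply le_antisymm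
    · exact Subgroup.normalClosure_le_normal (le_sup_left : W (S : Subgroup G) ≤ _)
    · apply sup_le Subgroup.le_normalClosure
      unfold V
      apply Subgroup.normalClosure_le_normal
      exact hZW.trans Subgroup.le_normalClosure
  -- (2)
  have h2 : R p (S : Subgroup G) =
      Cfsg.pCore p G ⊓ centralizer ((W (S : Subgroup G) ⊔ V (S : Subgroup G) : Subgroup G) : Set G) := by
    unfold R
    apply le_antisymm
    · intro x hx
      refine Subgroup.mem_inf.mpr ⟨hx.1, ?_⟩
      have hxW : x ∈ centralizer (W (S : Subgroup G) : Set G) := hx.2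
      have hxV : x ∈ centralizer (V (S : Subgroup G) : Set G) := hQV hx.1
      have hle : W (S : Subgroup G) ⊔ V (S : Subgroup G) ≤ centralizer ({x} : Set G) := by
        apply sup_le
        · intro w hw
          rw [mem_centralizer_iff]
          intro z hz
          rw [Set.mem_singleton_iff] at hz
          subst hz
          exact (mem_centralizer_iff.mp hxW w hw).symm
        · intro v hv
          rw [mem_centralizer_iff]
          intro z hz
          rw [Set.mem_singleton_iff] at hz
          subst hz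
          exact (mem_centralizer_iff.mp hxV v hv).symm
      rw [mem_centralizer_iff]
      intro d hd
      exact (mem_centralizer_iff.mp (hle hd) x rfl).symm
    · exact inf_le_inf le_rfl (Subgroup.centralizer_le
        (show ((W (S : Subgroup G) : Subgroup G) : Set G) ⊆ _ from
          (le_sup_left : W (S : Subgroup G) ≤ W (S : Subgroup G) ⊔ V (S : Subgroup G))))
  -- (3)
  have h3 : (R p (S : Subgroup G)).Normal := by
    rw [h2]
    exact Subgroup.normal_inf_normal _ _
  -- (4)
  have h4 : ⁅W (S : Subgroup G), (S : Subgroup G)⁆ =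
      ⁅W (S : Subgroup G) ⊔ V (S : Subgroup G), Cfsg.pCore p G⁆ := by
    rw [hWSQ]
    apply le_antisymm
    · exact Subgroup.commutator_mono le_sup_left le_rfl
    · rw [Subgroup.commutator_le]
      intro d hd x hx
      have hd' : d ∈ ((W (S : Subgroup G) ⊔ V (S : Subgroup G) : Subgroup G) : Set G) := hd
      rw [Subgroup.mul_normal] at hd'
      obtain ⟨w, hw, v, hv, rfl⟩ := hd'
      have hvx : x * v = v * x := (mem_centralizer_iff.mp (hQV hx) v hv).symm
      have e : ⁅w * v, x⁆ = ⁅w, x⁆ := by
        rw [commutatorElement_def, commutatorElement_def]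
        calc w * v * x * (w * v)⁻¹ * x⁻¹ = w * (v * x) * v⁻¹ * w⁻¹ * x⁻¹ := by group
          _ = w * (x * v) * v⁻¹ * w⁻¹ * x⁻¹ := by rw [hvx]
          _ = w * x * w⁻¹ * x⁻¹ := by group
      rw [e]
      exact Subgroup.commutator_mem_commutator hw hx
  refine ⟨h1, h2, h3, h4, ?_, ?_⟩
  · rw [h4]
    infer_instance
  · rw [Subgroup.commutator_le]
    intro w hw s hs
    rw [commutatorElement_def]
    have := hSW s hs w⁻¹ ((W (S : Subgroup G)).inv_mem hw)
    have e : w * s * w⁻¹ * s⁻¹ = w * (s * w⁻¹ * s⁻¹) := by group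
    rw [e]
    exact (W (S : Subgroup G)).mul_mem hw this

end Cfsg.Agent.S2768P
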