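import Mathlib
import Cfsg.Agent.Helper28.S3000Defs
import Cfsg.Agent.Helper29.TV2_FINAL

/-! S3000, piece Q2 of the board `s3000pieces`: the case `q = 2` reduces to helper29's `Cfsg.Agent.TV2.main`. -/

set_option autoImplicit false

namespace Cfsg.Agent.S3000P

open Cfsg.Agent.S2789P Cfsg.Agent.S2999P
open scoped commutatorElement

variable {G : Type*} [Group G] [Finite G] {p : ℕ} [Fact p.Prime] {V P : Subgroup G} {T : Sylow p ↥P} {M : Subgroup ↥P}

/-- if the least order of a strict offender is `2`, then `p = 2` and some element of `P` acts as a transvection on `V` -/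
theorem Q2_aux_tv (Hy : Hyp p V P T M) (hq : MinQ p V P 2) :
    p = 2 ∧ ∃ a ∈ P, a ∉ Subgroup.centralizer (V : Set G) ∧
      Nat.card ↥V ≤ 2 * Nat.card ↥(V ⊓ Subgroup.centralizer ({a} : Set G)) := by
  obtain ⟨⟨A, hAP, hS, hcard⟩, -⟩ := hq
  -- a nonidentity element
  obtain ⟨a, haA, ha1⟩ : ∃ a ∈ A, a ≠ 1 := by
    by_contra hcon
    push Not at hcon
    apply hS.ne
    rw [eq_bot_iff]
    intro a ha
    rw [Subgroup.mem_bot]; exact hcon a ha
  have hp2 : p = 2 := by
    have h1 : a ^ p = 1 := hS.hA.2 a haA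
    have h2 : orderOf a ∣ p := orderOf_dvd_of_pow_eq_one h1
    have h3 : orderOf a = p := by
      rcases (Nat.dvd_prime (Fact.out : p.Prime)).mp h2 with h | h
      · exact absurd (orderOf_eq_one_iff.mp h) ha1
      · exact h
    have h4 : orderOf (⟨a, haA⟩ : ↥A) ∣ Nat.card ↥A := orderOf_dvd_natCard _
    rw [hcard] at h4
    have h5 : orderOf (⟨a, haA⟩ : ↥A) = orderOf a := by
      rw [← Subgroup.orderOf_coe]
    rw [h5, h3] at h4
    exact (Nat.prime_dvd_prime_iff_eq (Fact.out : p.Prime) Nat.prime_two).mp h4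
  refine ⟨hp2, a, hAP haA, ?_, ?_⟩
  · intro hc
    apply ha1
    have : a ∈ P ⊓ Subgroup.centralizer (V : Set G) := ⟨hAP haA, hc⟩
    rw [Hy.hf, Subgroup.mem_bot] at this
    exact this
  · have h1 := F3_card Hy hAP hS
    rw [hcard] at h1
    rw [← h1]
    apply Nat.mul_le_mul_left
    apply Subgroup.card_le_of_le
    unfold fixV
    apply inf_le_inf_left
    apply Subgroup.centralizer_le
    intro x hx
    rw [Set.mem_singleton_iff] at hx
    rw [hx]; exact haA

/-- Q2: the case `q = 2` (helper29's `TV2.main`). -/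
theorem Q2 (Hy : Hyp p V P T M) (hq : MinQ p V P 2) : Concl p V P (TT T) := by
  obtain ⟨hp, htv⟩ := Q2_aux_tv Hy hq
  exact Cfsg.Agent.TV2.main hp V P Hy.hV Hy.hPV Hy.hf Hy.hmin T M Hy.hM Hy.hTM Hy.hOp htv Hy.hCT

end Cfsg.Agent.S3000P
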