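import Mathlib
import Cfsg.Prelude.Def_GeometricClasses
import Cfsg.Prelude.Def_ClassicalGeometry
import Cfsg.Agent.Helper21.S5980Defs
import Cfsg.Agent.Helper23.S5961Defs

set_option autoImplicit false
open scoped MatrixGroups Kronecker TensorProduct Matrix
open Polynomial

namespace Cfsg.Agent.S5980P

universe u v

namespace PEEL

theorem skew {F : Type*} [Field F] {V : Type*} [AddCommGroup V] [Module F V]
    (ω : LinearMap.BilinForm F V) (halt : ∀ v, ω v v = 0) (a b : V) : ω a b = -ω b a := by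
  have h := halt (a + b)
  simp only [map_add, LinearMap.add_apply] at h
  rw [halt, halt] at h
  linear_combination h

/-- the orthogonal complement of a pair of vectors -/
def perp {F : Type*} [Field F] {V : Type*} [AddCommGroup V] [Module F V]
    (ω : LinearMap.BilinForm F V) (u₁ v₁ : V) : Submodule F V :=
  LinearMap.ker ((ω u₁).prod (ω v₁))

theorem mem_perp {F : Type*} [Field F] {V : Type*} [AddCommGroup V] [Module F V]
    (ω : LinearMap.BilinForm F V) (u₁ v₁ w : V) :
    w ∈ perp ω u₁ v₁ ↔ ω u₁ w = 0 ∧ ω v₁ w = 0 := by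
  unfold perp
  rw [LinearMap.mem_ker]
  show ((ω u₁ w, ω v₁ w) : F × F) = 0 ↔ _
  rw [Prod.mk_eq_zero]

theorem finrank_perp {F : Type*} [Field F] {V : Type*} [AddCommGroup V] [Module F V]
    [FiniteDimensional F V] (ω : LinearMap.BilinForm F V) (u₁ v₁ : V) :
    Module.finrank F V ≤ Module.finrank F ↥(perp ω u₁ v₁) + 2 := by
  have h := LinearMap.finrank_range_add_finrank_ker ((ω u₁).prod (ω v₁))
  have h2 : Module.finrank F ↥(LinearMap.range ((ω u₁).prod (ω v₁))) ≤ 2 := by
    have := Submodule.finrank_le (LinearMap.range ((ω u₁).prod (ω v₁)))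
    rw [Module.finrank_prod, Module.finrank_self] at this
    exact this
  unfold perp
  omega

/-- the family version of `peel` -/
theorem family {F : Type u} [Field F] (A : Matrix (Fin 2) (Fin 2) F) (z : F)
    (hfind : ∀ (V : Type v) [AddCommGroup V] [Module F V] [FiniteDimensional F V]
      (ω : LinearMap.BilinForm F V) (x : Module.End F V),
      (∀ v, ω v v = 0) → (∀ v, v ≠ 0 → ∃ w, ω v w ≠ 0) → (∀ u v, ω (x u) (x v) = ω u v) →
      x ^ 2 = z • (1 : Module.End F V) → (∃ v : V, v ≠ 0) → ∀ D₁ : F, D₁ ≠ 0 →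
      ∃ (u₁ v₁ : V) (ε : F), ε ^ 2 = 1 ∧ ω u₁ v₁ = D₁ ∧
        x u₁ = ε • (A 0 0 • u₁ + A 1 0 • v₁) ∧ x v₁ = ε • (A 0 1 • u₁ + A 1 1 • v₁))
    (b : ℕ) : ∀ (V : Type v) [AddCommGroup V] [Module F V] [FiniteDimensional F V]
    (ω : LinearMap.BilinForm F V) (x : Module.End F V)
    (_ : ∀ v, ω v v = 0) (_ : ∀ v, v ≠ 0 → ∃ w, ω v w ≠ 0)
    (_ : ∀ u v, ω (x u) (x v) = ω u v) (_ : x ^ 2 = z • (1 : Module.End F V))
    (_ : 2 * b ≤ Module.finrank F V) (D : Fin b → F) (_ : ∀ j, D j ≠ 0),
    ∃ (β : Fin 2 × Fin b → V) (ε : Fin b → F), (∀ j, ε j ^ 2 = 1) ∧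
      (∀ i j, x (β (i, j)) = ε j • (A 0 i • β (0, j) + A 1 i • β (1, j))) ∧
      (∀ i j i' j', ω (β (i, j)) (β (i', j')) = J2 F i i' * (if j = j' then D j else 0)) := by
  induction b with
  | zero =>
    intro V _ _ _ ω x _ _ _ _ _ D _
    exact ⟨fun _ => 0, fun _ => 1, fun j => j.elim0, fun _ j => j.elim0, fun _ j => j.elim0⟩
  | succ b ih =>
    intro V _ _ _ ω x halt hnd hx hx2 hV D hD
    have hVne : ∃ v : V, v ≠ 0 := by
      have : 0 < Module.finrank F V := by omega
      exact Module.finrank_pos_iff_exists_ne_zero.1 this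
    obtain ⟨u₁, v₁, ε₁, hε₁, huv, hxu, hxv⟩ := hfind V ω x halt hnd hx hx2 hVne (D 0) (hD 0)
    have hvu : ω v₁ u₁ = -D 0 := by rw [skew ω halt, huv]
    have hD0 : D 0 ≠ 0 := hD 0
    -- the complement
    have hxx : ∀ w : V, x (x w) = z • w := by
      intro w
      have := LinearMap.congr_fun hx2 w
      rw [pow_two, Module.End.mul_apply] at this
      rw [this, LinearMap.smul_apply, Module.End.one_apply]
    have hWx : ∀ w ∈ perp ω u₁ v₁, x w ∈ perp ω u₁ v₁ := by
      intro w hw
      rw [mem_perp] at hw ⊢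
      constructor
      · rw [← hx, hxx, hxu]
        simp only [map_smul, map_add, LinearMap.smul_apply, LinearMap.add_apply, hw.1, hw.2,
          smul_eq_mul, mul_zero, add_zero]
      · rw [← hx, hxx, hxv]
        simp only [map_smul, map_add, LinearMap.smul_apply, LinearMap.add_apply, hw.1, hw.2,
          smul_eq_mul, mul_zero, add_zero]
    set ω' : LinearMap.BilinForm F ↥(perp ω u₁ v₁) := ω.restrict (perp ω u₁ v₁) with hω'
    have hω'a : ∀ a b : ↥(perp ω u₁ v₁), ω' a b = ω a b := by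
      intro a b
      rw [hω', LinearMap.BilinForm.restrict_apply, LinearMap.domRestrict_apply]
    set x' : Module.End F ↥(perp ω u₁ v₁) := x.restrict hWx with hx'
    have hx'a : ∀ a : ↥(perp ω u₁ v₁), ((x' a : ↥(perp ω u₁ v₁)) : V) = x a := by
      intro a
      rw [hx', LinearMap.coe_restrict_apply]
    have halt' : ∀ v, ω' v v = 0 := by
      intro v; rw [hω'a]; exact halt _
    have hnd' : ∀ v, v ≠ 0 → ∃ w, ω' v w ≠ 0 := by
      intro w hw
      have hwV : (w : V) ≠ 0 := fun h => hw (Subtype.ext h)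
      obtain ⟨w', hw'⟩ := hnd _ hwV
      have hwmem := w.2
      rw [mem_perp] at hwmem
      have hwu : ω (w : V) u₁ = 0 := by rw [skew ω halt, hwmem.1, neg_zero]
      have hwv : ω (w : V) v₁ = 0 := by rw [skew ω halt, hwmem.2, neg_zero]
      set α : F := -(ω v₁ w') / D 0 with hα
      set γ : F := (ω u₁ w') / D 0 with hγ
      have hmem : w' - α • u₁ - γ • v₁ ∈ perp ω u₁ v₁ := by
        rw [mem_perp]
        constructor
        · rw [map_sub, map_sub, map_smul, map_smul, halt, huv, smul_zero, sub_zero, smul_eq_mul,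
            hγ, div_mul_cancel₀ _ hD0, sub_self]
        · rw [map_sub, map_sub, map_smul, map_smul, halt, hvu, smul_zero, sub_zero, smul_eq_mul,
            hα]
          field_simp
          ring
      refine ⟨⟨_, hmem⟩, ?_⟩
      rw [hω'a]
      show ω (w : V) (w' - α • u₁ - γ • v₁) ≠ 0
      rw [map_sub, map_sub, map_smul, map_smul, hwu, hwv, smul_zero, smul_zero, sub_zero, sub_zero]
      exact hw'
    have hxp' : ∀ u v, ω' (x' u) (x' v) = ω' u v := by
      intro u v
      rw [hω'a, hω'a, hx'a, hx'a, hx]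
    have hx2' : x' ^ 2 = z • (1 : Module.End F ↥(perp ω u₁ v₁)) := by
      apply LinearMap.ext
      intro w
      apply Subtype.ext
      rw [pow_two, Module.End.mul_apply, hx'a, hx'a, hxx, LinearMap.smul_apply,
        Module.End.one_apply]
      rfl
    have hV' : 2 * b ≤ Module.finrank F ↥(perp ω u₁ v₁) := by
      have := finrank_perp ω u₁ v₁
      omega
    obtain ⟨β', ε', hε', hxβ', hG'⟩ := ih ↥(perp ω u₁ v₁) ω' x' halt' hnd' hxp' hx2' hV'
      (fun j => D j.succ) (fun j => hD _)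
    -- glue
    refine ⟨fun ij => Fin.cases (if ij.1 = 0 then u₁ else v₁) (fun j' => (β' (ij.1, j') : V)) ij.2,
      Fin.cases ε₁ ε', ?_, ?_, ?_⟩
    · intro j
      refine Fin.cases ?_ ?_ j
      · exact hε₁
      · intro j'; exact hε' j'
    · intro i j
      refine Fin.cases ?_ ?_ j
      · fin_cases i
        · simpa using hxu
        · simpa using hxv
      · intro j'
        simp only [Fin.cases_succ]
        rw [← hx'a, hxβ']
        simp
    · intro i j i' j'
      refine Fin.cases ?_ ?_ j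
      · refine Fin.cases ?_ ?_ j'
        · fin_cases i <;> fin_cases i' <;> simp [halt, huv, hvu]
        · intro j''
          have hm := (β' (i', j'')).2
          rw [mem_perp] at hm
          have hne : (0 : Fin (b + 1)) ≠ j''.succ := (Fin.succ_ne_zero j'').symm
          fin_cases i <;> simp [hm.1, hm.2, hne]
      · intro j''
        refine Fin.cases ?_ ?_ j'
        · have hm := (β' (i, j'')).2
          rw [mem_perp] at hm
          have hne : j''.succ ≠ (0 : Fin (b + 1)) := Fin.succ_ne_zero j''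
          have h1 : ω (β' (i, j'') : V) u₁ = 0 := by rw [skew ω halt, hm.1, neg_zero]
          have h2 : ω (β' (i, j'') : V) v₁ = 0 := by rw [skew ω halt, hm.2, neg_zero]
          fin_cases i' <;> simp [h1, h2, hne]
        · intro j'''
          simp only [Fin.cases_succ]
          rw [← hω'a, hG']
          simp [Fin.succ_inj]

/-- a family with the Gram matrix `J2 ⊗ diag D` is linearly independent -/
theorem linIndep {F : Type*} [Field F] {V : Type*} [AddCommGroup V] [Module F V]
    (ω : LinearMap.BilinForm F V) (b : ℕ) (D : Fin b → F) (hD : ∀ j, D j ≠ 0)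
    (β : Fin 2 × Fin b → V)
    (hG : ∀ i j i' j', ω (β (i, j)) (β (i', j')) = J2 F i i' * (if j = j' then D j else 0)) :
    LinearIndependent F β := by
  rw [Fintype.linearIndependent_iff]
  intro g hg
  have key : ∀ (i' : Fin 2) (j' : Fin b), ∑ i : Fin 2, g (i, j') * J2 F i i' = 0 := by
    intro i' j'
    have h1 : ω (∑ k, g k • β k) (β (i', j')) = 0 := by
      rw [hg, map_zero, LinearMap.zero_apply]
    rw [map_sum, LinearMap.sum_apply, Fintype.sum_prod_type] at h1
    have h2 : ∀ i : Fin 2, ∑ j : Fin b, ω (g (i, j) • β (i, j)) (β (i', j')) =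
        g (i, j') * J2 F i i' * D j' := by
      intro i
      rw [Finset.sum_eq_single j']
      · rw [map_smul, LinearMap.smul_apply, hG, if_pos rfl, smul_eq_mul, mul_assoc]
      · intro j _ hj
        rw [map_smul, LinearMap.smul_apply, hG, if_neg hj, mul_zero, smul_zero]
      · intro h; exact absurd (Finset.mem_univ _) h
    rw [Finset.sum_congr rfl (fun i _ => h2 i), ← Finset.sum_mul] at h1
    exact (mul_eq_zero.1 h1).resolve_right (hD j')
  rintro ⟨i, j⟩
  have k0 := key 0 j
  have k1 := key 1 j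
  rw [Fin.sum_univ_two] at k0 k1
  simp only [J2_zero_zero, J2_one_zero, J2_zero_one, J2_one_one, mul_zero, zero_add, add_zero,
    mul_neg, mul_one, neg_eq_zero] at k0 k1
  fin_cases i
  · exact k1
  · exact k0

end PEEL

/-- PEEL: peeling off `x`-invariant hyperbolic planes -/
theorem peel {F : Type u} [Field F] (A : Matrix (Fin 2) (Fin 2) F) (z : F) (hz : z ≠ 0)
    (hfind : ∀ (V : Type v) [AddCommGroup V] [Module F V] [FiniteDimensional F V]
      (ω : LinearMap.BilinForm F V) (x : Module.End F V),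
      (∀ v, ω v v = 0) → (∀ v, v ≠ 0 → ∃ w, ω v w ≠ 0) → (∀ u v, ω (x u) (x v) = ω u v) →
      x ^ 2 = z • (1 : Module.End F V) → (∃ v : V, v ≠ 0) → ∀ D₁ : F, D₁ ≠ 0 →
      ∃ (u₁ v₁ : V) (ε : F), ε ^ 2 = 1 ∧ ω u₁ v₁ = D₁ ∧
        x u₁ = ε • (A 0 0 • u₁ + A 1 0 • v₁) ∧ x v₁ = ε • (A 0 1 • u₁ + A 1 1 • v₁))
    (V : Type v) [AddCommGroup V] [Module F V] [FiniteDimensional F V]
    (ω : LinearMap.BilinForm F V) (x : Module.End F V)
    (halt : ∀ v, ω v v = 0) (hnd : ∀ v, v ≠ 0 → ∃ w, ω v w ≠ 0)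
    (hx : ∀ u v, ω (x u) (x v) = ω u v) (hx2 : x ^ 2 = z • (1 : Module.End F V))
    (b : ℕ) (hV : Module.finrank F V = 2 * b) (D : Fin b → F) (hD : ∀ j, D j ≠ 0) :
    ∃ (β : Module.Basis (Fin 2 × Fin b) F V) (ε : Fin b → F), (∀ j, ε j ^ 2 = 1) ∧
      (∀ i j, x (β (i, j)) = ε j • (A 0 i • β (0, j) + A 1 i • β (1, j))) ∧
      (∀ i j i' j', ω (β (i, j)) (β (i', j')) = J2 F i i' * (if j = j' then D j else 0)) := by
  obtain ⟨β, ε, hε, hxβ, hG⟩ := PEEL.family A z hfind b V ω x halt hnd hx hx2 hV.ge D hD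
  have hli := PEEL.linIndep ω b D hD β hG
  have hcard : Fintype.card (Fin 2 × Fin b) = Module.finrank F V := by
    rw [Fintype.card_prod, Fintype.card_fin, Fintype.card_fin, hV]
  have hsp := hli.span_eq_top_of_card_eq_finrank' hcard
  refine ⟨Module.Basis.mk hli hsp.ge, ε, hε, ?_, ?_⟩
  · intro i j
    rw [Module.Basis.coe_mk]
    exact hxβ i j
  · intro i j i' j'
    rw [Module.Basis.coe_mk]
    exact hG i j i' j'

end Cfsg.Agent.S5980P
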