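import Mathlib
import Cfsg.Prelude.Def_GeometricClasses
import Cfsg.Prelude.Def_ClassicalGeometry
import Cfsg.Agent.Helper21.S5980Defs
import Cfsg.Agent.Helper23.S5961Defs
import Cfsg.Agent.Helper21.S5949CYCMAIN
import Cfsg.Agent.Helper6.S5965CENTDET

set_option autoImplicit false
open scoped MatrixGroups Kronecker TensorProduct Matrix
open Polynomial

namespace Cfsg.Agent.S5980P

namespace NOSELFDUAL

/-- an irreducible polynomial killing a nonzero vector divides every polynomial killing it -/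
theorem dvd_of_kill {F W : Type*} [Field F] [AddCommGroup W] [Module F W] (g : Module.End F W)
    (m Q : F[X]) (hm : Irreducible m) (v : W) (hv : v ≠ 0) (h1 : aeval g m v = 0)
    (h2 : aeval g Q v = 0) : m ∣ Q := by
  by_contra h
  obtain ⟨a, b, hab⟩ := (hm.coprime_iff_not_dvd).2 h
  apply hv
  have : aeval g (a * m + b * Q) v = v := by rw [hab, map_one, Module.End.one_apply]
  rw [← this, map_add, map_mul, map_mul, LinearMap.add_apply, Module.End.mul_apply,
    Module.End.mul_apply, h1, h2, map_zero, map_zero, add_zero]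

/-- the polynomial part: `m ∣ X ^ r - 1`, `m ∣ m (X ^ (r-1))`, `m` of odd degree: impossible -/
theorem poly_false {F : Type*} [Field F] (h2 : (2 : F) ≠ 0) (r : ℕ) (hr : Odd r) (m : F[X])
    (hm : Irreducible m) (hm1 : m.eval 1 ≠ 0) (hdvd : m ∣ X ^ r - 1)
    (hQ : m ∣ m.comp (X ^ (r - 1))) (hodd : Odd m.natDegree) : False := by
  haveI : Fact (Irreducible m) := ⟨hm⟩
  have hr1 : 1 ≤ r := hr.pos
  set α : AdjoinRoot m := AdjoinRoot.root m with hα
  have hαr : α ^ r = 1 := by
    have h := (AdjoinRoot.mk_eq_zero (f := m)).2 hdvd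
    rw [← AdjoinRoot.aeval_eq, map_sub, map_pow, aeval_X, map_one, sub_eq_zero] at h
    exact h
  have hαx : α * α ^ (r - 1) = 1 := by
    rw [← pow_succ', Nat.sub_add_cancel hr1, hαr]
  have hxα : α ^ (r - 1) * α = 1 := by rw [mul_comm]; exact hαx
  letI : Invertible (α ^ (r - 1)) := ⟨α, hαx, hxα⟩
  have hinv : ⅟(α ^ (r - 1)) = α := rfl
  have hmx : eval₂ (algebraMap F (AdjoinRoot m)) (α ^ (r - 1)) m = 0 := by
    have h := (AdjoinRoot.mk_eq_zero (f := m)).2 hQ
    rw [← AdjoinRoot.aeval_eq, aeval_comp, map_pow, aeval_X] at h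
    exact h
  have hrev := eval₂_reverse_mul_pow (algebraMap F (AdjoinRoot m)) (α ^ (r - 1)) m
  rw [hmx, hinv] at hrev
  have hx0 : (α ^ (r - 1)) ^ m.natDegree ≠ 0 := by
    apply pow_ne_zero
    intro h0
    rw [h0, mul_zero] at hαx
    exact zero_ne_one hαx
  have hrev0 : eval₂ (algebraMap F (AdjoinRoot m)) α m.reverse = 0 :=
    (mul_eq_zero.1 hrev).resolve_right hx0
  have hmrev : m ∣ m.reverse := by
    rw [← AdjoinRoot.mk_eq_zero, ← AdjoinRoot.aeval_eq]
    exact hrev0
  obtain ⟨k, hk⟩ := hmrev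
  have hm0 : m ≠ 0 := hm.ne_zero
  have hrev_ne : m.reverse ≠ 0 := fun h => hm0 (reverse_eq_zero.1 h)
  have hk0 : k ≠ 0 := by
    rintro rfl
    rw [mul_zero] at hk
    exact hrev_ne hk
  have hkdeg : k.natDegree = 0 := by
    have h1 := reverse_natDegree_le m
    rw [hk, natDegree_mul hm0 hk0] at h1
    omega
  rw [eq_C_of_natDegree_eq_zero hkdeg] at hk
  set κ := k.coeff 0 with hκ
  -- evaluate at 1
  letI i1 : Invertible (1 : F) := invertibleOne
  letI i2 : Invertible (-1 : F) := invertibleNeg 1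
  have e1 := eval₂_reverse_mul_pow (RingHom.id F) (1 : F) m
  rw [invOf_one, one_pow, mul_one, hk] at e1
  simp only [eval₂_id, eval_mul, eval_C] at e1
  have hκ1 : κ = 1 := by
    have : m.eval 1 * (κ - 1) = 0 := by linear_combination e1
    rcases mul_eq_zero.1 this with h | h
    · exact absurd h hm1
    · exact sub_eq_zero.1 h
  -- evaluate at -1
  have e2 := eval₂_reverse_mul_pow (RingHom.id F) (-1 : F) m
  rw [invOf_neg, invOf_one, hodd.neg_one_pow, hk, hκ1] at e2
  simp only [eval₂_id, eval_mul, eval_C, mul_one, mul_neg, neg_eq_iff_eq_neg] at e2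
  have hm2 : m.eval (-1) = 0 := by
    have : (2 : F) * m.eval (-1) = 0 := by linear_combination e2
    exact (mul_eq_zero.1 this).resolve_left h2
  have h3 : (X ^ r - 1 : F[X]).eval (-1) = 0 := by
    obtain ⟨t, ht⟩ := hdvd
    rw [ht, eval_mul, hm2, zero_mul]
  rw [eval_sub, eval_pow, eval_X, eval_one, hr.neg_one_pow] at h3
  apply h2
  linear_combination -h3

end NOSELFDUAL

open Cfsg.Agent.S5949P in
/-- NOSELFDUAL: for `ord_r(q)` odd an element of order `r` with a single block is not similar to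
its inverse -/
theorem no_self_dual {F W : Type*} [Field F] [Fintype F] {p : ℕ} [Fact p.Prime] [CharP F p]
    [AddCommGroup W] [Module F W] [FiniteDimensional F W] (h2 : (2 : F) ≠ 0) (r : ℕ)
    [Fact r.Prime] (hr2 : r ≠ 2) (hrp : r ≠ p)
    (hodd : Odd (orderOf ((Fintype.card F : ℕ) : ZMod r))) (g : Module.End F W) (hg : g ^ r = 1)
    (hrk : Module.finrank F (LinearMap.range (g - 1)) = orderOf ((Fintype.card F : ℕ) : ZMod r))
    (hdual : ∀ P : F[X], Module.finrank F (LinearMap.range (aeval g P)) =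
      Module.finrank F (LinearMap.range (aeval (g ^ (r - 1)) P))) : False := by
  have hr : r.Prime := Fact.out
  have hrodd : Odd r := hr.eq_two_or_odd'.resolve_left hr2
  have hr1 : 1 ≤ r := hr.one_le
  obtain ⟨c, hc⟩ : ∃ c : ℕ, c = orderOf ((Fintype.card F : ℕ) : ZMod r) := ⟨_, rfl⟩
  rw [← hc] at hodd hrk
  have hcpos : 0 < c := hodd.pos
  -- the subspace N
  have hinv := CYC.ker_invariant g (cyclotomic r F)
  have hΦN : aeval (g.restrict hinv) (cyclotomic r F) = 0 :=
    Basic.aeval_restrict_eq_zero g _ _ _ (fun v hv => LinearMap.mem_ker.1 hv)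
  have hdimN : Module.finrank F ↥(LinearMap.ker (aeval g (cyclotomic r F))) = c := by
    have h1 := CYC.finrank_add r hrp g hg
    have h3 := LinearMap.finrank_range_add_finrank_ker (g - 1)
    omega
  -- the irreducible polynomial
  obtain ⟨m, hmi, hmm, w, hw0, hw⟩ := Cfsg.Agent.S5965P.CENTDET.exists_irreducible_vec
    (g.restrict hinv) (by rw [hdimN]; exact hcpos)
  have hmΦ : m ∣ cyclotomic r F := by
    apply NOSELFDUAL.dvd_of_kill (g.restrict hinv) m _ hmi w hw0 hw
    rw [hΦN, LinearMap.zero_apply]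
  have hmdeg : m.natDegree = c := by
    rw [hc]; exact natDegree_of_dvd_cyclotomic r hrp m hmi hmΦ
  -- `m` kills all of `N`
  have hmN : aeval (g.restrict hinv) m = 0 := by
    have hKinv := CYC.ker_invariant (g.restrict hinv) m
    have hKmap : (LinearMap.ker (aeval (g.restrict hinv) m)).map (g.restrict hinv) ≤
        LinearMap.ker (aeval (g.restrict hinv) m) := by
      rintro _ ⟨v, hv, rfl⟩
      exact hKinv v hv
    have hdvd := (chain_invariant (g.restrict hinv) (cyclotomic r F) hΦN c
      (fun μ hμ hd => by rw [hc]; exact natDegree_of_dvd_cyclotomic r hrp μ hμ hd)).2.1 _ hKmap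
    have hle := Submodule.finrank_le (LinearMap.ker (aeval (g.restrict hinv) m))
    rw [hdimN] at hle
    have hpos : 0 < Module.finrank F ↥(LinearMap.ker (aeval (g.restrict hinv) m)) := by
      rw [Module.finrank_pos_iff_exists_ne_zero]
      exact ⟨⟨w, LinearMap.mem_ker.2 hw⟩, fun h => hw0 (congrArg Subtype.val h)⟩
    have heq : Module.finrank F ↥(LinearMap.ker (aeval (g.restrict hinv) m)) = c :=
      le_antisymm hle (Nat.le_of_dvd hpos hdvd)
    have htop : LinearMap.ker (aeval (g.restrict hinv) m) = ⊤ := by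
      apply Submodule.eq_top_of_finrank_eq
      rw [heq, hdimN]
    exact LinearMap.ker_eq_top.1 htop
  have hmNv : ∀ v ∈ LinearMap.ker (aeval g (cyclotomic r F)), aeval g m v = 0 := by
    intro v hv
    have := Basic.aeval_restrict_apply g _ hinv m ⟨v, hv⟩
    rw [hmN, LinearMap.zero_apply] at this
    exact this.symm
  -- `m * (X - 1)` kills everything
  have hP0 : aeval g (m * (X - C (1 : F))) = 0 := by
    apply LinearMap.ext
    intro v
    have hdec := CYC.decomp r hrp g hg
    have hv : v ∈ LinearMap.ker (g - 1) ⊔ LinearMap.ker (aeval g (cyclotomic r F)) := by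
      rw [hdec.sup_eq_top]; trivial
    obtain ⟨v₁, hv₁, v₂, hv₂, rfl⟩ := Submodule.mem_sup.1 hv
    rw [map_add, LinearMap.zero_apply]
    have e1 : aeval g (m * (X - C (1 : F))) v₁ = 0 := by
      rw [map_mul, Module.End.mul_apply, CYC.aeval_X_sub_one, LinearMap.mem_ker.1 hv₁, map_zero]
    have e2 : aeval g (m * (X - C (1 : F))) v₂ = 0 := by
      rw [mul_comm, map_mul, Module.End.mul_apply, hmNv v₂ hv₂, map_zero]
    rw [e1, e2, add_zero]
  -- transfer through `hdual`
  have hP1 : aeval (g ^ (r - 1)) (m * (X - C (1 : F))) = 0 := by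
    have h := hdual (m * (X - C (1 : F)))
    rw [hP0, LinearMap.range_zero, finrank_bot] at h
    have hbot : LinearMap.range (aeval (g ^ (r - 1)) (m * (X - C (1 : F)))) = ⊥ :=
      Submodule.finrank_eq_zero.1 h.symm
    exact LinearMap.range_eq_bot.1 hbot
  -- the vector `v' = (g^(r-1) - 1) w`
  have hwN : (w : W) ∈ LinearMap.ker (aeval g (cyclotomic r F)) := w.2
  have hwV : (w : W) ≠ 0 := fun h => hw0 (Subtype.ext h)
  set v' : W := (g ^ (r - 1) - 1) (w : W) with hv'
  have hv'N : v' ∈ LinearMap.ker (aeval g (cyclotomic r F)) := by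
    have : v' = aeval g (X ^ (r - 1) - 1 : F[X]) (w : W) := by
      rw [hv', map_sub, map_pow, aeval_X, map_one]
    rw [this]
    exact Basic.aeval_mem_of_invariant g _ (by rintro _ ⟨v, hv, rfl⟩; exact hinv v hv) _ _ hwN
  have hv'0 : v' ≠ 0 := by
    intro h0
    rw [hv', LinearMap.sub_apply, Module.End.one_apply, sub_eq_zero] at h0
    have h1 : g (w : W) = w := by
      have := congrArg g h0
      rw [← Module.End.mul_apply, ← pow_succ', Nat.sub_add_cancel hr1, hg,
        Module.End.one_apply] at this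
      exact this.symm
    have h2 : (w : W) ∈ LinearMap.ker (g - 1) := by
      rw [LinearMap.mem_ker, LinearMap.sub_apply, Module.End.one_apply, h1, sub_self]
    have hdec := CYC.decomp r hrp g hg
    have := Submodule.disjoint_def.1 hdec.disjoint _ h2 hwN
    exact hwV this
  have hQv' : aeval g (m.comp (X ^ (r - 1))) v' = 0 := by
    have h := LinearMap.congr_fun hP1 (w : W)
    rw [map_mul, Module.End.mul_apply, CYC.aeval_X_sub_one, LinearMap.zero_apply] at h
    rw [aeval_comp, map_pow, aeval_X]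
    exact h
  have hmQ : m ∣ m.comp (X ^ (r - 1)) :=
    NOSELFDUAL.dvd_of_kill g m _ hmi v' hv'0 (hmNv v' hv'N) hQv'
  -- polynomial contradiction
  have hm1 : m.eval 1 ≠ 0 := by
    intro h0
    obtain ⟨t, ht⟩ := hmΦ
    have h3 : (cyclotomic r F).eval 1 = 0 := by rw [ht, eval_mul, h0, zero_mul]
    rw [eval_one_cyclotomic_prime] at h3
    have hdvd : p ∣ r := (CharP.cast_eq_zero_iff F p r).1 h3
    exact hrp ((Nat.prime_dvd_prime_iff_eq (Fact.out : p.Prime) hr).1 hdvd).symm
  have hmX : m ∣ X ^ r - 1 := by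
    rw [← cyclotomic_prime_mul_X_sub_one F r]
    exact Dvd.dvd.mul_right hmΦ _
  exact NOSELFDUAL.poly_false h2 r hrodd m hmi hm1 hmX hmQ (by rw [hmdeg]; exact hodd)

end Cfsg.Agent.S5980P
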