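import Mathlib
import Cfsg.Agent.Helper28.S3589Defs
import Cfsg.Agent.Helper29.S2264POLY

/-! S3589 piece SHAPE (helper28): the shape of a self-reciprocal polynomial of degree `≤ 8`. -/

set_option autoImplicit false

namespace Cfsg.Agent.S3589P

open Module Polynomial
open Cfsg.Agent.S2264P
open scoped Classical

/-- SHAPE -/
theorem shape {F : Type*} [Field F] [Fintype F] {μ : F[X]} (hμ : Good μ) (hd1 : 1 ≤ μ.natDegree)
    (hdeg : μ.natDegree ≤ 8) :
    1 ≤ Emax μ ∧ Emax μ ≤ 8 ∧ Aw μ ≤ 4 ∧ (2 ≤ Emax μ → Aw μ ≤ 3) ∧ (3 ≤ Emax μ → Aw μ ≤ 2) ∧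
      (5 ≤ Emax μ → Aw μ ≤ 1) ∧ (∀ a ∈ Dm μ, 1 ≤ a) ∧ (∀ d ∈ Dp μ, 1 ≤ d) := by
  have hμ0 : μ ≠ 0 := hμ.monic.ne_zero
  have hne : (facs μ).Nonempty := POLY.facs_nonempty hμ.monic hd1
  obtain ⟨f₀, hf₀, hE⟩ := Finset.exists_mem_eq_sup (facs μ) hne (mult μ)
  have hE' : Emax μ = mult μ f₀ := hE
  have hpos : 1 ≤ mult μ f₀ := mult_pos hf₀
  have hdi := deg_ineq hμ hf₀
  have hDm : ∀ a ∈ Dm μ, 1 ≤ a := by
    intro a ha
    unfold Dm at ha
    rw [Finset.mem_image] at ha
    obtain ⟨f, hf, rfl⟩ := ha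
    unfold Sm at hf
    rw [Finset.mem_filter] at hf
    obtain ⟨hfm, hr, hu⟩ := hf
    obtain ⟨hirr, hmon, -⟩ := (mem_facs hμ0).mp hfm
    have := (selfrec_even hirr hmon hr hu).1
    omega
  have hDp : ∀ d ∈ Dp μ, 1 ≤ d := by
    intro d hd
    unfold Dp at hd
    rw [Finset.mem_image] at hd
    obtain ⟨f, hf, rfl⟩ := hd
    unfold Sp at hf
    rw [Finset.mem_filter] at hf
    exact POLY.natDegree_pos_of_mem hμ.monic hf.1
  have hAw : Aw μ = (Dm μ).sum id + (Dp μ).sum id := rfl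
  by_cases hu : IsUnip f₀
  · rw [if_pos hu] at hdi
    rw [hE']
    refine ⟨hpos, by omega, by omega, fun _ => by omega, fun _ => by omega, fun _ => by omega,
      hDm, hDp⟩
  · rw [if_neg hu] at hdi
    have hmem : f₀ ∈ Sm μ ∪ Sp μ := by
      have h := hf₀
      rw [facs_eq_union, Finset.mem_union] at h
      rcases h with h | h
      · unfold Su at h
        rw [Finset.mem_filter] at h
        exact absurd h.2 hu
      · exact h
    have hAw1 : 1 ≤ Aw μ := by
      rw [hAw]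
      rcases Finset.mem_union.mp hmem with h | h
      · have hin : f₀.natDegree / 2 ∈ Dm μ := Finset.mem_image_of_mem _ h
        have h1 := hDm _ hin
        have h2 : f₀.natDegree / 2 ≤ (Dm μ).sum id :=
          Finset.single_le_sum (f := id) (fun _ _ => Nat.zero_le _) hin
        omega
      · have hin : f₀.natDegree ∈ Dp μ := Finset.mem_image_of_mem _ h
        have h1 := hDp _ hin
        have h2 : f₀.natDegree ≤ (Dp μ).sum id :=
          Finset.single_le_sum (f := id) (fun _ _ => Nat.zero_le _) hin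
        omega
    rw [hE']
    refine ⟨hpos, by omega, by omega, fun _ => by omega, fun _ => by omega, fun _ => by omega,
      hDm, hDp⟩

end Cfsg.Agent.S3589P
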