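import Mathlib
import Cfsg.Agent.Helper28.S3589Defs
import Cfsg.Agent.Helper28.S3589SHAPE
import Cfsg.Agent.Helper9.S3589ARITH
import Cfsg.Agent.Helper28.S2512Lib
import Cfsg.Agent.Helper29.S2264POLY

/-! S3589 piece SPSIDE (helper28): every element of `Sp_8(q)`, `q` even, has order dividing one of the
twelve numbers `ords q`. -/

set_option autoImplicit false

namespace Cfsg.Agent.S3589P

open Module Polynomial
open Cfsg.Agent.S2264P Cfsg.Agent.S2512P
open scoped Classical

namespace SPSIDE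

variable {F : Type*} [Field F] [Fintype F]

theorem Lexp_dvd (h2 : (2 : F) = 0) (μ : F[X]) :
    Lexp μ ∣ Nat.lcm ((Dm μ).lcm fun a => Fintype.card F ^ a + 1)
      ((Dp μ).lcm fun d => Fintype.card F ^ d - 1) := by
  unfold Lexp
  apply Finset.lcm_dvd
  intro f hf
  rw [facs_eq_union, Finset.mem_union] at hf
  rcases hf with h | h
  · unfold Su at h
    rw [Finset.mem_filter] at h
    rw [LEXP.expo_eq_one_of_two h2 h.2]
    exact one_dvd _
  · rcases Finset.mem_union.mp h with h | h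
    · rw [LEXP.expo_of_mem_Sm h]
      apply dvd_trans _ (Nat.dvd_lcm_left _ _)
      exact Finset.dvd_lcm (f := fun a => Fintype.card F ^ a + 1)
        (Finset.mem_image_of_mem (fun f : F[X] => f.natDegree / 2) h)
    · rw [LEXP.expo_of_mem_Sp h]
      apply dvd_trans _ (Nat.dvd_lcm_right _ _)
      exact Finset.dvd_lcm (f := fun d => Fintype.card F ^ d - 1)
        (Finset.mem_image_of_mem (fun f : F[X] => f.natDegree) h)

end SPSIDE

open SPSIDE in
/-- SPSIDE -/
theorem sp_pow_eq_one {F : Type*} [Field F] [Fintype F] [CharP F 2]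
    (A : Matrix.symplecticGroup (Fin 4) F) : ∃ M ∈ ords (Fintype.card F), A ^ M = 1 := by
  have : Fact (Nat.Prime 2) := ⟨Nat.prime_two⟩
  have h2 : (2 : F) = 0 := by
    have := CharP.cast_eq_zero F 2
    exact_mod_cast this
  set μ := minpoly F (mat A) with hμdef
  have hμ : Good μ := good_minpoly_sp A
  have hint : IsIntegral F (mat A) := Matrix.isIntegral (mat A)
  have hd1 : 1 ≤ μ.natDegree := minpoly.natDegree_pos hint
  have hdeg : μ.natDegree ≤ 8 := by
    have hdvd : μ ∣ (mat A).charpoly := Matrix.minpoly_dvd_charpoly (mat A)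
    have hne : (mat A).charpoly ≠ 0 := (Matrix.charpoly_monic (mat A)).ne_zero
    have := Polynomial.natDegree_le_of_dvd hdvd hne
    rw [Matrix.charpoly_natDegree_eq_dim] at this
    simpa using this
  obtain ⟨hE1, hE8, h4, h2', h3, h5, hDm, hDp⟩ := shape hμ hd1 hdeg
  have hq : 2 ≤ Fintype.card F := Fintype.one_lt_card
  have hev : Even (Fintype.card F) := by
    rw [Nat.even_iff]
    exact FiniteField.even_card_iff_char_two.mp (ringChar.eq F 2)
  obtain ⟨M, hM, hdvd⟩ := arith (Fintype.card F) hq hev (Dm μ) (Dp μ) hDm hDp (Emax μ) hE1 hE8 h4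
    h2' h3 h5
  refine ⟨M, hM, ?_⟩
  have h1 := dvd_X_pow_sub_one 2 hμ
  have hN : 2 ^ Nat.clog 2 (Emax μ) * Lexp μ ∣ M :=
    dvd_trans (Nat.mul_dvd_mul_left _ (Lexp_dvd h2 μ)) hdvd
  generalize 2 ^ Nat.clog 2 (Emax μ) * Lexp μ = N at h1 hN
  obtain ⟨c, hc⟩ := hN
  have h3' : (X : F[X]) ^ N - 1 ∣ X ^ M - 1 := by
    rw [hc, pow_mul]
    have := sub_dvd_pow_sub_pow ((X : F[X]) ^ N) 1 c
    rwa [one_pow] at this
  have h4' : orderOf A ∣ M := orderOf_dvd_of_minpoly_dvd A M (dvd_trans h1 h3')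
  exact orderOf_dvd_iff_pow_eq_one.mp h4'

end Cfsg.Agent.S3589P
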