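import Mathlib
import Cfsg.Prelude.Def_Classical
import Cfsg.Agent.Helper28.S3589Defs
import Cfsg.Agent.Helper22.S3589TRANSP
import Cfsg.Agent.Helper13.S5973HCANCEL
import Cfsg.Agent.Helper15.S5973PRODQ
import Cfsg.Agent.Helper15.S5973PRODTYPE

/-! S3589 piece U6M (helper28): an element of order 8 of `O_6^-(q)`, `q` even. -/

set_option autoImplicit false

namespace Cfsg.Agent.S3589P

open Module
open Cfsg.Agent.S5973P

namespace U6M

section abstract

variable {F K : Type*} [Field F] [Field K] [Algebra F K] (σ : K ≃ₐ[F] K)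

/-- the bilinear form `(v, w) ↦ Tr (c v σ(w))` on `K` -/
noncomputable def bK (c : K) : LinearMap.BilinForm F K :=
  LinearMap.mk₂ F (fun v w => Algebra.trace F K (c * v * σ w))
    (fun v v' w => by rw [mul_add, add_mul, map_add])
    (fun a v w => by rw [mul_smul_comm, smul_mul_assoc, map_smul])
    (fun v w w' => by rw [map_add, mul_add, map_add])
    (fun a v w => by rw [map_smul, mul_smul_comm, map_smul])

theorem bK_apply (c v w : K) : bK σ c v w = Algebra.trace F K (c * v * σ w) := rfl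

/-- the hyperbolic form `Tr (v₁ σ(v₃))` on `K × K` -/
noncomputable def Q1 : QuadraticForm F (K × K) :=
  LinearMap.BilinMap.toQuadraticMap
    ((bK σ 1).compl₁₂ (LinearMap.fst F K K) (LinearMap.snd F K K))

theorem Q1_apply (v : K × K) : Q1 σ v = Algebra.trace F K (v.1 * σ v.2) := by
  show (bK σ 1) v.1 v.2 = _
  rw [bK_apply, one_mul]

/-- the norm form `Tr (θ v σ(v))` on `K` -/
noncomputable def Q2 (θ : K) : QuadraticForm F K := LinearMap.BilinMap.toQuadraticMap (bK σ θ)

theorem Q2_apply (θ v : K) : Q2 σ θ v = Algebra.trace F K (θ * v * σ v) := rfl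

theorem polar_Q1 (v w : K × K) :
    QuadraticMap.polar (Q1 σ) v w =
      Algebra.trace F K (v.1 * σ w.2) + Algebra.trace F K (w.1 * σ v.2) := by
  unfold Q1
  rw [LinearMap.BilinMap.polar_toQuadraticMap]
  simp only [LinearMap.compl₁₂_apply, LinearMap.fst_apply, LinearMap.snd_apply, bK_apply, one_mul]

theorem polar_Q2 (θ v w : K) :
    QuadraticMap.polar (Q2 σ θ) v w =
      Algebra.trace F K (θ * v * σ w) + Algebra.trace F K (θ * w * σ v) := by
  unfold Q2
  rw [LinearMap.BilinMap.polar_toQuadraticMap]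
  simp only [bK_apply]

variable (hσ : ∀ z, σ (σ z) = z)
  (hTr : ∀ z, algebraMap F K (Algebra.trace F K z) = z + σ z)
  (h2 : (2 : K) = 0)
  (hnd : ∀ z : K, (∀ w, Algebra.trace F K (z * w) = 0) → z = 0)

include hnd in
theorem nd_Q1 : ND (Q1 σ) := by
  apply HCANCEL.nd_of_left
  rintro ⟨v1, v3⟩ hv
  have e1 : v1 = 0 := by
    apply hnd
    intro w
    have := hv (0, σ.symm w)
    rw [polar_Q1] at this
    simpa using this
  have e3 : v3 = 0 := by
    have : σ v3 = 0 := by
      apply hnd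
      intro w
      have := hv (w, 0)
      rw [polar_Q1] at this
      simp only [map_zero, mul_zero, zero_add] at this
      rw [mul_comm]; exact this
    exact (map_eq_zero_iff σ σ.injective).mp this
  rw [e1, e3]; rfl

include hσ hTr in
theorem alg_Q2 (θ : K) (hθ : θ + σ θ = 1) (v : K) : algebraMap F K (Q2 σ θ v) = v * σ v := by
  rw [Q2_apply, hTr, map_mul, map_mul, hσ]
  linear_combination (v * σ v) * hθ

include hσ hTr hnd in
theorem nd_Q2 (θ : K) (hθ : θ + σ θ = 1) : ND (Q2 σ θ) := by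
  apply HCANCEL.nd_of_left
  intro v hv
  have key : ∀ w, Algebra.trace F K (v * σ w) = 0 := by
    intro w
    have h := hv w
    rw [polar_Q2] at h
    apply (algebraMap F K).injective
    have h' := congrArg (algebraMap F K) h
    rw [map_add, hTr, hTr, map_zero] at h'
    simp only [map_mul, hσ] at h'
    rw [hTr, map_zero, map_mul, hσ]
    linear_combination h' - (v * σ w + σ v * w) * hθ
  apply hnd
  intro w
  have := key (σ.symm w)
  simpa using this

include hσ hTr in
theorem aniso_Q2 (θ : K) (hθ : θ + σ θ = 1) (v : K) (hv : Q2 σ θ v = 0) : v = 0 := by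
  have h := alg_Q2 σ hσ hTr θ hθ v
  rw [hv, map_zero] at h
  rcases mul_eq_zero.mp h.symm with h1 | h1
  · exact h1
  · exact (map_eq_zero_iff σ σ.injective).mp h1

/-- the isometry -/
noncomputable def uu (x y : K) : Module.End F ((K × K) × K) where
  toFun v := ((σ v.1.1 + x * σ v.2 + y * σ v.1.2, σ v.1.2), σ v.2 + σ x * σ v.1.2)
  map_add' v w := by
    simp only [Prod.fst_add, Prod.snd_add, map_add, Prod.mk_add_mk, Prod.mk.injEq]
    refine ⟨⟨by ring, trivial⟩, by ring⟩
  map_smul' c v := by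
    simp only [Prod.smul_fst, Prod.smul_snd, map_smul, RingHom.id_apply, Prod.smul_mk,
      smul_add, mul_smul_comm]

theorem uu_apply (x y : K) (v : (K × K) × K) :
    uu σ x y v = ((σ v.1.1 + x * σ v.2 + y * σ v.1.2, σ v.1.2), σ v.2 + σ x * σ v.1.2) := rfl

include hσ hTr h2 in
theorem uu_isom (x : K) (hx : x + σ x = 1) (v : (K × K) × K) :
    ((Q1 σ).prod (Q2 σ x)) (uu σ x (x * (x * σ x)) v) = ((Q1 σ).prod (Q2 σ x)) v := by
  apply (algebraMap F K).injective
  rw [QuadraticMap.prod_apply, QuadraticMap.prod_apply, map_add, map_add,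
    alg_Q2 σ hσ hTr x hx, alg_Q2 σ hσ hTr x hx, Q1_apply, Q1_apply, hTr, hTr, uu_apply]
  simp only [map_add, map_mul, hσ]
  obtain ⟨⟨v1, v3⟩, v2⟩ := v
  simp only
  linear_combination (x * σ v2 * v3 + σ x * v2 * σ v3 + v3 * σ v3 * x * σ x) * h2
    + (v3 * σ v3 * x * σ x) * hx

/-- `u ^ 4` -/
noncomputable def u4 : Module.End F ((K × K) × K) where
  toFun v := ((v.1.1 + v.1.2, v.1.2), v.2)
  map_add' v w := by
    simp only [Prod.fst_add, Prod.snd_add, Prod.mk_add_mk, Prod.mk.injEq]
    exact ⟨⟨by ring, trivial⟩, trivial⟩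
  map_smul' c v := by
    simp only [Prod.smul_fst, Prod.smul_snd, RingHom.id_apply, Prod.smul_mk, smul_add]

include hσ h2 in
theorem uu_pow_four (x : K) (hx : x + σ x = 1) : uu σ x (x * (x * σ x)) ^ 4 = u4 := by
  have hsq : ∀ v : (K × K) × K, (uu σ x (x * (x * σ x)) ^ 2) v
      = ((v.1.1 + v.2 + x * v.1.2, v.1.2), v.2 + v.1.2) := by
    rintro ⟨⟨v1, v3⟩, v2⟩
    rw [pow_two, Module.End.mul_apply, uu_apply, uu_apply]
    simp only [map_add, map_mul, hσ, Prod.mk.injEq]
    refine ⟨⟨?_, trivial⟩, ?_⟩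
    · linear_combination (v2 + x * v3 * σ x + x * v3) * hx
    · linear_combination v3 * hx
  apply LinearMap.ext
  rintro ⟨⟨v1, v3⟩, v2⟩
  rw [show (4 : ℕ) = 2 * 2 from rfl, pow_mul, pow_two, Module.End.mul_apply, hsq, hsq]
  show _ = ((v1 + v3, v3), v2)
  simp only [Prod.mk.injEq]
  refine ⟨⟨?_, trivial⟩, ?_⟩
  · linear_combination (v2 + x * v3) * h2
  · linear_combination v3 * h2

include h2 in
theorem u4_sq : (u4 : Module.End F ((K × K) × K)) ^ 2 = 1 := by
  apply LinearMap.ext
  rintro ⟨⟨v1, v3⟩, v2⟩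
  rw [pow_two, Module.End.mul_apply]
  show ((v1 + v3 + v3, v3), v2) = ((v1, v3), v2)
  simp only [Prod.mk.injEq]
  exact ⟨⟨by linear_combination v3 * h2, trivial⟩, trivial⟩

theorem u4_ne_one : (u4 : Module.End F ((K × K) × K)) ≠ 1 := by
  intro h
  have := LinearMap.congr_fun h ((0, 1), 0)
  simp only [u4, LinearMap.coe_mk, AddHom.coe_mk, Module.End.one_apply, Prod.mk.injEq, zero_add] at this
  exact one_ne_zero this.1.1

include hσ h2 in
theorem uu_order (x : K) (hx : x + σ x = 1) (j : ℕ) :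
    uu σ x (x * (x * σ x)) ^ j = 1 ↔ 8 ∣ j := by
  haveI : Fact (Nat.Prime 2) := ⟨Nat.prime_two⟩
  have h8 : orderOf (uu σ x (x * (x * σ x))) = 2 ^ (2 + 1) := by
    apply orderOf_eq_prime_pow
    · rw [show (2 : ℕ) ^ 2 = 4 from rfl, uu_pow_four σ hσ h2 x hx]
      exact u4_ne_one
    · rw [show (2 : ℕ) ^ (2 + 1) = 4 * 2 from rfl, pow_mul, uu_pow_four σ hσ h2 x hx]
      exact u4_sq h2
  rw [← orderOf_dvd_iff_pow_eq_one, h8]
  norm_num

end abstract

end U6M

open U6M in
/-- U6M -/
theorem hasBlock_u6_minus {F : Type*} [Field F] [Fintype F] [CharP F 2] : HasBlock F 3 false 8 := by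
  classical
  haveI : Fact (Nat.Prime 2) := ⟨Nat.prime_two⟩
  let K := FiniteField.Extension F 2 2
  let σ : K ≃ₐ[F] K := FiniteField.Extension.frob F 2 2
  haveI : CharP K 2 := charP_of_injective_algebraMap (algebraMap F K).injective 2
  have h2 : (2 : K) = 0 := by
    have := CharP.cast_eq_zero K 2
    exact_mod_cast this
  have hfr : finrank F K = 2 := FiniteField.finrank_extension F 2 2
  have hcard : Nat.card K = Nat.card F ^ 2 := FiniteField.natCard_extension F 2 2
  have hσ : ∀ z, σ (σ z) = z := by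
    intro z
    show FiniteField.Extension.frob F 2 2 (FiniteField.Extension.frob F 2 2 z) = z
    rw [FiniteField.Extension.frob_apply, FiniteField.Extension.frob_apply, ← pow_mul, ← pow_two,
      ← hcard]
    letI : Fintype K := Fintype.ofFinite K
    rw [Nat.card_eq_fintype_card]
    exact FiniteField.pow_card z
  have hTr : ∀ z, algebraMap F K (Algebra.trace F K z) = z + σ z := by
    intro z
    rw [FiniteField.algebraMap_trace_eq_sum_pow, hfr, Finset.sum_range_succ, Finset.sum_range_one,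
      pow_zero, pow_one, pow_one]
    show _ = z + FiniteField.Extension.frob F 2 2 z
    rw [FiniteField.Extension.frob_apply]
  have hnd : ∀ z : K, (∀ w, Algebra.trace F K (z * w) = 0) → z = 0 := by
    intro z hz
    have := (traceForm_nondegenerate F K).1 z
    exact this (fun w => by rw [Algebra.traceForm_apply]; exact hz w)
  obtain ⟨x, hx1⟩ := Algebra.trace_surjective F K 1
  have hx : x + σ x = 1 := by rw [← hTr, hx1, map_one]
  have hN1 : ND (Q1 σ) := nd_Q1 σ hnd
  have hN2 : ND (Q2 σ x) := nd_Q2 σ hσ hTr hnd x hx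
  have hfin1 : finrank F (K × K) = 4 := by rw [Module.finrank_prod, hfr]
  have hH1 : IsHyp (Q1 σ) := by
    refine ⟨LinearMap.range (LinearMap.inl F K K), ?_, ?_⟩
    · rintro _ ⟨w, rfl⟩
      rw [Q1_apply]
      simp
    · rw [LinearMap.finrank_range_of_inj LinearMap.inl_injective, hfr, hfin1]
  have hH2 : ¬ IsHyp (Q2 σ x) := by
    rintro ⟨W, hTS, hW⟩
    rw [hfr] at hW
    have hW1 : finrank F W = 1 := by omega
    have hne : W ≠ ⊥ := by
      intro h
      rw [h, finrank_bot] at hW1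
      exact zero_ne_one hW1
    obtain ⟨v, hvW, hv0⟩ := Submodule.exists_mem_ne_zero_of_ne_bot hne
    exact hv0 (aniso_Q2 σ hσ hTr x hx v (hTS v hvW))
  apply hasBlock_of_space ((Q1 σ).prod (Q2 σ x)) (uu σ x (x * (x * σ x))) 3 false 8
  · exact PRODQ.nd_prod _ _ hN1 hN2
  · rw [Module.finrank_prod, hfin1, hfr]
  · rw [isHyp_prod_iff _ _ hN1 hN2 (by rw [hfin1]; decide) (by rw [hfr]; decide)]
    simp [hH1, hH2]
  · exact uu_isom σ hσ hTr h2 x hx
  · exact uu_order σ hσ h2 x hx

end Cfsg.Agent.S3589P
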