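import Mathlib
import Cfsg.Prelude.Def_Classical
import Cfsg.Agent.Helper28.S3589Defs
import Cfsg.Agent.Helper8.S3589TMINUS
import Cfsg.Agent.Lead.S3589U2P
import Cfsg.Agent.Lead.S3589U4P
import Cfsg.Agent.Helper28.S3589SPSIDE
import Cfsg.Agent.Helper28.S3589U6M
import Cfsg.Agent.Helper5.S3589U6P
import Cfsg.Agent.Helper18.S3589TPLUS
import Cfsg.Agent.Helper18.S3589U2M
import Cfsg.Agent.Helper22.S3589PROD
import Cfsg.Agent.Helper16.S3589REAL
import Cfsg.Agent.Helper16.S3589OSUB
import Cfsg.Agent.Helper28.S2512Lib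

/-! S3589 assembly (helper28). -/

set_option autoImplicit false

namespace Cfsg.Agent.S3589P

open Cfsg.Agent.S5973P

namespace ASM

variable {F : Type*} [Field F] [Fintype F] [CharP F 2]

/-- BLOCKS: each of the twelve orders is realised by a minus-type block of dimension 8 -/
theorem hasBlock_of_mem_ords (M : ℕ) (hM : M ∈ ords (Fintype.card F)) : HasBlock F 4 false M := by
  have tp1 : HasBlock F 1 true (Fintype.card F - 1) := by
    simpa using hasBlock_torus_plus (F := F) 1 le_rfl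
  have tm1 : HasBlock F 1 false (Fintype.card F + 1) := by
    simpa using hasBlock_torus_minus (F := F) 1 le_rfl
  have tp2 := hasBlock_torus_plus (F := F) 2 (by norm_num)
  have tm2 := hasBlock_torus_minus (F := F) 2 (by norm_num)
  have tp3 := hasBlock_torus_plus (F := F) 3 (by norm_num)
  have tm3 := hasBlock_torus_minus (F := F) 3 (by norm_num)
  have tm4 := hasBlock_torus_minus (F := F) 4 (by norm_num)
  have u2p := hasBlock_u2_plus (F := F)
  have u2m := hasBlock_u2_minus (F := F)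
  have u4p := hasBlock_u4_plus (F := F)
  have u6p := hasBlock_u6_plus (F := F)
  have u6m := hasBlock_u6_minus (F := F)
  simp only [ords, List.mem_cons, List.not_mem_nil, or_false] at hM
  rcases hM with rfl | rfl | rfl | rfl | rfl | rfl | rfl | rfl | rfl | rfl | rfl | rfl
  · exact tm4
  · exact tp2.prod tm2
  · exact tp3.prod tm1
  · exact tm3.prod tp1
  · exact (tm2.prod tp1).prod u2p
  · exact (tm2.prod tm1).prod u2m
  · exact tp3.prod u2m
  · exact tm3.prod u2p
  · exact (tp1.prod tm1).prod u4p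
  · exact tm2.prod u4p
  · exact tp1.prod u6m
  · exact tm1.prod u6p

omit [Fintype F] in
theorem orderOf_mk (A : Matrix.symplecticGroup (Fin 4) F) :
    orderOf (QuotientGroup.mk A : Cfsg.PSp 4 F) = orderOf A := by
  rw [orderOf_eq_orderOf_iff]
  intro j
  rw [Cfsg.Agent.S2512P.mk_pow_eq_one_iff (by norm_num) A j]
  have hneg : (-1 : Matrix (Fin 4 ⊕ Fin 4) (Fin 4 ⊕ Fin 4) F) = 1 := by
    rw [neg_eq_iff_add_eq_zero]
    exact CharTwo.add_self_eq_zero _
  rw [hneg, or_self]
  constructor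
  · intro h
    apply Cfsg.Agent.S2512P.LIB0.mat_injective
    rw [Cfsg.Agent.S2512P.LIB0.mat_pow, h]; rfl
  · intro h
    rw [← Cfsg.Agent.S2512P.LIB0.mat_pow, h]; rfl

end ASM

open ASM in
theorem main {F : Type*} [Field F] [Fintype F] [CharP F 2] (a b : F)
    (han : ∀ z₁ z₂ : F, z₁ ^ 2 + a * z₁ * z₂ + b * z₂ ^ 2 = 0 → z₁ = 0 ∧ z₂ = 0) :
    Set.range (orderOf : Cfsg.PSp 4 F → ℕ) =
      Set.range (orderOf : ↥(Cfsg.isometryGroup F (Cfsg.quadFormMinus 3 F a b)) → ℕ) := by
  apply Set.eq_of_subset_of_subset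
  · rintro n ⟨g, rfl⟩
    obtain ⟨A, rfl⟩ := QuotientGroup.mk_surjective g
    rw [orderOf_mk]
    obtain ⟨M, hM, hpow⟩ := sp_pow_eq_one A
    obtain ⟨x, hx⟩ := exists_orderOf_of_hasBlock a b han M (hasBlock_of_mem_ords M hM)
    have hdvd : orderOf A ∣ orderOf x := by
      rw [hx]; exact orderOf_dvd_of_pow_eq_one hpow
    obtain ⟨k, hk⟩ := hdvd
    have hpos : 0 < orderOf x := by
      have : Finite ↥(Cfsg.isometryGroup F (Cfsg.quadFormMinus 3 F a b)) := inferInstance
      exact orderOf_pos x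
    refine ⟨x ^ k, ?_⟩
    have hk0 : k ≠ 0 := by
      rintro rfl
      rw [mul_zero] at hk; omega
    have : orderOf (x ^ k) = orderOf x / k := by
      apply orderOf_pow_of_dvd hk0
      rw [hk]; exact dvd_mul_left k _
    rw [this, hk, Nat.mul_div_cancel _ (Nat.pos_of_ne_zero hk0)]
  · rintro n ⟨g, rfl⟩
    obtain ⟨A, hA⟩ := exists_sp_orderOf a b han g
    exact ⟨QuotientGroup.mk A, by rw [orderOf_mk, hA]⟩

end Cfsg.Agent.S3589P
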