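import Cfsg.Agent.S2495

/-! S2510 (driver helper28): shared definitions.

`L = PSL_n(F)`, `|F| = q = p^a`, `r` a prime with `r ∣ q - 1`, `r ∤ n`.  We show that the set of element
orders of `L × L × L` is closed under `lcm (·) r`.  For `x = π A` (`A ∈ SL_n(F)`): if the minimal
polynomial of `A` has two coprime factors, some `r`-element `t` of `SL_n(F)`, not central, commutes with
`A`, so `r * o(x)` is an element order (`x` is *good*); otherwise the minimal polynomial is `f ^ e`,
`f` irreducible, and `o(x) = p ^ k * a` with `a` dividing the order `singerNum q n` of a Singer cycle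
of `L` (`x` is *bad*).  Three bad elements are replaced by a Singer element, a `p`-element and an
`r`-element. -/

set_option autoImplicit false

namespace Cfsg.Agent.S2510P

/-- the order `(q^n - 1) / ((q - 1) gcd(n, q - 1))` of a Singer cycle of `PSL_n(q)`, in the form of
`Cfsg.Agent.S2495.exists_orderOf` -/
def singerNum (q n : ℕ) : ℕ :=
  Cfsg.Agent.S2495.gs q n / Nat.gcd (Cfsg.Agent.S2495.gs q n) (q - 1)

variable {F : Type*} [Field F] {n : ℕ}

/-- the nilpotent matrix `∑_{i + 1 < b} E_{i, i+1}` -/
def nilN (n : ℕ) (F : Type*) [Field F] (b : ℕ) : Matrix (Fin n) (Fin n) F :=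
  Matrix.of fun i j => if (j : ℕ) = (i : ℕ) + 1 ∧ (j : ℕ) < b then 1 else 0

/-- the diagonal matrix `diag(lam, …, lam, mu, …, mu)` with `b` entries `lam` -/
def diagD (n : ℕ) {F : Type*} [Field F] (b : ℕ) (lam mu : F) : Matrix (Fin n) (Fin n) F :=
  Matrix.diagonal fun i => if (i : ℕ) < b then lam else mu

end Cfsg.Agent.S2510P
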