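import Mathlib

set_option autoImplicit false
set_option linter.style.haveILetI false

/-! # S3493 (extremely primitive groups), tools `H28.fixed_eq`, `H28.BLOCKFIX`, `H28.MAXSTAB`

`G` acts faithfully and primitively on `Ω`, `H = G_a`.

* `H28.fixed_eq`: if `M` is a transitive normal subgroup with `M_a ≠ 1` and `M_a` fixes `ω`, then
  `ω = a` (the set of points with the same `M`-stabiliser as `a` is a block).
* `H28.BLOCKFIX`: if moreover `H` is primitive on each of its orbits, then the `H`-orbits are the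
  `M_a`-orbits; double coset form `H28.BLOCKFIX'`: `h n h⁻¹ ∈ M_a n M_a` for `h ∈ H`, `n ∈ M`.
* `H28.MAXSTAB`: for `ω ≠ a` (and `H ≠ 1`) the stabiliser of `ω` in `H` is a maximal subgroup of `H`.
-/

namespace Cfsg.Agent.S3493P

open MulAction

/-- Conjugation formula for the stabiliser in a normal subgroup. -/
theorem H28.aux_conj {G Ω : Type*} [Group G] [MulAction G Ω] (M : Subgroup G) [M.Normal]
    (g : G) (γ : Ω) :
    M ⊓ stabilizer G (g • γ) = (M ⊓ stabilizer G γ).map (MulAut.conj g).toMonoidHom := by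
  ext x
  simp only [Subgroup.mem_inf, mem_stabilizer_iff, Subgroup.mem_map, MulEquiv.coe_toMonoidHom,
    MulAut.conj_apply]
  constructor
  · rintro ⟨hxM, hx⟩
    refine ⟨g⁻¹ * x * g, ⟨?_, ?_⟩, by group⟩
    · have := ‹M.Normal›.conj_mem x hxM g⁻¹
      simpa using this
    · rw [mul_smul, mul_smul, hx, inv_smul_smul]
  · rintro ⟨y, ⟨hyM, hy⟩, rfl⟩
    refine ⟨‹M.Normal›.conj_mem y hyM g, ?_⟩
    rw [mul_smul, mul_smul, inv_smul_smul, hy]

/-- If the point stabiliser `M_a ≠ 1` of a transitive normal subgroup `M` of a faithful primitive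
group fixes `ω`, then `ω = a`. -/
theorem H28.fixed_eq {G Ω : Type*} [Group G] [Finite G] [MulAction G Ω] [FaithfulSMul G Ω]
    (hprim : IsPreprimitive G Ω) (M : Subgroup G) [M.Normal] [IsPretransitive M Ω] (a ω : Ω)
    (hMa : M ⊓ stabilizer G a ≠ ⊥) (hfix : ∀ k ∈ M ⊓ stabilizer G a, k • ω = ω) : ω = a := by
  classical
  set f : Ω → Subgroup G := fun γ => M ⊓ stabilizer G γ with hf
  have hconj : ∀ (g : G) (γ : Ω), f (g • γ) = (f γ).map (MulAut.conj g).toMonoidHom :=
    fun g γ => H28.aux_conj M g γ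
  -- `f ω = f a`
  have hωa : f a = f ω := by
    have hle : f a ≤ f ω := by
      intro k hk
      exact ⟨hk.1, hfix k hk⟩
    obtain ⟨g, hg⟩ := exists_smul_eq M a ω
    have hg' : (g : G) • a = ω := hg
    have hcard : Nat.card (f ω) = Nat.card (f a) := by
      rw [← hg', hconj]
      exact Subgroup.card_map_of_injective (MulAut.conj (g : G)).injective
    exact Subgroup.eq_of_le_of_card_ge hle hcard.le
  -- the block
  set B : Set Ω := {γ | f γ = f a} with hB
  have hblock : IsBlock G B := by
    rw [isBlock_iff_smul_eq_or_disjoint]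
    intro g
    by_cases hg : (f a).map (MulAut.conj g).toMonoidHom = f a
    · left
      have hg' : (f a).map (MulAut.conj g⁻¹).toMonoidHom = f a := by
        conv_lhs => rw [← hg]
        rw [Subgroup.map_map]
        have : (MulAut.conj g⁻¹).toMonoidHom.comp (MulAut.conj g).toMonoidHom = MonoidHom.id G := by
          ext x
          simp only [MonoidHom.coe_comp, MulEquiv.coe_toMonoidHom, Function.comp_apply,
            MulAut.conj_apply, MonoidHom.id_apply]
          group
        rw [this, Subgroup.map_id]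
      ext γ
      rw [Set.mem_smul_set_iff_inv_smul_mem]
      simp only [hB, Set.mem_ofPred_eq]
      constructor
      · intro h
        have : f γ = f (g • g⁻¹ • γ) := by rw [smul_inv_smul]
        rw [this, hconj, h, hg]
      · intro h
        rw [hconj, h, hg']
    · right
      rw [Set.disjoint_left]
      intro γ hγ hγB
      rw [Set.mem_smul_set_iff_inv_smul_mem] at hγ
      simp only [hB, Set.mem_ofPred_eq] at hγ hγB
      apply hg
      calc (f a).map (MulAut.conj g).toMonoidHom
          = (f (g⁻¹ • γ)).map (MulAut.conj g).toMonoidHom := by rw [hγ]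
        _ = f (g • g⁻¹ • γ) := (hconj _ _).symm
        _ = f γ := by rw [smul_inv_smul]
        _ = f a := hγB
  rcases hprim.isTrivialBlock_of_isBlock hblock with hs | hu
  · exact hs (show ω ∈ B from hωa.symm) (show a ∈ B from rfl)
  · exfalso
    apply hMa
    rw [Subgroup.eq_bot_iff_forall]
    intro k hk
    apply FaithfulSMul.eq_of_smul_eq_smul (α := Ω)
    intro γ
    rw [one_smul]
    have hγ : γ ∈ B := by rw [hu]; exact Set.mem_univ γ
    have hk' : k ∈ f γ := by
      have h1 : f γ = f a := hγ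
      rw [h1]; exact hk
    exact hk'.2

/-- In an extremely primitive group, the orbits of a point stabiliser `G_a` are the orbits of
`M_a`, for every transitive normal subgroup `M` with `M_a ≠ 1`. -/
theorem H28.BLOCKFIX {G Ω : Type*} [Group G] [Finite G] [MulAction G Ω] [FaithfulSMul G Ω]
    (hprim : IsPreprimitive G Ω)
    (hep : ∀ (α ω : Ω), IsPreprimitive (stabilizer G α) (orbit (stabilizer G α) ω))
    (M : Subgroup G) [M.Normal] [IsPretransitive M Ω] (a : Ω)
    (hMa : M ⊓ stabilizer G a ≠ ⊥) (h : G) (hh : h ∈ stabilizer G a) (ω : Ω) :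
    ∃ k ∈ M ⊓ stabilizer G a, k • ω = h • ω := by
  classical
  have := hep a ω
  let K : Subgroup (stabilizer G a) := M.subgroupOf (stabilizer G a)
  haveI : K.Normal := Subgroup.normal_subgroupOf
  let x₀ : orbit (stabilizer G a) ω := ⟨ω, mem_orbit_self ω⟩
  have hB : IsBlock (stabilizer G a) (orbit K x₀) := IsBlock.orbit_of_normal x₀
  rcases (hep a ω).isTrivialBlock_of_isBlock hB with hs | hu
  · -- `M_a` fixes `ω`
    have hfix : ∀ k ∈ M ⊓ stabilizer G a, k • ω = ω := by
      intro k hk
      let k' : K := ⟨⟨k, hk.2⟩, Subgroup.mem_subgroupOf.mpr hk.1⟩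
      have h1 : k' • x₀ ∈ orbit K x₀ := mem_orbit x₀ k'
      have h2 : x₀ ∈ orbit K x₀ := mem_orbit_self x₀
      have h3 := hs h1 h2
      have h4 := congrArg Subtype.val h3
      exact h4
    have hωa := H28.fixed_eq hprim M a ω hMa hfix
    refine ⟨1, Subgroup.one_mem _, ?_⟩
    rw [one_smul, hωa]
    exact (mem_stabilizer_iff.mp hh).symm
  · let y : orbit (stabilizer G a) ω := (⟨h, hh⟩ : stabilizer G a) • x₀
    have hy : y ∈ orbit K x₀ := by rw [hu]; exact Set.mem_univ y
    obtain ⟨k, hk⟩ := hy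
    refine ⟨((k : stabilizer G a) : G), ⟨Subgroup.mem_subgroupOf.mp k.2, (k : stabilizer G a).2⟩, ?_⟩
    have := congrArg Subtype.val hk
    exact this

/-- Double coset form of `H28.BLOCKFIX`. -/
theorem H28.BLOCKFIX' {G Ω : Type*} [Group G] [Finite G] [MulAction G Ω] [FaithfulSMul G Ω]
    (hprim : IsPreprimitive G Ω)
    (hep : ∀ (α ω : Ω), IsPreprimitive (stabilizer G α) (orbit (stabilizer G α) ω))
    (M : Subgroup G) [M.Normal] [IsPretransitive M Ω] (a : Ω)
    (hMa : M ⊓ stabilizer G a ≠ ⊥) (h : G) (hh : h ∈ stabilizer G a) (n : G) (hn : n ∈ M) :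
    ∃ k₁ ∈ M ⊓ stabilizer G a, ∃ k₂ ∈ M ⊓ stabilizer G a, h * n * h⁻¹ = k₁ * n * k₂ := by
  obtain ⟨k, hk, hkω⟩ := H28.BLOCKFIX hprim hep M a hMa h hh (n • a)
  have hha : h • a = a := mem_stabilizer_iff.mp hh
  have hha' : h⁻¹ • a = a := by rw [inv_smul_eq_iff, hha]
  refine ⟨k, hk, (k * n)⁻¹ * (h * n * h⁻¹), ⟨?_, ?_⟩, by group⟩
  · apply M.mul_mem (M.inv_mem (M.mul_mem hk.1 hn))
    exact ‹M.Normal›.conj_mem n hn h
  · show (k * n)⁻¹ * (h * n * h⁻¹) ∈ stabilizer G a
    rw [mem_stabilizer_iff, mul_smul, mul_smul, mul_smul, hha', inv_smul_eq_iff, mul_smul]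
    exact hkω.symm

/-- In an extremely primitive group with `G_a ≠ 1`, the stabiliser in `G_a` of any other point is
a maximal subgroup of `G_a`. -/
theorem H28.MAXSTAB {G Ω : Type*} [Group G] [Finite G] [MulAction G Ω] [FaithfulSMul G Ω]
    (hprim : IsPreprimitive G Ω)
    (hep : ∀ (α ω : Ω), IsPreprimitive (stabilizer G α) (orbit (stabilizer G α) ω))
    (a ω : Ω) (hω : ω ≠ a) (hH : stabilizer G a ≠ ⊥) :
    IsCoatom (stabilizer (stabilizer G a) ω) := by
  classical
  haveI := hep a ω
  let x₀ : orbit (stabilizer G a) ω := ⟨ω, mem_orbit_self ω⟩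
  -- the orbit is nontrivial
  haveI : Nontrivial (orbit (stabilizer G a) ω) := by
    by_contra hnt
    rw [not_nontrivial_iff_subsingleton] at hnt
    apply hω
    haveI : IsPretransitive (⊤ : Subgroup G) Ω := by
      haveI := hprim.toIsPretransitive
      refine ⟨fun x y => ?_⟩
      obtain ⟨g, hg⟩ := exists_smul_eq G x y
      exact ⟨⟨g, Subgroup.mem_top g⟩, hg⟩
    apply H28.fixed_eq hprim (⊤ : Subgroup G) a ω
    · rwa [top_inf_eq]
    · intro k hk
      have hk' : k ∈ stabilizer G a := hk.2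
      have h1 : (⟨k, hk'⟩ : stabilizer G a) • x₀ = x₀ := Subsingleton.elim _ _
      exact congrArg Subtype.val h1
  have hco : IsCoatom (stabilizer (stabilizer G a) x₀) :=
    (isCoatom_stabilizer_iff_preprimitive (stabilizer G a) x₀).mpr (hep a ω)
  have heq : stabilizer (stabilizer G a) x₀ = stabilizer (stabilizer G a) ω := by
    ext g
    simp only [mem_stabilizer_iff]
    constructor
    · intro h
      exact congrArg Subtype.val h
    · intro h
      exact Subtype.ext h
  rwa [heq] at hco

end Cfsg.Agent.S3493P
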