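import Mathlib

set_option autoImplicit false
set_option linter.style.haveILetI false

/-! # S3493 (extremely primitive groups), piece `H28.REGB`

`N` a minimal normal subgroup of `G`, `H` a maximal subgroup of prime order with `N ⊓ H = ⊥` acting
semiregularly on `N ∖ 1` by conjugation.  Then `N` is an `s`-group for some prime `s`.

Proof: `|N| ≡ 1 mod |H|`, so for a prime `s ∣ |N|` the number of Sylow `s`-subgroups of `N` is prime
to `|H|` and `H` normalises one of them, `R`.  Then `H ≤ H ⊔ R ≤ N_G(R)`; `H ⊔ R = H` is impossible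
(`R ≤ N ⊓ H`), so `N_G(R) = ⊤`, `R` is normal in `G` and `R = N`. -/

namespace Cfsg.Agent.S3493P

open MulAction
open scoped Pointwise

theorem H28.REGB {G : Type*} [Group G] [Finite G] (N H : Subgroup G) [N.Normal] (hN : N ≠ ⊥)
    (hmin : ∀ M : Subgroup G, M.Normal → M ≤ N → M = ⊥ ∨ M = N) (hco : IsCoatom H)
    (hNH : N ⊓ H = ⊥) (hcard : (Nat.card H).Prime)
    (hsemi : ∀ h ∈ H, ∀ n ∈ N, h ≠ 1 → n ≠ 1 → h * n * h⁻¹ ≠ n) :
    ∃ s : ℕ, s.Prime ∧ IsPGroup s N := by
  classical
  set r := Nat.card H with hr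
  haveI : Fact r.Prime := ⟨hcard⟩
  have hHp : IsPGroup r H := IsPGroup.of_card (n := 1) (by rw [pow_one])
  -- the conjugation action of `H` on `N`
  letI : MulDistribMulAction H N :=
    MulDistribMulAction.compHom N ((MulAut.conjNormal (H := N)).comp H.subtype)
  have hsmul : ∀ (h : H) (n : N), ((h • n : N) : G) = (h : G) * (n : G) * (h : G)⁻¹ := by
    intro h n
    exact MulAut.conjNormal_apply (h : G) n
  -- `|N| ≡ 1 mod r`
  have hfix : ∀ n : N, n ∈ fixedPoints H N ↔ n = 1 := by
    intro n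
    constructor
    · intro hn
      by_contra hn1
      -- `H` is nontrivial
      obtain ⟨h, hh1⟩ : ∃ h : H, h ≠ 1 := by
        haveI : Nontrivial H := by
          rw [← Finite.one_lt_card_iff_nontrivial]
          exact hcard.one_lt
        exact exists_ne 1
      have h1 : h • n = n := hn h
      have h2 := congrArg Subtype.val h1
      rw [hsmul] at h2
      refine hsemi h h.2 n n.2 ?_ ?_ h2
      · intro h0
        exact hh1 (Subtype.ext h0)
      · intro h0
        exact hn1 (Subtype.ext h0)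
    · rintro rfl h
      exact smul_one h
  have hcardfix : Nat.card (fixedPoints H N) = 1 := by
    rw [Nat.card_eq_one_iff_unique]
    refine ⟨⟨fun x y => ?_⟩, ⟨⟨1, (hfix 1).mpr rfl⟩⟩⟩
    apply Subtype.ext
    rw [(hfix x).mp x.2, (hfix y).mp y.2]
  have hNmod : Nat.card N ≡ 1 [MOD r] := by
    have := hHp.card_modEq_card_fixedPoints N
    rwa [hcardfix] at this
  have hrN : ¬ r ∣ Nat.card N := by
    intro hdiv
    have h0 : Nat.card N ≡ 0 [MOD r] := (Nat.modEq_zero_iff_dvd).mpr hdiv
    have h10 : 1 ≡ 0 [MOD r] := hNmod.symm.trans h0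
    have := (Nat.modEq_zero_iff_dvd).mp h10
    exact hcard.one_lt.ne' (Nat.dvd_one.mp this)
  -- a prime `s` dividing `|N|`
  have hN1 : Nat.card N ≠ 1 := by
    intro h1
    apply hN
    exact Subgroup.card_eq_one.mp h1
  obtain ⟨s, hs, hsN⟩ := Nat.exists_prime_and_dvd hN1
  haveI : Fact s.Prime := ⟨hs⟩
  refine ⟨s, hs, ?_⟩
  -- a Sylow subgroup fixed by `H`
  have hSyl : ¬ r ∣ Nat.card (Sylow s N) := by
    intro hdiv
    obtain ⟨P⟩ : Nonempty (Sylow s N) := inferInstance
    have h1 : Nat.card (Sylow s N) ∣ (P : Subgroup N).index := P.card_dvd_index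
    have h2 : (P : Subgroup N).index ∣ Nat.card N := Subgroup.index_dvd_card _
    exact hrN (hdiv.trans (h1.trans h2))
  have hfixS : (fixedPoints H (Sylow s N)).Nonempty := by
    by_contra hempty
    rw [Set.not_nonempty_iff_eq_empty] at hempty
    have h1 := hHp.card_modEq_card_fixedPoints (Sylow s N)
    rw [hempty] at h1
    have h2 : Nat.card (∅ : Set (Sylow s N)) = 0 := by simp
    rw [h2] at h1
    exact hSyl ((Nat.modEq_zero_iff_dvd).mp h1)
  obtain ⟨P, hP⟩ := hfixS
  -- `R`
  let R : Subgroup G := (P : Subgroup N).map N.subtype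
  have hRN : R ≤ N := by
    rintro x ⟨y, _, rfl⟩
    exact y.2
  have hHR : H ≤ Subgroup.normalizer (R : Set G) := by
    intro h hh
    rw [Subgroup.mem_normalizer_iff]
    have key : ∀ (h : G) (hh : h ∈ H), ∀ x ∈ R, h * x * h⁻¹ ∈ R := by
      rintro h hh x ⟨y, hy, rfl⟩
      have h1 : (⟨h, hh⟩ : H) • P = P := hP ⟨h, hh⟩
      have h2 : (⟨h, hh⟩ : H) • y ∈ ((⟨h, hh⟩ : H) • P : Sylow s N) := by
        change (⟨h, hh⟩ : H) • y ∈ (⟨h, hh⟩ : H) • (P : Subgroup N)
        exact Subgroup.smul_mem_pointwise_smul y _ _ hy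
      rw [h1] at h2
      refine ⟨(⟨h, hh⟩ : H) • y, h2, ?_⟩
      rw [Subgroup.subtype_apply, hsmul]
      rfl
    intro x
    constructor
    · intro hx
      exact key h hh x hx
    · intro hx
      have := key h⁻¹ (H.inv_mem hh) _ hx
      have e1 : h⁻¹ * (h * x * h⁻¹) * h⁻¹⁻¹ = x := by group
      rwa [e1] at this
  have hRR : R ≤ Subgroup.normalizer (R : Set G) := Subgroup.le_normalizer
  have hPbot : (P : Subgroup N) ≠ ⊥ := P.ne_bot_of_dvd_card hsN
  have hRbot : R ≠ ⊥ := by
    intro h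
    apply hPbot
    rw [Subgroup.eq_bot_iff_forall]
    intro y hy
    have : (y : G) ∈ R := ⟨y, hy, rfl⟩
    rw [h, Subgroup.mem_bot] at this
    exact Subtype.ext this
  have hnorm : Subgroup.normalizer (R : Set G) = ⊤ := by
    rcases hco.le_iff.mp hHR with h | h
    · exact h
    · exfalso
      apply hRbot
      have : R ≤ N ⊓ H := le_inf hRN (by rw [← h]; exact hRR)
      rw [hNH] at this
      exact le_bot_iff.mp this
  have hRnormal : R.Normal := Subgroup.normalizer_eq_top_iff.mp hnorm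
  rcases hmin R hRnormal hRN with h | h
  · exact absurd h hRbot
  · -- `P = ⊤`
    have hPtop : (P : Subgroup N) = ⊤ := by
      rw [Subgroup.eq_top_iff']
      intro y
      have : (y : G) ∈ R := by rw [h]; exact y.2
      obtain ⟨z, hz, hzy⟩ := this
      have : z = y := Subtype.ext hzy
      rwa [← this]
    have := P.isPGroup'
    rw [hPtop] at this
    exact (IsPGroup.of_equiv this Subgroup.topEquiv : IsPGroup s N)

end Cfsg.Agent.S3493P
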