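import Mathlib

set_option autoImplicit false

/-! # S4701, piece SUB: the normal closure of a non-normal Sylow subgroup -/

namespace Cfsg.Agent.S4701P

universe u

variable {G : Type u} [Group G] [Finite G]

/-- SUB -/
theorem normalClosure_sylow (p : ℕ) [Fact p.Prime] (P : Sylow p G)
    (hP : ¬ (P : Subgroup G).Normal) :
    p ∣ Nat.card ↥(Subgroup.normalClosure ((P : Subgroup G) : Set G)) ∧
    ∃ P' : Sylow p ↥(Subgroup.normalClosure ((P : Subgroup G) : Set G)),
      ¬ (P' : Subgroup ↥(Subgroup.normalClosure ((P : Subgroup G) : Set G))).Normal := by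
  set L : Subgroup G := Subgroup.normalClosure ((P : Subgroup G) : Set G) with hL
  have hPL : (P : Subgroup G) ≤ L := Subgroup.le_normalClosure
  have hne : (P : Subgroup G) ≠ ⊥ := by
    intro h
    apply hP
    rw [h]
    infer_instance
  constructor
  · have h1 : p ∣ Nat.card (P : Subgroup G) := by
      obtain ⟨n, hn⟩ := IsPGroup.iff_card.1 P.2
      rw [hn]
      rcases n with _ | n
      · exfalso
        apply hne
        rw [pow_zero] at hn
        exact (Subgroup.card_eq_one).1 hn
      · exact dvd_pow_self p (Nat.succ_ne_zero n)
    exact h1.trans (Subgroup.card_dvd_of_le hPL)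
  · refine ⟨P.subtype hPL, ?_⟩
    intro hn
    apply hP
    have : ((P.subtype hPL : Sylow p L) : Subgroup L).Normal := hn
    have : ((P.subtype hPL : Sylow p L) : Subgroup L).Characteristic :=
      Sylow.characteristic_of_normal _ hn
    have : L.Normal := Subgroup.normalClosure_normal
    have h2 : (((P.subtype hPL : Sylow p L) : Subgroup L).map L.subtype).Normal :=
      ConjAct.normal_of_characteristic_of_normal
    have e : ((P.subtype hPL : Sylow p L) : Subgroup L).map L.subtype = (P : Subgroup G) := by
      rw [Sylow.coe_subtype, Subgroup.subgroupOf_map_subtype, inf_eq_left]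
      exact hPL
    rw [e] at h2
    exact h2

end Cfsg.Agent.S4701P
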