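import Mathlib
import Cfsg.Prelude.Def_Classical
import Cfsg.Agent.Helper23.S5953Defs

/-! S5953, piece DIAGCHOICE: a choice of `n` `r`-th roots of unity of norm one with product one
and small multiplicities: `ω ^ (2 j + 1 - m)` for `j < m = min n r`, and `1` for `j ≥ m`. -/

set_option autoImplicit false
open scoped MatrixGroups Matrix

universe u

namespace Cfsg.Agent.S5953P

open Polynomial Cfsg.Agent.S5955P

namespace DIAGCHOICE

theorem sum_odd (k : ℕ) : ∑ j ∈ Finset.range k, (2 * (j : ℤ) + 1) = (k : ℤ) ^ 2 := by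
  induction k with
  | zero => simp
  | succ k ih =>
    rw [Finset.sum_range_succ, ih]
    push_cast
    ring

theorem sum_E (n m : ℕ) (hmn : m ≤ n) :
    ∑ j ∈ Finset.range n, (if j < m then 2 * (j : ℤ) + 1 - m else 0) = 0 := by
  rw [← Finset.sum_filter]
  have h1 : (Finset.range n).filter (fun j => j < m) = Finset.range m := by
    ext j
    simp only [Finset.mem_filter, Finset.mem_range]
    omega
  rw [h1, Finset.sum_sub_distrib, sum_odd, Finset.sum_const, Finset.card_range, nsmul_eq_mul]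
  ring

end DIAGCHOICE

open DIAGCHOICE in
/-- DIAGCHOICE: exponents with sum zero and small multiplicities -/
theorem exists_diag_choice {F : Type*} [Field F] [Fintype F] {q : ℕ}
    (hF : Fintype.card F = q ^ 2) (r : ℕ) [Fact r.Prime] (hr2 : r ≠ 2) (hrq : r ∣ q + 1)
    (n : ℕ) (hn : 3 ≤ n) :
    ∃ d : Fin n → F, (∀ j, d j ^ (q + 1) = 1) ∧ (∀ j, d j ^ r = 1) ∧ ∏ j, d j = 1 ∧
      (∃ j j', d j ≠ d j') ∧
      (∀ l : F, l ≠ 1 → Nat.card {j : Fin n // d j = l} ≤ 1) ∧
      (r ≤ n → Nat.card {j : Fin n // d j = 1} + (r - 1) = n) ∧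
      (n < r → Nat.card {j : Fin n // d j = 1} ≤ 1) := by
  classical
  have hrp : r.Prime := Fact.out
  have hr3 : 3 ≤ r := by
    have := hrp.two_le
    omega
  have hq : q ≠ 0 := by
    rintro rfl
    have := Fintype.card_pos (α := F)
    rw [hF] at this
    simp at this
  have hcard : Fintype.card Fˣ = (q + 1) * (q - 1) := by
    rw [Fintype.card_units, hF]
    obtain ⟨q', rfl⟩ := Nat.exists_eq_succ_of_ne_zero hq
    rw [Nat.succ_sub_one]
    have : (q' + 1) ^ 2 = (q' + 1 + 1) * q' + 1 := by ring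
    rw [this, Nat.add_sub_cancel]
  obtain ⟨ω, hω⟩ := exists_prime_orderOf_dvd_card (G := Fˣ) r
    (by rw [hcard]; exact Dvd.dvd.mul_right hrq _)
  have hωr : ω ^ r = 1 := by rw [← hω]; exact pow_orderOf_eq_one ω
  have hωq : ω ^ (q + 1) = 1 := by
    obtain ⟨c, hc⟩ := hrq
    rw [hc, pow_mul, hωr, one_pow]
  obtain ⟨m, hm⟩ : ∃ m, m = min n r := ⟨_, rfl⟩
  have hm3 : 3 ≤ m := hm ▸ le_min hn hr3
  have hmn : m ≤ n := hm ▸ min_le_left _ _
  have hmr : m ≤ r := hm ▸ min_le_right _ _
  obtain ⟨E, hE⟩ : ∃ E : ℕ → ℤ, E = fun j => if j < m then 2 * (j : ℤ) + 1 - m else 0 := ⟨_, rfl⟩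
  have hE1 : ∀ j, j < m → E j = 2 * (j : ℤ) + 1 - m := by
    intro j hj
    rw [hE]
    exact if_pos hj
  have hE0 : ∀ j, ¬ j < m → E j = 0 := by
    intro j hj
    rw [hE]
    exact if_neg hj
  have hdiv : ∀ j j', j < m → j' < m → ((r : ℤ) ∣ 2 * ((j' : ℤ) - j)) → j = j' := by
    intro j j' hj hj' h
    rcases Int.Prime.dvd_mul' hrp h with h2 | h2
    · have := Int.le_of_dvd (by norm_num) h2
      omega
    · have h0 := Int.eq_zero_of_abs_lt_dvd h2 (by rw [abs_lt]; constructor <;> omega)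
      omega
  have hinj : ∀ j j', j < m → j' < m → ω ^ E j = ω ^ E j' → j = j' := by
    intro j j' hj hj' h
    rw [zpow_eq_zpow_iff_modEq, hω, Int.modEq_iff_dvd, hE1 j hj, hE1 j' hj'] at h
    apply hdiv j j' hj hj'
    have e : 2 * ((j' : ℤ) - j) = 2 * (j' : ℤ) + 1 - m - (2 * (j : ℤ) + 1 - m) := by ring
    rw [e]
    exact h
  have hprod : ∀ s : Finset (Fin n), ∏ j ∈ s, ω ^ E j = ω ^ ∑ j ∈ s, E j := by
    intro s
    induction s using Finset.induction_on with
    | empty => simp
    | insert a s ha ih => rw [Finset.prod_insert ha, Finset.sum_insert ha, ih, zpow_add]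
  have hval : ∀ j j' : ℕ, ((ω ^ E j : Fˣ) : F) = ((ω ^ E j' : Fˣ) : F) → ω ^ E j = ω ^ E j' :=
    fun j j' h => Units.ext h
  refine ⟨fun j => ((ω ^ E j : Fˣ) : F), ?_, ?_, ?_, ?_, ?_, ?_, ?_⟩
  · intro j
    show ((ω ^ E j : Fˣ) : F) ^ (q + 1) = 1
    rw [← Units.val_pow_eq_pow_val, ← zpow_natCast, ← zpow_mul, mul_comm, zpow_mul, zpow_natCast,
      hωq, one_zpow, Units.val_one]
  · intro j
    show ((ω ^ E j : Fˣ) : F) ^ r = 1
    rw [← Units.val_pow_eq_pow_val, ← zpow_natCast, ← zpow_mul, mul_comm, zpow_mul, zpow_natCast,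
      hωr, one_zpow, Units.val_one]
  · show ∏ j : Fin n, ((ω ^ E j : Fˣ) : F) = 1
    rw [← Units.coe_prod, hprod, Fin.sum_univ_eq_sum_range (fun j => E j) n, hE, sum_E n m hmn,
      zpow_zero, Units.val_one]
  · refine ⟨⟨0, by omega⟩, ⟨1, by omega⟩, ?_⟩
    intro h
    have := hinj 0 1 (by omega) (by omega) (hval 0 1 h)
    omega
  · intro l hl
    rw [Finite.card_le_one_iff_subsingleton]
    constructor
    rintro ⟨j, hj⟩ ⟨j', hj'⟩
    have hjm : (j : ℕ) < m := by
      by_contra h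
      apply hl
      rw [← hj]
      show ((ω ^ E j : Fˣ) : F) = 1
      rw [hE0 _ h, zpow_zero, Units.val_one]
    have hjm' : (j' : ℕ) < m := by
      by_contra h
      apply hl
      rw [← hj']
      show ((ω ^ E j' : Fˣ) : F) = 1
      rw [hE0 _ h, zpow_zero, Units.val_one]
    have := hinj j j' hjm hjm' (hval j j' (hj.trans hj'.symm))
    exact Subtype.ext (Fin.ext this)
  · intro hrn
    have hmr' : m = r := by rw [hm]; exact min_eq_right hrn
    obtain ⟨c, hc⟩ : ∃ c, r = 2 * c + 1 := by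
      rcases hrp.eq_two_or_odd' with h | h
      · exact absurd h hr2
      · exact h
    have hcm : c < m := by omega
    have hEc : E c = 0 := by
      rw [hE1 c hcm, hmr', hc]
      push_cast
      ring
    rw [Nat.card_eq_fintype_card, Fintype.card_subtype, Finset.card_filter,
      Fin.sum_univ_eq_sum_range (fun j => if ((ω ^ E j : Fˣ) : F) = 1 then 1 else 0) n,
      ← Finset.sum_range_add_sum_Ico _ hrn]
    have h1 : ∑ j ∈ Finset.range r, (if ((ω ^ E j : Fˣ) : F) = 1 then 1 else 0) = 1 := by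
      rw [Finset.sum_eq_single c]
      · rw [hEc, zpow_zero, Units.val_one, if_pos rfl]
      · intro j hj hjc
        rw [Finset.mem_range] at hj
        rw [if_neg]
        intro h
        apply hjc
        apply hinj j c (by omega) hcm
        apply Units.ext
        rw [h, hEc, zpow_zero, Units.val_one]
      · intro h
        exfalso
        apply h
        rw [Finset.mem_range]
        omega
    have h2 : ∑ j ∈ Finset.Ico r n, (if ((ω ^ E j : Fˣ) : F) = 1 then 1 else 0) = n - r := by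
      rw [Finset.sum_congr rfl (g := fun _ => 1), Finset.sum_const, Nat.card_Ico, smul_eq_mul,
        mul_one]
      intro j hj
      rw [Finset.mem_Ico] at hj
      rw [hE0 j (by omega), zpow_zero, Units.val_one, if_pos rfl]
    rw [h1, h2]
    omega
  · intro hnr
    have hmn' : m = n := by rw [hm]; exact min_eq_left hnr.le
    rw [Finite.card_le_one_iff_subsingleton]
    constructor
    rintro ⟨j, hj⟩ ⟨j', hj'⟩
    have := hinj j j' (hmn' ▸ j.2) (hmn' ▸ j'.2) (hval j j' (hj.trans hj'.symm))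
    exact Subtype.ext (Fin.ext this)

end Cfsg.Agent.S5953P
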