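import Mathlib
import Cfsg.Prelude.Def_Classical
import Cfsg.Agent.Helper23.S5953Defs

/-! S5953, piece DIAGYU: diagonal unitary matrices and their eigenspaces. -/

set_option autoImplicit false
open scoped MatrixGroups Matrix

universe u

namespace Cfsg.Agent.S5953P

open Polynomial Cfsg.Agent.S5955P Cfsg.Agent.Helper28.HW Cfsg.Agent.Helper28.HermFrame

/-- DIAGYU: eigenspaces of a diagonal matrix -/
theorem diag_facts {F : Type*} [Field F] {q n : ℕ} (d : Fin n → F)
    (hd : ∀ j, d j ^ (q + 1) = 1) :
    IsUn q (Matrix.diagonal d) ∧
    ∀ l : F, Module.finrank F (LinearMap.ker (Matrix.toLin' (Matrix.diagonal d) -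
      l • (1 : Module.End F (Fin n → F)))) = Nat.card {j : Fin n // d j = l} := by
  classical
  constructor
  · intro u v
    unfold Cfsg.hermForm
    apply Finset.sum_congr rfl
    intro i _
    rw [Matrix.mulVec_diagonal, Matrix.mulVec_diagonal, mul_pow]
    have := hd i
    rw [pow_succ] at this
    linear_combination (u i * v i ^ q) * this
  · intro l
    have h1 : Matrix.toLin' (Matrix.diagonal d) - l • (1 : Module.End F (Fin n → F)) =
        Matrix.toLin' (Matrix.diagonal (fun j => d j - l)) := by
      apply LinearMap.ext
      intro u
      funext j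
      rw [LinearMap.sub_apply, LinearMap.smul_apply, Module.End.one_apply, Matrix.toLin'_apply,
        Matrix.toLin'_apply, Pi.sub_apply, Pi.smul_apply, Matrix.mulVec_diagonal,
        Matrix.mulVec_diagonal, smul_eq_mul]
      ring
    rw [h1]
    have h2 := LinearMap.finrank_range_add_finrank_ker
      (Matrix.toLin' (Matrix.diagonal (fun j => d j - l)))
    have h3 : Module.finrank F (LinearMap.range
        (Matrix.toLin' (Matrix.diagonal (fun j => d j - l)))) =
        Fintype.card {j : Fin n // d j - l ≠ 0} := by
      rw [← Matrix.rank_diagonal (fun j => d j - l), Matrix.rank, Matrix.toLin'_apply']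
    have h4 : Fintype.card {j : Fin n // d j - l ≠ 0} + Fintype.card {j : Fin n // d j = l} =
        n := by
      have := Fintype.card_subtype_compl (fun j : Fin n => d j = l)
      rw [Fintype.card_fin] at this
      have h5 : Fintype.card {j : Fin n // d j - l ≠ 0} = Fintype.card {j : Fin n // ¬ d j = l} := by
        apply Fintype.card_congr
        apply Equiv.subtypeEquivRight
        intro j
        rw [ne_eq, sub_eq_zero]
      rw [h5, this]
      have := Fintype.card_subtype_le (fun j : Fin n => d j = l)
      rw [Fintype.card_fin] at this
      omega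
    rw [Module.finrank_fintype_fun_eq_card, Fintype.card_fin] at h2
    rw [Nat.card_eq_fintype_card]
    omega

end Cfsg.Agent.S5953P
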