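import Mathlib
import Cfsg.Prelude.Def_Local
import Cfsg.Agent.Helper26.QuadStable2

set_option autoImplicit false

/-! S3789 piece Q: a quadratic element centralizes an invariant `3'`-group whose `2`-subgroups are
abelian. -/

open Subgroup
open scoped commutatorElement
open Cfsg.Agent.Helper26 (IsQuadEnd)

namespace Cfsg.Agent.Helper28.HH3

section aux

variable {G : Type*} [Group G]

theorem mem_of_coprime_pow' (C : Subgroup G) (x : G) (a b : ℕ) (hab : Nat.Coprime a b)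
    (ha : x ^ a ∈ C) (hb : x ^ b ∈ C) : x ∈ C := by
  have h := Nat.gcd_eq_gcd_ab a b
  rw [hab, Nat.cast_one] at h
  have e : x = (x ^ a) ^ (Nat.gcdA a b) * (x ^ b) ^ (Nat.gcdB a b) := by
    rw [← zpow_natCast, ← zpow_natCast, ← zpow_mul, ← zpow_mul, ← zpow_add, ← h, zpow_one]
  rw [e]
  exact C.mul_mem (C.zpow_mem ha _) (C.zpow_mem hb _)

/-- if `a ^ 3 = 1` and `a` normalizes `Y` then cubes of elements of `Y ⊔ ⟨a⟩` lie in `Y` -/
theorem pow_three_mem_of_mem_sup (Y : Subgroup G) (a : G) (hY : a ∈ normalizer (Y : Set G))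
    (ha3 : a ^ 3 = 1) : ∀ h ∈ Y ⊔ zpowers a, h ^ 3 ∈ Y := by
  classical
  set N : Subgroup G := normalizer (Y : Set G) with hN
  have hYN : Y ≤ N := Subgroup.le_normalizer
  have : (Y.subgroupOf N).Normal := Subgroup.normal_in_normalizer
  let q : N →* N ⧸ Y.subgroupOf N := QuotientGroup.mk' (Y.subgroupOf N)
  let a' : N := ⟨a, hY⟩
  let T : Subgroup G := ((zpowers (q a')).comap q).map N.subtype
  have hYT : Y ≤ T := by
    intro y hy
    refine ⟨⟨y, hYN hy⟩, ?_, rfl⟩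
    show q ⟨y, hYN hy⟩ ∈ zpowers (q a')
    have : q ⟨y, hYN hy⟩ = 1 := by
      rw [QuotientGroup.mk'_apply, QuotientGroup.eq_one_iff]
      exact Subgroup.mem_subgroupOf.2 hy
    rw [this]
    exact one_mem _
  have haT : zpowers a ≤ T := by
    rw [Subgroup.zpowers_le]
    exact ⟨a', Subgroup.mem_zpowers (q a'), rfl⟩
  intro h hh
  have hT : h ∈ T := (sup_le hYT haT) hh
  obtain ⟨n, hn, rfl⟩ := hT
  have hn' : q n ∈ zpowers (q a') := hn
  obtain ⟨i, hi⟩ := Subgroup.mem_zpowers_iff.1 hn'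
  have h3 : q (n ^ 3) = 1 := by
    rw [map_pow, ← hi, ← zpow_natCast, ← zpow_mul, mul_comm, zpow_mul, zpow_natCast, ← map_pow]
    have : a' ^ 3 = 1 := Subtype.ext ha3
    rw [this, map_one, one_zpow]
  rw [QuotientGroup.mk'_apply, QuotientGroup.eq_one_iff] at h3
  have := Subgroup.mem_subgroupOf.1 h3
  simpa using this

end aux

/-- **piece Q** -/
theorem quad_centralizes {G : Type*} [Group G] [Finite G] {V : Type*} [AddCommGroup V]
    [Module (ZMod 3) V] [Finite V] (ρ : G →* Module.End (ZMod 3) V) (hρ : Function.Injective ρ)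
    (a : G) (ha : IsQuadEnd (ρ a)) (Y : Subgroup G) (hY : a ∈ normalizer (Y : Set G))
    (hcop : (Nat.card Y).Coprime 3)
    (hab : ∀ Q : Subgroup G, Q ≤ Y → IsPGroup 2 Q → ∀ x ∈ Q, ∀ y ∈ Q, Commute x y) :
    ∀ y ∈ Y, a * y = y * a := by
  classical
  have : Fact (Nat.Prime 3) := ⟨by norm_num⟩
  -- `a ^ 3 = 1`
  have ha3 : a ^ 3 = 1 := by
    apply hρ
    rw [map_pow, map_one]
    exact ha.pow_char 3
  set H : Subgroup G := Y ⊔ zpowers a with hH
  have hYH : Y ≤ H := le_sup_left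
  have haH : a ∈ H := (le_sup_right : zpowers a ≤ H) (Subgroup.mem_zpowers a)
  have hcube := pow_three_mem_of_mem_sup Y a hY ha3
  -- `Ab2 ↥H`
  have hAb2 : Cfsg.Agent.Helper26.Ab2 ↥H := by
    intro Q hQ x hx y hy
    have hQY : Q.map H.subtype ≤ Y := by
      rintro _ ⟨z, hz, rfl⟩
      obtain ⟨k, hk⟩ := hQ ⟨z, hz⟩
      have hk' : (z : G) ^ 2 ^ k = 1 := by
        have := congrArg (fun w : Q => ((w : ↥H) : G)) hk
        simpa using this
      apply mem_of_coprime_pow' Y (z : G) 3 (2 ^ k)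
        (Nat.Coprime.pow_right k (by norm_num)) (hcube _ z.2)
      rw [hk']
      exact Y.one_mem
    have hQ2 : IsPGroup 2 (Q.map H.subtype) := hQ.map _
    have := hab (Q.map H.subtype) hQY hQ2 (x : G) ⟨x, hx, rfl⟩ (y : G) ⟨y, hy, rfl⟩
    apply Subtype.ext
    exact this
  -- the representation of `H`
  let ρ' : ↥H →* Module.End (ZMod 3) V := ρ.comp H.subtype
  have hker : ρ'.ker = ⊥ := by
    rw [MonoidHom.ker_eq_bot_iff]
    exact hρ.comp Subtype.val_injective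
  have ha' : IsQuadEnd (ρ' ⟨a, haH⟩) := ha
  obtain ⟨D, hDn, -, hD3, haD⟩ :=
    Cfsg.Agent.Helper26.exists_normal_of_quad (p := 3) (by decide) ρ' hAb2 ⟨a, haH⟩ ha'
  intro y hy
  set a' : ↥H := ⟨a, haH⟩
  set y' : ↥H := ⟨y, hYH hy⟩
  have hcD : a' * (y' * a'⁻¹ * y'⁻¹) ∈ D :=
    D.mul_mem haD (hDn.conj_mem _ (D.inv_mem haD) y')
  obtain ⟨k, hk⟩ := hD3 _ hcD
  rw [hker, Subgroup.mem_bot] at hk
  set c : G := a * y * a⁻¹ * y⁻¹ with hc
  have hck : c ^ 3 ^ k = 1 := by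
    have := congrArg (fun w : ↥H => (w : G)) hk
    simp only [Subgroup.coe_pow, Subgroup.coe_mul, Subgroup.coe_inv, Subgroup.coe_one] at this
    rw [hc, ← this]
    congr 1
    simp only [a', y']
    group
  have hcY : c ∈ Y := by
    have h1 : a * y * a⁻¹ ∈ Y := (Subgroup.mem_normalizer_iff.1 hY y).1 hy
    exact Y.mul_mem h1 (Y.inv_mem hy)
  have h1 : orderOf c ∣ 3 ^ k := orderOf_dvd_of_pow_eq_one hck
  have h2 : orderOf c ∣ Nat.card Y := Subgroup.orderOf_dvd_natCard Y hcY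
  have h3 : Nat.Coprime (3 ^ k) (Nat.card Y) := Nat.Coprime.pow_left k hcop.symm
  have h4 : orderOf c = 1 := Nat.eq_one_of_dvd_coprimes h3 h1 h2
  have h5 : c = 1 := orderOf_eq_one_iff.1 h4
  have : a * y = c * (y * a) := by rw [hc]; group
  rw [this, h5, one_mul]

end Cfsg.Agent.Helper28.HH3
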