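import Mathlib
import Cfsg.Agent.Helper24.S3067Defs

/-! S3067 piece C1: an `a`-invariant subgroup of `G` containing a conjugate of `τ` contains one
centralised by `a`. -/

set_option autoImplicit false
set_option linter.style.haveILetI false

namespace Cfsg.Agent.S3067P

open scoped Pointwise

/-- conjugation by `a` on an `a`-invariant subgroup -/
def C1.aux_conj {X : Type*} [Group X] (W : Subgroup X) (a : X)
    (h1 : ∀ w ∈ W, a⁻¹ * w * a ∈ W) (h2 : ∀ w ∈ W, a * w * a⁻¹ ∈ W) : ↥W ≃* ↥W where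
  toFun w := ⟨a * w * a⁻¹, h2 w w.2⟩
  invFun w := ⟨a⁻¹ * w * a, h1 w w.2⟩
  left_inv w := by
    apply Subtype.ext
    show a⁻¹ * (a * (w : X) * a⁻¹) * a = (w : X)
    group
  right_inv w := by
    apply Subtype.ext
    show a * (a⁻¹ * (w : X) * a) * a⁻¹ = (w : X)
    group
  map_mul' x y := by
    apply Subtype.ext
    show a * ((x : X) * (y : X)) * a⁻¹ = (a * (x : X) * a⁻¹) * (a * (y : X) * a⁻¹)
    group

theorem C1.aux_conj_apply {X : Type*} [Group X] (W : Subgroup X) (a : X)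
    (h1 : ∀ w ∈ W, a⁻¹ * w * a ∈ W) (h2 : ∀ w ∈ W, a * w * a⁻¹ ∈ W) (w : ↥W) :
    ((C1.aux_conj W a h1 h2 w : ↥W) : X) = a * (w : X) * a⁻¹ := rfl

theorem C1.aux_conj_pow {X : Type*} [Group X] (W : Subgroup X) (a : X)
    (h1 : ∀ w ∈ W, a⁻¹ * w * a ∈ W) (h2 : ∀ w ∈ W, a * w * a⁻¹ ∈ W) (n : ℕ) (w : ↥W) :
    ((((C1.aux_conj W a h1 h2) ^ n) w : ↥W) : X) = a ^ n * (w : X) * (a ^ n)⁻¹ := by
  induction n with
  | zero => simp
  | succ n ih =>
    rw [pow_succ', MulAut.mul_apply, C1.aux_conj_apply, ih, pow_succ']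
    group

/-- normaliser growth in a finite `2`-group. -/
theorem C1.aux_growth {Y : Type*} [Group Y] [Finite Y] (hY : IsPGroup 2 Y) (P0 : Subgroup Y)
    (hne : P0 ≠ ⊤) : ∃ q : Y, q ∉ P0 ∧ ∀ x ∈ P0, q⁻¹ * x * q ∈ P0 := by
  haveI : Fact (Nat.Prime 2) := ⟨Nat.prime_two⟩
  haveI : Group.IsNilpotent Y := hY.isNilpotent
  have hnc := Group.normalizerCondition_of_isNilpotent (G := Y)
  have hlt : P0 < Subgroup.normalizer (P0 : Set Y) := hnc P0 (lt_top_iff_ne_top.mpr hne)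
  obtain ⟨q, hqN, hq⟩ := SetLike.exists_of_lt hlt
  refine ⟨q, hq, fun x hx => ?_⟩
  have hq' : q⁻¹ ∈ Subgroup.normalizer (P0 : Set Y) := Subgroup.inv_mem _ hqN
  have := (Subgroup.mem_normalizer_iff.mp hq' x).mp hx
  simpa using this

variable {X : Type*} [Group X] [Finite X] {a τ : X} {r : ℕ} {G : Subgroup X}

/-- an `a`-invariant Sylow `2`-subgroup of `W`. -/
theorem C1.aux_inv_sylow (h : Hyp a r G τ) (W : Subgroup X) (hWG : W ≤ G)
    (hWa : ∀ w ∈ W, a⁻¹ * w * a ∈ W) (hWa' : ∀ w ∈ W, a * w * a⁻¹ ∈ W) :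
    ∃ P : Sylow 2 ↥W, ∀ x : ↥W, x ∈ P → (⟨a * x * a⁻¹, hWa' x x.2⟩ : ↥W) ∈ P := by
  classical
  haveI : Fact (Nat.Prime 2) := ⟨Nat.prime_two⟩
  haveI : Fact r.Prime := ⟨h.hr⟩
  set φ : MulAut ↥W := C1.aux_conj W a hWa hWa' with hφ
  have hφr : φ ^ r = 1 := by
    apply MulEquiv.ext
    intro w
    apply Subtype.ext
    rw [hφ, C1.aux_conj_pow, h.har]
    simp
  have hZ : IsPGroup r ↥(Subgroup.zpowers φ) := by
    rintro ⟨z, hz⟩
    obtain ⟨k, rfl⟩ := Subgroup.mem_zpowers_iff.mp hz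
    refine ⟨1, ?_⟩
    apply Subtype.ext
    simp only [pow_one, Subgroup.coe_pow, Subgroup.coe_one]
    rw [← zpow_natCast, ← zpow_mul, mul_comm, zpow_mul, zpow_natCast, hφr, one_zpow]
  have hnd : ¬ r ∣ Nat.card (Sylow 2 ↥W) := by
    intro hdvd
    obtain ⟨P0⟩ : Nonempty (Sylow 2 ↥W) := inferInstance
    have h1 : Nat.card (Sylow 2 ↥W) ∣ Nat.card ↥W :=
      (P0.card_dvd_index).trans (Subgroup.index_dvd_card _)
    have h2 : Nat.card ↥W ∣ Nat.card ↥G := Subgroup.card_dvd_of_le hWG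
    have h3 : r ∣ Nat.card G := hdvd.trans (h1.trans h2)
    have := Nat.Coprime.eq_one_of_dvd h.hcop.symm h3
    exact h.hr.one_lt.ne' this
  obtain ⟨P, hP⟩ := hZ.nonempty_fixed_point_of_prime_not_dvd_card (Sylow 2 ↥W) hnd
  refine ⟨P, fun x hx => ?_⟩
  have hφP : φ • P = P := hP ⟨φ, Subgroup.mem_zpowers φ⟩
  have h1 : φ • x ∈ φ • (P : Subgroup ↥W) := Subgroup.smul_mem_pointwise_smul x φ _ hx
  rw [← Sylow.pointwise_smul_def, hφP] at h1
  exact h1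

/-- C1: an `a`-invariant subgroup of `G` containing a conjugate of `τ` contains one centralised by `a`. -/
theorem C1 (h : Hyp a r G τ) (W : Subgroup X) (hWG : W ≤ G)
    (hWa : ∀ w ∈ W, a⁻¹ * w * a ∈ W) (hWa' : ∀ w ∈ W, a * w * a⁻¹ ∈ W)
    (g : X) (hg : g ∈ G) (hw : g⁻¹ * τ * g ∈ W) :
    ∃ g' ∈ G, g'⁻¹ * τ * g' ∈ W ∧ Commute (g'⁻¹ * τ * g') a := by
  classical
  haveI : Fact (Nat.Prime 2) := ⟨Nat.prime_two⟩
  obtain ⟨P, hPa⟩ := C1.aux_inv_sylow h W hWG hWa hWa'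
  -- a conjugate of `w` in `P`
  set w0 : ↥W := ⟨g⁻¹ * τ * g, hw⟩ with hw0
  have hw0sq : w0 * w0 = 1 := by
    apply Subtype.ext
    show (g⁻¹ * τ * g) * (g⁻¹ * τ * g) = 1
    calc (g⁻¹ * τ * g) * (g⁻¹ * τ * g) = g⁻¹ * (τ * τ) * g := by group
      _ = 1 := by rw [h.hτ2]; group
  have hz2 : IsPGroup 2 ↥(Subgroup.zpowers w0) := by
    rintro ⟨z, hz⟩
    obtain ⟨k, rfl⟩ := Subgroup.mem_zpowers_iff.mp hz
    refine ⟨1, ?_⟩
    apply Subtype.ext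
    simp only [pow_one, Subgroup.coe_pow, Subgroup.coe_one]
    rw [← zpow_natCast, ← zpow_mul, mul_comm, zpow_mul, zpow_natCast, pow_two, hw0sq, one_zpow]
  obtain ⟨Q, hQ⟩ := hz2.exists_le_sylow
  obtain ⟨u, hu⟩ := MulAction.exists_smul_eq ↥W Q P
  have hw0Q : w0 ∈ Q := hQ (Subgroup.mem_zpowers w0)
  have hw1P : u * w0 * u⁻¹ ∈ P := by
    have h1 : MulAut.conj u • w0 ∈ MulAut.conj u • (Q : Subgroup ↥W) :=
      Subgroup.smul_mem_pointwise_smul w0 (MulAut.conj u) _ hw0Q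
    rw [← Sylow.pointwise_smul_def, ← Sylow.smul_def, hu] at h1
    have h2 : MulAut.conj u • w0 = u * w0 * u⁻¹ := by simp [MulAut.smul_def]
    rw [h2] at h1
    exact h1
  set g' : X := g * (u : X)⁻¹ with hg'
  have hg'G : g' ∈ G := G.mul_mem hg (G.inv_mem (hWG u.2))
  have hw1 : ((u * w0 * u⁻¹ : ↥W) : X) = g'⁻¹ * τ * g' := by
    show (u : X) * (g⁻¹ * τ * g) * (u : X)⁻¹ = g'⁻¹ * τ * g'
    rw [hg']; group
  set b : X := g'⁻¹ * a * g' with hb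
  have hτa := comm_τ_a h
  have hw'b : (g'⁻¹ * τ * g') * b = b * (g'⁻¹ * τ * g') := by
    calc (g'⁻¹ * τ * g') * b = g'⁻¹ * (τ * a) * g' := by rw [hb]; group
      _ = g'⁻¹ * (a * τ) * g' := by rw [hτa]
      _ = b * (g'⁻¹ * τ * g') := by rw [hb]; group
  -- `P ≤ C(b)`
  have hPb : ∀ x : ↥W, x ∈ P → (x : X) * b = b * (x : X) := by
    set P0 : Subgroup ↥(P : Subgroup ↥W) :=
      (Subgroup.centralizer ({b} : Set X)).comap (W.subtype.comp (P : Subgroup ↥W).subtype) with hP0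
    have hmem : ∀ y : ↥(P : Subgroup ↥W), y ∈ P0 ↔ ((y : ↥W) : X) * b = b * ((y : ↥W) : X) := by
      intro y
      rw [hP0, Subgroup.mem_comap, Subgroup.mem_centralizer_iff]
      constructor
      · intro hy
        exact (hy b rfl).symm
      · intro hy z hz
        rw [Set.mem_singleton_iff.mp hz]
        exact hy.symm
    by_cases htop : P0 = ⊤
    · intro x hx
      have : (⟨x, hx⟩ : ↥(P : Subgroup ↥W)) ∈ P0 := by rw [htop]; trivial
      exact (hmem _).mp this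
    · exfalso
      obtain ⟨q, hq, hqn⟩ := C1.aux_growth P.isPGroup' P0 htop
      have hw1P0 : (⟨u * w0 * u⁻¹, hw1P⟩ : ↥(P : Subgroup ↥W)) ∈ P0 := by
        rw [hmem]
        show ((u * w0 * u⁻¹ : ↥W) : X) * b = b * ((u * w0 * u⁻¹ : ↥W) : X)
        rw [hw1]; exact hw'b
      have h2 := (hmem _).mp (hqn _ hw1P0)
      -- as elements of X
      set qX : X := ((q : ↥W) : X) with hqX
      have hqG : qX ∈ G := hWG (q : ↥W).2
      have h3 : (qX⁻¹ * (g'⁻¹ * τ * g') * qX) * b = b * (qX⁻¹ * (g'⁻¹ * τ * g') * qX) := by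
        have : (((q⁻¹ * (⟨u * w0 * u⁻¹, hw1P⟩ : ↥(P : Subgroup ↥W)) * q : ↥(P : Subgroup ↥W)) : ↥W) : X)
            = qX⁻¹ * (g'⁻¹ * τ * g') * qX := by
          show qX⁻¹ * ((u * w0 * u⁻¹ : ↥W) : X) * qX = _
          rw [hw1]
        rw [this] at h2
        exact h2
      have h4 : Commute ((g' * qX)⁻¹ * τ * (g' * qX)) (g'⁻¹ * a * g') := by
        show (g' * qX)⁻¹ * τ * (g' * qX) * (g'⁻¹ * a * g') = (g'⁻¹ * a * g') * ((g' * qX)⁻¹ * τ * (g' * qX))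
        have e : (g' * qX)⁻¹ * τ * (g' * qX) = qX⁻¹ * (g'⁻¹ * τ * g') * qX := by group
        rw [e]; exact h3
      have h5 := FUSION h (g' * qX) g' (G.mul_mem hg'G hqG) hg'G h4
      have h6 : qX * b = b * qX := by
        have : qX⁻¹ * b * qX = b := by
          rw [hb]
          calc qX⁻¹ * (g'⁻¹ * a * g') * qX = (g' * qX)⁻¹ * a * (g' * qX) := by group
            _ = g'⁻¹ * a * g' := h5
        calc qX * b = qX * (qX⁻¹ * b * qX) := by rw [this]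
          _ = b * qX := by group
      exact hq ((hmem q).mpr h6)
  -- `w'` commutes with `a⁻¹ b a`
  have hw'ab : (g'⁻¹ * τ * g') * (a⁻¹ * b * a) = (a⁻¹ * b * a) * (g'⁻¹ * τ * g') := by
    have h1 := hPb _ (hPa _ hw1P)
    have h1' : (a * (g'⁻¹ * τ * g') * a⁻¹) * b = b * (a * (g'⁻¹ * τ * g') * a⁻¹) := by
      have : ((⟨a * ((u * w0 * u⁻¹ : ↥W) : X) * a⁻¹, hWa' _ (u * w0 * u⁻¹ : ↥W).2⟩ : ↥W) : X) =
          a * (g'⁻¹ * τ * g') * a⁻¹ := by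
        show a * ((u * w0 * u⁻¹ : ↥W) : X) * a⁻¹ = _
        rw [hw1]
      rw [this] at h1
      exact h1
    calc (g'⁻¹ * τ * g') * (a⁻¹ * b * a) = a⁻¹ * ((a * (g'⁻¹ * τ * g') * a⁻¹) * b) * a := by group
      _ = a⁻¹ * (b * (a * (g'⁻¹ * τ * g') * a⁻¹)) * a := by rw [h1']
      _ = (a⁻¹ * b * a) * (g'⁻¹ * τ * g') := by group
  -- `a⁻¹ b a = b`
  have hkG : a⁻¹ * g' * a ∈ G := h.hnorm g' hg'G
  have hab : a⁻¹ * b * a = (a⁻¹ * g' * a)⁻¹ * a * (a⁻¹ * g' * a) := by rw [hb]; group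
  have h7 : b = a⁻¹ * b * a := by
    have := FUSION h g' (a⁻¹ * g' * a) hg'G hkG (by
      show (g'⁻¹ * τ * g') * ((a⁻¹ * g' * a)⁻¹ * a * (a⁻¹ * g' * a)) =
        ((a⁻¹ * g' * a)⁻¹ * a * (a⁻¹ * g' * a)) * (g'⁻¹ * τ * g')
      rw [← hab]; exact hw'ab)
    rw [hab]; exact this
  have hba : b * a = a * b := by
    calc b * a = a * (a⁻¹ * b * a) := by group
      _ = a * b := by rw [← h7]
  -- `b = a`
  have hcG : b * a⁻¹ ∈ G := by
    have : b * a⁻¹ = g'⁻¹ * (a * g' * a⁻¹) := by rw [hb]; group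
    rw [this]
    exact G.mul_mem (G.inv_mem hg'G) (h.hnorm' g' hg'G)
  have hca : Commute (b * a⁻¹) a := by
    show b * a⁻¹ * a = a * (b * a⁻¹)
    calc b * a⁻¹ * a = a * (a⁻¹ * b) := by group
      _ = a * (b * a⁻¹) := by
        have : a⁻¹ * b = b * a⁻¹ := by
          calc a⁻¹ * b = a⁻¹ * (b * a) * a⁻¹ := by group
            _ = a⁻¹ * (a * b) * a⁻¹ := by rw [hba]
            _ = b * a⁻¹ := by group
        rw [this]
  have hbr : (b * a⁻¹ * a) ^ r = 1 := by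
    have : b * a⁻¹ * a = g'⁻¹ * a * g'⁻¹⁻¹ := by rw [hb]; group
    rw [this, conj_pow, h.har]
    group
  have hc1 : b * a⁻¹ = 1 := L0 h (b * a⁻¹) a hcG hca h.har hbr
  have hbeq : b = a := by
    calc b = (b * a⁻¹) * a := by group
      _ = a := by rw [hc1, one_mul]
  refine ⟨g', hg'G, ?_, ?_⟩
  · rw [← hw1]; exact (u * w0 * u⁻¹ : ↥W).2
  · show (g'⁻¹ * τ * g') * a = a * (g'⁻¹ * τ * g')
    rw [← hbeq]; exact hw'b

end Cfsg.Agent.S3067P
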