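import Mathlib
import Cfsg.Agent.Helper24.S3067Defs

/-! S3067 piece CONV. -/

set_option autoImplicit false

namespace Cfsg.Agent.S3067P

variable {X : Type*} [Group X] [Finite X] {a τ : X} {r : ℕ} {G : Subgroup X}

/-- CONV: the converse of L3, by counting (an injective self-map of the finite set of conjugates of `a`
is onto). -/
theorem CONV (h : Hyp a r G τ)
    (hL3 : ∀ g₁ ∈ G, ∀ g₂ ∈ G,
      (g₁⁻¹ * τ * g₁)⁻¹ * a * (g₁⁻¹ * τ * g₁) = (g₂⁻¹ * τ * g₂)⁻¹ * a * (g₂⁻¹ * τ * g₂) →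
      g₁⁻¹ * a * g₁ = g₂⁻¹ * a * g₂)
    (g g' : X) (hg : g ∈ G) (hg' : g' ∈ G) (heq : g⁻¹ * a * g = g'⁻¹ * a * g') :
    (g⁻¹ * τ * g)⁻¹ * a * (g⁻¹ * τ * g) = (g'⁻¹ * τ * g')⁻¹ * a * (g'⁻¹ * τ * g') := by
  classical
  have hτconj : ∀ k ∈ G, k⁻¹ * τ * k ∈ G :=
    fun k hk => G.mul_mem (G.mul_mem (G.inv_mem hk) h.hτG) hk
  let rep : {x : X // ∃ k ∈ G, x = k⁻¹ * a * k} → X := fun ω => Classical.choose ω.2
  have hrep : ∀ ω : {x : X // ∃ k ∈ G, x = k⁻¹ * a * k},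
      rep ω ∈ G ∧ ω.1 = (rep ω)⁻¹ * a * rep ω := fun ω => Classical.choose_spec ω.2
  let F : {x : X // ∃ k ∈ G, x = k⁻¹ * a * k} → {x : X // ∃ k ∈ G, x = k⁻¹ * a * k} :=
    fun ω => ⟨((rep ω)⁻¹ * τ * rep ω)⁻¹ * a * ((rep ω)⁻¹ * τ * rep ω),
      (rep ω)⁻¹ * τ * rep ω, hτconj _ (hrep ω).1, rfl⟩
  have hinj : Function.Injective F := by
    intro ω ω' hF
    have h1 : ((rep ω)⁻¹ * τ * rep ω)⁻¹ * a * ((rep ω)⁻¹ * τ * rep ω) =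
        ((rep ω')⁻¹ * τ * rep ω')⁻¹ * a * ((rep ω')⁻¹ * τ * rep ω') := congrArg Subtype.val hF
    have h2 := hL3 _ (hrep ω).1 _ (hrep ω').1 h1
    apply Subtype.ext
    rw [(hrep ω).2, (hrep ω').2, h2]
  have hsurj : Function.Surjective F := Finite.injective_iff_surjective.mp hinj
  have key : ∀ k (hk : k ∈ G), (k⁻¹ * τ * k)⁻¹ * a * (k⁻¹ * τ * k) =
      (F ⟨k⁻¹ * a * k, k, hk, rfl⟩).1 := by
    intro k hk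
    obtain ⟨ω₁, hω₁⟩ := hsurj ⟨(k⁻¹ * τ * k)⁻¹ * a * (k⁻¹ * τ * k), _, hτconj k hk, rfl⟩
    have h1 : ((rep ω₁)⁻¹ * τ * rep ω₁)⁻¹ * a * ((rep ω₁)⁻¹ * τ * rep ω₁) =
        (k⁻¹ * τ * k)⁻¹ * a * (k⁻¹ * τ * k) := congrArg Subtype.val hω₁
    have h2 := hL3 _ (hrep ω₁).1 k hk h1
    have h3 : ω₁ = ⟨k⁻¹ * a * k, k, hk, rfl⟩ := Subtype.ext (by rw [(hrep ω₁).2, h2])
    rw [← h3]
    exact h1.symm
  rw [key g hg, key g' hg']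
  have : (⟨g⁻¹ * a * g, g, hg, rfl⟩ : {x : X // ∃ k ∈ G, x = k⁻¹ * a * k}) =
      ⟨g'⁻¹ * a * g', g', hg', rfl⟩ := Subtype.ext heq
  rw [this]

end Cfsg.Agent.S3067P
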