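import Mathlib
import Cfsg.Agent.Helper28.S5704SDefs
import Cfsg.Agent.Helper14.S5704SSTEP1
import Cfsg.Agent.Helper4.S5704SSTEP1P
import Cfsg.Agent.Helper4.S5704SC1
import Cfsg.Agent.Helper20.S5704SC2
import Cfsg.Agent.Helper20.S5704SC2TWO
import Cfsg.Agent.Helper15.S5704SC3
import Cfsg.Agent.Helper17.S5704SSTEP4
import Cfsg.Agent.Helper17.S5704SSTEP5

/-! # S5704, chapter SPREAD: assembly (helper28). -/

set_option autoImplicit false
set_option linter.unusedSectionVars false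

namespace Cfsg.Agent.S5704S

open Matrix Cfsg.Agent.Helper28.Sg

variable {F : Type*} [Field F] {n a b : ℕ}
  {Q : QuadraticForm F (Fin n → F)} {M : Subgroup ↥(Cfsg.isometryGroup F ⇑Q)}
  {e : Fin n ≃ Fin a × Fin b} {P : Matrix (Fin n) (Fin n) F}
  {GU : Matrix (Fin a) (Fin a) F} {GW : Matrix (Fin b) (Fin b) F}

/-- STEP 2: all pure pairs -/
theorem PURE.main (hT : TData Q e P GU GW) (ha : a = 2 ∨ 4 ≤ a) (hb : 4 ≤ b)
    (hAp : ∀ u u' w, InM Q M (pt e P u w) (pt e P u' w))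
    (hBp : ∀ u w w', InM Q M (pt e P u w) (pt e P u w')) :
    ∀ u u' w w', bf GU u u' * bf GW w w' = 0 → InM Q M (pt e P u w) (pt e P u' w') := by
  intro u u' w w' h
  by_cases hU : bf GU u u' = 0
  · by_cases hW : bf GW w w' = 0
    · exact C3.main hT hAp hBp u u' w w' hU hW
    · rcases ha with ha | ha
      · subst ha
        exact C2TWO.main hT rfl hBp u u' w w' hU
      · exact C2.main hT ha hAp u u' w w' hU hW
  · have hW : bf GW w w' = 0 := (mul_eq_zero.mp h).resolve_left hU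
    exact C1.main hT hb hBp u u' w w' hU hW

/-- all Siegel transformations lie in `M` -/
theorem SPREAD.all (hT : TData Q e P GU GW) (ha : a = 2 ∨ 4 ≤ a) (hb : 4 ≤ b)
    (hAp : ∀ u u' w, InM Q M (pt e P u w) (pt e P u' w))
    (hBp : ∀ u w w', InM Q M (pt e P u w) (pt e P u w')) :
    ∀ x v, Q x = 0 → B Q x v = 0 → InM Q M x v :=
  STEP5.main hT (STEP4.main hT (PURE.main hT ha hb hAp hBp))

/-- SPREAD, entry point B: (A+) and (B+) -/
theorem SPREAD.main_B (hT : TData Q e P GU GW) (ha : a = 2 ∨ 4 ≤ a) (hb : 4 ≤ b)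
    (hAp : ∀ u u' w, InM Q M (pt e P u w) (pt e P u' w))
    (hBp : ∀ u w w', InM Q M (pt e P u w) (pt e P u w')) :
    S Q ≤ M := by
  unfold S
  rw [Subgroup.closure_le]
  rintro g ⟨u, v, hu, huv, rfl⟩
  exact (SPREAD.all hT ha hb hAp hBp u v hu huv).mem hu huv

/-- SPREAD, entry point A: the root elements `ρ(u ⊗ w, u' ⊗ w)`, `u ⊥ u'` -/
theorem SPREAD.main_A (hT : TData Q e P GU GW) (ha : 4 ≤ a) (hb : 4 ≤ b)
    (hA : ∀ u u' w, bf GU u u' = 0 → InM Q M (pt e P u w) (pt e P u' w)) :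
    S Q ≤ M := by
  have hBp := STEP1.main hT ha hA
  have hAp := STEP1P.main hT hb (fun u w w' _ => hBp u w w')
  exact SPREAD.main_B hT (Or.inr ha) hb hAp hBp

end Cfsg.Agent.S5704S
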