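import Mathlib
import Cfsg.Agent.Helper28.S5704SPREAD

/-! # S5704, chapter SPREAD, entry point "orthogonal (B)" (helper28).

From the orthogonal family (B): `bf GW w w' = 0 → ρ(u ⊗ w, u ⊗ w') ∈ M` alone (and `b ≥ 5`)
we get the full family (B+), hence (with STEP1P) `S Q ≤ M`; works for `a = 2` too. -/

set_option autoImplicit false
set_option linter.unusedSectionVars false
set_option linter.unusedVariables false

namespace Cfsg.Agent.S5704S

open Matrix Cfsg.Agent.Helper28.Sg

variable {F : Type*} [Field F] {n a b m : ℕ}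

/-- in dimension `≥ 5`, two vectors `s, t` orthogonal to both `x` and `y` with `bf s t = 1` -/
theorem BORTH.perp2 {G : Matrix (Fin m) (Fin m) F} (hG : IsSymp G) (hm : 5 ≤ m)
    (x y : Fin m → F) :
    ∃ s t : Fin m → F, bf G x s = 0 ∧ bf G y s = 0 ∧ bf G x t = 0 ∧ bf G y t = 0 ∧
      bf G s t = 1 := by
  classical
  set Bf := Matrix.toBilin' G with hBf
  have hr : Bf.IsRefl := by
    intro v w hvw
    rw [EXCROSS.bf_eq] at hvw ⊢
    exact hG.eq_zero_symm hvw
  have hB : Bf.Nondegenerate := by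
    refine (LinearMap.IsRefl.nondegenerate_iff_separatingLeft hr).mpr ?_
    intro v hv
    apply hG.nondeg
    intro y
    rw [← EXCROSS.bf_eq]; exact hv y
  set S : Submodule F (Fin m → F) := Submodule.span F ({x, y} : Set (Fin m → F)) with hS
  have hSdim : Module.finrank F S ≤ 2 := by
    have := finrank_span_finset_le_card (R := F) ({x, y} : Finset (Fin m → F))
    have h3 : ({x, y} : Finset (Fin m → F)).card ≤ 2 := Finset.card_le_two
    rw [Finset.coe_insert, Finset.coe_singleton] at this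
    exact le_trans this h3
  have hmemP : ∀ z, z ∈ Bf.orthogonal S → bf G x z = 0 ∧ bf G y z = 0 := by
    intro z hz
    have h1 := (LinearMap.BilinForm.mem_orthogonal_iff.mp hz) x (Submodule.subset_span (by simp))
    have h2 := (LinearMap.BilinForm.mem_orthogonal_iff.mp hz) y (Submodule.subset_span (by simp))
    rw [hBf, EXCROSS.bf_eq] at h1 h2
    exact ⟨h1, h2⟩
  obtain ⟨s, hs, t, ht, hst⟩ : ∃ s ∈ Bf.orthogonal S, ∃ t ∈ Bf.orthogonal S, bf G s t ≠ 0 := by
    by_contra hcon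
    push Not at hcon
    have hle : Bf.orthogonal S ≤ Bf.orthogonal (Bf.orthogonal S) := by
      intro t ht
      rw [LinearMap.BilinForm.mem_orthogonal_iff]
      intro s hs
      show Bf s t = 0
      rw [hBf, EXCROSS.bf_eq]
      exact hcon s hs t ht
    rw [LinearMap.BilinForm.orthogonal_orthogonal hB hr] at hle
    have h1 := Submodule.finrank_mono hle
    rw [LinearMap.BilinForm.finrank_orthogonal hB, Module.finrank_fin_fun] at h1
    omega
  obtain ⟨h1, h2⟩ := hmemP s hs
  obtain ⟨h3, h4⟩ := hmemP t ht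
  refine ⟨s, (bf G s t)⁻¹ • t, h1, h2, ?_, ?_, ?_⟩
  · rw [bf_smul_right, h3, mul_zero]
  · rw [bf_smul_right, h4, mul_zero]
  · rw [bf_smul_right, inv_mul_cancel₀ hst]

section steps

variable {Q : QuadraticForm F (Fin n → F)} {M : Subgroup ↥(Cfsg.isometryGroup F ⇑Q)}
  {e : Fin n ≃ Fin a × Fin b} {P : Matrix (Fin n) (Fin n) F}
  {GU : Matrix (Fin a) (Fin a) F} {GW : Matrix (Fin b) (Fin b) F}

/-- C1 from the orthogonal family (B) only (`b ≥ 5`) -/
theorem BORTH.c1 (hT : TData Q e P GU GW) (hb : 5 ≤ b)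
    (hB : ∀ u w w', bf GW w w' = 0 → InM Q M (pt e P u w) (pt e P u w')) :
    ∀ u u' w w', bf GU u u' ≠ 0 → bf GW w w' = 0 → InM Q M (pt e P u w) (pt e P u' w') := by
  intro u u' w w' huu hww
  obtain ⟨w₂, w₂', h1, h2, h3, h4, h5⟩ := BORTH.perp2 hT.sympW hb w w'
  have hpol : ∀ u w u' w', B Q (pt e P u w) (pt e P u' w') = bf GU u u' * bf GW w w' :=
    fun u w u' w' => hT.pol u w u' w'
  have key := COMM.main (M := M) (p := pt e P u w) (y := pt e P u ((bf GU u u')⁻¹ • w₂))
    (p' := pt e P u' w') (y' := pt e P u' w₂') (hT.sing _ _) (hT.sing _ _)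
    (by rw [hpol, hww, mul_zero]) (by rw [hpol, h3, mul_zero])
    (by rw [hpol, bf_smul_right, h2, mul_zero, mul_zero])
    (hB u w _ (by rw [bf_smul_right, h1, mul_zero])) (hB u' w' _ h4)
  have hB1 : B Q (pt e P u ((bf GU u u')⁻¹ • w₂)) (pt e P u' w₂') = 1 := by
    rw [hpol, bf_smul_left, h5, mul_one, mul_inv_cancel₀ huu]
  rw [hB1, one_smul] at key
  exact key

/-- (B+) from the orthogonal family (B) only (`b ≥ 5`) -/
theorem BORTH.bplus (hT : TData Q e P GU GW) (hb : 5 ≤ b)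
    (hB : ∀ u w w', bf GW w w' = 0 → InM Q M (pt e P u w) (pt e P u w')) :
    ∀ u w w', InM Q M (pt e P u w) (pt e P u w') := by
  intro u w w'
  have hpol : ∀ u w u' w', B Q (pt e P u w) (pt e P u' w') = bf GU u u' * bf GW w w' :=
    fun u w u' w' => hT.pol u w u' w'
  by_cases hu : u = 0
  · rw [hu, pt_zero_left]
    exact InM.zero_left _
  obtain ⟨us, hus⟩ := EX.one hT.sympU hu
  obtain ⟨w₂, w₃, h1, h2, h3, h4, h5⟩ := BORTH.perp2 hT.sympW hb w w'
  have hus' : bf GU us u = -1 := by rw [hT.sympU.skew, hus]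
  have h5' : bf GW w₃ w₂ = -1 := by rw [hT.sympW.skew, h5]
  have hc1 := BORTH.c1 (M := M) hT hb hB u us w w₃ (by rw [hus]; exact one_ne_zero) h3
  have key := COMM.main (M := M) (p := pt e P u w) (y := pt e P us w₃)
    (p' := pt e P u w') (y' := pt e P u w₂) (hT.sing _ _) (hT.sing _ _)
    (by rw [hpol, hT.sympU.alt, zero_mul]) (by rw [hpol, hT.sympU.alt, zero_mul])
    (by rw [hpol, h4, mul_zero]) hc1 (hB u w' w₂ h2)
  have hB1 : B Q (pt e P us w₃) (pt e P u w₂) = 1 := by
    rw [hpol, hus', h5']; ring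
  rw [hB1, one_smul] at key
  exact key

/-- SPREAD, entry point "orthogonal (B)": the root elements `ρ(u ⊗ w, u ⊗ w')`, `w ⊥ w'` -/
theorem SPREAD.main_Borth (hT : TData Q e P GU GW) (ha : a = 2 ∨ 4 ≤ a) (hb : 5 ≤ b)
    (hB : ∀ u w w', bf GW w w' = 0 → InM Q M (pt e P u w) (pt e P u w')) :
    S Q ≤ M := by
  have hBp := BORTH.bplus hT hb hB
  have hAp := STEP1P.main hT (by omega) hB
  exact SPREAD.main_B hT ha (by omega) hAp hBp

end steps

end Cfsg.Agent.S5704S
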