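import Mathlib
import Cfsg.Prelude.Def_GeometricClasses
import Cfsg.Agent.Helper28.S5704SDefs
import Cfsg.Agent.Helper28.NonMax

set_option autoImplicit false
set_option linter.unusedSectionVars false

/-! # S5704: from the frozen hypotheses to `TData` (helper28). -/

namespace Cfsg.Agent.S5704S

open Matrix Kronecker Cfsg.Agent.Helper28.Sg

variable {F : Type*} [Field F] {n a b m : ℕ}

/-- a bilinear form is the form of its Gram matrix -/
theorem BRIDGE.bf_gram {f : (Fin m → F) → (Fin m → F) → F} (hf : Cfsg.Geo.IsBilinearForm f)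
    (x y : Fin m → F) : bf (Cfsg.Geo.gramMatrix f) x y = f x y := by
  have hsumL : ∀ (s : Finset (Fin m)) (g : Fin m → Fin m → F) (v : Fin m → F),
      f (∑ i ∈ s, g i) v = ∑ i ∈ s, f (g i) v := by
    intro s g v
    classical
    induction s using Finset.induction_on with
    | empty =>
      rw [Finset.sum_empty, Finset.sum_empty]
      have := hf.smul_left 0 0 v
      rw [zero_smul, zero_mul] at this
      exact this
    | insert i s hi ih => rw [Finset.sum_insert hi, Finset.sum_insert hi, hf.add_left, ih]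
  have hsumR : ∀ (s : Finset (Fin m)) (g : Fin m → Fin m → F) (v : Fin m → F),
      f v (∑ i ∈ s, g i) = ∑ i ∈ s, f v (g i) := by
    intro s g v
    classical
    induction s using Finset.induction_on with
    | empty =>
      rw [Finset.sum_empty, Finset.sum_empty]
      have := hf.smul_right 0 v 0
      rw [zero_smul, zero_mul] at this
      exact this
    | insert i s hi ih => rw [Finset.sum_insert hi, Finset.sum_insert hi, hf.add_right, ih]
  have hx : x = ∑ i, x i • (Pi.single i (1 : F) : Fin m → F) := by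
    funext k
    simp [Finset.sum_apply, Pi.single_apply]
  have hy : y = ∑ j, y j • (Pi.single j (1 : F) : Fin m → F) := by
    funext k
    simp [Finset.sum_apply, Pi.single_apply]
  conv_rhs => rw [hx, hsumL]
  unfold bf dotProduct mulVec dotProduct
  apply Finset.sum_congr rfl
  intro i _
  rw [hf.smul_left]
  congr 1
  conv_rhs => rw [hy, hsumR]
  apply Finset.sum_congr rfl
  intro j _
  rw [hf.smul_right]
  unfold Cfsg.Geo.gramMatrix
  ring

theorem BRIDGE.bf_smul_gram (c : F) (G : Matrix (Fin m) (Fin m) F) (x y : Fin m → F) :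
    bf (c • G) x y = c * bf G x y := by
  unfold bf
  rw [smul_mulVec, dotProduct_smul, smul_eq_mul]

theorem BRIDGE.isSymp {f : (Fin m → F) → (Fin m → F) → F} (hf : Cfsg.Geo.IsSymplecticForm f)
    {c : F} (hc : c ≠ 0) : IsSymp (c • Cfsg.Geo.gramMatrix f) := by
  constructor
  · intro x
    rw [BRIDGE.bf_smul_gram, BRIDGE.bf_gram hf.bilinear, hf.alternating, mul_zero]
  · intro x hx
    by_contra hx0
    obtain ⟨-, y, hy⟩ := hf.nondegenerate x hx0
    apply hy
    have := hx y
    rw [BRIDGE.bf_smul_gram, BRIDGE.bf_gram hf.bilinear] at this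
    exact (mul_eq_zero.mp this).resolve_left hc

/-- the form of a Kronecker product on pure tensors -/
theorem BRIDGE.formOfGram_kron (G₁ : Matrix (Fin a) (Fin a) F) (G₂ : Matrix (Fin b) (Fin b) F)
    (u u' : Fin a → F) (w w' : Fin b → F) :
    Cfsg.Geo.formOfGram id (G₁ ⊗ₖ G₂) (fun p : Fin a × Fin b => u p.1 * w p.2)
      (fun p : Fin a × Fin b => u' p.1 * w' p.2) = bf G₁ u u' * bf G₂ w w' := by
  unfold Cfsg.Geo.formOfGram bf dotProduct mulVec dotProduct
  simp only [Fintype.sum_prod_type, Matrix.kroneckerMap_apply, id]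
  rw [Finset.sum_mul_sum]
  apply Finset.sum_congr rfl
  intro i _
  apply Finset.sum_congr rfl
  intro j _
  have e1 : (u i * ∑ x, G₁ i x * u' x) * (w j * ∑ x, G₂ j x * w' x) =
      (∑ x, u i * (G₁ i x * u' x)) * (∑ x, w j * (G₂ j x * w' x)) := by
    rw [Finset.mul_sum, Finset.mul_sum]
  rw [e1, Finset.sum_mul_sum]
  apply Finset.sum_congr rfl
  intro i' _
  apply Finset.sum_congr rfl
  intro j' _
  ring

/-- **BRIDGE**: the frozen hypotheses of S5704 give the tensor data -/
theorem BRIDGE.tdata (Q : (Fin n → F) → F) (hQ : Cfsg.Geo.IsNondegenerateQuadraticForm Q)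
    (e : Fin n ≃ Fin a × Fin b) (P : Matrix.GeneralLinearGroup (Fin n) F)
    (f₁ : (Fin a → F) → (Fin a → F) → F) (f₂ : (Fin b → F) → (Fin b → F) → F)
    (hf₁ : Cfsg.Geo.IsSymplecticForm f₁) (hf₂ : Cfsg.Geo.IsSymplecticForm f₂)
    (hT : Cfsg.Geo.IsTensorFormStructure id (QuadraticMap.polar Q) f₁ f₂ e P)
    (hpure : ∀ (x₁ : Fin a → F) (x₂ : Fin b → F),
      Q (Matrix.mulVec (P : Matrix (Fin n) (Fin n) F)
        ((fun p : Fin a × Fin b => x₁ p.1 * x₂ p.2) ∘ e)) = 0) :
    ∃ c : F, c ≠ 0 ∧ TData (Cfsg.Agent.Helper28.NM.ofFun Q hQ) e (P : Matrix (Fin n) (Fin n) F)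
      (c • Cfsg.Geo.gramMatrix f₁) (Cfsg.Geo.gramMatrix f₂) := by
  obtain ⟨c, hc, hform⟩ := hT
  refine ⟨c, hc, ?_⟩
  have h1 : IsSymp ((1 : F) • Cfsg.Geo.gramMatrix f₂) := BRIDGE.isSymp hf₂ one_ne_zero
  rw [one_smul] at h1
  refine ⟨Units.isUnit P, BRIDGE.isSymp hf₁ hc, h1, ?_, ?_⟩
  · intro u w
    exact hpure u w
  · intro u w u' w'
    have := hform (fun p : Fin a × Fin b => u p.1 * w p.2) (fun p : Fin a × Fin b => u' p.1 * w' p.2)
    rw [BRIDGE.formOfGram_kron] at this
    rw [BRIDGE.bf_smul_gram, mul_assoc]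
    exact this

end Cfsg.Agent.S5704S
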