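import Mathlib
import Cfsg.Agent.Helper25.S2981BDefs
import Cfsg.Agent.Helper28.S3000Defs
import Cfsg.Agent.Helper28.S2981PKGT
import Cfsg.Agent.Helper28.S2981GENN
import Cfsg.Agent.Helper12.S3000OFFQ

/-! S2981, pieces OFFNT and OFFN of the board `s2981pieces`, core: exact offenders lie in `N`, with the rows ALLQ and OFFSTEP
as hypotheses. -/

set_option autoImplicit false

namespace Cfsg.Agent.S2981P

open Cfsg.Agent.S2789P Cfsg.Agent.S2999P Cfsg.Agent.S3000P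
open scoped commutatorElement

variable {G : Type*} [Group G] [Finite G] {p : ℕ} [Fact p.Prime] {V P : Subgroup G} {T : Sylow p ↥P} {M : Subgroup ↥P} {q : ℕ}

variable {A E : Subgroup G}

/-- exact offenders are stable under conjugation by `P` -/
theorem OFFN_aux_conj (Hy : Hyp p V P T M) {B : Subgroup G} (hB : Off p V P B) {g : G} (hg : g ∈ P) :
    Off p V P (cjs g B) := by
  refine ⟨cj_le_of_mem hg hB.le, F2_aux_elab_cj hB.hel g, ?_⟩
  rw [cj_card, cj_fix _ (Hy.hPV hg), cj_card]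
  exact hB.val

/-- OFFNT, induction on the order (ALLQ and OFFSTEP as hypotheses). -/
theorem OFFNT_aux_ind (Hy : Hyp p V P T M) (X : PkgT p V P T M q A E)
    (hALLQ : ∀ B₁ : Subgroup G, B₁ ≤ TT T → StrictOff p V B₁ → ∃ t ∈ TT T, B₁ = cjs t A)
    (hSTEP : ∀ t ∈ TT T, ∀ B : Subgroup G, Off p V P B → B ≤ TT T → cjs t A ≤ B →
      Off p V P (B ⊓ Subgroup.centralizer ((cjs t E : Subgroup G) : Set G)) ∧
      B = cjs t A ⊔ (B ⊓ Subgroup.centralizer ((cjs t E : Subgroup G) : Set G)) ∧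
      Nat.card ↥(B ⊓ Subgroup.centralizer ((cjs t E : Subgroup G) : Set G) : Subgroup G) < Nat.card ↥B) :
    ∀ n : ℕ, ∀ B : Subgroup G, Nat.card ↥B = n → Off p V P B → B ≤ TT T → B ≤ Ncomp (TT T) E := by
  intro n
  induction n using Nat.strong_induction_on with
  | _ n ih =>
    intro B hn hB hBT
    by_cases hne : B = ⊥
    · rw [hne]; exact bot_le
    obtain ⟨B₀, hB₀B, hB₀⟩ := OFFQ_aux_strict_le Hy hB hne
    obtain ⟨t, ht, hB₀t⟩ := hALLQ B₀ (hB₀B.trans hBT) hB₀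
    have hAB : cjs t A ≤ B := hB₀t ▸ hB₀B
    obtain ⟨h1, h2, h3⟩ := hSTEP t ht B hB hBT hAB
    have h4 : B ⊓ Subgroup.centralizer ((cjs t E : Subgroup G) : Set G) ≤ Ncomp (TT T) E :=
      ih _ (hn ▸ h3) _ rfl h1 (inf_le_left.trans hBT)
    have h5 : cjs t A ≤ Ncomp (TT T) E := (cj_mono X.hK.hAE).trans (le_Ncomp ht)
    rw [h2]
    exact sup_le h5 h4

/-- OFFNT (core): exact offenders inside `T` lie in `N`. -/
theorem OFFNT_core (Hy : Hyp p V P T M) (X : PkgT p V P T M q A E)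
    (hALLQ : ∀ B₁ : Subgroup G, B₁ ≤ TT T → StrictOff p V B₁ → ∃ t ∈ TT T, B₁ = cjs t A)
    (hSTEP : ∀ t ∈ TT T, ∀ B : Subgroup G, Off p V P B → B ≤ TT T → cjs t A ≤ B →
      Off p V P (B ⊓ Subgroup.centralizer ((cjs t E : Subgroup G) : Set G)) ∧
      B = cjs t A ⊔ (B ⊓ Subgroup.centralizer ((cjs t E : Subgroup G) : Set G)) ∧
      Nat.card ↥(B ⊓ Subgroup.centralizer ((cjs t E : Subgroup G) : Set G) : Subgroup G) < Nat.card ↥B)
    {B : Subgroup G} (hB : Off p V P B) (hBT : B ≤ TT T) : B ≤ Ncomp (TT T) E :=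
  OFFNT_aux_ind Hy X hALLQ hSTEP _ B rfl hB hBT

/-- OFFN (core): from the statement for offenders inside `T`. -/
theorem OFFN_core (Hy : Hyp p V P T M) (X : PkgT p V P T M q A E)
    (hT : ∀ B : Subgroup G, Off p V P B → B ≤ TT T → B ≤ Ncomp (TT T) E)
    {B : Subgroup G} (hB : Off p V P B) : B ≤ Ncomp (TT T) E := by
  obtain ⟨g, hg, hgB⟩ := F2_aux_conj_into P T hB.le (F2_aux_isPGroup hB.hel)
  have h1 := hT _ (OFFN_aux_conj Hy hB hg) hgB
  have h2 := cj_mono (g := g⁻¹) h1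
  rw [cj_inv_cj, NNORM Hy X _ (P.inv_mem hg)] at h2
  exact h2

end Cfsg.Agent.S2981P
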