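import Mathlib
import Cfsg.Agent.Helper28.S3000DefsS
import Cfsg.Agent.Helper28.S3000Q2
import Cfsg.Agent.Helper29.TV2S_FINAL

/-! S3000, strong form, case `q = 2`: helper29's `TV2.mainS`. -/

set_option autoImplicit false

namespace Cfsg.Agent.S3000P

open Cfsg.Agent.S2789P Cfsg.Agent.S2999P
open scoped commutatorElement

variable {G : Type*} [Group G] [Finite G] {p : ℕ} [Fact p.Prime] {V P : Subgroup G} {T : Sylow p ↥P} {M : Subgroup ↥P}

/-- Q2S: the case `q = 2`, with (TINV). -/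
theorem Q2S (Hy : Hyp p V P T M) (hq : MinQ p V P 2) : ConclS p V P (TT T) := by
  obtain ⟨hp, htv⟩ := Q2_aux_tv Hy hq
  obtain ⟨r, E, h1, h2, h3, h4, h5, h6, h7, h8, h9, h10⟩ :=
    Cfsg.Agent.TV2.mainS hp V P Hy.hV Hy.hPV Hy.hf Hy.hmin T M Hy.hM Hy.hTM Hy.hOp htv Hy.hCT
  exact ⟨r, E, ⟨h1, h2, h3, h4, h5, h6, h7, h8, h9⟩, h10⟩

end Cfsg.Agent.S3000P
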