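import Mathlib
import Cfsg.Agent.Helper28.S3000Defs
import Cfsg.Agent.Helper28.S3000DefsS
import Cfsg.Agent.Helper21.S3000ASMCORE

/-! S3000, strong form: the assembly `ASMCORE` (helper21) with the family made explicit (it enumerates the `T`-conjugates of the
component `E`).  The proofs of `STRUCTS_aux_core` and `STRUCTS_core` are those of `ASMCORE_aux_core` and `ASMCORE` of
`Cfsg.Agent.Helper21.S3000ASMCORE`, with the family kept. -/

set_option autoImplicit false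

namespace Cfsg.Agent.S3000P

open Cfsg.Agent.S2789P Cfsg.Agent.S2999P Cfsg.Agent.S3000P
open scoped commutatorElement

variable {G : Type*} [Group G]

variable [Finite G] {p : ℕ} [Fact p.Prime] {V P : Subgroup G} {T : Sylow p ↥P} {M : Subgroup ↥P}

omit [Finite G] [Fact p.Prime] in
/-- the assembly for an abstract family -/
theorem STRUCTS_aux_core {r : ℕ} (hr : 1 ≤ r) (Ef : Fin r → Subgroup G) (Tg : Subgroup G)
    (hVab : ∀ x ∈ V, ∀ y ∈ V, x * y = y * x)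
    (hPV : P ≤ Subgroup.normalizer (V : Set G))
    (hP : ∀ i, Ef i ≤ P)
    (hcomm : ∀ i j, i ≠ j → ∀ x ∈ Ef i, ∀ y ∈ Ef j, x * y = y * x)
    (hker : ∀ i, ∀ e ∈ Ef i, (∀ v ∈ V, e * v * e⁻¹ * v⁻¹ ∈ fixV V (Ef i)) → e = 1)
    (hVE : ∀ i, ⁅V, Ef i⁆ ⊔ fixV V (Ef i) = V)
    (hVEC : ∀ i j, i ≠ j → ⁅V, Ef j⁆ ≤ fixV V (Ef i))
    (hloc : ∀ i, LocOut p V (Ef i))
    (htr : ∀ i j, ∃ t ∈ Tg, cjs t (Ef i) = Ef j)
    (hgen : (⨆ i, Ef i) ⊔ Tg = P) : ConclFam p V P Tg r Ef := by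
  have hWV : ∀ i, ⁅V, Ef i⁆ ≤ V := by
    intro i
    rw [Subgroup.commutator_le]
    intro v hv e he
    rw [commutatorElement_def]
    have h1 : e * v⁻¹ * e⁻¹ ∈ V := (Subgroup.mem_normalizer_iff.mp (hPV (hP i he)) _).mp (V.inv_mem hv)
    have : v * e * v⁻¹ * e⁻¹ = v * (e * v⁻¹ * e⁻¹) := by group
    rw [this]
    exact V.mul_mem hv h1
  refine ⟨hr, hP, ?_, ?_, hgen, htr, ?_, ?_, ?_⟩
  · -- the components commute
    intro i j hij
    rw [Subgroup.commutator_eq_bot_iff_le_centralizer]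
    intro x hx
    rw [Subgroup.mem_centralizer_iff]
    intro y hy
    exact (hcomm i j hij x hx y hy).symm
  · -- DIR
    intro i
    rw [Subgroup.eq_bot_iff_forall]
    intro x hx
    rw [Subgroup.mem_inf] at hx
    have hK : (⨆ j ∈ {j | j ≠ i}, Ef j) ≤ ASMCORE_aux_S V (fixV V (Ef i)) := by
      refine iSup₂_le ?_
      intro j hj
      have hji : j ≠ i := hj
      intro y hy
      rw [ASMCORE_aux_mem_S]
      have hyN : y ∈ Subgroup.normalizer (V : Set G) := hPV (hP j hy)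
      refine ⟨?_, ?_⟩
      · apply ASMCORE_aux_norm_of_cj
        rw [← cj_fix _ hyN]
        have : cjs y (Ef i) = Ef i := by
          apply cj_norm
          rw [Subgroup.mem_normalizer_iff]
          intro e
          have hce : ∀ e ∈ Ef i, y * e * y⁻¹ = e := by
            intro e he
            rw [hcomm j i hji y hy e he]; group
          constructor
          · intro he; rw [hce e he]; exact he
          · intro he
            have h2 := hce _ he
            have h3 : y * e * y⁻¹ = e := by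
              have e1 : y * e * y⁻¹ = y⁻¹ * (y * (y * e * y⁻¹) * y⁻¹) * y := by group
              rw [e1, h2]; group
            rw [← h3]; exact he
        rw [this]
      · intro v hv
        have h1 : ⁅v, y⁆ ∈ ⁅V, Ef j⁆ := Subgroup.commutator_mem_commutator hv hy
        have h2 := Subgroup.inv_mem _ (hVEC i j hji.symm h1)
        rw [commutatorElement_inv, commutatorElement_def] at h2
        exact h2
    have h1 := hK hx.2
    rw [ASMCORE_aux_mem_S] at h1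
    exact hker i x hx.1 h1.2
  · -- VDEC
    apply le_antisymm
    · refine sup_le inf_le_left (iSup_le hWV)
    · intro v hv
      classical
      obtain ⟨c, hcV, hcs, w, hw, rfl⟩ := ASMCORE_aux_vdec Ef hVab hWV hVE hVEC Finset.univ v hv
      refine Subgroup.mul_mem_sup ?_ hw
      rw [Subgroup.mem_inf]
      refine ⟨hcV, ?_⟩
      rw [Subgroup.mem_centralizer_iff]
      have h1 : (⨆ i, Ef i) ≤ Subgroup.centralizer ({c} : Set G) := by
        refine iSup_le ?_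
        intro i e he
        rw [Subgroup.mem_centralizer_iff]
        intro h hh
        rw [Set.mem_singleton_iff] at hh
        subst hh
        exact ((mem_fix.mp (hcs i (Finset.mem_univ i))).2 e he).symm
      intro h hh
      have := Subgroup.mem_centralizer_iff.mp (h1 hh) c (Set.mem_singleton c)
      exact this.symm
  · intro i j hij
    rw [Subgroup.commutator_eq_bot_iff_le_centralizer]
    exact (hVEC j i hij.symm).trans (by unfold fixV; exact inf_le_right)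
  · intro i
    obtain ⟨n, hn, F, iF, iFt, hF, h1, h2⟩ := hloc i
    exact ⟨n, hn, Or.inl ⟨F, iF, iFt, hF, h1, h2⟩⟩

/-- the assembly with the family made explicit: it enumerates the `T`-conjugates of `E`. -/
theorem STRUCTS_core (Hy : Hyp p V P T M) (E : Subgroup G) (hEP : E ≤ P) (hEM : ¬ E ≤ MM M)
    (hcomm : ∀ t ∈ TT T, cjs t E ≠ E → ∀ x ∈ E, ∀ y ∈ cjs t E, x * y = y * x)
    (hker : ∀ t ∈ TT T, ∀ e ∈ cjs t E, (∀ v ∈ V, e * v * e⁻¹ * v⁻¹ ∈ fixV V (cjs t E)) → e = 1)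
    (hVE : ∀ t ∈ TT T, ⁅V, cjs t E⁆ ⊔ fixV V (cjs t E) = V)
    (hVEC : ∀ t ∈ TT T, cjs t E ≠ E → ⁅V, cjs t E⁆ ≤ fixV V E)
    (hloc : ∀ t ∈ TT T, LocOut p V (cjs t E)) :
    ∃ (r : ℕ) (Ef : Fin r → Subgroup G), ConclFam p V P (TT T) r Ef ∧ (∀ i, ∃ t ∈ TT T, Ef i = cjs t E) ∧
      (∀ t ∈ TT T, ∃ i, Ef i = cjs t E) := by
  classical
  have hTP : TT T ≤ P := Subgroup.map_subtype_le _
  have hTV : TT T ≤ Subgroup.normalizer (V : Set G) := hTP.trans Hy.hPV
  have hVab : ∀ x ∈ V, ∀ y ∈ V, x * y = y * x := fun x hx y hy =>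
    congrArg Subtype.val (Hy.hV.1.is_comm.comm ⟨x, hx⟩ ⟨y, hy⟩)
  let S : Set (Subgroup G) := {X | ∃ t ∈ TT T, X = cjs t E}
  have hES : E ∈ S := ⟨1, Subgroup.one_mem _, (cj_one E).symm⟩
  have hSne : Nonempty S := ⟨⟨E, hES⟩⟩
  have hr1 : 1 ≤ Nat.card S := Nat.card_pos
  let e : S ≃ Fin (Nat.card S) := Finite.equivFin S
  let Ef : Fin (Nat.card S) → Subgroup G := fun i => ((e.symm i : S) : Subgroup G)
  have hEf : ∀ i, ∃ t ∈ TT T, Ef i = cjs t E := fun i => (e.symm i).2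
  have hinj : ∀ i j, i ≠ j → Ef i ≠ Ef j := by
    intro i j hij h
    apply hij
    have : e.symm i = e.symm j := Subtype.ext h
    exact e.symm.injective this
  have hP' : ∀ i, Ef i ≤ P := by
    intro i
    obtain ⟨t, ht, h⟩ := hEf i
    rw [h]
    exact cj_le_of_mem (hTP ht) hEP
  have hsurj : ∀ t ∈ TT T, ∃ i, Ef i = cjs t E := by
    intro t ht
    refine ⟨e ⟨cjs t E, ⟨t, ht, rfl⟩⟩, ?_⟩
    show ((e.symm (e ⟨cjs t E, ⟨t, ht, rfl⟩⟩) : S) : Subgroup G) = cjs t E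
    rw [Equiv.symm_apply_apply]
  refine ⟨Nat.card S, Ef, ?_, hEf, hsurj⟩
  apply STRUCTS_aux_core hr1 Ef (TT T) hVab Hy.hPV hP'
  · intro i j hij
    obtain ⟨s, hs, h1⟩ := hEf i
    obtain ⟨t, ht, h2⟩ := hEf j
    have hne := hinj i j hij
    rw [h1, h2] at hne ⊢
    exact ASMCORE_aux_A hcomm hs ht hne
  · intro i
    obtain ⟨t, ht, h⟩ := hEf i
    rw [h]
    exact hker t ht
  · intro i
    obtain ⟨t, ht, h⟩ := hEf i
    rw [h]
    exact hVE t ht
  · intro i j hij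
    obtain ⟨s, hs, h1⟩ := hEf i
    obtain ⟨t, ht, h2⟩ := hEf j
    have hne := hinj i j hij
    rw [h1, h2] at hne ⊢
    exact ASMCORE_aux_B hTV hVEC hs ht hne
  · intro i
    obtain ⟨t, ht, h⟩ := hEf i
    rw [h]
    exact hloc t ht
  · intro i j
    obtain ⟨s, hs, h1⟩ := hEf i
    obtain ⟨t, ht, h2⟩ := hEf j
    refine ⟨t * s⁻¹, (TT T).mul_mem ht ((TT T).inv_mem hs), ?_⟩
    rw [h1, h2, cj_mul]
    have : t * s⁻¹ * s = t := by group
    rw [this]
  · -- GEN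
    apply le_antisymm
    · exact sup_le (iSup_le hP') hTP
    · by_contra hcon
      have hne : ((⨆ i, Ef i) ⊔ TT T).subgroupOf P ≠ ⊤ := by
        intro h; exact hcon (Subgroup.subgroupOf_eq_top.mp h)
      have hT' : (T : Subgroup ↥P) ≤ ((⨆ i, Ef i) ⊔ TT T).subgroupOf P := by
        intro x hx
        rw [Subgroup.mem_subgroupOf]
        exact (le_sup_right : TT T ≤ (⨆ i, Ef i) ⊔ TT T) (Subgroup.mem_map_of_mem _ hx)
      have hle : ((⨆ i, Ef i) ⊔ TT T).subgroupOf P ≤ M := by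
        rcases IsCoatomic.eq_top_or_exists_le_coatom (((⨆ i, Ef i) ⊔ TT T).subgroupOf P) with h | ⟨M', hM', hHM'⟩
        · exact absurd h hne
        · have := (Hy.hmin T).2.unique ⟨hM', hT'.trans hHM'⟩ ⟨Hy.hM, Hy.hTM⟩
          rw [← this]; exact hHM'
      apply hEM
      intro x hx
      have hi0 : Ef (e ⟨E, hES⟩) = E := by
        show ((e.symm (e ⟨E, hES⟩) : S) : Subgroup G) = E
        rw [Equiv.symm_apply_apply]
      have hxH : x ∈ (⨆ i, Ef i) ⊔ TT T :=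
        (le_sup_left : (⨆ i, Ef i) ≤ (⨆ i, Ef i) ⊔ TT T) (Subgroup.mem_iSup_of_mem (e ⟨E, hES⟩) (hi0.symm ▸ hx))
      have hxM : (⟨x, hEP hx⟩ : ↥P) ∈ M := hle (Subgroup.mem_subgroupOf.mpr hxH)
      exact ⟨⟨x, hEP hx⟩, hxM, rfl⟩


/-- the family of `STRUCTS_core` is permuted by `T`, and its join is the join of the `T`-conjugates of `E`. -/
theorem STRUCTS (Hy : Hyp p V P T M) (E : Subgroup G) (hEP : E ≤ P) (hEM : ¬ E ≤ MM M)
    (hcomm : ∀ t ∈ TT T, cjs t E ≠ E → ∀ x ∈ E, ∀ y ∈ cjs t E, x * y = y * x)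
    (hker : ∀ t ∈ TT T, ∀ e ∈ cjs t E, (∀ v ∈ V, e * v * e⁻¹ * v⁻¹ ∈ fixV V (cjs t E)) → e = 1)
    (hVE : ∀ t ∈ TT T, ⁅V, cjs t E⁆ ⊔ fixV V (cjs t E) = V)
    (hVEC : ∀ t ∈ TT T, cjs t E ≠ E → ⁅V, cjs t E⁆ ≤ fixV V E)
    (hloc : ∀ t ∈ TT T, LocOut p V (cjs t E)) :
    ∃ (r : ℕ) (Ef : Fin r → Subgroup G), ConclFam p V P (TT T) r Ef ∧ (∀ i, ∀ t ∈ TT T, ∃ j, cjs t (Ef i) = Ef j) ∧
      (⨆ i, Ef i) = ⨆ t : ↥(TT T), cjs (t : G) E := by
  obtain ⟨r, Ef, h1, h2, h3⟩ := STRUCTS_core Hy E hEP hEM hcomm hker hVE hVEC hloc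
  refine ⟨r, Ef, h1, ?_, ?_⟩
  · intro i t ht
    obtain ⟨s, hs, hi⟩ := h2 i
    obtain ⟨j, hj⟩ := h3 (t * s) ((TT T).mul_mem ht hs)
    exact ⟨j, by rw [hj, hi, cj_mul]⟩
  · apply le_antisymm
    · refine iSup_le fun i => ?_
      obtain ⟨s, hs, hi⟩ := h2 i
      rw [hi]
      exact le_iSup (fun t : ↥(TT T) => cjs (t : G) E) ⟨s, hs⟩
    · refine iSup_le fun t => ?_
      obtain ⟨j, hj⟩ := h3 t t.2
      rw [← hj]
      exact le_iSup Ef j

end Cfsg.Agent.S3000P
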