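import Mathlib
import Cfsg.Agent.Helper28.S3000MAIN
import Cfsg.Agent.Helper28.S3000DefsS
import Cfsg.Agent.Helper28.S3000Q2S
import Cfsg.Agent.Helper28.S3000StructS
import Cfsg.Agent.Helper6.S3000EXOFF
import Cfsg.Agent.Helper19.S3000BASIC

/-! S3000, strong form: the family `E` of the conclusion is permuted by `T` (`ConclS`), for `S3001` and `S2981`. -/

set_option autoImplicit false

namespace Cfsg.Agent.S3000P

open Cfsg.Agent.S2789P Cfsg.Agent.S2999P
open scoped commutatorElement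

variable {G : Type*} [Group G] [Finite G] {p : ℕ} [Fact p.Prime] {V P : Subgroup G} {T : Sylow p ↥P} {M : Subgroup ↥P} {q : ℕ}

/-- MAIN (`q > 2`) with the family made explicit: for any package `(A, E)` in `T` based at `M`, the `T`-conjugates of `E` form a
family as in the conclusion of S3000; it is permuted by `T` and its join is the join of the `T`-conjugates of `E`. -/
theorem MAIN_fam (Hy : Hyp p V P T M) (hq : MinQ p V P q) (hq2 : 2 < q) {A E : Subgroup G} (hAT : A ≤ TT T)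
    (hK : Pack p V P q A E) (hB : Based (MM M) A E) :
    ∃ (r : ℕ) (Ef : Fin r → Subgroup G), ConclFam p V P (TT T) r Ef ∧ (∀ i, ∀ t ∈ TT T, ∃ j, cjs t (Ef i) = Ef j) ∧
      (⨆ i, Ef i) = ⨆ t : ↥(TT T), cjs (t : G) E := by
  have hTP : TT T ≤ P := Subgroup.map_subtype_le _
  obtain ⟨H, w, K⟩ := TOOL Hy hq2 hK
  have hKt : ∀ t ∈ TT T, Pack p V P q (cjs t A) (cjs t E) := fun t ht => Pack.conj Hy hK (hTP ht)
  have hcomm := COMM Hy hq hq2 hK hB hAT
  refine STRUCTS Hy E hK.hEP hB.hEM hcomm ?_ ?_ ?_ ?_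
  · intro t ht
    obtain ⟨Ht, wt, Kt⟩ := TOOL Hy hq2 (hKt t ht)
    exact Kt.hker
  · intro t ht
    obtain ⟨Ht, wt, Kt⟩ := TOOL Hy hq2 (hKt t ht)
    exact Tool.VE Hy Kt
  · intro t ht hne
    obtain ⟨Ht, wt, Kt⟩ := TOOL Hy hq2 (hKt t ht)
    exact VEC Hy K Kt (hcomm t ht hne)
  · intro t ht
    obtain ⟨Ht, wt, Kt⟩ := TOOL Hy hq2 (hKt t ht)
    exact LOC Hy (hKt t ht) (Tool.VE Hy Kt)

/-- MAIN (`q > 2`), strong form. -/
theorem MAIN_S (Hy : Hyp p V P T M) (hq : MinQ p V P q) (hq2 : 2 < q) : ConclS p V P (TT T) := by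
  obtain ⟨A, E, hAT, hK, hB⟩ := PKG3 Hy hq
  obtain ⟨r, Ef, h1, h2, -⟩ := MAIN_fam Hy hq hq2 hAT hK hB
  exact ⟨r, Ef, h1, h2⟩

/-- S3000 in its strong form: the hypotheses of S3000 give a family `E` as in the conclusion of S3000 which is moreover
permuted by conjugation by the elements of `T`. -/
theorem strong (Hy : Hyp p V P T M)
    (hoff : ∃ A : Subgroup G, A ≤ P ∧ ¬ A ≤ Subgroup.centralizer (V : Set G) ∧ Cfsg.IsBestOffenderOn p V A) :
    ConclS p V P (TT T) := by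
  obtain ⟨q, hq⟩ := EXQ (EXOFF Hy hoff)
  have h2 : 2 ≤ q := QGE2 hq
  rcases eq_or_lt_of_le h2 with h | h
  · subst h
    exact Q2S Hy hq
  · exact MAIN_S Hy hq h

end Cfsg.Agent.S3000P
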