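import Mathlib
import Cfsg.Agent.Helper25.S2981BDefs
import Cfsg.Agent.Helper28.S3000Strong

/-! S2981, piece STRUCT of the board `s2981pieces`: `MAIN` of S3000 with the family made explicit; its join is `N`. -/

set_option autoImplicit false

namespace Cfsg.Agent.S2981P

open Cfsg.Agent.S2789P Cfsg.Agent.S2999P Cfsg.Agent.S3000P
open scoped commutatorElement

variable {G : Type*} [Group G] [Finite G] {p : ℕ} [Fact p.Prime] {V P : Subgroup G} {T : Sylow p ↥P} {M : Subgroup ↥P} {q : ℕ}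

variable {A E : Subgroup G}

/-- STRUCT (L): `ASMCORE`/`MAIN` with the family made explicit: its join is `N`. -/
theorem STRUCT (Hy : Hyp p V P T M) (hq : MinQ p V P q) (hq2 : 2 < q) (X : PkgT p V P T M q A E) :
    ∃ (r : ℕ) (Ef : Fin r → Subgroup G), ConclFam p V P (TT T) r Ef ∧ (⨆ i, Ef i) = Ncomp (TT T) E := by
  obtain ⟨r, Ef, h1, -, h3⟩ := MAIN_fam Hy hq hq2 X.hAT X.hK X.hB
  exact ⟨r, Ef, h1, h3⟩

/-- STRUCT with (TINV): the family is permuted by `T`. -/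
theorem STRUCT_tinv (Hy : Hyp p V P T M) (hq : MinQ p V P q) (hq2 : 2 < q) (X : PkgT p V P T M q A E) :
    ∃ (r : ℕ) (Ef : Fin r → Subgroup G), ConclFam p V P (TT T) r Ef ∧ (∀ i, ∀ t ∈ TT T, ∃ j, cjs t (Ef i) = Ef j) ∧
      (⨆ i, Ef i) = Ncomp (TT T) E :=
  MAIN_fam Hy hq hq2 X.hAT X.hK X.hB

end Cfsg.Agent.S2981P
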