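import Mathlib
import Cfsg.Agent.Helper29.TV2Q2Defs
import Cfsg.Agent.Helper29.TV2_TR1
import Cfsg.Agent.Helper25.S2981BDefs

/-! Board `s2981pieces`, row Q2_TR3: orders of `WV` and of the fixed points. -/

set_option autoImplicit false

namespace Cfsg.Agent.S2981P

open Cfsg.Agent.TV2 Cfsg.Agent.S2789P Cfsg.Agent.S2999P Cfsg.Agent.S3000P
open scoped commutatorElement

variable {G : Type*} [Group G] [Finite G] {V P : Subgroup G} {hV : Cfsg.IsElementaryAbelian 2 V}
  {hPV : P ≤ Subgroup.normalizer (V : Set G)}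

/-- Q2_TR3: `|WV| = |V|` -/
theorem TR3_card_W : Nat.card (WV V P hV hPV) = Nat.card ↥V := by
  apply Nat.card_eq_of_bijective (fun w : WV V P hV hPV => (⟨ofW w, ofW_mem w⟩ : ↥V))
  constructor
  · intro a b h
    exact ofW_injective (congrArg Subtype.val h)
  · intro v
    exact ⟨toW hV hPV v, Subtype.ext rfl⟩

/-- a vector is fixed by `H` iff the corresponding element of `V` is centralised by the image of `H` -/
theorem TR3_aux_mem_fix (H : Subgroup ↥P) (w : WV V P hV hPV) :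
    w ∈ fixS (WV V P hV hPV) H ↔ ofW w ∈ fixV V (H.map P.subtype) := by
  rw [mem_fix]
  constructor
  · intro hw
    refine ⟨ofW_mem w, ?_⟩
    rintro e ⟨h, hh, rfl⟩
    exact (smul_eq_iff h w).mp (hw h hh)
  · rintro ⟨-, hw⟩ h hh
    exact (smul_eq_iff h w).mpr (hw _ ⟨h, hh, rfl⟩)

/-- Q2_TR3: `|C_W(H)| = |C_V(H)|` -/
theorem TR3_card_fix (H : Subgroup ↥P) :
    Nat.card ↥(fixS (WV V P hV hPV) H) = Nat.card ↥(fixV V (H.map P.subtype)) := by
  apply Nat.card_eq_of_bijective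
    (fun w : ↥(fixS (WV V P hV hPV) H) =>
      (⟨ofW w.1, (TR3_aux_mem_fix (hV := hV) (hPV := hPV) H w.1).mp w.2⟩ : ↥(fixV V (H.map P.subtype))))
  constructor
  · intro a b h
    have h1 : ofW a.1 = ofW b.1 := congrArg (fun x : ↥(fixV V (H.map P.subtype)) => (x : G)) h
    exact Subtype.ext (ofW_injective h1)
  · intro v
    have hvV : (v : G) ∈ V := (fix_le V _) v.2
    refine ⟨⟨toW hV hPV ⟨v, hvV⟩, ?_⟩, ?_⟩
    · rw [TR3_aux_mem_fix]
      exact v.2
    · exact Subtype.ext rfl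

end Cfsg.Agent.S2981P
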