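import Mathlib
import Cfsg.Agent.Helper29.TV2Q2Defs
import Cfsg.Agent.Helper29.TV2_TR1
import Cfsg.Agent.Helper25.S2981BDefs
import Cfsg.Agent.Helper28.S2981Q2TR3
import Cfsg.Agent.Helper12.S3000F2

/-! Board `s2981pieces`, row Q2_HF2: hypothesis `hF2` of `OFF2` (no over-offenders, from `F2`). -/

set_option autoImplicit false

namespace Cfsg.Agent.S2981P

open Cfsg.Agent.TV2 Cfsg.Agent.S2789P Cfsg.Agent.S2999P Cfsg.Agent.S3000P
open scoped commutatorElement

variable {G : Type*} [Group G] [Finite G] {V P : Subgroup G} {hV : Cfsg.IsElementaryAbelian 2 V}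
  {hPV : P ≤ Subgroup.normalizer (V : Set G)}

omit [Finite G] in
/-- a subgroup of exponent `2` of `↥P` is elementary abelian in `G` -/
theorem HF2_aux_elab (B : Subgroup ↥P) (hexp : ∀ b ∈ B, b * b = 1) : Cfsg.IsElementaryAbelian 2 (B.map P.subtype) := by
  constructor
  · refine ⟨⟨?_⟩⟩
    rintro ⟨x, a, ha, rfl⟩ ⟨y, b, hb, rfl⟩
    apply Subtype.ext
    simp only [Subgroup.coe_mul]
    have h1 := hexp a ha
    have h2 := hexp b hb
    have h3 := hexp (a * b) (B.mul_mem ha hb)
    have h4 : a * b = b * a := by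
      have e : a * b = a * (a * b * (a * b)) * b := by rw [h3, mul_one]
      have e2 : a * (a * b * (a * b)) * b = (a * a) * (b * a) * (b * b) := by group
      rw [e, e2, h1, h2, one_mul, mul_one]
    have := congrArg (fun x : ↥P => (x : G)) h4
    simpa using this
  · rintro x ⟨b, hb, rfl⟩
    have := congrArg (fun x : ↥P => (x : G)) (hexp b hb)
    simp only [Subgroup.coe_mul, Subgroup.coe_one] at this
    rw [pow_two]
    exact this

omit [Finite G] in
/-- the order of the image of a subgroup of `↥P` -/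
theorem HF2_aux_card_map (B : Subgroup ↥P) : Nat.card ↥(B.map P.subtype) = Nat.card ↥B :=
  Subgroup.card_map_of_injective (Subgroup.subtype_injective P)

/-- Q2_HF2: hypothesis `hF2` of `OFF2` (from `F2`). -/
theorem TR3_hF2 (C : Ctx ↥P (WV V P hV hPV)) (Hy : Hyp 2 V P C.T C.M) (B : Subgroup ↥P) (hexp : ∀ b ∈ B, b * b = 1) :
    Nat.card ↥B * Nat.card ↥(fixS (WV V P hV hPV) B) ≤ Nat.card (WV V P hV hPV) := by
  have h := F2 Hy (B.map P.subtype) (Subgroup.map_subtype_le _) (HF2_aux_elab B hexp)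
  rw [HF2_aux_card_map, ← TR3_card_fix (hV := hV) (hPV := hPV), ← TR3_card_W (P := P) (hV := hV) (hPV := hPV)] at h
  exact h

end Cfsg.Agent.S2981P
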