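import Mathlib
import Cfsg.Agent.Helper28.S2981Q2HF2
import Cfsg.Agent.Helper12.S3000F3
import Cfsg.Agent.Helper12.S3000OFFQ

/-! Board `s2981pieces`, rows Q2_STR2 and Q2_HS, cores: a strict offender inside `T` has order 2 and is generated by a
transvection (with the row UNIF2 as a hypothesis); hypothesis `hS` of `OFF2` (with STR2 as a hypothesis). -/

set_option autoImplicit false

namespace Cfsg.Agent.S2981P

open Cfsg.Agent.TV2 Cfsg.Agent.S2789P Cfsg.Agent.S2999P Cfsg.Agent.S3000P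
open scoped commutatorElement

variable {G : Type*} [Group G] [Finite G] {V P : Subgroup G} {hV : Cfsg.IsElementaryAbelian 2 V}
  {hPV : P ≤ Subgroup.normalizer (V : Set G)}

omit [Finite G] in
/-- a subgroup of order at most 2 containing `d ≠ 1` is `{1, d}` -/
theorem STR2_aux_two {H : Type*} [Group H] [Finite H] (B₁ : Subgroup H) (hc : Nat.card ↥B₁ ≤ 2) {d : H} (hd : d ∈ B₁) (hd1 : d ≠ 1) :
    ∀ b ∈ B₁, b = 1 ∨ b = d := by
  intro b hb
  by_contra hcon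
  push Not at hcon
  have hsub : ({1, d, b} : Set H) ⊆ (B₁ : Set H) := by
    intro x hx
    rcases hx with rfl | rfl | rfl
    · exact B₁.one_mem
    · exact hd
    · exact hb
  have h3 : ({1, d, b} : Set H).ncard = 3 :=
    Set.ncard_eq_three.mpr ⟨1, d, b, hd1.symm, hcon.1.symm, hcon.2.symm, rfl⟩
  have h4 := Set.ncard_le_ncard hsub (Set.toFinite _)
  have h5 : (B₁ : Set H).ncard = Nat.card ↥B₁ := rfl
  omega

/-- Q2_STR2 (core; `hU` is the row UNIF2 for `B₁`): a strict offender inside `T` has order 2 and is generated by a transvection.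
(Uniform by `F3_fix_elt`, `UNIF2`; then `F3_card` and `TR1_tv`.) -/
theorem STR2_core (C : Ctx ↥P (WV V P hV hPV)) (Hy : Hyp 2 V P C.T C.M) {B₁ : Subgroup ↥P}
    (hU : (∀ b ∈ B₁, b * b = 1) →
      (∀ b ∈ B₁, b ≠ 1 → ∀ b' ∈ B₁, b' ≠ 1 → ∀ w : WV V P hV hPV, b • w = w → b' • w = w) → Nat.card ↥B₁ ≤ 2)
    (hS : StrictOff 2 V (B₁.map P.subtype)) : ∃ d ∈ B₁, Tv (WV V P hV hPV) d ∧ ∀ b ∈ B₁, b = 1 ∨ b = d := by
  have hAP : B₁.map P.subtype ≤ P := Subgroup.map_subtype_le _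
  have hexp : ∀ b ∈ B₁, b * b = 1 := by
    intro b hb
    have h1 := hS.hA.2 (b : G) ⟨b, hb, rfl⟩
    rw [pow_two] at h1
    exact Subtype.ext h1
  have hne1 : ∀ b : ↥P, b ≠ 1 → (b : G) ≠ 1 := by
    intro b hb h
    exact hb (Subtype.ext h)
  have huni : ∀ b ∈ B₁, b ≠ 1 → ∀ b' ∈ B₁, b' ≠ 1 → ∀ w : WV V P hV hPV, b • w = w → b' • w = w := by
    intro b hb hb1 b' hb' _ w hw
    rw [smul_eq_iff] at hw ⊢
    have h1 : ofW w ∈ fixV V (B₁.map P.subtype) :=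
      F3_fix_elt Hy hAP hS ⟨b, hb, rfl⟩ (hne1 b hb1) (ofW_mem w) hw
    exact (mem_fix.mp h1).2 _ ⟨b', hb', rfl⟩
  have hc2 : Nat.card ↥B₁ ≤ 2 := hU hexp huni
  have hB₁ne : B₁ ≠ ⊥ := by
    intro h
    apply hS.ne
    rw [h, Subgroup.map_bot]
  obtain ⟨d, hd1⟩ := (Subgroup.ne_bot_iff_exists_ne_one).mp hB₁ne
  have hd1' : (d : ↥P) ≠ 1 := fun h => hd1 (Subtype.ext (by simpa using h))
  have hall := STR2_aux_two B₁ hc2 d.2 hd1'
  refine ⟨d, d.2, ?_, hall⟩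
  -- `d` is a transvection
  have hcard2 : Nat.card ↥B₁ = 2 := by
    have h1 : 1 < Nat.card ↥B₁ := by
      rw [Finite.one_lt_card_iff_nontrivial]
      exact ⟨⟨d, 1, hd1⟩⟩
    omega
  have hcard := F3_card Hy hAP hS
  rw [HF2_aux_card_map, hcard2] at hcard
  have hdV : ((d : ↥P) : G) ∉ Subgroup.centralizer (V : Set G) := by
    intro h
    have h1 : ((d : ↥P) : G) ∈ P ⊓ Subgroup.centralizer (V : Set G) := ⟨(d : ↥P).2, h⟩
    rw [Hy.hf, Subgroup.mem_bot] at h1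
    exact hne1 _ hd1' h1
  have hle : fixV V (B₁.map P.subtype) ≤ V ⊓ Subgroup.centralizer ({((d : ↥P) : G)} : Set G) := by
    intro v hv
    obtain ⟨hvV, hvc⟩ := mem_fix.mp hv
    refine ⟨hvV, ?_⟩
    show v ∈ Subgroup.centralizer ({((d : ↥P) : G)} : Set G)
    rw [Subgroup.mem_centralizer_iff]
    intro x hx
    rw [Set.mem_singleton_iff] at hx
    subst hx
    exact hvc _ ⟨d, d.2, rfl⟩
  have h2 := Subgroup.card_le_of_le hle
  have h3 : Nat.card ↥V ≤ 2 * Nat.card ↥(V ⊓ Subgroup.centralizer ({((d : ↥P) : G)} : Set G)) := by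
    rw [← hcard]; exact Nat.mul_le_mul_left 2 h2
  exact TR1_tv (hV := hV) (hPV := hPV) (d : ↥P).2 hdV h3

/-- an exact offender of exponent 2 of `↥P` (in the module `WV`) is an exact offender in `G` -/
theorem HS_aux_off (B : Subgroup ↥P) (hexp : ∀ b ∈ B, b * b = 1)
    (hval : Nat.card ↥B * Nat.card ↥(fixS (WV V P hV hPV) B) = Nat.card (WV V P hV hPV)) : Off 2 V P (B.map P.subtype) := by
  refine ⟨Subgroup.map_subtype_le _, HF2_aux_elab B hexp, ?_⟩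
  rw [HF2_aux_card_map, ← TR3_card_fix (hV := hV) (hPV := hPV), ← TR3_card_W (P := P) (hV := hV) (hPV := hPV)]
  exact hval

/-- Q2_HS (core; `hSTR2` is the row STR2): hypothesis `hS` of `OFF2` (from `OFFQ_aux_strict_le` and `STR2`). -/
theorem TR3_hS_core (C : Ctx ↥P (WV V P hV hPV)) (Hy : Hyp 2 V P C.T C.M)
    (hSTR2 : ∀ B₁ : Subgroup ↥P, B₁ ≤ (C.T : Subgroup ↥P) → StrictOff 2 V (B₁.map P.subtype) →
      ∃ d ∈ B₁, Tv (WV V P hV hPV) d ∧ ∀ b ∈ B₁, b = 1 ∨ b = d)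
    (B : Subgroup ↥P) (hBT : B ≤ (C.T : Subgroup ↥P))
    (hexp : ∀ b ∈ B, b * b = 1) (hne : B ≠ ⊥)
    (hval : Nat.card ↥B * Nat.card ↥(fixS (WV V P hV hPV) B) = Nat.card (WV V P hV hPV)) :
    ∃ d ∈ B, Tv (WV V P hV hPV) d := by
  have hOff := HS_aux_off B hexp hval
  have hne' : B.map P.subtype ≠ ⊥ := by
    intro h
    exact hne ((Subgroup.map_eq_bot_iff_of_injective B (Subgroup.subtype_injective P)).mp h)
  obtain ⟨B₀, hB₀B, hB₀⟩ := OFFQ_aux_strict_le Hy hOff hne'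
  have hB₀P : B₀ ≤ P := hB₀B.trans (Subgroup.map_subtype_le _)
  have hmap : (B₀.subgroupOf P).map P.subtype = B₀ := by
    rw [Subgroup.subgroupOf_map_subtype]; exact inf_eq_left.mpr hB₀P
  have hle : B₀.subgroupOf P ≤ B := by
    intro x hx
    rw [Subgroup.mem_subgroupOf] at hx
    obtain ⟨b, hb, hbx⟩ := hB₀B hx
    have : b = x := Subtype.ext hbx
    rw [← this]; exact hb
  have hS : StrictOff 2 V ((B₀.subgroupOf P).map P.subtype) := by rw [hmap]; exact hB₀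
  obtain ⟨d, hd, hdtv, -⟩ := hSTR2 _ (hle.trans hBT) hS
  exact ⟨d, hle hd, hdtv⟩

end Cfsg.Agent.S2981P
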