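import Mathlib
import Cfsg.Agent.Helper28.S2981Q2STR2core
import Cfsg.Agent.Helper29.S2981Q2_STR2

/-! Board `s2981pieces`, row Q2_HS: hypothesis `hS` of `OFF2`. -/

set_option autoImplicit false

namespace Cfsg.Agent.S2981P

open Cfsg.Agent.TV2 Cfsg.Agent.S2789P Cfsg.Agent.S2999P Cfsg.Agent.S3000P
open scoped commutatorElement

variable {G : Type*} [Group G] [Finite G] {V P : Subgroup G} {hV : Cfsg.IsElementaryAbelian 2 V}
  {hPV : P ≤ Subgroup.normalizer (V : Set G)}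

/-- Q2_HS: hypothesis `hS` of `OFF2` (from `OFFQ_aux_strict_le` and `STR2`). -/
theorem TR3_hS (C : Ctx ↥P (WV V P hV hPV)) (Hy : Hyp 2 V P C.T C.M) (B : Subgroup ↥P) (hBT : B ≤ (C.T : Subgroup ↥P))
    (hexp : ∀ b ∈ B, b * b = 1) (hne : B ≠ ⊥)
    (hval : Nat.card ↥B * Nat.card ↥(fixS (WV V P hV hPV) B) = Nat.card (WV V P hV hPV)) :
    ∃ d ∈ B, Tv (WV V P hV hPV) d :=
  TR3_hS_core C Hy (fun _ h1 h2 => STR2 C Hy h1 h2) B hBT hexp hne hval

end Cfsg.Agent.S2981P
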