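import Mathlib
import Cfsg.Agent.Helper25.ThDefs

set_option autoImplicit false

/-! S3797 piece CENT: the Sylow 2-subgroups centralize `V`. -/

namespace Cfsg.Agent.Helper28.Th

section aux

variable {G : Type*} [Group G]

theorem mem_of_coprime_pow (C : Subgroup G) (x : G) (a b : ℕ) (hab : Nat.Coprime a b)
    (ha : x ^ a ∈ C) (hb : x ^ b ∈ C) : x ∈ C := by
  have h := Nat.gcd_eq_gcd_ab a b
  rw [hab, Nat.cast_one] at h
  have e : x = (x ^ a) ^ (Nat.gcdA a b) * (x ^ b) ^ (Nat.gcdB a b) := by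
    rw [← zpow_natCast, ← zpow_natCast, ← zpow_mul, ← zpow_mul, ← zpow_add, ← h, zpow_one]
  rw [e]
  exact C.mul_mem (C.zpow_mem ha _) (C.zpow_mem hb _)

/-- an element outside a subgroup has a power of prime power order outside the subgroup -/
theorem exists_prime_pow_not_mem [Finite G] (C : Subgroup G) :
    ∀ (m : ℕ) (x : G), orderOf x = m → x ∉ C →
      ∃ r : ℕ, r.Prime ∧ ∃ k a : ℕ, x ^ k ∉ C ∧ (x ^ k) ^ (r ^ a) = 1 := by
  intro m
  induction m using Nat.strong_induction_on with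
  | _ m ih =>
    intro x hxm hxC
    have hm0 : m ≠ 0 := by
      rw [← hxm]
      exact (orderOf_pos x).ne'
    have hm1 : m ≠ 1 := by
      intro h
      rw [h, orderOf_eq_one_iff] at hxm
      rw [hxm] at hxC
      exact hxC C.one_mem
    obtain ⟨r, hr, hrm⟩ := Nat.exists_prime_and_dvd hm1
    obtain ⟨e, n', hrn', hmn'⟩ := Nat.exists_eq_pow_mul_and_not_dvd hm0 r hr.ne_one
    have he : e ≠ 0 := by
      rintro rfl
      rw [pow_zero, one_mul] at hmn'
      rw [hmn'] at hrm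
      exact hrn' hrm
    have hcop : Nat.Coprime (r ^ e) n' :=
      Nat.Coprime.pow_left e ((Nat.Prime.coprime_iff_not_dvd hr).2 hrn')
    by_cases h1 : x ^ (r ^ e) ∈ C
    · have h2 : x ^ n' ∉ C := fun h2 => hxC (mem_of_coprime_pow C x _ _ hcop h1 h2)
      refine ⟨r, hr, n', e, h2, ?_⟩
      rw [← pow_mul, mul_comm, ← hmn', ← hxm, pow_orderOf_eq_one]
    · have hord : orderOf (x ^ (r ^ e)) = n' := by
        rw [orderOf_pow' x (pow_ne_zero e hr.ne_zero), hxm, hmn',
          Nat.gcd_eq_right (Dvd.intro _ rfl)]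
        exact Nat.mul_div_cancel_left _ (pow_pos hr.pos e)
      have hlt : n' < m := by
        rw [hmn']
        have h2 : 2 ≤ r ^ e := by
          calc 2 ≤ r := hr.two_le
            _ = r ^ 1 := (pow_one r).symm
            _ ≤ r ^ e := Nat.pow_le_pow_right hr.pos (Nat.one_le_iff_ne_zero.2 he)
        have hn'0 : 0 < n' := by
          rcases Nat.eq_zero_or_pos n' with h | h
          · rw [h, mul_zero] at hmn'
            exact absurd hmn' hm0
          · exact h
        nlinarith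
      obtain ⟨r', hr', k, a, hk, hka⟩ := ih n' hlt (x ^ (r ^ e)) hord h1
      refine ⟨r', hr', r ^ e * k, a, ?_, ?_⟩
      · rw [pow_mul]; exact hk
      · rw [pow_mul]; exact hka

end aux

/-- **the Sylow `2`-subgroups centralize `V`** -/
theorem sylow_le_centralizer {H : Type*} [Group H] [Finite H] (hsol : Group.IsSolvable H)
    (V : Subgroup H) [V.Normal] (n : ℕ) (hcard : Nat.card V = 2 ^ n) (hn : 2 ≤ n)
    (hV2 : ∀ v ∈ V, v ^ 2 = 1) (hinv : ∀ x : H, x ^ 2 = 1 → x ∈ V)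
    (htrans : ∀ v ∈ V, ∀ w ∈ V, v ≠ 1 → w ≠ 1 → ∃ g : H, g * v * g⁻¹ = w)
    (hGL : Cfsg.Agent.Helper25.Th.SemilinearData V n ⊤)
    (S : Sylow 2 H) : (S : Subgroup H) ≤ Subgroup.centralizer (V : Set H) := by
  classical
  obtain ⟨L0, -, hL0n, hCL0, hfpf, -, hexp, hidx⟩ := hGL
  have hL0N : L0.Normal := ⟨fun x hx g => hL0n g (Subgroup.mem_top g) x hx⟩
  have hCL : Subgroup.centralizer (V : Set H) ≤ L0 := fun x hx => hCL0 ⟨Subgroup.mem_top x, hx⟩
  have hpos : 1 ≤ 2 ^ n := Nat.one_le_two_pow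
  have hodd : Odd (2 ^ n - 1) := by
    have : Even (2 ^ n) := (Nat.even_pow' (by omega)).2 even_two
    exact Nat.Even.sub_odd hpos this odd_one
  have hcop : ∀ k : ℕ, Nat.Coprime (2 ^ n - 1) (2 ^ k) := fun k =>
    Nat.Coprime.pow_right k (Nat.Coprime.symm ((Nat.coprime_two_left).2 hodd))
  -- the `2`-elements of `L0` centralize `V`
  have hA : ∀ x ∈ L0, ∀ k : ℕ, x ^ (2 ^ k) = 1 → x ∈ Subgroup.centralizer (V : Set H) := by
    intro x hx k hk
    exact mem_of_coprime_pow _ x _ _ (hcop k) (hexp x hx) (by rw [hk]; exact Subgroup.one_mem _)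
  -- a nontrivial element of `V`
  obtain ⟨v, hvV, hv1⟩ : ∃ v ∈ V, v ≠ 1 := by
    by_contra hcon
    push Not at hcon
    have : V = ⊥ := (Subgroup.eq_bot_iff_forall V).2 hcon
    rw [this, Subgroup.card_bot] at hcard
    have : 2 ≤ 2 ^ n := by
      calc 2 = 2 ^ 1 := rfl
        _ ≤ 2 ^ n := Nat.pow_le_pow_right (by norm_num) (by omega)
    omega
  -- `L0` is not the centralizer
  have hne : ∃ x₀ ∈ L0, x₀ ∉ Subgroup.centralizer (V : Set H) := by
    by_contra hcon
    push Not at hcon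
    have hLC : L0 = Subgroup.centralizer (V : Set H) := le_antisymm hcon hCL
    -- the orbit map
    let f : H ⧸ Subgroup.centralizer (V : Set H) → V := fun q =>
      Quotient.liftOn' q (fun g => (⟨g * v * g⁻¹, ‹V.Normal›.conj_mem v hvV g⟩ : V)) (by
        intro g g' hgg'
        rw [QuotientGroup.leftRel_apply] at hgg'
        apply Subtype.ext
        show g * v * g⁻¹ = g' * v * g'⁻¹
        have h1 := Subgroup.mem_centralizer_iff.1 hgg' v hvV
        have h2 : (g⁻¹ * g') * v * (g⁻¹ * g')⁻¹ = v := by rw [← h1]; group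
        calc g * v * g⁻¹ = g * ((g⁻¹ * g') * v * (g⁻¹ * g')⁻¹) * g⁻¹ := by rw [h2]
          _ = g' * v * g'⁻¹ := by group)
    let f' : Option (H ⧸ Subgroup.centralizer (V : Set H)) → V := fun o =>
      match o with
      | none => 1
      | some q => f q
    have hsurj : Function.Surjective f' := by
      rintro ⟨w, hw⟩
      by_cases hw1 : w = 1
      · exact ⟨none, Subtype.ext hw1.symm⟩
      · obtain ⟨g, hg⟩ := htrans v hvV w hw hv1 hw1
        exact ⟨some (QuotientGroup.mk g), Subtype.ext hg⟩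
    have h1 := Nat.card_le_card_of_surjective f' hsurj
    rw [Finite.card_option, hcard] at h1
    have h2 : (Subgroup.centralizer (V : Set H)).index ∣ n := by
      rw [← hLC, ← Subgroup.relIndex_top_right]
      exact hidx
    have h3 : (Subgroup.centralizer (V : Set H)).index ≤ n := Nat.le_of_dvd (by omega) h2
    have h4 : Nat.card (H ⧸ Subgroup.centralizer (V : Set H)) =
        (Subgroup.centralizer (V : Set H)).index := rfl
    rw [h4] at h1
    have h5 : n + 2 ≤ 2 ^ n := by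
      obtain ⟨j, rfl⟩ : ∃ j, n = j + 2 := ⟨n - 2, by omega⟩
      have : j + 2 + 1 ≤ 2 ^ (j + 1) := by
        have := Nat.lt_two_pow_self (n := j + 2)
        have h6 : 2 ^ (j + 2) = 2 * 2 ^ (j + 1) := by ring
        have h7 := Nat.lt_two_pow_self (n := j + 1)
        omega
      have h6 : 2 ^ (j + 2) = 2 * 2 ^ (j + 1) := by ring
      omega
    omega
  obtain ⟨x₀, hx₀L, hx₀C⟩ := hne
  obtain ⟨r, hr, k, a, hkC, hka⟩ := exists_prime_pow_not_mem (Subgroup.centralizer (V : Set H))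
    _ x₀ rfl hx₀C
  have hx₂L : x₀ ^ k ∈ L0 := L0.pow_mem hx₀L k
  have hr2 : r ≠ 2 := by
    rintro rfl
    exact hkC (hA _ hx₂L a hka)
  have hrodd : Odd r := hr.odd_of_ne_two hr2
  have : Fact r.Prime := ⟨hr⟩
  -- a Sylow `r`-subgroup of `L0` containing the element
  have hpg : IsPGroup r (Subgroup.zpowers (⟨x₀ ^ k, hx₂L⟩ : ↥L0)) := by
    rintro ⟨y, hy⟩
    obtain ⟨j, rfl⟩ := hy
    refine ⟨a, ?_⟩
    apply Subtype.ext
    apply Subtype.ext
    show ((⟨x₀ ^ k, hx₂L⟩ : ↥L0) ^ j : ↥L0).1 ^ (r ^ a) = 1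
    rw [Subgroup.coe_zpow]
    show ((x₀ ^ k) ^ j) ^ (r ^ a) = 1
    rw [← zpow_natCast, ← zpow_mul, mul_comm, zpow_mul, zpow_natCast, hka, one_zpow]
  obtain ⟨P, hP⟩ := hpg.exists_le_sylow
  obtain ⟨R, hR⟩ : ∃ R : Subgroup H, R = (P : Subgroup ↥L0).map L0.subtype := ⟨_, rfl⟩
  have hxR : x₀ ^ k ∈ R := by
    rw [hR]
    exact ⟨⟨x₀ ^ k, hx₂L⟩, hP (Subgroup.mem_zpowers _), rfl⟩
  have hRpow : ∀ y ∈ R, ∃ j : ℕ, y ^ (r ^ j) = 1 := by
    intro y hy
    rw [hR] at hy
    obtain ⟨y', hy', rfl⟩ := hy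
    obtain ⟨j, hj⟩ := P.2 ⟨y', hy'⟩
    refine ⟨j, ?_⟩
    have := congrArg (fun z : ↥(P : Subgroup ↥L0) => ((z : ↥L0) : H)) hj
    exact this
  have hfrat : Subgroup.normalizer (R : Set H) ⊔ L0 = ⊤ := by
    rw [hR]
    exact Sylow.normalizer_sup_eq_top P
  -- `C_V(R) = 1`
  have hCVR : ∀ w ∈ V, (∀ y ∈ R, y * w = w * y) → w = 1 := by
    intro w hw hcomm
    by_contra hw1
    exact hkC (hfpf _ hx₂L w hw hw1 (hcomm _ hxR))
  -- the normalizer of `R` has no involutions
  have hNinv : ∀ τ ∈ Subgroup.normalizer (R : Set H), τ ^ 2 = 1 → τ = 1 := by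
    intro τ hτN hτ2
    have hτV := hinv τ hτ2
    apply hCVR τ hτV
    intro y hy
    have hc1 : τ * y * τ⁻¹ * y⁻¹ ∈ R :=
      R.mul_mem ((Subgroup.mem_normalizer_iff.1 hτN y).1 hy) (R.inv_mem hy)
    have hc2 : τ * y * τ⁻¹ * y⁻¹ ∈ V := by
      have : τ * y * τ⁻¹ * y⁻¹ = τ * (y * τ⁻¹ * y⁻¹) := by group
      rw [this]
      exact V.mul_mem hτV (‹V.Normal›.conj_mem _ (V.inv_mem hτV) y)
    obtain ⟨j, hj⟩ := hRpow _ hc1
    have hc : τ * y * τ⁻¹ * y⁻¹ = 1 := by
      have := mem_of_coprime_pow (⊥ : Subgroup H) (τ * y * τ⁻¹ * y⁻¹) (r ^ j) 2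
        (Nat.Coprime.pow_left j ((Nat.coprime_two_right).2 hrodd))
        (by rw [hj]; exact Subgroup.one_mem _)
        (by rw [hV2 _ hc2]; exact Subgroup.one_mem _)
      exact Subgroup.mem_bot.1 this
    have e : y * τ = (τ * y * τ⁻¹ * y⁻¹)⁻¹ * (τ * y) := by group
    rw [e, hc, inv_one, one_mul]
  -- hence it has odd order
  have hNodd : Odd (Nat.card ↥(Subgroup.normalizer (R : Set H))) := by
    by_contra hcon
    rw [Nat.not_odd_iff_even, even_iff_two_dvd] at hcon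
    have : Fact (Nat.Prime 2) := ⟨Nat.prime_two⟩
    obtain ⟨τ, hτ⟩ := exists_prime_orderOf_dvd_card' 2 hcon
    have h1 : (τ : H) = 1 := by
      apply hNinv τ.1 τ.2
      have : τ ^ 2 = 1 := by rw [← hτ]; exact pow_orderOf_eq_one τ
      have := congrArg Subtype.val this
      exact this
    have h2 : τ = 1 := Subtype.ext h1
    rw [h2, orderOf_one] at hτ
    omega
  have hidxodd : Odd L0.index := by
    have h1 : L0.index = L0.relIndex (Subgroup.normalizer (R : Set H)) := by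
      rw [← Subgroup.relIndex_top_right, ← hfrat, Subgroup.relIndex_sup_right]
    rw [h1]
    exact Odd.of_dvd_nat hNodd (Subgroup.relIndex_dvd_card _ _)
  -- the conclusion
  intro s hs
  obtain ⟨j, hj⟩ := S.2 ⟨s, hs⟩
  have hj' : s ^ (2 ^ j) = 1 := congrArg Subtype.val hj
  have hsL : s ∈ L0 := by
    apply mem_of_coprime_pow L0 s L0.index (2 ^ j)
      (Nat.Coprime.pow_right j (Nat.Coprime.symm ((Nat.coprime_two_left).2 hidxodd)))
      (Subgroup.pow_index_mem L0 s)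
    rw [hj']
    exact L0.one_mem
  exact hA s hsL j hj'

end Cfsg.Agent.Helper28.Th
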