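import Mathlib
import Cfsg.Prelude.Def_FusionSystem
import Cfsg.Prelude.Def_PLocal
import Cfsg.Agent.Helper25.FusionNC
import Cfsg.Agent.Helper25.FusionBasic

set_option autoImplicit false

/-! S5220 piece NQ: a normal subgroup of `F` stays normal in `N_F(U)`. -/

namespace Cfsg.Agent.Helper28.GenF

open Cfsg Cfsg.FusionSystem

variable {Ω : Type*} [Group Ω]

theorem isNormal_normalizerSystem {S : Subgroup Ω} (F : FusionSystem S) {Q U : Subgroup Ω}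
    (hQ : F.IsNormal Q) (hUS : U ≤ S) (hQN : Q ≤ normalizerIn S U) :
    (Cfsg.Agent.Helper25.normalizerSystem F U hUS).IsNormal Q := by
  refine ⟨hQN, ?_⟩
  intro R φ hφ
  obtain ⟨hφF, hRN, hφN, ψ₀, hψ₀, hψ₀R, hψ₀U⟩ := hφ
  obtain ⟨ψ₁, hψ₁, hψ₁ext, hψ₁Q⟩ := hQ.2 (R ⊔ U) ψ₀ hψ₀
  have hle1 : R ⊔ Q ≤ (R ⊔ U) ⊔ Q := sup_le (le_sup_left.trans le_sup_left) le_sup_right
  have hle2 : (R ⊔ Q) ⊔ U ≤ (R ⊔ U) ⊔ Q :=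
    sup_le hle1 (le_sup_right.trans le_sup_left)
  -- values of `ψ₁` on `R`, `U`, `Q`
  have hvalR : ∀ (r : Ω) (hr : r ∈ R), ψ₁ ⟨r, (le_sup_left.trans le_sup_left :
      R ≤ (R ⊔ U) ⊔ Q) hr⟩ = φ ⟨r, hr⟩ := by
    intro r hr
    rw [← hψ₀R ⟨r, hr⟩, ← hψ₁ext]
    rfl
  have hvalU : ∀ (u : Ω) (hu : u ∈ U), ψ₁ ⟨u, (le_sup_right.trans le_sup_left :
      U ≤ (R ⊔ U) ⊔ Q) hu⟩ ∈ U := by
    intro u hu
    have h1 : ψ₀ ⟨u, (le_sup_right : U ≤ R ⊔ U) hu⟩ ∈ (U.subgroupOf (R ⊔ U)).map ψ₀ :=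
      ⟨⟨u, (le_sup_right : U ≤ R ⊔ U) hu⟩, hu, rfl⟩
    rw [hψ₀U] at h1
    have h2 := hψ₁ext ⟨u, (le_sup_right : U ≤ R ⊔ U) hu⟩
    have h3 : ψ₁ ⟨u, (le_sup_right.trans le_sup_left : U ≤ (R ⊔ U) ⊔ Q) hu⟩ =
        ψ₀ ⟨u, (le_sup_right : U ≤ R ⊔ U) hu⟩ := h2
    rw [h3]
    exact h1
  have hvalQ : ∀ (q : Ω) (hq : q ∈ Q), ψ₁ ⟨q, (le_sup_right : Q ≤ (R ⊔ U) ⊔ Q) hq⟩ ∈ Q := by
    intro q hq
    have h1 : ψ₁ ⟨q, (le_sup_right : Q ≤ (R ⊔ U) ⊔ Q) hq⟩ ∈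
        (Q.subgroupOf ((R ⊔ U) ⊔ Q)).map ψ₁ := ⟨⟨q, _⟩, hq, rfl⟩
    rw [hψ₁Q] at h1
    exact h1
  -- the values of `ψ₁` on `R ⊔ Q` lie in `N_S(U)`
  have hvalN : ∀ (x : Ω) (hx : x ∈ R ⊔ Q), ψ₁ ⟨x, hle1 hx⟩ ∈ normalizerIn S U := by
    have hK : R ⊔ Q ≤ ((normalizerIn S U).comap ψ₁).map ((R ⊔ U) ⊔ Q).subtype := by
      apply sup_le
      · intro r hr
        refine ⟨⟨r, (le_sup_left.trans le_sup_left : R ≤ (R ⊔ U) ⊔ Q) hr⟩, ?_, rfl⟩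
        show ψ₁ _ ∈ normalizerIn S U
        rw [hvalR r hr]
        exact hφN ⟨r, hr⟩
      · intro q hq
        refine ⟨⟨q, (le_sup_right : Q ≤ (R ⊔ U) ⊔ Q) hq⟩, ?_, rfl⟩
        show ψ₁ _ ∈ normalizerIn S U
        exact hQN (hvalQ q hq)
    intro x hx
    obtain ⟨y, hy, hyx⟩ := hK hx
    have : y = ⟨x, hle1 hx⟩ := Subtype.ext hyx
    rw [← this]
    exact hy
  refine ⟨ψ₁.comp (Subgroup.inclusion hle1), ?_, ?_, ?_⟩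
  · refine ⟨Cfsg.Agent.Helper25.restrict_mem F hle1 hψ₁, sup_le hRN hQN, ?_,
      ψ₁.comp (Subgroup.inclusion hle2), Cfsg.Agent.Helper25.restrict_mem F hle2 hψ₁, ?_, ?_⟩
    · intro x
      exact hvalN x.1 x.2
    · intro x
      rfl
    · ext y
      constructor
      · rintro ⟨⟨u, hu'⟩, hu, rfl⟩
        have huU : u ∈ U := hu
        exact hvalU u huU
      · intro hy
        -- surjectivity onto `U` from `ψ₀`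
        have h1 : y ∈ (U.subgroupOf (R ⊔ U)).map ψ₀ := by rw [hψ₀U]; exact hy
        obtain ⟨⟨u, hu'⟩, hu, rfl⟩ := h1
        have huU : u ∈ U := hu
        refine ⟨⟨u, (le_sup_right : U ≤ (R ⊔ Q) ⊔ U) huU⟩, huU, ?_⟩
        have h2 := hψ₁ext ⟨u, hu'⟩
        exact h2
  · intro x
    exact hvalR x.1 x.2
  · ext y
    constructor
    · rintro ⟨⟨q, hq'⟩, hq, rfl⟩
      have hqQ : q ∈ Q := hq
      exact hvalQ q hqQ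
    · intro hy
      have h1 : y ∈ (Q.subgroupOf ((R ⊔ U) ⊔ Q)).map ψ₁ := by rw [hψ₁Q]; exact hy
      obtain ⟨⟨q, hq'⟩, hq, rfl⟩ := h1
      have hqQ : q ∈ Q := hq
      exact ⟨⟨q, (le_sup_right : Q ≤ R ⊔ Q) hqQ⟩, hqQ, rfl⟩

end Cfsg.Agent.Helper28.GenF
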