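import Mathlib
import Cfsg.Prelude.Def_FusionSystem
import Cfsg.Prelude.Def_PLocal

set_option autoImplicit false

/-! S5220 piece ST: the star system. -/

namespace Cfsg.Agent.Helper28.GenF

open Cfsg Cfsg.FusionSystem

variable {Ω : Type*} [Group Ω]

/-- all injective maps into `S'`, required to be `E`-maps on good sources -/
def starSystem {S : Subgroup Ω} (E : FusionSystem S) (S' : Subgroup Ω) (hS' : S' ≤ S)
    (good : Subgroup Ω → Prop)
    (hgood : ∀ (P R : Subgroup Ω) (f : P →* R), Function.Injective f → P ≤ S' → R ≤ S' →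
      good P → good R) : FusionSystem S' where
  Hom R := {φ | R ≤ S' ∧ (∀ x, φ x ∈ S') ∧ Function.Injective φ ∧ (good R → φ ∈ E.Hom R)}
  le_of_mem := fun h => ⟨h.1, h.2.1⟩
  injective_of_mem := fun h => h.2.2.1
  conj_mem := by
    intro P g hP hg
    refine ⟨hP, ?_, ?_, ?_⟩
    · intro x
      exact S'.mul_mem (S'.mul_mem hg (hP x.2)) (S'.inv_mem hg)
    · intro x y hxy
      have h1 : g * (x : Ω) * g⁻¹ = g * (y : Ω) * g⁻¹ := hxy
      apply Subtype.ext
      exact mul_left_cancel (mul_right_cancel h1)
    · intro _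
      exact E.conj_mem (hP.trans hS') (hS' hg)
  comp_mem := by
    intro P Q φ ψ hφ hψ h
    refine ⟨hφ.1, ?_, ?_, ?_⟩
    · intro x
      exact hψ.2.1 _
    · intro x y hxy
      have h1 := hψ.2.2.1 hxy
      apply hφ.2.2.1
      exact congrArg Subtype.val h1
    · intro hgP
      have hinj : Function.Injective (φ.codRestrict Q h) := by
        intro x y hxy
        apply hφ.2.2.1
        exact congrArg Subtype.val hxy
      have hgQ : good Q := hgood P Q (φ.codRestrict Q h) hinj hφ.1 hψ.1 hgP
      exact E.comp_mem (hφ.2.2.2 hgP) (hψ.2.2.2 hgQ) h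
  inv_mem := by
    intro P φ hφ
    obtain ⟨hP, hval, hinj, hE⟩ := hφ
    have hrange : φ.range ≤ S' := by
      rintro _ ⟨x, rfl⟩
      exact hval x
    refine ⟨P.subtype.comp ((MonoidHom.ofInjective hinj).symm : φ.range ≃* P).toMonoidHom,
      ⟨hrange, ?_, ?_, ?_⟩, ?_⟩
    · intro y
      exact hP ((MonoidHom.ofInjective hinj).symm y).2
    · intro y z hyz
      have h1 : (((MonoidHom.ofInjective hinj).symm y : P) : Ω) =
          (((MonoidHom.ofInjective hinj).symm z : P) : Ω) := hyz
      exact (MonoidHom.ofInjective hinj).symm.injective (Subtype.ext h1)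
    · intro hg
      have hgP : good P := hgood φ.range P
        ((MonoidHom.ofInjective hinj).symm : φ.range ≃* P).toMonoidHom
        (MonoidHom.ofInjective hinj).symm.injective hrange hP hg
      obtain ⟨ψ', hψ', hψ'x⟩ := E.inv_mem (hE hgP)
      have : P.subtype.comp ((MonoidHom.ofInjective hinj).symm : φ.range ≃* P).toMonoidHom = ψ' := by
        ext y
        obtain ⟨y, x, rfl⟩ := y
        rw [hψ'x x]
        show (((MonoidHom.ofInjective hinj).symm ⟨φ x, _⟩ : P) : Ω) = (x : Ω)
        have h1 : (MonoidHom.ofInjective hinj).symm ⟨φ x, ⟨x, rfl⟩⟩ = x := by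
          apply (MonoidHom.ofInjective hinj).injective
          rw [MulEquiv.apply_symm_apply]
          rfl
        rw [h1]
      rw [this]
      exact hψ'
    · intro x
      show (((MonoidHom.ofInjective hinj).symm ⟨φ x, _⟩ : P) : Ω) = (x : Ω)
      have h1 : (MonoidHom.ofInjective hinj).symm ⟨φ x, ⟨x, rfl⟩⟩ = x := by
        apply (MonoidHom.ofInjective hinj).injective
        rw [MulEquiv.apply_symm_apply]
        rfl
      rw [h1]

end Cfsg.Agent.Helper28.GenF
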