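import Mathlib
import Cfsg.Prelude.Def_GeometricClasses
import Cfsg.Prelude.Def_ClassicalGeometry
import Cfsg.Agent.Helper27.S5975Defs
import Cfsg.Agent.Helper28.S5976ELTODD

set_option autoImplicit false
open scoped MatrixGroups

namespace Cfsg.Agent.S5975P

open Polynomial

namespace ELTODDX

open Matrix Cfsg.Agent.S5976P.ELTODD

variable {F : Type*} [Field F] {n : Type*} [Fintype n] [DecidableEq n]

/-- the kernel of a block diagonal matrix -/
noncomputable def kerEquiv (P₁ P₂ : Matrix n n F) :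
    LinearMap.ker (Matrix.toLin' (Matrix.fromBlocks P₁ 0 0 P₂)) ≃ₗ[F]
      (LinearMap.ker (Matrix.toLin' P₁)) × (LinearMap.ker (Matrix.toLin' P₂)) where
  toFun v := (⟨v.1 ∘ Sum.inl, by
      have hv := v.2
      rw [LinearMap.mem_ker, Matrix.toLin'_apply, Matrix.fromBlocks_mulVec] at hv
      rw [LinearMap.mem_ker, Matrix.toLin'_apply]
      funext i
      have := congrFun hv (Sum.inl i)
      simpa using this⟩,
    ⟨v.1 ∘ Sum.inr, by
      have hv := v.2
      rw [LinearMap.mem_ker, Matrix.toLin'_apply, Matrix.fromBlocks_mulVec] at hv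
      rw [LinearMap.mem_ker, Matrix.toLin'_apply]
      funext i
      have := congrFun hv (Sum.inr i)
      simpa using this⟩)
  map_add' u v := rfl
  map_smul' c v := rfl
  invFun w := ⟨Sum.elim w.1.1 w.2.1, by
      have h1 := w.1.2
      have h2 := w.2.2
      rw [LinearMap.mem_ker, Matrix.toLin'_apply] at h1 h2
      rw [LinearMap.mem_ker, Matrix.toLin'_apply, Matrix.fromBlocks_mulVec]
      have e1 : (Sum.elim (w.1.1 : n → F) (w.2.1 : n → F)) ∘ Sum.inl = w.1.1 := rfl
      have e2 : (Sum.elim (w.1.1 : n → F) (w.2.1 : n → F)) ∘ Sum.inr = w.2.1 := rfl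
      rw [e1, e2, h1, h2]
      funext s
      rcases s with s | s <;> simp⟩
  left_inv v := by
    apply Subtype.ext
    funext s
    rcases s with s | s <;> rfl
  right_inv w := by
    apply Prod.ext <;> apply Subtype.ext <;> rfl

theorem finrank_ker_fromBlocks_add (P₁ P₂ : Matrix n n F) :
    Module.finrank F (LinearMap.ker (Matrix.toLin' (Matrix.fromBlocks P₁ 0 0 P₂))) =
      Module.finrank F (LinearMap.ker (Matrix.toLin' P₁)) +
        Module.finrank F (LinearMap.ker (Matrix.toLin' P₂)) := by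
  rw [(kerEquiv P₁ P₂).finrank_eq, Module.finrank_prod]

theorem finrank_ker_add_rank (P : Matrix n n F) :
    Module.finrank F (LinearMap.ker (Matrix.toLin' P)) + P.rank = Fintype.card n := by
  have h := LinearMap.finrank_range_add_finrank_ker (Matrix.toLin' P)
  rw [Module.finrank_fintype_fun_eq_card] at h
  have : P.rank = Module.finrank F (LinearMap.range (Matrix.toLin' P)) := rfl
  omega

/-- the two diagonal blocks of `x - 1` have the same rank -/
theorem rank_dual (A : Matrix n n F) (r : ℕ) (hr1 : 1 ≤ r) (hAr : A ^ r = 1) :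
    ((A ^ (r - 1))ᵀ - 1).rank = (A - 1).rank := by
  have e1 : (A ^ (r - 1))ᵀ - 1 = (A ^ (r - 1) - 1)ᵀ := by
    rw [Matrix.transpose_sub, Matrix.transpose_one]
  have hA1 : A ^ (r - 1) * A = 1 := by rw [← pow_succ, Nat.sub_add_cancel hr1, hAr]
  have e2 : A ^ (r - 1) - 1 = (-(A ^ (r - 1))) * (A - 1) := by
    rw [mul_sub, mul_one, neg_mul, hA1]
    abel
  have hu : IsUnit (-(A ^ (r - 1))).det := by
    apply Matrix.isUnit_det_of_right_inverse (B := -A)
    rw [neg_mul_neg, hA1]
  rw [e1, Matrix.rank_transpose, e2, Matrix.rank_mul_eq_right_of_isUnit_det _ _ hu]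

/-- the Levi element `diag(A, A^{-T})`: order and fixed space -/
theorem levi_elt_exact (d : ℕ) (r : ℕ) (hr1 : 1 ≤ r) (Am : Matrix (Fin d) (Fin d) F)
    (hAr : Am ^ r = 1) (i : ℕ)
    (hker : Module.finrank F (LinearMap.ker (Matrix.toLin' (Am - 1))) + i = d) :
    ∃ x ∈ Cfsg.spGL d F,
      ((x ^ r : GL (Fin d ⊕ Fin d) F) : Matrix (Fin d ⊕ Fin d) (Fin d ⊕ Fin d) F) = 1 ∧
      (x : Matrix (Fin d ⊕ Fin d) (Fin d ⊕ Fin d) F) =
        Matrix.fromBlocks Am 0 0 (Am ^ (r - 1))ᵀ ∧
      Module.finrank F (LinearMap.ker (Matrix.toLin'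
        ((x : Matrix (Fin d ⊕ Fin d) (Fin d ⊕ Fin d) F) - 1))) + 2 * i = 2 * d := by
  have hab : Am * Am ^ (r - 1) = 1 := by
    rw [← pow_succ', Nat.sub_add_cancel hr1, hAr]
  have hBr : ((Am ^ (r - 1))ᵀ) ^ r = 1 := by
    rw [← Matrix.transpose_pow, ← pow_mul, mul_comm, pow_mul, hAr, one_pow, Matrix.transpose_one]
  have hmem := Cfsg.Agent.Helper2.SpPairs.levi_mem Am (Am ^ (r - 1)) hab
  refine ⟨Cfsg.Agent.Helper28.SpMax.toGL ⟨_, hmem⟩, Cfsg.Agent.Helper28.SpMax.toGL_mem _, ?_, rfl, ?_⟩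
  · rw [Units.val_pow_eq_pow_val, Cfsg.Agent.Helper28.SpMax.toGL_val]
    show (Matrix.fromBlocks Am 0 0 (Am ^ (r - 1))ᵀ) ^ r = 1
    rw [fromBlocks_pow', hAr, hBr, Matrix.fromBlocks_one]
  · rw [Cfsg.Agent.Helper28.SpMax.toGL_val]
    show Module.finrank F (LinearMap.ker (Matrix.toLin'
      (Matrix.fromBlocks Am 0 0 (Am ^ (r - 1))ᵀ - 1))) + 2 * i = 2 * d
    have e : Matrix.fromBlocks Am 0 0 (Am ^ (r - 1))ᵀ - 1 =
        Matrix.fromBlocks (Am - 1) 0 0 ((Am ^ (r - 1))ᵀ - 1) := by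
      rw [← Matrix.fromBlocks_one, Cfsg.Agent.S5976P.fromBlocks_sub']
      simp
    rw [e, finrank_ker_fromBlocks_add]
    have h1 := finrank_ker_add_rank (Am - 1)
    have h2 := finrank_ker_add_rank ((Am ^ (r - 1))ᵀ - 1)
    rw [rank_dual Am r hr1 hAr] at h2
    rw [Fintype.card_fin] at h1 h2
    omega

end ELTODDX

open ELTODDX in
/-- ELTODDX (uses S5958P.model_single, Helper2 leviHom) -/
theorem exists_elt_odd_exact {F : Type*} [Field F] [Fintype F] {p : ℕ} [Fact p.Prime] [CharP F p]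
    (d : ℕ) (r : ℕ) [Fact r.Prime] (hr2 : r ≠ 2) (hrp : r ≠ p)
    (hid : orderOf ((Fintype.card F : ℕ) : ZMod r) ≤ d) :
    ∃ x ∈ Cfsg.spGL d F,
      ((x ^ r : GL (Fin d ⊕ Fin d) F) : Matrix (Fin d ⊕ Fin d) (Fin d ⊕ Fin d) F) = 1 ∧
      (∀ z : F, (x : Matrix (Fin d ⊕ Fin d) (Fin d ⊕ Fin d) F) ≠
        z • (1 : Matrix (Fin d ⊕ Fin d) (Fin d ⊕ Fin d) F)) ∧
      Module.finrank F (LinearMap.ker (Matrix.toLin'
        ((x : Matrix (Fin d ⊕ Fin d) (Fin d ⊕ Fin d) F) - 1))) +
          2 * orderOf ((Fintype.card F : ℕ) : ZMod r) = 2 * d := by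
  classical
  have hr : r.Prime := Fact.out
  have hrodd : Odd r := hr.eq_two_or_odd'.resolve_left hr2
  have hr1 : 1 ≤ r := hr.one_le
  obtain ⟨i, hi'⟩ : ∃ i : ℕ, i = orderOf ((Fintype.card F : ℕ) : ZMod r) := ⟨_, rfl⟩
  rw [← hi'] at hid ⊢
  have hipos : 0 < i := by
    rw [hi']
    apply orderOf_pos_iff.2
    have hq : ((Fintype.card F : ℕ) : ZMod r) ≠ 0 := by
      intro h0
      rw [ZMod.natCast_eq_zero_iff] at h0
      obtain ⟨f, _, hf⟩ := FiniteField.card F p
      rw [hf] at h0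
      have := (Nat.prime_dvd_prime_iff_eq hr (Fact.out : p.Prime)).1 (hr.dvd_of_dvd_pow h0)
      exact hrp this
    exact isOfFinOrder_iff_pow_eq_one.2 ⟨r - 1, by have := hr.two_le; omega,
      ZMod.pow_card_sub_one_eq_one hq⟩
  suffices h : ∃ Am : Matrix (Fin d) (Fin d) F, Am ^ r = 1 ∧
      Module.finrank F (LinearMap.ker (Matrix.toLin' (Am - 1))) + i = d ∧
      ∀ z : F, Matrix.fromBlocks Am 0 0 (Am ^ (r - 1)).transpose ≠
        z • (1 : Matrix (Fin d ⊕ Fin d) (Fin d ⊕ Fin d) F) by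
    obtain ⟨Am, hAr, hker, hns⟩ := h
    obtain ⟨x, hx, hxr, hxv, hxk⟩ := levi_elt_exact d r hr1 Am hAr i hker
    refine ⟨x, hx, hxr, ?_, hxk⟩
    intro z
    rw [hxv]
    exact hns z
  by_cases hi1 : i = 1
  · -- `r ∣ q - 1`: a diagonal element
    have hd : 0 < d := by omega
    have hq1 : ((Fintype.card F : ℕ) : ZMod r) = 1 := by
      rw [← orderOf_eq_one_iff, ← hi', hi1]
    have hdvd : r ∣ Fintype.card F - 1 := by
      have h1 : 1 ≤ Fintype.card F := Fintype.card_pos
      rw [← ZMod.natCast_eq_zero_iff, Nat.cast_sub h1, hq1, Nat.cast_one, sub_self]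
    have hcardu : Fintype.card Fˣ = Fintype.card F - 1 := Fintype.card_units F
    obtain ⟨αu, hαu⟩ := exists_prime_orderOf_dvd_card r (by rw [hcardu]; exact hdvd)
    set α : F := (αu : F) with hα
    have hαr : α ^ r = 1 := by
      rw [hα, ← Units.val_pow_eq_pow_val, ← hαu, pow_orderOf_eq_one, Units.val_one]
    have hα1 : α ≠ 1 := by
      intro h1
      have : αu = 1 := Units.ext h1
      rw [this, orderOf_one] at hαu
      exact hr.one_lt.ne hαu
    set j0 : Fin d := ⟨0, hd⟩ with hj0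
    set dd : Fin d → F := Function.update (fun _ => (1 : F)) j0 α with hdd
    have hdd0 : dd j0 = α := by rw [hdd, Function.update_self]
    have hddne : ∀ j, j ≠ j0 → dd j = 1 := fun j hj => by rw [hdd, Function.update_of_ne hj]
    refine ⟨Matrix.diagonal dd, ?_, ?_, ?_⟩
    · rw [Matrix.diagonal_pow, ← Matrix.diagonal_one]
      congr 1
      funext j
      by_cases hj : j = j0
      · rw [hj, Pi.pow_apply, hdd0, hαr]
      · rw [Pi.pow_apply, hddne j hj, one_pow]
    · have h1 : Matrix.toLin' (Matrix.diagonal dd - 1) =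
          Matrix.toLin' (Matrix.diagonal dd) - (1 : F) • (1 : Module.End F (Fin d → F)) := by
        rw [map_sub, Matrix.toLin'_one, one_smul]
        rfl
      rw [h1, Cfsg.Agent.S5965P.DIAGDER.finrank_ker_diag, hi1, Nat.card_eq_fintype_card,
        Fintype.card_subtype]
      have h2 : (Finset.univ.filter fun j => dd j = 1) = Finset.univ.erase j0 := by
        ext j
        rw [Finset.mem_filter, Finset.mem_erase]
        constructor
        · rintro ⟨_, hj⟩
          refine ⟨?_, Finset.mem_univ _⟩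
          rintro rfl
          rw [hdd0] at hj
          exact hα1 hj
        · rintro ⟨hj, _⟩
          exact ⟨Finset.mem_univ _, hddne j hj⟩
      rw [h2, Finset.card_erase_of_mem (Finset.mem_univ _), Finset.card_univ, Fintype.card_fin]
      omega
    · intro z hz
      have e1 := congrFun (congrFun hz (Sum.inl j0)) (Sum.inl j0)
      have e2 := congrFun (congrFun hz (Sum.inr j0)) (Sum.inr j0)
      rw [Matrix.fromBlocks_apply₁₁, Matrix.diagonal_apply_eq, hdd0, Matrix.smul_apply,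
        Matrix.one_apply_eq, smul_eq_mul, mul_one] at e1
      rw [Matrix.fromBlocks_apply₂₂, Matrix.transpose_apply, Matrix.diagonal_pow,
        Matrix.diagonal_apply_eq, Pi.pow_apply, hdd0, Matrix.smul_apply, Matrix.one_apply_eq,
        smul_eq_mul, mul_one, ← e1] at e2
      -- `α ^ (r-1) = α`, so `α ^ 2 = 1`, so `α = 1`
      have h2 : α ^ 2 = 1 := by
        have : α ^ r = α ^ 2 := by
          calc α ^ r = α ^ (r - 1) * α := by rw [← pow_succ, Nat.sub_add_cancel hr1]
            _ = α * α := by rw [e2]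
            _ = α ^ 2 := (sq α).symm
        rw [← this, hαr]
      obtain ⟨k, hk⟩ := hrodd
      apply hα1
      have : α ^ r = α := by
        rw [hk, pow_succ, pow_mul, h2, one_pow, one_mul]
      rw [← this, hαr]
  · -- `i ≥ 2`: the single block model
    have hi2 : 2 ≤ orderOf ((Fintype.card F : ℕ) : ZMod r) := by
      rw [← hi']; omega
    obtain ⟨x, g, _, _, _, hxr, hns, hfix, _⟩ :=
      Cfsg.Agent.S5958P.model_single (F := F) r hrp d 1 hi2 le_rfl (by rw [← hi', mul_one]; exact hid)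
    rw [← hi', mul_one] at hfix
    refine ⟨(x : Matrix (Fin d) (Fin d) F), hxr, ?_, ?_⟩
    · have h1 : Matrix.toLin' ((x : Matrix (Fin d) (Fin d) F) - 1) =
          Matrix.toLin' (x : Matrix (Fin d) (Fin d) F) - 1 := by
        rw [map_sub, Matrix.toLin'_one]
        rfl
      rw [h1, hfix]
      omega
    · intro z hz
      rw [← Matrix.fromBlocks_one, Matrix.fromBlocks_smul, Matrix.fromBlocks_inj] at hz
      exact hns z hz.1

end Cfsg.Agent.S5975P
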