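import Mathlib
import Cfsg.Prelude.Def_GeometricClasses
import Cfsg.Prelude.Def_ClassicalGeometry
import Cfsg.Agent.Helper29.S5976Defs
import Cfsg.Agent.Helper2.SpPairs
import Cfsg.Agent.Helper28.SpMax
import Cfsg.Agent.Helper18.S5961NDSUB

set_option autoImplicit false
open scoped MatrixGroups

namespace Cfsg.Agent.S5976P

open Polynomial

namespace SPCONJ1

open Cfsg.Agent.Helper28 Cfsg.Agent.Helper2.SpPairs Matrix

variable {F : Type*} [Field F] {d : ℕ}

/-- the `1`-eigenspace -/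
noncomputable def Vp (X : Md d F) : Submodule F (Vd d F) := LinearMap.ker (Matrix.toLin' (X - 1))

theorem mem_Vp (X : Md d F) (v : Vd d F) : v ∈ Vp X ↔ X *ᵥ v = v := by
  unfold Vp
  rw [LinearMap.mem_ker, Matrix.toLin'_apply, Matrix.sub_mulVec, Matrix.one_mulVec, sub_eq_zero]

theorem mem_Vp_neg (X : Md d F) (v : Vd d F) : v ∈ Vp (-X) ↔ X *ᵥ v = -v := by
  rw [mem_Vp, Matrix.neg_mulVec, neg_eq_iff_eq_neg]

/-- hypotheses: an involution preserving the form -/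
structure Inv (X : Md d F) : Prop where
  sq : X * X = 1
  pres : ∀ u v, Cfsg.sympForm d F (X *ᵥ u) (X *ᵥ v) = Cfsg.sympForm d F u v

theorem Inv.neg {X : Md d F} (h : Inv X) : Inv (-X) where
  sq := by rw [neg_mul_neg, h.sq]
  pres := by
    intro u v
    rw [Matrix.neg_mulVec, Matrix.neg_mulVec, sympForm_neg_left, sympForm_neg_right, neg_neg,
      h.pres]

theorem Inv.apply_apply {X : Md d F} (h : Inv X) (v : Vd d F) : X *ᵥ (X *ᵥ v) = v := by
  rw [Matrix.mulVec_mulVec, h.sq, Matrix.one_mulVec]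

theorem Inv.nondeg (h2 : (2 : F) ≠ 0) {X : Md d F} (h : Inv X) :
    ∀ u ∈ Vp X, (∀ v ∈ Vp X, SympFrame.sB d F u v = 0) → u = 0 := by
  intro u hu huv
  rw [mem_Vp] at hu
  by_contra hu0
  obtain ⟨z, hz⟩ := sympForm_exists_ne_zero hu0
  apply hz
  have hmem : z + X *ᵥ z ∈ Vp X := by
    rw [mem_Vp, Matrix.mulVec_add, h.apply_apply, add_comm]
  have h1 := huv _ hmem
  rw [SympFrame.sB_apply, sympForm_add_right] at h1
  have h3 : Cfsg.sympForm d F u (X *ᵥ z) = Cfsg.sympForm d F u z := by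
    rw [← h.pres u, hu, h.apply_apply]
  rw [h3] at h1
  have : (2 : F) * Cfsg.sympForm d F u z = 0 := by linear_combination h1
  exact (mul_eq_zero.1 this).resolve_left h2

theorem Inv.orth (h2 : (2 : F) ≠ 0) {X : Md d F} (h : Inv X) (u v : Vd d F) (hu : u ∈ Vp X)
    (hv : v ∈ Vp (-X)) : Cfsg.sympForm d F u v = 0 := by
  rw [mem_Vp] at hu
  rw [mem_Vp_neg] at hv
  have h1 := h.pres u v
  rw [hu, hv, sympForm_neg_right] at h1
  have : (2 : F) * Cfsg.sympForm d F u v = 0 := by linear_combination -h1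
  exact (mul_eq_zero.1 this).resolve_left h2

theorem Inv.isCompl (h2 : (2 : F) ≠ 0) {X : Md d F} (h : Inv X) : IsCompl (Vp X) (Vp (-X)) := by
  constructor
  · rw [Submodule.disjoint_def]
    intro v hv hv'
    rw [mem_Vp] at hv
    rw [mem_Vp_neg, hv] at hv'
    have : (2 : F) • v = 0 := by
      rw [two_smul]
      nth_rw 1 [hv']
      rw [neg_add_cancel]
    exact (smul_eq_zero.1 this).resolve_left h2
  · rw [codisjoint_iff, eq_top_iff]
    intro v _
    have hv : v = (2 : F)⁻¹ • (v + X *ᵥ v) + (2 : F)⁻¹ • (v - X *ᵥ v) := by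
      rw [← smul_add, add_add_sub_cancel, ← two_smul F v, smul_smul, inv_mul_cancel₀ h2, one_smul]
    rw [hv]
    apply Submodule.add_mem
    · apply Submodule.mem_sup_left
      apply Submodule.smul_mem
      rw [mem_Vp, Matrix.mulVec_add, h.apply_apply, add_comm]
    · apply Submodule.mem_sup_right
      apply Submodule.smul_mem
      rw [mem_Vp_neg, Matrix.mulVec_sub, h.apply_apply, neg_sub]

theorem Inv.finrank_add (h2 : (2 : F) ≠ 0) {X : Md d F} (h : Inv X) :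
    Module.finrank F (Vp X) + Module.finrank F (Vp (-X)) = 2 * d := by
  rw [Submodule.finrank_add_eq_of_isCompl (h.isCompl h2), finrank_Vd]

theorem Inv.even (h2 : (2 : F) ≠ 0) {X : Md d F} (h : Inv X) :
    Even (Module.finrank F (Vp X)) := by
  refine (Cfsg.Agent.S5961P.exists_nondeg_sub (SympFrame.sB d F) (SympFrame.sB_isAlt d F)
    (Vp X) ?_).1
  intro m hm hm0
  by_contra hcon
  push Not at hcon
  exact hm0 (h.nondeg h2 m hm hcon)

theorem castAdd_ne_natAdd' (k l : ℕ) (i : Fin k) (j : Fin l) :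
    Fin.castAdd l i ≠ Fin.natAdd k j := by
  intro h
  have := congrArg Fin.val h
  rw [Fin.val_castAdd, Fin.val_natAdd] at this
  have := i.2
  omega

/-- gluing two hyperbolic frames of orthogonal subspaces -/
theorem glue {V : Type*} [AddCommGroup V] [Module F V] (B : LinearMap.BilinForm F V) (k l : ℕ)
    (U₁ U₂ : Submodule F V) (ho : ∀ u ∈ U₁, ∀ v ∈ U₂, B u v = 0)
    (ho' : ∀ u ∈ U₂, ∀ v ∈ U₁, B u v = 0)
    (e₁ f₁ : Fin k → V) (e₂ f₂ : Fin l → V)
    (he₁ : ∀ i, e₁ i ∈ U₁) (hf₁ : ∀ i, f₁ i ∈ U₁) (he₂ : ∀ i, e₂ i ∈ U₂) (hf₂ : ∀ i, f₂ i ∈ U₂)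
    (hee₁ : ∀ i j, B (e₁ i) (e₁ j) = 0) (hff₁ : ∀ i j, B (f₁ i) (f₁ j) = 0)
    (hef₁ : ∀ i j, B (e₁ i) (f₁ j) = if i = j then 1 else 0)
    (hee₂ : ∀ i j, B (e₂ i) (e₂ j) = 0) (hff₂ : ∀ i j, B (f₂ i) (f₂ j) = 0)
    (hef₂ : ∀ i j, B (e₂ i) (f₂ j) = if i = j then 1 else 0) :
    (∀ i j, B (Fin.append e₁ e₂ i) (Fin.append e₁ e₂ j) = 0) ∧
    (∀ i j, B (Fin.append f₁ f₂ i) (Fin.append f₁ f₂ j) = 0) ∧
    (∀ i j, B (Fin.append e₁ e₂ i) (Fin.append f₁ f₂ j) = if i = j then 1 else 0) := by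
  refine ⟨?_, ?_, ?_⟩
  · intro i j
    refine Fin.addCases (fun i => ?_) (fun i => ?_) i <;>
      refine Fin.addCases (fun j => ?_) (fun j => ?_) j <;>
      simp only [Fin.append_left, Fin.append_right]
    · exact hee₁ i j
    · exact ho _ (he₁ i) _ (he₂ j)
    · exact ho' _ (he₂ i) _ (he₁ j)
    · exact hee₂ i j
  · intro i j
    refine Fin.addCases (fun i => ?_) (fun i => ?_) i <;>
      refine Fin.addCases (fun j => ?_) (fun j => ?_) j <;>
      simp only [Fin.append_left, Fin.append_right]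
    · exact hff₁ i j
    · exact ho _ (hf₁ i) _ (hf₂ j)
    · exact ho' _ (hf₂ i) _ (hf₁ j)
    · exact hff₂ i j
  · intro i j
    refine Fin.addCases (fun i => ?_) (fun i => ?_) i <;>
      refine Fin.addCases (fun j => ?_) (fun j => ?_) j <;>
      simp only [Fin.append_left, Fin.append_right]
    · rw [hef₁]; simp only [Fin.castAdd_inj]
    · rw [if_neg (castAdd_ne_natAdd' k l i j)]
      exact ho _ (he₁ i) _ (hf₂ j)
    · rw [if_neg (castAdd_ne_natAdd' k l j i).symm]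
      exact ho' _ (he₂ i) _ (hf₁ j)
    · rw [hef₂]; simp only [Fin.natAdd_inj]

/-- the signs of the standard form -/
def eps (F : Type*) [Field F] (k l : ℕ) : Fin (k + l) ⊕ Fin (k + l) → F :=
  Sum.elim (Fin.append (fun _ => 1) (fun _ => -1)) (Fin.append (fun _ => 1) (fun _ => -1))

/-- key lemma: an involution in `Sp` is `Sp`-conjugate to the standard diagonal involution -/
theorem exists_diag (h2 : (2 : F) ≠ 0) (k l : ℕ) (X : GL (Fin (k + l) ⊕ Fin (k + l)) F)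
    (hX : Inv (X : Md (k + l) F)) (hk : Module.finrank F (Vp (X : Md (k + l) F)) = 2 * k) :
    ∃ g : GL (Fin (k + l) ⊕ Fin (k + l)) F, g ∈ Cfsg.spGL (k + l) F ∧
      ((g⁻¹ * X * g : GL (Fin (k + l) ⊕ Fin (k + l)) F) : Md (k + l) F) =
        Matrix.diagonal (eps F k l) := by
  have hl : Module.finrank F (Vp (-(X : Md (k + l) F))) = 2 * l := by
    have := hX.finrank_add h2
    omega
  have hA := SympFrame.sB_isAlt (k + l) F
  obtain ⟨e₁, f₁, he₁, hf₁, hee₁, hff₁, hef₁⟩ :=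
    SympFrame.exists_alt_frame (SympFrame.sB (k + l) F) hA k _ hk (hX.nondeg h2)
  obtain ⟨e₂, f₂, he₂, hf₂, hee₂, hff₂, hef₂⟩ :=
    SympFrame.exists_alt_frame (SympFrame.sB (k + l) F) hA l _ hl (hX.neg.nondeg h2)
  obtain ⟨hee, hff, hef⟩ := glue (SympFrame.sB (k + l) F) k l _ _
    (fun u hu v hv => hX.orth h2 u v hu hv)
    (fun u hu v hv => by
      rw [SympFrame.sB_apply, sympForm_swap, hX.orth h2 v u hv hu, neg_zero])
    e₁ f₁ e₂ f₂ he₁ hf₁ he₂ hf₂ hee₁ hff₁ hef₁ hee₂ hff₂ hef₂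
  set e := Fin.append e₁ e₂ with he
  set f := Fin.append f₁ f₂ with hf
  have hfe : ∀ i j, Cfsg.sympForm (k + l) F (f i) (e j) = -(if i = j then (1 : F) else 0) := by
    intro i j
    rw [sympForm_swap, ← SympFrame.sB_apply, hef j i]
    simp only [eq_comm]
  set c : Fin (k + l) ⊕ Fin (k + l) → Vd (k + l) F := Sum.elim f e with hc
  have hGram : ∀ s t, Cfsg.sympForm (k + l) F (c s) (c t) = J (Fin (k + l)) F s t := by
    rintro (a | a) (a' | a')
    · simpa [Matrix.J, SympFrame.sB_apply, hc] using hff a a'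
    · simp only [hc, Sum.elim_inl, Sum.elim_inr, hfe, Matrix.J, Matrix.fromBlocks_apply₁₂,
        Matrix.neg_apply, Matrix.one_apply]
    · simp only [hc, Sum.elim_inl, Sum.elim_inr, Matrix.J, Matrix.fromBlocks_apply₂₁,
        Matrix.one_apply]
      exact hef a a'
    · simpa [Matrix.J, SympFrame.sB_apply, hc] using hee a a'
  have hAmem := ofCols_mem c hGram
  -- the action on the columns
  have hXc : ∀ s, (X : Md (k + l) F) *ᵥ c s = eps F k l s • c s := by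
    rintro (a | a)
    · refine Fin.addCases (fun i => ?_) (fun i => ?_) a
      · simp only [hc, hf, eps, Sum.elim_inl, Fin.append_left, one_smul]
        exact (mem_Vp _ _).1 (hf₁ i)
      · simp only [hc, hf, eps, Sum.elim_inl, Fin.append_right, neg_smul, one_smul]
        exact (mem_Vp_neg _ _).1 (hf₂ i)
    · refine Fin.addCases (fun i => ?_) (fun i => ?_) a
      · simp only [hc, he, eps, Sum.elim_inr, Fin.append_left, one_smul]
        exact (mem_Vp _ _).1 (he₁ i)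
      · simp only [hc, he, eps, Sum.elim_inr, Fin.append_right, neg_smul, one_smul]
        exact (mem_Vp_neg _ _).1 (he₂ i)
  have hmat : (X : Md (k + l) F) * ofCols c = ofCols c * Matrix.diagonal (eps F k l) := by
    ext i j
    rw [Matrix.mul_diagonal]
    have h1 : ((X : Md (k + l) F) * ofCols c) i j = ((X : Md (k + l) F) *ᵥ c j) i := by
      simp only [Matrix.mul_apply, Matrix.mulVec, dotProduct, ofCols, Matrix.of_apply]
    rw [h1, hXc]
    simp only [ofCols, Matrix.of_apply, Pi.smul_apply, smul_eq_mul, mul_comm]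
  refine ⟨SpMax.toGL ⟨ofCols c, hAmem⟩, SpMax.toGL_mem _, ?_⟩
  have hval : ((SpMax.toGL ⟨ofCols c, hAmem⟩ : GL (Fin (k + l) ⊕ Fin (k + l)) F) : Md (k + l) F) =
      ofCols c := rfl
  have hinv : (((SpMax.toGL ⟨ofCols c, hAmem⟩)⁻¹ : GL (Fin (k + l) ⊕ Fin (k + l)) F) :
      Md (k + l) F) * ofCols c = 1 := by
    have h1 : (((SpMax.toGL ⟨ofCols c, hAmem⟩)⁻¹ : GL (Fin (k + l) ⊕ Fin (k + l)) F) :
      Md (k + l) F) * ((SpMax.toGL ⟨ofCols c, hAmem⟩ : GL (Fin (k + l) ⊕ Fin (k + l)) F) :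
        Md (k + l) F) = 1 := by
      rw [← Units.val_mul, inv_mul_cancel, Units.val_one]
    rw [hval] at h1
    exact h1
  rw [Units.val_mul, Units.val_mul, hval, Matrix.mul_assoc, hmat, ← Matrix.mul_assoc, hinv,
    Matrix.one_mul]

end SPCONJ1

/-- SPCONJ1 -/
theorem conj_of_sq_eq_one {F : Type*} [Field F] (h2 : (2 : F) ≠ 0) (d : ℕ)
    (x y : GL (Fin d ⊕ Fin d) F) (hx : x ∈ Cfsg.spGL d F) (hy : y ∈ Cfsg.spGL d F)
    (hx2 : (x : Matrix (Fin d ⊕ Fin d) (Fin d ⊕ Fin d) F) *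
      (x : Matrix (Fin d ⊕ Fin d) (Fin d ⊕ Fin d) F) = 1)
    (hy2 : (y : Matrix (Fin d ⊕ Fin d) (Fin d ⊕ Fin d) F) *
      (y : Matrix (Fin d ⊕ Fin d) (Fin d ⊕ Fin d) F) = 1)
    (hdim : Module.finrank F (LinearMap.ker (Matrix.toLin'
        ((x : Matrix (Fin d ⊕ Fin d) (Fin d ⊕ Fin d) F) - 1))) =
      Module.finrank F (LinearMap.ker (Matrix.toLin'
        ((y : Matrix (Fin d ⊕ Fin d) (Fin d ⊕ Fin d) F) - 1)))) :
    ∃ g : GL (Fin d ⊕ Fin d) F, g ∈ Cfsg.spGL d F ∧ g⁻¹ * x * g = y := by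
  have hX : SPCONJ1.Inv (x : Matrix (Fin d ⊕ Fin d) (Fin d ⊕ Fin d) F) := ⟨hx2, fun u v => hx u v⟩
  have hY : SPCONJ1.Inv (y : Matrix (Fin d ⊕ Fin d) (Fin d ⊕ Fin d) F) := ⟨hy2, fun u v => hy u v⟩
  obtain ⟨k, hk⟩ := hX.even h2
  have hk' : Module.finrank F (SPCONJ1.Vp (x : Matrix (Fin d ⊕ Fin d) (Fin d ⊕ Fin d) F)) =
      2 * k := by rw [hk]; ring
  have hky : Module.finrank F (SPCONJ1.Vp (y : Matrix (Fin d ⊕ Fin d) (Fin d ⊕ Fin d) F)) =
      2 * k := by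
    rw [← hk']; exact hdim.symm
  have hkd : k ≤ d := by
    have := hX.finrank_add h2
    omega
  obtain ⟨l, rfl⟩ := Nat.exists_eq_add_of_le hkd
  obtain ⟨gx, hgx, hgx'⟩ := SPCONJ1.exists_diag h2 k l x hX hk'
  obtain ⟨gy, hgy, hgy'⟩ := SPCONJ1.exists_diag h2 k l y hY hky
  refine ⟨gx * gy⁻¹, Subgroup.mul_mem _ hgx (Subgroup.inv_mem _ hgy), ?_⟩
  have heq : gx⁻¹ * x * gx = gy⁻¹ * y * gy := Units.ext (by rw [hgx', hgy'])
  calc (gx * gy⁻¹)⁻¹ * x * (gx * gy⁻¹) = gy * (gx⁻¹ * x * gx) * gy⁻¹ := by group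
    _ = gy * (gy⁻¹ * y * gy) * gy⁻¹ := by rw [heq]
    _ = y := by group

end Cfsg.Agent.S5976P
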