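import Mathlib

/-!
Numeric part for S2506: the maximal order `fA n` of an abelian subgroup of `A_n`
and the corresponding orbit-size multiset `sA n`.
-/

namespace Cfsg.Agent.Helper28.AbAlt

/-- maximal order of an abelian subgroup of `A_n`. -/
def fA : ℕ → ℕ
  | 0 => 1 | 1 => 1 | 2 => 1 | 3 => 3 | 4 => 4 | 5 => 5 | 6 => 9 | 7 => 12 | 8 => 16
  | (n+9) => 3 * fA (n+6)

/-- the orbit sizes of a maximal abelian subgroup of `A_n`. -/
def sA : ℕ → Multiset ℕ
  | 0 => {} | 1 => {1} | 2 => {1,1} | 3 => {3} | 4 => {4} | 5 => {5}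
  | 6 => {3,3} | 7 => {3,4} | 8 => {4,4}
  | (n+9) => 3 ::ₘ sA (n+6)

theorem fA_add9 (n : ℕ) : fA (n+9) = 3 * fA (n+6) := rfl

theorem sA_add9 (n : ℕ) : sA (n+9) = 3 ::ₘ sA (n+6) := rfl

theorem ind9 {P : ℕ → Prop} (h0 : ∀ n < 9, P n) (hs : ∀ n, P (n+6) → P (n+9)) : ∀ n, P n := by
  intro n
  induction n using Nat.strong_induction_on with
  | _ n ih =>
    by_cases hn : n < 9
    · exact h0 n hn
    · obtain ⟨k, rfl⟩ : ∃ k, n = k + 9 := ⟨n - 9, by omega⟩
      exact hs k (ih _ (by omega))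

theorem fA_pos : ∀ n, 0 < fA n := by
  apply ind9
  · intro n hn
    interval_cases n <;> simp [fA]
  · intro n ih
    rw [fA_add9]; omega

theorem fA_supermul : ∀ a b, fA a * fA b ≤ fA (a + b) := by
  have base : ∀ a < 9, ∀ b, fA a * fA b ≤ fA (a + b) := by
    intro a ha
    apply ind9
    · intro b hb
      interval_cases a <;> interval_cases b <;> decide
    · intro b ih
      have e : a + (b + 9) = (a + b) + 9 := by ring
      have e' : a + (b + 6) = (a + b) + 6 := by ring
      rw [e, fA_add9, fA_add9, ← e']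
      calc fA a * (3 * fA (b+6)) = 3 * (fA a * fA (b+6)) := by ring
        _ ≤ 3 * fA (a + (b+6)) := by gcongr
  apply ind9 (P := fun a => ∀ b, fA a * fA b ≤ fA (a + b))
  · exact base
  · intro a ih b
    have e : a + 9 + b = (a + b) + 9 := by ring
    have e' : a + 6 + b = (a + b) + 6 := by ring
    rw [e, fA_add9, fA_add9, ← e']
    calc 3 * fA (a+6) * fA b = 3 * (fA (a+6) * fA b) := by ring
      _ ≤ 3 * fA (a + 6 + b) := by gcongr; exact ih b

theorem le_fA : ∀ m, m ≠ 2 → m ≤ fA m := by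
  apply ind9
  · intro m hm h2
    interval_cases m <;> simp_all [fA]
  · intro m ih _
    rw [fA_add9]
    have := ih (by omega)
    omega

theorem lt_fA : ∀ m, 6 ≤ m → m < fA m := by
  apply ind9
  · intro m hm h6
    interval_cases m <;> simp [fA]
  · intro m ih _
    rw [fA_add9]
    have := ih (by omega)
    omega

theorem sA_cons_of_le (m : ℕ) (hm : m = 1 ∨ m = 3 ∨ m = 4 ∨ m = 5) :
    ∀ s, fA (m + s) ≤ m * fA s → sA (m + s) = m ::ₘ sA s := by
  apply ind9
  · intro s hs h
    rcases hm with rfl | rfl | rfl | rfl <;> interval_cases s <;> revert h <;> decide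
  · intro s ih h
    have e : m + (s + 9) = (m + s) + 9 := by ring
    have e' : m + (s + 6) = (m + s) + 6 := by ring
    rw [e, fA_add9, fA_add9, ← e'] at h
    have h' : fA (m + (s + 6)) ≤ m * fA (s + 6) := by nlinarith
    rw [e, sA_add9, sA_add9, ← e', ih h', Multiset.cons_swap]

theorem three_pow_lt : ∀ n, 3 ≤ n → 3 ^ n < 8 * fA n ^ 3 := by
  apply ind9
  · intro n hn h3
    interval_cases n <;> simp [fA]
  · intro n ih _
    have := ih (by omega)
    rw [fA_add9]
    have e : 3 ^ (n + 9) = 27 * 3 ^ (n + 6) := by ring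
    rw [e]
    nlinarith

theorem sA_parts : ∀ n, ∀ m ∈ sA n, m = 1 ∨ m = 3 ∨ m = 4 ∨ (m = 5 ∧ n = 5) := by
  apply ind9
  · intro n hn
    interval_cases n <;> decide
  · intro n ih m hm
    rw [sA_add9, Multiset.mem_cons] at hm
    rcases hm with rfl | hm
    · right; left; rfl
    · rcases ih m hm with h | h | h | ⟨_, h⟩
      · exact Or.inl h
      · exact Or.inr (Or.inl h)
      · exact Or.inr (Or.inr (Or.inl h))
      · omega

theorem sA_exists_big : ∀ n, 3 ≤ n → ∃ m ∈ sA n, 3 ≤ m := by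
  apply ind9
  · intro n hn h3
    interval_cases n <;> simp [sA]
  · intro n _ _
    exact ⟨3, by rw [sA_add9]; exact Multiset.mem_cons_self _ _, le_refl _⟩

theorem sA_no_one : ∀ n, 3 ≤ n → ∀ m ∈ sA n, m ≠ 1 := by
  apply ind9
  · intro n hn h3
    interval_cases n <;> decide
  · intro n ih _ m hm
    rw [sA_add9, Multiset.mem_cons] at hm
    rcases hm with rfl | hm
    · omega
    · exact ih (by omega) m hm

/-- the numeric optimisation: partitions without parts `≡ 2 mod 4`. -/
theorem prod_le_fA (μ : Multiset ℕ) (h : ∀ m ∈ μ, 1 ≤ m ∧ m % 4 ≠ 2) :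
    μ.prod ≤ fA μ.sum ∧ (fA μ.sum ≤ μ.prod → μ = sA μ.sum) := by
  induction μ using Multiset.induction_on with
  | empty => simp [fA, sA]
  | cons m μ ih =>
    have hm := h m (Multiset.mem_cons_self _ _)
    obtain ⟨ih1, ih2⟩ := ih (fun k hk => h k (Multiset.mem_cons_of_mem hk))
    rw [Multiset.prod_cons, Multiset.sum_cons]
    have hm2 : m ≠ 2 := by intro h2; rw [h2] at hm; omega
    have h1 : m * μ.prod ≤ m * fA μ.sum := Nat.mul_le_mul_left _ ih1
    have h2 : m * fA μ.sum ≤ fA m * fA μ.sum := Nat.mul_le_mul_right _ (le_fA m hm2)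
    have h3 := fA_supermul m μ.sum
    refine ⟨by omega, fun heq => ?_⟩
    have hP : fA μ.sum ≤ μ.prod := by
      by_contra hlt
      push Not at hlt
      have : m * μ.prod < m * fA μ.sum := Nat.mul_lt_mul_of_pos_left hlt (by omega)
      omega
    have hμ := ih2 hP
    have hm5 : m < 6 := by
      by_contra h6
      push Not at h6
      have := lt_fA m h6
      have : m * fA μ.sum < fA m * fA μ.sum := Nat.mul_lt_mul_of_pos_right this (fA_pos _)
      omega
    have hm' : m = 1 ∨ m = 3 ∨ m = 4 ∨ m = 5 := by omega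
    rw [sA_cons_of_le m hm' μ.sum (by omega), ← hμ]

end Cfsg.Agent.Helper28.AbAlt
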