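import Mathlib

/-!
Orbit structure of abelian permutation groups (for S2506).
-/

set_option linter.unusedSectionVars false

namespace Cfsg.Agent.Helper28.AbAlt

open Equiv Equiv.Perm
open scoped Classical

variable {Ω : Type*} [Fintype Ω] [DecidableEq Ω]

omit [Fintype Ω] [DecidableEq Ω] in
theorem app_inv (h : Perm Ω) (x : Ω) : h (h⁻¹ x) = x := by
  rw [← Perm.mul_apply, mul_inv_cancel]; rfl

omit [Fintype Ω] [DecidableEq Ω] in
theorem inv_app (h : Perm Ω) (x : Ω) : h⁻¹ (h x) = x := by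
  rw [← Perm.mul_apply, inv_mul_cancel]; rfl

/-- orbit relation of a subgroup of `Perm Ω` -/
def orel (H : Subgroup (Perm Ω)) : Setoid Ω where
  r x y := ∃ h ∈ H, h x = y
  iseqv := ⟨fun x => ⟨1, H.one_mem, rfl⟩,
    fun ⟨h, hh, e⟩ => ⟨h⁻¹, H.inv_mem hh, by rw [← e]; simp⟩,
    fun ⟨h, hh, e⟩ ⟨k, hk, e'⟩ => ⟨k * h, H.mul_mem hk hh, by rw [← e', ← e]; rfl⟩⟩

/-- the type of orbits -/
abbrev OQ (H : Subgroup (Perm Ω)) := Quotient (orel H)

/-- class of a point -/
def cmk (H : Subgroup (Perm Ω)) (x : Ω) : OQ H := Quotient.mk (orel H) x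

theorem cmk_eq_iff (H : Subgroup (Perm Ω)) (x y : Ω) :
    cmk H x = cmk H y ↔ ∃ h ∈ H, h x = y := by
  unfold cmk
  rw [Quotient.eq]
  rfl

theorem cmk_apply (H : Subgroup (Perm Ω)) {h : Perm Ω} (hh : h ∈ H) (x : Ω) :
    cmk H (h x) = cmk H x := by
  rw [cmk_eq_iff]
  exact ⟨h⁻¹, H.inv_mem hh, by simp⟩

theorem cmk_out (H : Subgroup (Perm Ω)) (ω : OQ H) : cmk H ω.out = ω := Quotient.out_eq ω

noncomputable instance (H : Subgroup (Perm Ω)) : Fintype (OQ H) := Fintype.ofFinite _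

/-- the size of an orbit -/
noncomputable def sz (H : Subgroup (Perm Ω)) (ω : OQ H) : ℕ := Fintype.card {x // cmk H x = ω}

theorem sum_sz (H : Subgroup (Perm Ω)) : ∑ ω, sz H ω = Fintype.card Ω := by
  unfold sz
  rw [← Fintype.card_sigma]
  exact Fintype.card_congr (Equiv.sigmaFiberEquiv (cmk H))

theorem sz_pos (H : Subgroup (Perm Ω)) (ω : OQ H) : 1 ≤ sz H ω := by
  unfold sz
  exact Fintype.card_pos_iff.mpr ⟨⟨ω.out, cmk_out H ω⟩⟩

/-- abelian subgroup -/
def IsAb (H : Subgroup (Perm Ω)) : Prop := ∀ a ∈ H, ∀ b ∈ H, a * b = b * a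

theorem IsAb.le_centralizer {H : Subgroup (Perm Ω)} (hH : IsAb H) :
    H ≤ Subgroup.centralizer (H : Set (Perm Ω)) := by
  intro a ha
  rw [Subgroup.mem_centralizer_iff]
  intro b hb
  exact hH b hb a ha

theorem fix_of_fix {H : Subgroup (Perm Ω)} {g : Perm Ω}
    (hg : g ∈ Subgroup.centralizer (H : Set (Perm Ω))) {x y : Ω} (hx : g x = x)
    (hxy : cmk H x = cmk H y) : g y = y := by
  obtain ⟨h, hh, rfl⟩ := (cmk_eq_iff H x y).mp hxy
  rw [Subgroup.mem_centralizer_iff] at hg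
  have := hg h hh
  calc g (h x) = (g * h) x := rfl
    _ = (h * g) x := by rw [this]
    _ = h (g x) := rfl
    _ = h x := by rw [hx]

theorem eq_one_of_fix_reps {H : Subgroup (Perm Ω)} {g : Perm Ω}
    (hg : g ∈ Subgroup.centralizer (H : Set (Perm Ω))) (h : ∀ ω : OQ H, g ω.out = ω.out) :
    g = 1 := by
  ext y
  exact fix_of_fix hg (h (cmk H y)) (cmk_out H _)

theorem inj_core {H : Subgroup (Perm Ω)} {g g' : Perm Ω}
    (hc : g⁻¹ * g' ∈ Subgroup.centralizer (H : Set (Perm Ω)))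
    (h : ∀ ω : OQ H, g ω.out = g' ω.out) : g = g' := by
  have := eq_one_of_fix_reps hc (fun ω => by
    show g⁻¹ (g' ω.out) = ω.out
    rw [← h ω]; simp)
  rw [inv_mul_eq_one] at this
  exact this

/-- the evaluation map at representatives -/
noncomputable def evalReps (H : Subgroup (Perm Ω)) (g : Perm Ω)
    (hg : ∀ x, cmk H (g x) = cmk H x) : ∀ ω : OQ H, {x // cmk H x = ω} :=
  fun ω => ⟨g ω.out, by rw [hg, cmk_out]⟩

theorem card_le_prod {H : Subgroup (Perm Ω)} (hH : IsAb H) :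
    Fintype.card H ≤ ∏ ω, sz H ω := by
  unfold sz
  rw [← Fintype.card_pi]
  refine Fintype.card_le_of_injective
    (fun h : H => evalReps H h.1 (fun x => cmk_apply H h.2 x)) ?_
  intro h h' e
  apply Subtype.ext
  apply inj_core (H := H)
  · exact Subgroup.mul_mem _ (Subgroup.inv_mem _ (hH.le_centralizer h.2)) (hH.le_centralizer h'.2)
  · intro ω
    have := congrFun e ω
    exact congrArg Subtype.val this

theorem full_surj {H : Subgroup (Perm Ω)} (hH : IsAb H)
    (hfull : ∏ ω, sz H ω ≤ Fintype.card H) (f : ∀ ω : OQ H, {x // cmk H x = ω}) :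
    ∃ h ∈ H, ∀ ω : OQ H, h ω.out = f ω := by
  have hinj : Function.Injective
      (fun h : H => evalReps H h.1 (fun x => cmk_apply H h.2 x)) := by
    intro h h' e
    apply Subtype.ext
    apply inj_core (H := H)
    · exact Subgroup.mul_mem _ (Subgroup.inv_mem _ (hH.le_centralizer h.2))
        (hH.le_centralizer h'.2)
    · intro ω
      have := congrFun e ω
      exact congrArg Subtype.val this
  have hbij := (Fintype.bijective_iff_injective_and_card _).mpr ⟨hinj, by
    apply le_antisymm (Fintype.card_le_of_injective _ hinj)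
    rw [Fintype.card_pi]
    exact hfull⟩
  obtain ⟨h, hh⟩ := hbij.2 f
  exact ⟨h.1, h.2, fun ω => congrArg Subtype.val (congrFun hh ω)⟩

/-- restriction of a class-preserving permutation to one class -/
noncomputable def rs (H : Subgroup (Perm Ω)) (g : Perm Ω) (hg : ∀ x, cmk H (g x) = cmk H x)
    (ω : OQ H) : Perm Ω :=
  ofSubtype (subtypePerm g (p := fun x => cmk H x = ω) (fun x => by rw [hg]))

theorem rs_apply_mem (H : Subgroup (Perm Ω)) (g : Perm Ω) (hg : ∀ x, cmk H (g x) = cmk H x)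
    (ω : OQ H) {x : Ω} (hx : cmk H x = ω) : rs H g hg ω x = g x := by
  unfold rs
  exact (ofSubtype_apply_of_mem (p := fun x => cmk H x = ω) _ hx).trans rfl

theorem rs_apply_not_mem (H : Subgroup (Perm Ω)) (g : Perm Ω)
    (hg : ∀ x, cmk H (g x) = cmk H x)
    (ω : OQ H) {x : Ω} (hx : cmk H x ≠ ω) : rs H g hg ω x = x := by
  unfold rs
  exact ofSubtype_apply_of_not_mem (p := fun x => cmk H x = ω) _ hx

theorem sign_rs (H : Subgroup (Perm Ω)) (g : Perm Ω) (hg : ∀ x, cmk H (g x) = cmk H x)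
    (ω : OQ H) :
    sign (rs H g hg ω) =
      sign (subtypePerm g (p := fun x => cmk H x = ω) (fun x => by rw [hg])) := by
  unfold rs
  exact sign_ofSubtype _

theorem rs_mem_of_full {H : Subgroup (Perm Ω)} (hH : IsAb H)
    (hfull : ∏ ω, sz H ω ≤ Fintype.card H) {h : Perm Ω} (hh : h ∈ H) (ω : OQ H) :
    rs H h (fun x => cmk_apply H hh x) ω ∈ H := by
  obtain ⟨k, hk, hk'⟩ := full_surj hH hfull
    (fun ω' => if e : ω' = ω then ⟨h ω'.out, by rw [cmk_apply H hh, cmk_out]⟩
      else ⟨ω'.out, cmk_out H ω'⟩)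
  have : rs H h (fun x => cmk_apply H hh x) ω = k := by
    ext x
    by_cases hx : cmk H x = ω
    · rw [rs_apply_mem _ _ _ _ hx]
      have h1 := hk' ω
      simp only [dif_pos] at h1
      -- `h⁻¹ * k` fixes `ω.out`
      have h2 : (h⁻¹ * k) ω.out = ω.out := by
        show h⁻¹ (k ω.out) = ω.out
        rw [h1]; simp
      have h3 := fix_of_fix (H := H) (Subgroup.mul_mem _ (Subgroup.inv_mem _
        (hH.le_centralizer hh)) (hH.le_centralizer hk)) h2 ((cmk_out H ω).trans hx.symm)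
      have h4 : h⁻¹ (k x) = x := h3
      have h5 := congrArg h h4
      rw [app_inv] at h5
      exact h5.symm
    · rw [rs_apply_not_mem _ _ _ _ hx]
      have h1 := hk' (cmk H x)
      simp only [dif_neg hx] at h1
      exact (fix_of_fix (hH.le_centralizer hk) h1 (cmk_out H _)).symm
  rw [this]; exact hk

/-- local-global principle for full abelian groups -/
theorem mem_of_local {H : Subgroup (Perm Ω)} (hH : IsAb H)
    (hfull : ∏ ω, sz H ω ≤ Fintype.card H) (g : Perm Ω)
    (hg : ∀ ω : OQ H, ∃ b ∈ H, ∀ x, cmk H x = ω → g x = b x) : g ∈ H := by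
  have hgc : ∀ x, cmk H (g x) = cmk H x := by
    intro x
    obtain ⟨b, hb, hb'⟩ := hg (cmk H x)
    rw [hb' x rfl, cmk_apply H hb]
  obtain ⟨k, hk, hk'⟩ := full_surj hH hfull (evalReps H g hgc)
  have : g = k := by
    ext x
    obtain ⟨b, hb, hb'⟩ := hg (cmk H x)
    rw [hb' x rfl]
    have h1 : k (cmk H x).out = b (cmk H x).out := by
      rw [hk', ← hb' _ (cmk_out H _)]; rfl
    have h2 : (b⁻¹ * k) (cmk H x).out = (cmk H x).out := by
      show b⁻¹ (k _) = _
      rw [h1]; simp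
    have h3 := fix_of_fix (H := H) (Subgroup.mul_mem _ (Subgroup.inv_mem _
        (hH.le_centralizer hb)) (hH.le_centralizer hk)) h2 (cmk_out H _)
    have h4 : b⁻¹ (k x) = x := h3
    have h5 := congrArg b h4
    rw [app_inv] at h5
    exact h5.symm
  rw [this]; exact hk

end Cfsg.Agent.Helper28.AbAlt
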