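import Mathlib
import Cfsg.Agent.Helper28.AbAlt1
import Cfsg.Agent.Helper28.AbAlt2

/-!
Parity arguments and the main bound for abelian subgroups of alternating groups (for S2506).
-/

set_option linter.unusedSectionVars false

namespace Cfsg.Agent.Helper28.AbAlt

open Equiv Equiv.Perm
open scoped Classical

variable {Ω : Type*} [Fintype Ω] [DecidableEq Ω]

theorem exists_half {H : Subgroup (Perm Ω)} (hH : IsAb H) (ω₀ : OQ H) (hev : 2 ∣ sz H ω₀) :
    ∃ h₀ ∈ H, h₀ ω₀.out ≠ ω₀.out ∧ h₀ (h₀ ω₀.out) = ω₀.out := by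
  set x₀ := ω₀.out with hx₀
  let K : Subgroup H := MulAction.stabilizer H x₀
  have hidx : K.index = sz H ω₀ := by
    rw [MulAction.index_stabilizer, ← Nat.card_coe_set_eq, Nat.card_eq_fintype_card]
    unfold sz
    apply Fintype.card_congr
    apply Equiv.subtypeEquivRight
    intro y
    rw [MulAction.mem_orbit_iff, ← cmk_out H ω₀, eq_comm, cmk_eq_iff]
    constructor
    · rintro ⟨h, rfl⟩
      exact ⟨h.1, h.2, rfl⟩
    · rintro ⟨h, hh, rfl⟩
      exact ⟨⟨h, hh⟩, rfl⟩
  haveI : K.Normal := ⟨fun n hn g => by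
    have : g * n * g⁻¹ = n := by
      apply Subtype.ext
      show g.1 * n.1 * g.1⁻¹ = n.1
      rw [hH g.1 g.2 n.1 n.2, mul_assoc, mul_inv_cancel, mul_one]
    rw [this]; exact hn⟩
  have hcard : 2 ∣ Nat.card (H ⧸ K) := by
    rw [← Subgroup.index_eq_card, hidx]; exact hev
  haveI : Fact (Nat.Prime 2) := ⟨Nat.prime_two⟩
  obtain ⟨q, hq⟩ := exists_prime_orderOf_dvd_card' (G := H ⧸ K) 2 hcard
  obtain ⟨h₀, rfl⟩ := QuotientGroup.mk_surjective q
  refine ⟨h₀.1, h₀.2, ?_, ?_⟩
  · intro hfix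
    have : h₀ ∈ K := by
      rw [MulAction.mem_stabilizer_iff]; exact hfix
    have h1 : (QuotientGroup.mk h₀ : H ⧸ K) = 1 := (QuotientGroup.eq_one_iff _).mpr this
    rw [h1, orderOf_one] at hq
    omega
  · have h2 : (QuotientGroup.mk h₀ : H ⧸ K) ^ 2 = 1 := by
      rw [← hq]; exact pow_orderOf_eq_one _
    rw [← QuotientGroup.mk_pow, QuotientGroup.eq_one_iff, MulAction.mem_stabilizer_iff] at h2
    rw [pow_two] at h2
    exact h2

theorem rs_mem_centralizer {H : Subgroup (Perm Ω)} (hH : IsAb H) {h₀ : Perm Ω} (h₀H : h₀ ∈ H)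
    (ω₀ : OQ H) :
    rs H h₀ (fun x => cmk_apply H h₀H x) ω₀ ∈ Subgroup.centralizer (H : Set (Perm Ω)) := by
  rw [Subgroup.mem_centralizer_iff]
  intro h hh
  ext x
  show h (rs H h₀ (fun x => cmk_apply H h₀H x) ω₀ x) =
    rs H h₀ (fun x => cmk_apply H h₀H x) ω₀ (h x)
  by_cases hx : cmk H x = ω₀
  · rw [rs_apply_mem _ _ _ _ hx, rs_apply_mem _ _ _ _ ((cmk_apply H hh x).trans hx)]
    have := hH h hh h₀ h₀H
    calc h (h₀ x) = (h * h₀) x := rfl
      _ = (h₀ * h) x := by rw [this]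
      _ = h₀ (h x) := rfl
  · rw [rs_apply_not_mem _ _ _ _ hx,
      rs_apply_not_mem _ _ _ _ (fun e => hx ((cmk_apply H hh x).symm.trans e))]

theorem cmk_rs {H : Subgroup (Perm Ω)} {h₀ : Perm Ω} (h₀H : h₀ ∈ H)
    (ω₀ : OQ H) (x : Ω) :
    cmk H (rs H h₀ (fun x => cmk_apply H h₀H x) ω₀ x) = cmk H x := by
  by_cases hx : cmk H x = ω₀
  · rw [rs_apply_mem _ _ _ _ hx, cmk_apply H h₀H]
  · rw [rs_apply_not_mem _ _ _ _ hx]

theorem two_mul_card_le {H : Subgroup (Perm Ω)} (hH : IsAb H) (halt : ∀ h ∈ H, sign h = 1)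
    (ω₀ : OQ H) (hω : sz H ω₀ % 4 = 2) : 2 * Fintype.card H ≤ ∏ ω, sz H ω := by
  obtain ⟨h₀, h₀H, hne, hsq⟩ := exists_half hH ω₀ (by omega)
  set τ := rs H h₀ (fun x => cmk_apply H h₀H x) ω₀ with hτ
  have hτc : τ ∈ Subgroup.centralizer (H : Set (Perm Ω)) := rs_mem_centralizer hH h₀H ω₀
  have hτp : ∀ x, cmk H (τ x) = cmk H x := cmk_rs h₀H ω₀
  have hsq' : ∀ x, cmk H x = ω₀ → h₀ (h₀ x) = x := by
    intro x hx
    have : (h₀ * h₀) x = x := fix_of_fix (H := H)
      (Subgroup.mul_mem _ (hH.le_centralizer h₀H) (hH.le_centralizer h₀H)) hsq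
      ((cmk_out H ω₀).trans hx.symm)
    exact this
  have hne' : ∀ x, cmk H x = ω₀ → h₀ x ≠ x := by
    intro x hx hfix
    exact hne (fix_of_fix (hH.le_centralizer h₀H) hfix (hx.trans (cmk_out H ω₀).symm))
  have hsign : sign τ = -1 := by
    rw [hτ, sign_rs]
    set t := subtypePerm h₀ (p := fun x => cmk H x = ω₀)
      (fun x => by rw [cmk_apply H h₀H]) with ht
    have ht2 : t ^ 2 = 1 := by
      ext ⟨x, hx⟩
      rw [pow_two]
      show h₀ (h₀ x) = x
      exact hsq' x hx
    rw [sign_of_pow_two_eq_one ht2]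
    have hfp : Fintype.card (Function.fixedPoints t) = 0 := by
      rw [Fintype.card_eq_zero_iff]
      constructor
      rintro ⟨⟨x, hx⟩, hfix⟩
      have : t ⟨x, hx⟩ = ⟨x, hx⟩ := hfix
      exact hne' x hx (congrArg Subtype.val this)
    rw [hfp, Nat.sub_zero]
    have hc : Fintype.card {x // cmk H x = ω₀} = sz H ω₀ := by
      unfold sz; exact Fintype.card_congr (Equiv.refl _)
    rw [hc]
    have : Odd (sz H ω₀ / 2) := by
      rw [Nat.odd_iff]; omega
    exact this.neg_one_pow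
  -- the doubled injection
  let tb : Bool → Perm Ω := fun b => if b then τ else 1
  have htbc : ∀ b, tb b ∈ Subgroup.centralizer (H : Set (Perm Ω)) := by
    intro b; cases b
    · exact Subgroup.one_mem _
    · exact hτc
  have htbp : ∀ b x, cmk H (tb b x) = cmk H x := by
    intro b x; cases b
    · rfl
    · exact hτp x
  have htbs : ∀ b b', sign (tb b) = sign (tb b') → b = b' := by
    intro b b' e
    cases b <;> cases b' <;> simp [tb, hsign] at e ⊢
  let Ψ : H × Bool → ∀ ω : OQ H, {x // cmk H x = ω} := fun p =>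
    evalReps H (tb p.2 * p.1.1) (fun x => by
      show cmk H (tb p.2 (p.1.1 x)) = _
      rw [htbp, cmk_apply H p.1.2])
  have hΨ : Function.Injective Ψ := by
    rintro ⟨h, b⟩ ⟨h', b'⟩ e
    have key : tb b * h.1 = tb b' * h'.1 := by
      apply inj_core (H := H)
      · exact Subgroup.mul_mem _ (Subgroup.inv_mem _ (Subgroup.mul_mem _ (htbc b)
          (hH.le_centralizer h.2))) (Subgroup.mul_mem _ (htbc b') (hH.le_centralizer h'.2))
      · intro ω
        exact congrArg Subtype.val (congrFun e ω)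
    have hs := congrArg sign key
    rw [Perm.sign_mul, Perm.sign_mul, halt h.1 h.2, halt h'.1 h'.2, mul_one, mul_one] at hs
    have hb := htbs b b' hs
    subst hb
    have : h.1 = h'.1 := mul_left_cancel key
    rw [Subtype.ext this]
  have := Fintype.card_le_of_injective Ψ hΨ
  rw [Fintype.card_prod, Fintype.card_bool, Fintype.card_pi] at this
  unfold sz
  omega

/-- the multiset of orbit sizes -/
noncomputable def szs (H : Subgroup (Perm Ω)) : Multiset ℕ :=
  (Finset.univ : Finset (OQ H)).val.map (sz H)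

theorem szs_prod (H : Subgroup (Perm Ω)) : (szs H).prod = ∏ ω, sz H ω := rfl

theorem szs_sum (H : Subgroup (Perm Ω)) : (szs H).sum = Fintype.card Ω := by
  rw [← sum_sz H]; rfl

theorem pow_three_le : ∀ m : ℕ, m ^ 3 ≤ 3 ^ m := by
  intro m
  induction m using Nat.strong_induction_on with
  | _ m ih =>
    rcases Nat.lt_or_ge m 4 with h | h
    · interval_cases m <;> norm_num
    · obtain ⟨k, rfl⟩ : ∃ k, m = k + 1 := ⟨m - 1, by omega⟩
      have := ih k (by omega)
      have e : 3 ^ (k + 1) = 3 * 3 ^ k := by ring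
      rw [e]
      have hk : 3 ≤ k := by omega
      nlinarith [this, mul_le_mul hk hk (by omega) (by omega)]

theorem prod_cube_le (μ : Multiset ℕ) : μ.prod ^ 3 ≤ 3 ^ μ.sum := by
  induction μ using Multiset.induction_on with
  | empty => simp
  | cons m μ ih =>
    rw [Multiset.prod_cons, Multiset.sum_cons, mul_pow, pow_add]
    exact Nat.mul_le_mul (pow_three_le m) ih

/-- main bound -/
theorem card_le_fA {H : Subgroup (Perm Ω)} (hH : IsAb H) (halt : ∀ h ∈ H, sign h = 1) :
    Fintype.card H ≤ fA (Fintype.card Ω) ∧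
      (fA (Fintype.card Ω) ≤ Fintype.card H →
        (∏ ω, sz H ω ≤ Fintype.card H) ∧ szs H = sA (Fintype.card Ω)) := by
  by_cases hex : ∃ ω₀ : OQ H, sz H ω₀ % 4 = 2
  · obtain ⟨ω₀, hω₀⟩ := hex
    have h1 := two_mul_card_le hH halt ω₀ hω₀
    have h2 := prod_cube_le (szs H)
    rw [szs_prod, szs_sum] at h2
    have hn3 : 3 ≤ Fintype.card Ω := by
      -- an orbit of size ≥ 2 with a nontrivial even permutation needs at least 3 points
      by_contra hlt
      push Not at hlt
      have hs := sum_sz H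
      have hle : sz H ω₀ ≤ ∑ ω, sz H ω := Finset.single_le_sum (f := sz H)
        (fun i _ => Nat.zero_le _) (Finset.mem_univ ω₀)
      have hsz2 : sz H ω₀ = 2 := by omega
      have hc2 : Fintype.card Ω = 2 := by omega
      -- then `H` is trivial, so all orbits have size one
      have hHc : Fintype.card H ≤ 1 := by
        have hp : (∏ ω, sz H ω) ^ 3 ≤ 3 ^ 2 := by rw [hc2] at h2; exact h2
        have : (2 * Fintype.card H) ^ 3 ≤ 9 := le_trans (Nat.pow_le_pow_left h1 3) hp
        by_contra h'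
        push Not at h'
        have : 4 ≤ 2 * Fintype.card H := by omega
        have : 4 ^ 3 ≤ (2 * Fintype.card H) ^ 3 := Nat.pow_le_pow_left this 3
        omega
      obtain ⟨h₀, h₀H, hne, -⟩ := exists_half hH ω₀ (by omega)
      have : (⟨h₀, h₀H⟩ : H) = 1 := by
        have := Fintype.card_le_one_iff.mp hHc ⟨h₀, h₀H⟩ 1
        exact this
      have : h₀ = 1 := congrArg Subtype.val this
      rw [this] at hne
      exact hne rfl
    have h3 := three_pow_lt _ hn3
    have hlt : Fintype.card H < fA (Fintype.card Ω) := by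
      by_contra hge
      push Not at hge
      have : (2 * fA (Fintype.card Ω)) ^ 3 ≤ (2 * Fintype.card H) ^ 3 :=
        Nat.pow_le_pow_left (by omega) 3
      have h4 : (2 * Fintype.card H) ^ 3 ≤ (∏ ω, sz H ω) ^ 3 := Nat.pow_le_pow_left h1 3
      have e : (2 * fA (Fintype.card Ω)) ^ 3 = 8 * fA (Fintype.card Ω) ^ 3 := by ring
      omega
    exact ⟨hlt.le, fun h => absurd h (by omega)⟩
  · push Not at hex
    have h1 := card_le_prod hH
    have h2 := prod_le_fA (szs H) (fun m hm => by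
      unfold szs at hm
      rw [Multiset.mem_map] at hm
      obtain ⟨ω, -, rfl⟩ := hm
      exact ⟨sz_pos H ω, hex ω⟩)
    rw [szs_prod, szs_sum] at h2
    refine ⟨h1.trans h2.1, fun h => ⟨?_, ?_⟩⟩
    · omega
    · have := h2.2 (by omega)
      exact this

end Cfsg.Agent.Helper28.AbAlt
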