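import Mathlib
import Cfsg.Agent.Helper28.AbAlt1
import Cfsg.Agent.Helper28.AbAlt2
import Cfsg.Agent.Helper28.AbAlt3

/-!
Conjugacy of full abelian subgroups with orbit sizes in `{1,3,4}` (for S2506).
-/

set_option linter.unusedSectionVars false

namespace Cfsg.Agent.Helper28.AbAlt

open Equiv Equiv.Perm
open scoped Classical

theorem fact3 : ∀ π ρ : Perm (Fin 3), (∀ i, π i ≠ i) → (∀ i, ρ i ≠ i) →
    ∀ j, π j = ρ j → π = ρ := by
  decide

set_option maxRecDepth 100000 in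
theorem fact4 : ∀ π ρ : Perm (Fin 4), (∀ i, π i ≠ i) → (∀ i, π (π i) = i) →
    (∀ i, ρ i ≠ i) → (∀ i, ρ (ρ i) = i) → ∀ j, π j = ρ j → π = ρ := by
  decide

set_option maxRecDepth 100000 in
theorem fact4s : ∀ π : Perm (Fin 4), sign π = 1 → (∀ i, π i ≠ i) → ∀ i, π (π i) = i := by
  decide

theorem fact3' {α : Type*} [Fintype α] [DecidableEq α] (hc : Fintype.card α = 3)
    (π ρ : Perm α) (hπ : ∀ i, π i ≠ i) (hρ : ∀ i, ρ i ≠ i) (j : α) (h : π j = ρ j) :
    π = ρ := by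
  let ε := Fintype.equivFinOfCardEq hc
  have := fact3 (ε.permCongr π) (ε.permCongr ρ)
    (fun i hi => hπ (ε.symm i) (by
      rw [Equiv.permCongr_apply] at hi
      exact ε.injective (by rw [hi]; simp)))
    (fun i hi => hρ (ε.symm i) (by
      rw [Equiv.permCongr_apply] at hi
      exact ε.injective (by rw [hi]; simp)))
    (ε j) (by simp [Equiv.permCongr_apply, h])
  exact (ε.permCongr).injective this

theorem fact4' {α : Type*} [Fintype α] [DecidableEq α] (hc : Fintype.card α = 4)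
    (π ρ : Perm α) (hπ : ∀ i, π i ≠ i) (hπ2 : ∀ i, π (π i) = i)
    (hρ : ∀ i, ρ i ≠ i) (hρ2 : ∀ i, ρ (ρ i) = i) (j : α) (h : π j = ρ j) :
    π = ρ := by
  let ε := Fintype.equivFinOfCardEq hc
  have := fact4 (ε.permCongr π) (ε.permCongr ρ)
    (fun i hi => hπ (ε.symm i) (by
      rw [Equiv.permCongr_apply] at hi
      exact ε.injective (by rw [hi]; simp)))
    (fun i => by simp [Equiv.permCongr_apply, hπ2])
    (fun i hi => hρ (ε.symm i) (by
      rw [Equiv.permCongr_apply] at hi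
      exact ε.injective (by rw [hi]; simp)))
    (fun i => by simp [Equiv.permCongr_apply, hρ2])
    (ε j) (by simp [Equiv.permCongr_apply, h])
  exact (ε.permCongr).injective this

theorem fact4s' {α : Type*} [Fintype α] [DecidableEq α] (hc : Fintype.card α = 4)
    (π : Perm α) (hs : sign π = 1) (hπ : ∀ i, π i ≠ i) (i : α) : π (π i) = i := by
  let ε := Fintype.equivFinOfCardEq hc
  have := fact4s (ε.permCongr π) (by rw [sign_permCongr]; exact hs)
    (fun i hi => hπ (ε.symm i) (by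
      rw [Equiv.permCongr_apply] at hi
      exact ε.injective (by rw [hi]; simp))) (ε i)
  simp only [Equiv.permCongr_apply, Equiv.symm_apply_apply] at this
  exact ε.injective this

variable {Ω : Type*} [Fintype Ω] [DecidableEq Ω]

theorem sq_fix_of_sz4 {H : Subgroup (Perm Ω)} (hH : IsAb H) (halt : ∀ h ∈ H, sign h = 1)
    (hfull : ∏ ω, sz H ω ≤ Fintype.card H) (ω : OQ H) (hω : sz H ω = 4)
    {h : Perm Ω} (hh : h ∈ H) (x : Ω) (hx : cmk H x = ω) : h (h x) = x := by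
  by_cases hfix : h x = x
  · rw [hfix, hfix]
  · have hmem := rs_mem_of_full hH hfull hh ω
    have hs := halt _ hmem
    rw [sign_rs] at hs
    set t := subtypePerm h (p := fun x => cmk H x = ω) (fun x => by rw [cmk_apply H hh]) with ht
    have hfpf : ∀ y, t y ≠ y := by
      rintro ⟨y, hy⟩ hfy
      have : h y = y := congrArg Subtype.val hfy
      exact hfix (fix_of_fix (hH.le_centralizer hh) this (hy.trans hx.symm))
    have hc : Fintype.card {x // cmk H x = ω} = 4 := by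
      rw [← hω]; unfold sz; exact Fintype.card_congr (Equiv.refl _)
    have := fact4s' hc t hs hfpf ⟨x, hx⟩
    exact congrArg Subtype.val this

/-- orbit matching condition -/
def Matches (A B : Subgroup (Perm Ω)) (σ : Perm Ω) : Prop :=
  ∀ x y, cmk A x = cmk A y ↔ cmk B (σ x) = cmk B (σ y)

theorem Matches.symm {A B : Subgroup (Perm Ω)} {σ : Perm Ω} (h : Matches A B σ) :
    Matches B A σ⁻¹ := by
  intro x y
  rw [h (σ⁻¹ x) (σ⁻¹ y), app_inv, app_inv]

theorem Matches.sz_eq {A B : Subgroup (Perm Ω)} {σ : Perm Ω} (h : Matches A B σ) (x : Ω) :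
    sz A (cmk A x) = sz B (cmk B (σ x)) := by
  unfold sz
  apply Fintype.card_congr
  exact Equiv.subtypeEquiv σ (fun y => h y x)

theorem conj_le {A B : Subgroup (Perm Ω)} (hA : IsAb A) (hB : IsAb B)
    (haltA : ∀ h ∈ A, sign h = 1) (haltB : ∀ h ∈ B, sign h = 1)
    (hfullA : ∏ ω, sz A ω ≤ Fintype.card A) (hfullB : ∏ ω, sz B ω ≤ Fintype.card B)
    (hszB : ∀ ω : OQ B, sz B ω = 1 ∨ sz B ω = 3 ∨ sz B ω = 4)
    (σ : Perm Ω) (hσ : Matches A B σ) {a : Perm Ω} (ha : a ∈ A) : σ * a * σ⁻¹ ∈ B := by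
  apply mem_of_local hB hfullB
  intro ω'
  set y₀ := ω'.out with hy₀
  set x₀ := σ⁻¹ y₀ with hx₀
  have hσx₀ : σ x₀ = y₀ := app_inv σ y₀
  have hcls : ∀ y, cmk B y = ω' → cmk A (σ⁻¹ y) = cmk A x₀ := by
    intro y hy
    rw [hσ, app_inv, hσx₀, hy, hy₀, cmk_out]
  by_cases hfix : a x₀ = x₀
  · refine ⟨1, B.one_mem, fun y hy => ?_⟩
    show σ (a (σ⁻¹ y)) = y
    rw [fix_of_fix (hA.le_centralizer ha) hfix (hcls y hy).symm, app_inv]
  · have hgy₀ : cmk B ((σ * a * σ⁻¹) y₀) = ω' := by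
      show cmk B (σ (a (σ⁻¹ y₀))) = ω'
      rw [← hx₀, (hσ (a x₀) x₀).mp (cmk_apply A ha x₀), hσx₀, hy₀, cmk_out]
    obtain ⟨b, hb, hby₀⟩ := (cmk_eq_iff B y₀ ((σ * a * σ⁻¹) y₀)).mp
      (by rw [hgy₀, hy₀, cmk_out])
    refine ⟨b, hb, ?_⟩
    have hgp : ∀ y, cmk B ((σ * a * σ⁻¹) y) = ω' ↔ cmk B y = ω' := by
      intro y
      show cmk B (σ (a (σ⁻¹ y))) = ω' ↔ _
      have e1 : cmk B (σ (a (σ⁻¹ y))) = cmk B y := by
        have := (hσ (a (σ⁻¹ y)) (σ⁻¹ y)).mp (cmk_apply A ha _)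
        rw [this, app_inv]
      rw [e1]
    have hbp : ∀ y, cmk B (b y) = ω' ↔ cmk B y = ω' := by
      intro y; rw [cmk_apply B hb]
    set gt := subtypePerm (σ * a * σ⁻¹) (p := fun y => cmk B y = ω') hgp with hgt
    set bt := subtypePerm b (p := fun y => cmk B y = ω') hbp with hbt
    have hgfpf : ∀ y, gt y ≠ y := by
      rintro ⟨y, hy⟩ hfy
      have h1 : σ (a (σ⁻¹ y)) = y := congrArg Subtype.val hfy
      have h2 : a (σ⁻¹ y) = σ⁻¹ y := by
        have := congrArg (fun z => σ⁻¹ z) h1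
        simp only [inv_app] at this
        exact this
      exact hfix (fix_of_fix (hA.le_centralizer ha) h2 (hcls y hy))
    have hbfpf : ∀ y, bt y ≠ y := by
      rintro ⟨y, hy⟩ hfy
      have h1 : b y = y := congrArg Subtype.val hfy
      have h2 : b y₀ = y₀ := fix_of_fix (hB.le_centralizer hb) h1
        (by rw [hy, hy₀, cmk_out])
      have h3 : gt ⟨y₀, by rw [hy₀, cmk_out]⟩ = ⟨y₀, by rw [hy₀, cmk_out]⟩ := by
        apply Subtype.ext
        show (σ * a * σ⁻¹) y₀ = y₀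
        rw [← hby₀, h2]
      exact hgfpf _ h3
    have hj : gt ⟨y₀, by rw [hy₀, cmk_out]⟩ = bt ⟨y₀, by rw [hy₀, cmk_out]⟩ := by
      apply Subtype.ext
      exact hby₀.symm
    have hcard : Fintype.card {y // cmk B y = ω'} = sz B ω' := by
      unfold sz; exact Fintype.card_congr (Equiv.refl _)
    have hgb : gt = bt := by
      rcases hszB ω' with h1 | h3 | h4
      · exfalso
        have hsub : Fintype.card {y // cmk B y = ω'} ≤ 1 := by rw [hcard, h1]
        have := Fintype.card_le_one_iff.mp hsub (gt ⟨y₀, by rw [hy₀, cmk_out]⟩)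
          ⟨y₀, by rw [hy₀, cmk_out]⟩
        exact hgfpf _ this
      · exact fact3' (hcard.trans h3) gt bt hgfpf hbfpf _ hj
      · have hszA : sz A (cmk A x₀) = 4 := by
          rw [hσ.sz_eq, hσx₀, hy₀, cmk_out, h4]
        refine fact4' (hcard.trans h4) gt bt hgfpf ?_ hbfpf ?_ _ hj
        · rintro ⟨y, hy⟩
          apply Subtype.ext
          show σ (a (σ⁻¹ (σ (a (σ⁻¹ y))))) = y
          rw [inv_app, sq_fix_of_sz4 hA haltA hfullA _ hszA ha _ (hcls y hy), app_inv]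
        · rintro ⟨y, hy⟩
          apply Subtype.ext
          show b (b y) = y
          exact sq_fix_of_sz4 hB haltB hfullB _ h4 hb _ hy
    intro y hy
    have := congrArg (fun f => (f ⟨y, hy⟩ : {y // cmk B y = ω'}).1) hgb
    exact this

theorem conj_iff {A B : Subgroup (Perm Ω)} (hA : IsAb A) (hB : IsAb B)
    (haltA : ∀ h ∈ A, sign h = 1) (haltB : ∀ h ∈ B, sign h = 1)
    (hfullA : ∏ ω, sz A ω ≤ Fintype.card A) (hfullB : ∏ ω, sz B ω ≤ Fintype.card B)
    (hszA : ∀ ω : OQ A, sz A ω = 1 ∨ sz A ω = 3 ∨ sz A ω = 4)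
    (hszB : ∀ ω : OQ B, sz B ω = 1 ∨ sz B ω = 3 ∨ sz B ω = 4)
    (σ : Perm Ω) (hσ : Matches A B σ) (a : Perm Ω) : a ∈ A ↔ σ * a * σ⁻¹ ∈ B := by
  constructor
  · exact fun ha => conj_le hA hB haltA haltB hfullA hfullB hszB σ hσ ha
  · intro hb
    have := conj_le hB hA haltB haltA hfullB hfullA hszA σ⁻¹ hσ.symm hb
    have e : σ⁻¹ * (σ * a * σ⁻¹) * σ⁻¹⁻¹ = a := by group
    rw [e] at this
    exact this

end Cfsg.Agent.Helper28.AbAlt
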