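import Mathlib
import Cfsg.Agent.Helper28.AbAlt1
import Cfsg.Agent.Helper28.AbAlt2
import Cfsg.Agent.Helper28.AbAlt3
import Cfsg.Agent.Helper28.AbAlt4

/-!
Orbit matching permutations and existence of abelian subgroups of order `fA n` (for S2506).
-/

set_option linter.unusedSectionVars false

namespace Cfsg.Agent.Helper28.AbAlt

open Equiv Equiv.Perm

section matching

open scoped Classical

variable {Ω : Type*} [Fintype Ω] [DecidableEq Ω]

theorem exists_sz_equiv {A B : Subgroup (Perm Ω)} (h : szs A = szs B) :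
    ∃ e : OQ A ≃ OQ B, ∀ ω, sz B (e ω) = sz A ω := by
  have hc : ∀ c : ℕ, Fintype.card {ω : OQ A // sz A ω = c} =
      Fintype.card {ω : OQ B // sz B ω = c} := by
    intro c
    have := congrArg (Multiset.count c) h
    unfold szs at this
    rw [Multiset.count_map, Multiset.count_map] at this
    rw [Fintype.card_subtype, Fintype.card_subtype]
    have e1 : ∀ (H : Subgroup (Perm Ω)),
        (Finset.univ.filter (fun ω : OQ H => sz H ω = c)).card =
        Multiset.card (Multiset.filter (fun a => c = sz H a) (Finset.univ : Finset (OQ H)).val) := by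
      intro H
      rw [Finset.card_def, Finset.filter_val]
      congr 1
      apply Multiset.filter_congr
      intro x _
      exact eq_comm
    rw [e1 A, e1 B]
    exact this
  refine ⟨Equiv.ofFiberEquiv (fun c => Fintype.equivOfCardEq (hc c)), fun ω => ?_⟩
  exact Equiv.ofFiberEquiv_map (fun c => Fintype.equivOfCardEq (hc c)) ω

theorem exists_match {A B : Subgroup (Perm Ω)} (h : szs A = szs B) :
    ∃ σ : Perm Ω, Matches A B σ := by
  obtain ⟨e, he⟩ := exists_sz_equiv h
  have hc : ∀ c : OQ B, Fintype.card {x : Ω // e (cmk A x) = c} =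
      Fintype.card {y : Ω // cmk B y = c} := by
    intro c
    have h1 : Fintype.card {x : Ω // e (cmk A x) = c} = sz A (e.symm c) := by
      unfold sz
      apply Fintype.card_congr
      apply Equiv.subtypeEquivRight
      intro x
      rw [Equiv.eq_symm_apply]
    rw [h1, ← he, Equiv.apply_symm_apply]
    unfold sz
    exact Fintype.card_congr (Equiv.refl _)
  refine ⟨Equiv.ofFiberEquiv (fun c => Fintype.equivOfCardEq (hc c)), fun x y => ?_⟩
  have hx := Equiv.ofFiberEquiv_map (fun c => Fintype.equivOfCardEq (hc c)) x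
  have hy := Equiv.ofFiberEquiv_map (fun c => Fintype.equivOfCardEq (hc c)) y
  rw [hx, hy]
  exact e.injective.eq_iff.symm

theorem exists_even_match {A B : Subgroup (Perm Ω)} (h : szs A = szs B)
    (hbig : ∃ ω : OQ A, 2 ≤ sz A ω) : ∃ σ : Perm Ω, sign σ = 1 ∧ Matches A B σ := by
  obtain ⟨σ, hσ⟩ := exists_match h
  rcases Int.units_eq_one_or (sign σ) with h1 | h1
  · exact ⟨σ, h1, hσ⟩
  · obtain ⟨ω, hω⟩ := hbig
    have : 1 < Fintype.card {x // cmk A x = ω} := by
      have e : Fintype.card {x // cmk A x = ω} = sz A ω := by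
        unfold sz; exact Fintype.card_congr (Equiv.refl _)
      omega
    obtain ⟨⟨x, hx⟩, ⟨y, hy⟩, hne⟩ := Fintype.exists_pair_of_one_lt_card this
    have hxy : x ≠ y := fun e => hne (Subtype.ext e)
    have hτ : ∀ z, cmk A (swap x y z) = cmk A z := by
      intro z
      by_cases hzx : z = x
      · rw [hzx, swap_apply_left, hx, hy]
      · by_cases hzy : z = y
        · rw [hzy, swap_apply_right, hx, hy]
        · rw [swap_apply_of_ne_of_ne hzx hzy]
    refine ⟨σ * swap x y, ?_, fun u v => ?_⟩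
    · rw [Perm.sign_mul, h1, sign_swap hxy]; rfl
    · show cmk A u = cmk A v ↔ cmk B (σ (swap x y u)) = cmk B (σ (swap x y v))
      rw [← hσ, hτ, hτ]

end matching

section existence

/-- existence of an abelian group of even permutations of given order -/
def Ex (n k : ℕ) : Prop :=
  ∃ H : Subgroup (Perm (Fin n)), IsAb H ∧ (∀ h ∈ H, sign h = 1) ∧ Nat.card H = k

theorem Ex_bot (n : ℕ) : Ex n 1 :=
  ⟨⊥, fun a ha b hb => by rw [Subgroup.mem_bot] at ha hb; rw [ha, hb],
    fun h hh => by rw [Subgroup.mem_bot] at hh; rw [hh, Perm.sign_one], Subgroup.card_bot⟩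

theorem Ex_add {a b k₁ k₂ : ℕ} (h₁ : Ex a k₁) (h₂ : Ex b k₂) : Ex (a + b) (k₁ * k₂) := by
  obtain ⟨H₁, hab₁, hs₁, hc₁⟩ := h₁
  obtain ⟨H₂, hab₂, hs₂, hc₂⟩ := h₂
  let f : Perm (Fin a) × Perm (Fin b) →* Perm (Fin (a + b)) :=
    (Equiv.permCongrHom finSumFinEquiv).toMonoidHom.comp (sumCongrHom (Fin a) (Fin b))
  have hf : Function.Injective f := by
    intro x y hxy
    exact sumCongrHom_injective ((Equiv.permCongrHom finSumFinEquiv).injective hxy)
  refine ⟨(H₁.prod H₂).map f, ?_, ?_, ?_⟩
  · rintro _ ⟨⟨x₁, x₂⟩, hx, rfl⟩ _ ⟨⟨y₁, y₂⟩, hy, rfl⟩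
    rw [SetLike.mem_coe, Subgroup.mem_prod] at hx hy
    rw [← map_mul, ← map_mul]
    congr 1
    exact Prod.ext (hab₁ _ hx.1 _ hy.1) (hab₂ _ hx.2 _ hy.2)
  · rintro _ ⟨⟨x₁, x₂⟩, hx, rfl⟩
    rw [SetLike.mem_coe, Subgroup.mem_prod] at hx
    show sign ((Equiv.permCongrHom finSumFinEquiv) (sumCongrHom (Fin a) (Fin b) (x₁, x₂))) = 1
    have : (Equiv.permCongrHom finSumFinEquiv) (sumCongrHom (Fin a) (Fin b) (x₁, x₂)) =
        finSumFinEquiv.permCongr (Perm.sumCongr x₁ x₂) := rfl
    rw [this, sign_permCongr, sign_sumCongr, hs₁ _ hx.1, hs₂ _ hx.2, mul_one]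
  · rw [Subgroup.card_map_of_injective hf, Nat.card_congr (Subgroup.prodEquiv H₁ H₂).toEquiv,
      Nat.card_prod, hc₁, hc₂]

theorem Ex3 : Ex 3 3 := by
  refine ⟨alternatingGroup (Fin 3), ?_, fun h hh => mem_alternatingGroup.mp hh, ?_⟩
  · intro a ha b hb
    rw [mem_alternatingGroup] at ha hb
    revert a b
    decide
  · rw [Nat.card_eq_fintype_card]
    have := two_mul_card_alternatingGroup (α := Fin 3)
    rw [Fintype.card_perm, Fintype.card_fin] at this
    have e : Nat.factorial 3 = 6 := rfl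
    omega

set_option maxRecDepth 100000 in
theorem Ex4 : Ex 4 4 := by
  let V : Subgroup (Perm (Fin 4)) :=
    { carrier := {π | sign π = 1 ∧ π * π = 1}
      one_mem' := by constructor <;> simp
      mul_mem' := by
        intro a b ha hb
        revert a b
        simp only [Set.mem_ofPred_eq]
        decide
      inv_mem' := by
        intro a ha
        revert a
        simp only [Set.mem_ofPred_eq]
        decide }
  refine ⟨V, ?_, fun h hh => hh.1, ?_⟩
  · intro a ha b hb
    have ha' : sign a = 1 ∧ a * a = 1 := ha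
    have hb' : sign b = 1 ∧ b * b = 1 := hb
    clear ha hb
    revert a b
    decide
  · have : Nat.card V = Nat.card {π : Perm (Fin 4) // sign π = 1 ∧ π * π = 1} :=
      Nat.card_congr (Equiv.refl _)
    rw [this, Nat.card_eq_fintype_card, Fintype.card_subtype]
    decide

theorem Ex5 : Ex 5 5 := by
  refine ⟨Subgroup.zpowers (finRotate 5), ?_, ?_, ?_⟩
  · rintro _ ⟨i, rfl⟩ _ ⟨j, rfl⟩
    exact (Commute.refl _).zpow_zpow i j
  · rintro _ ⟨i, rfl⟩
    show sign ((finRotate 5) ^ i) = 1
    rw [map_zpow, sign_finRotate]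
    norm_num
  · rw [Nat.card_zpowers]
    have h5 : Nat.Prime 5 := by norm_num
    have : Fact (Nat.Prime 5) := ⟨h5⟩
    apply orderOf_eq_prime
    · decide
    · decide

theorem Ex_fA : ∀ n, Ex n (fA n) := by
  apply ind9
  · intro n hn
    interval_cases n
    · exact Ex_bot 0
    · exact Ex_bot 1
    · exact Ex_bot 2
    · exact Ex3
    · exact Ex4
    · exact Ex5
    · exact Ex_add Ex3 Ex3
    · exact Ex_add Ex4 Ex3
    · exact Ex_add Ex4 Ex4
  · intro n ih
    have := Ex_add ih Ex3
    rw [fA_add9, mul_comm]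
    exact this

end existence

end Cfsg.Agent.Helper28.AbAlt
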