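import Mathlib
import Cfsg.Agent.Helper28.AbAlt1
import Cfsg.Agent.Helper28.AbAlt2
import Cfsg.Agent.Helper28.AbAlt3
import Cfsg.Agent.Helper28.AbAlt4
import Cfsg.Agent.Helper28.AbAlt5

/-!
Conjugacy of abelian subgroups of `A_n` of maximal order, permutation level (for S2506).
-/

set_option linter.unusedSectionVars false

namespace Cfsg.Agent.Helper28.AbAlt

open Equiv Equiv.Perm
open scoped Classical

theorem natCard_le_fA {n : ℕ} {H : Subgroup (Perm (Fin n))} (hH : IsAb H)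
    (halt : ∀ h ∈ H, sign h = 1) : Nat.card H ≤ fA n := by
  have := (card_le_fA hH halt).1
  rw [Fintype.card_fin] at this
  rw [Nat.card_eq_fintype_card]
  exact this

theorem structure_of_max {n : ℕ} {H : Subgroup (Perm (Fin n))} (hH : IsAb H)
    (halt : ∀ h ∈ H, sign h = 1) (hc : Nat.card H = fA n) :
    (∏ ω, sz H ω ≤ Fintype.card H) ∧ szs H = sA n := by
  have := (card_le_fA hH halt).2
  rw [Fintype.card_fin] at this
  apply this
  rw [← hc, Nat.card_eq_fintype_card]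

theorem perm_conj {n : ℕ} (hn3 : 3 ≤ n) (hn5 : n ≠ 5) {A B : Subgroup (Perm (Fin n))}
    (hA : IsAb A) (hB : IsAb B) (haltA : ∀ h ∈ A, sign h = 1) (haltB : ∀ h ∈ B, sign h = 1)
    (hcA : Nat.card A = fA n) (hcB : Nat.card B = fA n) :
    ∃ σ : Perm (Fin n), sign σ = 1 ∧ ∀ a, a ∈ A ↔ σ * a * σ⁻¹ ∈ B := by
  obtain ⟨hfA, hsA⟩ := structure_of_max hA haltA hcA
  obtain ⟨hfB, hsB⟩ := structure_of_max hB haltB hcB
  have hsz : ∀ (H : Subgroup (Perm (Fin n))), szs H = sA n →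
      ∀ ω : OQ H, sz H ω = 1 ∨ sz H ω = 3 ∨ sz H ω = 4 := by
    intro H hs ω
    have hm : sz H ω ∈ sA n := by
      rw [← hs]; unfold szs
      exact Multiset.mem_map_of_mem _ (Finset.mem_univ ω)
    rcases sA_parts n _ hm with h | h | h | ⟨_, h⟩
    · exact Or.inl h
    · exact Or.inr (Or.inl h)
    · exact Or.inr (Or.inr h)
    · exact absurd h hn5
  have hbig : ∃ ω : OQ A, 2 ≤ sz A ω := by
    obtain ⟨m, hm, hm3⟩ := sA_exists_big n hn3
    rw [← hsA] at hm
    unfold szs at hm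
    rw [Multiset.mem_map] at hm
    obtain ⟨ω, -, rfl⟩ := hm
    exact ⟨ω, by omega⟩
  obtain ⟨σ, hσ1, hσ⟩ := exists_even_match (hsA.trans hsB.symm) hbig
  exact ⟨σ, hσ1, fun a => conj_iff hA hB haltA haltB hfA hfB (hsz A hsA) (hsz B hsB) σ hσ a⟩

end Cfsg.Agent.Helper28.AbAlt
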