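import Mathlib
import Cfsg.Prelude.Def_ChevB2
import Cfsg.Prelude.Def_Steinberg
import Cfsg.Agent.Helper28.B2Defs

set_option autoImplicit false
set_option linter.unusedSectionVars false

/-! Glue for S1083: the explicit matrices of the root elements, and the homomorphism from the
Steinberg group of type `B₂` to `O₅(F)`, assuming the matrix relations. -/

namespace Cfsg.Agent.Helper28.B2

open Matrix Cfsg.Lie Cfsg.Agent.Helper28.Sg

variable {F : Type*} [Field F]

/-- the coordinate order as an equivalence -/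
def e5' : J5 ≃ Fin 5 where
  toFun := e5
  invFun := fun k => match k with
    | 0 => Sum.inl ()
    | 1 => Sum.inr (Sum.inl 0)
    | 2 => Sum.inr (Sum.inl 1)
    | 3 => Sum.inr (Sum.inr 0)
    | 4 => Sum.inr (Sum.inr 1)
  left_inv := by
    intro j
    rcases j with _ | j | j
    · rfl
    · fin_cases j <;> rfl
    · fin_cases j <;> rfl
  right_inv := by
    intro k
    fin_cases k <;> rfl

/-- the matrix of an isometry in the coordinate order `e₀, e₁, e₂, f₁, f₂` -/
def μ : ↥(Cfsg.isometryGroup F ⇑(Q5 F)) →* Matrix (Fin 5) (Fin 5) F where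
  toFun g := (mt (Q5 F) g).submatrix e5'.symm e5'.symm
  map_one' := by
    show (1 : Matrix J5 J5 F).submatrix e5'.symm e5'.symm = 1
    exact Matrix.submatrix_one_equiv _
  map_mul' g h := by
    show (mt (Q5 F) g * mt (Q5 F) h).submatrix e5'.symm e5'.symm = _
    rw [Matrix.submatrix_mul_equiv]

theorem μ_apply (g : ↥(Cfsg.isometryGroup F ⇑(Q5 F))) (i j : Fin 5) :
    μ g i j = mt (Q5 F) g (e5'.symm i) (e5'.symm j) := rfl

theorem μ_injective : Function.Injective (μ (F := F)) := by
  intro g h H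
  apply Subtype.ext
  apply Units.ext
  ext i j
  have := congrFun (congrFun H (e5' i)) (e5' j)
  rw [μ_apply, μ_apply, Equiv.symm_apply_apply, Equiv.symm_apply_apply] at this
  exact this

/-- entries of an isometry through its action on a coordinate vector -/
theorem mt_entry (g : ↥(Cfsg.isometryGroup F ⇑(Q5 F))) (i j : J5) :
    mt (Q5 F) g i j = (mt (Q5 F) g *ᵥ Pi.single j 1) i := by
  rw [Matrix.mulVec_single_one]
  rfl

theorem sL_entry (p q : H4) (c : F) (h : q ≠ p.swap) (i j : J5) :
    mt (Q5 F) (sL p q c h) i j = (if i = j then 1 else 0) +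
      (if i = Sum.inr q ∧ j = Sum.inr p.swap then c else 0) -
      (if i = Sum.inr p ∧ j = Sum.inr q.swap then c else 0) := by
  rw [mt_entry, sL_mulVec]
  simp only [Pi.add_apply, Pi.sub_apply, Pi.smul_apply, smul_eq_mul, d_apply, Pi.single_apply]
  simp only [ite_and, eq_comm (a := j), mul_ite, ite_mul, mul_one, mul_zero, one_mul, zero_mul]

theorem sS_entry (p : H4) (c : F) (i j : J5) :
    mt (Q5 F) (sS p c) i j = (if i = j then 1 else 0) +
      (if i = Sum.inl () ∧ j = Sum.inr p.swap then c else 0) -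
      (if i = Sum.inr p ∧ j = Sum.inl () then 2 * c else 0) -
      (if i = Sum.inr p ∧ j = Sum.inr p.swap then c * c else 0) := by
  rw [mt_entry, sS_mulVec]
  simp only [Pi.add_apply, Pi.sub_apply, Pi.smul_apply, smul_eq_mul, d_apply, z_apply,
    Pi.single_apply]
  simp only [ite_and, eq_comm (a := j), mul_ite, ite_mul, mul_one, mul_zero, one_mul, zero_mul]

set_option maxHeartbeats 1000000 in
/-- the explicit matrices of the root elements -/
theorem μ_Xo (r : ℕ) (t : F) : μ (Xo r t) = Y r t := by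
  by_cases hr : r < 8
  · interval_cases r <;> ext i j <;> fin_cases i <;> fin_cases j <;>
      simp [μ_apply, Xo, Y, sL_entry, sS_entry, e5'] <;> ring
  · have h8 : 8 ≤ r := not_lt.1 hr
    have h1 : Xo r t = 1 := by
      unfold Xo
      split <;> first | omega | rfl
    have h2 : Y r t = 1 := by
      unfold Y
      split <;> first | omega | rfl
    rw [h1, h2, map_one]

set_option maxHeartbeats 1000000 in
/-- relation (R1) for the explicit matrices -/
theorem Y_add (r : ℕ) (t u : F) : Y r t * Y r u = Y r (t + u) := by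
  by_cases hr : r < 8
  · interval_cases r <;> ext i j <;> fin_cases i <;> fin_cases j <;>
      simp [Y, Matrix.mul_apply, Fin.sum_univ_five] <;> ring
  · have h8 : 8 ≤ r := not_lt.1 hr
    have h2 : ∀ v : F, Y r v = 1 := by
      intro v
      unfold Y
      split <;> first | omega | rfl
    rw [h2, h2, h2, mul_one]

theorem Y_zero (r : ℕ) : Y r (0 : F) = 1 := by
  by_cases hr : r < 8
  · interval_cases r <;> ext i j <;> fin_cases i <;> fin_cases j <;> simp [Y]
  · have h8 : 8 ≤ r := not_lt.1 hr
    unfold Y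
    split <;> first | omega | rfl

theorem Xo_add (r : ℕ) (t u : F) : Xo r t * Xo r u = Xo r (t + u) := by
  apply μ_injective
  rw [map_mul, μ_Xo, μ_Xo, μ_Xo, Y_add]

theorem Xo_zero (r : ℕ) : Xo r (0 : F) = 1 := by
  apply μ_injective
  rw [μ_Xo, Y_zero, map_one]

theorem Xo_inv (r : ℕ) (t : F) : (Xo r t)⁻¹ = Xo r (-t) := by
  rw [inv_eq_iff_mul_eq_one, Xo_add, add_neg_cancel, Xo_zero]

/-- the images of the generators of the Steinberg group -/
noncomputable def gen (p : Fin chevB2.nroots × F) : ↥(Cfsg.isometryGroup F ⇑(Q5 F)) :=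
  Xo p.1.val p.2

theorem lift_stX (r : ℕ) (t : F) : FreeGroup.lift gen (chevB2.stX r t) = Xo r t := by
  unfold ChevalleyDatum.stX
  split_ifs with h
  · rw [FreeGroup.lift_apply_of]
    rfl
  · rw [map_one]
    have h8 : 8 ≤ r := not_lt.1 h
    unfold Xo
    split <;> first | omega | rfl

theorem lift_stWord (w : List (ℕ × F)) :
    FreeGroup.lift gen (chevB2.stWord w) = (w.map fun p => Xo p.1 p.2).prod := by
  unfold ChevalleyDatum.stWord
  rw [map_list_prod, List.map_map]
  congr 1
  apply List.map_congr_left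
  intro p _
  exact lift_stX p.1 p.2

theorem μ_lift_stWord (w : List (ℕ × F)) :
    μ (FreeGroup.lift gen (chevB2.stWord w)) = wordY w := by
  rw [lift_stWord, map_list_prod, List.map_map]
  unfold wordY
  congr 1
  apply List.map_congr_left
  intro p _
  exact μ_Xo p.1 p.2

/-- Steinberg's relators hold in `O₅(F)`, given the matrix relations (R2) and (R3) -/
theorem rels_hold
    (hR2 : ∀ (r s : ℕ), r < 8 → s < 8 → s ≠ r → s ≠ chevB2.neg r → ∀ t u : F,
      Y s (-u) * Y r (-t) * Y s u * Y r t = wordY (chevB2.commWord F r s t u))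
    (hR3 : ∀ (r : ℕ), r < 8 → ∀ t u : F, t ≠ 0 → u ≠ 0 →
      wordY (chevB2.hWord r t) * wordY (chevB2.hWord r u) = wordY (chevB2.hWord r (t * u))) :
    ∀ g ∈ chevB2.steinbergRels F, FreeGroup.lift gen g = 1 := by
  intro g hg
  rcases hg with (⟨r, t₁, t₂, hr, rfl⟩ | ⟨r, s, t, u, hr, hs, h1, h2, rfl⟩) |
    ⟨r, t₁, t₂, hr, ht₁, ht₂, rfl⟩
  · rw [map_mul, map_mul, map_inv, mul_inv_eq_one, lift_stX, lift_stX, lift_stX, Xo_add]
  · rw [map_mul, map_mul, map_mul, map_mul, map_inv, map_inv, map_inv, mul_inv_eq_one,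
      lift_stX, lift_stX, Xo_inv, Xo_inv]
    apply μ_injective
    rw [map_mul, map_mul, map_mul, μ_Xo, μ_Xo, μ_Xo, μ_Xo, μ_lift_stWord]
    exact hR2 r s hr hs h1 h2 t u
  · rw [map_mul, map_mul, map_inv, mul_inv_eq_one]
    apply μ_injective
    unfold ChevalleyDatum.stH
    rw [map_mul, μ_lift_stWord, μ_lift_stWord, μ_lift_stWord]
    exact hR3 r hr t₁ t₂ ht₁ ht₂

end Cfsg.Agent.Helper28.B2
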