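import Mathlib
import Cfsg.Agent.Helper28.B2Glue

set_option autoImplicit false
set_option linter.unusedSectionVars false

/-! Glue for S1083, part 2: the homomorphism from the Steinberg group of type `B₂` to `O₅(F)` and
its range. -/

namespace Cfsg.Agent.Helper28.B2

open Matrix Cfsg.Lie Cfsg.Agent.Helper28.Sg

variable {F : Type*} [Field F]

/-- the matrix relations (R2) and (R3), as a hypothesis -/
def MatRels (F : Type*) [Field F] : Prop :=
  (∀ (r s : ℕ), r < 8 → s < 8 → s ≠ r → s ≠ chevB2.neg r → ∀ t u : F,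
      Y s (-u) * Y r (-t) * Y s u * Y r t = wordY (chevB2.commWord F r s t u)) ∧
  (∀ (r : ℕ), r < 8 → ∀ t u : F, t ≠ 0 → u ≠ 0 →
      wordY (chevB2.hWord r t) * wordY (chevB2.hWord r u) = wordY (chevB2.hWord r (t * u)))

/-- the homomorphism from the Steinberg group to the orthogonal group -/
noncomputable def stHomO (h : MatRels F) :
    chevB2.SteinbergGroup F →* ↥(Cfsg.isometryGroup F ⇑(Q5 F)) :=
  PresentedGroup.toGroup (rels_hold h.1 h.2)

theorem stHomO_of (h : MatRels F) (p : Fin chevB2.nroots × F) :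
    stHomO h (PresentedGroup.of p) = Xo p.1.val p.2 := by
  unfold stHomO
  rw [PresentedGroup.toGroup.of]
  rfl

theorem stHomO_stGen (h : MatRels F) (r : ℕ) (t : F) :
    stHomO h (chevB2.stGen F r t) = Xo r t :=
  lift_stX r t

set_option maxHeartbeats 1000000 in
/-- the long root elements are root elements -/
theorem sL_eq_Xo (p q : H4) (c : F) (h : q ≠ p.swap) : ∃ (r : ℕ) (t : F), sL p q c h = Xo r t := by
  have key : ∀ (p q : H4) (h : q ≠ p.swap) (r : ℕ) (t : F), μ (sL p q c h) = Y r t →
      ∃ (r : ℕ) (t : F), sL p q c h = Xo r t := by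
    intro p q h r t hμ
    exact ⟨r, t, μ_injective (by rw [μ_Xo]; exact hμ)⟩
  rcases p with p | p <;> rcases q with q | q <;> fin_cases p <;> fin_cases q
  · exact key _ _ h 8 0 (by
      ext i j
      fin_cases i <;> fin_cases j <;> simp [μ_apply, Y, sL_entry, e5'])
  · exact key _ _ h 7 c (by
      ext i j
      fin_cases i <;> fin_cases j <;> simp [μ_apply, Y, sL_entry, e5'])
  · exact key _ _ h 7 (-c) (by
      ext i j
      fin_cases i <;> fin_cases j <;> simp [μ_apply, Y, sL_entry, e5'])
  · exact key _ _ h 8 0 (by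
      ext i j
      fin_cases i <;> fin_cases j <;> simp [μ_apply, Y, sL_entry, e5'])
  · exact absurd rfl h
  · exact key _ _ h 4 c (by
      ext i j
      fin_cases i <;> fin_cases j <;> simp [μ_apply, Y, sL_entry, e5'])
  · exact key _ _ h 3 c (by
      ext i j
      fin_cases i <;> fin_cases j <;> simp [μ_apply, Y, sL_entry, e5'])
  · exact absurd rfl h
  · exact absurd rfl h
  · exact key _ _ h 3 (-c) (by
      ext i j
      fin_cases i <;> fin_cases j <;> simp [μ_apply, Y, sL_entry, e5'])
  · exact key _ _ h 4 (-c) (by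
      ext i j
      fin_cases i <;> fin_cases j <;> simp [μ_apply, Y, sL_entry, e5'])
  · exact absurd rfl h
  · exact key _ _ h 8 0 (by
      ext i j
      fin_cases i <;> fin_cases j <;> simp [μ_apply, Y, sL_entry, e5'])
  · exact key _ _ h 0 (-c) (by
      ext i j
      fin_cases i <;> fin_cases j <;> simp [μ_apply, Y, sL_entry, e5'])
  · exact key _ _ h 0 c (by
      ext i j
      fin_cases i <;> fin_cases j <;> simp [μ_apply, Y, sL_entry, e5'])
  · exact key _ _ h 8 0 (by
      ext i j
      fin_cases i <;> fin_cases j <;> simp [μ_apply, Y, sL_entry, e5'])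

/-- the short root elements are root elements -/
theorem sS_eq_Xo (p : H4) (c : F) : ∃ (r : ℕ) (t : F), sS p c = Xo r t := by
  rcases p with p | p <;> fin_cases p
  · exact ⟨6, c, rfl⟩
  · exact ⟨5, -c, by show _ = sS (Sum.inl 1) (- -c); rw [neg_neg]; rfl⟩
  · exact ⟨1, -c, by show _ = sS (Sum.inr 0) (- -c); rw [neg_neg]; rfl⟩
  · exact ⟨2, c, rfl⟩

theorem Xo_mem_RB (r : ℕ) (t : F) : Xo r t ∈ RB F := by
  unfold Xo
  split
  · exact sL_mem_RB _ _ _ _
  · exact sS_mem_RB _ _
  · exact sS_mem_RB _ _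
  · exact sL_mem_RB _ _ _ _
  · exact sL_mem_RB _ _ _ _
  · exact sS_mem_RB _ _
  · exact sS_mem_RB _ _
  · exact sL_mem_RB _ _ _ _
  · exact Subgroup.one_mem _

/-- the range of the homomorphism is the group generated by the root elements -/
theorem range_stHomO (h : MatRels F) : (stHomO h).range = RB F := by
  apply le_antisymm
  · rintro _ ⟨x, rfl⟩
    have : x ∈ (RB F).comap (stHomO h) := by
      apply PresentedGroup.generated_by
      intro p
      rw [Subgroup.mem_comap, stHomO_of]
      exact Xo_mem_RB _ _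
    exact this
  · unfold RB
    rw [Subgroup.closure_le]
    rintro g (⟨p, q, c, hpq, rfl⟩ | ⟨p, c, rfl⟩)
    · obtain ⟨r, t, hrt⟩ := sL_eq_Xo p q c hpq
      rw [hrt, ← stHomO_stGen h]
      exact ⟨_, rfl⟩
    · obtain ⟨r, t, hrt⟩ := sS_eq_Xo p c
      rw [hrt, ← stHomO_stGen h]
      exact ⟨_, rfl⟩

end Cfsg.Agent.Helper28.B2
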