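import Mathlib
import Cfsg.Agent.Helper28.B2Glue2

set_option autoImplicit false
set_option linter.unusedSectionVars false

/-! Assembly for S1083 from the pieces. -/

namespace Cfsg.Agent.Helper28.B2

open Matrix Cfsg.Lie Cfsg.Agent.Helper28.Sg

variable {F : Type*} [Field F]

/-- two root elements that do not commute -/
theorem Xo_not_comm : Xo 4 (1 : F) * Xo 5 1 ≠ Xo 5 1 * Xo 4 1 := by
  intro h
  have h1 := congrArg μ h
  rw [map_mul, map_mul, μ_Xo, μ_Xo] at h1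
  have h2 := congrFun (congrFun h1 1) 4
  simp [Y, Matrix.mul_apply, Fin.sum_univ_five] at h2

/-- the assembly: from the homomorphism onto `Ω₅` to the isomorphism -/
theorem main_of_pieces {G : Type*} [Group G]
    (hrel : MatRels F)
    (hΩ : Cfsg.Omega F ⇑(Q5 F) = RB F)
    (hgrp : ∀ (ψ : chevB2.SteinbergGroup F →* ↥(Cfsg.Omega F ⇑(Q5 F))), Function.Surjective ψ →
      (∃ a b : ↥(Cfsg.Omega F ⇑(Q5 F)), a * b ≠ b * a) →
      Nonempty (G ≃* ↥(Cfsg.Omega F ⇑(Q5 F)) ⧸ Subgroup.center ↥(Cfsg.Omega F ⇑(Q5 F)))) :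
    Nonempty (G ≃* Cfsg.POmega F (Cfsg.quadFormOdd 2 F)) := by
  have hmem : ∀ x, stHomO hrel x ∈ Cfsg.Omega F ⇑(Q5 F) := by
    intro x
    rw [hΩ, ← range_stHomO hrel]
    exact ⟨x, rfl⟩
  let ψ : chevB2.SteinbergGroup F →* ↥(Cfsg.Omega F ⇑(Q5 F)) :=
    (stHomO hrel).codRestrict (Cfsg.Omega F ⇑(Q5 F)) hmem
  have hψ : Function.Surjective ψ := by
    intro g
    have hg : (g : ↥(Cfsg.isometryGroup F ⇑(Q5 F))) ∈ (stHomO hrel).range := by
      rw [range_stHomO hrel, ← hΩ]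
      exact g.2
    obtain ⟨x, hx⟩ := hg
    exact ⟨x, Subtype.ext hx⟩
  have hW : ∃ a b : ↥(Cfsg.Omega F ⇑(Q5 F)), a * b ≠ b * a := by
    have h4 : Xo 4 (1 : F) ∈ Cfsg.Omega F ⇑(Q5 F) := by rw [hΩ]; exact Xo_mem_RB _ _
    have h5 : Xo 5 (1 : F) ∈ Cfsg.Omega F ⇑(Q5 F) := by rw [hΩ]; exact Xo_mem_RB _ _
    refine ⟨⟨_, h4⟩, ⟨_, h5⟩, fun h => Xo_not_comm (F := F) ?_⟩
    exact congrArg Subtype.val h
  exact hgrp ψ hψ hW

end Cfsg.Agent.Helper28.B2
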