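import Mathlib
import Cfsg.Agent.Helper28.B2Final
import Cfsg.Agent.Helper21.B2R2A
import Cfsg.Agent.Helper21.B2R2B
import Cfsg.Agent.Helper25.B2R2C
import Cfsg.Agent.Helper25.B2R2D
import Cfsg.Agent.Helper14.B2R3
import Cfsg.Agent.Helper7.B2GEO
import Cfsg.Agent.Helper23.B2NORM
import Cfsg.Agent.Helper14.B2COMM

set_option autoImplicit false
set_option linter.unusedSectionVars false

/-! S1083: all pieces together. -/

namespace Cfsg.Agent.Helper28.B2

open Matrix Cfsg.Lie Cfsg.Agent.Helper28.Sg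

variable {F : Type*} [Field F]

theorem neg_eq : ∀ r < 8, chevB2.neg r = 7 - r := by decide

/-- the matrix relations hold -/
theorem matRels : MatRels F := by
  refine ⟨?_, ?_⟩
  · intro r s hr hs h1 h2 t u
    rw [neg_eq r hr] at h2
    have : (r = 0 ∨ r = 1) ∨ (r = 2 ∨ r = 3) ∨ (r = 4 ∨ r = 5) ∨ (r = 6 ∨ r = 7) := by omega
    rcases this with h | h | h | h
    · exact Cfsg.Agent.Helper21.B2.Y_comm_A r s h hs h1 h2 t u
    · exact Cfsg.Agent.Helper21.B2.Y_comm_B r s h hs h1 h2 t u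
    · exact Cfsg.Agent.Helper25.B2.Y_comm_C r s h hs h1 h2 t u
    · exact Cfsg.Agent.Helper25.B2.Y_comm_D r s h hs h1 h2 t u
  · intro r hr t u ht hu
    exact Cfsg.Agent.Helper14.B2R3.Y_h r hr ht hu

/-- `Ω₅(F)` is the group generated by the root elements -/
theorem Omega_eq_RB (hF : ∃ a : F, a ≠ 0 ∧ a ≠ 1) : Cfsg.Omega F ⇑(Q5 F) = RB F :=
  le_antisymm
    (Cfsg.Agent.Helper23.B2.Omega_le_RB (fun g =>
      Cfsg.Agent.Helper7.B2.exists_diag (RB F) (fun p q c h => sL_mem_RB p q c h)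
        (fun p c => sS_mem_RB p c) g))
    (Cfsg.Agent.Helper14.B2COMM.RB_le_Omega hF)

end Cfsg.Agent.Helper28.B2
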