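import Mathlib
import Cfsg.Prelude.Def_OddOrderLocal
import Cfsg.Agent.Helper9.BG12b

/-!
# A criterion for `p ∈ κ(M)`
-/

set_option autoImplicit false
set_option linter.unusedSectionVars false
set_option linter.style.haveILetI false

namespace Cfsg.Agent.Helper28.BG13S

open Subgroup

universe u
variable {G : Type u} [Group G] [Finite G]

/-- `p ∉ σ(M)`, the `p`-subgroups of `M` are cyclic, and some subgroup of order `p` of `M`
centralizes a non-identity element of `M_σ`: then `p ∈ κ(M)`. -/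
theorem mem_kappa_of {M X : Subgroup G} {p : ℕ} [hp : Fact p.Prime]
    (hpM : p ∉ Cfsg.sigma M)
    (hcycM : ∀ S : Subgroup G, S ≤ M → IsPGroup p S → IsCyclic S)
    (hXM : X ≤ M) (hXp : Nat.card X = p)
    (hY1 : Cfsg.sigmaCore M ⊓ centralizer (X : Set G) ≠ ⊥) : p ∈ Cfsg.kappa M := by
  have hpp : p.Prime := hp.out
  refine ⟨hpp, hXp ▸ card_dvd_of_le hXM, hpM, fun P => ⟨?_, ?_⟩⟩
  · -- `P` is cyclic
    have h1 : IsCyclic ↥((P : Subgroup ↥M).map M.subtype) :=
      hcycM _ (Subgroup.map_subtype_le _) (P.isPGroup'.map _)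
    have e : ↥(P : Subgroup ↥M) ≃* ↥((P : Subgroup ↥M).map M.subtype) :=
      (P : Subgroup ↥M).equivMapOfInjective M.subtype M.subtype_injective
    exact isCyclic_of_surjective e.symm e.symm.surjective
  · -- a conjugate of `X` lies in `P`
    have hXpg : IsPGroup p ↥(X.subgroupOf M) := by
      apply IsPGroup.of_card (n := 1)
      rw [Nat.card_congr (Subgroup.subgroupOfEquivOfLe hXM).toEquiv, hXp, pow_one]
    obtain ⟨Q, hQ⟩ := hXpg.exists_le_sylow
    obtain ⟨g, hg⟩ := MulAction.exists_smul_eq ↥M Q P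
    -- a generator of `X`
    have hX1 : X ≠ ⊥ := by
      intro h0
      rw [h0, Subgroup.card_bot] at hXp
      exact hpp.one_lt.ne hXp
    obtain ⟨x, hx, hx1⟩ : ∃ x ∈ X, x ≠ 1 := by
      by_contra hcon
      push Not at hcon
      apply hX1
      rw [eq_bot_iff]
      intro x hx
      rw [mem_bot]; exact hcon x hx
    obtain ⟨y, hy, hy1⟩ : ∃ y ∈ Cfsg.sigmaCore M ⊓ centralizer (X : Set G), y ≠ 1 := by
      by_contra hcon
      push Not at hcon
      apply hY1
      rw [eq_bot_iff]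
      intro y hy
      rw [mem_bot]; exact hcon y hy
    have hxM : x ∈ M := hXM hx
    have hxQ : (⟨x, hxM⟩ : ↥M) ∈ (Q : Subgroup ↥M) := hQ (mem_subgroupOf.mpr hx)
    have hgx : g * ⟨x, hxM⟩ * g⁻¹ ∈ (P : Subgroup ↥M) := by
      rw [← hg, Sylow.coe_subgroup_smul, Subgroup.mem_smul_pointwise_iff_exists]
      exact ⟨⟨x, hxM⟩, hxQ, rfl⟩
    refine ⟨g * ⟨x, hxM⟩ * g⁻¹, hgx, ?_, (g : G) * y * (g : G)⁻¹, ?_, ?_, ?_⟩
    · intro h1
      apply hx1
      have h2 : (⟨x, hxM⟩ : ↥M) = 1 := by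
        have := congrArg (fun w => g⁻¹ * w * g) h1
        simpa [mul_assoc] using this
      exact congrArg Subtype.val h2
    · have hn := Cfsg.Agent.H9.BG12.le_normalizer_sigmaCore M g.2
      exact (mem_normalizer_iff.mp hn y).mp hy.1
    · intro h1
      apply hy1
      have := congrArg (fun w => (g : G)⁻¹ * w * (g : G)) h1
      simpa [mul_assoc] using this
    · have hc : y * x = x * y := (mem_centralizer_iff.mp hy.2 x hx).symm
      show ((g * ⟨x, hxM⟩ * g⁻¹ : ↥M) : G) * ((g : G) * y * (g : G)⁻¹) =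
        (g : G) * y * (g : G)⁻¹ * ((g * ⟨x, hxM⟩ * g⁻¹ : ↥M) : G)
      push_cast
      calc (g : G) * x * (g : G)⁻¹ * ((g : G) * y * (g : G)⁻¹)
          = (g : G) * (x * y) * (g : G)⁻¹ := by group
        _ = (g : G) * (y * x) * (g : G)⁻¹ := by rw [hc]
        _ = (g : G) * y * (g : G)⁻¹ * ((g : G) * x * (g : G)⁻¹) := by group

end Cfsg.Agent.Helper28.BG13S
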