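import Mathlib
import Cfsg.Agent.Helper28.BTStab3
import Cfsg.Agent.Helper6.Chev.BruhatNF2

set_option autoImplicit false
set_option linter.unusedSectionVars false
set_option linter.unusedVariables false

namespace Cfsg.Agent.Helper28.BT

open Cfsg.Lie Cfsg.Agent.Helper6 Cfsg.Agent.Helper18.BT Cfsg.Agent.Helper7.BT Cfsg.Agent.Helper8.BT Cfsg.Agent.Helper29.BT Cfsg.Agent.Helper20.BT

variable {D : ChevalleyDatum} {F : Type*} [Field F]

/-- `g⁻¹ V g` -/
def cj (V : Subgroup (GL D.Idx F)) (g : GL D.Idx F) : Subgroup (GL D.Idx F) :=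
  V.map (MulAut.conj g⁻¹).toMonoidHom

theorem mem_cj {V : Subgroup (GL D.Idx F)} {g x : GL D.Idx F} :
    x ∈ cj V g ↔ g * x * g⁻¹ ∈ V := by
  unfold cj
  rw [Subgroup.mem_map]
  constructor
  · rintro ⟨v, hv, rfl⟩
    simp only [MulEquiv.coe_toMonoidHom, MulAut.conj_apply, inv_inv]
    have : g * (g⁻¹ * v * g) * g⁻¹ = v := by group
    rwa [this]
  · intro h
    refine ⟨_, h, ?_⟩
    simp only [MulEquiv.coe_toMonoidHom, MulAut.conj_apply, inv_inv]
    group

theorem cj_ne_bot {V : Subgroup (GL D.Idx F)} (hV : V ≠ ⊥) (g : GL D.Idx F) : cj V g ≠ ⊥ := by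
  intro h
  apply hV
  rw [eq_bot_iff]
  intro v hv
  have : g⁻¹ * v * g ∈ cj V g := by
    rw [mem_cj]
    have e : g * (g⁻¹ * v * g) * g⁻¹ = v := by group
    rwa [e]
  rw [h, Subgroup.mem_bot] at this
  rw [Subgroup.mem_bot]
  have e : v = g * (g⁻¹ * v * g) * g⁻¹ := by group
  rw [e, this]; group

theorem cj_mul (V : Subgroup (GL D.Idx F)) (g h : GL D.Idx F) : cj V (g * h) = cj (cj V g) h := by
  ext x
  rw [mem_cj, mem_cj, mem_cj]
  have e : g * h * x * (g * h)⁻¹ = g * (h * x * h⁻¹) * g⁻¹ := by group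
  rw [e]

/-- the objective function -/
noncomputable def Mf (V : Subgroup (GL D.Idx F)) (g : ↥(D.group F)) (μ : Fin D.rank → ℝ) : ℝ :=
  Mval (cj V g.1) (degI D μ)

theorem le_Mf_iff {V : Subgroup (GL D.Idx F)} (hV : V ≠ ⊥) (g : ↥(D.group F))
    (μ : Fin D.rank → ℝ) {t : ℝ} (ht : 0 ≤ t) :
    cj V g.1 ≤ GrFil (degI D μ) t ↔ t ≤ Mf V g μ :=
  le_Mval_iff (cj_ne_bot hV g.1) _ ht

theorem Mf_cont {V : Subgroup (GL D.Idx F)} (hV : V ≠ ⊥) (g : ↥(D.group F)) :
    Continuous (Mf V g) := by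
  unfold Mf
  simp_rw [Mval_eq (cj_ne_bot hV g.1)]
  apply Continuous.finset_inf'_apply
  intro p _
  exact (continuous_degI p.1).sub (continuous_degI p.2)

theorem Mf_hom {V : Subgroup (GL D.Idx F)} (hV : V ≠ ⊥) (g : ↥(D.group F)) (c : ℝ) (hc : 0 ≤ c)
    (μ : Fin D.rank → ℝ) : Mf V g (c • μ) = c * Mf V g μ := by
  unfold Mf
  rw [Mval_eq (cj_ne_bot hV g.1), Mval_eq (cj_ne_bot hV g.1)]
  have := Finset.apply_inf'_eq_inf'_comp (s := suppV (cj V g.1))
    (suppV_nonempty (cj_ne_bot hV g.1)) (f := fun p => degI D μ p.1 - degI D μ p.2)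
    (fun x : ℝ => c * x) (fun x y => mul_min_of_nonneg x y hc)
  rw [this]
  apply Finset.inf'_congr _ rfl
  intro p _
  simp only [Function.comp, degI_smul]
  ring

theorem Mf_conc {V : Subgroup (GL D.Idx F)} (hV : V ≠ ⊥) (g : ↥(D.group F))
    (μ ν : Fin D.rank → ℝ) : (Mf V g μ + Mf V g ν) / 2 ≤ Mf V g ((1 / 2 : ℝ) • (μ + ν)) := by
  unfold Mf
  rw [Mval_eq (cj_ne_bot hV g.1), Mval_eq (cj_ne_bot hV g.1), Mval_eq (cj_ne_bot hV g.1),
    Finset.le_inf'_iff]
  intro p hp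
  have h1 := Finset.inf'_le (fun p : D.Idx × D.Idx => degI D μ p.1 - degI D μ p.2) hp
  have h2 := Finset.inf'_le (fun p : D.Idx × D.Idx => degI D ν p.1 - degI D ν p.2) hp
  rw [degI_mid]
  simp only at h1 h2 ⊢
  linarith

theorem main [Fintype F] (p : ℕ) [Fact p.Prime] [CharP F p] (hD : IsTabulated D)
    (V : Subgroup (GL D.Idx F)) (hVG : V ≤ D.group F) (hV : IsPGroup p ↥V) (hne : V ≠ ⊥) :
    ∃ g ∈ D.group F, ∃ J : Set ℕ, (∃ i, i < D.rank ∧ i ∉ J) ∧
      Subgroup.normalizer (V : Set (GL D.Idx F)) ⊓ D.group F ≤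
        (D.parabolicSubgroup F J).map (MulAut.conj g).toMonoidHom ∧
      V ≤ (D.unipotentRadical F J).map (MulAut.conj g).toMonoidHom := by
  classical
  have Δ : BNData D F := bnData_of_tabulated F hD
  -- the optimisation
  have hpos : ∃ (g : ↥(D.group F)) (μ : Fin D.rank → ℝ), 0 < Mf V g μ := by
    obtain ⟨g, hg, hgV⟩ := exists_conj_le_posUnipotent p hD V hVG hV
    obtain ⟨μ, hμ⟩ := exists_regular hD
    refine ⟨⟨g, hg⟩, μ, ?_⟩
    have : cj V g ≤ GrFil (degI D μ) 1 := by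
      intro x hx
      rw [mem_cj] at hx
      have hx' := hgV _ hx
      have e : g⁻¹ * (g * x * g⁻¹) * g = x := by group
      rw [e] at hx'
      have hle : D.posUnipotent F ≤ GrFil (degI D μ) 1 := by
        unfold ChevalleyDatum.posUnipotent
        rw [Subgroup.closure_le]
        rintro y ⟨r, t, hr, hy⟩
        have hy' : y = xU Δ.hB r t := Units.ext (by rw [hy, xU_val])
        rw [hy']
        have h1 := hμ r hr
        exact GrFil_mono _ zero_le_one h1 (xU_mem_GrFil Δ μ hr.1 (by linarith) t)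
      exact hle hx'
    have := (le_Mf_iff hne ⟨g, hg⟩ μ zero_le_one).1 this
    linarith
  have : Nonempty ↥(D.group F) := ⟨1⟩
  obtain ⟨g₀, μ₀, T, hT, hq₀, hM₀, hmax, huniq⟩ := opt (G := ↥(D.group F)) (qf D) (Mf V)
    continuous_qf (fun μ hμ => qf_pos hD hμ) qf_smul qf_mid (Mf_cont hne) (Mf_hom hne)
    (Mf_conc hne) hpos
  -- the dominant conjugate
  obtain ⟨n₁, hn₁, μp, hdom, hTr, hqp⟩ := exists_dominant hD F μ₀
  have hW : cj V g₀.1 ≤ GrFil (degI D μ₀) T := (le_Mf_iff hne g₀ μ₀ hT.le).2 (le_of_eq hM₀.symm)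
  have hn₁G : n₁ ∈ D.group F := Δ.monomial_le_group hn₁
  refine ⟨g₀.1 * n₁, Subgroup.mul_mem _ g₀.2 hn₁G, zeroSet D μp, ?_, ?_, ?_⟩
  · -- `J` is proper
    by_contra hcon
    simp only [not_exists, not_and, not_not] at hcon
    have hz : ∀ r < D.nroots, lev D μp r = 0 := by
      have hposz : ∀ r, D.IsPosRoot r → lev D μp r = 0 := by
        intro r hr
        rw [lev_eq_zero_iff hD hdom hr]
        exact ⟨hr.1, fun i hi hiJ => absurd (hcon i hi) hiJ⟩
      intro r hr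
      rcases Δ.pos_or_neg hr with h | h
      · exact hposz r h
      · have h1 : r < D.nroots / 2 := ((Δ.hsign r hr).2).1 h
        have h2 := Δ.hnegpos hr h1
        have h3 : D.neg r < D.nroots := by
          rw [Δ.neg_eq hr]; omega
        have h4 : D.IsPosRoot (D.neg r) := ((Δ.hsign _ h3).1).2 h2
        have h5 := lev_neg Δ μp h3
        rw [(Δ.hB.neg r hr).2.2] at h5
        rw [h5, hposz _ h4, neg_zero]
    have : qf D μp = 0 := by
      unfold qf
      apply Finset.sum_eq_zero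
      intro r _
      rw [hz r.val r.isLt]; ring
    rw [hqp, hq₀] at this
    exact one_ne_zero this
  · -- the normaliser
    intro x hx
    obtain ⟨hxN, hxG⟩ := Subgroup.mem_inf.1 hx
    set y : GL D.Idx F := g₀.1⁻¹ * x * g₀.1 with hy
    have hyG : y ∈ D.group F :=
      Subgroup.mul_mem _ (Subgroup.mul_mem _ (Subgroup.inv_mem _ g₀.2) hxG) g₀.2
    -- `y` lies in `GrPar μ₀`
    have hyP : y ∈ GrPar (degI D μ₀) := by
      have hy'G : n₁⁻¹ * y * n₁ ∈ D.group F :=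
        Subgroup.mul_mem _ (Subgroup.mul_mem _ (Subgroup.inv_mem _ hn₁G) hyG) hn₁G
      obtain ⟨b, hb, m, hm, u, hu, e⟩ := Δ.exists_normal_form hy'G
      have huB : u ∈ D.borelSubgroup F :=
        Δ.posUnipotent_le_borel (Δ.unegGen_le_posUnipotent m hu)
      have hBP : ∀ c ∈ D.borelSubgroup F, n₁ * c * n₁⁻¹ ∈ GrPar (degI D μ₀) := fun c hc =>
        hTr.conj_mem_GrPar (borel_le_GrPar hD hdom hc)
      have hBG : ∀ c ∈ D.borelSubgroup F, n₁ * c * n₁⁻¹ ∈ D.group F := fun c hc =>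
        Subgroup.mul_mem _ (Subgroup.mul_mem _ hn₁G (Δ.borel_le_group hc)) (Subgroup.inv_mem _ hn₁G)
      set P := n₁ * b * n₁⁻¹ with hPdef
      set P' := n₁ * u * n₁⁻¹ with hP'def
      set m' := n₁ * m * n₁⁻¹ with hm'def
      have hm'N : m' ∈ D.monomialSubgroup F :=
        Subgroup.mul_mem _ (Subgroup.mul_mem _ hn₁ hm) (Subgroup.inv_mem _ hn₁)
      have hyeq : y = P * m' * P' := by
        have : y = n₁ * (n₁⁻¹ * y * n₁) * n₁⁻¹ := by group
        rw [this, e, hPdef, hP'def, hm'def]; group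
      obtain ⟨μ₂, hTr₂, hq₂⟩ := monomial_Tr Δ hm'N μ₀
      -- the two containments for `g' = g₀ P`
      let g' : ↥(D.group F) := ⟨g₀.1 * P, Subgroup.mul_mem _ g₀.2 (hBG b hb)⟩
      have hPn := GrPar_le_normalizer (F := F) (degI D μ₀) T
      have hA : cj V g'.1 ≤ GrFil (degI D μ₀) T := by
        show cj V (g₀.1 * P) ≤ _
        rw [cj_mul]
        intro z hz
        rw [mem_cj] at hz
        have h1 := hW hz
        have h2 := hPn (Subgroup.inv_mem _ (hBP b hb))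
        rw [Subgroup.mem_normalizer_iff] at h2
        have h3 := (h2 _).1 h1
        have e : P⁻¹ * (P * z * P⁻¹) * P⁻¹⁻¹ = z := by group
        rwa [e] at h3
      have hB' : cj V g'.1 ≤ GrFil (degI D μ₂) T := by
        show cj V (g₀.1 * P) ≤ _
        rw [cj_mul]
        intro z hz
        rw [mem_cj] at hz
        -- `w = P z P⁻¹ ∈ W`, and `y⁻¹ W y = W`
        set w := P * z * P⁻¹ with hw
        have hwy : y⁻¹ * w * y ∈ cj V g₀.1 := by
          rw [mem_cj] at hz ⊢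
          have e : g₀.1 * (y⁻¹ * w * y) * g₀.1⁻¹ = x⁻¹ * (g₀.1 * w * g₀.1⁻¹) * x := by
            rw [hy]; group
          rw [e]
          have hxN' := Subgroup.inv_mem _ hxN
          rw [Subgroup.mem_normalizer_iff] at hxN'
          have := (hxN' _).1 hz
          rwa [inv_inv] at this
        have h1 := hW hwy
        -- conjugate by `P'`
        have h2 := hPn (hBP u huB)
        rw [Subgroup.mem_normalizer_iff] at h2
        have h3 := (h2 _).1 h1
        -- `P' y⁻¹ w y P'⁻¹ = m'⁻¹ P⁻¹ w P m' = m'⁻¹ z m'`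
        have e : P' * (y⁻¹ * w * y) * P'⁻¹ = m'⁻¹ * z * m'⁻¹⁻¹ := by
          rw [hyeq, hw]; group
        rw [e] at h3
        have h4 := hTr₂.conj_mem_GrFil h3
        have e2 : m' * (m'⁻¹ * z * m'⁻¹⁻¹) * m'⁻¹ = z := by group
        rwa [e2] at h4
      have hT1 : T ≤ Mf V g' μ₀ := (le_Mf_iff hne g' μ₀ hT.le).1 hA
      have hT2 : T ≤ Mf V g' μ₂ := (le_Mf_iff hne g' μ₂ hT.le).1 hB'
      have hμ : μ₀ = μ₂ := huniq g' μ₀ μ₂ hq₀ (by rw [hq₂, hq₀]) hT1 hT2
      rw [← hμ] at hTr₂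
      have hm'P : m' ∈ GrPar (degI D μ₀) := Gr0_le_GrPar _ hTr₂.mem_Gr0
      rw [hyeq]
      exact Subgroup.mul_mem _ (Subgroup.mul_mem _ (hBP b hb) hm'P) (hBP u huB)
    -- conclusion
    have h1 : n₁⁻¹ * y * n₁ ∈ GrPar (degI D μp) := by
      have := hTr.symm.conj_mem_GrPar hyP
      rwa [inv_inv] at this
    have h2 : n₁⁻¹ * y * n₁ ∈ D.group F :=
      Subgroup.mul_mem _ (Subgroup.mul_mem _ (Subgroup.inv_mem _ hn₁G) hyG) hn₁G
    have h3 := GrPar_inf_group_le hD hdom (Subgroup.mem_inf.2 ⟨h1, h2⟩)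
    rw [Subgroup.mem_map]
    refine ⟨_, h3, ?_⟩
    simp only [MulEquiv.coe_toMonoidHom, MulAut.conj_apply]
    rw [hy]; group
  · -- `V` lies in the radical
    intro v hv
    have h0 : g₀.1⁻¹ * v * g₀.1 ∈ cj V g₀.1 := by
      rw [mem_cj]
      have e : g₀.1 * (g₀.1⁻¹ * v * g₀.1) * g₀.1⁻¹ = v := by group
      rwa [e]
    have h1 := hW h0
    have h2 : n₁⁻¹ * (g₀.1⁻¹ * v * g₀.1) * n₁ ∈ GrFil (degI D μp) T := by
      have := hTr.symm.conj_mem_GrFil h1
      rwa [inv_inv] at this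
    have h3 : n₁⁻¹ * (g₀.1⁻¹ * v * g₀.1) * n₁ ∈ D.group F :=
      Subgroup.mul_mem _ (Subgroup.mul_mem _ (Subgroup.inv_mem _ hn₁G)
        (Subgroup.mul_mem _ (Subgroup.mul_mem _ (Subgroup.inv_mem _ g₀.2) (hVG hv)) g₀.2)) hn₁G
    have h4 := GrFil_inf_group_le hD hdom hT (Subgroup.mem_inf.2 ⟨h2, h3⟩)
    rw [Subgroup.mem_map]
    refine ⟨_, h4, ?_⟩
    simp only [MulEquiv.coe_toMonoidHom, MulAut.conj_apply]
    group

end Cfsg.Agent.Helper28.BT
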