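import Mathlib
import Cfsg.Prelude.Def_LieTypeDatum
import Cfsg.Agent.Helper28.FieldO1

set_option autoImplicit false
set_option linter.unusedSectionVars false

/-! Conjugating a similarity-induced automorphism by a semisimilarity-induced one: the result is
induced by a similarity with the same square class of multiplier and the same sign. -/

namespace Cfsg.Agent.Helper28.GC

open Matrix Cfsg.Agent.Helper28.SSim Cfsg.Agent.Helper28.Sg Cfsg.Agent.Helper28.PG
  Cfsg.Agent.Helper28.FO

variable {F : Type*} [Field F] {ι : Type} [Fintype ι] [DecidableEq ι]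

theorem quadraticChar_ringEquiv [Fintype F] [DecidableEq F] (σ : F ≃+* F) (x : F) :
    quadraticChar F (σ x) = quadraticChar F x := by
  by_cases hx : x = 0
  · rw [hx, map_zero]
  · have hσx : σ x ≠ 0 := fun h => hx (by simpa using h)
    by_cases hs : IsSquare x
    · have hs' : IsSquare (σ x) := by
        obtain ⟨r, rfl⟩ := hs
        exact ⟨σ r, map_mul σ r r⟩
      rw [(quadraticChar_one_iff_isSquare hx).2 hs, (quadraticChar_one_iff_isSquare hσx).2 hs']
    · have hs' : ¬ IsSquare (σ x) := by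
        rintro ⟨r, hr⟩
        apply hs
        refine ⟨σ.symm r, ?_⟩
        rw [← map_mul, ← hr]
        simp
      rw [quadraticChar_neg_one_iff_not_isSquare.2 hs,
        quadraticChar_neg_one_iff_not_isSquare.2 hs']

theorem conj_cG (Q : QuadraticForm F (ι → F)) [Fintype F] [DecidableEq F]
    (hQ : (QuadraticMap.polarBilin Q).Nondegenerate) (hex : ∃ v : ι → F, Q v ≠ 0) {k : ℕ}
    (hk : Fintype.card ι = 2 * k) {g : GL ι F} {σ : F ≃+* F}
    (hp : Cfsg.IsSemisimilarityPair (⇑Q) g σ) (h : ↥(GO Q)) :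
    ∃ h' : ↥(GO Q), GC.autOf (⇑Q) hp * cG Q h * (GC.autOf (⇑Q) hp)⁻¹ = cG Q h' ∧
      chi Q h' = chi Q h ∧ sgn Q k h' = sgn Q k h := by
  obtain ⟨c, hc⟩ := hp
  have hp : Cfsg.IsSemisimilarityPair (⇑Q) g σ := ⟨c, hc⟩
  -- the conjugated similarity
  set hg : GL ι F := g * mapGL σ (h : GL ι F) * g⁻¹ with hhg
  have hmul : ∀ v : ι → F, Q ((hg : Matrix ι ι F) *ᵥ v) = σ (mu Q h : F) * Q v := by
    intro v
    set u : ι → F := fun i => σ.symm ((((g⁻¹ : GL ι F) : Matrix ι ι F) *ᵥ v) i) with hu
    have hv : v = (g : Matrix ι ι F) *ᵥ (fun i => σ (u i)) := by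
      rw [hu]
      simp only [RingEquiv.apply_symm_apply]
      exact (mulVec_inv_mulVec g v).symm
    have h1 : (hg : Matrix ι ι F) *ᵥ v =
        (g : Matrix ι ι F) *ᵥ (fun i => σ ((((h : GL ι F) : Matrix ι ι F) *ᵥ u) i)) := by
      rw [hhg, Units.val_mul, Units.val_mul, ← Matrix.mulVec_mulVec, ← Matrix.mulVec_mulVec,
        mapGL_val, ← map_mulVec'']
      congr 2
      rw [hu]
      simp only [RingEquiv.apply_symm_apply]
    rw [h1, hc, mu_spec, map_mul]
    conv_rhs => rw [hv, hc]
    ring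
  have hmem : hg ∈ GO Q :=
    ⟨Units.map (σ : F →* F) (mu Q h), fun v => by rw [hmul]; rfl⟩
  set h' : ↥(GO Q) := ⟨hg, hmem⟩ with hh'
  have hmu : mu Q h' = Units.map (σ : F →* F) (mu Q h) :=
    (mu_unique Q hex h' _ (fun v => by rw [hmul]; rfl)).symm
  have hmuv : (mu Q h' : F) = σ (mu Q h : F) := by rw [hmu]; rfl
  refine ⟨h', ?_, ?_, ?_⟩
  · -- the conjugation formula
    have e1 := induced_mul (⇑Q) hp (semisim_GO h) (induced_autOf (⇑Q) hp) (induced_cG h)
    have hp1 := semisim_mul (⇑Q) hp (semisim_GO h)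
    have e2 := induced_inv (⇑Q) hp (induced_autOf (⇑Q) hp)
    have e3 := induced_mul (⇑Q) hp1 (semisim_inv (⇑Q) hp) e1 e2
    have hτ : σ.symm.trans ((RingEquiv.refl F).trans σ) = RingEquiv.refl F := by
      ext x
      simp
    have hgl : g * mapGL σ (h : GL ι F) * mapGL ((RingEquiv.refl F).trans σ) (mapGL σ.symm g⁻¹)
        = hg := by
      have : (RingEquiv.refl F).trans σ = σ := by
        ext x
        rfl
      rw [this, mapGL_symm_apply]
    rw [hτ, hgl] at e3
    exact (induced_iff Q hg hmem _).1 e3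
  · unfold chi
    rw [hmuv, quadraticChar_ringEquiv]
  · have hdet : ((h' : GL ι F) : Matrix ι ι F).det = σ ((h : GL ι F) : Matrix ι ι F).det := by
      show (hg : Matrix ι ι F).det = _
      rw [hhg, Units.val_mul, Units.val_mul, Matrix.det_mul, Matrix.det_mul, mapGL_val]
      have h1 : ((g⁻¹ : GL ι F) : Matrix ι ι F).det * (g : Matrix ι ι F).det = 1 := by
        rw [← Matrix.det_mul, ← Units.val_mul, inv_mul_cancel, Units.val_one, Matrix.det_one]
      have h2 : (((h : GL ι F) : Matrix ι ι F).map σ).det = σ ((h : GL ι F) : Matrix ι ι F).det := by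
        have := RingHom.map_det (σ : F →+* F) ((h : GL ι F) : Matrix ι ι F)
        exact this.symm
      rw [h2]
      linear_combination (σ ((h : GL ι F) : Matrix ι ι F).det) * h1
    have hsg : sgn Q k h' = σ (sgn Q k h) := by
      unfold sgn
      rw [hdet, hmuv, map_mul, map_pow, map_inv₀]
    rw [hsg]
    rcases sgn_cases Q hQ hk h with h1 | h1
    · rw [h1, map_one]
    · rw [h1, map_neg, map_one]

end Cfsg.Agent.Helper28.GC
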