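import Mathlib
import Cfsg.Prelude.Def_ChevD4
import Cfsg.Prelude.Def_ChevStructure

set_option autoImplicit false

/-! Integer `8 × 8` root matrices `A_r = c (E_{a,b} - E_{b',a'})` realising the frozen structure
constants of `chevD4` in the natural representation of `so₈⁺`; indices `0..3 = e_i`, `4..7 = f_i`,
`i' = i ± 4`. All identities are checked by kernel evaluation. -/

namespace Cfsg.Agent.Helper28.D4T

open Cfsg.Lie

/-- root data `(a, b, c)` -/
def rd : ℕ → ℕ × ℕ × ℤ
  | 0 => (4, 1, -1)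
  | 1 => (4, 2, -1)
  | 2 => (3, 0, 1)
  | 3 => (4, 3, -1)
  | 4 => (2, 0, -1)
  | 5 => (1, 0, 1)
  | 6 => (5, 2, 1)
  | 7 => (3, 1, -1)
  | 8 => (5, 3, 1)
  | 9 => (2, 1, 1)
  | 10 => (3, 2, 1)
  | 11 => (6, 3, -1)
  | 12 => (2, 7, 1)
  | 13 => (2, 3, 1)
  | 14 => (1, 2, 1)
  | 15 => (1, 7, -1)
  | 16 => (1, 3, -1)
  | 17 => (1, 6, -1)
  | 18 => (0, 1, 1)
  | 19 => (0, 2, -1)
  | 20 => (0, 7, 1)
  | 21 => (0, 3, 1)
  | 22 => (0, 6, 1)
  | 23 => (0, 5, 1)
  | _ => (0, 0, 0)

/-- partner index -/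
def pr (i : ℕ) : ℕ := if i < 4 then i + 4 else i - 4

/-- entry `(i, j)` of `A_r` -/
def ent (r i j : ℕ) : ℤ :=
  if i = (rd r).1 ∧ j = (rd r).2.1 then (rd r).2.2
  else if i = pr (rd r).2.1 ∧ j = pr (rd r).1 then - (rd r).2.2 else 0

/-- product of `8 × 8` integer matrices given as functions on `ℕ` -/
def mm (A B : ℕ → ℕ → ℤ) (i j : ℕ) : ℤ :=
  A i 0 * B 0 j + A i 1 * B 1 j + A i 2 * B 2 j + A i 3 * B 3 j +
  A i 4 * B 4 j + A i 5 * B 5 j + A i 6 * B 6 j + A i 7 * B 7 j

/-- `A_r * A_r = 0` -/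
theorem sq_zero : ∀ r < 24, ∀ i < 8, ∀ j < 8, mm (ent r) (ent r) i j = 0 := by
  decide +kernel

/-- `A_r A_{-r} A_r = A_r` -/
theorem aba_self : ∀ r < 24, ∀ i < 8, ∀ j < 8,
    mm (mm (ent r) (ent (chevD4.neg r))) (ent r) i j = ent r i j := by
  decide +kernel

/-- all entries `(i, j)`, `i, j < 8`, satisfy `P` -/
def all8 (P : ℕ → ℕ → Bool) : Bool :=
  (List.range 8).all fun i => (List.range 8).all fun j => P i j

theorem all8_spec {P : ℕ → ℕ → Bool} (h : all8 P = true) : ∀ i < 8, ∀ j < 8, P i j = true := by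
  intro i hi j hj
  unfold all8 at h
  rw [List.all_eq_true] at h
  have h1 := h i (List.mem_range.2 hi)
  rw [List.all_eq_true] at h1
  exact h1 j (List.mem_range.2 hj)

/-- the check `A_r A_s A_r = 0` -/
def chkA (r s : ℕ) : Bool :=
  (s == r) || (s == chevD4.neg r) || all8 fun i j => decide (mm (mm (ent r) (ent s)) (ent r) i j = 0)

theorem chkA_all : ∀ r < 24, ∀ s < 24, chkA r s = true := by
  decide +kernel

/-- `A_r A_s A_r = 0` for `s ≠ ± r` -/
theorem aba_zero {r s : ℕ} (hr : r < 24) (hs : s < 24) (h1 : s ≠ r) (h2 : s ≠ chevD4.neg r) :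
    ∀ i < 8, ∀ j < 8, mm (mm (ent r) (ent s)) (ent r) i j = 0 := by
  have h := chkA_all r hr s hs
  unfold chkA at h
  simp only [Bool.or_eq_true, beq_iff_eq] at h
  rcases h with (h | h) | h
  · exact absurd h h1
  · exact absurd h h2
  · intro i hi j hj
    have := all8_spec h i hi j hj
    simpa using this

/-- the check of the commutator `[A_r, A_s]` against the frozen table of commutator terms -/
def chkC (r s : ℕ) : Bool :=
  (s == r) || (s == chevD4.neg r) ||
  match chevD4.commTerms r s with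
  | [] => all8 fun i j => decide (mm (ent r) (ent s) i j - mm (ent s) (ent r) i j = 0)
  | [(k, N, 1, 1)] => decide (k < 24) && all8 fun i j =>
      decide (mm (ent r) (ent s) i j - mm (ent s) (ent r) i j = N * ent k i j)
  | _ => false

theorem chkC_all : ∀ r < 24, ∀ s < 24, chkC r s = true := by
  decide +kernel

/-- the commutator `[A_r, A_s]` for `s ≠ ± r` matches the frozen table of commutator terms -/
theorem comm_cases {r s : ℕ} (hr : r < 24) (hs : s < 24) (h1 : s ≠ r) (h2 : s ≠ chevD4.neg r) :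
    (chevD4.commTerms r s = [] ∧
      ∀ i < 8, ∀ j < 8, mm (ent r) (ent s) i j - mm (ent s) (ent r) i j = 0) ∨
    (∃ (k : ℕ) (N : ℤ), k < 24 ∧ chevD4.commTerms r s = [(k, N, 1, 1)] ∧
      ∀ i < 8, ∀ j < 8, mm (ent r) (ent s) i j - mm (ent s) (ent r) i j = N * ent k i j) := by
  have h := chkC_all r hr s hs
  unfold chkC at h
  simp only [Bool.or_eq_true, beq_iff_eq] at h
  rcases h with (h | h) | h
  · exact absurd h h1
  · exact absurd h h2
  · split at h
    · rename_i heq
      left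
      refine ⟨heq, fun i hi j hj => ?_⟩
      have := all8_spec h i hi j hj
      simpa using this
    · rename_i k N heq
      right
      rw [Bool.and_eq_true] at h
      refine ⟨k, N, by simpa using h.1, heq, fun i hi j hj => ?_⟩
      have := all8_spec h.2 i hi j hj
      simpa using this
    · exact absurd h (by simp)

end Cfsg.Agent.Helper28.D4T
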