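import Mathlib
import Cfsg.Agent.Helper28.D4Tab

set_option autoImplicit false

/-! The root matrices of `D₄` in the natural `8`-dimensional representation over a commutative
ring, and the matrix forms of Steinberg's relations. -/

namespace Cfsg.Agent.Helper28.D4M

open Cfsg.Lie Cfsg.Agent.Helper28.D4T

/-- the index type of `quadFormPlus 4` -/
abbrev I8 : Type := Fin 4 ⊕ Fin 4

/-- code of an index: `e_i ↦ i`, `f_i ↦ i + 4` -/
def code : I8 → ℕ
  | Sum.inl i => i.val
  | Sum.inr i => i.val + 4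

theorem code_lt (i : I8) : code i < 8 := by
  rcases i with i | i <;> simp only [code] <;> omega

theorem code_injective : Function.Injective code := by
  intro i j h
  rcases i with i | i <;> rcases j with j | j <;> simp only [code] at h
  · congr 1; exact Fin.ext h
  · omega
  · omega
  · congr 1; exact Fin.ext (by omega)

section ring

variable (F : Type*) [CommRing F]

/-- the matrix over `F` of an integer-valued function on codes -/
def MF (f : ℕ → ℕ → ℤ) : Matrix I8 I8 F := Matrix.of fun i j => ((f (code i) (code j) : ℤ) : F)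

theorem MF_apply (f : ℕ → ℕ → ℤ) (i j : I8) : MF F f i j = ((f (code i) (code j) : ℤ) : F) := rfl

theorem sum_code (g : ℕ → F) :
    ∑ k : I8, g (code k) = g 0 + g 1 + g 2 + g 3 + g 4 + g 5 + g 6 + g 7 := by
  rw [Fintype.sum_sum_type, Fin.sum_univ_four, Fin.sum_univ_four]
  simp only [code, Fin.val_zero, Fin.val_one, Fin.val_two, zero_add]
  norm_num [Fin.val]
  ring

theorem MF_mul (f g : ℕ → ℕ → ℤ) : MF F f * MF F g = MF F (mm f g) := by
  ext i j
  rw [Matrix.mul_apply, MF_apply]
  simp only [MF_apply]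
  rw [sum_code F (fun k => ((f (code i) k : ℤ) : F) * ((g k (code j) : ℤ) : F))]
  unfold mm
  push_cast
  ring

theorem MF_congr {f g : ℕ → ℕ → ℤ} (h : ∀ i < 8, ∀ j < 8, f i j = g i j) : MF F f = MF F g := by
  ext i j
  rw [MF_apply, MF_apply, h _ (code_lt i) _ (code_lt j)]

theorem MF_zero : MF F (fun _ _ => 0) = 0 := by
  ext i j
  simp [MF_apply]

theorem MF_sub (f g : ℕ → ℕ → ℤ) : MF F f - MF F g = MF F (fun i j => f i j - g i j) := by
  ext i j
  simp [MF_apply]

theorem MF_smul (N : ℤ) (f : ℕ → ℕ → ℤ) : (N : F) • MF F f = MF F (fun i j => N * f i j) := by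
  ext i j
  simp [MF_apply]

/-- the root matrix `A_r` over `F` -/
def A (r : ℕ) : Matrix I8 I8 F := MF F (ent r)

theorem A_sq {r : ℕ} (hr : r < 24) : A F r * A F r = 0 := by
  unfold A
  rw [MF_mul, ← MF_zero]
  exact MF_congr F (sq_zero r hr)

theorem A_aba_self {r : ℕ} (hr : r < 24) : A F r * A F (chevD4.neg r) * A F r = A F r := by
  unfold A
  rw [MF_mul, MF_mul]
  exact MF_congr F (aba_self r hr)

theorem A_aba_zero {r s : ℕ} (hr : r < 24) (hs : s < 24) (h1 : s ≠ r) (h2 : s ≠ chevD4.neg r) :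
    A F r * A F s * A F r = 0 := by
  unfold A
  rw [MF_mul, MF_mul, ← MF_zero]
  exact MF_congr F (aba_zero hr hs h1 h2)

theorem A_comm {r s : ℕ} (hr : r < 24) (hs : s < 24) (h1 : s ≠ r) (h2 : s ≠ chevD4.neg r) :
    (chevD4.commTerms r s = [] ∧ A F r * A F s - A F s * A F r = 0) ∨
    (∃ (k : ℕ) (N : ℤ), k < 24 ∧ chevD4.commTerms r s = [(k, N, 1, 1)] ∧
      A F r * A F s - A F s * A F r = (N : F) • A F k) := by
  rcases comm_cases hr hs h1 h2 with ⟨h, hc⟩ | ⟨k, N, hk, h, hc⟩
  · left
    refine ⟨h, ?_⟩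
    unfold A
    rw [MF_mul, MF_mul, MF_sub, ← MF_zero]
    exact MF_congr F hc
  · right
    refine ⟨k, N, hk, h, ?_⟩
    unfold A
    rw [MF_mul, MF_mul, MF_sub, MF_smul]
    exact MF_congr F hc

theorem A_of_ge {r : ℕ} (hr : 24 ≤ r) : A F r = 0 := by
  unfold A
  rw [← MF_zero]
  apply MF_congr
  intro i _ j _
  have : rd r = (0, 0, 0) := by
    unfold rd
    split <;> first | omega | rfl
  unfold ent
  rw [this]
  simp

end ring

end Cfsg.Agent.Helper28.D4M
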