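import Mathlib

set_option autoImplicit false

/-! Generic ring identities behind Steinberg's relations for "square-zero" root elements. -/

namespace Cfsg.Agent.Helper28.D4R

section comm

variable {R : Type*} [Ring R]

/-- the commutator of two unipotent elements `1 + a`, `1 + b` with `a² = b² = aba = bab = 0` -/
theorem comm_formula (a b : R) (ha : a * a = 0) (hb : b * b = 0) (haba : a * b * a = 0)
    (hbab : b * a * b = 0) :
    (1 - b) * (1 - a) * (1 + b) * (1 + a) = 1 + (b * a - a * b) := by
  have h : (1 - b) * (1 - a) * (1 + b) * (1 + a) =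
      1 + (b * a - a * b) - a * b * a + b * a * b + b * (a * b * a) - a * a - b * b
        - b * b * a + b * (a * a) := by noncomm_ring
  rw [h, ha, hb, haba, hbab]
  simp

theorem one_add_mul_one_sub (a : R) (ha : a * a = 0) : (1 + a) * (1 - a) = 1 := by
  have : (1 + a) * (1 - a) = 1 - a * a := by noncomm_ring
  rw [this, ha, sub_zero]

theorem one_sub_mul_one_add (a : R) (ha : a * a = 0) : (1 - a) * (1 + a) = 1 := by
  have : (1 - a) * (1 + a) = 1 - a * a := by noncomm_ring
  rw [this, ha, sub_zero]

end comm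

section sl2

variable {F : Type*} [Field F] {R : Type*} [Ring R] [Algebra F R]

/-- `n(t) = (1 + t a)(1 - t⁻¹ b)(1 + t a)` -/
def nn (a b : R) (t : F) : R := (1 + t • a) * (1 - t⁻¹ • b) * (1 + t • a)

/-- `h(t) = n(t) n(-1)`, with `n(-1) = (1 - a)(1 + b)(1 - a)` -/
def hh (a b : R) (t : F) : R := nn a b t * nn a b (-1 : F)

variable {a b : R}

theorem nn_eq (ha : a * a = 0) (haba : a * b * a = a) {t : F} (ht : t ≠ 0) :
    nn a b t = 1 - (a * b + b * a) + t • a - t⁻¹ • b := by
  unfold nn
  have e2 : a * (b * a) = a := by rw [← mul_assoc, haba]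
  simp only [mul_add, add_mul, mul_sub, sub_mul, mul_one, one_mul, smul_mul_assoc,
    mul_smul_comm, mul_assoc, ha, e2, smul_zero, add_zero, sub_zero]
  match_scalars <;> field_simp <;> ring

theorem hh_eq (ha : a * a = 0) (hb : b * b = 0) (haba : a * b * a = a) (hbab : b * a * b = b)
    {t : F} (ht : t ≠ 0) :
    hh a b t = 1 - (a * b + b * a) + t • (a * b) + t⁻¹ • (b * a) := by
  unfold hh
  rw [nn_eq ha haba ht, nn_eq ha haba (show (-1 : F) ≠ 0 by simp)]
  have e1 : a * (a * b) = 0 := by rw [← mul_assoc, ha, zero_mul]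
  have e2 : a * (b * a) = a := by rw [← mul_assoc, haba]
  have e3 : b * (a * b) = b := by rw [← mul_assoc, hbab]
  have e4 : b * (b * a) = 0 := by rw [← mul_assoc, hb, zero_mul]
  have e9 : a * (b * (a * b)) = a * b := by rw [e3]
  have e10 : a * (b * (b * a)) = 0 := by rw [e4, mul_zero]
  have e11 : b * (a * (a * b)) = 0 := by rw [e1, mul_zero]
  have e12 : b * (a * (b * a)) = b * a := by rw [e2]
  simp only [mul_add, add_mul, mul_sub, sub_mul, mul_one, one_mul, smul_mul_assoc,
    mul_smul_comm, mul_assoc, ha, hb, e1, e2, e3, e4, e9, e10, e11, e12,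
    smul_zero, sub_zero, add_zero, zero_add, mul_zero, zero_mul]
  match_scalars <;> field_simp <;> ring

theorem hh_mul (ha : a * a = 0) (hb : b * b = 0) (haba : a * b * a = a) (hbab : b * a * b = b)
    {t u : F} (ht : t ≠ 0) (hu : u ≠ 0) : hh a b t * hh a b u = hh a b (t * u) := by
  rw [hh_eq ha hb haba hbab ht, hh_eq ha hb haba hbab hu, hh_eq ha hb haba hbab (mul_ne_zero ht hu)]
  have e1 : a * (a * b) = 0 := by rw [← mul_assoc, ha, zero_mul]
  have e2 : a * (b * a) = a := by rw [← mul_assoc, haba]
  have e3 : b * (a * b) = b := by rw [← mul_assoc, hbab]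
  have e4 : b * (b * a) = 0 := by rw [← mul_assoc, hb, zero_mul]
  have e9 : a * (b * (a * b)) = a * b := by rw [e3]
  have e10 : a * (b * (b * a)) = 0 := by rw [e4, mul_zero]
  have e11 : b * (a * (a * b)) = 0 := by rw [e1, mul_zero]
  have e12 : b * (a * (b * a)) = b * a := by rw [e2]
  simp only [mul_add, add_mul, mul_sub, sub_mul, mul_one, one_mul, smul_mul_assoc,
    mul_smul_comm, mul_assoc, e9, e10, e11, e12, smul_zero, sub_zero, add_zero, zero_add, mul_zero, zero_mul]
  match_scalars <;> field_simp <;> ring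

end sl2

end Cfsg.Agent.Helper28.D4R
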