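import Mathlib
import Cfsg.Agent.Helper28.D4Mat
import Cfsg.Agent.Helper28.D4Ring

set_option autoImplicit false

/-! Steinberg's relations for the root matrices `X_r(t) = 1 + t A_r` of `D₄`. -/

namespace Cfsg.Agent.Helper28.D4M

open Cfsg.Lie Cfsg.Agent.Helper28.D4T Cfsg.Agent.Helper28.D4R

variable (F : Type*) [Field F]

theorem A_sq' (r : ℕ) : A F r * A F r = 0 := by
  by_cases hr : r < 24
  · exact A_sq F hr
  · rw [A_of_ge F (by omega), mul_zero]

/-- the root matrix `X_r(t) = 1 + t A_r` -/
def X (r : ℕ) (t : F) : Matrix I8 I8 F := 1 + t • A F r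

theorem X_zero (r : ℕ) : X F r 0 = 1 := by
  unfold X
  rw [zero_smul, add_zero]

theorem X_add (r : ℕ) (t u : F) : X F r t * X F r u = X F r (t + u) := by
  unfold X
  rw [mul_add, add_mul, add_mul, mul_one, one_mul, mul_one, smul_mul_smul_comm, A_sq', smul_zero,
    add_zero, add_smul, add_assoc]

theorem X_neg_mul (r : ℕ) (t : F) : X F r (-t) * X F r t = 1 := by
  rw [X_add, neg_add_cancel, X_zero]

theorem X_mul_neg (r : ℕ) (t : F) : X F r t * X F r (-t) = 1 := by
  rw [X_add, add_neg_cancel, X_zero]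

theorem X_of_ge {r : ℕ} (hr : 24 ≤ r) (t : F) : X F r t = 1 := by
  unfold X
  rw [A_of_ge F hr, smul_zero, add_zero]

/-- the matrix of a word in root elements -/
def wordX (w : List (ℕ × F)) : Matrix I8 I8 F := (w.map fun p => X F p.1 p.2).prod

theorem neg_lt : ∀ r < 24, chevD4.neg r < 24 := by decide +kernel

theorem neg_neg : ∀ r < 24, chevD4.neg (chevD4.neg r) = r := by decide +kernel

theorem neg_ne : ∀ r < 24, chevD4.neg r ≠ r := by decide +kernel

/-- relation (R2) -/
theorem X_comm {r s : ℕ} (hr : r < 24) (hs : s < 24) (h1 : s ≠ r) (h2 : s ≠ chevD4.neg r)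
    (t u : F) :
    X F s (-u) * X F r (-t) * X F s u * X F r t = wordX F (chevD4.commWord F r s t u) := by
  have hrs : r ≠ s := fun h => h1 h.symm
  have hrs' : r ≠ chevD4.neg s := by
    intro h
    apply h2
    rw [h, neg_neg s hs]
  have key : X F s (-u) * X F r (-t) * X F s u * X F r t =
      1 + ((u • A F s) * (t • A F r) - (t • A F r) * (u • A F s)) := by
    have := comm_formula (t • A F r) (u • A F s)
      (by rw [smul_mul_smul_comm, A_sq', smul_zero])
      (by rw [smul_mul_smul_comm, A_sq', smul_zero])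
      (by rw [smul_mul_smul_comm, smul_mul_smul_comm, A_aba_zero F hr hs h1 h2, smul_zero])
      (by rw [smul_mul_smul_comm, smul_mul_smul_comm, A_aba_zero F hs hr hrs hrs', smul_zero])
    rw [← this]
    unfold X
    simp only [neg_smul, sub_eq_add_neg]
  rw [key]
  unfold wordX ChevalleyDatum.commWord
  rcases A_comm F hr hs h1 h2 with ⟨h, hc⟩ | ⟨k, N, -, h, hc⟩
  · rw [h]
    simp only [List.map_nil, List.prod_nil]
    rw [smul_mul_smul_comm, smul_mul_smul_comm, mul_comm u t, ← smul_sub,
      ← neg_sub (A F r * A F s), hc, neg_zero, smul_zero, add_zero]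
  · rw [h]
    simp only [List.map_cons, List.map_nil, List.prod_cons, List.prod_nil, mul_one, pow_one]
    unfold X
    rw [smul_mul_smul_comm, smul_mul_smul_comm, mul_comm u t, ← smul_sub,
      ← neg_sub (A F r * A F s), hc, smul_neg, smul_smul]
    congr 1
    rw [← neg_smul]
    congr 1
    ring

/-- relation (R3) -/
theorem X_h {r : ℕ} (hr : r < 24) {t u : F} (ht : t ≠ 0) (hu : u ≠ 0) :
    wordX F (chevD4.hWord r t) * wordX F (chevD4.hWord r u) = wordX F (chevD4.hWord r (t * u)) := by
  have hw : ∀ v : F, wordX F (chevD4.hWord r v) = hh (A F r) (A F (chevD4.neg r)) v := by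
    intro v
    unfold wordX ChevalleyDatum.hWord ChevalleyDatum.nWord hh nn X
    simp only [List.cons_append, List.nil_append, List.map_cons, List.map_nil, List.prod_cons,
      List.prod_nil, mul_one, neg_smul, sub_eq_add_neg, mul_assoc]
  rw [hw, hw, hw]
  have hn := neg_lt r hr
  have h2 : A F (chevD4.neg r) * A F r * A F (chevD4.neg r) = A F (chevD4.neg r) := by
    have := A_aba_self F hn
    rwa [neg_neg r hr] at this
  exact hh_mul (A_sq' F r) (A_sq' F _) (A_aba_self F hr) h2 ht hu

end Cfsg.Agent.Helper28.D4M
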