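import Mathlib
import Cfsg.Prelude.Def_Steinberg
import Cfsg.Agent.Helper28.D4Rel
import Cfsg.Agent.Helper28.Siegel6
import Cfsg.Agent.Helper28.Spin6

set_option autoImplicit false
set_option linter.unusedSectionVars false

/-! The root elements of `D₄` inside `Ω(quadFormPlus 4 F)` and the homomorphism from the Steinberg
group. -/

namespace Cfsg.Agent.Helper28.D4H

open Matrix Cfsg.Lie Cfsg.Agent.Helper28.D4T Cfsg.Agent.Helper28.D4M
open Cfsg.Agent.Helper28.Spin Cfsg.Agent.Helper28.Sg

variable {F : Type*} [Field F]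

section plus

variable {m : ℕ}

theorem hypPair (j : Fin m) : IsHypPair (QfPlus m F) (Sum.inl j) (Sum.inr j) := by
  classical
  intro x s t
  simp only [QfPlus_coe, Cfsg.quadFormPlus, Pi.add_apply, Pi.smul_apply, Pi.single_apply,
    smul_eq_mul, Sum.inl.injEq, Sum.inr.injEq, reduceCtorEq, if_false, mul_zero, add_zero, mul_ite,
    mul_one]
  have : ∀ k : Fin m, (x (Sum.inl k) + if k = j then s else 0) *
      (x (Sum.inr k) + if k = j then t else 0)
      = x (Sum.inl k) * x (Sum.inr k) + ((if k = j then s * x (Sum.inr k) else 0) +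
        (if k = j then t * x (Sum.inl k) else 0) + (if k = j then s * t else 0)) := by
    intro k
    split_ifs <;> ring
  simp only [this, Finset.sum_add_distrib, Finset.sum_ite_eq', Finset.mem_univ, if_true]
  ring

theorem Q_single (p : Fin m ⊕ Fin m) : QfPlus m F (Pi.single p 1) = 0 := by
  rcases p with j | j
  · exact Q_single_left (hypPair j)
  · exact Q_single_right (hypPair j)

theorem B_single (p : Fin m ⊕ Fin m) (y : Fin m ⊕ Fin m → F) :
    B (QfPlus m F) (Pi.single p 1) y = y p.swap := by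
  rcases p with j | j
  · exact polar_single_left (hypPair j) y
  · exact polar_single_right (hypPair j) y

theorem Q_smul_single (c : F) (p : Fin m ⊕ Fin m) : QfPlus m F (c • Pi.single p 1) = 0 := by
  rw [Q_smul, Q_single, mul_zero]

/-- the matrix of a coordinate Siegel transformation -/
theorem siegM_single (p q : Fin m ⊕ Fin m) (c : F) (i j : Fin m ⊕ Fin m) :
    siegM (QfPlus m F) (Pi.single p 1) (c • Pi.single q 1) i j =
      (if i = j then 1 else 0) + (if i = q ∧ j = p.swap then c else 0)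
        - (if i = p ∧ j = q.swap then c else 0) := by
  have h := congrFun (siegM_mulVec (QfPlus m F) (Pi.single p 1) (c • Pi.single q 1)
    (Pi.single j 1)) i
  rw [Matrix.mulVec_single_one] at h
  rw [show siegM (QfPlus m F) (Pi.single p 1) (c • Pi.single q 1) i j =
    (siegM (QfPlus m F) (Pi.single p 1) (c • Pi.single q 1)).col j i from rfl, h]
  rw [Q_smul_single, zero_mul, zero_smul, sub_zero]
  simp only [B, QuadraticMap.polar_smul_left, smul_eq_mul]
  rw [show QuadraticMap.polar ⇑(QfPlus m F) (Pi.single p 1) (Pi.single j 1) =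
    (Pi.single j 1 : Fin m ⊕ Fin m → F) p.swap from B_single p _,
    show QuadraticMap.polar ⇑(QfPlus m F) (Pi.single q 1) (Pi.single j 1) =
    (Pi.single j 1 : Fin m ⊕ Fin m → F) q.swap from B_single q _]
  simp only [Pi.add_apply, Pi.sub_apply, Pi.smul_apply, Pi.single_apply, smul_eq_mul]
  simp only [ite_and, eq_comm (a := j), mul_ite, ite_mul, mul_one, mul_zero, one_mul, zero_mul]

end plus

section d4

/-- decode an index -/
def dec (n : ℕ) : I8 :=
  if h : n < 4 then Sum.inl ⟨n, h⟩ else Sum.inr ⟨n % 4, Nat.mod_lt _ (by norm_num)⟩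

theorem code_dec {n : ℕ} (h : n < 8) : code (dec n) = n := by
  unfold dec
  split_ifs with h4
  · rfl
  · simp only [code]
    omega

theorem code_swap (i : I8) : code i.swap = pr (code i) := by
  rcases i with i | i
  · show (i : ℕ) + 4 = pr (i : ℕ)
    unfold pr
    rw [if_pos i.2]
  · show (i : ℕ) = pr ((i : ℕ) + 4)
    unfold pr
    rw [if_neg (by omega)]
    omega

theorem eq_dec_iff {n : ℕ} (h : n < 8) (i : I8) : i = dec n ↔ code i = n := by
  constructor
  · rintro rfl
    exact code_dec h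
  · intro hc
    apply code_injective
    rw [hc, code_dec h]

theorem eq_swap_dec_iff {n : ℕ} (h : n < 8) (i : I8) : i = (dec n).swap ↔ code i = pr n := by
  constructor
  · rintro rfl
    rw [code_swap, code_dec h]
  · intro hc
    apply code_injective
    rw [hc, code_swap, code_dec h]

/-- facts on the table of root data -/
theorem rd_facts : ∀ r < 24, (rd r).1 < 8 ∧ (rd r).2.1 < 8 ∧ (rd r).1 ≠ (rd r).2.1 ∧
    (rd r).1 ≠ pr (rd r).2.1 := by
  decide +kernel

/-- the row index `a` of the root `r` -/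
def ra (r : ℕ) : I8 := dec (rd r).1

/-- the column index `b` of the root `r` -/
def rb (r : ℕ) : I8 := dec (rd r).2.1

theorem rb_ne_ra {r : ℕ} (hr : r < 24) : rb r ≠ ra r := by
  obtain ⟨h1, h2, h3, -⟩ := rd_facts r hr
  intro h
  have := congrArg code h
  rw [rb, ra, code_dec h1, code_dec h2] at this
  exact h3 this.symm

/-- the root element `x_r(t)` as an isometry of `quadFormPlus 4 F` -/
noncomputable def Xo (r : ℕ) (hr : r < 24) (t : F) : ↥(Cfsg.isometryGroup F ⇑(QfPlus 4 F)) :=
  siegO (QfPlus 4 F) (Pi.single (rb r).swap 1) (((((rd r).2.2 : ℤ) : F) * t) • Pi.single (ra r) 1)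
    (Q_single _) (by
      simp only [B, QuadraticMap.polar_smul_right, smul_eq_mul]
      rw [show QuadraticMap.polar ⇑(QfPlus 4 F) (Pi.single (rb r).swap 1) (Pi.single (ra r) 1) =
        (Pi.single (ra r) 1 : I8 → F) (rb r).swap.swap from B_single _ _, Sum.swap_swap,
        Pi.single_apply, if_neg (rb_ne_ra hr), mul_zero])

theorem Xo_mat (r : ℕ) (hr : r < 24) (t : F) : mt (QfPlus 4 F) (Xo r hr t) = X F r t := by
  obtain ⟨h1, h2, h3, h4⟩ := rd_facts r hr
  unfold Xo
  rw [siegO_val]
  ext i j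
  rw [siegM_single]
  unfold X A
  rw [Matrix.add_apply, Matrix.smul_apply, MF_apply, Matrix.one_apply, Sum.swap_swap]
  unfold ent
  simp only [rb, ra, eq_dec_iff h1, eq_dec_iff h2, eq_swap_dec_iff h1, eq_swap_dec_iff h2]
  by_cases hC1 : code i = (rd r).1 ∧ code j = (rd r).2.1
  · have hC2 : ¬ (code i = pr (rd r).2.1 ∧ code j = pr (rd r).1) := by
      rintro ⟨h, -⟩
      exact h4 (hC1.1.symm.trans h)
    rw [if_pos hC1, if_neg hC2, if_pos hC1]
    simp only [smul_eq_mul]
    ring
  · rw [if_neg hC1, if_neg hC1]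
    by_cases hC2 : code i = pr (rd r).2.1 ∧ code j = pr (rd r).1
    · rw [if_pos hC2, if_pos hC2]
      simp only [smul_eq_mul]
      push_cast
      ring
    · rw [if_neg hC2, if_neg hC2]
      simp

theorem Xo_ext {g h : ↥(Cfsg.isometryGroup F ⇑(QfPlus 4 F))}
    (H : mt (QfPlus 4 F) g = mt (QfPlus 4 F) h) : g = h :=
  Subtype.ext (Units.ext H)

theorem Xo_add (r : ℕ) (hr : r < 24) (t u : F) : Xo r hr t * Xo r hr u = Xo r hr (t + u) := by
  apply Xo_ext
  rw [mt_mul, Xo_mat, Xo_mat, Xo_mat, X_add]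

theorem Xo_zero (r : ℕ) (hr : r < 24) : Xo r hr (0 : F) = 1 := by
  apply Xo_ext
  rw [Xo_mat, X_zero, mt_one]

theorem Xo_inv (r : ℕ) (hr : r < 24) (t : F) : (Xo r hr t)⁻¹ = Xo r hr (-t) := by
  rw [inv_eq_iff_mul_eq_one, Xo_add, add_neg_cancel, Xo_zero]

end d4

end Cfsg.Agent.Helper28.D4H
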