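import Mathlib
import Cfsg.Agent.Helper28.D4Hom

set_option autoImplicit false
set_option linter.unusedSectionVars false

/-! The homomorphism from the Steinberg group of type `D₄` to `Ω(quadFormPlus 4 F)`. -/

namespace Cfsg.Agent.Helper28.D4H

open Matrix Cfsg.Lie Cfsg.Agent.Helper28.D4T Cfsg.Agent.Helper28.D4M
open Cfsg.Agent.Helper28.Spin Cfsg.Agent.Helper28.Sg

variable {F : Type*} [Field F]

/-- three hyperbolic pairs of `quadFormPlus 4` -/
noncomputable def fr8 : Frame3 (QfPlus 4 F) :=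
  frameOf (fun j => Sum.inl (Fin.castLE (by norm_num) j)) (fun j => Sum.inr (Fin.castLE (by norm_num) j))
    (by
      intro x y h
      rcases x with x | x <;> rcases y with y | y <;>
        simp only [Sum.elim_inl, Sum.elim_inr, Sum.inl.injEq, Sum.inr.injEq, reduceCtorEq,
          Fin.castLE_inj] at h
      · rw [h]
      · rw [h])
    (fun _ => hypPair _)

theorem Xo_mem_S (r : ℕ) (hr : r < 24) (t : F) : Xo r hr t ∈ S (QfPlus 4 F) :=
  siegO_mem_S _ _ _ _ _

theorem Xo_mem (r : ℕ) (hr : r < 24) (t : F) : Xo r hr t ∈ Cfsg.Omega F ⇑(QfPlus 4 F) :=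
  S_le_Omega (QfPlus_nondeg 4) fr8 (Xo_mem_S r hr t)

/-- the images of the generators of the Steinberg group -/
noncomputable def gen (p : Fin chevD4.nroots × F) : ↥(Cfsg.Omega F ⇑(QfPlus 4 F)) :=
  ⟨Xo p.1.val p.1.isLt p.2, Xo_mem _ _ _⟩

/-- the matrix of an element of `Ω` -/
def μ : ↥(Cfsg.Omega F ⇑(QfPlus 4 F)) →* Matrix I8 I8 F :=
  (Units.coeHom (Matrix I8 I8 F)).comp
    ((Cfsg.isometryGroup F ⇑(QfPlus 4 F)).subtype.comp (Cfsg.Omega F ⇑(QfPlus 4 F)).subtype)

theorem μ_apply (g : ↥(Cfsg.Omega F ⇑(QfPlus 4 F))) :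
    μ g = mt (QfPlus 4 F) (g : ↥(Cfsg.isometryGroup F ⇑(QfPlus 4 F))) := rfl

theorem μ_injective : Function.Injective (μ (F := F)) := by
  intro g h H
  apply Subtype.ext
  exact Xo_ext H

theorem μ_gen (p : Fin chevD4.nroots × F) : μ (gen p) = X F p.1.val p.2 := by
  rw [μ_apply]
  exact Xo_mat p.1.val p.1.isLt p.2

/-- the image of `x̄_r(t)` -/
noncomputable def img (r : ℕ) (t : F) : ↥(Cfsg.Omega F ⇑(QfPlus 4 F)) :=
  FreeGroup.lift gen (chevD4.stX r t)

theorem μ_img (r : ℕ) (t : F) : μ (img r t) = X F r t := by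
  unfold img ChevalleyDatum.stX
  split_ifs with h
  · rw [FreeGroup.lift_apply_of, μ_gen]
  · rw [map_one, map_one]
    exact (X_of_ge F (not_lt.1 h) t).symm

theorem img_inv (r : ℕ) (t : F) : (img r t)⁻¹ = img r (-t) := by
  rw [inv_eq_iff_mul_eq_one]
  apply μ_injective
  rw [map_mul, μ_img, μ_img, map_one, X_mul_neg]

/-- the image of a word -/
theorem lift_stWord (w : List (ℕ × F)) :
    FreeGroup.lift gen (chevD4.stWord w) = (w.map fun p => img p.1 p.2).prod := by
  unfold ChevalleyDatum.stWord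
  rw [map_list_prod, List.map_map]
  rfl

theorem μ_lift_stWord (w : List (ℕ × F)) :
    μ (FreeGroup.lift gen (chevD4.stWord w)) = wordX F w := by
  rw [lift_stWord, map_list_prod, List.map_map]
  unfold wordX
  congr 1
  apply List.map_congr_left
  intro p _
  exact μ_img p.1 p.2

/-- Steinberg's relators hold in `Ω` -/
theorem rels_hold : ∀ g ∈ chevD4.steinbergRels F, FreeGroup.lift gen g = 1 := by
  intro g hg
  rcases hg with (⟨r, t₁, t₂, hr, rfl⟩ | ⟨r, s, t, u, hr, hs, h1, h2, rfl⟩) |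
    ⟨r, t₁, t₂, hr, ht₁, ht₂, rfl⟩
  · rw [map_mul, map_mul, map_inv, mul_inv_eq_one]
    apply μ_injective
    show μ (img r t₁ * img r t₂) = μ (img r (t₁ + t₂))
    rw [map_mul, μ_img, μ_img, μ_img, X_add]
  · rw [map_mul, map_mul, map_mul, map_mul, map_inv, map_inv, map_inv, mul_inv_eq_one]
    show (img s u)⁻¹ * (img r t)⁻¹ * img s u * img r t = _
    rw [img_inv, img_inv]
    apply μ_injective
    rw [map_mul, map_mul, map_mul, μ_img, μ_img, μ_img, μ_img, μ_lift_stWord]
    exact X_comm F hr hs h1 h2 t u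
  · rw [map_mul, map_mul, map_inv, mul_inv_eq_one]
    apply μ_injective
    unfold ChevalleyDatum.stH
    rw [map_mul, μ_lift_stWord, μ_lift_stWord, μ_lift_stWord]
    exact X_h F hr ht₁ ht₂

/-- the homomorphism from the Steinberg group -/
noncomputable def stHom : chevD4.SteinbergGroup F →* ↥(Cfsg.Omega F ⇑(QfPlus 4 F)) :=
  PresentedGroup.toGroup (rels_hold (F := F))

theorem stHom_stGen (r : ℕ) (t : F) : stHom (chevD4.stGen F r t) = img r t := by
  rfl

theorem stHom_stGen_val {r : ℕ} (hr : r < 24) (t : F) :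
    (stHom (chevD4.stGen F r t) : ↥(Cfsg.isometryGroup F ⇑(QfPlus 4 F))) = Xo r hr t := by
  rw [stHom_stGen]
  apply Xo_ext
  rw [← μ_apply, μ_img, Xo_mat]

end Cfsg.Agent.Helper28.D4H
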