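import Mathlib
import Cfsg.Agent.Helper28.D4St
import Cfsg.Agent.Helper28.CDGen
import Cfsg.Agent.Helper18.SgSGEN

set_option autoImplicit false
set_option linter.unusedSectionVars false

/-! Surjectivity of the homomorphism from the Steinberg group of type `D₄` onto
`Ω(quadFormPlus 4 F)`, assuming that the reflections generate the orthogonal group. -/

namespace Cfsg.Agent.Helper28.D4H

open Matrix Cfsg.Lie Cfsg.Agent.Helper28.D4T Cfsg.Agent.Helper28.D4M
open Cfsg.Agent.Helper28.Spin Cfsg.Agent.Helper28.Sg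

variable {F : Type*} [Field F]

section general

variable {ι : Type} [Fintype ι] [DecidableEq ι] (Q : QuadraticForm F (ι → F))

/-- Cartan–Dieudonné in characteristic `≠ 2` in subgroup form, for an arbitrary field -/
theorem mem_of_refl_mem_odd (h2 : (2 : F) ≠ 0) (hQ : (QuadraticMap.polarBilin Q).Nondegenerate)
    (H : Subgroup ↥(Cfsg.isometryGroup F ⇑Q))
    (hH : ∀ (v : ι → F) (hv : Q v ≠ 0), reflO Q v hv ∈ H) (g : ↥(Cfsg.isometryGroup F ⇑Q)) :
    g ∈ H := by
  obtain ⟨L, hL⟩ := CDG.cartan_dieudonne Q h2 hQ (mt Q g) (fun x => isom_apply Q g x)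
  induction L generalizing g with
  | nil =>
    have : g = 1 := by
      apply Subtype.ext
      apply Units.ext
      rw [show ((g : GL ι F) : Matrix ι ι F) = mt Q g from rfl, hL]
      simp [CDG.reflProd]
    rw [this]
    exact H.one_mem
  | cons v L ih =>
    have h1 : mt Q (reflO Q v.1 v.2 * g) = CDG.reflProd Q L := by
      rw [mt_mul, hL]
      simp only [CDG.reflProd, List.map_cons, List.prod_cons]
      rw [← Matrix.mul_assoc]
      have hsq : Cfsg.reflectionMatrix ⇑Q v.1 * Cfsg.reflectionMatrix ⇑Q v.1 = 1 :=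
        Cfsg.Agent.Helper28.Spin.refl_sq Q v.2
      rw [show mt Q (reflO Q v.1 v.2) = Cfsg.reflectionMatrix ⇑Q v.1 from rfl, hsq, Matrix.one_mul]
    have h2 := ih (reflO Q v.1 v.2 * g) h1
    have h3 : g = reflO Q v.1 v.2 * (reflO Q v.1 v.2 * g) := by
      rw [← mul_assoc, reflO_mul_self, one_mul]
    rw [h3]
    exact H.mul_mem (hH v.1 v.2) h2

end general

/-- swapping the two coordinate vectors of a coordinate Siegel transformation -/
theorem siegO_single_swap {m : ℕ} (p q : Fin m ⊕ Fin m) (c : F)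
    (hu : QfPlus m F (Pi.single p 1) = 0)
    (huv : B (QfPlus m F) (Pi.single p 1) (c • Pi.single q 1) = 0)
    (hu' : QfPlus m F (Pi.single q 1) = 0)
    (huv' : B (QfPlus m F) (Pi.single q 1) ((-c) • Pi.single p 1) = 0) :
    siegO (QfPlus m F) (Pi.single p 1) (c • Pi.single q 1) hu huv =
      siegO (QfPlus m F) (Pi.single q 1) ((-c) • Pi.single p 1) hu' huv' := by
  apply Subtype.ext
  apply Units.ext
  show siegM (QfPlus m F) (Pi.single p 1) (c • Pi.single q 1) =
    siegM (QfPlus m F) (Pi.single q 1) ((-c) • Pi.single p 1)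
  ext i j
  rw [siegM_single, siegM_single]
  split_ifs <;> ring

/-- the check that a pair of non-opposite distinct coordinates comes from a root -/
def chkP (i j : ℕ) : Bool :=
  (j == i) || (j == pr i) || (List.range 24).any fun r =>
    decide ((rd r).2.2 * (rd r).2.2 = 1 ∧
      (((rd r).1 = j ∧ (rd r).2.1 = pr i) ∨ ((rd r).1 = i ∧ (rd r).2.1 = pr j)))

theorem chkP_all : ∀ i < 8, ∀ j < 8, chkP i j = true := by
  decide +kernel

/-- every pair of non-opposite distinct coordinates comes from a root -/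
theorem pair_root {i j : ℕ} (hi : i < 8) (hj : j < 8) (h1 : j ≠ i) (h2 : j ≠ pr i) :
    ∃ r < 24, (rd r).2.2 * (rd r).2.2 = 1 ∧
      (((rd r).1 = j ∧ (rd r).2.1 = pr i) ∨ ((rd r).1 = i ∧ (rd r).2.1 = pr j)) := by
  have h := chkP_all i hi j hj
  unfold chkP at h
  simp only [Bool.or_eq_true, beq_iff_eq] at h
  rcases h with (h | h) | h
  · exact absurd h h1
  · exact absurd h h2
  · rw [List.any_eq_true] at h
    obtain ⟨r, hr, hd⟩ := h
    exact ⟨r, List.mem_range.1 hr, of_decide_eq_true hd⟩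

/-- the subgroup of the isometry group generated by the root elements -/
noncomputable def R8 (F : Type*) [Field F] : Subgroup ↥(Cfsg.isometryGroup F ⇑(QfPlus 4 F)) :=
  (stHom (F := F)).range.map (Cfsg.Omega F ⇑(QfPlus 4 F)).subtype

theorem Xo_mem_R8 (r : ℕ) (hr : r < 24) (t : F) : Xo r hr t ∈ R8 F := by
  refine ⟨stHom (chevD4.stGen F r t), ⟨_, rfl⟩, ?_⟩
  exact stHom_stGen_val hr t

theorem single_mem_R8 (p q : I8) (c : F) (hqp : q ≠ p) (hqp' : q ≠ p.swap)
    (hu : QfPlus 4 F (Pi.single p 1) = 0)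
    (huv : B (QfPlus 4 F) (Pi.single p 1) (c • Pi.single q 1) = 0) :
    siegO (QfPlus 4 F) (Pi.single p 1) (c • Pi.single q 1) hu huv ∈ R8 F := by
  have hcq : code q ≠ code p := fun h => hqp (code_injective h)
  have hcq' : code q ≠ pr (code p) := by
    rw [← code_swap]
    exact fun h => hqp' (code_injective h)
  obtain ⟨r, hr, hc, hcase⟩ := pair_root (code_lt p) (code_lt q) hcq hcq'
  have hcF : (((rd r).2.2 : ℤ) : F) * (((rd r).2.2 : ℤ) : F) = 1 := by
    rw [← Int.cast_mul, hc, Int.cast_one]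
  rcases hcase with ⟨ha, hb⟩ | ⟨ha, hb⟩
  · -- `a = q`, `b = p'`
    have hra : ra r = q := by
      rw [ra, ha]
      exact ((eq_dec_iff (code_lt q) q).2 rfl).symm
    have hrb : (rb r).swap = p := by
      rw [rb, hb, ← code_swap]
      rw [← (eq_dec_iff (code_lt p.swap) p.swap).2 rfl, Sum.swap_swap]
    have key : siegO (QfPlus 4 F) (Pi.single p 1) (c • Pi.single q 1) hu huv =
        Xo r hr ((((rd r).2.2 : ℤ) : F) * c) :=
      siegO_congr _ _ _ _ _ (by rw [hrb]) (by rw [hra, ← mul_assoc, hcF, one_mul])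
    rw [key]
    exact Xo_mem_R8 r hr _
  · -- `a = p`, `b = q'`
    have hsw : B (QfPlus 4 F) (Pi.single q 1) ((-c) • Pi.single p 1) = 0 := by
      simp only [B, QuadraticMap.polar_smul_right, smul_eq_mul]
      rw [show QuadraticMap.polar ⇑(QfPlus 4 F) (Pi.single q 1) (Pi.single p 1) =
        (Pi.single p 1 : I8 → F) q.swap from B_single _ _, Pi.single_apply,
        if_neg (fun h => hqp' (by rw [← h, Sum.swap_swap])), mul_zero]
    have hra : ra r = p := by
      rw [ra, ha]
      exact ((eq_dec_iff (code_lt p) p).2 rfl).symm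
    have hrb : (rb r).swap = q := by
      rw [rb, hb, ← code_swap]
      rw [← (eq_dec_iff (code_lt q.swap) q.swap).2 rfl, Sum.swap_swap]
    have key : siegO (QfPlus 4 F) (Pi.single q 1) ((-c) • Pi.single p 1) (Q_single q) hsw =
        Xo r hr ((((rd r).2.2 : ℤ) : F) * (-c)) :=
      siegO_congr _ _ _ _ _ (by rw [hrb]) (by rw [hra, ← mul_assoc, hcF, one_mul])
    rw [siegO_single_swap p q c hu huv (Q_single q) hsw, key]
    exact Xo_mem_R8 r hr _

/-- the Siegel transformations lie in the group generated by the root elements -/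
theorem S_le_R8 : S (QfPlus 4 F) ≤ R8 F :=
  Cfsg.Agent.Helper18.SgSGEN.S_le_of_single (R8 F)
    (fun p q c hqp hqp' hu huv => single_mem_R8 p q c hqp hqp' hu huv)

/-- surjectivity of the homomorphism from the Steinberg group -/
theorem stHom_surjective
    (hgen : ∀ (H : Subgroup ↥(Cfsg.isometryGroup F ⇑(QfPlus 4 F))),
      (∀ (v : I8 → F) (hv : QfPlus 4 F v ≠ 0), reflO (QfPlus 4 F) v hv ∈ H) → ∀ g, g ∈ H) :
    Function.Surjective (stHom (F := F)) := by
  intro g
  have h1 : (g : ↥(Cfsg.isometryGroup F ⇑(QfPlus 4 F))) ∈ S (QfPlus 4 F) := by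
    rw [← Omega_eq_S (QfPlus_nondeg 4) fr8 hgen]
    exact g.2
  obtain ⟨x, ⟨y, rfl⟩, hx⟩ := S_le_R8 h1
  exact ⟨y, Subtype.ext hx⟩

end Cfsg.Agent.Helper28.D4H
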