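import Mathlib
import Cfsg.Agent.Helper28.D4Gen
import Cfsg.Agent.Helper28.GammaCount6
import Cfsg.Agent.Helper16.CD2G
import Cfsg.Agent.Helper8.S1082GRP

set_option autoImplicit false
set_option linter.unusedSectionVars false

/-! The reflections generate `O(quadFormPlus 4 F)` over every field, and the consequences for
`PΩ₈⁺(F)`. -/

namespace Cfsg.Agent.Helper28.D4H

open Matrix Cfsg.Lie Cfsg.Agent.Helper28.D4T Cfsg.Agent.Helper28.D4M
open Cfsg.Agent.Helper28.Spin Cfsg.Agent.Helper28.Sg

variable {F : Type*} [Field F]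

/-- the reflections generate the orthogonal group of `quadFormPlus 4 F`, for every field -/
theorem hgen8 (H : Subgroup ↥(Cfsg.isometryGroup F ⇑(QfPlus 4 F)))
    (hH : ∀ (v : I8 → F) (hv : QfPlus 4 F v ≠ 0), reflO (QfPlus 4 F) v hv ∈ H) : ∀ g, g ∈ H := by
  by_cases h2 : (2 : F) = 0
  · by_cases hF : ∃ a : F, a ≠ 0 ∧ a ≠ 1
    · exact Cfsg.Agent.Helper16.refl_gen_char_two (QfPlus 4 F) h2 (QfPlus_nondeg 4) hF H hH
    · push Not at hF
      have hfin : Finite F := by
        classical
        apply Finite.of_injective (fun a : F => decide (a = 0))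
        intro a b hab
        have hab' : a = 0 ↔ b = 0 := by simpa using hab
        by_cases ha : a = 0
        · rw [ha, (hab'.1 ha)]
        · have hb : b ≠ 0 := fun hb => ha (hab'.2 hb)
          rw [hF a ha, hF b hb]
      have := Fintype.ofFinite F
      refine hgen_even h2 (QfPlus_nondeg 4) (Or.inr ?_) H hH
      rw [Fintype.card_sum, Fintype.card_fin]
      norm_num
  · exact mem_of_refl_mem_odd (QfPlus 4 F) h2 (QfPlus_nondeg 4) H hH

theorem stHom_surjective' : Function.Surjective (stHom (F := F)) :=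
  stHom_surjective hgen8

theorem POmega8_simple : IsSimpleGroup (Cfsg.POmega F ⇑(QfPlus 4 F)) :=
  POmega_simple (QfPlus_nondeg 4) fr8 hgen8

theorem center_POmega8 : Subgroup.center (Cfsg.POmega F ⇑(QfPlus 4 F)) = ⊥ := by
  have := POmega8_simple (F := F)
  apply Cfsg.Agent.Helper28.GC.center_eq_bot_of_simple_of_perfect
  exact Cfsg.Agent.Helper28.GC.commutator_quotient_eq_top _
    (Omega_perfect' (QfPlus_nondeg 4) fr8 hgen8)

/-- the homomorphism from the Steinberg group onto `PΩ₈⁺(F)` -/
noncomputable def stHomP : chevD4.SteinbergGroup F →* Cfsg.POmega F ⇑(QfPlus 4 F) :=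
  (QuotientGroup.mk' _).comp stHom

theorem stHomP_surjective : Function.Surjective (stHomP (F := F)) :=
  (QuotientGroup.mk'_surjective _).comp stHom_surjective'

end Cfsg.Agent.Helper28.D4H
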