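import Mathlib
import Cfsg.Prelude.Def_LieTypeDatum
import Cfsg.Agent.Helper28.FieldM15

set_option autoImplicit false
set_option linter.unusedSectionVars false

/-! Odd characteristic: the class of the standard field automorphism under the image of the
sign-one similarities does not split, given rational representatives of the outer-diagonal
classes. -/

namespace Cfsg.Agent.Helper28.FM

open Matrix Module Cfsg.Agent.Helper28.IsoTransport Cfsg.Agent.Helper28.Spin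
  Cfsg.Agent.Helper28.PG Cfsg.Agent.Helper28.Sg Cfsg.Agent.Helper28.PA
  Cfsg.Agent.Helper28.SSim Cfsg.Agent.Helper28.GC Cfsg.Agent.Helper28.FO

variable {F : Type*} [Field F] [Fintype F] [DecidableEq F] {ι : Type} [Fintype ι] [DecidableEq ι]
  {Q : QuadraticForm F (ι → F)}

theorem Omega_le_SO' : Cfsg.Omega F ⇑Q ≤ SO' Q := by
  intro g hg
  exact MonoidHom.mem_ker.2 (hom_eq_one_of_mem_Omega Q (detHom Q) hg)

/-- two special isometries outside `Ω` multiply into `Ω` -/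
theorem mul_mem_Omega_of_not_mem (hQ : (QuadraticMap.polarBilin Q).Nondegenerate)
    (h2 : (2 : F) ≠ 0) (hN : 2 ≤ Fintype.card ι) (t s : ↥(Cfsg.isometryGroup F ⇑Q))
    (ht : t ∈ SO' Q) (hs : s ∈ SO' Q) (htΩ : t ∉ Cfsg.Omega F ⇑Q) (hsΩ : s ∉ Cfsg.Omega F ⇑Q) :
    t * s ∈ Cfsg.Omega F ⇑Q := by
  have h1 := Subgroup.relIndex_mul_index (Omega_le_SO' (Q := Q))
  rw [SO'_index Q hQ h2 hN, OC.index_Omega_odd Q h2 hQ hN] at h1
  have hrel : (Cfsg.Omega F ⇑Q).relIndex (SO' Q) = 2 := by omega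
  have hidx : ((Cfsg.Omega F ⇑Q).subgroupOf (SO' Q)).index = 2 := hrel
  have key := (Subgroup.mul_mem_iff_of_index_two hidx
    (a := (⟨t, ht⟩ : ↥(SO' Q))) (b := (⟨s, hs⟩ : ↥(SO' Q)))).2 (by
      rw [Subgroup.mem_subgroupOf, Subgroup.mem_subgroupOf]
      tauto)
  rw [Subgroup.mem_subgroupOf] at key
  exact key

/-- **odd characteristic: no splitting**, given rational representatives -/
theorem conj_inn_of_DD_odd (hQ : (QuadraticMap.polarBilin Q).Nondegenerate) (fr : Frame3 Q)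
    (hex : ∃ v : ι → F, Q v ≠ 0) (hperf : commutator ↥(Cfsg.Omega F ⇑Q) = ⊤) (h2 : (2 : F) ≠ 0)
    {k : ℕ} (hk : Fintype.card ι = 2 * k) (hN : 2 ≤ Fintype.card ι)
    {σ : F ≃+* F} (hσ : IsStdAt Q σ)
    (d : ↥(GO Q)) (hd1 : tauS hσ d = d) (hd2 : PG.chi Q d = -1) (hd3 : PG.sgn Q k d = 1)
    (u v : ι → F) (hu : Q u ≠ 0) (hv : Q v ≠ 0) (hfu : vs σ u = u) (hfv : vs σ v = v)
    (hns : ¬ IsSquare (Q u * Q v))
    (g : ↥(GO Q)) (hg : PG.sgn Q k g = 1) :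
    Cfsg.IsConjUnder (Cfsg.Inn (Cfsg.POmega F ⇑Q)) (phiS hσ)
      (cG Q g * phiS hσ * (cG Q g)⁻¹) := by
  -- reduce to multiplier a square
  have hcommd : phiS hσ * cG Q d = cG Q d * phiS hσ := by
    have h3 := phiS_cG hσ d
    rw [hd1] at h3
    exact h3
  obtain ⟨g₁, hg₁chi, hg₁sgn, hg₁⟩ : ∃ g₁ : ↥(GO Q), PG.chi Q g₁ = 1 ∧ PG.sgn Q k g₁ = 1 ∧
      cG Q g * phiS hσ * (cG Q g)⁻¹ = cG Q g₁ * phiS hσ * (cG Q g₁)⁻¹ := by
    rcases chi_cases Q g with h | h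
    · exact ⟨g, h, hg, rfl⟩
    · refine ⟨g * d, ?_, ?_, ?_⟩
      · rw [chi_mul Q hex, h, hd2]; norm_num
      · rw [sgn_mul Q hex, hg, hd3, one_mul]
      · rw [(cG Q).map_mul g d]
        exact conj_mul_of_comm _ _ _ hcommd
  rw [hg₁]
  -- now a special isometry
  have hpso : cG Q g₁ ∈ Cfsg.psoAut F ⇑Q :=
    (IDG.cG_mem_psoAut_iff Q hQ fr hex hperf hk g₁ hg₁sgn).2 hg₁chi
  rw [PA.psoAut_eq] at hpso
  obtain ⟨t, ht, hte⟩ := hpso
  rw [← hte]
  by_cases htΩ : t ∈ Cfsg.Omega F ⇑Q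
  · refine ⟨cAut Q t, ?_, rfl⟩
    rw [PA.Inn_eq]
    exact ⟨t, htΩ, rfl⟩
  · set s : ↥(Cfsg.isometryGroup F ⇑Q) := reflO Q u hu * reflO Q v hv with hs
    have hsSO : s ∈ SO' Q := refl_mul_mem_SO' Q u v hu hv
    have hsΩ : s ∉ Cfsg.Omega F ⇑Q := refl_mul_not_mem Q h2 u v hu hv hns
    have hts := mul_mem_Omega_of_not_mem hQ h2 hN t s ht hsSO htΩ hsΩ
    refine ⟨cAut Q (t * s), ?_, ?_⟩
    · rw [PA.Inn_eq]
      exact ⟨t * s, hts, rfl⟩
    · rw [(cAut Q).map_mul t s]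
      apply conj_mul_of_comm
      have e1 : cAut Q s = cG Q (reflGO Q u hu * reflGO Q v hv) := by
        rw [← cG_oGO]
        rfl
      rw [e1]
      have h3 := phiS_cG hσ (reflGO Q u hu * reflGO Q v hv)
      rw [(tauS hσ).map_mul, tauS_reflGO hσ u hu hfu, tauS_reflGO hσ v hv hfv] at h3
      exact h3

end Cfsg.Agent.Helper28.FM
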