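import Mathlib
import Cfsg.Prelude.Def_LieTypeDatum
import Cfsg.Agent.Helper28.FieldM16
import Cfsg.Agent.Helper28.MinusInndiag5

set_option autoImplicit false
set_option linter.unusedSectionVars false

/-! Minus type: the class of the standard field automorphism of odd order does not split. -/

namespace Cfsg.Agent.Helper28.FM

open Matrix Module Cfsg.Agent.Helper28.IsoTransport Cfsg.Agent.Helper28.Spin
  Cfsg.Agent.Helper28.PG Cfsg.Agent.Helper28.Sg Cfsg.Agent.Helper28.IDM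
  Cfsg.Agent.Helper28.SSim Cfsg.Agent.Helper28.GC Cfsg.Agent.Helper28.FO
open Cfsg.Agent.Helper7.FieldPSL (FDesc)

universe u v

section one

variable {F : Type u} [Field F] [Fintype F] [DecidableEq F] {m : ℕ}

/-- a similarity of sign one with non-square multiplier -/
theorem exists_chi_neg_sgn_one (h2 : (2 : F) ≠ 0) (a b : F)
    (hab : ∀ z₁ z₂ : F, z₁ ^ 2 + a * z₁ * z₂ + b * z₂ ^ 2 = 0 → z₁ = 0 ∧ z₂ = 0) :
    ∃ d : ↥(GO (QfMinus m F a b)), PG.chi (QfMinus m F a b) d = -1 ∧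
      PG.sgn (QfMinus m F a b) (m + 1) d = 1 := by
  have hQ := nondeg_minus (m := m) a b hab
  have hex := hex_minus (m := m) a b
  have hcardι : Fintype.card ((Fin m ⊕ Fin m) ⊕ Fin 2) = 2 * (m + 1) := by
    rw [Fintype.card_sum, Fintype.card_sum, Fintype.card_fin, Fintype.card_fin]; omega
  obtain ⟨H, hH⟩ := exists_chi_neg (m := m) h2 a b hab hQ
  rcases sgn_cases (QfMinus m F a b) hQ hcardι H with h | h
  · exact ⟨H, hH, h⟩
  · refine ⟨H * reflGO (QfMinus m F a b) (v0 m F) (Q_v0 a b), ?_, ?_⟩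
    · rw [chi_mul _ hex, hH, chi_reflGO _ hex, mul_one]
    · rw [sgn_mul _ hex, h, sgn_reflGO _ hex]
      ring

end one

variable {F : Type u} [Field F] [Fintype F] {F₀ : Type v} [Field F₀] [Fintype F₀] {m : ℕ}
  (E : FDesc F F₀)

/-- **no splitting of the class of the standard field automorphism of odd order** -/
theorem std_count (hm : 3 ≤ m) (a₀ b₀ : F₀)
    (hab : ∀ z₁ z₂ : F, z₁ ^ 2 + E.j a₀ * z₁ * z₂ + E.j b₀ * z₂ ^ 2 = 0 → z₁ = 0 ∧ z₂ = 0)
    (hodd : Odd (orderOf E.σ))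
    (h : MulAut (Cfsg.POmega F (Cfsg.quadFormMinus m F (E.j a₀) (E.j b₀))))
    (hh : h ∈ Cfsg.inndiagPOmegaMinus m F (E.j a₀) (E.j b₀)) :
    Cfsg.IsConjUnder (Cfsg.Inn (Cfsg.POmega F (Cfsg.quadFormMinus m F (E.j a₀) (E.j b₀))))
      (phiM (m := m) (E.j a₀) (E.j b₀) (E.fix_j a₀) (E.fix_j b₀))
      (h * phiM (m := m) (E.j a₀) (E.j b₀) (E.fix_j a₀) (E.fix_j b₀) * h⁻¹) := by
  classical
  rcases two_ne_zero_or F with h2 | ⟨h2, hoddF⟩
  · rw [inndiag_minus_char_two h2 _ _ hab (by omega)] at hh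
    exact ⟨h, hh, rfl⟩
  · have hab₀ := aniso_of_j E a₀ b₀ hab
    have hc := compat_minus_E (m := m) E a₀ b₀
    have hQ := nondeg_minus (m := m) _ _ hab
    have hσ := isStdAt_minus (m := m) (E.j a₀) (E.j b₀) (E.fix_j a₀) (E.fix_j b₀)
    have hex := hex_minus (m := m) (E.j a₀) (E.j b₀)
    have hcardι : Fintype.card ((Fin m ⊕ Fin m) ⊕ Fin 2) = 2 * (m + 1) := by
      rw [Fintype.card_sum, Fintype.card_sum, Fintype.card_fin, Fintype.card_fin]; omega
    have h2₀ : (2 : F₀) ≠ 0 := two_ne_zero_sub E h2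
    obtain ⟨g, rfl⟩ := exists_cG_of_mem_inndiag _ _ h hh
    have hg : PG.sgn (QfMinus m F (E.j a₀) (E.j b₀)) (m + 1) g = 1 :=
      (mem_inndiag_iff_odd hoddF h2 hm _ _ hab g).1 hh
    -- the rational similarity with non-square multiplier
    obtain ⟨d₀, hd₀chi, hd₀sgn⟩ := exists_chi_neg_sgn_one (m := m) h2₀ a₀ b₀ hab₀
    have hd1 : tauS hσ (jGO E hc d₀) = jGO E hc d₀ := by
      apply Subtype.ext
      rw [tauS_coe, jGO_coe, mapGL_jGLg]
    have hd2 : PG.chi (QfMinus m F (E.j a₀) (E.j b₀)) (jGO E hc d₀) = -1 := by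
      unfold PG.chi at hd₀chi ⊢
      rw [mu_jGO E hc hex, Units.coe_map]
      rw [quadraticChar_neg_one_iff_not_isSquare] at hd₀chi ⊢
      exact not_isSquare_j E hodd h2 _ hd₀chi
    have hd3 : PG.sgn (QfMinus m F (E.j a₀) (E.j b₀)) (m + 1) (jGO E hc d₀) = 1 :=
      (sgn_jGO_eq_one_iff E hc hex (m + 1) d₀).2 hd₀sgn
    -- the rational vectors
    have hchar : ringChar F₀ ≠ 2 := by
      intro hch
      apply h2₀
      have := ringChar.Nat.cast_ringChar (R := F₀)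
      rw [hch] at this
      exact_mod_cast this
    obtain ⟨ν₀, hν₀⟩ := FiniteField.exists_nonsquare hchar
    have hν0 : ν₀ ≠ 0 := by
      rintro rfl
      exact hν₀ ⟨0, by simp⟩
    set fr₀ := frameMinus hm a₀ b₀ with hfr₀
    set u₀ : (Fin m ⊕ Fin m) ⊕ Fin 2 → F₀ := (1 : F₀) • fr₀.e 0 + (1 : F₀) • fr₀.f 0 with hu₀
    set w₀ : (Fin m ⊕ Fin m) ⊕ Fin 2 → F₀ := (1 : F₀) • fr₀.e 0 + ν₀ • fr₀.f 0 with hw₀
    have hQu : QfMinus m F₀ a₀ b₀ u₀ = 1 := by
      rw [hu₀, Q_lin2, fr₀.Qe, fr₀.Qf]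
      simp only [B, fr₀.Bef]
      simp
    have hQw : QfMinus m F₀ a₀ b₀ w₀ = ν₀ := by
      rw [hw₀, Q_lin2, fr₀.Qe, fr₀.Qf]
      simp only [B, fr₀.Bef]
      simp
    have e1 : QfMinus m F (E.j a₀) (E.j b₀) (jv E u₀) = 1 := by
      rw [hc, hQu, map_one]
    have e2 : QfMinus m F (E.j a₀) (E.j b₀) (jv E w₀) = E.j ν₀ := by
      rw [hc, hQw]
    have hns : ¬ IsSquare (QfMinus m F (E.j a₀) (E.j b₀) (jv E u₀) *
        QfMinus m F (E.j a₀) (E.j b₀) (jv E w₀)) := by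
      rw [e1, e2, one_mul]
      exact not_isSquare_j E hodd h2 ν₀ hν₀
    exact conj_inn_of_DD_odd hQ (frameMinus hm _ _) hex (hperf_minus hm _ _ hab) h2 hcardι
      (by rw [hcardι]; omega) hσ (jGO E hc d₀) hd1 hd2 hd3 (jv E u₀) (jv E w₀)
      (by rw [e1]; exact one_ne_zero)
      (by rw [e2]; intro h0; exact hν0 (E.j.injective (by rw [h0, map_zero])))
      (vs_jv E u₀) (vs_jv E w₀) hns g hg

end Cfsg.Agent.Helper28.FM
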