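import Mathlib
import Cfsg.Prelude.Def_LieTypeDatum
import Cfsg.Agent.Helper28.FieldM17

set_option autoImplicit false
set_option linter.unusedSectionVars false

/-! Field automorphisms of prime order of `PΩ⁻_{2m+2}(q)`: centralizer and class splitting. -/

namespace Cfsg.Agent.Helper28.FM

open Matrix Module Cfsg.Agent.Helper28.IsoTransport Cfsg.Agent.Helper28.Spin
  Cfsg.Agent.Helper28.PG Cfsg.Agent.Helper28.Sg Cfsg.Agent.Helper28.IDM
  Cfsg.Agent.Helper28.SSim Cfsg.Agent.Helper28.GC Cfsg.Agent.Helper28.FO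
open Cfsg.Agent.Helper7.FieldPSL (FDesc exists_FDesc orderOf_pos_ringAut)

universe u v

theorem isConjUnder_transport {X Y : Type*} [Group X] [Group Y] (Ψ : X ≃* Y) (K : Subgroup X)
    (K' : Subgroup Y) (hK : K.map Ψ.toMonoidHom = K') (x h : X)
    (hc : Cfsg.IsConjUnder K' (Ψ x) (Ψ h * Ψ x * (Ψ h)⁻¹)) :
    Cfsg.IsConjUnder K x (h * x * h⁻¹) := by
  obtain ⟨k', hk', e⟩ := hc
  rw [← hK] at hk'
  obtain ⟨k₀, hk₀, rfl⟩ := hk'
  refine ⟨k₀, hk₀, ?_⟩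
  apply Ψ.injective
  rw [map_mul, map_mul, map_inv, map_mul, map_mul, map_inv]
  exact e

/-- **field automorphisms of prime order of `PΩ⁻_{2m+2}(q)`** -/
theorem field_aut_main_minus {F : Type u} [Field F] [Fintype F] {p f : ℕ} [Fact p.Prime]
    (hF : Fintype.card F = p ^ f) (hf : 1 ≤ f) {m : ℕ} (hm : 3 ≤ m) (a b : F)
    (hab : ∀ z₁ z₂ : F, z₁ ^ 2 + a * z₁ * z₂ + b * z₂ ^ 2 = 0 → z₁ = 0 ∧ z₂ = 0)
    (x : MulAut (Cfsg.POmega F (Cfsg.quadFormMinus m F a b)))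
    (hx : Cfsg.IsFieldAutClassPOmegaMinus m x) {r : ℕ} (hr : r.Prime) (hxr : orderOf x = r)
    (F₀ : Type v) [Field F₀] [Fintype F₀] (hF₀ : Fintype.card F₀ = p ^ (f / r)) :
    Odd r ∧ r ∣ f ∧
      (∃ a₀ b₀ : F₀, (∀ z₁ z₂ : F₀, z₁ ^ 2 + a₀ * z₁ * z₂ + b₀ * z₂ ^ 2 = 0 → z₁ = 0 ∧ z₂ = 0) ∧
        Nonempty (↥(Cfsg.inndiagPOmegaMinus m F a b ⊓ Subgroup.centralizer {x}) ≃*
          ↥(Cfsg.inndiagPOmegaMinus m F₀ a₀ b₀))) ∧
      Cfsg.splitClassCount (Cfsg.inndiagPOmegaMinus m F a b)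
        (Cfsg.Inn (Cfsg.POmega F (Cfsg.quadFormMinus m F a b))) x = 1 := by
  obtain ⟨a', b', ψ, σ, hab', ha, hb, hσ1, hψx⟩ := exists_std_of_class a b x hx
  have hox : orderOf x = orderOf σ := by
    rw [← orderOf_phiM hm a' b' hab' ha hb, ← hψx]
    exact ((MulAut.congr ψ).orderOf_eq x).symm
  have hσr : orderOf σ = r := by rw [← hox, hxr]
  have hrf : r ∣ f := by
    rw [← hσr]
    exact Cfsg.Agent.Helper7.FieldPSL.orderOf_dvd hf hF σ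
  have hrodd : Odd r := hr.odd_of_ne_two (by
    rw [← hσr]
    exact orderOf_ne_two_of_aniso a' b' hab' σ ha hb)
  obtain ⟨E, hE⟩ := exists_FDesc hF σ (by rw [hσr]; exact hF₀)
  subst hE
  obtain ⟨a₀, ha₀⟩ := E.exists_j a' ha
  obtain ⟨b₀, hb₀⟩ := E.exists_j b' hb
  subst ha₀ hb₀
  have hpos : 0 < orderOf E.σ := orderOf_pos_ringAut E.σ
  have hK := map_inndiag_minus hm a b _ _ hab hab' ψ
  refine ⟨hrodd, hrf, ⟨a₀, b₀, aniso_of_j E a₀ b₀ hab', ?_⟩, ?_⟩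
  · obtain ⟨e1⟩ := nonempty_centralizer_congr (MulAut.congr ψ) _ _ hK x
    rw [hψx] at e1
    obtain ⟨e2⟩ := std_centralizer E hm a₀ b₀ hab' hpos
    exact ⟨e1.trans e2⟩
  · apply splitClassCount_eq_one
    intro h hh
    have hh' : MulAut.congr ψ h ∈ Cfsg.inndiagPOmegaMinus m F (E.j a₀) (E.j b₀) := by
      rw [← hK]
      exact ⟨h, hh, rfl⟩
    apply isConjUnder_transport (MulAut.congr ψ) _ _ (map_Inn_congr ψ) x h
    rw [hψx]
    exact std_count E hm a₀ b₀ hab' (by rw [hσr]; exact hrodd) _ hh'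

end Cfsg.Agent.Helper28.FM
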