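import Mathlib
import Cfsg.Agent.Helper28.FieldB1

set_option autoImplicit false
set_option linter.unusedSectionVars false

/-! A variant of the abstract core lemma: the rational subgroup `I₀` only needs to have trivial
`p'`-core. -/

namespace Cfsg.Agent.Helper28.FS

variable {G : Type*} [Group G]

/-- **the abstract core lemma, second form**: a subgroup `I₀` of the centralizer of `φ` inside
the normal subgroup `Inn`, normalised by `P ⊇ Inn ⊓ C(φ)`, with trivial `p'`-core, whose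
centralizer in the centralizer of `φ` is `⟨φ⟩`, kills all `p'`-subgroups normalised by the
centralizer. -/
theorem normal_coprime_eq_bot' [Finite G] {p : ℕ} [Fact p.Prime] (φ : G) (hφ : orderOf φ = p)
    (A Inn I₀ P : Subgroup G) [hInn : Inn.Normal]
    (hI₀Inn : I₀ ≤ Inn) (hI₀C : I₀ ≤ Subgroup.centralizer {φ}) (hInnA : Inn ≤ A)
    (hInnP : Inn ⊓ Subgroup.centralizer {φ} ≤ P)
    (hPnorm : ∀ g ∈ P, ∀ s ∈ I₀, g * s * g⁻¹ ∈ I₀)
    (hO : ∀ M : Subgroup G, M ≤ I₀ → (∀ s ∈ I₀, ∀ n ∈ M, s * n * s⁻¹ ∈ M) →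
      (Nat.card M).Coprime p → M = ⊥)
    (hD : ∀ γ ∈ Subgroup.centralizer {φ}, (∀ s ∈ I₀, γ * s = s * γ) → γ ∈ Subgroup.zpowers φ)
    (N : Subgroup G) (hNC : N ≤ A ⊓ Subgroup.centralizer {φ})
    (hNnorm : ∀ c ∈ A ⊓ Subgroup.centralizer {φ}, ∀ n ∈ N, c * n * c⁻¹ ∈ N)
    (hcop : (Nat.card N).Coprime p) : N = ⊥ := by
  have hI₀C' : I₀ ≤ A ⊓ Subgroup.centralizer {φ} := le_inf (hI₀Inn.trans hInnA) hI₀C
  have hsub : ∀ M : Subgroup G, M ≤ N → (Nat.card M).Coprime p := by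
    intro M hM
    exact Nat.Coprime.coprime_dvd_left (Subgroup.card_dvd_of_le hM) hcop
  have hzp : ∀ M : Subgroup G, M ≤ N → M ≤ Subgroup.zpowers φ → M = ⊥ := by
    intro M hM hMz
    have h8 : Nat.card M ∣ p := by
      have := Subgroup.card_dvd_of_le hMz
      rwa [Nat.card_zpowers, hφ] at this
    exact Subgroup.card_eq_one.1 (Nat.Coprime.eq_one_of_dvd (hsub M hM) h8)
  -- the commutator of an element of `N` with an element of `I₀` lies in `N`
  have hcommN : ∀ n ∈ N, ∀ s ∈ I₀, n * s * n⁻¹ * s⁻¹ ∈ N := by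
    intro n hn s hs
    have h := hNnorm s (hI₀C' hs) n⁻¹ (N.inv_mem hn)
    have e : n * s * n⁻¹ * s⁻¹ = n * (s * n⁻¹ * s⁻¹) := by group
    rw [e]
    exact N.mul_mem hn h
  -- step A
  have hA : N ⊓ I₀ = ⊥ := by
    apply hO _ inf_le_right
    · intro s hs n hn
      exact ⟨hNnorm s (hI₀C' hs) n hn.1, I₀.mul_mem (I₀.mul_mem hs hn.2) (I₀.inv_mem hs)⟩
    · exact hsub _ inf_le_left
  have hcomm_of : ∀ n s : G, n * s * n⁻¹ * s⁻¹ = 1 → n * s = s * n := by
    intro n s h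
    have : n * s = (n * s * n⁻¹ * s⁻¹) * (s * n) := by group
    rw [this, h, one_mul]
  -- step B
  have hB : N ⊓ Inn = ⊥ := by
    apply hzp _ inf_le_left
    intro n hn
    apply hD n (hNC hn.1).2
    intro s hs
    apply hcomm_of
    have h1 : n * s * n⁻¹ * s⁻¹ ∈ N ⊓ I₀ := by
      refine ⟨hcommN n hn.1 s hs, ?_⟩
      have hnP : n ∈ P := hInnP ⟨hn.2, (hNC hn.1).2⟩
      exact I₀.mul_mem (hPnorm n hnP s hs) (I₀.inv_mem hs)
    rw [hA, Subgroup.mem_bot] at h1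
    exact h1
  -- step C
  apply hzp N le_rfl
  intro n hn
  apply hD n (hNC hn).2
  intro s hs
  apply hcomm_of
  have h1 : n * s * n⁻¹ * s⁻¹ ∈ N ⊓ Inn := by
    refine ⟨hcommN n hn s hs, ?_⟩
    exact Inn.mul_mem (hInn.conj_mem s (hI₀Inn hs) n) (Inn.inv_mem (hI₀Inn hs))
  rw [hB, Subgroup.mem_bot] at h1
  exact h1

end Cfsg.Agent.Helper28.FS
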