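import Mathlib
import Cfsg.Prelude.Def_LieTypeDatum
import Cfsg.Agent.Helper7.FieldPSp5
import Cfsg.Agent.Helper7.AutPSp20
import Cfsg.Agent.Helper2.SpCenter
import Cfsg.Agent.Helper28.FieldS1

set_option autoImplicit false
set_option linter.unusedSectionVars false

/-! Base change of symplectic groups and the rational subgroup `I₀ ≅ PSp(F₀)` of the centralizer
of the standard field automorphism of `PSp_{2m}(F)`. -/

namespace Cfsg.Agent.Helper28.FS

open Matrix Cfsg.Agent.Helper2.Sp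
open Cfsg.Agent.Helper7.AutPSp Cfsg.Agent.Helper7.FieldPSp
open Cfsg.Agent.Helper7.GraphSplit (spToGSp spToGSp_coe)
open Cfsg.Agent.Helper7.FieldPSL (FDesc)

variable {F : Type*} [Field F] {F₀ : Type*} [Field F₀] {m : ℕ}

local notation "Mt" => Matrix (Fin m ⊕ Fin m) (Fin m ⊕ Fin m) F
local notation "Mt₀" => Matrix (Fin m ⊕ Fin m) (Fin m ⊕ Fin m) F₀
local notation "SpG" => Matrix.symplecticGroup (Fin m) F
local notation "SpG₀" => Matrix.symplecticGroup (Fin m) F₀

variable (E : FDesc F F₀)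

theorem map_mem_symplectic {A : Mt₀} (hA : A ∈ Matrix.symplecticGroup (Fin m) F₀) :
    A.map E.j ∈ Matrix.symplecticGroup (Fin m) F := by
  rw [SymplecticGroup.mem_iff] at hA ⊢
  have h1 := congrArg (fun M : Mt₀ => M.map E.j) hA
  simp only [Matrix.map_mul, Matrix.transpose_map, J_map] at h1
  rw [← Matrix.transpose_map]
  exact h1

/-- base change on the symplectic group -/
def jSp : SpG₀ →* SpG where
  toFun s := ⟨s.1.map E.j, map_mem_symplectic E s.2⟩
  map_one' := by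
    apply Subtype.ext
    show (1 : Mt₀).map E.j = 1
    rw [Matrix.map_one _ (map_zero _) (map_one _)]
  map_mul' s t := by
    apply Subtype.ext
    show (s.1 * t.1).map E.j = s.1.map E.j * t.1.map E.j
    rw [Matrix.map_mul]

theorem jSp_coe (s : SpG₀) : (jSp E s).1 = s.1.map E.j := rfl

theorem jSp_injective : Function.Injective (jSp E : SpG₀ →* SpG) := by
  intro s t h
  apply Subtype.ext
  have h1 := congrArg Subtype.val h
  rw [jSp_coe, jSp_coe] at h1
  exact Matrix.map_injective E.j.injective h1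

theorem jGSp_spToGSp (hm : 1 ≤ m) (s : SpG₀) :
    jGSp E hm (spToGSp m F₀ s) = spToGSp m F (jSp E s) := by
  apply Subtype.ext
  apply Units.ext
  rfl

theorem smul_one_map (d : F₀) :
    ((d • (1 : Mt₀)).map E.j : Mt) = E.j d • (1 : Mt) := by
  ext i k
  by_cases h : i = k
  · subst h
    simp
  · simp [h]

theorem jSp_mem_center_iff [NeZero m] (c : SpG₀) :
    jSp E c ∈ Subgroup.center SpG ↔ c ∈ Subgroup.center SpG₀ := by
  have : Nonempty (Fin m) := ⟨⟨0, Nat.pos_of_ne_zero (NeZero.ne m)⟩⟩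
  rw [mem_center_iff, mem_center_iff]
  constructor
  · rintro ⟨d, hd, hc⟩
    have hd' : d = 1 ∨ d = -1 := by
      have : (d - 1) * (d + 1) = 0 := by linear_combination hd
      rcases mul_eq_zero.1 this with h | h
      · left; exact sub_eq_zero.1 h
      · right; exact eq_neg_of_add_eq_zero_left h
    obtain ⟨d₀, hd₀, hd₀'⟩ : ∃ d₀ : F₀, E.j d₀ = d ∧ d₀ * d₀ = 1 := by
      rcases hd' with rfl | rfl
      · exact ⟨1, map_one _, one_mul 1⟩
      · exact ⟨-1, by rw [map_neg, map_one], by ring⟩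
    refine ⟨d₀, hd₀', ?_⟩
    rw [jSp_coe, ← hd₀, ← smul_one_map] at hc
    exact Matrix.map_injective E.j.injective hc
  · rintro ⟨d₀, hd₀, hc⟩
    refine ⟨E.j d₀, by rw [← map_mul, hd₀, map_one], ?_⟩
    rw [jSp_coe, hc, smul_one_map]

theorem prS_jSp_eq_iff [NeZero m] (a b : SpG₀) :
    (prS (jSp E a) : Cfsg.PSp m F) = prS (jSp E b) ↔ (prS a : Cfsg.PSp m F₀) = prS b := by
  rw [prS_eq_iff, prS_eq_iff, ← map_inv, ← map_mul, jSp_mem_center_iff]

/-- the embedding of the rational symplectic group into the automorphism group -/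
noncomputable def iotaSp (hm : 1 ≤ m) : SpG₀ →* MulAut (Cfsg.PSp m F) :=
  (psiSpF E hm).comp (spToGSp m F₀)

theorem iotaSp_apply (hm : 1 ≤ m) (s : SpG₀) :
    iotaSp E hm s = psiSpF E hm (spToGSp m F₀ s) := rfl

theorem iotaSp_eq_conj (hm : 1 ≤ m) (s : SpG₀) :
    iotaSp E hm s = MulAut.conj (prS (jSp E s) : Cfsg.PSp m F) := by
  rw [iotaSp_apply, psiSpF_apply, jGSp_spToGSp, ← conj_eq_cSp]

theorem iotaSp_mem_Inn (hm : 1 ≤ m) (s : SpG₀) :
    iotaSp E hm s ∈ Cfsg.Inn (Cfsg.PSp m F) := by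
  rw [iotaSp_eq_conj]
  exact ⟨_, rfl⟩

theorem iotaSp_mem_range (hm : 1 ≤ m) (s : SpG₀) :
    iotaSp E hm s ∈ (psiSpF E hm : ↥(Cfsg.GSp m F₀) →* MulAut (Cfsg.PSp m F)).range := ⟨_, rfl⟩

theorem conj_spToGSp (k : ↥(Cfsg.GSp m F₀)) (s : SpG₀) :
    k * spToGSp m F₀ s * k⁻¹ = spToGSp m F₀ (conjSp k s) := by
  apply Subtype.ext
  show (k : GL (Fin m ⊕ Fin m) F₀) * Cfsg.Agent.Helper7.GraphPSL.spGLhom m F₀ s *
    (k : GL (Fin m ⊕ Fin m) F₀)⁻¹ = Cfsg.Agent.Helper7.GraphPSL.spGLhom m F₀ (conjSp k s)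
  rw [spGLhom_conjSp]

/-- `I₀` is normalised by the image of the rational similitudes -/
theorem iotaSp_conj (hm : 1 ≤ m) (k : ↥(Cfsg.GSp m F₀)) (s : SpG₀) :
    psiSpF E hm k * iotaSp E hm s * (psiSpF E hm k)⁻¹ = iotaSp E hm (conjSp k s) := by
  rw [iotaSp_apply, iotaSp_apply, ← map_inv, ← map_mul, ← map_mul, conj_spToGSp]

theorem conj_eq_one_iff {G : Type*} [Group G] (a : G) :
    MulAut.conj a = 1 ↔ a ∈ Subgroup.center G := by
  rw [Subgroup.mem_center_iff]
  constructor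
  · intro h y
    have := congrArg (fun e : MulAut G => e y) h
    simp only [MulAut.conj_apply, MulAut.one_apply] at this
    exact (mul_inv_eq_iff_eq_mul.1 this).symm
  · intro h
    ext y
    rw [MulAut.conj_apply, MulAut.one_apply, ← h y, mul_inv_cancel_right]

theorem iotaSp_eq_one_iff [NeZero m] (hm : 1 ≤ m)
    (hZP : Subgroup.center (Cfsg.PSp m F) = ⊥) (s : SpG₀) :
    iotaSp E hm s = 1 ↔ s ∈ Subgroup.center SpG₀ := by
  rw [iotaSp_eq_conj, conj_eq_one_iff, hZP, Subgroup.mem_bot, ← prS_eq_one_iff]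
  have h1 := prS_jSp_eq_iff E s 1
  rw [map_one, map_one, map_one] at h1
  exact h1


end Cfsg.Agent.Helper28.FS
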