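import Mathlib
import Cfsg.Prelude.Def_LieTypeDatum
import Cfsg.Agent.Helper2.SpSimple
import Cfsg.Agent.Helper28.FieldS2

set_option autoImplicit false
set_option linter.unusedSectionVars false

/-! The `p'`-core of the rational subgroup `I₀` is trivial. -/

namespace Cfsg.Agent.Helper28.FS

open Matrix Cfsg.Agent.Helper2.Sp
open Cfsg.Agent.Helper7.AutPSp Cfsg.Agent.Helper7.FieldPSp
open Cfsg.Agent.Helper7.GraphSplit (spToGSp spToGSp_coe)
open Cfsg.Agent.Helper7.FieldPSL (FDesc)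

variable {F : Type*} [Field F] {F₀ : Type*} [Field F₀] {m : ℕ}

local notation "SpG" => Matrix.symplecticGroup (Fin m) F
local notation "SpG₀" => Matrix.symplecticGroup (Fin m) F₀

/-- in characteristic two every square lies in the commutator subgroup of `Sp` -/
theorem sq_mem_commutator (h2 : (2 : F) = 0) (s : SpG) : s ^ 2 ∈ commutator SpG := by
  set f : SpG →* Abelianization SpG :=
    (powMonoidHom 2 : Abelianization SpG →* Abelianization SpG).comp Abelianization.of with hf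
  have hker : f.ker = ⊤ := by
    rw [eq_top_iff, ← TV_eq_top (Fin m) F]
    unfold TV
    rw [Subgroup.closure_le]
    rintro _ ⟨⟨v, c⟩, rfl⟩
    rw [SetLike.mem_coe, MonoidHom.mem_ker, hf, MonoidHom.comp_apply, powMonoidHom_apply,
      ← map_pow, pow_two]
    have h1 : (Tg v c : SpG) * Tg v c = 1 := by
      rw [Tg_add]
      have : c + c = 0 := by linear_combination c * h2
      rw [this, Tg_zero]
    show Abelianization.of (Tg v c * Tg v c) = 1
    rw [h1, map_one]
  have h1 : s ∈ f.ker := by rw [hker]; exact Subgroup.mem_top s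
  rw [MonoidHom.mem_ker, hf, MonoidHom.comp_apply, powMonoidHom_apply, ← map_pow] at h1
  rw [← Abelianization.ker_of, MonoidHom.mem_ker]
  exact h1

variable (E : FDesc F F₀)

/-- **the `p'`-core of `I₀` is trivial** -/
theorem core_I0 [NeZero m] (hm : 1 ≤ m) (hZP : Subgroup.center (Cfsg.PSp m F) = ⊥) {p : ℕ}
    (hpp : p.Prime)
    (hz : ∃ z ∈ (commutator SpG₀).map (iotaSp E hm), orderOf z = p)
    (M : Subgroup (MulAut (Cfsg.PSp m F))) (hM : M ≤ (iotaSp E hm).range)
    (hMnorm : ∀ s ∈ (iotaSp E hm).range, ∀ n ∈ M, s * n * s⁻¹ ∈ M)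
    (hcop : (Nat.card M).Coprime p) : M = ⊥ := by
  have hMn : (M.comap (iotaSp E hm)).Normal := by
    constructor
    intro n hn s
    rw [Subgroup.mem_comap, map_mul, map_mul, map_inv]
    exact hMnorm _ ⟨s, rfl⟩ _ hn
  by_cases hc : M.comap (iotaSp E hm) ≤ Subgroup.center SpG₀
  · rw [eq_bot_iff]
    intro y hy
    obtain ⟨s, rfl⟩ := hM hy
    have hs : s ∈ M.comap (iotaSp E hm) := hy
    rw [Subgroup.mem_bot, iotaSp_eq_one_iff E hm hZP]
    exact hc hs
  · exfalso
    obtain ⟨n₀, hn₀, hn₀Z⟩ := SetLike.not_le_iff_exists.mp hc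
    have : ∃ v : Fin m ⊕ Fin m → F₀, v ≠ 0 ∧
        ∀ a : F₀, (n₀ : Matrix (Fin m ⊕ Fin m) (Fin m ⊕ Fin m) F₀) *ᵥ v ≠ a • v := by
      by_contra hcon
      push Not at hcon
      exact hn₀Z (mem_center_of_fix hcon)
    obtain ⟨v₀, hv₀, hmove⟩ := this
    have hle := commutator_le_of_moves hn₀ hv₀ hmove
    obtain ⟨z, ⟨s, hs, rfl⟩, hzp⟩ := hz
    have hzM : iotaSp E hm s ∈ M := hle hs
    have hdvd : p ∣ Nat.card M := by
      rw [← hzp]
      have := orderOf_dvd_natCard (⟨iotaSp E hm s, hzM⟩ : ↥M)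
      rwa [Subgroup.orderOf_mk] at this
    have := Nat.Coprime.eq_one_of_dvd hcop.symm hdvd
    exact hpp.one_lt.ne' this

section order

variable [Fintype F] [Fintype F₀]

include E in
theorem two_ne_zero_sub' (h2 : (2 : F) ≠ 0) : (2 : F₀) ≠ 0 := by
  intro h
  apply h2
  have := congrArg E.j h
  rw [map_zero, map_ofNat] at this
  exact this

theorem card_ge_three_of_two_ne_zero {K : Type*} [Field K] [Fintype K] (h2 : (2 : K) ≠ 0) :
    3 ≤ Fintype.card K := by
  classical
  have h1 : ({0, 1, 2} : Finset K).card = 3 := by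
    rw [Finset.card_insert_of_notMem, Finset.card_insert_of_notMem, Finset.card_singleton]
    · intro h
      rw [Finset.mem_singleton] at h
      have : (1 : K) = 0 := by linear_combination (-1 : K) * h
      exact one_ne_zero this
    · intro h
      rw [Finset.mem_insert, Finset.mem_singleton] at h
      rcases h with h | h
      · exact zero_ne_one h
      · exact h2 h.symm
  rw [← h1]
  exact Finset.card_le_univ _

theorem inn_le_inndiag : Cfsg.Inn (Cfsg.PSp m F) ≤ Cfsg.inndiagPSp m F := by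
  rintro _ ⟨y, rfl⟩
  obtain ⟨g, rfl⟩ := prS_surjective y
  rw [inndiagPSp_eq_range, conj_eq_cSp]
  exact ⟨_, rfl⟩

/-- an element of order `p` in the image of the commutator subgroup of the rational symplectic
group -/
theorem exists_order_p [NeZero m] (r : ℕ) [Fact r.Prime] [CharP F r] (hm : 2 ≤ m)
    (hZP : Subgroup.center (Cfsg.PSp m F) = ⊥) (hσ : 0 < orderOf E.σ)
    {p : ℕ} [Fact p.Prime] (hpr : p ≠ r)
    (hdvd : p ∣ Nat.card ↥(Cfsg.Inn (Cfsg.PSp m F) ⊓
      Subgroup.centralizer {(phiSp E.σ : MulAut (Cfsg.PSp m F))})) :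
    ∃ z ∈ (commutator SpG₀).map (iotaSp E (by omega : 1 ≤ m)), orderOf z = p := by
  have hm1 : 1 ≤ m := by omega
  have hpp : p.Prime := Fact.out
  have hperf : (2 : F) ≠ 0 → commutator SpG₀ = ⊤ := by
    intro h2
    have h2₀ := two_ne_zero_sub' E h2
    apply commutator_symplectic_eq_top
    by_cases h3 : 3 ≤ m
    · exact Or.inl h3
    · exact Or.inr (Or.inl ⟨by omega, card_ge_three_of_two_ne_zero h2₀⟩)
  by_cases hp2 : p = 2
  · -- `p = 2`, odd characteristic
    subst hp2
    have h2 : (2 : F) ≠ 0 := by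
      intro h0
      have h1 : ((2 : ℕ) : F) = 0 := by exact_mod_cast h0
      rw [CharP.cast_eq_zero_iff F r] at h1
      have hr : r.Prime := Fact.out
      exact hpr ((Nat.prime_dvd_prime_iff_eq hr Nat.prime_two).mp h1).symm
    have h2₀ := two_ne_zero_sub' E h2
    refine ⟨iotaSp E hm1 (SymplecticGroup.symJ (Fin m) F₀), ⟨_, ?_, rfl⟩, ?_⟩
    · rw [hperf h2]
      exact Subgroup.mem_top _
    · apply orderOf_eq_prime
      · rw [← map_pow, iotaSp_eq_one_iff E hm1 hZP, mem_center_iff]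
        refine ⟨-1, by ring, ?_⟩
        rw [pow_two]
        show Matrix.J (Fin m) F₀ * Matrix.J (Fin m) F₀ = _
        rw [Matrix.J_squared]
        simp
      · rw [Ne, iotaSp_eq_one_iff E hm1 hZP, mem_center_iff]
        rintro ⟨c, hc, hJ⟩
        have h0 : (⟨0, Nat.pos_of_ne_zero (NeZero.ne m)⟩ : Fin m) =
          ⟨0, Nat.pos_of_ne_zero (NeZero.ne m)⟩ := rfl
        have := congrFun (congrFun hJ (Sum.inl ⟨0, Nat.pos_of_ne_zero (NeZero.ne m)⟩))
          (Sum.inl ⟨0, Nat.pos_of_ne_zero (NeZero.ne m)⟩)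
        have hJ0 : (SymplecticGroup.symJ (Fin m) F₀ : Matrix (Fin m ⊕ Fin m) (Fin m ⊕ Fin m) F₀)
            (Sum.inl ⟨0, Nat.pos_of_ne_zero (NeZero.ne m)⟩)
            (Sum.inl ⟨0, Nat.pos_of_ne_zero (NeZero.ne m)⟩) = 0 := by
          show Matrix.J (Fin m) F₀ _ _ = 0
          simp [Matrix.J]
        rw [hJ0] at this
        simp only [Matrix.smul_apply, Matrix.one_apply_eq, smul_eq_mul, mul_one] at this
        rw [← this] at hc
        simp at hc
  · -- `p` odd
    have hpodd : Nat.Coprime 4 p := by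
      have : Nat.Coprime 2 p := (Nat.coprime_primes Nat.prime_two hpp).2 (Ne.symm hp2)
      exact Nat.Coprime.pow_left 2 this
    obtain ⟨z₀, hz₀⟩ := exists_prime_orderOf_dvd_card' p hdvd
    have hzord : orderOf (z₀ : MulAut (Cfsg.PSp m F)) = p := by
      rw [Subgroup.orderOf_coe]
      exact hz₀
    have hzP : (z₀ : MulAut (Cfsg.PSp m F)) ∈
        (psiSpF E hm1 : ↥(Cfsg.GSp m F₀) →* MulAut (Cfsg.PSp m F)).range := by
      rw [range_psiSpF E r hm1 hσ]
      exact ⟨inn_le_inndiag z₀.2.1, z₀.2.2⟩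
    obtain ⟨k, hk⟩ := hzP
    obtain ⟨s, hs⟩ := exists_sp_of_mu_sq hm1 (x := k ^ 2) (ν := muGSp hm1 k) (by rw [map_pow])
    have hz2 : (z₀ : MulAut (Cfsg.PSp m F)) ^ 2 = iotaSp E hm1 s := by
      rw [← hk, ← map_pow, hs, map_mul, iotaSp_apply]
      have h1 : psiSpF E hm1 (scalarGSp (muGSp hm1 k)) = (1 : MulAut (Cfsg.PSp m F)) := by
        have h2 : scalarGSp (muGSp hm1 k) ∈
            (psiSpF E hm1 : ↥(Cfsg.GSp m F₀) →* MulAut (Cfsg.PSp m F)).ker := by
          rw [ker_psiSpF E r hm1, Subgroup.mem_subgroupOf, scalarGSp_coe,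
            Cfsg.Geo.mem_scalars_iff]
          exact ⟨_, Cfsg.Agent.Helper7.GraphPSL.scalarGLgen_coe _⟩
        exact h2
      rw [h1, one_mul]
    have hs2 : s ^ 2 ∈ commutator SpG₀ := by
      by_cases h2 : (2 : F) = 0
      · apply sq_mem_commutator
        apply E.j.injective
        rw [map_ofNat, h2, map_zero]
      · rw [hperf h2]
        exact Subgroup.mem_top _
    have hz4 : (z₀ : MulAut (Cfsg.PSp m F)) ^ 4 ∈ (commutator SpG₀).map (iotaSp E hm1) := by
      refine ⟨s ^ 2, hs2, ?_⟩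
      rw [map_pow, ← hz2, ← pow_mul]
    obtain ⟨a, ha⟩ := exists_pow_eq_self_of_coprime (x := (z₀ : MulAut (Cfsg.PSp m F)))
      (by rw [hzord]; exact hpodd)
    refine ⟨z₀, ?_, hzord⟩
    rw [← ha]
    exact Subgroup.pow_mem _ hz4 a

end order

end Cfsg.Agent.Helper28.FS
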