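import Mathlib
import Cfsg.Prelude.Def_LieTypeDatum
import Cfsg.Agent.Helper7.AutSp4g
import Cfsg.Agent.Helper28.FieldS3
import Cfsg.Agent.Helper28.FieldB4

set_option autoImplicit false
set_option linter.unusedSectionVars false

/-! The centralizer of the rational subgroup `I₀ ≅ PSp(F₀)` in the centralizer of the standard
field automorphism: the semilinear case. -/

namespace Cfsg.Agent.Helper28.FS

open Matrix Cfsg.Agent.Helper2.Sp
open Cfsg.Agent.Helper7.AutPSp Cfsg.Agent.Helper7.FieldPSp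
open Cfsg.Agent.Helper7.GraphSplit (spToGSp spToGSp_coe)
open Cfsg.Agent.Helper7.GraphPSL (mem_GSp_iff spGLhom spGLhom_coe spGLhom_injective)
open Cfsg.Agent.Helper7.FieldPSL (FDesc)
open Cfsg.Agent.Helper28.FB (mem_zpowers_of_fixes apply_eq_of_comm_conj)

variable {F : Type*} [Field F] {F₀ : Type*} [Field F₀] {m : ℕ}

local notation "V" => (Fin m ⊕ Fin m → F)
local notation "Mt" => Matrix (Fin m ⊕ Fin m) (Fin m ⊕ Fin m) F
local notation "GLm" => GL (Fin m ⊕ Fin m) F
local notation "SpG" => Matrix.symplecticGroup (Fin m) F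
local notation "SpG₀" => Matrix.symplecticGroup (Fin m) F₀

section transv

/-- a semilinear similitude commuting with the transvections `T e 1` and `T e c` for a vector `e`
with entries fixed by `τ` has `τ c = c` -/
theorem tau_fix_of_transv (g : GLm) (hg : g ∈ Cfsg.GSp m F) (τ : F ≃+* F) (e f : V)
    (hef : om e f = 1) (hτe : (fun i => τ (e i)) = e) (c : F)
    (H : ∀ b : F, (b = 1 ∨ b = c) → (g : Mt) * (T e b).map τ = T e b * (g : Mt)) : τ c = c := by
  obtain ⟨c₀, hc₀⟩ := (mem_GSp_iff m _).1 hg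
  have hcomm : ∀ b : F, (b = 1 ∨ b = c) → (g : Mt) * T e (τ b) = T e b * (g : Mt) := by
    intro b hb
    have := H b hb
    rw [Cfsg.Agent.Helper7.AutSp4.T_map_equiv, hτe] at this
    exact this
  obtain ⟨e', he'⟩ : ∃ e' : V, e' = (g : Mt) *ᵥ e := ⟨_, rfl⟩
  obtain ⟨f', hf'⟩ : ∃ f' : V, f' = (g : Mt) *ᵥ f := ⟨_, rfl⟩
  have hrel : ∀ b : F, (b = 1 ∨ b = c) → τ b • e' = (b * om e f') • e := by
    intro b hb
    have h3 := congrArg (fun M : Mt => M *ᵥ f) (hcomm b hb)
    beta_reduce at h3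
    rw [← Matrix.mulVec_mulVec, ← Matrix.mulVec_mulVec, T_mulVec, T_mulVec, hef, mul_one,
      Matrix.mulVec_add, Matrix.mulVec_smul, ← he', ← hf'] at h3
    exact add_left_cancel h3
  have h4 := hrel c (Or.inr rfl)
  have h4' := hrel 1 (Or.inl rfl)
  rw [map_one, one_smul, one_mul] at h4'
  rw [h4', smul_smul] at h4
  have he0 : e ≠ 0 := e_ne_zero hef
  have h5 : (τ c * om e f' - c * om e f') • e = 0 := by rw [sub_smul, h4, sub_self]
  have hne : om e f' ≠ 0 := by
    intro h0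
    rw [h0, zero_smul] at h4'
    have h6 : om e' f' = (c₀ : F) * om e f := by rw [he', hf']; exact hc₀ e f
    rw [h4', om_zero_left, hef, mul_one] at h6
    exact c₀.ne_zero h6.symm
  rcases smul_eq_zero.mp h5 with h6 | h6
  · have h7 : (τ c - c) * om e f' = 0 := by linear_combination h6
    rcases mul_eq_zero.mp h7 with h8 | h8
    · exact sub_eq_zero.mp h8
    · exact absurd h8 hne
  · exact absurd h6 he0

end transv

variable (E : FDesc F F₀)

theorem T_map_hom (v : Fin m ⊕ Fin m → F₀) (c : F₀) :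
    (T v c).map E.j = T (fun i => E.j (v i)) (E.j c) := by
  unfold T
  have h1 : (fun i => E.j (v i)) ᵥ* J (Fin m) F = fun k => E.j ((v ᵥ* J (Fin m) F₀) k) := by
    funext k
    rw [← J_map (m := m) E.j]
    simp only [Matrix.vecMul, dotProduct, Matrix.map_apply, map_sum, map_mul]
  rw [h1]
  ext i k
  by_cases h : i = k
  · subst h
    simp [Matrix.vecMulVec_apply]
  · simp [Matrix.vecMulVec_apply, h]

theorem jSp_Tg (v : Fin m ⊕ Fin m → F₀) (c : F₀) :
    jSp E (Tg v c) = Tg (fun i => E.j (v i)) (E.j c) := by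
  apply Subtype.ext
  exact T_map_hom E v c

theorem conjSp_jSp (hm : 1 ≤ m) (k : ↥(Cfsg.GSp m F₀)) (s : SpG₀) :
    conjSp (jGSp E hm k) (jSp E s) = jSp E (conjSp k s) := by
  apply Subtype.ext
  rw [conjSp_coe, jSp_coe, jSp_coe, conjSp_coe, Matrix.map_mul, Matrix.map_mul]
  rfl

section lemmaD

variable [Fintype F] [Fintype F₀]

include E in
theorem charP_sub (r : ℕ) [CharP F r] : CharP F₀ r :=
  RingHom.charP E.j E.j.injective r

/-- a similitude-induced automorphism commuting with the field automorphism and centralising `I₀`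
is trivial -/
theorem cSp_eq_one_of_centralizes (r : ℕ) [Fact r.Prime] [CharP F r] (hm : 1 ≤ m)
    (hZP : Subgroup.center (Cfsg.PSp m F) = ⊥) (hσ : 0 < orderOf E.σ)
    (δ : MulAut (Cfsg.PSp m F)) (hδ : δ ∈ Cfsg.inndiagPSp m F)
    (hδC : δ ∈ Subgroup.centralizer {(phiSp E.σ : MulAut (Cfsg.PSp m F))})
    (hcomm : ∀ s : SpG₀, δ * iotaSp E hm s = iotaSp E hm s * δ) : δ = 1 := by
  have hch : CharP F₀ r := charP_sub E r
  have hne : NeZero m := ⟨by omega⟩
  have h1 : δ ∈ (psiSpF E hm : ↥(Cfsg.GSp m F₀) →* MulAut (Cfsg.PSp m F)).range := by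
    rw [range_psiSpF E r hm hσ]
    exact ⟨hδ, hδC⟩
  obtain ⟨k, rfl⟩ := h1
  have h2 : ∀ s : SpG₀, (prS (conjSp k s) : Cfsg.PSp m F₀) = prS s := by
    intro s
    have h3 := hcomm s
    rw [iotaSp_eq_conj] at h3
    have h4 := apply_eq_of_comm_conj hZP _ _ h3
    rw [psiSpF_apply, cSp_prS, conjSp_jSp] at h4
    exact (prS_jSp_eq_iff E _ _).1 h4
  have h5 : (cSp k : MulAut (Cfsg.PSp m F₀)) = 1 := by
    ext y
    obtain ⟨s, rfl⟩ := prS_surjective y
    rw [cSp_prS, MulAut.one_apply]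
    exact h2 s
  have h6 : k ∈ (psiSpF E hm : ↥(Cfsg.GSp m F₀) →* MulAut (Cfsg.PSp m F)).ker := by
    rw [ker_psiSpF E r hm, Subgroup.mem_subgroupOf]
    exact (cSp_eq_one_iff r hm k).1 h5
  exact h6

/-- **Lemma D, semilinear case** -/
theorem mem_zpowers_of_centralizes_semi (r : ℕ) [Fact r.Prime] [CharP F r]
    (hm : 1 ≤ m) (hZP : Subgroup.center (Cfsg.PSp m F) = ⊥) (hσ : 0 < orderOf E.σ)
    (g : ↥(Cfsg.GSp m F)) (τ : F ≃+* F)
    (hγC : cSp g * phiSp τ ∈ Subgroup.centralizer {(phiSp E.σ : MulAut (Cfsg.PSp m F))})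
    (hcomm : ∀ s : SpG₀, (cSp g * phiSp τ) * iotaSp E hm s = iotaSp E hm s * (cSp g * phiSp τ)) :
    cSp g * phiSp τ ∈ Subgroup.zpowers (phiSp E.σ : MulAut (Cfsg.PSp m F)) := by
  have hm0 : 0 < m := by omega
  -- the rational transvections are fixed
  have hfix : ∀ (v₀ : Fin m ⊕ Fin m → F₀) (b₀ : F₀),
      ((g : GLm) : Mt) * (T (fun i => E.j (v₀ i)) (E.j b₀)).map τ =
        T (fun i => E.j (v₀ i)) (E.j b₀) * ((g : GLm) : Mt) := by
    intro v₀ b₀
    have h3 := hcomm (Tg v₀ b₀)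
    rw [iotaSp_eq_conj] at h3
    have h4 := apply_eq_of_comm_conj hZP _ _ h3
    rw [MulAut.mul_apply, phiSp_prS, cSp_prS, jSp_Tg] at h4
    have hx : (Tg (fun i => E.j (v₀ i)) (E.j b₀) : SpG) ^ r ^ 1 = 1 := by
      rw [Tg_eq_sgS]
      exact sgS_pElement r _ _ _
    have hy : (conjSp g (phiSpS τ (Tg (fun i => E.j (v₀ i)) (E.j b₀)))) ^ r ^ 1 = 1 := by
      rw [← map_pow, ← map_pow, hx, map_one, map_one]
    have h5 := prS_inj_pElements r hm hy hx h4
    have h6 := congrArg Subtype.val h5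
    rw [conjSp_coe, phiSpS_coe] at h6
    have h7 : (Tg (fun i => E.j (v₀ i)) (E.j b₀) : SpG).1 = T (fun i => E.j (v₀ i)) (E.j b₀) := rfl
    rw [h7] at h6
    have := congrArg (fun M : Mt => M * ((g : GLm) : Mt)) h6
    beta_reduce at this
    rwa [Matrix.mul_assoc, ← Units.val_mul, inv_mul_cancel, Units.val_one, Matrix.mul_one] at this
  -- the field automorphism fixes the fixed field
  have hτfix : ∀ a₀ : F₀, τ (E.j a₀) = E.j a₀ := by
    intro a₀
    obtain ⟨e₀, he₀⟩ : ∃ e₀ : Fin m ⊕ Fin m → F₀, e₀ = Pi.single (Sum.inl ⟨0, hm0⟩) 1 := ⟨_, rfl⟩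
    obtain ⟨e, he⟩ : ∃ e : V, e = Pi.single (Sum.inl ⟨0, hm0⟩) 1 := ⟨_, rfl⟩
    obtain ⟨f, hf⟩ : ∃ f : V, f = Pi.single (Sum.inr ⟨0, hm0⟩) (-1) := ⟨_, rfl⟩
    have hee₀ : (fun i => E.j (e₀ i)) = e := by
      ext i
      rw [he, he₀]
      by_cases hi : i = Sum.inl ⟨0, hm0⟩
      · rw [hi]; simp
      · simp [Pi.single_apply, hi]
    have hτe : (fun i => τ (e i)) = e := by
      ext i
      rw [he]
      by_cases hi : i = Sum.inl ⟨0, hm0⟩
      · rw [hi]; simp
      · simp [Pi.single_apply, hi]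
    have hef : om e f = 1 := by
      rw [om_eq_sum, he, hf]
      rw [Finset.sum_eq_single (⟨0, hm0⟩ : Fin m)]
      · simp
      · intro b _ hb
        simp [Pi.single_apply, hb]
      · intro h0
        exact absurd (Finset.mem_univ _) h0
    apply tau_fix_of_transv (g : GLm) g.2 τ e f hef hτe (E.j a₀)
    intro b hb
    obtain ⟨b₀, rfl⟩ : ∃ b₀ : F₀, E.j b₀ = b := by
      rcases hb with rfl | rfl
      · exact ⟨1, map_one _⟩
      · exact ⟨a₀, rfl⟩
    rw [← hee₀]
    exact hfix e₀ b₀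
  have hτz : τ ∈ Subgroup.zpowers E.σ := by
    apply mem_zpowers_of_fixes
    intro y hy
    obtain ⟨a₀, rfl⟩ := E.exists_j y hy
    exact hτfix a₀
  have hφz : (phiSp τ : MulAut (Cfsg.PSp m F)) ∈ Subgroup.zpowers (phiSp E.σ) := by
    obtain ⟨n, rfl⟩ := hτz
    rw [map_zpow]
    exact Subgroup.zpow_mem_zpowers _ n
  have hφC : (phiSp τ : MulAut (Cfsg.PSp m F)) ∈ Subgroup.centralizer {phiSp E.σ} := by
    rw [Subgroup.mem_centralizer_singleton_iff]
    obtain ⟨n, hn⟩ := hφz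
    rw [← hn]
    exact (Commute.zpow_right (Commute.refl _) n).eq.symm
  have hg1 : (cSp g : MulAut (Cfsg.PSp m F)) = 1 := by
    have e : (cSp g : MulAut (Cfsg.PSp m F)) = (cSp g * phiSp τ) * (phiSp τ)⁻¹ := by
      rw [mul_inv_cancel_right]
    apply cSp_eq_one_of_centralizes E r hm hZP hσ
    · rw [inndiagPSp_eq_range]
      exact ⟨g, rfl⟩
    · rw [e]
      exact Subgroup.mul_mem _ hγC (Subgroup.inv_mem _ hφC)
    · intro s
      have h6 : phiSp τ * iotaSp E hm s = iotaSp E hm s * phiSp τ := by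
        have h7 : iotaSp E hm s ∈ Subgroup.centralizer
            {(phiSp E.σ : MulAut (Cfsg.PSp m F))} := by
          have := iotaSp_mem_range E hm s
          rw [range_psiSpF E r hm hσ] at this
          exact this.2
        rw [Subgroup.mem_centralizer_singleton_iff] at h7
        obtain ⟨n, hn⟩ := hφz
        rw [← hn]
        have h8 : Commute (iotaSp E hm s) (phiSp E.σ : MulAut (Cfsg.PSp m F)) := h7
        exact (h8.zpow_right n).eq.symm
      have h9 : (phiSp τ : MulAut (Cfsg.PSp m F))⁻¹ * iotaSp E hm s =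
          iotaSp E hm s * (phiSp τ)⁻¹ := by
        rw [inv_mul_eq_iff_eq_mul, ← mul_assoc, h6, mul_inv_cancel_right]
      rw [e, mul_assoc, h9, ← mul_assoc, hcomm s, mul_assoc]
  rw [hg1, one_mul]
  exact hφz

end lemmaD

end Cfsg.Agent.Helper28.FS
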