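import Mathlib
import Cfsg.Prelude.Def_LieTypeDatum
import Cfsg.Agent.Helper28.FieldS4
import Cfsg.Agent.Helper28.FieldB5

set_option autoImplicit false
set_option linter.unusedSectionVars false

/-! The `p'`-core of the centralizer of the standard field automorphism of `PSp_{2m}(q)`. -/

namespace Cfsg.Agent.Helper28.FS

open Matrix Cfsg.Agent.Helper2.Sp
open Cfsg.Agent.Helper7.AutPSp Cfsg.Agent.Helper7.FieldPSp Cfsg.Agent.Helper7.AutSp4
open Cfsg.Agent.Helper7.GraphSplit (spToGSp spToGSp_coe)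
open Cfsg.Agent.Helper7.FieldPSL (FDesc)
open Cfsg.Agent.Helper28.FB (apply_eq_of_comm_conj card_inn_inf_centralizer pPrimeCore_eq_bot_of
  pPrimeCore_ne_bot_of)

section sp4

variable {F : Type*} [Field F] [Fintype F] [CharP F 2]

local notation "V" => (Fin 2 ⊕ Fin 2 → F)

/-- **an automorphism of `PSp₄(2^f)` fixing a transvection is induced by a semisimilarity** -/
theorem mem_semiSp_of_fix (γ : MulAut (Cfsg.PSp 2 F))
    (hfix : γ (prS (Tg (e1 : V) 1)) = prS (Tg (e1 : V) 1)) : γ ∈ semiSp 2 F := by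
  by_contra hγ
  have h2F : (2 : F) = 0 := CharTwo.two_eq_zero
  have hε : gamP * γ⁻¹ ∈ semiSp 2 F := by
    rw [Subgroup.mul_mem_iff_of_index_two index_semiSp, inv_mem_iff]
    exact ⟨fun h => absurd h gamP_not_mem, fun h => absurd h hγ⟩
  obtain ⟨x, τ, hx⟩ := hε
  have hInn : (cSp x : MulAut (Cfsg.PSp 2 F)) ∈ Cfsg.Inn (Cfsg.PSp 2 F) := by
    rw [← range_cSp_eq_Inn_of_char_two (by norm_num : 1 ≤ 2)]
    exact ⟨x, rfl⟩
  obtain ⟨y, hy⟩ := hInn
  obtain ⟨g, rfl⟩ := prS_surjective y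
  have hfix' : γ⁻¹ (prS (Tg (e1 : V) 1)) = prS (Tg (e1 : V) 1) := by
    rw [MulAut.inv_apply, MulEquiv.symm_apply_eq, hfix]
  have h1 := congrArg (fun φ : MulAut (Cfsg.PSp 2 F) => φ (prS (Tg (e1 : V) 1))) hx
  beta_reduce at h1
  rw [MulAut.mul_apply _ (gamP (F := F)) γ⁻¹, hfix'] at h1
  unfold gamP at h1
  rw [liftP_prS, gamAut_apply, gamHom_Tg_e1, MulAut.mul_apply, phiSp_prS, ← hy,
    MulAut.conj_apply, Tg_eq_sgS, phiSpS_sgS_zero, ← map_inv, ← map_mul, ← map_mul,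
    sgS_conj (om_zero_left _), Matrix.mulVec_zero] at h1
  have h2 := prS_injective_char_two (by norm_num : 1 ≤ 2) h1
  obtain ⟨e', he'⟩ : ∃ e' : V, e' = g.1 *ᵥ (fun i => τ ((e1 : V) i)) := ⟨_, rfl⟩
  rw [← he'] at h2
  obtain ⟨a1, a2, b1, b2, rfl⟩ : ∃ a1 a2 b1 b2 : F, e' = vec4 a1 a2 b1 b2 :=
    ⟨_, _, _, _, vec4_eta e'⟩
  have h3 := congrArg Subtype.val h2
  rw [tm_sgS (om_smul_e2_e1 1), tm_sgS_zero] at h3
  have h4 := congrArg (fun M : Matrix (Fin 2 ⊕ Fin 2) (Fin 2 ⊕ Fin 2) F => M *ᵥ (f1 : V)) h3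
  beta_reduce at h4
  rw [T_mulVec] at h4
  unfold f1 at h4
  rw [Sg_e1_e2_mulVec, om_vec4, vec4_smul, vec4_add] at h4
  obtain ⟨h41, h42, -, -⟩ := vec4_inj h4
  have : (1 : F) = 0 := by
    linear_combination (τ 1 * a2 * a2) * h41 - (τ 1 * a1 * a2 + 1) * h42
  exact one_ne_zero this

end sp4

section main

variable {F : Type*} [Field F] [Fintype F] {F₀ : Type*} [Field F₀] [Fintype F₀] {m : ℕ}

local notation "SpG" => Matrix.symplecticGroup (Fin m) F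
local notation "SpG₀" => Matrix.symplecticGroup (Fin m) F₀

variable (E : FDesc F F₀)

theorem e1_map : (fun i => E.j ((e1 : Fin 2 ⊕ Fin 2 → F₀) i)) = (e1 : Fin 2 ⊕ Fin 2 → F) := by
  funext i
  rcases i with i | i <;> fin_cases i <;> simp [e1, vec4]

/-- an automorphism centralising `I₀` is induced by a semisimilarity -/
theorem mem_semiSp_of_centralizes (r : ℕ) [Fact r.Prime] [CharP F r] (hm : 2 ≤ m)
    (hZP : Subgroup.center (Cfsg.PSp m F) = ⊥) (γ : MulAut (Cfsg.PSp m F))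
    (hcomm : ∀ s : SpG₀, γ * iotaSp E (by omega : 1 ≤ m) s = iotaSp E (by omega : 1 ≤ m) s * γ) :
    γ ∈ semiSp m F := by
  by_cases h : m = 2 ∧ r = 2
  · obtain ⟨rfl, rfl⟩ := h
    apply mem_semiSp_of_fix
    have h3 := hcomm (Tg (e1 : Fin 2 ⊕ Fin 2 → F₀) 1)
    rw [iotaSp_eq_conj] at h3
    have h4 := apply_eq_of_comm_conj hZP _ _ h3
    rw [jSp_Tg, e1_map, map_one] at h4
    exact h4
  · rw [mem_semiSp]
    apply aut_PSp_all (p := r) hm
    intro h2 hr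
    exact h ⟨h2, hr⟩

/-- **Lemma D**: the centralizer of `I₀` in the centralizer of the field automorphism -/
theorem mem_zpowers_of_centralizes_Sp (r : ℕ) [Fact r.Prime] [CharP F r] (hm : 2 ≤ m)
    (hZP : Subgroup.center (Cfsg.PSp m F) = ⊥) (hσ : 0 < orderOf E.σ)
    (γ : MulAut (Cfsg.PSp m F))
    (hγC : γ ∈ Subgroup.centralizer {(phiSp E.σ : MulAut (Cfsg.PSp m F))})
    (hcomm : ∀ s : SpG₀, γ * iotaSp E (by omega : 1 ≤ m) s = iotaSp E (by omega : 1 ≤ m) s * γ) :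
    γ ∈ Subgroup.zpowers (phiSp E.σ : MulAut (Cfsg.PSp m F)) := by
  obtain ⟨g, τ, rfl⟩ := mem_semiSp.1 (mem_semiSp_of_centralizes E r hm hZP γ hcomm)
  exact mem_zpowers_of_centralizes_semi E r (by omega) hZP hσ g τ hγC hcomm

/-- the rational symplectic group is not central -/
theorem exists_not_mem_center (hm : 1 ≤ m) :
    ∃ s : SpG₀, s ∉ Subgroup.center SpG₀ := by
  have : Nonempty (Fin m) := ⟨⟨0, by omega⟩⟩
  refine ⟨⟨_, upper_mem⟩, ?_⟩
  intro h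
  rw [mem_center_iff] at h
  obtain ⟨c, -, hc⟩ := h
  have h1 := congrFun (congrFun hc (Sum.inl ⟨0, by omega⟩)) (Sum.inr ⟨0, by omega⟩)
  simp at h1

/-- **the `p'`-core of the centralizer of the standard field automorphism of `PSp`** -/
theorem core_iff_Sp (r : ℕ) [Fact r.Prime] [CharP F r] (hm : 2 ≤ m)
    (hZP : Subgroup.center (Cfsg.PSp m F) = ⊥)
    {p : ℕ} [Fact p.Prime] (hp : orderOf E.σ = p) (hpr : p ≠ r)
    (A : Subgroup (MulAut (Cfsg.PSp m F)))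
    (hinn : ∀ k : Cfsg.PSp m F, MulAut.conj k ∈ A) :
    Cfsg.pPrimeCore p
        ↥(A ⊓ Subgroup.centralizer {(phiSp E.σ : MulAut (Cfsg.PSp m F))}) ≠ ⊥ ↔
      Nat.Coprime p (Nat.card ↥(MonoidHom.eqLocus
        (phiSp E.σ : MulAut (Cfsg.PSp m F)).toMonoidHom (MonoidHom.id (Cfsg.PSp m F)))) := by
  have hpp : p.Prime := Fact.out
  have hm1 : 1 ≤ m := by omega
  have hne : NeZero m := ⟨by omega⟩
  have hσ : 0 < orderOf E.σ := by rw [hp]; exact hpp.pos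
  have hrange := range_psiSpF E r hm1 hσ
  obtain ⟨φ, hφ⟩ : ∃ φ : MulAut (Cfsg.PSp m F), φ = phiSp E.σ := ⟨_, rfl⟩
  rw [← hφ]
  rw [← hφ] at hrange
  have hInnA : Cfsg.Inn (Cfsg.PSp m F) ≤ A := by
    rintro _ ⟨k, rfl⟩
    exact hinn k
  have hI₀Inn : (iotaSp E hm1 : SpG₀ →* _).range ≤ Cfsg.Inn (Cfsg.PSp m F) := by
    rintro _ ⟨s, rfl⟩
    exact iotaSp_mem_Inn E hm1 s
  have hI₀C : (iotaSp E hm1 : SpG₀ →* _).range ≤ Subgroup.centralizer {φ} := by
    rintro _ ⟨s, rfl⟩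
    have := iotaSp_mem_range E hm1 s
    rw [hrange] at this
    exact this.2
  have hcardN := card_inn_inf_centralizer hZP φ
  have hI₀ne : (iotaSp E hm1 : SpG₀ →* _).range ≠ ⊥ := by
    intro h
    obtain ⟨s, hs⟩ := exists_not_mem_center (F₀ := F₀) hm1
    apply hs
    rw [← iotaSp_eq_one_iff E hm1 hZP]
    have ha : iotaSp E hm1 s ∈ (iotaSp E hm1 : SpG₀ →* _).range := ⟨s, rfl⟩
    rw [h, Subgroup.mem_bot] at ha
    exact ha
  constructor
  · intro hne'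
    by_contra hcop
    apply hne'
    have hdvd : p ∣ Nat.card ↥(MonoidHom.eqLocus φ.toMonoidHom
        (MonoidHom.id (Cfsg.PSp m F))) := by
      by_contra h
      exact hcop ((Nat.Prime.coprime_iff_not_dvd hpp).2 h)
    rw [← hcardN, hφ] at hdvd
    have hz := exists_order_p E r hm hZP hσ hpr hdvd
    apply pPrimeCore_eq_bot_of
    intro N hNC hNnorm hNcop
    refine normal_coprime_eq_bot' φ (by rw [hφ, orderOf_phiSp r hm1, hp]) A
      (Cfsg.Inn (Cfsg.PSp m F)) (iotaSp E hm1 : SpG₀ →* _).range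
      (psiSpF E hm1 : ↥(Cfsg.GSp m F₀) →* MulAut (Cfsg.PSp m F)).range hI₀Inn hI₀C hInnA ?_ ?_ ?_
      ?_ N hNC hNnorm hNcop
    · rw [hrange]
      exact inf_le_inf_right _ inn_le_inndiag
    · rintro _ ⟨k, rfl⟩ _ ⟨s, rfl⟩
      rw [iotaSp_conj]
      exact ⟨_, rfl⟩
    · intro M hM hMnorm hMcop
      exact core_I0 E hm1 hZP hpp hz M hM hMnorm hMcop
    · intro γ hγC hγ
      rw [hφ] at hγC ⊢
      apply mem_zpowers_of_centralizes_Sp E r hm hZP hσ γ hγC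
      intro s
      exact hγ _ ⟨s, rfl⟩
  · intro hcop
    apply pPrimeCore_ne_bot_of p _ (Cfsg.Inn (Cfsg.PSp m F) ⊓ Subgroup.centralizer {φ})
    · exact inf_le_inf_right _ hInnA
    · intro c hc' n hn
      refine ⟨(inferInstance : (Cfsg.Inn (Cfsg.PSp m F)).Normal).conj_mem n hn.1 c, ?_⟩
      exact Subgroup.mul_mem _ (Subgroup.mul_mem _ hc'.2 hn.2) (Subgroup.inv_mem _ hc'.2)
    · rw [hcardN]
      exact hcop.symm
    · intro h
      apply hI₀ne
      rw [eq_bot_iff, ← h]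
      exact le_inf hI₀Inn hI₀C

end main

end Cfsg.Agent.Helper28.FS
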