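import Mathlib
import Cfsg.Prelude.Def_LieTypeDatum
import Cfsg.Agent.Helper28.FieldS5
import Cfsg.Agent.Helper28.FieldB6

set_option autoImplicit false
set_option linter.unusedSectionVars false

/-! Failure of local balance for `PSp_{2m}(q)`: automorphisms of prime order outside the
inner-diagonal group. -/

namespace Cfsg.Agent.Helper28.FS

open Matrix Cfsg.Agent.Helper2.Sp
open Cfsg.Agent.Helper7.AutPSp Cfsg.Agent.Helper7.FieldPSp Cfsg.Agent.Helper7.AutSp4
open Cfsg.Agent.Helper7.FieldPSL (FDesc)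
open Cfsg.Agent.Helper28.FB (fixF fdescOf fdescOf_σ core_conj card_eqLocus_conj conj_inv_conj
  conj_mem_map_conj)

variable {F : Type*} [Field F] [Fintype F] {m : ℕ}

/-- an automorphism of prime order different from the characteristic is induced by a
semisimilarity -/
theorem mem_semiSp_of_order (r : ℕ) [Fact r.Prime] [CharP F r] (hm : 2 ≤ m)
    {p : ℕ} [Fact p.Prime] (hpr : p ≠ r) (x : MulAut (Cfsg.PSp m F)) (hord : orderOf x = p) :
    x ∈ semiSp m F := by
  have hpp : p.Prime := Fact.out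
  by_cases h : m = 2 ∧ r = 2
  · obtain ⟨rfl, rfl⟩ := h
    have h1 : x ^ 2 ∈ semiSp 2 F := Subgroup.sq_mem_of_index_two index_semiSp x
    have hodd : p % 2 = 1 := by
      rcases hpp.eq_two_or_odd with h2 | h2
      · exact absurd h2 hpr
      · exact h2
    have h2 : x = (x ^ 2) ^ ((p + 1) / 2) := by
      rw [← pow_mul]
      have e : 2 * ((p + 1) / 2) = p + 1 := by omega
      rw [e, pow_succ, ← hord, pow_orderOf_eq_one, one_mul]
    rw [h2]
    exact Subgroup.pow_mem _ h1 _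
  · rw [mem_semiSp]
    apply aut_PSp_all (p := r) hm
    intro h2 hr
    exact h ⟨h2, hr⟩

/-- an automorphism of prime order outside the inner-diagonal group is conjugate to a standard
field automorphism -/
theorem exists_conj_std_Sp (r : ℕ) [Fact r.Prime] [CharP F r] (hm : 2 ≤ m)
    {p : ℕ} [Fact p.Prime] (hpr : p ≠ r) (x : MulAut (Cfsg.PSp m F)) (hord : orderOf x = p)
    (hnot : ¬ Cfsg.IsInnerDiagonalAutPSp x) :
    ∃ (σ : F ≃+* F) (B : ↥(Cfsg.GSp m F)), orderOf σ = p ∧ σ ≠ RingEquiv.refl F ∧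
      x = cSp B * phiSp σ * (cSp B)⁻¹ := by
  have hpp : p.Prime := Fact.out
  have hm1 : 1 ≤ m := by omega
  obtain ⟨g, τ, hx⟩ := mem_semiSp.1 (mem_semiSp_of_order r hm hpr x hord)
  have hτ1 : τ ≠ RingEquiv.refl F := by
    intro h
    apply hnot
    have h1 : (phiSp τ : MulAut (Cfsg.PSp m F)) = 1 := by
      rw [h]
      exact map_one phiSp
    rw [hx, h1, mul_one, isInnerDiagonalAutPSp_iff]
    exact ⟨g, rfl⟩
  have hτp : τ ^ p = 1 := by
    have h1 : x ^ p = 1 := by rw [← hord]; exact pow_orderOf_eq_one x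
    rw [hx, cSp_mul_phiSp_pow] at h1
    have h3 : (phiSp (τ ^ p) : MulAut (Cfsg.PSp m F)) = cSp (nrmGSp τ g p)⁻¹ := by
      rw [map_inv]
      exact eq_inv_of_mul_eq_one_right h1
    exact phiSp_eq_cSp r hm1 (τ ^ p) _ h3
  have hτord : orderOf τ = p := by
    have h1 : orderOf τ ∣ p := orderOf_dvd_of_pow_eq_one hτp
    rcases (Nat.dvd_prime hpp).1 h1 with h | h
    · exfalso
      apply hτ1
      rw [orderOf_eq_one_iff] at h
      exact h
    · exact h
  have hfin : Finite ↥(fixF τ) := inferInstance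
  have h5 : (cSp g * phiSp (fdescOf τ).σ : MulAut (Cfsg.PSp m F)) ^ orderOf (fdescOf τ).σ = 1 := by
    rw [fdescOf_σ, hτord, ← hx, ← hord]
    exact pow_orderOf_eq_one x
  obtain ⟨B, hB⟩ := conj_of_pow_eq_one_Sp (fdescOf τ) r hm1
    (by rw [fdescOf_σ, hτord]; exact hpp.pos) g h5
  rw [fdescOf_σ] at hB
  exact ⟨τ, B, hτord, hτ1, by rw [hx, hB]⟩

/-- **failure of local balance for `PSp_{2m}(q)`** -/
theorem main_Sp (r : ℕ) [Fact r.Prime] [CharP F r] (hm : 2 ≤ m)
    (hs : m = 2 → 3 ≤ Fintype.card F)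
    (A : Subgroup (MulAut (Cfsg.PSp m F)))
    (hinn : ∀ k : Cfsg.PSp m F, MulAut.conj k ∈ A) {p : ℕ} [Fact p.Prime] (hpr : p ≠ r)
    (x : MulAut (Cfsg.PSp m F)) (hord : orderOf x = p)
    (hnot : ¬ Cfsg.IsInnerDiagonalAutPSp x) :
    Cfsg.pPrimeCore p ↥(A ⊓ Subgroup.centralizer {x}) ≠ ⊥ ↔
      (Cfsg.IsFieldAutClassPSp x ∧
        Nat.Coprime p (Nat.card ↥(MonoidHom.eqLocus x.toMonoidHom
          (MonoidHom.id (Cfsg.PSp m F))))) := by
  have hZP := center_PSp_eq_bot r hm hs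
  obtain ⟨σ, B, hσ, hσ1, hx⟩ := exists_conj_std_Sp r hm hpr x hord hnot
  obtain ⟨α, hα⟩ : ∃ α : MulAut (Cfsg.PSp m F), α = (cSp B)⁻¹ := ⟨_, rfl⟩
  have hαx : α * x * α⁻¹ = phiSp σ := by
    rw [hx, hα]
    exact conj_inv_conj _ _
  have hfield : Cfsg.IsFieldAutClassPSp x :=
    ⟨α, σ, hσ1, (isStdFieldAutPSp_iff σ _).2 hαx⟩
  have hfin : Fintype ↥(fixF σ) := Fintype.ofFinite _
  have h1 := core_conj p A α x _ hαx
  have h2 := core_iff_Sp (fdescOf σ) r hm hZP (by rw [fdescOf_σ]; exact hσ) hpr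
    (A.map (MulAut.conj α).toMonoidHom) (conj_mem_map_conj A hinn α)
  rw [fdescOf_σ] at h2
  have h3 := card_eqLocus_conj α x _ hαx
  rw [h1, h2, h3]
  exact ⟨fun h => ⟨hfield, h⟩, fun h => h.2⟩

end Cfsg.Agent.Helper28.FS
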