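import Mathlib

set_option autoImplicit false

namespace Cfsg.Agent.Helper28.Golay

open Classical

/-- support of a binary word -/
noncomputable def supp (u : Fin 24 → ZMod 2) : Finset (Fin 24) := Finset.univ.filter (fun i => u i ≠ 0)

theorem mem_supp (u : Fin 24 → ZMod 2) (i : Fin 24) : i ∈ supp u ↔ u i ≠ 0 := by
  simp [supp]

theorem hammingNorm_eq (u : Fin 24 → ZMod 2) : hammingNorm u = (supp u).card := by
  unfold hammingNorm supp
  congr 1

theorem zmod2_cases (a : ZMod 2) : a = 0 ∨ a = 1 := by
  revert a; decide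

theorem supp_sub (u v : Fin 24 → ZMod 2) :
    supp (u - v) = (supp u \ supp v) ∪ (supp v \ supp u) := by
  ext i
  simp only [mem_supp, Finset.mem_union, Finset.mem_sdiff, Pi.sub_apply, not_not]
  rcases zmod2_cases (u i) with h | h <;> rcases zmod2_cases (v i) with h' | h' <;>
    rw [h, h'] <;> decide

theorem wt_sub (u v : Fin 24 → ZMod 2) :
    hammingNorm (u - v) + 2 * (supp u ∩ supp v).card = hammingNorm u + hammingNorm v := by
  rw [hammingNorm_eq, hammingNorm_eq, hammingNorm_eq, supp_sub, Finset.card_union_of_disjoint]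
  · have h1 := Finset.card_sdiff_add_card_inter (supp u) (supp v)
    have h2 := Finset.card_sdiff_add_card_inter (supp v) (supp u)
    rw [Finset.inter_comm] at h2
    omega
  · rw [Finset.disjoint_left]
    intro i hi hi'
    rw [Finset.mem_sdiff] at hi hi'
    exact hi.2 hi'.1

variable (C : Submodule (ZMod 2) (Fin 24 → ZMod 2))

/-- two distinct words of weight at most 4 in the same coset -/
theorem lemmaA (hmin : ∀ w ∈ C, w ≠ 0 → 8 ≤ hammingNorm w) (u u' : Fin 24 → ZMod 2)
    (hd : u - u' ∈ C) (hne : u ≠ u') (h4 : hammingNorm u ≤ 4) (h4' : hammingNorm u' ≤ 4) :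
    hammingNorm u = 4 ∧ hammingNorm u' = 4 ∧ Disjoint (supp u) (supp u') := by
  have h8 := hmin _ hd (sub_ne_zero.mpr hne)
  have := wt_sub u u'
  have hc : (supp u ∩ supp u').card = 0 := by omega
  refine ⟨by omega, by omega, ?_⟩
  rw [Finset.disjoint_iff_inter_eq_empty]
  exact Finset.card_eq_zero.mp hc

/-- binary words correspond to subsets -/
noncomputable def suppEquiv : (Fin 24 → ZMod 2) ≃ Finset (Fin 24) where
  toFun := supp
  invFun s := fun i => if i ∈ s then 1 else 0
  left_inv u := by
    funext i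
    show (if i ∈ supp u then (1 : ZMod 2) else 0) = u i
    by_cases h : i ∈ supp u
    · rw [if_pos h]
      rw [mem_supp] at h
      rcases zmod2_cases (u i) with h' | h'
      · exact absurd h' h
      · exact h'.symm
    · rw [if_neg h]
      rw [mem_supp, not_not] at h
      exact h.symm
  right_inv s := by
    ext i
    rw [mem_supp]
    by_cases h : i ∈ s <;> simp [h]

theorem card_wt_eq (k : ℕ) :
    (Finset.univ.filter (fun u : Fin 24 → ZMod 2 => hammingNorm u = k)).card = Nat.choose 24 k := by
  rw [Finset.card_equiv suppEquiv (t := Finset.powersetCard k Finset.univ)]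
  · rw [Finset.card_powersetCard, Finset.card_univ, Fintype.card_fin]
  · intro u
    simp only [Finset.mem_filter, Finset.mem_univ, true_and, Finset.mem_powersetCard,
      Finset.subset_univ, hammingNorm_eq]
    rfl

theorem card_wt_le3 :
    (Finset.univ.filter (fun u : Fin 24 → ZMod 2 => hammingNorm u ≤ 3)).card = 2325 := by
  rw [Finset.card_eq_sum_card_fiberwise (f := fun u => hammingNorm u) (t := Finset.range 4)]
  · calc _ = ∑ b ∈ Finset.range 4, Nat.choose 24 b := by
          apply Finset.sum_congr rfl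
          intro k hk
          rw [Finset.mem_range] at hk
          rw [← card_wt_eq k]
          refine congrArg Finset.card ?_
          ext u
          simp only [Finset.mem_filter, Finset.mem_univ, true_and]
          constructor
          · exact fun h => h.2
          · exact fun h => ⟨by omega, h⟩
      _ = 2325 := by simp [Finset.sum_range_succ, Nat.choose]
  · intro u hu
    rw [Finset.mem_coe] at hu
    simp only [Finset.mem_filter, Finset.mem_univ, true_and] at hu
    simp only [Finset.coe_range, Set.mem_Iio]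
    omega

theorem card_C (hdim : Module.finrank (ZMod 2) C = 12) :
    (Finset.univ.filter (fun u : Fin 24 → ZMod 2 => u ∈ C)).card = 4096 := by
  have h1 : Fintype.card C = 2 ^ 12 := by
    rw [Module.card_eq_pow_finrank (K := ZMod 2) (V := C), hdim, ZMod.card]
  rw [← Fintype.card_subtype, h1]
  norm_num

/-- double counting over cosets -/
theorem sum_card_filter (B : Finset (Fin 24 → ZMod 2)) :
    ∑ w : Fin 24 → ZMod 2, (B.filter (fun u => u - w ∈ C)).card
      = B.card * (Finset.univ.filter (fun u : Fin 24 → ZMod 2 => u ∈ C)).card := by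
  simp only [Finset.card_filter]
  rw [Finset.sum_comm]
  rw [Finset.card_eq_sum_ones B, Finset.sum_mul]
  apply Finset.sum_congr rfl
  intro u _
  rw [one_mul, ← Finset.card_filter, ← Finset.card_filter]
  apply Finset.card_equiv (Equiv.subLeft u)
  intro w
  simp

/-- at most six words of weight four in a coset -/
theorem card_S4_le (hmin : ∀ w ∈ C, w ≠ 0 → 8 ≤ hammingNorm w) (w : Fin 24 → ZMod 2) :
    ((Finset.univ.filter (fun u : Fin 24 → ZMod 2 => hammingNorm u = 4)).filter
      (fun u => u - w ∈ C)).card ≤ 6 := by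
  set S := (Finset.univ.filter (fun u : Fin 24 → ZMod 2 => hammingNorm u = 4)).filter
      (fun u => u - w ∈ C) with hS
  have hmem : ∀ u ∈ S, hammingNorm u = 4 ∧ u - w ∈ C := by
    intro u hu
    simp only [hS, Finset.mem_filter, Finset.mem_univ, true_and] at hu
    exact hu
  have hdisj : ∀ u ∈ S, ∀ u' ∈ S, u ≠ u' → Disjoint (supp u) (supp u') := by
    intro u hu u' hu' hne
    have h1 := hmem u hu
    have h2 := hmem u' hu'
    have hd : u - u' ∈ C := by
      have := C.sub_mem h1.2 h2.2
      simpa using this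
    exact (lemmaA C hmin u u' hd hne (by omega) (by omega)).2.2
  have hcard : (S.biUnion supp).card = ∑ u ∈ S, (supp u).card :=
    Finset.card_biUnion hdisj
  have h4 : ∑ u ∈ S, (supp u).card = 4 * S.card := by
    rw [Finset.sum_congr rfl (fun u hu => by rw [← hammingNorm_eq, (hmem u hu).1]),
      Finset.sum_const, smul_eq_mul, mul_comm]
  have hle : (S.biUnion supp).card ≤ 24 := by
    calc (S.biUnion supp).card ≤ (Finset.univ : Finset (Fin 24)).card :=
          Finset.card_le_card (Finset.subset_univ _)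
      _ = 24 := by simp
  omega

/-- words of weight at most 3 in the coset of `w` -/
noncomputable def S3 (w : Fin 24 → ZMod 2) : Finset (Fin 24 → ZMod 2) :=
  (Finset.univ.filter (fun u : Fin 24 → ZMod 2 => hammingNorm u ≤ 3)).filter (fun u => u - w ∈ C)

/-- words of weight 4 in the coset of `w` -/
noncomputable def S4 (w : Fin 24 → ZMod 2) : Finset (Fin 24 → ZMod 2) :=
  (Finset.univ.filter (fun u : Fin 24 → ZMod 2 => hammingNorm u = 4)).filter (fun u => u - w ∈ C)

theorem mem_S3 (w u : Fin 24 → ZMod 2) : u ∈ S3 C w ↔ hammingNorm u ≤ 3 ∧ u - w ∈ C := by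
  simp [S3]

theorem mem_S4 (w u : Fin 24 → ZMod 2) : u ∈ S4 C w ↔ hammingNorm u = 4 ∧ u - w ∈ C := by
  simp [S4]

theorem sub_mem_of_coset {w u u' : Fin 24 → ZMod 2} (h : u - w ∈ C) (h' : u' - w ∈ C) :
    u - u' ∈ C := by
  have := C.sub_mem h h'
  simpa using this

theorem card_S3_le (hmin : ∀ w ∈ C, w ≠ 0 → 8 ≤ hammingNorm w) (w : Fin 24 → ZMod 2) :
    (S3 C w).card ≤ 1 := by
  rw [Finset.card_le_one]
  intro a ha b hb
  rw [mem_S3] at ha hb
  by_contra hne
  have := lemmaA C hmin a b (sub_mem_of_coset C ha.2 hb.2) hne (by omega) (by omega)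
  omega

theorem S4_empty_of_S3 (hmin : ∀ w ∈ C, w ≠ 0 → 8 ≤ hammingNorm w) (w : Fin 24 → ZMod 2)
    (h : (S3 C w).card = 1) : (S4 C w).card = 0 := by
  rw [Finset.card_eq_zero, Finset.eq_empty_iff_forall_notMem]
  intro b hb
  obtain ⟨a, ha⟩ := Finset.card_eq_one.mp h
  have ha' : a ∈ S3 C w := by rw [ha]; exact Finset.mem_singleton_self a
  rw [mem_S3] at ha'
  rw [mem_S4] at hb
  have hne : a ≠ b := by
    rintro rfl
    omega
  have := lemmaA C hmin a b (sub_mem_of_coset C ha'.2 hb.2) hne (by omega) (by omega)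
  omega

theorem coset_structure (hdim : Module.finrank (ZMod 2) C = 12)
    (hmin : ∀ w ∈ C, w ≠ 0 → 8 ≤ hammingNorm w) (w : Fin 24 → ZMod 2) :
    ((S3 C w).card = 1 ∧ (S4 C w).card = 0) ∨ ((S3 C w).card = 0 ∧ (S4 C w).card = 6) := by
  have hle : ∀ w ∈ (Finset.univ : Finset (Fin 24 → ZMod 2)),
      (S4 C w).card + 6 * (S3 C w).card ≤ 6 := by
    intro w _
    have h1 := card_S3_le C hmin w
    have h2 : (S4 C w).card ≤ 6 := card_S4_le C hmin w
    rcases Nat.le_one_iff_eq_zero_or_eq_one.mp h1 with h | h
    · omega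
    · have := S4_empty_of_S3 C hmin w h
      omega
  have hsum : ∑ w : Fin 24 → ZMod 2, ((S4 C w).card + 6 * (S3 C w).card)
      = ∑ _w : Fin 24 → ZMod 2, 6 := by
    rw [Finset.sum_add_distrib, ← Finset.mul_sum]
    have e4 : ∑ w : Fin 24 → ZMod 2, (S4 C w).card = 10626 * 4096 := by
      have := sum_card_filter C (Finset.univ.filter (fun u : Fin 24 → ZMod 2 => hammingNorm u = 4))
      rw [card_wt_eq, card_C C hdim] at this
      rw [← show Nat.choose 24 4 = 10626 by decide]
      exact this
    have e3 : ∑ w : Fin 24 → ZMod 2, (S3 C w).card = 2325 * 4096 := by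
      have := sum_card_filter C (Finset.univ.filter (fun u : Fin 24 → ZMod 2 => hammingNorm u ≤ 3))
      rw [card_wt_le3, card_C C hdim] at this
      exact this
    rw [e4, e3, Finset.sum_const, Finset.card_univ]
    simp
  have hall := (Finset.sum_eq_sum_iff_of_le hle).mp hsum w (Finset.mem_univ w)
  have h1 := card_S3_le C hmin w
  rcases Nat.le_one_iff_eq_zero_or_eq_one.mp h1 with h | h
  · right
    exact ⟨h, by omega⟩
  · left
    exact ⟨h, S4_empty_of_S3 C hmin w h⟩

end Cfsg.Agent.Helper28.Golay
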