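import Mathlib
import Cfsg.Agent.Helper28.Golay

set_option autoImplicit false

namespace Cfsg.Agent.Helper28.Golay

open Classical

variable (C : Submodule (ZMod 2) (Fin 24 → ZMod 2))

theorem supp_symm (A : Finset (Fin 24)) : supp (suppEquiv.symm A) = A :=
  suppEquiv.apply_symm_apply A

theorem biUnion_S4_eq_univ (hmin : ∀ w ∈ C, w ≠ 0 → 8 ≤ hammingNorm w) (w : Fin 24 → ZMod 2)
    (h6 : (S4 C w).card = 6) : (S4 C w).biUnion supp = Finset.univ := by
  apply Finset.eq_univ_of_card
  have hdisj : ∀ u ∈ S4 C w, ∀ u' ∈ S4 C w, u ≠ u' → Disjoint (supp u) (supp u') := by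
    intro u hu u' hu' hne
    rw [mem_S4] at hu hu'
    exact (lemmaA C hmin u u' (sub_mem_of_coset C hu.2 hu'.2) hne (by omega) (by omega)).2.2
  rw [Finset.card_biUnion hdisj,
    Finset.sum_congr rfl (fun u hu => by rw [← hammingNorm_eq, ((mem_S4 C w u).mp hu).1]),
    Finset.sum_const, h6]
  simp

/-- every 5-set lies in the support of a codeword of weight 8 -/
theorem octad_exists (hdim : Module.finrank (ZMod 2) C = 12)
    (hmin : ∀ w ∈ C, w ≠ 0 → 8 ≤ hammingNorm w) (T : Finset (Fin 24)) (hT : T.card = 5) :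
    ∃ c ∈ C, hammingNorm c = 8 ∧ T ⊆ supp c := by
  have hne : T.Nonempty := by
    rw [← Finset.card_pos, hT]; norm_num
  obtain ⟨t, ht⟩ := hne
  set A := T.erase t with hA
  have hAcard : A.card = 4 := by
    rw [hA, Finset.card_erase_of_mem ht, hT]
  set u : Fin 24 → ZMod 2 := suppEquiv.symm A with hu
  have hsu : supp u = A := supp_symm A
  have hwu : hammingNorm u = 4 := by rw [hammingNorm_eq, hsu, hAcard]
  have huS4 : u ∈ S4 C u := by
    rw [mem_S4]
    exact ⟨hwu, by rw [sub_self]; exact C.zero_mem⟩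
  have h6 : (S4 C u).card = 6 := by
    rcases coset_structure C hdim hmin u with ⟨_, h4⟩ | ⟨_, h4⟩
    · rw [Finset.card_eq_zero] at h4
      rw [h4] at huS4
      exact absurd huS4 (Finset.notMem_empty u)
    · exact h4
  have hcover := biUnion_S4_eq_univ C hmin u h6
  have htmem : t ∈ (S4 C u).biUnion supp := by rw [hcover]; exact Finset.mem_univ t
  obtain ⟨u', hu'S, htu'⟩ := Finset.mem_biUnion.mp htmem
  have htA : t ∉ A := by rw [hA]; exact Finset.notMem_erase t T
  have hne' : u' ≠ u := by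
    rintro rfl
    rw [hsu] at htu'
    exact htA htu'
  have hu'4 := (mem_S4 C u u').mp hu'S
  have hdisj := (lemmaA C hmin u' u hu'4.2 hne' (by omega) (by omega)).2.2
  refine ⟨u' - u, hu'4.2, ?_, ?_⟩
  · have := wt_sub u' u
    rw [Finset.disjoint_iff_inter_eq_empty.mp hdisj, Finset.card_empty] at this
    omega
  · rw [supp_sub]
    intro x hx
    by_cases hxt : x = t
    · subst hxt
      apply Finset.mem_union_left
      rw [Finset.mem_sdiff]
      refine ⟨htu', ?_⟩
      rw [hsu]; exact htA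
    · apply Finset.mem_union_right
      rw [Finset.mem_sdiff, hsu]
      have hxA : x ∈ A := by rw [hA]; exact Finset.mem_erase.mpr ⟨hxt, hx⟩
      refine ⟨hxA, ?_⟩
      intro hx'
      have := Finset.disjoint_left.mp hdisj hx'
      rw [hsu] at this
      exact this hxA

/-- two codewords of weight 8 sharing 5 points of their supports coincide -/
theorem octad_unique (hmin : ∀ w ∈ C, w ≠ 0 → 8 ≤ hammingNorm w) (c₁ c₂ : Fin 24 → ZMod 2)
    (h₁ : c₁ ∈ C) (h₂ : c₂ ∈ C) (hw₁ : hammingNorm c₁ = 8) (hw₂ : hammingNorm c₂ = 8)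
    (T : Finset (Fin 24)) (hT : T.card = 5) (hT₁ : T ⊆ supp c₁) (hT₂ : T ⊆ supp c₂) : c₁ = c₂ := by
  by_contra hne
  have h8 := hmin _ (C.sub_mem h₁ h₂) (sub_ne_zero.mpr hne)
  have := wt_sub c₁ c₂
  have hsub : T ⊆ supp c₁ ∩ supp c₂ := Finset.subset_inter hT₁ hT₂
  have := Finset.card_le_card hsub
  omega

end Cfsg.Agent.Helper28.Golay
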