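import Mathlib
import Cfsg.Agent.Helper28.InndiagPlus6

set_option autoImplicit false
set_option linter.unusedSectionVars false

/-! `Inndiag(PΩ⁺) / Inn`: the three cases. -/

namespace Cfsg.Agent.Helper28.IDP

open Module Submodule Matrix Cfsg.Agent.Helper28.QPlus Cfsg.Agent.Helper28.Spin
  Cfsg.Agent.Helper28.PG Cfsg.Agent.Helper28.Sg Cfsg.Agent.Helper28.PA
open scoped commutatorElement

variable {F : Type*} [Field F] [Fintype F] [DecidableEq F] {m : ℕ}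

/-- the elements used in the case analysis -/
theorem exists_data (h2 : (2 : F) ≠ 0) (hm : 1 ≤ m) :
    ∃ (ν : Fˣ) (H : ↥(GO (QfPlus m F))) (s s' : ↥(Cfsg.isometryGroup F ⇑(QfPlus m F))),
      PG.chi (QfPlus m F) H = -1 ∧ (PG.sgn (QfPlus m F) m H = 1 ↔ Even m) ∧
      H * H = scal (QfPlus m F) ν ∧ H * oGO (QfPlus m F) s * H⁻¹ = oGO (QfPlus m F) s' ∧
      s' * s ∉ Cfsg.Omega F ⇑(QfPlus m F) ∧ s * s = 1 ∧ s' * s' = 1 ∧
      PG.chi (QfPlus m F) (oGO (QfPlus m F) s) = 1 ∧ PG.chi (QfPlus m F) (oGO (QfPlus m F) s') = 1 ∧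
      PG.sgn (QfPlus m F) m (oGO (QfPlus m F) s) = -1 ∧
      PG.sgn (QfPlus m F) m (oGO (QfPlus m F) s') = -1 := by
  have hex := hex_plus (F := F) hm
  obtain ⟨v, hv⟩ := hex
  obtain ⟨ν₀, hν₀⟩ := FiniteField.exists_nonsquare (F := F) (by
    intro h
    apply h2
    have := ringChar.Nat.cast_ringChar (R := F)
    rw [h] at this
    exact_mod_cast this)
  have hν0 : ν₀ ≠ 0 := by
    rintro rfl
    exact hν₀ ⟨0, by simp⟩
  obtain ⟨H, hchi, hsgn, hsq, hsim⟩ := exists_swap (m := m) h2 hm (Units.mk0 ν₀ hν0) hν₀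
  have hQw : QfPlus m F (((H : GL (Fin m ⊕ Fin m) F) : Matrix _ _ F) *ᵥ v) = ν₀ * QfPlus m F v :=
    hsim v
  have hw : QfPlus m F (((H : GL (Fin m ⊕ Fin m) F) : Matrix _ _ F) *ᵥ v) ≠ 0 := by
    rw [hQw]; exact mul_ne_zero hν0 hv
  have hns : ¬ IsSquare (QfPlus m F (((H : GL (Fin m ⊕ Fin m) F) : Matrix _ _ F) *ᵥ v) *
      QfPlus m F v) := by
    rintro ⟨r, hr⟩
    apply hν₀
    refine ⟨r * (QfPlus m F v)⁻¹, ?_⟩
    rw [hQw] at hr
    field_simp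
    linear_combination hr
  refine ⟨Units.mk0 ν₀ hν0, H, reflO (QfPlus m F) v hv, reflO (QfPlus m F) _ hw, hchi, hsgn, hsq,
    ?_, refl_mul_not_mem (QfPlus m F) h2 _ _ hw hv hns, reflO_mul_self _ _ _, reflO_mul_self _ _ _,
    chi_reflGO (QfPlus m F) ⟨v, hv⟩ v hv, chi_reflGO (QfPlus m F) ⟨v, hv⟩ _ hw,
    sgn_reflGO (QfPlus m F) ⟨v, hv⟩ m v hv, sgn_reflGO (QfPlus m F) ⟨v, hv⟩ m _ hw⟩
  rw [conj_oGO, conjO_reflO (QfPlus m F) H v hv hw]

/-- the inner automorphisms inside `Inndiag` -/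
abbrev NN (m : ℕ) (F : Type*) [Field F] : Subgroup ↥(Cfsg.inndiagPOmegaPlus m F) :=
  (Cfsg.Inn (Cfsg.POmega F (Cfsg.quadFormPlus m F))).subgroupOf (Cfsg.inndiagPOmegaPlus m F)

theorem Inn_le_pso : Cfsg.Inn (Cfsg.POmega F (Cfsg.quadFormPlus m F)) ≤
    Cfsg.psoAut F (Cfsg.quadFormPlus m F) := Inn_le_psoAut (QfPlus m F)

theorem index_NN (h2 : (2 : F) ≠ 0) (hm : 3 ≤ m) (k : ℕ)
    (hrel : (Cfsg.Inn (Cfsg.POmega F (Cfsg.quadFormPlus m F))).relIndex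
      (Cfsg.psoAut F (Cfsg.quadFormPlus m F)) = k) : (NN m F).index = k * 2 := by
  show (Cfsg.Inn (Cfsg.POmega F (Cfsg.quadFormPlus m F))).relIndex
    (Cfsg.inndiagPOmegaPlus m F) = k * 2
  rw [← Subgroup.relIndex_mul_relIndex _ _ _ Inn_le_pso (psoAut_le_inndiag h2 (by omega)), hrel,
    relIndex_pso_inndiag h2 hm]

theorem caseA (h2 : (2 : F) ≠ 0) (hm : 3 ≤ m)
    (hrel : (Cfsg.Inn (Cfsg.POmega F (Cfsg.quadFormPlus m F))).relIndex
      (Cfsg.psoAut F (Cfsg.quadFormPlus m F)) = 1) :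
    ∃ φ : ↥(Cfsg.inndiagPOmegaPlus m F) →* Multiplicative (ZMod 2), Function.Surjective φ ∧
      φ.ker = NN m F :=
  hom_of_index_two (NN m F) (index_NN h2 hm 1 hrel)

theorem cG_mem_Inn_of_eq (g : ↥(GO (QfPlus m F))) (t : ↥(Cfsg.isometryGroup F ⇑(QfPlus m F)))
    (ht : t ∈ Cfsg.Omega F ⇑(QfPlus m F)) (h : cG (QfPlus m F) g = cAut (QfPlus m F) t) :
    cG (QfPlus m F) g ∈ Cfsg.Inn (Cfsg.POmega F (Cfsg.quadFormPlus m F)) := by
  rw [h]
  exact cAut_mem_Inn (QfPlus m F) t ht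

theorem caseB (h2 : (2 : F) ≠ 0) (hm : 3 ≤ m) (hodd : Odd m)
    (hrel : (Cfsg.Inn (Cfsg.POmega F (Cfsg.quadFormPlus m F))).relIndex
      (Cfsg.psoAut F (Cfsg.quadFormPlus m F)) = 2)
    (hneg : ∃ g : ↥(Cfsg.isometryGroup F ⇑(QfPlus m F)), g ∈ Cfsg.Omega F ⇑(QfPlus m F) ∧
        ((g : GL (Fin m ⊕ Fin m) F) : Matrix (Fin m ⊕ Fin m) (Fin m ⊕ Fin m) F) = -1) :
    ∃ φ : ↥(Cfsg.inndiagPOmegaPlus m F) →* Multiplicative (ZMod 4), Function.Surjective φ ∧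
      φ.ker = NN m F := by
  have hQ := QfPlus_nondeg (F := F) m
  have hex := hex_plus (F := F) (m := m) (by omega)
  have hcardι : Fintype.card (Fin m ⊕ Fin m) = 2 * m := by
    rw [Fintype.card_sum, Fintype.card_fin]; omega
  obtain ⟨ν, H, s, s', hchi, hsgn, hsq, hconj, hnot, hs2, hs'2, hcs, hcs', hss, hss'⟩ :=
    exists_data (F := F) (m := m) h2 (by omega)
  have hsgnH : PG.sgn (QfPlus m F) m H = -1 := by
    rcases sgn_cases (QfPlus m F) hQ hcardι H with h | h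
    · exact absurd (hsgn.1 h) (Nat.not_even_iff_odd.2 hodd)
    · exact h
  obtain ⟨g, hg⟩ : ∃ g : ↥(GO (QfPlus m F)), g = H * oGO (QfPlus m F) s := ⟨_, rfl⟩
  have hgsgn : PG.sgn (QfPlus m F) m g = 1 := by
    rw [hg, PG.sgn_mul (QfPlus m F) hex, hsgnH, hss]; ring
  have hgg : g * g = oGO (QfPlus m F) s' * scal (QfPlus m F) ν * oGO (QfPlus m F) s := by
    rw [← hconj, ← hsq, hg]; group
  have hcgg : cG (QfPlus m F) (g * g) = cAut (QfPlus m F) (s' * s) := by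
    rw [hgg, map_mul, map_mul, cG_scal, mul_one, cG_oGO, cG_oGO, ← map_mul]
  apply hom_of_index_four_cyclic (NN m F) (index_NN h2 hm 2 hrel)
    ⟨cG (QfPlus m F) g, cG_mem_inndiag h2 (by omega) g hgsgn⟩
  rw [Subgroup.mem_subgroupOf]
  have key : cG (QfPlus m F) g ^ 2 = cAut (QfPlus m F) (s' * s) := by
    rw [pow_two, ← map_mul, hcgg]
  intro hc
  apply cAut_not_mem_Inn (QfPlus m F) hQ h2 (by rw [hcardι]; omega) hneg _ hnot
  rw [← key]
  exact hc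

theorem caseC (h2 : (2 : F) ≠ 0) (hm : 3 ≤ m) (heven : Even m)
    (hrel : (Cfsg.Inn (Cfsg.POmega F (Cfsg.quadFormPlus m F))).relIndex
      (Cfsg.psoAut F (Cfsg.quadFormPlus m F)) = 2)
    (hneg : ∃ g : ↥(Cfsg.isometryGroup F ⇑(QfPlus m F)), g ∈ Cfsg.Omega F ⇑(QfPlus m F) ∧
        ((g : GL (Fin m ⊕ Fin m) F) : Matrix (Fin m ⊕ Fin m) (Fin m ⊕ Fin m) F) = -1) :
    ∃ φ : ↥(Cfsg.inndiagPOmegaPlus m F) →* Multiplicative (ZMod 2 × ZMod 2),
      Function.Surjective φ ∧ φ.ker = NN m F := by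
  have hQ := QfPlus_nondeg (F := F) m
  have hex := hex_plus (F := F) (m := m) (by omega)
  have hcardι : Fintype.card (Fin m ⊕ Fin m) = 2 * m := by
    rw [Fintype.card_sum, Fintype.card_fin]; omega
  obtain ⟨ν, H, s, s', hchi, hsgn, hsq, hconj, hnot, hs2, hs'2, hcs, hcs', hss, hss'⟩ :=
    exists_data (F := F) (m := m) h2 (by omega)
  have hsgnH : PG.sgn (QfPlus m F) m H = 1 := hsgn.2 heven
  obtain ⟨t, ht⟩ : ∃ t : ↥(GO (QfPlus m F)), t = oGO (QfPlus m F) (s' * s) := ⟨_, rfl⟩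
  have htsgn : PG.sgn (QfPlus m F) m t = 1 := by
    rw [ht, map_mul, PG.sgn_mul (QfPlus m F) hex, hss, hss']; ring
  have htchi : PG.chi (QfPlus m F) t = 1 := by
    rw [ht, map_mul, PG.chi_mul (QfPlus m F) hex, hcs, hcs']; ring
  have hcommΩ : (s' * s) * (s' * s) ∈ Cfsg.Omega F ⇑(QfPlus m F) := by
    have hsinv : s⁻¹ = s := inv_eq_of_mul_eq_one_left hs2
    have hs'inv : s'⁻¹ = s' := inv_eq_of_mul_eq_one_left hs'2
    have : ⁅s', s⁆ ∈ Cfsg.Omega F ⇑(QfPlus m F) :=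
      Subgroup.commutator_mem_commutator (Subgroup.mem_top _) (Subgroup.mem_top _)
    rw [commutatorElement_def, hsinv, hs'inv] at this
    have e : s' * s * (s' * s) = s' * s * s' * s := by group
    rw [e]
    exact this
  have hHt : PG.sgn (QfPlus m F) m (H * t) = 1 := by
    rw [PG.sgn_mul (QfPlus m F) hex, hsgnH, htsgn, one_mul]
  have hHtchi : PG.chi (QfPlus m F) (H * t) = -1 := by
    rw [PG.chi_mul (QfPlus m F) hex, hchi, htchi, mul_one]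
  apply hom_of_index_four_klein (NN m F) (index_NN h2 hm 2 hrel)
    ⟨cG (QfPlus m F) H, cG_mem_inndiag h2 (by omega) H hsgnH⟩
    ⟨cG (QfPlus m F) t, cG_mem_inndiag h2 (by omega) t htsgn⟩
  · rw [Subgroup.mem_subgroupOf]
    have key : cG (QfPlus m F) H ^ 2 = 1 := by
      rw [pow_two, ← map_mul, hsq, cG_scal]
    have h1 : (1 : MulAut (Cfsg.POmega F ⇑(QfPlus m F))) ∈
        Cfsg.Inn (Cfsg.POmega F ⇑(QfPlus m F)) := Subgroup.one_mem _
    rw [← key] at h1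
    exact h1
  · rw [Subgroup.mem_subgroupOf]
    have key : cG (QfPlus m F) t ^ 2 = cAut (QfPlus m F) ((s' * s) * (s' * s)) := by
      rw [pow_two, ← map_mul, ht, ← map_mul, cG_oGO]
    have h1 := cAut_mem_Inn (QfPlus m F) _ hcommΩ
    rw [← key] at h1
    exact h1
  · rw [Subgroup.mem_subgroupOf]
    intro hc
    exact cG_not_mem_psoAut h2 hm H hchi (Inn_le_pso hc)
  · rw [Subgroup.mem_subgroupOf]
    show ¬ (cG (QfPlus m F) t ∈ _)
    rw [ht, cG_oGO]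
    exact cAut_not_mem_Inn (QfPlus m F) hQ h2 (by rw [hcardι]; omega) hneg _ hnot
  · rw [Subgroup.mem_subgroupOf]
    intro hc
    apply cG_not_mem_psoAut h2 hm (H * t) hHtchi
    rw [map_mul]
    exact Inn_le_pso hc

end Cfsg.Agent.Helper28.IDP
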