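import Mathlib
import Cfsg.Agent.Helper28.GraphInv5
import Cfsg.Agent.Helper28.InndiagPlus7

set_option autoImplicit false
set_option linter.unusedSectionVars false

/-! Involutory graph automorphisms of `PΩ⁺`: translation to the general statement. -/

namespace Cfsg.Agent.Helper28.GInv

open Matrix Module Cfsg.Agent.Helper28.Spin Cfsg.Agent.Helper28.IsoTransport
  Cfsg.Agent.Helper28.Sg Cfsg.Agent.Helper28.PA Cfsg.Agent.Helper28.PG Cfsg.Agent.Helper28.IDG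
  Cfsg.Agent.Helper28.QPlus

variable {F : Type*} [Field F] [Fintype F] [DecidableEq F] {m : ℕ}

theorem inndiag_eq_DD (h2 : (2 : F) ≠ 0) (hm : 1 ≤ m) :
    Cfsg.inndiagPOmegaPlus m F = DD (QfPlus m F) (IDP.hex_plus hm) m := by
  rw [IDP.inndiag_eq h2 hm]
  unfold DD
  congr 1

/-- the data extracted from a similarity graph automorphism of order two -/
theorem exists_graph_data (h2 : (2 : F) ≠ 0) (hm : 1 ≤ m)
    (γ : MulAut (Cfsg.POmega F (Cfsg.quadFormPlus m F)))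
    (hγ : Cfsg.IsSimilarityGraphAutPOmegaPlus m γ) (hγ2 : orderOf γ = 2) :
    ∃ g : ↥(GO (QfPlus m F)), PG.sgn (QfPlus m F) m g = -1 ∧ cG (QfPlus m F) g = γ ∧
      cG (QfPlus m F) g * cG (QfPlus m F) g = 1 := by
  have hQ := QfPlus_nondeg (F := F) m
  have hcardι : Fintype.card (Fin m ⊕ Fin m) = 2 * m := by
    rw [Fintype.card_sum, Fintype.card_fin]; omega
  obtain ⟨g₀, hg₀, hpsc, hind⟩ := hγ
  have hγg : γ = cG (QfPlus m F) ⟨g₀, hg₀⟩ := (induced_iff (QfPlus m F) g₀ hg₀ γ).1 hind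
  refine ⟨⟨g₀, hg₀⟩, ?_, hγg.symm, ?_⟩
  · rcases sgn_cases (QfPlus m F) hQ hcardι ⟨g₀, hg₀⟩ with h | h
    · exact absurd ((IDP.psc_iff_sgn h2 hm ⟨g₀, hg₀⟩).2 h) hpsc
    · exact h
  · have h1 : γ ^ 2 = 1 := by rw [← hγ2]; exact pow_orderOf_eq_one γ
    rw [pow_two] at h1
    rw [← hγg]
    exact h1

end Cfsg.Agent.Helper28.GInv
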