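import Mathlib

set_option autoImplicit false

/-! Counting subgroups of index two when the abelianization is a Klein four-group. -/

namespace Cfsg.Agent.Helper28

theorem commutator_le_of_index_two {G : Type*} [Group G] {H : Subgroup G} (hH : H.index = 2) :
    commutator G ≤ H := by
  haveI : H.Normal := Subgroup.normal_of_index_eq_two hH
  have hcard : Nat.card (G ⧸ H) = 2 := by rw [← Subgroup.index_eq_card]; exact hH
  haveI : Fact (Nat.Prime 2) := ⟨Nat.prime_two⟩
  haveI : IsCyclic (G ⧸ H) := isCyclic_of_prime_card hcard
  letI : CommGroup (G ⧸ H) := IsCyclic.commGroup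
  have := Abelianization.commutator_subset_ker (QuotientGroup.mk' H)
  rwa [QuotientGroup.ker_mk'] at this

theorem of_surjective' {G : Type*} [Group G] :
    Function.Surjective (Abelianization.of : G →* Abelianization G) :=
  QuotientGroup.mk_surjective

theorem card_index_two_subgroups {G : Type*} [Group G] [Finite G]
    (hcard : Nat.card (Abelianization G) = 4) (hexp : ∀ a : Abelianization G, a * a = 1) :
    Nat.card {H : Subgroup G // H.index = 2} = 3 := by
  classical
  set A := Abelianization G
  set φ : G →* A := Abelianization.of with hφ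
  have hsurj : Function.Surjective φ := of_surjective'
  haveI : Finite A := Finite.of_surjective _ hsurj
  -- step 1
  have e1 : {K : Subgroup A // K.index = 2} ≃ {H : Subgroup G // H.index = 2} :=
    { toFun := fun K => ⟨K.1.comap φ, by rw [Subgroup.index_comap_of_surjective _ hsurj]; exact K.2⟩
      invFun := fun H => ⟨H.1.map φ, by
        rw [Subgroup.index_map, MonoidHom.range_eq_top.2 hsurj, Subgroup.index_top, mul_one]
        have hk : φ.ker ≤ H.1 := by
          rw [hφ, Abelianization.ker_of]
          exact commutator_le_of_index_two H.2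
        rw [sup_eq_left.2 hk]
        exact H.2⟩
      left_inv := fun K => by
        apply Subtype.ext
        exact Subgroup.map_comap_eq_self_of_surjective hsurj K.1
      right_inv := fun H => by
        apply Subtype.ext
        apply Subgroup.comap_map_eq_self
        rw [hφ, Abelianization.ker_of]
        exact commutator_le_of_index_two H.2 }
  -- step 2
  haveI : Fact (Nat.Prime 2) := ⟨Nat.prime_two⟩
  have hord : ∀ a : A, a ≠ 1 → orderOf a = 2 := by
    intro a ha
    exact orderOf_eq_prime (by rw [pow_two]; exact hexp a) ha
  have hidx : ∀ a : A, a ≠ 1 → (Subgroup.zpowers a).index = 2 := by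
    intro a ha
    have h1 := Subgroup.card_mul_index (Subgroup.zpowers a)
    rw [Nat.card_zpowers, hord a ha, hcard] at h1
    omega
  let f : {a : A // a ≠ 1} → {K : Subgroup A // K.index = 2} :=
    fun a => ⟨Subgroup.zpowers a.1, hidx a.1 a.2⟩
  have hf : Function.Bijective f := by
    constructor
    · intro a b hab
      have h1 : Subgroup.zpowers a.1 = Subgroup.zpowers b.1 := congrArg Subtype.val hab
      have h2 : b.1 ∈ Subgroup.zpowers a.1 := by rw [h1]; exact Subgroup.mem_zpowers _
      obtain ⟨k, hk⟩ := Subgroup.mem_zpowers_iff.1 h2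
      apply Subtype.ext
      have h3 : a.1 ^ (2 : ℤ) = 1 := by
        rw [zpow_ofNat, pow_two]; exact hexp a.1
      rcases Int.emod_two_eq_zero_or_one k with h | h
      · exfalso
        apply b.2
        rw [← hk, ← Int.mul_ediv_add_emod k 2, h, add_zero, zpow_mul, h3, one_zpow]
      · rw [← hk, ← Int.mul_ediv_add_emod k 2, h, zpow_add, zpow_mul, h3, one_zpow, one_mul, zpow_one]
    · intro K
      have hK : Nat.card K.1 = 2 := by
        have h1 := Subgroup.card_mul_index K.1
        rw [K.2, hcard] at h1
        omega
      have hne : K.1 ≠ ⊥ := by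
        intro h
        rw [h, Subgroup.card_bot] at hK
        omega
      obtain ⟨a, ha1⟩ := (Subgroup.ne_bot_iff_exists_ne_one.1 hne)
      have ha1' : (a : A) ≠ 1 := fun h => ha1 (Subtype.ext h)
      refine ⟨⟨a.1, ha1'⟩, ?_⟩
      apply Subtype.ext
      apply Subgroup.eq_of_le_of_card_ge
      · rw [Subgroup.zpowers_le]; exact a.2
      · rw [hK, Nat.card_zpowers, hord _ ha1']
  rw [← Nat.card_congr e1, ← Nat.card_congr (Equiv.ofBijective f hf)]
  haveI := Fintype.ofFinite A
  rw [Nat.card_eq_fintype_card, Fintype.card_subtype_compl (fun a : A => a = 1)]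
  rw [Nat.card_eq_fintype_card] at hcard
  simp [hcard]

end Cfsg.Agent.Helper28
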