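import Mathlib

/-!
Finite-difference degree theory for `ZMod 2`-valued functions on groups of exponent 2, and the
Chevalley–Warning type parity statements that follow from it (helper28; used for S3117).
-/

set_option autoImplicit false

namespace Cfsg.Agent.Helper28.Inv3

section Deg

variable {E : Type*} [Group E]

/-- the difference operator -/
def dl (h : E) (f : E → ZMod 2) : E → ZMod 2 := fun x => f (x * h) + f x

/-- `Deg d f`: all `(d+1)`-fold differences of `f` vanish. -/
def Deg : ℕ → (E → ZMod 2) → Prop
  | 0, f => ∀ h x, dl h f x = 0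
  | (d + 1), f => ∀ h, Deg d (dl h f)

theorem z2_add_self (a : ZMod 2) : a + a = 0 := CharTwo.add_self_eq_zero a

theorem comm_of_exp (hexp : ∀ x : E, x * x = 1) (a b : E) : a * b = b * a := by
  have h1 : a * b * (a * b) = 1 := hexp _
  have ha : a⁻¹ = a := inv_eq_of_mul_eq_one_right (hexp a)
  have hb : b⁻¹ = b := inv_eq_of_mul_eq_one_right (hexp b)
  have h2 : a * b = (a * b)⁻¹ := (inv_eq_of_mul_eq_one_right h1).symm
  rw [h2, mul_inv_rev, ha, hb]

theorem dl_zero (h : E) : dl h (fun _ : E => (0 : ZMod 2)) = fun _ => 0 := by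
  funext x; simp [dl]

theorem dl_add (h : E) (f g : E → ZMod 2) : dl h (f + g) = dl h f + dl h g := by
  funext x; simp only [dl, Pi.add_apply]; ring

theorem deg_zero_fun : ∀ d : ℕ, Deg d (fun _ : E => (0 : ZMod 2))
  | 0 => by intro h x; simp [dl]
  | (d + 1) => by intro h; rw [dl_zero]; exact deg_zero_fun d

theorem deg_mono : ∀ (d : ℕ) (f : E → ZMod 2), Deg d f → Deg (d + 1) f
  | 0, f, hf => by
    intro h k x
    have : dl h f = fun _ => 0 := by funext y; exact hf h y
    rw [this]; simp [dl]
  | (d + 1), f, hf => by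
    intro h
    exact deg_mono d _ (hf h)

theorem deg_mono_le {d e : ℕ} (hde : d ≤ e) {f : E → ZMod 2} (hf : Deg d f) : Deg e f := by
  induction hde with
  | refl => exact hf
  | step _ ih => exact deg_mono _ _ ih

theorem deg_add : ∀ (d : ℕ) (f g : E → ZMod 2), Deg d f → Deg d g → Deg d (f + g)
  | 0, f, g, hf, hg => by
    intro h x
    rw [dl_add, Pi.add_apply, hf h x, hg h x, add_zero]
  | (d + 1), f, g, hf, hg => by
    intro h
    rw [dl_add]
    exact deg_add d _ _ (hf h) (hg h)

theorem deg_const (c : ZMod 2) : Deg 0 (fun _ : E => c) := by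
  intro h x; simp [dl, z2_add_self]

theorem deg_shift (hexp : ∀ x : E, x * x = 1) (a : E) :
    ∀ (d : ℕ) (f : E → ZMod 2), Deg d f → Deg d (fun x => f (x * a))
  | 0, f, hf => by
    intro h x
    have := hf h (x * a)
    simp only [dl] at this ⊢
    rw [mul_assoc, comm_of_exp hexp h a, ← mul_assoc]
    exact this
  | (d + 1), f, hf => by
    intro h
    have h1 := deg_shift hexp a d _ (hf h)
    have h2 : dl h (fun x => f (x * a)) = fun x => dl h f (x * a) := by
      funext x
      simp only [dl]
      rw [mul_assoc, comm_of_exp hexp h a, ← mul_assoc]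
    rw [h2]; exact h1

theorem dl_mul (h : E) (f g : E → ZMod 2) :
    dl h (f * g) = dl h f * (fun x => g (x * h)) + f * dl h g := by
  funext x
  simp only [dl, Pi.mul_apply, Pi.add_apply]
  have := z2_add_self (f x * g (x * h))
  linear_combination (-1 : ZMod 2) * this

theorem deg_mul_aux (hexp : ∀ x : E, x * x = 1) : ∀ (n a b : ℕ) (f g : E → ZMod 2), a + b = n →
    Deg a f → Deg b g → Deg n (f * g)
  | 0, a, b, f, g, hab, hf, hg => by
    have ha : a = 0 := by omega
    have hb : b = 0 := by omega
    subst ha; subst hb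
    intro h x
    rw [dl_mul]
    simp only [Pi.add_apply, Pi.mul_apply]
    rw [hf h x, hg h x]; ring
  | (n + 1), a, b, f, g, hab, hf, hg => by
    intro h
    rw [dl_mul]
    apply deg_add
    · rcases a with _ | a
      · have : dl h f = fun _ => 0 := by funext y; exact hf h y
        rw [this]
        have : ((fun _ => 0 : E → ZMod 2) * fun x => g (x * h)) = fun _ => 0 := by
          funext y; simp
        rw [this]; exact deg_zero_fun _
      · exact deg_mul_aux hexp n a b _ _ (by omega) (hf h) (deg_shift hexp h b g hg)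
    · rcases b with _ | b
      · have : dl h g = fun _ => 0 := by funext y; exact hg h y
        rw [this]
        have : (f * (fun _ => 0 : E → ZMod 2)) = fun _ => 0 := by
          funext y; simp
        rw [this]; exact deg_zero_fun _
      · exact deg_mul_aux hexp n a b _ _ (by omega) hf (hg h)

theorem deg_mul (hexp : ∀ x : E, x * x = 1) {a b : ℕ} {f g : E → ZMod 2}
    (hf : Deg a f) (hg : Deg b g) : Deg (a + b) (f * g) :=
  deg_mul_aux hexp (a + b) a b f g rfl hf hg

/-- pulling back along a homomorphism does not raise the degree -/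
theorem deg_comp {E' : Type*} [Group E'] (ι : E' →* E) :
    ∀ (d : ℕ) (f : E → ZMod 2), Deg d f → Deg d (f ∘ ι)
  | 0, f, hf => by
    intro h x
    have := hf (ι h) (ι x)
    simp only [dl, Function.comp_apply, map_mul] at this ⊢
    exact this
  | (d + 1), f, hf => by
    intro h
    have h1 := deg_comp ι d _ (hf (ι h))
    have h2 : dl h (f ∘ ι) = dl (ι h) f ∘ ι := by
      funext x; simp [dl, map_mul]
    rw [h2]; exact h1

/-- descending along a surjective homomorphism -/
theorem deg_of_comp_surj {E' : Type*} [Group E'] (π : E →* E') (hπ : Function.Surjective π) :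
    ∀ (d : ℕ) (g : E' → ZMod 2), Deg d (g ∘ π) → Deg d g
  | 0, g, hg => by
    intro h x
    obtain ⟨h', rfl⟩ := hπ h
    obtain ⟨x', rfl⟩ := hπ x
    have := hg h' x'
    simp only [dl, Function.comp_apply, map_mul] at this ⊢
    exact this
  | (d + 1), g, hg => by
    intro h
    obtain ⟨h', rfl⟩ := hπ h
    apply deg_of_comp_surj π hπ d
    have h2 : dl (π h') g ∘ π = dl h' (g ∘ π) := by
      funext x; simp [dl, map_mul]
    rw [h2]; exact hg h'

/-- a function satisfying the 7-term identity has degree at most 2 -/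
theorem deg_two_of_seven (hexp : ∀ x : E, x * x = 1) (f : E → ZMod 2)
    (h7 : ∀ x x' y : E, f (x * x' * y) + f (x * x') + f (x * y) + f (x' * y) + f x + f x' + f y = 0) :
    Deg 2 f := by
  intro h k l x
  simp only [dl]
  linear_combination (h7 (x * l) k h) + (h7 x k h) -
    (z2_add_self (f (k * h)) + z2_add_self (f k) + z2_add_self (f h))

end Deg

section Sum

universe u

theorem mem_zpowers_iff_of_exp {E : Type*} [Group E] (hexp : ∀ x : E, x * x = 1) (h x : E) :
    x ∈ Subgroup.zpowers h ↔ x = 1 ∨ x = h := by
  constructor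
  · intro hx
    obtain ⟨k, rfl⟩ := Subgroup.mem_zpowers_iff.mp hx
    have h2 : h ^ (2 : ℤ) = 1 := by
      rw [zpow_ofNat, pow_two]; exact hexp h
    rcases Int.emod_two_eq_zero_or_one k with hk | hk
    · left
      have : k = 2 * (k / 2) := by omega
      rw [this, zpow_mul, h2, one_zpow]
    · right
      have : k = 2 * (k / 2) + 1 := by omega
      rw [this, zpow_add, zpow_mul, h2, one_zpow, one_mul, zpow_one]
  · rintro (rfl | rfl)
    · exact one_mem _
    · exact Subgroup.mem_zpowers _

theorem z2_eq_of_add_eq_zero {a b : ZMod 2} (h : a + b = 0) : a = b := by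
  have := z2_add_self b
  linear_combination h - this

theorem sum_eq_zero : ∀ (d : ℕ) (E : Type u) [Group E] [Fintype E] (_ : ∀ x : E, x * x = 1)
    (f : E → ZMod 2), Deg d f → 2 ^ (d + 1) ≤ Fintype.card E → ∑ x, f x = 0
  | 0, E, _, _, hexp, f, hf, hc => by
    have hconst : ∀ x, f x = f 1 := by
      intro x
      have := hf x 1
      simp only [dl, one_mul] at this
      exact z2_eq_of_add_eq_zero this
    have h2 : 1 < Fintype.card E := by
      have : (2 : ℕ) ^ (0 + 1) = 2 := by norm_num
      omega
    obtain ⟨h, hh⟩ := Fintype.exists_ne_of_one_lt_card h2 (1 : E)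
    have ho : orderOf h = 2 := orderOf_eq_prime (by rw [pow_two]; exact hexp h) hh
    have hdvd : 2 ∣ Fintype.card E := by rw [← ho]; exact orderOf_dvd_card
    rw [Finset.sum_congr rfl (fun x _ => hconst x), Finset.sum_const, Finset.card_univ,
      nsmul_eq_mul]
    have : (Fintype.card E : ZMod 2) = 0 := (ZMod.natCast_eq_zero_iff _ _).mpr hdvd
    rw [this, zero_mul]
  | (d + 1), E, _, _, hexp, f, hf, hc => by
    classical
    have h2 : 1 < Fintype.card E := by
      have : 2 ^ 1 ≤ 2 ^ (d + 1 + 1) := Nat.pow_le_pow_right (by norm_num) (by omega)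
      omega
    obtain ⟨h, hh⟩ := Fintype.exists_ne_of_one_lt_card h2 (1 : E)
    have ho : orderOf h = 2 := orderOf_eq_prime (by rw [pow_two]; exact hexp h) hh
    set N : Subgroup E := Subgroup.zpowers h with hN
    have : N.Normal := ⟨fun n hn g => by
      rw [comm_of_exp hexp g n, mul_assoc, mul_inv_cancel, mul_one]; exact hn⟩
    have hrel : ∀ a b : E, QuotientGroup.leftRel N a b → dl h f a = dl h f b := by
      intro a b hab
      rw [QuotientGroup.leftRel_apply] at hab
      rcases (mem_zpowers_iff_of_exp hexp h _).mp hab with h1 | h1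
      · have : b = a := by
          have := congrArg (fun t => a * t) h1
          simpa using this
        rw [this]
      · have : b = a * h := by
          have := congrArg (fun t => a * t) h1
          simpa using this
        rw [this]
        simp only [dl]
        rw [mul_assoc, hexp h, mul_one, add_comm]
    let g : E ⧸ N → ZMod 2 := fun q => Quotient.liftOn' q (dl h f) hrel
    have hgπ : g ∘ (QuotientGroup.mk' N) = dl h f := by
      funext x; rfl
    have hgdeg : Deg d g := by
      apply deg_of_comp_surj (QuotientGroup.mk' N) (QuotientGroup.mk'_surjective N)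
      rw [hgπ]; exact hf h
    have hexp' : ∀ q : E ⧸ N, q * q = 1 := by
      intro q
      induction q using QuotientGroup.induction_on with
      | H x => rw [← QuotientGroup.mk_mul, hexp x]; rfl
    haveI : Fintype (E ⧸ N) := Fintype.ofFinite _
    have hcard : Fintype.card E = Fintype.card (E ⧸ N) * 2 := by
      have h1 := Subgroup.card_eq_card_quotient_mul_card_subgroup N
      have h3 : Nat.card N = 2 := by rw [hN, Nat.card_zpowers, ho]
      rw [Nat.card_eq_fintype_card, Nat.card_eq_fintype_card, h3] at h1
      exact h1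
    have hc' : 2 ^ (d + 1) ≤ Fintype.card (E ⧸ N) := by
      rw [hcard, pow_succ] at hc
      omega
    have ih := sum_eq_zero d (E ⧸ N) hexp' g hgdeg hc'
    rw [← ih, ← Finset.sum_fiberwise (Finset.univ : Finset E) (fun x => (x : E ⧸ N)) f]
    apply Finset.sum_congr rfl
    intro q _
    induction q using QuotientGroup.induction_on with
    | H a =>
      have hfil : (Finset.univ.filter (fun x : E => (x : E ⧸ N) = (a : E ⧸ N))) = {a, a * h} := by
        ext x
        simp only [Finset.mem_filter, Finset.mem_univ, true_and, Finset.mem_insert,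
          Finset.mem_singleton]
        rw [eq_comm, QuotientGroup.eq, mem_zpowers_iff_of_exp hexp h]
        constructor
        · rintro (h1 | h1)
          · left
            have := congrArg (fun t => a * t) h1
            simpa using this
          · right
            have := congrArg (fun t => a * t) h1
            simpa using this
        · rintro (rfl | rfl)
          · left; simp
          · right; simp
      rw [hfil, Finset.sum_pair]
      · show f a + f (a * h) = dl h f a
        simp only [dl]; rw [add_comm]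
      · intro hcon
        apply hh
        have := congrArg (fun t => a⁻¹ * t) hcon
        simpa using this.symm

theorem z2_cases (a : ZMod 2) : a = 0 ∨ a = 1 := by
  fin_cases a
  · left; rfl
  · right; rfl

theorem sum_indicator {E : Type*} [Fintype E] (P : E → Prop) [DecidablePred P] :
    (∑ x : E, (if P x then (1 : ZMod 2) else 0)) = (Nat.card {x // P x} : ZMod 2) := by
  rw [Finset.sum_ite, Finset.sum_const_zero, add_zero, Finset.sum_const, nsmul_eq_mul, mul_one,
    Nat.card_eq_fintype_card, Fintype.card_subtype]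

/-- Chevalley–Warning parity for one function of degree `≤ 2`. -/
theorem even_zeros {E : Type u} [Group E] [Finite E] (hexp : ∀ x : E, x * x = 1)
    (f : E → ZMod 2) (hf : Deg 2 f) (hc : 8 ≤ Nat.card E) :
    Even (Nat.card {x // f x = 0}) := by
  classical
  haveI : Fintype E := Fintype.ofFinite E
  have hd : Deg 2 ((fun _ : E => (1 : ZMod 2)) + f) :=
    deg_add 2 _ _ (deg_mono_le (by omega) (deg_const 1)) hf
  have hs := sum_eq_zero 2 E hexp _ hd (by rw [← Nat.card_eq_fintype_card]; simpa using hc)
  have hind : ∀ x : E, ((fun _ : E => (1 : ZMod 2)) + f) x = if f x = 0 then (1 : ZMod 2) else 0 := by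
    intro x
    simp only [Pi.add_apply]
    rcases z2_cases (f x) with h | h
    · rw [h]; simp
    · rw [h]; simp; decide
  rw [Finset.sum_congr rfl (fun x _ => hind x), sum_indicator] at hs
  have := (ZMod.natCast_eq_zero_iff _ _).mp hs
  exact even_iff_two_dvd.mpr this

/-- Chevalley–Warning parity for two functions of degree `≤ 2`. -/
theorem even_common_zeros {E : Type u} [Group E] [Finite E] (hexp : ∀ x : E, x * x = 1)
    (f g : E → ZMod 2) (hf : Deg 2 f) (hg : Deg 2 g) (hc : 32 ≤ Nat.card E) :
    Even (Nat.card {x // f x = 0 ∧ g x = 0}) := by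
  classical
  haveI : Fintype E := Fintype.ofFinite E
  have hd1 : Deg 2 ((fun _ : E => (1 : ZMod 2)) + f) :=
    deg_add 2 _ _ (deg_mono_le (by omega) (deg_const 1)) hf
  have hd2 : Deg 2 ((fun _ : E => (1 : ZMod 2)) + g) :=
    deg_add 2 _ _ (deg_mono_le (by omega) (deg_const 1)) hg
  have hd : Deg 4 (((fun _ : E => (1 : ZMod 2)) + f) * ((fun _ : E => (1 : ZMod 2)) + g)) :=
    deg_mul hexp hd1 hd2
  have hs := sum_eq_zero 4 E hexp _ hd (by rw [← Nat.card_eq_fintype_card]; simpa using hc)
  have hind : ∀ x : E, (((fun _ : E => (1 : ZMod 2)) + f) * ((fun _ : E => (1 : ZMod 2)) + g)) x =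
      if (f x = 0 ∧ g x = 0) then (1 : ZMod 2) else 0 := by
    intro x
    simp only [Pi.add_apply, Pi.mul_apply]
    rcases z2_cases (f x) with h | h <;> rcases z2_cases (g x) with h' | h' <;>
      rw [h, h'] <;> decide
  rw [Finset.sum_congr rfl (fun x _ => hind x), sum_indicator] at hs
  have := (ZMod.natCast_eq_zero_iff _ _).mp hs
  exact even_iff_two_dvd.mpr this

theorem exists_index_two_avoiding {E : Type*} [Group E] [Finite E] (hexp : ∀ x : E, x * x = 1)
    (w : E) (hw : w ≠ 1) : ∃ U : Subgroup E, w ∉ U ∧ U.index = 2 := by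
  have h0 : w ∉ (⊥ : Subgroup E) := by rw [Subgroup.mem_bot]; exact hw
  obtain ⟨U, -, hU⟩ := Finite.exists_le_maximal (p := fun U : Subgroup E => w ∉ U) h0
  refine ⟨U, hU.prop, ?_⟩
  rw [Subgroup.index_eq_two_iff]
  refine ⟨w, fun b => ?_⟩
  by_cases hb : b ∈ U
  · right
    refine ⟨hb, fun hbw => hU.prop ?_⟩
    have : w = b⁻¹ * (b * w) := by group
    rw [this]; exact U.mul_mem (U.inv_mem hb) hbw
  · left
    refine ⟨?_, hb⟩
    have hn : (Subgroup.zpowers b).Normal := ⟨fun n hn g => by
      rw [comm_of_exp hexp g n, mul_assoc, mul_inv_cancel, mul_one]; exact hn⟩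
    have hwV : w ∈ U ⊔ Subgroup.zpowers b := by
      by_contra hcon
      have := hU.le_of_ge (y := U ⊔ Subgroup.zpowers b) hcon le_sup_left
      exact hb (this (Subgroup.mem_sup_right (Subgroup.mem_zpowers b)))
    have hset : w ∈ ((U ⊔ Subgroup.zpowers b : Subgroup E) : Set E) := hwV
    rw [Subgroup.mul_normal] at hset
    obtain ⟨u, hu, z, hz, huz⟩ := Set.mem_mul.mp hset
    rcases (mem_zpowers_iff_of_exp hexp b z).mp hz with rfl | rfl
    · exfalso; apply hU.prop; rw [← huz, mul_one]; exact hu
    · rw [← huz, comm_of_exp hexp u z, ← mul_assoc, hexp z, one_mul]; exact hu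

/-- a function of degree `≤ 2` vanishing at `1` on a group of exponent 2 and order `≥ 16`
has a zero different from `1` and from any prescribed `w ≠ 1`. -/
theorem third_zero {E : Type u} [Group E] [Finite E] (hexp : ∀ x : E, x * x = 1)
    (f : E → ZMod 2) (hf : Deg 2 f) (hf1 : f 1 = 0) (hc : 16 ≤ Nat.card E) (w : E) (hw : w ≠ 1) :
    ∃ x : E, x ≠ 1 ∧ x ≠ w ∧ f x = 0 := by
  obtain ⟨U, hwU, hU2⟩ := exists_index_two_avoiding hexp w hw
  have hcU : 8 ≤ Nat.card U := by
    have := U.card_mul_index
    rw [hU2] at this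
    omega
  have hexpU : ∀ x : U, x * x = 1 := fun x => Subtype.ext (hexp x)
  have hdU : Deg 2 (f ∘ U.subtype) := deg_comp U.subtype 2 f hf
  have hev := even_zeros hexpU (f ∘ U.subtype) hdU hcU
  have hne : Nat.card {x : U // (f ∘ U.subtype) x = 0} ≠ 1 := by
    intro h1; rw [h1] at hev; exact (by decide : ¬ Even 1) hev
  have hpos : 0 < Nat.card {x : U // (f ∘ U.subtype) x = 0} := by
    haveI : Nonempty {x : U // (f ∘ U.subtype) x = 0} := ⟨⟨1, by simpa using hf1⟩⟩
    exact Nat.card_pos
  have h2 : 1 < Nat.card {x : U // (f ∘ U.subtype) x = 0} := by omega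
  haveI : Nontrivial {x : U // (f ∘ U.subtype) x = 0} := (Finite.one_lt_card_iff_nontrivial).mp h2
  obtain ⟨⟨x, hx⟩, hxne⟩ := exists_ne (⟨1, by simpa using hf1⟩ : {x : U // (f ∘ U.subtype) x = 0})
  refine ⟨x, ?_, ?_, by simpa using hx⟩
  · intro h
    apply hxne
    apply Subtype.ext; apply Subtype.ext; exact h
  · intro h
    apply hwU; rw [← h]; exact x.2

end Sum

end Cfsg.Agent.Helper28.Inv3
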