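import Mathlib
import Cfsg.Agent.Helper28.Inv3A
import Cfsg.Agent.Helper11.Q8Aut

/-!
The class-two core of S3117: a group `Y` of exponent dividing 4 in which all involutions are central
and all commutators are central; `Ω = {x | x² = 1}`, `W = Y ⧸ Ω`, the squaring forms.
-/

set_option autoImplicit false

namespace Cfsg.Agent.Helper28.Inv3

open scoped commutatorElement

universe u

structure Hyp (Y : Type u) [Group Y] : Prop where
  h4 : ∀ x : Y, x ^ 4 = 1
  hic : ∀ x : Y, x ^ 2 = 1 → x ∈ Subgroup.center Y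
  hcc : ∀ x y : Y, ⁅x, y⁆ ∈ Subgroup.center Y

section Basic

variable {Y : Type u} [Group Y]

theorem Hyp.sq_central (H : Hyp Y) (x : Y) : x ^ 2 ∈ Subgroup.center Y := by
  apply H.hic
  rw [← pow_mul]; exact H.h4 x

theorem Hyp.comm_central (H : Hyp Y) (x y g : Y) : g * ⁅x, y⁆ = ⁅x, y⁆ * g :=
  Subgroup.mem_center_iff.mp (H.hcc x y) g

/-- `Ω = {x | x² = 1}` -/
def Om (H : Hyp Y) : Subgroup Y where
  carrier := {x | x ^ 2 = 1}
  one_mem' := by simp
  mul_mem' := by
    intro a b ha hb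
    have hac : ∀ g : Y, g * a = a * g := Subgroup.mem_center_iff.mp (H.hic a ha)
    show (a * b) ^ 2 = 1
    have ha' : a * a = 1 := by rw [← pow_two]; exact ha
    have hb' : b * b = 1 := by rw [← pow_two]; exact hb
    calc (a * b) ^ 2 = a * (b * a) * b := by rw [pow_two]; group
      _ = a * (a * b) * b := by rw [hac b]
      _ = (a * a) * (b * b) := by group
      _ = 1 := by rw [ha', hb', one_mul]
  inv_mem' := by
    intro a ha
    show (a⁻¹) ^ 2 = 1
    rw [inv_pow, ha, inv_one]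

theorem mem_Om (H : Hyp Y) (x : Y) : x ∈ Om H ↔ x ^ 2 = 1 := Iff.rfl

theorem Om_le_center (H : Hyp Y) : Om H ≤ Subgroup.center Y := fun x hx => H.hic x hx

instance Om_char (H : Hyp Y) : (Om H).Characteristic := by
  refine ⟨fun φ => ?_⟩
  ext x
  rw [Subgroup.mem_comap, mem_Om, mem_Om]
  show (φ x) ^ 2 = 1 ↔ x ^ 2 = 1
  rw [← map_pow]
  exact (MulEquiv.map_eq_one_iff φ)

theorem sq_mem_Om (H : Hyp Y) (x : Y) : x ^ 2 ∈ Om H := by
  rw [mem_Om, ← pow_mul]; exact H.h4 x

/-- `(xy)² = x² y² [y,x]` -/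
theorem mul_sq (H : Hyp Y) (x y : Y) : (x * y) ^ 2 = x ^ 2 * y ^ 2 * ⁅y, x⁆ := by
  have hc := H.comm_central y x
  have e1 : y * x = ⁅y, x⁆ * (x * y) := by rw [commutatorElement_def]; group
  calc (x * y) ^ 2 = x * (y * x) * y := by rw [pow_two]; group
    _ = x * (⁅y, x⁆ * (x * y)) * y := by rw [e1]
    _ = (x * ⁅y, x⁆) * (x * y * y) := by group
    _ = (⁅y, x⁆ * x) * (x * y * y) := by rw [hc x]
    _ = ⁅y, x⁆ * (x ^ 2 * y ^ 2) := by rw [pow_two, pow_two]; group
    _ = x ^ 2 * y ^ 2 * ⁅y, x⁆ := (hc _).symm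

/-- `[y, x x'] = [y,x][y,x']` -/
theorem comm_mul_right (H : Hyp Y) (y x x' : Y) : ⁅y, x * x'⁆ = ⁅y, x⁆ * ⁅y, x'⁆ := by
  have hc := H.comm_central y x'
  have e1 : ⁅y, x * x'⁆ = y * x * y⁻¹ * ⁅y, x'⁆ * x⁻¹ := by
    simp only [commutatorElement_def]; group
  rw [e1, mul_assoc (y * x * y⁻¹), ← hc x⁻¹, ← mul_assoc]
  simp only [commutatorElement_def]

theorem comm_sq (H : Hyp Y) (x y : Y) : ⁅y, x⁆ ^ 2 = 1 := by
  -- [y, x*x] = [y,x]^2 and x*x central
  have h1 := comm_mul_right H y x x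
  have hxc : ∀ g : Y, g * (x * x) = (x * x) * g := by
    have := H.sq_central x
    rw [pow_two] at this
    exact Subgroup.mem_center_iff.mp this
  have h2 : ⁅y, x * x⁆ = 1 := by
    rw [commutatorElement_def, hxc y]; group
  rw [pow_two, ← h1, h2]

theorem comm_mem_Om (H : Hyp Y) (x y : Y) : ⁅y, x⁆ ∈ Om H := comm_sq H x y

/-- `W = Y ⧸ Ω` has exponent 2 -/
theorem hexpW (H : Hyp Y) : ∀ q : Y ⧸ Om H, q * q = 1 := by
  intro q
  induction q using QuotientGroup.induction_on with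
  | H x =>
    rw [← QuotientGroup.mk_mul, QuotientGroup.eq_one_iff, ← pow_two]
    exact sq_mem_Om H x

theorem mk_eq_one_iff (H : Hyp Y) (x : Y) : ((x : Y ⧸ Om H) = 1) ↔ x ^ 2 = 1 := by
  rw [QuotientGroup.eq_one_iff, mem_Om]

end Basic

section Forms

variable {Y : Type u} [Group Y]

open Classical in
/-- indicator of the complement of `M` -/
noncomputable def chi (M : Subgroup Y) (a : Y) : ZMod 2 := if a ∈ M then 0 else 1

/-- `M` is a subgroup of index 2 of `Ω` (expressed without indices). -/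
def IsHalf (H : Hyp Y) (M : Subgroup Y) : Prop :=
  M ≤ Om H ∧ ∀ a b : Y, a ∈ Om H → b ∈ Om H → (a * b ∈ M ↔ (a ∈ M ↔ b ∈ M))

theorem chi_mul (H : Hyp Y) {M : Subgroup Y} (hM : IsHalf H M) {a b : Y} (ha : a ∈ Om H)
    (hb : b ∈ Om H) : chi M (a * b) = chi M a + chi M b := by
  have := hM.2 a b ha hb
  unfold chi
  by_cases h1 : a ∈ M <;> by_cases h2 : b ∈ M <;> simp [h1, h2, this] <;> decide

open Classical in
/-- the squaring form attached to `M`, on `Y` -/
noncomputable def FM (M : Subgroup Y) (x : Y) : ZMod 2 := chi M (x ^ 2)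

theorem FM_mul (H : Hyp Y) {M : Subgroup Y} (hM : IsHalf H M) (x y : Y) :
    FM M (x * y) = FM M x + FM M y + chi M ⁅y, x⁆ := by
  unfold FM
  rw [mul_sq H, chi_mul H hM ((Om H).mul_mem (sq_mem_Om H x) (sq_mem_Om H y)) (comm_mem_Om H x y),
    chi_mul H hM (sq_mem_Om H x) (sq_mem_Om H y)]

theorem FM_seven (H : Hyp Y) {M : Subgroup Y} (hM : IsHalf H M) (x x' y : Y) :
    FM M (x * x' * y) + FM M (x * x') + FM M (x * y) + FM M (x' * y) + FM M x + FM M x' + FM M y
      = 0 := by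
  have e1 := FM_mul H hM (x * x') y
  have e2 := FM_mul H hM x y
  have e3 := FM_mul H hM x' y
  have e4 : chi M ⁅y, x * x'⁆ = chi M ⁅y, x⁆ + chi M ⁅y, x'⁆ := by
    rw [comm_mul_right H, chi_mul H hM (comm_mem_Om H x y) (comm_mem_Om H x' y)]
  rw [e1, e2, e3, e4]
  have a1 := z2_add_self (FM M (x * x'))
  have a2 := z2_add_self (FM M y)
  have a3 := z2_add_self (chi M ⁅y, x⁆)
  have a4 := z2_add_self (chi M ⁅y, x'⁆)
  have a5 := z2_add_self (FM M x)
  have a6 := z2_add_self (FM M x')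
  linear_combination a1 + 2 * a2 + a3 + a4 + a5 + a6

theorem FM_mul_Om (H : Hyp Y) (M : Subgroup Y) (x w : Y) (hw : w ∈ Om H) :
    FM M (x * w) = FM M x := by
  unfold FM
  have hwc : ∀ g : Y, g * w = w * g := Subgroup.mem_center_iff.mp (Om_le_center H hw)
  have hw2 : w * w = 1 := by rw [← pow_two]; exact hw
  have : (x * w) ^ 2 = x ^ 2 := by
    calc (x * w) ^ 2 = x * (w * x) * w := by rw [pow_two]; group
      _ = x * (x * w) * w := by rw [hwc x]
      _ = x ^ 2 * (w * w) := by rw [pow_two]; group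
      _ = x ^ 2 := by rw [hw2, mul_one]
  rw [this]

/-- the squaring form on `W` -/
noncomputable def fM (H : Hyp Y) (M : Subgroup Y) : Y ⧸ Om H → ZMod 2 :=
  fun q => Quotient.liftOn' q (FM M) (by
    intro a b hab
    rw [QuotientGroup.leftRel_apply] at hab
    have : b = a * (a⁻¹ * b) := by group
    rw [this, FM_mul_Om H M a _ hab])

theorem fM_mk (H : Hyp Y) (M : Subgroup Y) (x : Y) : fM H M (x : Y ⧸ Om H) = FM M x := rfl

theorem fM_deg (H : Hyp Y) {M : Subgroup Y} (hM : IsHalf H M) : Deg 2 (fM H M) := by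
  apply deg_two_of_seven (hexpW H)
  intro x x' y
  induction x using QuotientGroup.induction_on with
  | H x =>
  induction x' using QuotientGroup.induction_on with
  | H x' =>
  induction y using QuotientGroup.induction_on with
  | H y =>
    exact FM_seven H hM x x' y

theorem fM_eq_zero_iff (H : Hyp Y) (M : Subgroup Y) (x : Y) :
    fM H M (x : Y ⧸ Om H) = 0 ↔ x ^ 2 ∈ M := by
  rw [fM_mk]
  unfold FM chi
  by_cases h : x ^ 2 ∈ M <;> simp [h]

theorem fM_one (H : Hyp Y) (M : Subgroup Y) : fM H M 1 = 0 := by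
  have : (1 : Y ⧸ Om H) = ((1 : Y) : Y ⧸ Om H) := rfl
  rw [this, fM_eq_zero_iff]; simp

end Forms

section Cards

variable {Y : Type u} [Group Y] [Finite Y]

theorem half_of_card (H : Hyp Y) (M : Subgroup Y) (hle : M ≤ Om H)
    (hc : Nat.card (Om H) = 2 * Nat.card M) : IsHalf H M := by
  refine ⟨hle, fun a b ha hb => ?_⟩
  have h1 := Subgroup.card_mul_index (M.subgroupOf (Om H))
  have h2 : Nat.card (M.subgroupOf (Om H)) = Nat.card M :=
    Nat.card_congr (Subgroup.subgroupOfEquivOfLe hle).toEquiv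
  have hpos : 0 < Nat.card M := Nat.card_pos
  have hidx : (M.subgroupOf (Om H)).index = 2 := by
    rw [h2, hc, mul_comm] at h1
    exact Nat.eq_of_mul_eq_mul_right hpos h1
  have := Subgroup.mul_mem_iff_of_index_two hidx (a := (⟨a, ha⟩ : Om H)) (b := ⟨b, hb⟩)
  simpa [Subgroup.mem_subgroupOf] using this

theorem mem_Om_iff_orderOf (H : Hyp Y) (x : Y) : x ∈ Om H ↔ x = 1 ∨ orderOf x = 2 := by
  rw [mem_Om]
  constructor
  · intro hx
    by_cases h1 : x = 1
    · left; exact h1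
    · right; exact orderOf_eq_prime hx h1
  · rintro (rfl | h)
    · simp
    · rw [← h]; exact pow_orderOf_eq_one x

theorem card_Om (H : Hyp Y) : Nat.card (Om H) = 1 + Nat.card {y : Y // orderOf y = 2} := by
  classical
  haveI : Fintype Y := Fintype.ofFinite Y
  have e1 : Nat.card (Om H) = (Finset.univ.filter (fun x : Y => x ∈ Om H)).card := by
    rw [Nat.card_eq_fintype_card, Fintype.card_subtype]
  have e2 : Nat.card {y : Y // orderOf y = 2} = (Finset.univ.filter (fun x : Y => orderOf x = 2)).card := by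
    rw [Nat.card_eq_fintype_card, Fintype.card_subtype]
  have e3 : (Finset.univ.filter (fun x : Y => x ∈ Om H)) =
      insert 1 (Finset.univ.filter (fun x : Y => orderOf x = 2)) := by
    ext x
    simp only [Finset.mem_filter, Finset.mem_univ, true_and, Finset.mem_insert]
    exact mem_Om_iff_orderOf H x
  rw [e1, e2, e3, Finset.card_insert_of_notMem, add_comm]
  simp

theorem mem_zpowers_iff_of_sq (h x : Y) (hh : h * h = 1) :
    x ∈ Subgroup.zpowers h ↔ x = 1 ∨ x = h := by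
  constructor
  · intro hx
    obtain ⟨k, rfl⟩ := Subgroup.mem_zpowers_iff.mp hx
    have h2 : h ^ (2 : ℤ) = 1 := by
      rw [zpow_ofNat, pow_two]; exact hh
    rcases Int.emod_two_eq_zero_or_one k with hk | hk
    · left
      have : k = 2 * (k / 2) := by omega
      rw [this, zpow_mul, h2, one_zpow]
    · right
      have : k = 2 * (k / 2) + 1 := by omega
      rw [this, zpow_add, zpow_mul, h2, one_zpow, one_mul, zpow_one]
  · rintro (rfl | rfl)
    · exact one_mem _
    · exact Subgroup.mem_zpowers _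

theorem zpowers_le_Om (H : Hyp Y) (t : Y) (ht : orderOf t = 2) : Subgroup.zpowers t ≤ Om H := by
  rw [Subgroup.zpowers_le]
  exact (mem_Om_iff_orderOf H t).mpr (Or.inr ht)

/-- for `|Ω| = 4` the subgroups `⟨t⟩` are halves -/
theorem half_zpowers (H : Hyp Y) (hc : Nat.card (Om H) = 4) (t : Y) (ht : orderOf t = 2) :
    IsHalf H (Subgroup.zpowers t) := by
  apply half_of_card H _ (zpowers_le_Om H t ht)
  rw [Nat.card_zpowers, ht, hc]

/-- for `|Ω| = 2` the trivial subgroup is a half -/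
theorem half_bot (H : Hyp Y) (hc : Nat.card (Om H) = 2) : IsHalf H (⊥ : Subgroup Y) := by
  apply half_of_card H _ bot_le
  rw [hc]; simp

end Cards

section Action

variable {Y : Type u} [Group Y]

open Cfsg.Agent.Helper11.Q8Aut

/-- the induced automorphism of `W` -/
noncomputable def barAut (H : Hyp Y) (φ : MulAut Y) : MulAut (Y ⧸ Om H) := quotAutHom (Om H) φ

theorem barAut_mk (H : Hyp Y) (φ : MulAut Y) (x : Y) :
    barAut H φ (x : Y ⧸ Om H) = ((φ x : Y) : Y ⧸ Om H) := rfl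

theorem barAut_pow (H : Hyp Y) (φ : MulAut Y) (k : ℕ) : barAut H (φ ^ k) = (barAut H φ) ^ k :=
  map_pow (quotAutHom (Om H)) φ k

theorem fM_barAut (H : Hyp Y) (M : Subgroup Y) (φ : MulAut Y) (hφ : ∀ a ∈ Om H, φ a = a)
    (w : Y ⧸ Om H) : fM H M (barAut H φ w) = fM H M w := by
  induction w using QuotientGroup.induction_on with
  | H x =>
    rw [barAut_mk, fM_mk, fM_mk]
    unfold FM
    rw [← map_pow, hφ _ (sq_mem_Om H x)]

/-- an automorphism trivial on `Ω` and on `W` squares to the identity -/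
theorem sq_eq_one_of_bar_trivial (H : Hyp Y) (φ : MulAut Y) (hφ : ∀ a ∈ Om H, φ a = a)
    (hbar : ∀ w : Y ⧸ Om H, barAut H φ w = w) : φ * φ = 1 := by
  apply MulEquiv.ext
  intro x
  have h1 := hbar (x : Y ⧸ Om H)
  rw [barAut_mk, QuotientGroup.eq] at h1
  -- (φ x)⁻¹ * x ∈ Ω
  obtain ⟨w, hw⟩ : ∃ w : Y, w = (φ x)⁻¹ * x := ⟨_, rfl⟩
  rw [← hw] at h1
  have hx : x = φ x * w := by rw [hw]; group
  have hww : w * w = 1 := by rw [← pow_two]; exact h1
  have hφw : φ w = w := hφ w h1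
  show φ (φ x) = x
  have h2 : φ x = φ (φ x) * w := by
    conv_lhs => rw [hx]
    rw [map_mul, hφw]
  have h3 : φ (φ x) = φ x * w := by
    calc φ (φ x) = φ (φ x) * (w * w) := by rw [hww, mul_one]
      _ = (φ (φ x) * w) * w := by rw [mul_assoc]
      _ = φ x * w := by rw [← h2]
  rw [h3]; exact hx.symm

end Action

end Cfsg.Agent.Helper28.Inv3
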