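import Mathlib
import Cfsg.Agent.Helper28.Inv3B

/-!
Counting lemmas for S3117: the numeric case analysis, fixed points of automorphisms of prime order.
-/

set_option autoImplicit false

namespace Cfsg.Agent.Helper28.Inv3

universe u

section Numeric

theorem odd_prime_le_15 (r : ℕ) (hr : r.Prime) (hr2 : r ≠ 2) (h15 : r ≤ 15) :
    r = 3 ∨ r = 5 ∨ r = 7 ∨ r = 11 ∨ r = 13 := by
  have := hr.two_le
  interval_cases r <;> first | omega | (exfalso; revert hr; norm_num)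

theorem numeric_core (n m r z0 z1 z2 g0 g1 g2 : ℕ)
    (hr : r = 3 ∨ r = 5 ∨ r = 7 ∨ r = 11 ∨ r = 13)
    (hnm : (n = 2 ∧ m = 1) ∨ (n = 4 ∧ m = 1) ∨ (n = 4 ∧ m = 2) ∨ (n = 8 ∧ m = 1) ∨ (n = 8 ∧ m = 2) ∨
      (n = 8 ∧ m = 4) ∨ (n = 16 ∧ m = 1) ∨ (n = 16 ∧ m = 2) ∨ (n = 16 ∧ m = 4) ∨ (n = 16 ∧ m = 8))
    (hz : z0 + z1 + z2 = n + 2) (hg : g0 + g1 + g2 = m + 2)
    (hgz0 : g0 ≤ z0) (hgz1 : g1 ≤ z1) (hgz2 : g2 ≤ z2)
    (hg0 : 1 ≤ g0) (hg1 : 1 ≤ g1) (hg2 : 1 ≤ g2)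
    (hev : 8 ≤ n → z0 % 2 = 0 ∧ z1 % 2 = 0 ∧ z2 % 2 = 0)
    (h16 : n = 16 → 3 ≤ z0 ∧ 3 ≤ z1 ∧ 3 ≤ z2)
    (hmod : n % r = m % r) (hm0 : z0 % r = g0 % r) (hm1 : z1 % r = g1 % r) (hm2 : z2 % r = g2 % r) :
    (r = 3 ∧ ¬(n = 16 ∧ z0 = 6 ∧ z1 = 6 ∧ z2 = 6)) ∨ (r = 5 ∧ n = 16 ∧ z0 = 6 ∧ z1 = 6 ∧ z2 = 6) := by
  rcases hr with rfl | rfl | rfl | rfl | rfl <;>
  rcases hnm with ⟨rfl, rfl⟩ | ⟨rfl, rfl⟩ | ⟨rfl, rfl⟩ | ⟨rfl, rfl⟩ | ⟨rfl, rfl⟩ | ⟨rfl, rfl⟩ |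
    ⟨rfl, rfl⟩ | ⟨rfl, rfl⟩ | ⟨rfl, rfl⟩ | ⟨rfl, rfl⟩ <;>
  omega

/-- powers of two below 32 with a proper power-of-two divisor -/
theorem pow_two_pairs (n m a b : ℕ) (hn : n = 2 ^ a) (hm : m = 2 ^ b) (hlt : m < n) (h32 : n < 32) :
    (n = 2 ∧ m = 1) ∨ (n = 4 ∧ m = 1) ∨ (n = 4 ∧ m = 2) ∨ (n = 8 ∧ m = 1) ∨ (n = 8 ∧ m = 2) ∨
      (n = 8 ∧ m = 4) ∨ (n = 16 ∧ m = 1) ∨ (n = 16 ∧ m = 2) ∨ (n = 16 ∧ m = 4) ∨ (n = 16 ∧ m = 8) := by
  have ha : a < 5 := by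
    by_contra h
    have : 2 ^ 5 ≤ 2 ^ a := Nat.pow_le_pow_right (by norm_num) (by omega)
    omega
  have hb : b < a := by
    by_contra h
    have : 2 ^ a ≤ 2 ^ b := Nat.pow_le_pow_right (by norm_num) (by omega)
    omega
  interval_cases a <;> interval_cases b <;> simp_all

end Numeric

section Fixed

/-- fixed point congruence for a permutation of prime order on an invariant subset -/
theorem card_modEq_fixed {α : Type*} [Finite α] (σ : Equiv.Perm α) (r : ℕ) [hr : Fact r.Prime]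
    (hσ : σ ^ r = 1) (P : α → Prop) (hP : ∀ a, P a → P (σ a)) :
    Nat.card {a // P a} ≡ Nat.card {a // P a ∧ σ a = a} [MOD r] := by
  classical
  haveI : Fintype α := Fintype.ofFinite α
  let f : Function.End {a // P a} := fun b => ⟨σ b.1, hP b.1 b.2⟩
  have hpow : ∀ (k : ℕ) (b : {a // P a}), ((f ^ k) b).1 = (σ ^ k) b.1 := by
    intro k
    induction k with
    | zero => intro b; rfl
    | succ k ih =>
      intro b
      rw [pow_succ', pow_succ']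
      show (f ((f ^ k) b)).1 = σ ((σ ^ k) b.1)
      rw [← ih b]
  have hf : f ^ r ^ 1 = 1 := by
    rw [pow_one]
    funext b
    apply Subtype.ext
    rw [hpow, hσ]; rfl
  have h1 := Equiv.Perm.card_fixedPoints_modEq (p := r) (n := 1) hf
  rw [Nat.card_eq_fintype_card]
  refine h1.trans ?_
  rw [← Nat.card_eq_fintype_card]
  have e : (Function.fixedPoints f) ≃ {a // P a ∧ σ a = a} :=
    { toFun := fun b => ⟨b.1.1, b.1.2, congrArg Subtype.val b.2⟩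
      invFun := fun a => ⟨⟨a.1, a.2.1⟩, Subtype.ext a.2.2⟩
      left_inv := fun b => rfl
      right_inv := fun a => rfl }
  rw [Nat.card_congr e]

end Fixed

section Count

open Finset

theorem card_subtype_eq_sum {W : Type*} [Fintype W] (P : W → Prop) [DecidablePred P] :
    Nat.card {w // P w} = ∑ w : W, (if P w then 1 else 0) := by
  rw [Nat.card_eq_fintype_card, Fintype.card_subtype, Finset.card_filter]

theorem sum_card_zero_sets {W : Type*} [Group W] [Finite W] (f : Fin 3 → W → ZMod 2)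
    (hP1a : (univ.filter (fun j : Fin 3 => f j 1 = 0)).card = 3)
    (hP1b : ∀ w, w ≠ 1 → (univ.filter (fun j : Fin 3 => f j w = 0)).card = 1)
    (Q : W → Prop) (hQ1 : Q 1) :
    Nat.card {w // f 0 w = 0 ∧ Q w} + Nat.card {w // f 1 w = 0 ∧ Q w} +
      Nat.card {w // f 2 w = 0 ∧ Q w} = Nat.card {w // Q w} + 2 := by
  classical
  haveI : Fintype W := Fintype.ofFinite W
  rw [card_subtype_eq_sum, card_subtype_eq_sum, card_subtype_eq_sum, card_subtype_eq_sum,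
    ← Finset.sum_add_distrib, ← Finset.sum_add_distrib]
  have hpt : ∀ w : W, ((if f 0 w = 0 ∧ Q w then 1 else 0) + (if f 1 w = 0 ∧ Q w then 1 else 0) +
      (if f 2 w = 0 ∧ Q w then 1 else 0) : ℕ) = (if Q w then 1 else 0) + (if w = 1 then 2 else 0) := by
    intro w
    by_cases hQ : Q w
    · simp only [hQ, and_true, if_true]
      by_cases hw : w = 1
      · have h1 := hP1a
        rw [Finset.card_filter, Fin.sum_univ_three] at h1
        rw [hw, h1]; simp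
      · have h1 := hP1b w hw
        rw [Finset.card_filter, Fin.sum_univ_three] at h1
        rw [h1]; simp [hw]
    · have hw : w ≠ 1 := fun h => hQ (h ▸ hQ1)
      simp [hQ, hw]
  rw [Finset.sum_congr rfl (fun w _ => hpt w), Finset.sum_add_distrib, Finset.sum_ite_eq']
  simp

end Count

end Cfsg.Agent.Helper28.Inv3
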