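import Mathlib
import Cfsg.Agent.Helper28.Inv3C

/-!
Main analysis for S3117 in the class-two core: automorphisms of odd prime order fixing the
involutions have one fixed odd prime order.
-/

set_option autoImplicit false

namespace Cfsg.Agent.Helper28.Inv3

open scoped commutatorElement

universe u

section Pow2

variable {Y : Type u} [Group Y] [Finite Y]

theorem isPGroup_W (H : Hyp Y) : IsPGroup 2 (Y ⧸ Om H) := by
  intro q
  refine ⟨1, ?_⟩
  rw [pow_one, pow_two]; exact hexpW H q

theorem card_W_pow (H : Hyp Y) : ∃ a : ℕ, Nat.card (Y ⧸ Om H) = 2 ^ a :=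
  (IsPGroup.iff_card).mp (isPGroup_W H)

theorem card_sub_W_pow (H : Hyp Y) (F : Subgroup (Y ⧸ Om H)) : ∃ b : ℕ, Nat.card F = 2 ^ b :=
  (IsPGroup.iff_card).mp ((isPGroup_W H).to_subgroup F)

theorem card_Om_pow (H : Hyp Y) : ∃ k : ℕ, Nat.card (Om H) = 2 ^ k := by
  apply (IsPGroup.iff_card).mp
  intro a
  refine ⟨1, ?_⟩
  rw [pow_one]
  apply Subtype.ext
  exact a.2

end Pow2

section FixSub

variable {W : Type*} [Group W]

/-- fixed points of an automorphism -/
def fixSub (ψ : MulAut W) : Subgroup W where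
  carrier := {w | ψ w = w}
  one_mem' := map_one ψ
  mul_mem' := by
    intro a b ha hb
    show ψ (a * b) = a * b
    rw [map_mul, ha, hb]
  inv_mem' := by
    intro a ha
    show ψ a⁻¹ = a⁻¹
    rw [map_inv, ha]

theorem card_fixSub (ψ : MulAut W) : Nat.card (fixSub ψ) = Nat.card {w // ψ w = w} :=
  Nat.card_congr (Equiv.subtypeEquivRight (fun _ => Iff.rfl))

theorem card_W_modEq [Finite W] (ψ : MulAut W) (r : ℕ) [Fact r.Prime] (hψ : ψ ^ r = 1) :
    Nat.card W ≡ Nat.card {w // ψ w = w} [MOD r] := by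
  have hσ : (MulAut.toPerm W ψ) ^ r = 1 := by rw [← map_pow, hψ, map_one]
  have h := card_modEq_fixed (MulAut.toPerm W ψ) r hσ (fun _ => True) (fun _ _ => trivial)
  have e1 : Nat.card {a : W // True} = Nat.card W := Nat.card_congr (Equiv.subtypeUnivEquiv (fun _ => trivial))
  have e2 : Nat.card {a : W // True ∧ (MulAut.toPerm W ψ) a = a} = Nat.card {w // ψ w = w} :=
    Nat.card_congr (Equiv.subtypeEquivRight (fun x => by
      show True ∧ ψ x = x ↔ ψ x = x
      simp))
  rw [e1, e2] at h
  exact h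

theorem card_zero_modEq [Finite W] (ψ : MulAut W) (r : ℕ) [Fact r.Prime] (hψ : ψ ^ r = 1)
    (f : W → ZMod 2) (hf : ∀ w, f (ψ w) = f w) :
    Nat.card {w // f w = 0} ≡ Nat.card {w // f w = 0 ∧ ψ w = w} [MOD r] := by
  have hσ : (MulAut.toPerm W ψ) ^ r = 1 := by rw [← map_pow, hψ, map_one]
  exact card_modEq_fixed (MulAut.toPerm W ψ) r hσ (fun w => f w = 0)
    (fun a ha => by show f (ψ a) = 0; rw [hf]; exact ha)

end FixSub

section Data

variable {Y : Type u} [Group Y] [Finite Y]

/-- data attached to an automorphism of odd prime order fixing the involutions -/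
theorem phi_data (H : Hyp Y) (φ : MulAut Y) (hφ : ∀ y : Y, orderOf y = 2 → φ y = y)
    (r : ℕ) (hr : r.Prime) (hr2 : r ≠ 2) (ho : orderOf φ = r) :
    (∀ a ∈ Om H, φ a = a) ∧ (barAut H φ) ^ r = 1 ∧
    (∃ b : ℕ, Nat.card {w : Y ⧸ Om H // barAut H φ w = w} = 2 ^ b) ∧
    Nat.card {w : Y ⧸ Om H // barAut H φ w = w} < Nat.card (Y ⧸ Om H) := by
  have hφΩ : ∀ a ∈ Om H, φ a = a := by
    intro a ha
    rcases (mem_Om_iff_orderOf H a).mp ha with rfl | h
    · exact map_one φ
    · exact hφ a h
  have hφr : φ ^ r = 1 := by rw [← ho]; exact pow_orderOf_eq_one φ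
  have hψr : (barAut H φ) ^ r = 1 := by
    rw [← barAut_pow, hφr]; exact map_one _
  refine ⟨hφΩ, hψr, ?_, ?_⟩
  · rw [← card_fixSub]; exact card_sub_W_pow H _
  · rw [← card_fixSub]
    have hne : fixSub (barAut H φ) ≠ ⊤ := by
      intro htop
      have hall : ∀ w : Y ⧸ Om H, barAut H φ w = w := by
        intro w
        have : w ∈ fixSub (barAut H φ) := by rw [htop]; exact Subgroup.mem_top w
        exact this
      have h2 := sq_eq_one_of_bar_trivial H φ hφΩ hall
      have h2' : φ ^ 2 = 1 := by rw [pow_two]; exact h2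
      have hd : orderOf φ ∣ 2 := orderOf_dvd_of_pow_eq_one h2'
      rw [ho] at hd
      have := (Nat.prime_dvd_prime_iff_eq hr Nat.prime_two).mp hd
      exact hr2 this
    by_contra hge
    push Not at hge
    exact hne (Subgroup.eq_top_of_le_card _ hge)

end Data

section Main

variable {Y : Type u} [Group Y] [Finite Y]

theorem card_W_lt_eight (H : Hyp Y) (hc : Nat.card (Om H) = 2) : Nat.card (Y ⧸ Om H) < 8 := by
  by_contra hge
  push Not at hge
  have hev := even_zeros (hexpW H) (fM H ⊥) (fM_deg H (half_bot H hc)) hge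
  have h1 : Nat.card {w : Y ⧸ Om H // fM H ⊥ w = 0} = 1 := by
    rw [Nat.card_eq_one_iff_unique]
    constructor
    · refine ⟨fun a b => Subtype.ext ?_⟩
      have key : ∀ w : Y ⧸ Om H, fM H ⊥ w = 0 → w = 1 := by
        intro w
        induction w using QuotientGroup.induction_on with
        | H x =>
          intro hw
          rw [fM_eq_zero_iff, Subgroup.mem_bot] at hw
          exact (mk_eq_one_iff H x).mpr hw
      rw [key a a.2, key b b.2]
    · exact ⟨⟨1, fM_one H ⊥⟩⟩
  rw [h1] at hev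
  exact (by decide : ¬ Even 1) hev

/-- an enumeration of the three involutions -/
structure Enum (e : Fin 3 → Y) : Prop where
  ord : ∀ j, orderOf (e j) = 2
  inj : Function.Injective e
  all : ∀ y : Y, orderOf y = 2 → ∃ j, e j = y

theorem exists_enum (hc : Nat.card {y : Y // orderOf y = 2} = 3) : ∃ e : Fin 3 → Y, Enum e := by
  have eqv : {y : Y // orderOf y = 2} ≃ Fin 3 := Finite.equivFinOfCardEq hc
  refine ⟨fun j => (eqv.symm j : Y), ⟨fun j => (eqv.symm j).2, ?_, ?_⟩⟩
  · intro a b hab
    exact eqv.symm.injective (Subtype.ext hab)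
  · intro y hy
    refine ⟨eqv ⟨y, hy⟩, ?_⟩
    simp

/-- the three squaring forms -/
noncomputable def fj (H : Hyp Y) (e : Fin 3 → Y) (j : Fin 3) : Y ⧸ Om H → ZMod 2 :=
  fM H (Subgroup.zpowers (e j))

theorem fj_zero_iff (H : Hyp Y) {e : Fin 3 → Y} (he : Enum e) (j : Fin 3) (x : Y) :
    fj H e j (x : Y ⧸ Om H) = 0 ↔ x ^ 2 = 1 ∨ x ^ 2 = e j := by
  unfold fj
  rw [fM_eq_zero_iff]
  apply mem_zpowers_iff_of_sq
  rw [← pow_two, ← he.ord j]; exact pow_orderOf_eq_one _

theorem fj_one (H : Hyp Y) (e : Fin 3 → Y) (j : Fin 3) : fj H e j 1 = 0 := fM_one H _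

theorem fj_deg (H : Hyp Y) (hc : Nat.card (Om H) = 4) {e : Fin 3 → Y} (he : Enum e) (j : Fin 3) :
    Deg 2 (fj H e j) := fM_deg H (half_zpowers H hc (e j) (he.ord j))

theorem P1a (H : Hyp Y) (e : Fin 3 → Y) :
    (Finset.univ.filter (fun j : Fin 3 => fj H e j 1 = 0)).card = 3 := by
  have : (Finset.univ.filter (fun j : Fin 3 => fj H e j 1 = 0)) = Finset.univ := by
    ext j; simp [fj_one]
  rw [this]; rfl

theorem P1b (H : Hyp Y) {e : Fin 3 → Y} (he : Enum e) (w : Y ⧸ Om H) (hw : w ≠ 1) :
    (Finset.univ.filter (fun j : Fin 3 => fj H e j w = 0)).card = 1 := by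
  induction w using QuotientGroup.induction_on with
  | H x =>
    have hx1 : x ^ 2 ≠ 1 := fun h => hw ((mk_eq_one_iff H x).mpr h)
    have hx2 : orderOf (x ^ 2) = 2 := by
      rcases (mem_Om_iff_orderOf H _).mp (sq_mem_Om H x) with h | h
      · exact absurd h hx1
      · exact h
    obtain ⟨j0, hj0⟩ := he.all _ hx2
    have : (Finset.univ.filter (fun j : Fin 3 => fj H e j (x : Y ⧸ Om H) = 0)) = {j0} := by
      ext j
      simp only [Finset.mem_filter, Finset.mem_univ, true_and, Finset.mem_singleton]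
      rw [fj_zero_iff H he]
      constructor
      · rintro (h | h)
        · exact absurd h hx1
        · apply he.inj; rw [hj0, h]
      · rintro rfl
        right; exact hj0.symm
    rw [this]; rfl

theorem card_W_lt_32 (H : Hyp Y) (hc : Nat.card (Om H) = 4) {e : Fin 3 → Y} (he : Enum e) :
    Nat.card (Y ⧸ Om H) < 32 := by
  by_contra hge
  push Not at hge
  have hev := even_common_zeros (hexpW H) (fj H e 0) (fj H e 1) (fj_deg H hc he 0)
    (fj_deg H hc he 1) hge
  have h1 : Nat.card {w : Y ⧸ Om H // fj H e 0 w = 0 ∧ fj H e 1 w = 0} = 1 := by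
    rw [Nat.card_eq_one_iff_unique]
    constructor
    · refine ⟨fun a b => Subtype.ext ?_⟩
      have key : ∀ w : Y ⧸ Om H, fj H e 0 w = 0 ∧ fj H e 1 w = 0 → w = 1 := by
        intro w hw
        by_contra hne
        have h1 := P1b H he w hne
        have h2 : ({0, 1} : Finset (Fin 3)) ⊆
            Finset.univ.filter (fun j : Fin 3 => fj H e j w = 0) := by
          intro j hj
          simp only [Finset.mem_insert, Finset.mem_singleton] at hj
          rcases hj with rfl | rfl
          · simp [hw.1]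
          · simp [hw.2]
        have h3 := Finset.card_le_card h2
        rw [h1] at h3
        simp at h3
      rw [key a a.2, key b b.2]
    · exact ⟨⟨1, fj_one H e 0, fj_one H e 1⟩⟩
  rw [h1] at hev
  exact (by decide : ¬ Even 1) hev

theorem three_le_zeros {E : Type u} [Group E] [Finite E] (hexp : ∀ x : E, x * x = 1)
    (f : E → ZMod 2) (hf : Deg 2 f) (hf1 : f 1 = 0) (hc : 16 ≤ Nat.card E) :
    3 ≤ Nat.card {x // f x = 0} := by
  classical
  haveI : Fintype E := Fintype.ofFinite E
  have hnt : 1 < Nat.card E := by omega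
  haveI : Nontrivial E := Finite.one_lt_card_iff_nontrivial.mp hnt
  obtain ⟨w, hw⟩ := exists_ne (1 : E)
  obtain ⟨x1, hx1, -, hfx1⟩ := third_zero hexp f hf hf1 hc w hw
  obtain ⟨x2, hx2, hx21, hfx2⟩ := third_zero hexp f hf hf1 hc x1 hx1
  rw [Nat.card_eq_fintype_card, Fintype.card_subtype]
  have hsub : ({1, x1, x2} : Finset E) ⊆ Finset.univ.filter (fun x => f x = 0) := by
    intro y hy
    simp only [Finset.mem_insert, Finset.mem_singleton] at hy
    rcases hy with rfl | rfl | rfl <;> simp [hf1, hfx1, hfx2]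
  have hcard : ({1, x1, x2} : Finset E).card = 3 := by
    rw [Finset.card_insert_of_notMem, Finset.card_insert_of_notMem, Finset.card_singleton]
    · simp only [Finset.mem_singleton]; exact fun h => hx21 h.symm
    · simp only [Finset.mem_insert, Finset.mem_singleton]
      rintro (h | h)
      · exact hx1 h.symm
      · exact hx2 h.symm
  calc 3 = ({1, x1, x2} : Finset E).card := hcard.symm
    _ ≤ _ := Finset.card_le_card hsub

end Main

end Cfsg.Agent.Helper28.Inv3
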