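import Mathlib
import Cfsg.Agent.Helper28.Inv3D

/-!
S3117 core: one odd prime.
-/

set_option autoImplicit false

namespace Cfsg.Agent.Helper28.Inv3

open scoped commutatorElement

universe u

section Main2

variable {Y : Type u} [Group Y] [Finite Y]

/-- small case: `|W| < 8` forces `r = 3` -/
theorem r_eq_three_small (n m r a b : ℕ) (hn : n = 2 ^ a) (hm : m = 2 ^ b) (hlt : m < n) (h8 : n < 8)
    (hr : r.Prime) (hr2 : r ≠ 2) (hmod : n ≡ m [MOD r]) : r = 3 := by
  have hdvd : r ∣ n - m := (Nat.modEq_iff_dvd' hlt.le).mp hmod.symm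
  have hle : r ≤ n - m := Nat.le_of_dvd (by omega) hdvd
  have h2 := hr.two_le
  have ha : a < 3 := by
    by_contra h
    have : 2 ^ 3 ≤ 2 ^ a := Nat.pow_le_pow_right (by norm_num) (by omega)
    omega
  have hb : b < a := by
    by_contra h
    have : 2 ^ a ≤ 2 ^ b := Nat.pow_le_pow_right (by norm_num) (by omega)
    omega
  interval_cases a <;> interval_cases b <;> simp_all <;> omega

theorem main_prime (H : Hyp Y) (hinv : Nat.card {y : Y // orderOf y = 2} ≤ 3) :
    ∃ q : ℕ, q.Prime ∧ ∀ (φ : MulAut Y), (∀ y : Y, orderOf y = 2 → φ y = y) →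
      ∀ r : ℕ, r.Prime → r ≠ 2 → orderOf φ = r → r = q := by
  obtain ⟨k, hk⟩ := card_Om_pow H
  have hΩ := card_Om H
  have hk2 : k ≤ 2 := by
    by_contra h
    have : 2 ^ 3 ≤ 2 ^ k := Nat.pow_le_pow_right (by norm_num) (by omega)
    omega
  obtain ⟨a, ha⟩ := card_W_pow H
  -- generic data
  have hdata := phi_data H
  interval_cases k
  · -- Ω trivial: Y trivial
    refine ⟨3, Nat.prime_three, ?_⟩
    intro φ hφ r hr hr2 ho
    exfalso
    have hbot : ∀ x : Y, x ∈ Om H → x = 1 := by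
      intro x hx
      have : Subsingleton (Om H) := by
        rw [← Finite.card_le_one_iff_subsingleton, hk]; norm_num
      have := Subsingleton.elim (⟨x, hx⟩ : Om H) 1
      exact congrArg Subtype.val this
    have hall : ∀ x : Y, x = 1 := by
      intro x
      apply hbot
      rw [mem_Om]
      exact hbot _ (sq_mem_Om H x)
    have : φ = 1 := by
      apply MulEquiv.ext; intro x; rw [hall x]; simp
    rw [this, orderOf_one] at ho
    rw [← ho] at hr
    exact Nat.not_prime_one hr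
  · -- |Ω| = 2
    refine ⟨3, Nat.prime_three, ?_⟩
    intro φ hφ r hr hr2 ho
    obtain ⟨-, hψr, ⟨b, hb⟩, hlt⟩ := hdata φ hφ r hr hr2 ho
    haveI : Fact r.Prime := ⟨hr⟩
    have hmod := card_W_modEq (barAut H φ) r hψr
    have h8 := card_W_lt_eight H (by rw [hk]; norm_num)
    exact r_eq_three_small _ _ r a b ha hb hlt h8 hr hr2 hmod
  · -- |Ω| = 4
    have hc4 : Nat.card (Om H) = 4 := by rw [hk]; norm_num
    have hI : Nat.card {y : Y // orderOf y = 2} = 3 := by omega
    obtain ⟨e, he⟩ := exists_enum hI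
    have h32 := card_W_lt_32 H hc4 he
    -- class sizes
    have hz := sum_card_zero_sets (fj H e) (P1a H e) (P1b H he) (fun _ => True) trivial
    simp only [and_true] at hz
    have hWT : Nat.card {w : Y ⧸ Om H // True} = Nat.card (Y ⧸ Om H) :=
      Nat.card_congr (Equiv.subtypeUnivEquiv (fun _ => trivial))
    rw [hWT] at hz
    have hev : 8 ≤ Nat.card (Y ⧸ Om H) → ∀ j, Nat.card {w : Y ⧸ Om H // fj H e j w = 0} % 2 = 0 := by
      intro h8 j
      have := even_zeros (hexpW H) (fj H e j) (fj_deg H hc4 he j) h8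
      exact Nat.even_iff.mp this
    have h16 : Nat.card (Y ⧸ Om H) = 16 → ∀ j, 3 ≤ Nat.card {w : Y ⧸ Om H // fj H e j w = 0} := by
      intro h j
      exact three_le_zeros (hexpW H) (fj H e j) (fj_deg H hc4 he j) (fj_one H e j) (by omega)
    -- the prime q
    by_cases hcase : Nat.card (Y ⧸ Om H) = 16 ∧ Nat.card {w : Y ⧸ Om H // fj H e 0 w = 0} = 6 ∧
        Nat.card {w : Y ⧸ Om H // fj H e 1 w = 0} = 6 ∧ Nat.card {w : Y ⧸ Om H // fj H e 2 w = 0} = 6
    all_goals
      refine ⟨if Nat.card (Y ⧸ Om H) = 16 ∧ Nat.card {w : Y ⧸ Om H // fj H e 0 w = 0} = 6 ∧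
        Nat.card {w : Y ⧸ Om H // fj H e 1 w = 0} = 6 ∧ Nat.card {w : Y ⧸ Om H // fj H e 2 w = 0} = 6
        then 5 else 3, by split_ifs <;> norm_num, ?_⟩
      intro φ hφ r hr hr2 ho
      obtain ⟨hφΩ, hψr, ⟨b, hb⟩, hlt⟩ := hdata φ hφ r hr hr2 ho
      haveI : Fact r.Prime := ⟨hr⟩
      have hmod := card_W_modEq (barAut H φ) r hψr
      have hg := sum_card_zero_sets (fj H e) (P1a H e) (P1b H he)
        (fun w => barAut H φ w = w) (map_one _)
      have hmodj : ∀ j, Nat.card {w : Y ⧸ Om H // fj H e j w = 0} ≡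
          Nat.card {w : Y ⧸ Om H // fj H e j w = 0 ∧ barAut H φ w = w} [MOD r] := fun j =>
        card_zero_modEq (barAut H φ) r hψr (fj H e j) (fM_barAut H _ φ hφΩ)
      have hgz : ∀ j, Nat.card {w : Y ⧸ Om H // fj H e j w = 0 ∧ barAut H φ w = w} ≤
          Nat.card {w : Y ⧸ Om H // fj H e j w = 0} := fun j =>
        Nat.card_le_card_of_injective
          (fun w => (⟨w.1, w.2.1⟩ : {w : Y ⧸ Om H // fj H e j w = 0})) (fun a b hab => by
          apply Subtype.ext
          exact congrArg (fun t : {w : Y ⧸ Om H // fj H e j w = 0} => t.1) hab)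
      have hg1 : ∀ j, 1 ≤ Nat.card {w : Y ⧸ Om H // fj H e j w = 0 ∧ barAut H φ w = w} := fun j => by
        haveI : Nonempty {w : Y ⧸ Om H // fj H e j w = 0 ∧ barAut H φ w = w} :=
          ⟨⟨1, fj_one H e j, map_one _⟩⟩
        exact Nat.card_pos
      have hdvd : r ∣ Nat.card (Y ⧸ Om H) - Nat.card {w : Y ⧸ Om H // barAut H φ w = w} :=
        (Nat.modEq_iff_dvd' hlt.le).mp hmod.symm
      have hle : r ≤ Nat.card (Y ⧸ Om H) - Nat.card {w : Y ⧸ Om H // barAut H φ w = w} :=
        Nat.le_of_dvd (by omega) hdvd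
      have hpos : 0 < Nat.card {w : Y ⧸ Om H // barAut H φ w = w} := by rw [hb]; positivity
      have hr15 : r ≤ 15 := by
        have : Nat.card (Y ⧸ Om H) ≤ 16 := by
          have := pow_two_pairs _ _ a b ha hb hlt h32
          omega
        omega
      have hrl := odd_prime_le_15 r hr hr2 hr15
      have hpairs := pow_two_pairs _ _ a b ha hb hlt h32
      have hnum := numeric_core _ _ r _ _ _ _ _ _ hrl hpairs hz hg (hgz 0) (hgz 1) (hgz 2)
        (hg1 0) (hg1 1) (hg1 2) (fun h8 => ⟨hev h8 0, hev h8 1, hev h8 2⟩)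
        (fun h => ⟨h16 h 0, h16 h 1, h16 h 2⟩) hmod (hmodj 0) (hmodj 1) (hmodj 2)
      rcases hnum with ⟨h3, hn⟩ | ⟨h5, hy⟩
      · rw [if_neg hn]; exact h3
      · rw [if_pos hy]; exact h5

end Main2

end Cfsg.Agent.Helper28.Inv3
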