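import Mathlib
import Cfsg.Agent.Helper28.Inv3E
import Cfsg.Agent.Helper24.Burnside

/-!
S3117 core: `MulAut Y` is solvable (via Burnside's `p^a q^b` theorem).
-/

set_option autoImplicit false

namespace Cfsg.Agent.Helper28.Inv3

open scoped commutatorElement

universe u

theorem two_prime_card (q : ℕ) : ∀ n : ℕ, n ≠ 0 → (∀ r : ℕ, r.Prime → r ∣ n → r = 2 ∨ r = q) →
    ∃ a b : ℕ, n = 2 ^ a * q ^ b := by
  intro n
  induction n using Nat.strong_induction_on with
  | _ n ih =>
    intro hn hr
    by_cases h1 : n = 1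
    · exact ⟨0, 0, by simp [h1]⟩
    · obtain ⟨r, hrp, hrn⟩ := Nat.exists_prime_and_dvd h1
      obtain ⟨m, rfl⟩ := hrn
      have hm0 : m ≠ 0 := by rintro rfl; simp at hn
      have hlt : m < r * m := by
        have := hrp.two_le
        nlinarith [Nat.pos_of_ne_zero hm0]
      obtain ⟨a, b, hab⟩ := ih m hlt hm0 (fun s hs hsm => hr s hs (Dvd.dvd.mul_left hsm r))
      rcases hr r hrp (Dvd.intro m rfl) with rfl | rfl
      · exact ⟨a + 1, b, by rw [hab]; ring⟩
      · exact ⟨a, b + 1, by rw [hab]; ring⟩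

/-- a finite group all of whose prime divisors lie in `{2, q}` is solvable -/
theorem solvable_of_two_primes {A : Type u} [Group A] [Finite A] (q : ℕ) (hq : q.Prime)
    (h : ∀ r : ℕ, r.Prime → r ∣ Nat.card A → r = 2 ∨ r = q) : Group.IsSolvable A := by
  obtain ⟨a, b, hab⟩ := two_prime_card q (Nat.card A) Nat.card_pos.ne' h
  exact Cfsg.Agent.Helper24.isSolvable_of_card_eq_prime_pow_mul 2 q a b Nat.prime_two hq hab

section Theta

variable {Y : Type u} [Group Y]

/-- action of `Aut Y` on the involutions -/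
def theta : MulAut Y →* Equiv.Perm {y : Y // orderOf y = 2} where
  toFun φ := φ.toEquiv.subtypeEquiv (fun a => by
    show orderOf a = 2 ↔ orderOf (φ a) = 2
    rw [MulEquiv.orderOf_eq])
  map_one' := by ext; rfl
  map_mul' := by intro a b; ext; rfl

theorem theta_apply (φ : MulAut Y) (t : {y : Y // orderOf y = 2}) : ((theta φ t : {y : Y // orderOf y = 2}) : Y) = φ t := rfl

theorem mem_ker_theta (φ : MulAut Y) : φ ∈ (theta (Y := Y)).ker ↔ ∀ y : Y, orderOf y = 2 → φ y = y := by
  rw [MonoidHom.mem_ker]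
  constructor
  · intro h y hy
    have := congrArg (fun σ : Equiv.Perm {y : Y // orderOf y = 2} => ((σ ⟨y, hy⟩ : {y : Y // orderOf y = 2}) : Y)) h
    exact this
  · intro h
    ext t
    exact h t.1 t.2

end Theta

section Core

variable {Y : Type u} [Group Y] [Finite Y]

theorem solvable_perm_small {I : Type u} [Finite I] (hI : Nat.card I ≤ 3) :
    Group.IsSolvable (Equiv.Perm I) := by
  classical
  haveI : Fintype I := Fintype.ofFinite I
  apply solvable_of_two_primes 3 Nat.prime_three
  intro r hr hdvd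
  rw [Nat.card_eq_fintype_card, Fintype.card_perm] at hdvd
  rw [Nat.card_eq_fintype_card] at hI
  have : r ∣ Nat.factorial 3 := hdvd.trans (Nat.factorial_dvd_factorial hI)
  have h6 : Nat.factorial 3 = 2 * 3 := by decide
  rw [h6] at this
  rcases (Nat.Prime.dvd_mul hr).mp this with h | h
  · left; exact (Nat.prime_dvd_prime_iff_eq hr Nat.prime_two).mp h
  · right; exact (Nat.prime_dvd_prime_iff_eq hr Nat.prime_three).mp h

theorem core_solvable (H : Hyp Y) (hinv : Nat.card {y : Y // orderOf y = 2} ≤ 3) :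
    Group.IsSolvable (MulAut Y) := by
  obtain ⟨q, hq, hmain⟩ := main_prime H hinv
  haveI : Group.IsSolvable (Equiv.Perm {y : Y // orderOf y = 2}) := solvable_perm_small hinv
  haveI : Group.IsSolvable (theta (Y := Y)).ker := by
    apply solvable_of_two_primes q hq
    intro r hr hdvd
    haveI : Fact r.Prime := ⟨hr⟩
    obtain ⟨φ, hφ⟩ := exists_prime_orderOf_dvd_card' r hdvd
    by_cases hr2 : r = 2
    · left; exact hr2
    · right
      have ho : orderOf (φ : MulAut Y) = r := by rw [Subgroup.orderOf_coe]; exact hφ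
      exact hmain φ ((mem_ker_theta _).mp φ.2) r hr hr2 ho
  exact solvable_of_ker_le_range (theta (Y := Y)).ker.subtype (theta (Y := Y))
    (by rw [Subgroup.range_subtype])

end Core

end Cfsg.Agent.Helper28.Inv3
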