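import Mathlib
import Cfsg.Agent.Helper28.Inv3F
import Cfsg.Agent.Helper15.Holo

/-!
Reduction lemmas for S3117: restricting automorphisms to characteristic subgroups.
-/

set_option autoImplicit false

namespace Cfsg.Agent.Helper28.Inv3

open scoped commutatorElement

universe u

section Res

variable {P : Type u} [Group P]

open Cfsg.Agent.Helper11.Q8Aut

/-- restriction of automorphisms to a characteristic subgroup -/
def resChar (B : Subgroup P) [B.Characteristic] : MulAut P →* MulAut B where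
  toFun φ :=
    { toFun := fun b => ⟨φ b, aut_mem_of_characteristic B φ b.2⟩
      invFun := fun b => ⟨φ⁻¹ b, aut_mem_of_characteristic B φ⁻¹ b.2⟩
      left_inv := fun b => by
        apply Subtype.ext
        show φ⁻¹ (φ b) = b
        rw [← MulAut.mul_apply, inv_mul_cancel, MulAut.one_apply]
      right_inv := fun b => by
        apply Subtype.ext
        show φ (φ⁻¹ b) = b
        rw [← MulAut.mul_apply, mul_inv_cancel, MulAut.one_apply]
      map_mul' := fun a b => by
        apply Subtype.ext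
        show φ (a * b) = φ a * φ b
        exact map_mul φ _ _ }
  map_one' := by ext; rfl
  map_mul' := by intro a b; ext; rfl

theorem resChar_apply (B : Subgroup P) [B.Characteristic] (φ : MulAut P) (b : B) :
    ((resChar B φ b : B) : P) = φ b := rfl

theorem mem_ker_resChar (B : Subgroup P) [B.Characteristic] (φ : MulAut P) :
    φ ∈ (resChar B).ker ↔ ∀ b ∈ B, φ b = b := by
  rw [MonoidHom.mem_ker]
  constructor
  · intro h b hb
    have := congrArg (fun σ : MulAut B => ((σ ⟨b, hb⟩ : B) : P)) h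
    exact this
  · intro h
    ext b
    exact h b.1 b.2

/-- if odd order automorphisms trivial on the characteristic subgroup `B` are trivial and
`Aut B` is solvable, then `Aut P` is solvable -/
theorem solvable_of_resChar [Finite P] (B : Subgroup P) [B.Characteristic]
    (hB : ∀ β : MulAut P, Nat.Coprime (orderOf β) 2 → (∀ b ∈ B, β b = b) → β = 1)
    (hsol : Group.IsSolvable (MulAut B)) : Group.IsSolvable (MulAut P) := by
  haveI : Group.IsSolvable (resChar B).ker := by
    apply solvable_of_two_primes 3 Nat.prime_three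
    intro r hr hdvd
    left
    by_contra hr2
    haveI : Fact r.Prime := ⟨hr⟩
    obtain ⟨φ, hφ⟩ := exists_prime_orderOf_dvd_card' r hdvd
    have ho : orderOf (φ : MulAut P) = r := by rw [Subgroup.orderOf_coe]; exact hφ
    have hcop : Nat.Coprime (orderOf (φ : MulAut P)) 2 := by
      rw [ho]
      exact (Nat.coprime_primes hr Nat.prime_two).mpr hr2
    have h1 := hB φ hcop ((mem_ker_resChar B _).mp φ.2)
    rw [h1, orderOf_one] at ho
    rw [← ho] at hr
    exact Nat.not_prime_one hr
  exact solvable_of_ker_le_range (resChar B).ker.subtype (resChar B)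
    (by rw [Subgroup.range_subtype])

end Res

section Class2

variable {K : Type u} [Group K]

theorem mul_sq' (hcc : ∀ x y g : K, g * ⁅x, y⁆ = ⁅x, y⁆ * g) (x y : K) :
    (x * y) ^ 2 = x ^ 2 * y ^ 2 * ⁅y, x⁆ := by
  have hc := hcc y x
  have e1 : y * x = ⁅y, x⁆ * (x * y) := by rw [commutatorElement_def]; group
  calc (x * y) ^ 2 = x * (y * x) * y := by rw [pow_two]; group
    _ = x * (⁅y, x⁆ * (x * y)) * y := by rw [e1]
    _ = (x * ⁅y, x⁆) * (x * y * y) := by group
    _ = (⁅y, x⁆ * x) * (x * y * y) := by rw [hc x]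
    _ = ⁅y, x⁆ * (x ^ 2 * y ^ 2) := by rw [pow_two, pow_two]; group
    _ = x ^ 2 * y ^ 2 * ⁅y, x⁆ := (hc _).symm

theorem comm_mul_right' (hcc : ∀ x y g : K, g * ⁅x, y⁆ = ⁅x, y⁆ * g) (y x x' : K) :
    ⁅y, x * x'⁆ = ⁅y, x⁆ * ⁅y, x'⁆ := by
  have hc := hcc y x'
  have e1 : ⁅y, x * x'⁆ = y * x * y⁻¹ * ⁅y, x'⁆ * x⁻¹ := by
    simp only [commutatorElement_def]; group
  rw [e1, mul_assoc (y * x * y⁻¹), ← hc x⁻¹, ← mul_assoc]
  simp only [commutatorElement_def]

theorem comm_sq' (hcc : ∀ x y g : K, g * ⁅x, y⁆ = ⁅x, y⁆ * g)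
    (hsq : ∀ x g : K, g * x ^ 2 = x ^ 2 * g) (x y : K) : ⁅y, x⁆ ^ 2 = 1 := by
  have h1 := comm_mul_right' hcc y x x
  have h2 : ⁅y, x * x⁆ = 1 := by
    have := hsq x y
    rw [pow_two] at this
    rw [commutatorElement_def, this]; group
  rw [pow_two, ← h1, h2]

/-- `{x | x⁴ = 1}` in a class-two 2-group with central squares -/
def Om4 (hcc : ∀ x y g : K, g * ⁅x, y⁆ = ⁅x, y⁆ * g) (hsq : ∀ x g : K, g * x ^ 2 = x ^ 2 * g) :
    Subgroup K where
  carrier := {x | x ^ 4 = 1}
  one_mem' := by simp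
  mul_mem' := by
    intro a b ha hb
    show (a * b) ^ 4 = 1
    have ha' : (a ^ 2) ^ 2 = 1 := by rw [← pow_mul]; exact ha
    have hb' : (b ^ 2) ^ 2 = 1 := by rw [← pow_mul]; exact hb
    have hc' := comm_sq' hcc hsq a b
    have e : (a * b) ^ 4 = ((a * b) ^ 2) ^ 2 := by rw [← pow_mul]
    rw [e, mul_sq' hcc]
    have c1 : Commute (a ^ 2) (b ^ 2) := (hsq b (a ^ 2))
    have c2 : Commute (a ^ 2 * b ^ 2) ⁅b, a⁆ := (hcc b a _)
    rw [c2.mul_pow, c1.mul_pow, ha', hb', hc']; simp
  inv_mem' := by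
    intro a ha
    show (a⁻¹) ^ 4 = 1
    rw [inv_pow, ha, inv_one]

instance Om4_char (hcc : ∀ x y g : K, g * ⁅x, y⁆ = ⁅x, y⁆ * g)
    (hsq : ∀ x g : K, g * x ^ 2 = x ^ 2 * g) : (Om4 hcc hsq).Characteristic := by
  refine ⟨fun φ => ?_⟩
  ext x
  rw [Subgroup.mem_comap]
  show (φ x) ^ 4 = 1 ↔ x ^ 4 = 1
  rw [← map_pow]
  exact (MulEquiv.map_eq_one_iff φ)

theorem card_inv_subgroup_le [Finite K] (B : Subgroup K) :
    Nat.card {y : B // orderOf y = 2} ≤ Nat.card {y : K // orderOf y = 2} :=
  Nat.card_le_card_of_injective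
    (fun t => (⟨(t.1 : K), by rw [Subgroup.orderOf_coe]; exact t.2⟩ : {y : K // orderOf y = 2}))
    (fun a b hab => by
      apply Subtype.ext; apply Subtype.ext
      exact congrArg (fun t : {y : K // orderOf y = 2} => t.1) hab)

theorem solvable_of_class2 [Finite K] (hK : IsPGroup 2 K)
    (hcc : ∀ x y : K, ⁅x, y⁆ ∈ Subgroup.center K) (hsq : ∀ x : K, x ^ 2 ∈ Subgroup.center K)
    (hic : ∀ x : K, x ^ 2 = 1 → x ∈ Subgroup.center K)
    (hinv : Nat.card {y : K // orderOf y = 2} ≤ 3) : Group.IsSolvable (MulAut K) := by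
  have hcc' : ∀ x y g : K, g * ⁅x, y⁆ = ⁅x, y⁆ * g := fun x y g =>
    Subgroup.mem_center_iff.mp (hcc x y) g
  have hsq' : ∀ x g : K, g * x ^ 2 = x ^ 2 * g := fun x g =>
    Subgroup.mem_center_iff.mp (hsq x) g
  haveI : Fact (Nat.Prime 2) := ⟨Nat.prime_two⟩
  apply solvable_of_resChar (Om4 hcc' hsq')
  · intro β hcop hβ
    have h := Cfsg.Agent.Helper15.aut_fixes_of_fixes_omega' (p := 2) (⊤ : Subgroup K)
      (hK.to_subgroup _) β (fun _ _ => Subgroup.mem_top _) hcop (by
        intro x _ hx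
        apply hβ
        show x ^ 4 = 1
        rcases hx with hx | ⟨-, hx⟩
        · have : x ^ 4 = (x ^ 2) ^ 2 := by rw [← pow_mul]
          rw [this, hx, one_pow]
        · exact hx)
    apply MulEquiv.ext
    intro x
    exact h x (Subgroup.mem_top _)
  · apply core_solvable
    · refine ⟨fun x => Subtype.ext x.2, ?_, ?_⟩
      · intro x hx
        have hx' : (x : K) ^ 2 = 1 := by
          have := congrArg Subtype.val hx
          simpa using this
        have hc := Subgroup.mem_center_iff.mp (hic _ hx')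
        rw [Subgroup.mem_center_iff]
        intro g
        apply Subtype.ext
        exact hc g
      · intro x y
        rw [Subgroup.mem_center_iff]
        intro g
        apply Subtype.ext
        exact hcc' x y g
    · exact (card_inv_subgroup_le _).trans hinv

end Class2

end Cfsg.Agent.Helper28.Inv3
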