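import Mathlib
import Cfsg.Agent.Helper28.Inv3G
import Cfsg.Agent.Helper1.PGroup
import Cfsg.Agent.S0093

/-!
S3117: reduction to the critical subgroup and to the centralizer of the involutions.
-/

set_option autoImplicit false

namespace Cfsg.Agent.Helper28.Inv3

open scoped commutatorElement

universe u

section Step2

variable {P : Type u} [Group P] [Finite P]

theorem solvable_of_central_inv (hP : IsPGroup 2 P)
    (hic : ∀ x : P, x ^ 2 = 1 → x ∈ Subgroup.center P)
    (hinv : Nat.card {y : P // orderOf y = 2} ≤ 3) : Group.IsSolvable (MulAut P) := by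
  haveI : Fact (Nat.Prime 2) := ⟨Nat.prime_two⟩
  obtain ⟨Hc, hchar, hfr, hcomm, hcent⟩ := Cfsg.Agent.S0093.result hP
  haveI := hchar
  apply solvable_of_resChar Hc
  · intro β hcop hβ
    have h := Cfsg.Agent.Helper15.aut_fixes_of_fixes_selfCentralizing (p := 2) (⊤ : Subgroup P) Hc
      (hP.to_subgroup _) le_top (by
        intro x _ hx
        apply hcent
        rw [Subgroup.mem_centralizer_iff]
        intro a ha
        exact hx a ha) β (fun _ _ => Subgroup.mem_top _) hcop hβ
    apply MulEquiv.ext
    intro x
    exact h x (Subgroup.mem_top _)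
  · have hcentral : ∀ z : P, z ∈ Subgroup.centralizer (Hc : Set P) → ∀ g : Hc, (g : P) * z = z * g := by
      intro z hz g
      exact (Subgroup.mem_centralizer_iff.mp hz) g g.2
    apply solvable_of_class2 (hP.to_subgroup Hc)
    · intro x y
      rw [Subgroup.mem_center_iff]
      intro g
      apply Subtype.ext
      have h1 : ⁅(x : P), (y : P)⁆ ∈ ⁅Hc, (⊤ : Subgroup P)⁆ :=
        Subgroup.commutator_mem_commutator x.2 (Subgroup.mem_top _)
      exact hcentral _ (hcomm h1).2 g
    · intro x
      rw [Subgroup.mem_center_iff]
      intro g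
      apply Subtype.ext
      have h1 : x ^ 2 ∈ frattini Hc := Cfsg.Agent.Helper1.IsPGroup.pow_mem_frattini (hP.to_subgroup Hc) x
      have h2 : ((x ^ 2 : Hc) : P) ∈ (frattini Hc).map Hc.subtype := ⟨x ^ 2, h1, rfl⟩
      exact hcentral _ (hfr h2) g
    · intro x hx
      have hx' : (x : P) ^ 2 = 1 := by
        have := congrArg Subtype.val hx
        simpa using this
      have hc := Subgroup.mem_center_iff.mp (hic _ hx')
      rw [Subgroup.mem_center_iff]
      intro g
      apply Subtype.ext
      exact hc g
    · exact (card_inv_subgroup_le _).trans hinv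

end Step2

section Step1

variable {X : Type u} [Group X] [Finite X]

/-- in a 2-group with at most three involutions, any two involutions commute -/
theorem inv_commute (h2 : IsPGroup 2 X) (h3 : Nat.card {x : X // orderOf x = 2} ≤ 3)
    (s t : X) (hs : orderOf s = 2) (ht : orderOf t = 2) : s * t = t * s := by
  classical
  haveI : Fact (Nat.Prime 2) := ⟨Nat.prime_two⟩
  haveI : Fintype X := Fintype.ofFinite X
  have hs1 : s ≠ 1 := by
    rintro rfl; rw [orderOf_one] at hs; omega
  haveI : Nontrivial X := ⟨⟨s, 1, hs1⟩⟩
  haveI := h2.center_nontrivial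
  -- a central involution
  obtain ⟨k, hk⟩ := (IsPGroup.iff_card).mp (h2.to_subgroup (Subgroup.center X))
  have hk0 : k ≠ 0 := by
    rintro rfl
    have h1 : 1 < Nat.card (Subgroup.center X) := Finite.one_lt_card
    rw [hk] at h1; simp at h1
  have hdvd : 2 ∣ Nat.card (Subgroup.center X) := by rw [hk]; exact dvd_pow_self 2 hk0
  obtain ⟨z, hz⟩ := exists_prime_orderOf_dvd_card' 2 hdvd
  have hz2 : orderOf (z : X) = 2 := by rw [Subgroup.orderOf_coe]; exact hz
  have hzc : ∀ g : X, g * z = z * g := Subgroup.mem_center_iff.mp z.2
  by_cases hsc : s ∈ Subgroup.center X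
  · exact ((Subgroup.mem_center_iff.mp hsc) t).symm
  · have hss : s * s = 1 := by rw [← pow_two, ← hs]; exact pow_orderOf_eq_one s
    have hzz : (z : X) * z = 1 := by rw [← pow_two, ← hz2]; exact pow_orderOf_eq_one _
    have hz1 : (z : X) ≠ 1 := by
      intro h; rw [h, orderOf_one] at hz2; omega
    have hsz : s ≠ z := fun h => hsc (h ▸ z.2)
    have hsz1 : s * z ≠ 1 := by
      intro h
      apply hsz
      have : s = (z : X)⁻¹ := eq_inv_of_mul_eq_one_left h
      rw [this]; exact inv_eq_of_mul_eq_one_right hzz
    have hszo : orderOf (s * z) = 2 := by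
      apply orderOf_eq_prime _ hsz1
      rw [pow_two]
      calc s * z * (s * z) = s * (z * s) * z := by group
        _ = s * (s * z) * z := by rw [← hzc s]
        _ = (s * s) * (z * z) := by group
        _ = 1 := by rw [hss, hzz, one_mul]
    have hsub : ({s, s * z, (z : X)} : Finset X) ⊆ Finset.univ.filter (fun x => orderOf x = 2) := by
      intro y hy
      simp only [Finset.mem_insert, Finset.mem_singleton] at hy
      rcases hy with rfl | rfl | rfl <;> simp [hs, hszo, hz2]
    have hcard3 : ({s, s * z, (z : X)} : Finset X).card = 3 := by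
      rw [Finset.card_insert_of_notMem, Finset.card_insert_of_notMem, Finset.card_singleton]
      · simp only [Finset.mem_singleton]
        intro h
        apply hs1
        have := congrArg (fun u => u * (z : X)⁻¹) h
        simpa using this
      · simp only [Finset.mem_insert, Finset.mem_singleton]
        rintro (h | h)
        · apply hz1
          have := congrArg (fun u => s⁻¹ * u) h
          simpa using this.symm
        · exact hsz h
    have hle : (Finset.univ.filter (fun x : X => orderOf x = 2)).card ≤ 3 := by
      rw [Nat.card_eq_fintype_card, Fintype.card_subtype] at h3; exact h3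
    have heq := Finset.eq_of_subset_of_card_le hsub (by rw [hcard3]; exact hle)
    have htm : t ∈ ({s, s * z, (z : X)} : Finset X) := by
      rw [heq]; simp [ht]
    simp only [Finset.mem_insert, Finset.mem_singleton] at htm
    rcases htm with rfl | rfl | rfl
    · rfl
    · calc s * (s * z) = s * (z * s) := by rw [hzc s]
        _ = s * z * s := by group
    · exact hzc s

/-- the centralizer of all involutions -/
def cInv (X : Type u) [Group X] : Subgroup X := Subgroup.centralizer {x : X | orderOf x = 2}

instance cInv_char : (cInv X).Characteristic := by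
  refine ⟨fun φ => ?_⟩
  ext g
  rw [Subgroup.mem_comap]
  unfold cInv
  rw [Subgroup.mem_centralizer_iff, Subgroup.mem_centralizer_iff]
  constructor
  · intro h s hs
    have hs' : orderOf (φ s) = 2 := by rw [MulEquiv.orderOf_eq]; exact hs
    have := h (φ s) hs'
    apply φ.injective
    rw [map_mul, map_mul]
    exact this
  · intro h s hs
    have hs' : orderOf (φ.symm s) = 2 := by rw [MulEquiv.orderOf_eq]; exact hs
    have := h (φ.symm s) hs'
    have h2 := congrArg φ this
    rw [map_mul, map_mul, MulEquiv.apply_symm_apply] at h2
    exact h2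

theorem aut_solvable_of_three_involutions (h2 : IsPGroup 2 X)
    (h3 : Nat.card {x : X // orderOf x = 2} ≤ 3) : Group.IsSolvable (MulAut X) := by
  haveI : Fact (Nat.Prime 2) := ⟨Nat.prime_two⟩
  have hinvmem : ∀ s : X, orderOf s = 2 → s ∈ cInv X := by
    intro s hs
    unfold cInv
    rw [Subgroup.mem_centralizer_iff]
    intro t ht
    exact inv_commute h2 h3 t s ht hs
  apply solvable_of_resChar (cInv X)
  · intro β hcop hβ
    have h := Cfsg.Agent.Helper15.aut_fixes_of_fixes_selfCentralizing (p := 2) (⊤ : Subgroup X) (cInv X)
      (h2.to_subgroup _) le_top (by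
        intro x _ hx
        unfold cInv
        rw [Subgroup.mem_centralizer_iff]
        intro s hs
        exact hx s (hinvmem s hs)) β (fun _ _ => Subgroup.mem_top _) hcop hβ
    apply MulEquiv.ext
    intro x
    exact h x (Subgroup.mem_top _)
  · apply solvable_of_central_inv (h2.to_subgroup _)
    · intro x hx
      rw [Subgroup.mem_center_iff]
      intro g
      apply Subtype.ext
      show (g : X) * x = x * g
      by_cases hx1 : x = 1
      · rw [hx1]; simp
      · have hx' : (x : X) ^ 2 = 1 := by
          have := congrArg Subtype.val hx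
          simpa using this
        have hx1' : (x : X) ≠ 1 := fun h => hx1 (Subtype.ext h)
        have ho : orderOf (x : X) = 2 := orderOf_eq_prime hx' hx1'
        have hg := g.2
        unfold cInv at hg
        exact ((Subgroup.mem_centralizer_iff.mp hg) _ ho).symm
    · exact (card_inv_subgroup_le _).trans h3

end Step1

end Cfsg.Agent.Helper28.Inv3
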