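import Mathlib
import Cfsg.Prelude.Def_GeometricClasses
import Cfsg.Agent.Helper28.LinDecompNM

set_option autoImplicit false

/-! The weight-preserving elements for `(m, q) ∈ {(1,2), (1,3), (1,4), (2,2)}`. -/

namespace Cfsg.Agent.Helper28.LinNM

open Matrix Module

variable {F : Type*} [Field F] {ι : Type} [Fintype ι] [DecidableEq ι] {t m : ℕ}
  (b : Basis (Fin t × Fin m) F (ι → F))

/-- sum of the `j`-th coordinates over the blocks in `I` -/
noncomputable def phi (I : Finset (Fin t)) (j : Fin m) : (ι → F) →ₗ[F] F := ∑ i ∈ I, b.coord (i, j)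

theorem phi_apply (I : Finset (Fin t)) (j : Fin m) (v : ι → F) :
    phi b I j v = ∑ i ∈ I, b.repr v (i, j) := by
  unfold phi
  rw [LinearMap.sum_apply]
  rfl

/-- sum of the `j`-th basis vectors of the blocks in `I` -/
noncomputable def uI (I : Finset (Fin t)) (j : Fin m) : ι → F := ∑ i ∈ I, b (i, j)

theorem repr_uI (I : Finset (Fin t)) (j : Fin m) (i' : Fin t) (l : Fin m) :
    b.repr (uI b I j) (i', l) = if i' ∈ I ∧ l = j then 1 else 0 := by
  classical
  unfold uI
  rw [map_sum, Finsupp.finset_sum_apply]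
  simp only [Basis.repr_self, Finsupp.single_apply, Prod.mk.injEq]
  by_cases hl : l = j
  · subst hl
    simp only [and_true]
    rw [Finset.sum_ite_eq' I i' (fun _ => (1 : F))]
  · rw [if_neg (fun h => hl h.2)]
    apply Finset.sum_eq_zero
    intro i _
    rw [if_neg (fun h => hl h.2.symm)]

theorem phi_uI (I : Finset (Fin t)) (j j' : Fin m) :
    phi b I j (uI b I j') = if j = j' then (I.card : F) else 0 := by
  classical
  rw [phi_apply]
  by_cases hj : j = j'
  · rw [if_pos hj]
    rw [Finset.sum_congr rfl (fun i hi => by rw [repr_uI, if_pos ⟨hi, hj⟩])]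
    simp
  · rw [if_neg hj]
    apply Finset.sum_eq_zero
    intro i _
    rw [repr_uI, if_neg (fun h => hj h.2)]

/-- coordinates of the image under the rank-one map -/
theorem repr_T (I : Finset (Fin t)) (j j' : Fin m) (v : ι → F) (i : Fin t) (l : Fin m) :
    b.repr (tmat (phi b I j) (uI b I j') *ᵥ v) (i, l) =
      b.repr v (i, l) + (∑ k ∈ I, b.repr v (k, j)) * (if i ∈ I ∧ l = j' then 1 else 0) := by
  rw [repr_tmat, phi_apply, repr_uI]

/-- the block indicator -/
noncomputable def ind (v : ι → F) (i : Fin t) : F := by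
  classical
  exact if ∃ l, b.repr v (i, l) ≠ 0 then (1 : F) else 0

theorem wt_eq_sum_ind (v : ι → F) : wt b v = ∑ i, ind b v i := rfl

theorem wt_T (I : Finset (Fin t)) (j j' : Fin m)
    (hsum : ∀ v, ∑ i ∈ I, ind b (tmat (phi b I j) (uI b I j') *ᵥ v) i = ∑ i ∈ I, ind b v i)
    (v : ι → F) : wt b (tmat (phi b I j) (uI b I j') *ᵥ v) = wt b v := by
  classical
  rw [wt_eq_sum_ind, wt_eq_sum_ind, ← Finset.sum_add_sum_compl I, ← Finset.sum_add_sum_compl I (ind b v),
    hsum v]
  congr 1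
  apply Finset.sum_congr rfl
  intro i hi
  have hi' : i ∉ I := Finset.mem_compl.mp hi
  unfold ind
  have : ∀ l, b.repr (tmat (phi b I j) (uI b I j') *ᵥ v) (i, l) = b.repr v (i, l) := by
    intro l
    rw [repr_T, if_neg (fun h => hi' h.1), mul_zero, add_zero]
  simp only [this]

section algebra

variable {α : Type*} [DecidableEq α]

theorem shift_two (h2 : (2 : F) = 0) (I : Finset α) (x : α → F) (hI : (I.card : F) = 4) :
    ∑ i ∈ I, (x i + ∑ k ∈ I, x k) = ∑ i ∈ I, x i := by
  rw [Finset.sum_add_distrib, Finset.sum_const, nsmul_eq_mul, hI]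
  linear_combination (2 * ∑ k ∈ I, x k) * h2

theorem shift_three (h3 : (3 : F) = 0) (I : Finset α) (x : α → F) (hI : (I.card : F) = 4) :
    ∑ i ∈ I, (x i + ∑ k ∈ I, x k) * (x i + ∑ k ∈ I, x k) = ∑ i ∈ I, x i * x i := by
  set s := ∑ k ∈ I, x k with hs
  have : ∀ i, (x i + s) * (x i + s) = x i * x i + (2 * s) * x i + s * s := fun i => by ring
  simp only [this]
  rw [Finset.sum_add_distrib, Finset.sum_add_distrib, ← Finset.mul_sum, Finset.sum_const,
    nsmul_eq_mul, hI, ← hs]
  linear_combination (2 * s * s) * h3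

theorem sum_sq_char_two (h2 : (2 : F) = 0) (I : Finset α) (x : α → F) :
    ∑ i ∈ I, x i * x i = (∑ i ∈ I, x i) * (∑ i ∈ I, x i) := by
  induction I using Finset.induction_on with
  | empty => simp
  | insert a I ha ih =>
    rw [Finset.sum_insert ha, Finset.sum_insert ha, ih]
    linear_combination (-(x a) * ∑ i ∈ I, x i) * h2

theorem shift_four (h2 : (2 : F) = 0) (I : Finset α) (x : α → F) (hI : (I.card : F) = 4) :
    ∑ i ∈ I, (x i + ∑ k ∈ I, x k) ^ 3 = ∑ i ∈ I, (x i) ^ 3 := by
  set s := ∑ k ∈ I, x k with hs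
  have : ∀ i, (x i + s) ^ 3 = (x i) ^ 3 + (3 * s) * (x i * x i) + (3 * s * s) * x i + s ^ 3 :=
    fun i => by ring
  simp only [this]
  rw [Finset.sum_add_distrib, Finset.sum_add_distrib, Finset.sum_add_distrib, ← Finset.mul_sum,
    ← Finset.mul_sum, Finset.sum_const, nsmul_eq_mul, hI, sum_sq_char_two h2, ← hs]
  linear_combination (5 * s ^ 3) * h2

end algebra

section one

variable (b1 : Basis (Fin t × Fin 1) F (ι → F))

theorem ind_one (v : ι → F) (i : Fin t) :
    ind b1 v i = by classical exact if b1.repr v (i, 0) ≠ 0 then (1 : F) else 0 := by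
  classical
  unfold ind
  have : (∃ l : Fin 1, b1.repr v (i, l) ≠ 0) ↔ b1.repr v (i, 0) ≠ 0 := by
    constructor
    · rintro ⟨l, hl⟩
      rwa [Subsingleton.elim l 0] at hl
    · intro h; exact ⟨0, h⟩
  rw [if_congr this rfl rfl]

/-- weight preservation of the rank-one map in the case `m = 1`, given a polynomial formula
for the indicator -/
theorem wt_T_one (pw : F → F) (hpw : ∀ x : F, (by classical exact if x ≠ 0 then (1 : F) else 0) = pw x)
    (I : Finset (Fin t))
    (hshift : ∀ x : Fin t → F, ∑ i ∈ I, pw (x i + ∑ k ∈ I, x k) = ∑ i ∈ I, pw (x i))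
    (v : ι → F) : wt b1 (tmat (phi b1 I 0) (uI b1 I 0) *ᵥ v) = wt b1 v := by
  classical
  apply wt_T
  intro v
  have h1 : ∀ i ∈ I, ind b1 (tmat (phi b1 I 0) (uI b1 I 0) *ᵥ v) i =
      pw (b1.repr v (i, 0) + ∑ k ∈ I, b1.repr v (k, 0)) := by
    intro i hi
    have hr : b1.repr (tmat (phi b1 I 0) (uI b1 I 0) *ᵥ v) (i, 0) =
        b1.repr v (i, 0) + ∑ k ∈ I, b1.repr v (k, 0) := by
      rw [repr_T, if_pos ⟨hi, rfl⟩, mul_one]
    rw [ind_one, hr]
    exact hpw _
  have h2 : ∀ i ∈ I, ind b1 v i = pw (b1.repr v (i, 0)) := by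
    intro i _
    rw [ind_one]
    exact hpw _
  rw [Finset.sum_congr rfl h1, Finset.sum_congr rfl h2]
  exact hshift (fun i => b1.repr v (i, 0))

end one

end Cfsg.Agent.Helper28.LinNM
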