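import Mathlib
import Cfsg.Prelude.Def_GeometricClasses
import Cfsg.Agent.Helper28.LinDecompNM2

set_option autoImplicit false

/-! Final assembly of the non-maximality of the linear decomposition stabiliser. -/

namespace Cfsg.Agent.Helper28.LinNM

open Matrix Module

variable {F : Type*} [Field F] {ι : Type} [Fintype ι] [DecidableEq ι] {t m : ℕ}
  (b : Basis (Fin t × Fin m) F (ι → F))

theorem T_basis_repr (I : Finset (Fin t)) (j j' : Fin m) (i0 : Fin t) (hi0 : i0 ∈ I) (i : Fin t)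
    (l : Fin m) :
    b.repr (tmat (phi b I j) (uI b I j') *ᵥ b (i0, j)) (i, l) =
      (if (i0, j) = (i, l) then (1 : F) else 0) + (if i ∈ I ∧ l = j' then 1 else 0) := by
  classical
  rw [repr_T]
  have h1 : ∑ k ∈ I, b.repr (b (i0, j)) (k, j) = 1 := by
    simp only [Basis.repr_self, Finsupp.single_apply, Prod.mk.injEq, and_true]
    rw [Finset.sum_ite_eq I i0 (fun _ => (1 : F)), if_pos hi0]
  rw [h1, one_mul, Basis.repr_self, Finsupp.single_apply]

theorem T_basis_fix (I : Finset (Fin t)) (j j' : Fin m) (i0 : Fin t) (hi0 : i0 ∉ I) (j0 : Fin m) :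
    tmat (phi b I j) (uI b I j') *ᵥ b (i0, j0) = b (i0, j0) := by
  classical
  rw [tmat_mulVec, phi_apply]
  have h1 : ∑ k ∈ I, b.repr (b (i0, j0)) (k, j) = 0 := by
    apply Finset.sum_eq_zero
    intro k hk
    rw [Basis.repr_self, Finsupp.single_apply, if_neg]
    intro h
    have : i0 = k := congrArg Prod.fst h
    exact hi0 (this ▸ hk)
  rw [h1, zero_smul, add_zero]

section one

variable [Fintype F] (b1 : Basis (Fin t × Fin 1) F (ι → F))

theorem not_maximal_one_of (pw : F → F)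
    (hpw : ∀ x : F, (by classical exact if x ≠ 0 then (1 : F) else 0) = pw x)
    (hshift : ∀ I : Finset (Fin t), (I.card : F) = 4 → ∀ x : Fin t → F,
      ∑ i ∈ I, pw (x i + ∑ k ∈ I, x k) = ∑ i ∈ I, pw (x i))
    (h24 : (24 : F) = 0)
    (D : Fin t → Submodule F (ι → F)) (hb1 : ∀ i j, b1 (i, j) ∈ D i)
    (hb2 : ∀ i, ∀ v ∈ D i, ∀ i' j, i' ≠ i → b1.repr v (i', j) = 0) (ht : 8 ≤ t) :
    ∃ K : Subgroup (GL ι F), Cfsg.Geo.decompositionStabilizer D ⊓ Cfsg.Geo.specialLinear ι F < K ∧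
      K < Cfsg.Geo.specialLinear ι F := by
  classical
  obtain ⟨e, he⟩ : ∃ e : Fin 8 ↪ Fin t, e = Fin.castLEEmb ht := ⟨_, rfl⟩
  obtain ⟨I, hI⟩ : ∃ I : Finset (Fin t),
      I = (Finset.univ.filter (fun i : Fin 8 => i.val < 4)).map e := ⟨_, rfl⟩
  obtain ⟨I', hI'⟩ : ∃ I' : Finset (Fin t),
      I' = (Finset.univ.filter (fun i : Fin 8 => 4 ≤ i.val)).map e := ⟨_, rfl⟩
  have hIc : (I.card : F) = 4 := by
    rw [hI, Finset.card_map]
    have : (Finset.univ.filter (fun i : Fin 8 => i.val < 4)).card = 4 := by decide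
    rw [this]; norm_num
  have hIc' : (I'.card : F) = 4 := by
    rw [hI', Finset.card_map]
    have : (Finset.univ.filter (fun i : Fin 8 => 4 ≤ i.val)).card = 4 := by decide
    rw [this]; norm_num
  have hmemI : ∀ k : Fin 8, e k ∈ I ↔ k.val < 4 := by
    intro k
    rw [hI, Finset.mem_map' e]
    simp
  have hmemI' : ∀ k : Fin 8, e k ∈ I' ↔ 4 ≤ k.val := by
    intro k
    rw [hI', Finset.mem_map' e]
    simp
  have h5 : (1 : F) + phi b1 I 0 (uI b1 I 0) ≠ 0 := by
    rw [phi_uI, if_pos rfl, hIc]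
    intro h
    have : (1 : F) = 0 := by linear_combination 5 * h - h24
    exact one_ne_zero this
  have h5' : (1 : F) + phi b1 I' 0 (uI b1 I' 0) ≠ 0 := by
    rw [phi_uI, if_pos rfl, hIc']
    intro h
    have : (1 : F) = 0 := by linear_combination 5 * h - h24
    exact one_ne_zero this
  apply not_maximal_of b1 D hb1 hb2 (by omega) le_rfl (tGL _ _ h5 * tGL _ _ h5')
  · rw [Units.val_mul, det_mul, tGL_val, tGL_val, tmat_det, tmat_det, phi_uI, phi_uI, if_pos rfl,
      if_pos rfl, hIc, hIc']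
    linear_combination h24
  · intro v
    rw [Units.val_mul, ← mulVec_mulVec, tGL_val, tGL_val, wt_T_one b1 pw hpw I (hshift I hIc),
      wt_T_one b1 pw hpw I' (hshift I' hIc')]
  · have h0I : e 0 ∈ I := (hmemI 0).mpr (by decide)
    have h0I' : e 0 ∉ I' := fun h => absurd ((hmemI' 0).mp h) (by decide)
    have h1I : e 1 ∈ I := (hmemI 1).mpr (by decide)
    have h2I : e 2 ∈ I := (hmemI 2).mpr (by decide)
    have hval : ∀ k : Fin t, b1.repr (((tGL _ _ h5 * tGL _ _ h5' : GL ι F) : Matrix ι ι F) *ᵥ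
        b1 (e 0, 0)) (k, 0) = (if (e 0, (0 : Fin 1)) = (k, 0) then (1 : F) else 0) +
          (if k ∈ I ∧ (0 : Fin 1) = 0 then 1 else 0) := by
      intro k
      rw [Units.val_mul, ← mulVec_mulVec, tGL_val, tGL_val, T_basis_fix b1 I' 0 0 (e 0) h0I',
        T_basis_repr b1 I 0 0 (e 0) h0I]
    have h01 : e 0 ≠ e 1 := fun h => absurd (e.injective h) (by decide)
    have h02 : e 0 ≠ e 2 := fun h => absurd (e.injective h) (by decide)
    have h12 : e 1 ≠ e 2 := fun h => absurd (e.injective h) (by decide)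
    apply not_stab_of b1 D hb2 _ (e 0) (b1 (e 0, 0)) (hb1 _ _) (e 1) (e 2) 0 0 h12
    · rw [hval, if_neg (fun h => h01 (congrArg Prod.fst h)), if_pos ⟨h1I, rfl⟩, zero_add]
      exact one_ne_zero
    · rw [hval, if_neg (fun h => h02 (congrArg Prod.fst h)), if_pos ⟨h2I, rfl⟩, zero_add]
      exact one_ne_zero

theorem not_maximal_one (D : Fin t → Submodule F (ι → F)) (hD : Cfsg.Geo.IsMDecomposition 1 D)
    (ht : 8 ≤ t) (hq : Fintype.card F ≤ 4) :
    ∃ K : Subgroup (GL ι F), Cfsg.Geo.decompositionStabilizer D ⊓ Cfsg.Geo.specialLinear ι F < K ∧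
      K < Cfsg.Geo.specialLinear ι F := by
  classical
  obtain ⟨b, hb1, hb2⟩ := exists_adapted_basis D hD
  have h1 : 1 < Fintype.card F := Fintype.one_lt_card
  have hcases : Fintype.card F = 2 ∨ Fintype.card F = 3 ∨ Fintype.card F = 4 := by omega
  rcases hcases with h2 | h3 | h4
  · have h11 := Cfsg.Agent.Helper28.SpMax.one_add_one_of_card h2
    have h2' : (2 : F) = 0 := by linear_combination h11
    apply not_maximal_one_of b (fun x => x) _ _ _ D hb1 hb2 ht
    · intro x
      rcases Cfsg.Agent.Helper28.SpMax.eq_zero_or_one_of_card h2 x with hx | hx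
      · rw [hx, if_neg (by simp)]
      · rw [hx, if_pos one_ne_zero]
    · intro I hI x
      exact shift_two h2' I x hI
    · linear_combination 12 * h2'
  · have h3' := Cfsg.Agent.Helper28.OFN.three_eq_zero h3
    apply not_maximal_one_of b (fun x => x * x) _ _ _ D hb1 hb2 ht
    · intro x
      by_cases hx : x = 0
      · rw [hx, if_neg (by simp), mul_zero]
      · rw [if_pos hx]
        exact (Cfsg.Agent.Helper28.OFN.mul_self_eq_one3 h3 hx).symm
    · intro I hI x
      exact shift_three h3' I x hI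
    · linear_combination 8 * h3'
  · have h11 := Cfsg.Agent.Helper28.UM.one_add_one_four h4
    have h2' : (2 : F) = 0 := by linear_combination h11
    apply not_maximal_one_of b (fun x => x ^ 3) _ _ _ D hb1 hb2 ht
    · intro x
      by_cases hx : x = 0
      · rw [hx, if_neg (by simp)]
        simp
      · rw [if_pos hx]
        exact (Cfsg.Agent.Helper28.UM.pow_three_four h4 hx).symm
    · intro I hI x
      exact shift_four h2' I x hI
    · linear_combination 12 * h2'

end one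

section two

variable [Fintype F] (b2 : Basis (Fin t × Fin 2) F (ι → F))

theorem ind_two (hq : Fintype.card F = 2) (v : ι → F) (i : Fin t) :
    ind b2 v i = b2.repr v (i, 0) + b2.repr v (i, 1) + b2.repr v (i, 0) * b2.repr v (i, 1) := by
  classical
  have h11 := Cfsg.Agent.Helper28.SpMax.one_add_one_of_card hq
  unfold ind
  rcases Cfsg.Agent.Helper28.SpMax.eq_zero_or_one_of_card hq (b2.repr v (i, 0)) with hx | hx <;>
    rcases Cfsg.Agent.Helper28.SpMax.eq_zero_or_one_of_card hq (b2.repr v (i, 1)) with hy | hy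
  · rw [if_neg, hx, hy]
    · ring
    · rintro ⟨l, hl⟩
      rcases Fin.exists_fin_two.mp ⟨l, rfl⟩ with rfl | rfl
      · exact hl hx
      · exact hl hy
  · rw [if_pos ⟨1, by rw [hy]; exact one_ne_zero⟩, hx, hy]
    ring
  · rw [if_pos ⟨0, by rw [hx]; exact one_ne_zero⟩, hx, hy]
    ring
  · rw [if_pos ⟨0, by rw [hx]; exact one_ne_zero⟩, hx, hy]
    linear_combination (-1 : F) * h11

theorem wt_T_two (hq : Fintype.card F = 2) (I : Finset (Fin t)) (hI : (I.card : F) = 1)
    (v : ι → F) : wt b2 (tmat (phi b2 I 1) (uI b2 I 0) *ᵥ v) = wt b2 v := by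
  classical
  have h11 := Cfsg.Agent.Helper28.SpMax.one_add_one_of_card hq
  apply wt_T
  intro v
  have hr0 : ∀ i ∈ I, b2.repr (tmat (phi b2 I 1) (uI b2 I 0) *ᵥ v) (i, 0) =
      b2.repr v (i, 0) + ∑ k ∈ I, b2.repr v (k, 1) := by
    intro i hi
    rw [repr_T, if_pos ⟨hi, rfl⟩, mul_one]
  have hr1 : ∀ i, b2.repr (tmat (phi b2 I 1) (uI b2 I 0) *ᵥ v) (i, 1) = b2.repr v (i, 1) := by
    intro i
    rw [repr_T, if_neg (fun h => absurd h.2 (by decide)), mul_zero, add_zero]
  rw [Finset.sum_congr rfl (fun i hi => by rw [ind_two b2 hq, hr0 i hi, hr1 i]),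
    Finset.sum_congr rfl (fun i _ => ind_two b2 hq v i)]
  obtain ⟨s, hs⟩ : ∃ s : F, s = ∑ k ∈ I, b2.repr v (k, 1) := ⟨_, rfl⟩
  rw [← hs]
  have hss : s * s = s := by
    rcases Cfsg.Agent.Helper28.SpMax.eq_zero_or_one_of_card hq s with h | h <;> rw [h] <;> ring
  have : ∀ i, b2.repr v (i, 0) + s + b2.repr v (i, 1) + (b2.repr v (i, 0) + s) * b2.repr v (i, 1) =
      (b2.repr v (i, 0) + b2.repr v (i, 1) + b2.repr v (i, 0) * b2.repr v (i, 1)) + s +
        s * b2.repr v (i, 1) := fun i => by ring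
  simp only [this]
  rw [Finset.sum_add_distrib, Finset.sum_add_distrib, ← Finset.mul_sum, ← hs, Finset.sum_const,
    nsmul_eq_mul, hI, hss]
  linear_combination s * h11

theorem not_maximal_two (D : Fin t → Submodule F (ι → F)) (hD : Cfsg.Geo.IsMDecomposition 2 D)
    (ht : 3 ≤ t) (hq : Fintype.card F = 2) :
    ∃ K : Subgroup (GL ι F), Cfsg.Geo.decompositionStabilizer D ⊓ Cfsg.Geo.specialLinear ι F < K ∧
      K < Cfsg.Geo.specialLinear ι F := by
  classical
  obtain ⟨b, hb1, hb2⟩ := exists_adapted_basis D hD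
  have h11 := Cfsg.Agent.Helper28.SpMax.one_add_one_of_card hq
  obtain ⟨e, he⟩ : ∃ e : Fin 3 ↪ Fin t, e = Fin.castLEEmb ht := ⟨_, rfl⟩
  obtain ⟨I, hI⟩ : ∃ I : Finset (Fin t), I = (Finset.univ : Finset (Fin 3)).map e := ⟨_, rfl⟩
  have hIc : (I.card : F) = 1 := by
    rw [hI, Finset.card_map, Finset.card_univ, Fintype.card_fin]
    push_cast
    linear_combination h11
  have hmemI : ∀ k : Fin 3, e k ∈ I := by
    intro k
    rw [hI, Finset.mem_map' e]
    exact Finset.mem_univ _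
  have hφu : phi b I 1 (uI b I 0) = 0 := by
    rw [phi_uI, if_neg (by decide)]
  have h5 : (1 : F) + phi b I 1 (uI b I 0) ≠ 0 := by
    rw [hφu, add_zero]; exact one_ne_zero
  apply not_maximal_of b D hb1 hb2 (by omega) (by omega) (tGL _ _ h5)
  · rw [tGL_val, tmat_det, hφu, add_zero]
  · intro v
    rw [tGL_val, wt_T_two b hq I hIc]
  · have hval : ∀ (k : Fin t) (l : Fin 2), b.repr (((tGL _ _ h5 : GL ι F) : Matrix ι ι F) *ᵥ
        b (e 0, 1)) (k, l) = (if (e 0, (1 : Fin 2)) = (k, l) then (1 : F) else 0) +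
          (if k ∈ I ∧ l = 0 then 1 else 0) := by
      intro k l
      rw [tGL_val, T_basis_repr b I 1 0 (e 0) (hmemI 0)]
    have h12 : e 1 ≠ e 2 := fun h => absurd (e.injective h) (by decide)
    apply not_stab_of b D hb2 _ (e 0) (b (e 0, 1)) (hb1 _ _) (e 1) (e 2) 0 0 h12
    · rw [hval, if_neg (fun h => absurd (show (1 : Fin 2) = 0 from congrArg Prod.snd h) (by decide)), if_pos ⟨hmemI 1, rfl⟩,
        zero_add]
      exact one_ne_zero
    · rw [hval, if_neg (fun h => absurd (show (1 : Fin 2) = 0 from congrArg Prod.snd h) (by decide)), if_pos ⟨hmemI 2, rfl⟩,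
        zero_add]
      exact one_ne_zero

end two

end Cfsg.Agent.Helper28.LinNM
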