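import Mathlib

set_option autoImplicit false
set_option linter.unusedSectionVars false

/-! An abstract root-group lemma: a group generated by "root subgroups" of odd order attached to the
points of a set with an opposition relation has no non-trivially acting normal subgroup of odd
order, provided the group has even order. -/

namespace Cfsg.Agent.Helper28.LB

variable {S : Type*} [Group S] [Finite S] {X : Type*} [MulAction S X]

/-- **the abstract root-group lemma** -/
theorem fixes_of_odd_normal (Opp : X → X → Prop) (U : X → Subgroup S)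
    (hOpp_symm : ∀ e y, Opp e y → Opp y e)
    (hOpp_smul : ∀ (s : S) e y, Opp e y → Opp (s • e) (s • y))
    (hU_conj : ∀ (s : S) e u, u ∈ U e → s * u * s⁻¹ ∈ U (s • e))
    (hU_fix : ∀ e u, u ∈ U e → u • e = e)
    (hU_trans : ∀ e y y', Opp e y → Opp e y' → ∃ u ∈ U e, u • y = y')
    (hcommon : ∀ e z, z ≠ e → ¬ Opp e z → ∃ y, Opp e y ∧ Opp z y)
    (hmove : ∀ e y, y ≠ e → ¬ Opp e y → ∃ s : S, s • e = e ∧ Opp y (s • y))
    (hgen : Subgroup.closure (⋃ e, (U e : Set S)) = ⊤)
    (hUodd : ∀ e, Odd (Nat.card (U e)))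
    (heven : Even (Nat.card S))
    (M : Subgroup S) [hMn : M.Normal] (hM : Odd (Nat.card M)) :
    ∀ n ∈ M, ∀ e : X, n • e = e := by
  -- step 1: no element of `M` maps a point to an opposite point
  have step1 : ∀ n ∈ M, ∀ e : X, ¬ Opp e (n • e) := by
    intro n hn e hopp
    -- the orbit of `e` under `M` is closed under opposition
    have hclosed : ∀ m ∈ M, ∀ y, Opp (m • e) y → ∃ m' ∈ M, m' • e = y := by
      intro m hm y hy
      have h1 : Opp (m • e) (m • (n • e)) := hOpp_smul m _ _ hopp
      obtain ⟨u, hu, huy⟩ := hU_trans (m • e) (m • (n • e)) y h1 hy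
      refine ⟨u * (m * n * m⁻¹) * u⁻¹ * m, ?_, ?_⟩
      · exact M.mul_mem (hMn.conj_mem _ (M.mul_mem (M.mul_mem hm hn) (M.inv_mem hm)) u) hm
      · have h2 : u⁻¹ • (m • e) = m • e := by
          rw [inv_smul_eq_iff, hU_fix _ u hu]
        rw [mul_smul, mul_smul, mul_smul, h2, mul_smul, mul_smul, inv_smul_smul]
        exact huy
    have htrans : ∀ z : X, ∃ m ∈ M, m • e = z := by
      intro z
      by_cases hze : z = e
      · exact ⟨1, M.one_mem, by rw [one_smul, hze]⟩
      by_cases hoz : Opp e z
      · have := hclosed 1 M.one_mem z (by rw [one_smul]; exact hoz)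
        exact this
      · obtain ⟨y, hey, hzy⟩ := hcommon e z hze hoz
        obtain ⟨m, hm, hmy⟩ := hclosed 1 M.one_mem y (by rw [one_smul]; exact hey)
        exact hclosed m hm z (by rw [hmy]; exact hOpp_symm _ _ hzy)
    -- every root subgroup lies in `M ⊔ U e`
    have hUle : ∀ z : X, U z ≤ M ⊔ U e := by
      intro z u hu
      obtain ⟨m, hm, rfl⟩ := htrans z
      have h1 := hU_conj m⁻¹ (m • e) u hu
      rw [inv_smul_smul, inv_inv] at h1
      have e1 : u = m * (m⁻¹ * u * m) * m⁻¹ := by group
      rw [e1]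
      exact Subgroup.mul_mem _ (Subgroup.mul_mem _ (Subgroup.mem_sup_left hm)
        (Subgroup.mem_sup_right h1)) (Subgroup.mem_sup_left (M.inv_mem hm))
    have htop : M ⊔ U e = ⊤ := by
      rw [eq_top_iff, ← hgen, Subgroup.closure_le]
      intro u hu
      obtain ⟨z, hz⟩ := Set.mem_iUnion.1 hu
      exact hUle z hz
    -- the quotient by `M` is an image of `U e`
    have hsurj : Function.Surjective ((QuotientGroup.mk' M).comp (U e).subtype) := by
      intro q
      obtain ⟨s, rfl⟩ := QuotientGroup.mk'_surjective M q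
      have hs : s ∈ M ⊔ U e := by rw [htop]; exact Subgroup.mem_top s
      rw [sup_comm, Subgroup.mem_sup_of_normal_right] at hs
      obtain ⟨u, hu, m, hm, rfl⟩ := hs
      refine ⟨⟨u, hu⟩, ?_⟩
      show (QuotientGroup.mk' M) u = (QuotientGroup.mk' M) (u * m)
      have hm1 : (QuotientGroup.mk' M) m = 1 := (QuotientGroup.eq_one_iff m).2 hm
      rw [map_mul, hm1, mul_one]
    have hdvd : Nat.card (S ⧸ M) ∣ Nat.card (U e) := Subgroup.card_dvd_of_surjective _ hsurj
    have hoddq : Odd (Nat.card (S ⧸ M)) := by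
      obtain ⟨c, hc⟩ := hdvd
      rcases Nat.even_or_odd (Nat.card (S ⧸ M)) with h | h
      · exfalso
        have := hUodd e
        rw [hc] at this
        exact (Nat.not_even_iff_odd.2 this) (h.mul_right c)
      · exact h
    have hcard := Subgroup.card_eq_card_quotient_mul_card_subgroup M
    rw [hcard] at heven
    exact (Nat.not_even_iff_odd.2 (hoddq.mul hM)) heven
  -- step 2: every point is fixed
  intro n hn e
  by_contra hne
  have hopp : ¬ Opp e (n • e) := step1 n hn e
  obtain ⟨s, hse, hsy⟩ := hmove e (n • e) hne hopp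
  have hse' : s⁻¹ • e = e := by rw [inv_smul_eq_iff, hse]
  have hm : s * n * s⁻¹ * n⁻¹ ∈ M :=
    M.mul_mem (hMn.conj_mem n hn s) (M.inv_mem hn)
  apply step1 _ hm (n • e)
  have : (s * n * s⁻¹ * n⁻¹) • (n • e) = s • (n • e) := by
    rw [mul_smul, inv_smul_smul, mul_smul, mul_smul, hse']
  rw [this]
  exact hsy

end Cfsg.Agent.Helper28.LB
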