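import Mathlib
import Cfsg.Prelude.Def_GeometricClasses
import Cfsg.Agent.Helper28.OrthMax3

set_option autoImplicit false

/-! Maximality of the stabiliser of a nonsingular point in `Ω(Q)`. -/

namespace Cfsg.Agent.Helper28.OM

open Matrix Module Cfsg.Agent.Helper28.Sg Cfsg.Agent.Helper28.Spin

variable {F : Type*} [Field F] {ι : Type} [Fintype ι] [DecidableEq ι]
  {Q : QuadraticForm F (ι → F)}

/-- a singular vector orthogonal to `v` and `v' = g₀ v` has all its Siegel transformations in `M` -/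
theorem S1_of_orth (hQ : (QuadraticMap.polarBilin Q).Nondegenerate) (fr : Frame3 Q)
    (M : Subgroup ↥(Cfsg.isometryGroup F ⇑Q)) (v : ι → F)
    (hP : ∀ g ∈ Cfsg.Omega F ⇑Q, mt Q g *ᵥ v = v → g ∈ M)
    (g₀ : ↥(Cfsg.isometryGroup F ⇑Q)) (hg₀ : g₀ ∈ M)
    {u z : ι → F} (hu : Q u = 0) (huv : B Q u v = 0) (huv' : B Q u (mt Q g₀ *ᵥ v) = 0)
    (hzu : B Q u z = 0) (hzv' : B Q (mt Q g₀ *ᵥ v) z = 0) (hzv : B Q v z = 1) : u ∈ S1 M := by
  have hSO := S_le_Omega hQ fr
  refine ⟨hu, fun w hw => ?_⟩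
  set w₂ := B Q w v • z with hw₂
  set w₁ := w - w₂ with hw₁
  have h2 : B Q u w₂ = 0 := B_smul_right_zero Q _ hzu
  have h1 : B Q u w₁ = 0 := by
    show QuadraticMap.polar ⇑Q u (w - w₂) = 0
    rw [QuadraticMap.polar_sub_right]
    simp only [B] at hw h2
    rw [hw, h2, sub_zero]
  have hw₁v : B Q w₁ v = 0 := by
    simp only [hw₁, hw₂, B, QuadraticMap.polar_sub_left, QuadraticMap.polar_smul_left, smul_eq_mul]
    have : QuadraticMap.polar ⇑Q z v = 1 := by rw [QuadraticMap.polar_comm]; exact hzv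
    rw [this, mul_one, sub_self]
  have hw₂v' : B Q w₂ (mt Q g₀ *ᵥ v) = 0 := by
    simp only [hw₂, B, QuadraticMap.polar_smul_left, smul_eq_mul]
    have : QuadraticMap.polar ⇑Q z (mt Q g₀ *ᵥ v) = 0 := by
      rw [QuadraticMap.polar_comm]; exact hzv'
    rw [this, mul_zero]
  have hsum : B Q u (w₁ + w₂) = 0 := B_add_right_zero Q h1 h2
  have hw12 : w₁ + w₂ = w := by rw [hw₁]; abel
  have e : siegO Q u w hu hw = siegO Q u w₁ hu h1 * siegO Q u w₂ hu h2 := by
    rw [siegO_mul Q hu h1 h2 hsum]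
    exact siegO_congr Q hu hw hu hsum rfl hw12.symm
  rw [e]
  apply M.mul_mem
  · apply hP _ (hSO (siegO_mem_S Q _ _ _ _))
    rw [siegO_mulVec, huv, hw₁v]
    simp
  · -- conjugate back by g₀
    have hfix : mt Q (siegO Q u w₂ hu h2) *ᵥ (mt Q g₀ *ᵥ v) = mt Q g₀ *ᵥ v := by
      rw [siegO_mulVec, huv', hw₂v']
      simp
    have hc : g₀⁻¹ * siegO Q u w₂ hu h2 * g₀ ∈ M := by
      apply hP
      · have hn : (S Q).Normal := S_normal Q
        have := hn.conj_mem _ (siegO_mem_S Q u w₂ hu h2) g₀⁻¹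
        rw [inv_inv] at this
        exact hSO this
      · rw [mt_mul_mulVec, mt_mul_mulVec, hfix, mt_inv_mulVec]
    have : siegO Q u w₂ hu h2 = g₀ * (g₀⁻¹ * siegO Q u w₂ hu h2 * g₀) * g₀⁻¹ := by group
    rw [this]
    exact M.mul_mem (M.mul_mem hg₀ hc) (M.inv_mem hg₀)

/-- **abstract maximality** of the stabiliser of a nonsingular point in `Ω(Q)` -/
theorem orth_max_ns [FiniteDimensional F (ι → F)] (hQ : (QuadraticMap.polarBilin Q).Nondegenerate)
    (fr : Frame3 Q)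
    (hgen : ∀ (H : Subgroup ↥(Cfsg.isometryGroup F ⇑Q)),
      (∀ (v : ι → F) (hv : Q v ≠ 0), reflO Q v hv ∈ H) → ∀ g, g ∈ H)
    (M : Subgroup ↥(Cfsg.isometryGroup F ⇑Q)) (v : ι → F) (hv : Q v ≠ 0)
    (hP : ∀ g ∈ Cfsg.Omega F ⇑Q, mt Q g *ᵥ v = v → g ∈ M)
    (g₀ : ↥(Cfsg.isometryGroup F ⇑Q)) (hg₀ : g₀ ∈ M)
    (hgv : mt Q g₀ *ᵥ v ∉ Submodule.span F {v}) : Cfsg.Omega F ⇑Q ≤ M := by
  classical
  set v' := mt Q g₀ *ᵥ v with hv'
  have hv0 : v ≠ 0 := by
    rintro rfl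
    exact hv (map_zero _)
  have hind : Indep v v' := by
    apply indep_of_not_smul hv0
    rintro ⟨c, hc⟩
    exact hgv (hc ▸ Submodule.smul_mem _ c (Submodule.mem_span_singleton_self v))
  obtain ⟨e', f', hQe, hQf, hef, hev, hev', hfv, hfv'⟩ := exists_hyp_orth hQ fr hind
  have hfe : B Q f' e' = 1 := by rw [B_comm]; exact hef
  -- v is not in the span of a singular vector of the pair and v'
  have hnot : ∀ {a b : ι → F}, B Q a b = 1 → B Q b v = 0 → B Q b v' = 0 →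
      v ∉ Submodule.span F ({a, v'} : Set (ι → F)) := by
    intro a b hab hbv hbv' hmem
    obtain ⟨x, y, hxy⟩ := Submodule.mem_span_pair.mp hmem
    have h1 := congrArg (fun t => B Q b t) hxy
    simp only [B, QuadraticMap.polar_add_right, QuadraticMap.polar_smul_right, smul_eq_mul] at h1
    have hba : QuadraticMap.polar ⇑Q b a = 1 := by rw [QuadraticMap.polar_comm]; exact hab
    have hbv2 : QuadraticMap.polar ⇑Q b v = 0 := hbv
    have hbv'2 : QuadraticMap.polar ⇑Q b v' = 0 := hbv'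
    rw [hba, hbv2, hbv'2, mul_one, mul_zero, add_zero] at h1
    rw [h1, zero_smul, zero_add] at hxy
    by_cases hy : y = 0
    · rw [hy, zero_smul] at hxy
      exact hv0 hxy.symm
    · apply hgv
      have : v' = y⁻¹ • v := by rw [← hxy, smul_smul, inv_mul_cancel₀ hy, one_smul]
      rw [this]
      exact Submodule.smul_mem _ _ (Submodule.mem_span_singleton_self v)
  have hmem : ∀ {a b : ι → F}, Q a = 0 → B Q a b = 1 → B Q a v = 0 → B Q a v' = 0 →
      B Q b v = 0 → B Q b v' = 0 → a ∈ S1 M := by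
    intro a b hQa hab hav hav' hbv hbv'
    obtain ⟨z, hzS, hzv⟩ := Cfsg.Agent.Helper28.QWitt.exists_dual_vec Q hQ
      (Submodule.span F ({a, v'} : Set (ι → F))) v (hnot hab hbv hbv')
    have hza : B Q a z = 0 := hzS a (Submodule.subset_span (by simp))
    have hzv' : B Q v' z = 0 := hzS v' (Submodule.subset_span (by simp))
    exact S1_of_orth hQ fr M v hP g₀ hg₀ hQa hav hav' hza hzv' hzv
  have he' : e' ∈ S1 M := hmem hQe hef hev hev' hfv hfv'
  have hf' : f' ∈ S1 M := hmem hQf hfe hfv hfv' hev hev'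
  rw [Omega_eq_S hQ fr hgen]
  unfold S
  rw [Subgroup.closure_le]
  rintro g ⟨u, w, hu, huw, rfl⟩
  exact (S1_all hQ fr M he' hf' (by rw [hef]; exact one_ne_zero) hu).2 w huw

/-- **Maximality of the stabiliser of a nonsingular point in `Ω(Q)`** (any characteristic). -/
theorem stab_maximal_ns [Fintype F] (hQ : (QuadraticMap.polarBilin Q).Nondegenerate) (fr : Frame3 Q)
    (hgen : ∀ (H : Subgroup ↥(Cfsg.isometryGroup F ⇑Q)),
      (∀ (v : ι → F) (hv : Q v ≠ 0), reflO Q v hv ∈ H) → ∀ g, g ∈ H)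
    (v : ι → F) (hv : Q v ≠ 0) :
    Cfsg.Geo.IsMaximalIn (Cfsg.Geo.omegaGL ⇑Q)
      (Cfsg.Geo.subspaceStabilizer (Submodule.span F {v}) ⊓ Cfsg.Geo.omegaGL ⇑Q) := by
  classical
  have hv0 : v ≠ 0 := by
    rintro rfl
    exact hv (map_zero _)
  have hns : ∀ (u : ι → F), Q u = 0 → u ≠ 0 → v ∉ Submodule.span F {u} := by
    intro u hu hu0 hmem
    obtain ⟨c, rfl⟩ := Submodule.mem_span_singleton.mp hmem
    apply hv
    rw [Q_smul, hu, mul_zero]
  refine ⟨lt_of_le_of_ne inf_le_right ?_, ?_⟩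
  · intro heq
    have hind : Indep (fr.e 0) v := by
      apply indep_of_not_smul (fr.e_ne_zero 0)
      rintro ⟨c, hc⟩
      apply hv
      rw [hc, Q_smul, fr.Qe, mul_zero]
    obtain ⟨e', f', hQe, -, hef, -, hev, -, -⟩ := exists_hyp_orth hQ fr hind
    have he0 : e' ≠ 0 := by
      rintro rfl
      have : B Q (0 : ι → F) f' = 0 := QuadraticMap.polar_zero_left _ _
      rw [this] at hef
      exact zero_ne_one hef
    obtain ⟨w, hwS, hwv⟩ := Cfsg.Agent.Helper28.QWitt.exists_dual_vec Q hQ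
      (Submodule.span F {e'}) v (hns e' hQe he0)
    have hew : B Q e' w = 0 := hwS e' (Submodule.mem_span_singleton_self e')
    set s := siegO Q e' w hQe hew with hs
    have hsΩ : s ∈ Cfsg.Omega F ⇑Q := S_le_Omega hQ fr (siegO_mem_S Q _ _ _ _)
    have h1 : ((s : ↥(Cfsg.isometryGroup F ⇑Q)) : GL ι F) ∈
        Cfsg.Geo.subspaceStabilizer (Submodule.span F {v}) ⊓ Cfsg.Geo.omegaGL ⇑Q := by
      rw [heq]
      exact (Cfsg.Agent.Helper28.NM.mem_omegaGL_iff Q _).mpr ⟨s, hsΩ, rfl⟩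
    have h2 : mt Q s *ᵥ v ∈ Submodule.span F {v} :=
      (h1.1 v).mp (Submodule.mem_span_singleton_self v)
    have h3 : mt Q s *ᵥ v = v - e' := by
      have hvw : B Q v w = 1 := hwv
      rw [hs, siegO_mulVec, hev, B_comm Q w v, hvw]
      simp
    rw [h3] at h2
    obtain ⟨c, hc⟩ := Submodule.mem_span_singleton.mp h2
    have h4 : e' = (1 - c) • v := by
      rw [sub_smul, one_smul, hc]; abel
    by_cases hc1 : 1 - c = 0
    · rw [hc1, zero_smul] at h4
      exact he0 h4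
    · apply hv
      have : v = (1 - c)⁻¹ • e' := by rw [h4, smul_smul, inv_mul_cancel₀ hc1, one_smul]
      rw [this, Q_smul, hQe, mul_zero]
  · intro M hPM hMS
    by_cases hMP : M ≤ Cfsg.Geo.subspaceStabilizer (Submodule.span F {v}) ⊓ Cfsg.Geo.omegaGL ⇑Q
    · left; exact le_antisymm hMP hPM
    right
    refine le_antisymm hMS ?_
    obtain ⟨g, hgM, hgP⟩ := SetLike.not_le_iff_exists.mp hMP
    have hgW : g ∉ Cfsg.Geo.subspaceStabilizer (Submodule.span F {v}) :=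
      fun h => hgP ⟨h, hMS hgM⟩
    have hgv : (g : Matrix ι ι F) *ᵥ v ∉ Submodule.span F {v} := by
      intro hmem
      apply hgW
      apply Cfsg.Agent.Helper28.NM.mem_subspaceStabilizer_of_le
      intro w hw
      obtain ⟨c, rfl⟩ := Submodule.mem_span_singleton.mp hw
      rw [Matrix.mulVec_smul]
      exact Submodule.smul_mem _ c hmem
    obtain ⟨g₀, hg₀Ω, rfl⟩ := (Cfsg.Agent.Helper28.NM.mem_omegaGL_iff Q _).mp (hMS hgM)
    have key : Cfsg.Omega F ⇑Q ≤ M.comap (Cfsg.isometryGroup F ⇑Q).subtype := by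
      refine orth_max_ns hQ fr hgen _ v hv ?_ g₀ hgM hgv
      intro h hhΩ hhv
      apply hPM
      refine ⟨Cfsg.Agent.Helper28.NM.mem_subspaceStabilizer_of_le _ _ ?_,
        (Cfsg.Agent.Helper28.NM.mem_omegaGL_iff Q _).mpr ⟨h, hhΩ, rfl⟩⟩
      intro w hw
      obtain ⟨c, rfl⟩ := Submodule.mem_span_singleton.mp hw
      rw [Matrix.mulVec_smul]
      have : ((h : GL ι F) : Matrix ι ι F) *ᵥ v = v := hhv
      show c • (((h : GL ι F) : Matrix ι ι F) *ᵥ v) ∈ _
      rw [this]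
      exact Submodule.smul_mem _ c (Submodule.mem_span_singleton_self v)
    unfold Cfsg.Geo.omegaGL
    rw [Subgroup.map_le_iff_le_comap]
    exact key

/-- function-valued version -/
theorem stab_maximal_ns_fun [Fintype F] (Q₀ : (ι → F) → F)
    (hQ₀ : Cfsg.Geo.IsNondegenerateQuadraticForm Q₀) (hn : 8 ≤ Fintype.card ι)
    (v : ι → F) (hv : Q₀ v ≠ 0) :
    Cfsg.Geo.IsMaximalIn (Cfsg.Geo.omegaGL Q₀)
      (Cfsg.Geo.subspaceStabilizer (Submodule.span F {v}) ⊓ Cfsg.Geo.omegaGL Q₀) := by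
  have hQ := Cfsg.Agent.Helper28.NM.ofFun_nondeg Q₀ hQ₀
  obtain ⟨fr⟩ := exists_frame3 hQ hn
  exact stab_maximal_ns hQ fr (hgen_all hQ (by omega)) v hv

end Cfsg.Agent.Helper28.OM
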