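import Mathlib
import Cfsg.Prelude.Def_GeometricClasses
import Cfsg.Agent.Helper28.OrthFrame
import Cfsg.Agent.Helper28.SpDecompNM

set_option autoImplicit false

/-! Non-maximality in `Ω(Q)`, `q = 3`, of the stabiliser of an orthogonal decomposition into
blocks of dimension `k ≤ 3` having orthogonal frames of constant norm: it lies in the stabiliser of
the refined frame. -/

namespace Cfsg.Agent.Helper28.OFN

open Matrix Module Cfsg.Agent.Helper28.Sg Cfsg.Agent.Helper28.OM Cfsg.Agent.Helper28.Spin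

variable {F : Type*} [Field F] [Fintype F] {ι : Type} [Fintype ι] [DecidableEq ι]
  (Q : QuadraticForm F (ι → F))

theorem B_sum_left {k : ℕ} (x : ι → F) (c : Fin k → F) (e : Fin k → (ι → F)) (s : Finset (Fin k)) :
    B Q (∑ j ∈ s, c j • e j) x = ∑ j ∈ s, c j * B Q (e j) x := by
  have : B Q (∑ j ∈ s, c j • e j) x = (QuadraticMap.polarBilin Q).flip x (∑ j ∈ s, c j • e j) := rfl
  rw [this, map_sum]
  apply Finset.sum_congr rfl
  intro j _
  rw [map_smul]
  rfl

/-- `Q` of an orthogonal combination -/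
theorem Q_sum_orth {k : ℕ} (c : Fin k → F) (e : Fin k → (ι → F))
    (horth : ∀ j j', j ≠ j' → B Q (e j) (e j') = 0) (s : Finset (Fin k)) :
    Q (∑ j ∈ s, c j • e j) = ∑ j ∈ s, c j * c j * Q (e j) := by
  classical
  induction s using Finset.induction_on with
  | empty => simp
  | insert a s ha ih =>
    rw [Finset.sum_insert ha, Finset.sum_insert ha, Q_add, ih, Q_smul]
    have : B Q (c a • e a) (∑ j ∈ s, c j • e j) = 0 := by
      rw [B_comm, B_sum_left]
      apply Finset.sum_eq_zero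
      intro j hj
      have hja : j ≠ a := fun h => ha (h ▸ hj)
      rw [B_smul_right', horth j a hja, mul_zero, mul_zero]
    rw [this, add_zero]

/-- a vector of norm `ε` in a framed block of dimension at most three is `±` a frame vector -/
theorem frame_cls (hq : Fintype.card F = 3) (W : Submodule F (ι → F)) {k : ℕ} (hk : k ≤ 3) {ε : F}
    (hε : ε ≠ 0) {e : Fin k → (ι → F)} (he : IsFrame Q W k ε e) (v : ι → F) (hv : v ∈ W)
    (hQv : Q v = ε) : ∃ j, v = e j ∨ v = -e j := by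
  classical
  obtain ⟨h1, h2, h3, h4⟩ := he
  obtain ⟨c, rfl⟩ := h4 v hv
  have hQ := Q_sum_orth Q c e h3 Finset.univ
  rw [hQv] at hQ
  have hsq : ∀ j, c j * c j = if c j ≠ 0 then (1 : F) else 0 := by
    intro j
    by_cases hj : c j = 0
    · simp [hj]
    · rw [if_pos hj]; exact mul_self_eq_one3 hq hj
  have hsum : (∑ j, c j * c j * Q (e j)) = ((Finset.univ.filter (fun j => c j ≠ 0)).card : F) * ε := by
    rw [Finset.sum_congr rfl (fun j _ => by rw [h2 j, hsq j]), ← Finset.sum_mul, Finset.sum_boole]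
  rw [hsum] at hQ
  have hcard : ((Finset.univ.filter (fun j => c j ≠ 0)).card : F) = 1 := by
    have : (((Finset.univ.filter (fun j => c j ≠ 0)).card : F) - 1) * ε = 0 := by
      linear_combination -hQ
    rcases mul_eq_zero.mp this with h | h
    · exact sub_eq_zero.mp h
    · exact absurd h hε
  have hle : (Finset.univ.filter (fun j => c j ≠ 0)).card ≤ 3 := by
    calc (Finset.univ.filter (fun j => c j ≠ 0)).card ≤ (Finset.univ : Finset (Fin k)).card :=
          Finset.card_filter_le _ _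
      _ = k := by simp
      _ ≤ 3 := hk
  have h3' := three_eq_zero hq
  have h2' := two_ne_zero3 hq
  have hone : (Finset.univ.filter (fun j => c j ≠ 0)).card = 1 := by
    generalize (Finset.univ.filter (fun j => c j ≠ 0)).card = n at hcard hle
    interval_cases n
    · exfalso; simp at hcard
    · rfl
    · exfalso
      have : (1 : F) = 0 := by
        have h : ((2 : ℕ) : F) = 1 := hcard
        push_cast at h
        linear_combination h3' - 2 * h
      exact one_ne_zero this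
    · exfalso
      have h : ((3 : ℕ) : F) = 1 := hcard
      push_cast at h
      rw [h3'] at h
      exact zero_ne_one h
  obtain ⟨j, hj⟩ := Finset.card_eq_one.mp hone
  have hcj : c j ≠ 0 := by
    have : j ∈ Finset.univ.filter (fun j => c j ≠ 0) := by rw [hj]; simp
    exact (Finset.mem_filter.mp this).2
  have hcj' : ∀ j', j' ≠ j → c j' = 0 := by
    intro j' hj'
    by_contra hne
    have : j' ∈ Finset.univ.filter (fun j => c j ≠ 0) := Finset.mem_filter.mpr ⟨Finset.mem_univ _, hne⟩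
    rw [hj, Finset.mem_singleton] at this
    exact hj' this
  have hv : ∑ j', c j' • e j' = c j • e j := by
    apply Finset.sum_eq_single j
    · intro j' _ hj'
      rw [hcj' j' hj', zero_smul]
    · intro h; exact absurd (Finset.mem_univ j) h
  refine ⟨j, ?_⟩
  rw [hv]
  rcases eq_one_or_neg_one3 hq hcj with h | h
  · left; rw [h, one_smul]
  · right; rw [h, neg_smul, one_smul]

/-- **Main non-maximality theorem for framed orthogonal decompositions over `F_3`.** -/
theorem frame_not_maximal (hQ : (QuadraticMap.polarBilin Q).Nondegenerate)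
    (hq : Fintype.card F = 3) (hn : 8 ≤ Fintype.card ι) {t k : ℕ} (hk2 : 2 ≤ k) (hk3 : k ≤ 3)
    (D : Fin t → Submodule F (ι → F)) (hD : Cfsg.Geo.IsOrthogonalMDecomposition ⇑Q k D)
    (ε : F) (hε : ε ≠ 0) (i₀ : Fin t) (e₀ : Fin k → (ι → F)) (he₀ : IsFrame Q (D i₀) k ε e₀) :
    ∃ K : Subgroup (GL ι F), Cfsg.Geo.decompositionStabilizer D ⊓ Cfsg.Geo.omegaGL ⇑Q < K ∧
      K < Cfsg.Geo.omegaGL ⇑Q := by
  classical
  obtain ⟨fr⟩ := exists_frame3 hQ hn
  have h3 := three_eq_zero hq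
  have h2 := two_ne_zero3 hq
  have ht : 3 ≤ t := by
    have := Cfsg.Agent.Helper28.SpMax.card_eq_of_decomp D hD.decomp.decomp
    by_contra hlt
    have h' : t ≤ 2 := by omega
    nlinarith
  have hframes : ∀ i, ∃ e : Fin k → (ι → F), IsFrame Q (D i) k ε e := by
    intro i
    obtain ⟨φ, hφ⟩ := hD.isometric i₀ i
    exact ⟨_, frame_transport Q (D i₀) (D i) φ hφ he₀⟩
  choose fe hfe using hframes
  have horth : ∀ i j, i ≠ j → ∀ u ∈ D i, ∀ v ∈ D j, B Q u v = 0 :=
    fun i j hij u hu v hv => hD.decomp.orthogonal i j hij u hu v hv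
  have hmem : ∀ i j, fe i j ∈ D i := fun i j => (hfe i).1 j
  have hnorm : ∀ i j, Q (fe i j) = ε := fun i j => (hfe i).2.1 j
  have hforth : ∀ i j i' j', (i ≠ i' ∨ j ≠ j') → B Q (fe i j) (fe i' j') = 0 := by
    intro i j i' j' h
    by_cases hi : i = i'
    · subst hi
      exact (hfe i).2.2.1 j j' (h.resolve_left (fun h => h rfl))
    · exact horth i i' hi _ (hmem i j) _ (hmem i' j')
  have hself : ∀ i j, B Q (fe i j) (fe i j) = 2 * ε := by
    intro i j; rw [B_self, hnorm]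
  have h2ε : (2 : F) * ε ≠ 0 := mul_ne_zero h2 hε
  let P : (ι → F) → Prop := fun v => Q v = ε ∧ ∃ i, v ∈ D i
  have hPfe : ∀ i j, P (fe i j) := fun i j => ⟨hnorm i j, i, hmem i j⟩
  have hQneg : ∀ x : ι → F, Q (-x) = Q x := fun x => by
    have := Q_smul Q (-1) x; simpa using this
  have hPneg : ∀ v, P v → P (-v) := by
    rintro v ⟨h1, i, hi⟩
    exact ⟨by rw [hQneg, h1], i, (D i).neg_mem hi⟩
  have hcls : ∀ v, P v → ∃ i j, v = fe i j ∨ v = -fe i j := by
    rintro v ⟨h1, i, hi⟩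
    obtain ⟨j, hj⟩ := frame_cls Q hq (D i) hk3 hε (hfe i) v hi h1
    exact ⟨i, j, hj⟩
  let K' : Subgroup (GL ι F) :=
    { carrier := {g | ∀ v : ι → F, P ((g : Matrix ι ι F) *ᵥ v) ↔ P v}
      mul_mem' := by
        intro g g' hg hg' v
        rw [Units.val_mul, ← Matrix.mulVec_mulVec, hg, hg']
      one_mem' := fun v => by simp
      inv_mem' := by
        intro g hg v
        have e1 : (g : Matrix ι ι F) *ᵥ (((g⁻¹ : GL ι F) : Matrix ι ι F) *ᵥ v) = v := by
          rw [Matrix.mulVec_mulVec, ← Units.val_mul, mul_inv_cancel, Units.val_one, Matrix.one_mulVec]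
        rw [← hg, e1] }
  have hK'mem : ∀ g : GL ι F, g ∈ K' ↔ ∀ v : ι → F, P ((g : Matrix ι ι F) *ᵥ v) ↔ P v :=
    fun g => Iff.rfl
  -- swap reflections
  have hswap : ∀ i j i' j', (i ≠ i' ∨ j ≠ j') →
      ∃ hd : Q (fe i j - fe i' j') ≠ 0, Q (fe i j - fe i' j') = 2 * ε ∧
        ((reflO Q (fe i j - fe i' j') hd : ↥(Cfsg.isometryGroup F ⇑Q)) : GL ι F) ∈ K' ∧
        Cfsg.reflectionMatrix ⇑Q (fe i j - fe i' j') *ᵥ fe i j = fe i' j' ∧
        Cfsg.reflectionMatrix ⇑Q (fe i j - fe i' j') *ᵥ fe i' j' = fe i j ∧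
        ∀ i'' j'', B Q (fe i j) (fe i'' j'') = 0 → B Q (fe i' j') (fe i'' j'') = 0 →
          Cfsg.reflectionMatrix ⇑Q (fe i j - fe i' j') *ᵥ fe i'' j'' = fe i'' j'' := by
    intro i j i' j' hne
    have hne' : i' ≠ i ∨ j' ≠ j := hne.imp Ne.symm Ne.symm
    have hQd : Q (fe i j - fe i' j') = 2 * ε := by
      rw [Q_sub', hnorm, hnorm, hforth i j i' j' hne]; ring
    have hd : Q (fe i j - fe i' j') ≠ 0 := by rw [hQd]; exact h2ε
    have r1 : Cfsg.reflectionMatrix ⇑Q (fe i j - fe i' j') *ᵥ fe i j = fe i' j' := by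
      rw [refl_mulVec, hQd]
      have : QuadraticMap.polar ⇑Q (fe i j - fe i' j') (fe i j) = 2 * ε := by
        show B Q _ _ = _
        rw [B_sub_left', hself, hforth i' j' i j hne', sub_zero]
      rw [this, inv_mul_cancel₀ h2ε, one_smul, sub_sub_cancel]
    have r2 : Cfsg.reflectionMatrix ⇑Q (fe i j - fe i' j') *ᵥ fe i' j' = fe i j := by
      rw [refl_mulVec, hQd]
      have : QuadraticMap.polar ⇑Q (fe i j - fe i' j') (fe i' j') = -(2 * ε) := by
        show B Q _ _ = _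
        rw [B_sub_left', hself, hforth i j i' j' hne, zero_sub]
      rw [this, mul_neg, inv_mul_cancel₀ h2ε, neg_smul, one_smul, sub_neg_eq_add]
      abel
    have r3 : ∀ i'' j'', B Q (fe i j) (fe i'' j'') = 0 → B Q (fe i' j') (fe i'' j'') = 0 →
        Cfsg.reflectionMatrix ⇑Q (fe i j - fe i' j') *ᵥ fe i'' j'' = fe i'' j'' := by
      intro i'' j'' ha hb
      rw [refl_mulVec]
      have : QuadraticMap.polar ⇑Q (fe i j - fe i' j') (fe i'' j'') = 0 := by
        show B Q _ _ = _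
        rw [B_sub_left', ha, hb, sub_zero]
      rw [this, mul_zero, zero_smul, sub_zero]
    have hfr : ∀ i'' j'', ∃ i₃ j₃,
        Cfsg.reflectionMatrix ⇑Q (fe i j - fe i' j') *ᵥ fe i'' j'' = fe i₃ j₃ := by
      intro i'' j''
      by_cases hp : i'' = i ∧ j'' = j
      · obtain ⟨rfl, rfl⟩ := hp
        exact ⟨i', j', r1⟩
      · by_cases hp' : i'' = i' ∧ j'' = j'
        · obtain ⟨rfl, rfl⟩ := hp'
          exact ⟨i, j, r2⟩
        · refine ⟨i'', j'', r3 i'' j'' (hforth _ _ _ _ ?_) (hforth _ _ _ _ ?_)⟩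
          · by_contra hcon
            push Not at hcon
            exact hp ⟨hcon.1.symm, hcon.2.symm⟩
          · by_contra hcon
            push Not at hcon
            exact hp' ⟨hcon.1.symm, hcon.2.symm⟩
    have hone : ∀ v, P v → P (Cfsg.reflectionMatrix ⇑Q (fe i j - fe i' j') *ᵥ v) := by
      intro v hv
      obtain ⟨i'', j'', h | h⟩ := hcls v hv
      · obtain ⟨i₃, j₃, h₃⟩ := hfr i'' j''
        rw [h, h₃]; exact hPfe _ _
      · obtain ⟨i₃, j₃, h₃⟩ := hfr i'' j''
        rw [h, Matrix.mulVec_neg, h₃]; exact hPneg _ (hPfe _ _)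
    refine ⟨hd, hQd, ?_, r1, r2, r3⟩
    rw [hK'mem]
    intro v
    rw [reflO_val]
    constructor
    · intro hP
      have := hone _ hP
      rwa [Matrix.mulVec_mulVec, Cfsg.Agent.Helper28.Spin.refl_sq Q hd, Matrix.one_mulVec] at this
    · exact hone v
  -- indices
  set i0 : Fin t := ⟨0, by omega⟩ with hi0
  set i1 : Fin t := ⟨1, by omega⟩ with hi1
  set i2 : Fin t := ⟨2, by omega⟩ with hi2
  have h01 : i0 ≠ i1 := by
    intro h; rw [hi0, hi1, Fin.mk.injEq] at h; omega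
  have h02 : i0 ≠ i2 := by
    intro h; rw [hi0, hi2, Fin.mk.injEq] at h; omega
  have h12 : i1 ≠ i2 := by
    intro h; rw [hi1, hi2, Fin.mk.injEq] at h; omega
  set j0 : Fin k := ⟨0, by omega⟩ with hj0
  set j1 : Fin k := ⟨1, by omega⟩ with hj1
  have hj01 : j0 ≠ j1 := by
    intro h; rw [hj0, hj1, Fin.mk.injEq] at h; omega
  let K : Subgroup (GL ι F) := K' ⊓ Cfsg.Geo.omegaGL ⇑Q
  have hle : Cfsg.Geo.decompositionStabilizer D ⊓ Cfsg.Geo.omegaGL ⇑Q ≤ K := by
    rintro g ⟨⟨σ, hσ⟩, hgΩ⟩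
    obtain ⟨h, hh, rfl⟩ := (Cfsg.Agent.Helper28.NM.mem_omegaGL_iff Q g).mp hgΩ
    refine ⟨(hK'mem _).mpr ?_, hgΩ⟩
    intro v
    have hQh : ∀ x, Q (mt Q h *ᵥ x) = Q x :=
      fun x => (IsoTransport.mem_isometryGroup_iff _ h.1).mp h.2 x
    constructor
    · rintro ⟨hn', j, hj⟩
      refine ⟨by rw [← hQh v]; exact hn', σ.symm j, ?_⟩
      have := hσ (σ.symm j)
      rw [Equiv.apply_symm_apply] at this
      rw [← this] at hj
      obtain ⟨v', hv', hvv'⟩ := hj
      rw [Matrix.toLin'_apply] at hvv'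
      have hinj : v' = v := by
        have h2' : ∀ x : ι → F, mt Q h⁻¹ *ᵥ (mt Q h *ᵥ x) = x := by
          intro x
          rw [Matrix.mulVec_mulVec, ← mt_mul, inv_mul_cancel, mt_one, Matrix.one_mulVec]
        rw [← h2' v', ← h2' v]
        exact congrArg _ hvv'
      rw [← hinj]; exact hv'
    · rintro ⟨hn', i, hi⟩
      refine ⟨by rw [hQh v]; exact hn', σ i, ?_⟩
      rw [← hσ i]
      exact ⟨v, hi, Matrix.toLin'_apply _ _⟩
  refine ⟨K, lt_of_le_of_ne hle ?_, lt_of_le_of_ne inf_le_right ?_⟩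
  · -- an element of K outside the stabiliser
    intro heq
    obtain ⟨hd₁, hQd₁, hr₁K, r₁a, r₁b, r₁fix⟩ := hswap i0 j0 i1 j0 (Or.inl h01)
    obtain ⟨hd₂, hQd₂, hr₂K, r₂a, r₂a', r₂fix⟩ := hswap i0 j0 i0 j1 (Or.inr hj01)
    have hgΩ : reflO Q _ hd₁ * reflO Q _ hd₂ ∈ Cfsg.Omega F ⇑Q :=
      Cfsg.Agent.Helper28.OC.reflO_mul_mem_Omega Q hQ (Or.inl (by rw [hq]; norm_num)) _ _ hd₁ hd₂ (by rw [hQd₁, hQd₂])
    have hgK : ((reflO Q _ hd₁ * reflO Q _ hd₂ : ↥(Cfsg.isometryGroup F ⇑Q)) : GL ι F) ∈ K :=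
      ⟨K'.mul_mem hr₁K hr₂K, (Cfsg.Agent.Helper28.NM.mem_omegaGL_iff Q _).mpr ⟨_, hgΩ, rfl⟩⟩
    rw [← heq] at hgK
    obtain ⟨⟨σ, hσ⟩, -⟩ := hgK
    have hmat : ∀ x : ι → F, Matrix.toLin' (((reflO Q _ hd₁ * reflO Q _ hd₂ :
        ↥(Cfsg.isometryGroup F ⇑Q)) : GL ι F) : Matrix ι ι F) x =
        Cfsg.reflectionMatrix ⇑Q (fe i0 j0 - fe i1 j0) *ᵥ
          (Cfsg.reflectionMatrix ⇑Q (fe i0 j0 - fe i0 j1) *ᵥ x) := by
      intro x
      rw [Matrix.toLin'_apply, Matrix.mulVec_mulVec]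
      rfl
    have hm1 : fe i0 j1 ∈ D (σ i0) := by
      rw [← hσ i0]
      refine ⟨fe i0 j0, hmem i0 j0, ?_⟩
      rw [hmat, r₂a]
      exact r₁fix i0 j1 (hforth _ _ _ _ (Or.inr hj01)) (hforth _ _ _ _ (Or.inl h01.symm))
    have hm2 : fe i1 j0 ∈ D (σ i0) := by
      rw [← hσ i0]
      refine ⟨fe i0 j1, hmem i0 j1, ?_⟩
      rw [hmat, r₂a', r₁a]
    by_cases hs : σ i0 = i0
    · rw [hs] at hm2
      have := horth i0 i1 h01 _ hm2 _ (hmem i1 j0)
      rw [hself] at this
      exact h2ε this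
    · have := horth (σ i0) i0 hs _ hm1 _ (hmem i0 j1)
      rw [hself] at this
      exact h2ε this
  · -- an element of Ω outside K'
    intro heq
    set a := fe i0 j0 with ha
    set a' := fe i0 j1 with ha'
    set b := fe i1 j0 with hb
    set c := fe i2 j0 with hc
    obtain ⟨u, hu⟩ : ∃ u : ι → F, u = a + b + c := ⟨_, rfl⟩
    have hab : B Q a b = 0 := hforth _ _ _ _ (Or.inl h01)
    have hac : B Q a c = 0 := hforth _ _ _ _ (Or.inl h02)
    have hbc : B Q b c = 0 := hforth _ _ _ _ (Or.inl h12)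
    have hba : B Q b a = 0 := hforth _ _ _ _ (Or.inl h01.symm)
    have hca : B Q c a = 0 := hforth _ _ _ _ (Or.inl h02.symm)
    have hcb : B Q c b = 0 := hforth _ _ _ _ (Or.inl h12.symm)
    have haa' : B Q a a' = 0 := hforth _ _ _ _ (Or.inr hj01)
    have ha'a : B Q a' a = 0 := hforth _ _ _ _ (Or.inr hj01.symm)
    have hba' : B Q b a' = 0 := hforth _ _ _ _ (Or.inl h01.symm)
    have hca' : B Q c a' = 0 := hforth _ _ _ _ (Or.inl h02.symm)
    have ha'b : B Q a' b = 0 := hforth _ _ _ _ (Or.inl h01)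
    have ha'c : B Q a' c = 0 := hforth _ _ _ _ (Or.inl h02)
    have hQu : Q u = 0 := by
      rw [hu, Q_add, Q_add, B_add_left', hnorm, hnorm, hnorm, hab, hac, hbc]
      linear_combination ε * h3
    have hua' : B Q u a' = 0 := by
      rw [hu, B_add_left', B_add_left', haa', hba', hca']; ring
    have hua : B Q u a = 2 * ε := by
      rw [hu, B_add_left', B_add_left', hself, hba, hca]; ring
    have hub : B Q u b = 2 * ε := by
      rw [hu, B_add_left', B_add_left', hself, hab, hcb]; ring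
    have huc : B Q u c = 2 * ε := by
      rw [hu, B_add_left', B_add_left', hself, hac, hbc]; ring
    have hsK : ((siegO Q u a' hQu hua' : ↥(Cfsg.isometryGroup F ⇑Q)) : GL ι F) ∈ K := by
      rw [heq]
      exact (Cfsg.Agent.Helper28.NM.mem_omegaGL_iff Q _).mpr
        ⟨_, S_le_Omega hQ fr (siegO_mem_S Q u a' hQu hua'), rfl⟩
    have hPsa := ((hK'mem _).mp hsK.1 a).mpr (hPfe i0 j0)
    rw [show (((siegO Q u a' hQu hua' : ↥(Cfsg.isometryGroup F ⇑Q)) : GL ι F) : Matrix ι ι F) =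
      mt Q (siegO Q u a' hQu hua') from rfl, siegO_mulVec, hua, ha'a, hnorm] at hPsa
    obtain ⟨-, j, hj⟩ := hPsa
    have hε3 : ε * (2 * ε) * (2 * ε) ≠ 0 := mul_ne_zero (mul_ne_zero hε h2ε) h2ε
    have hBb : B Q (a + (2 * ε) • a' - (0 : F) • u - (ε * (2 * ε)) • u) b = -(ε * (2 * ε) * (2 * ε)) := by
      rw [B_sub_left', B_sub_left', B_add_left', B_smul_left', B_smul_left', B_smul_left', hab, ha'b,
        hub]
      ring
    have hBc : B Q (a + (2 * ε) • a' - (0 : F) • u - (ε * (2 * ε)) • u) c = -(ε * (2 * ε) * (2 * ε)) := by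
      rw [B_sub_left', B_sub_left', B_add_left', B_smul_left', B_smul_left', B_smul_left', hac, ha'c,
        huc]
      ring
    have hj1 : j = i1 := by
      by_contra hne
      have := horth j i1 hne _ hj b (hmem i1 j0)
      rw [hBb] at this
      exact hε3 (neg_eq_zero.mp this)
    have hj2 : j = i2 := by
      by_contra hne
      have := horth j i2 hne _ hj c (hmem i2 j0)
      rw [hBc] at this
      exact hε3 (neg_eq_zero.mp this)
    exact h12 (hj1.symm.trans hj2)

end Cfsg.Agent.Helper28.OFN
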