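import Mathlib
import Cfsg.Prelude.Def_GeometricClasses
import Cfsg.Agent.Helper28.OrthFrameNM

set_option autoImplicit false

/-! Non-maximality in `Ω(Q)` of stabilisers of orthogonal decompositions: general tools.
The overgroup is always `stabP P' ⊓ Ω` for a predicate `P'` on vectors. -/

namespace Cfsg.Agent.Helper28.PDN

open Matrix Module Cfsg.Agent.Helper28.Sg Cfsg.Agent.Helper28.OM Cfsg.Agent.Helper28.Spin
  Cfsg.Agent.Helper28.OFN

variable {F : Type*} [Field F] [Fintype F] {ι : Type} [Fintype ι] [DecidableEq ι]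
  (Q : QuadraticForm F (ι → F))

theorem GL_mulVec_inv_mulVec (g : GL ι F) (v : ι → F) :
    ((g⁻¹ : GL ι F) : Matrix ι ι F) *ᵥ ((g : Matrix ι ι F) *ᵥ v) = v := by
  rw [Matrix.mulVec_mulVec, ← Units.val_mul, inv_mul_cancel, Units.val_one, Matrix.one_mulVec]

theorem GL_mulVec_mulVec_inv (g : GL ι F) (v : ι → F) :
    (g : Matrix ι ι F) *ᵥ (((g⁻¹ : GL ι F) : Matrix ι ι F) *ᵥ v) = v := by
  rw [Matrix.mulVec_mulVec, ← Units.val_mul, mul_inv_cancel, Units.val_one, Matrix.one_mulVec]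

theorem GL_mulVec_inj (g : GL ι F) {v w : ι → F}
    (h : (g : Matrix ι ι F) *ᵥ v = (g : Matrix ι ι F) *ᵥ w) : v = w := by
  rw [← GL_mulVec_inv_mulVec g v, ← GL_mulVec_inv_mulVec g w, h]

/-- the stabiliser in `GL` of a set of vectors (given as a predicate) -/
def stabP (P : (ι → F) → Prop) : Subgroup (GL ι F) where
  carrier := {g | ∀ v : ι → F, P ((g : Matrix ι ι F) *ᵥ v) ↔ P v}
  mul_mem' := by
    intro g g' hg hg' v
    rw [Units.val_mul, ← Matrix.mulVec_mulVec, hg, hg']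
  one_mem' := fun v => by simp
  inv_mem' := by
    intro g hg v
    rw [← hg, GL_mulVec_mulVec_inv]

theorem mem_stabP (P : (ι → F) → Prop) (g : GL ι F) :
    g ∈ stabP P ↔ ∀ v : ι → F, P ((g : Matrix ι ι F) *ᵥ v) ↔ P v := Iff.rfl

/-- a matrix mapping the (finite) set `P` into itself stabilises it -/
theorem stabP_of_maps (P : (ι → F) → Prop) (g : GL ι F)
    (h : ∀ v, P v → P ((g : Matrix ι ι F) *ᵥ v)) : g ∈ stabP P := by
  classical
  rw [mem_stabP]
  intro v
  constructor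
  · intro hgv
    let φ : {v : ι → F // P v} → {v : ι → F // P v} :=
      fun w => ⟨(g : Matrix ι ι F) *ᵥ w.1, h w.1 w.2⟩
    have hinj : Function.Injective φ := by
      intro w w' hww'
      apply Subtype.ext
      exact GL_mulVec_inj g (congrArg Subtype.val hww')
    have hsurj := Finite.injective_iff_surjective.mp hinj
    obtain ⟨w, hw⟩ := hsurj ⟨(g : Matrix ι ι F) *ᵥ v, hgv⟩
    have h1 : (g : Matrix ι ι F) *ᵥ w.1 = (g : Matrix ι ι F) *ᵥ v := congrArg Subtype.val hw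
    have h2 : w.1 = v := GL_mulVec_inj g h1
    rw [← h2]; exact w.2
  · exact h v

variable {t : ℕ} (D : Fin t → Submodule F (ι → F))

/-- a vector pairing non-trivially with two different blocks lies in no block -/
theorem not_block (horth : ∀ i j, i ≠ j → ∀ u ∈ D i, ∀ v ∈ D j, B Q u v = 0)
    {j j' : Fin t} (hjj' : j ≠ j') (z y y' : ι → F) (hy : y ∈ D j) (hy' : y' ∈ D j')
    (h1 : B Q z y ≠ 0) (h2 : B Q z y' ≠ 0) : ∀ i, z ∉ D i := by
  intro i hz
  have e1 : i = j := by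
    by_contra hne
    exact h1 (horth i j hne z hz y hy)
  have e2 : i = j' := by
    by_contra hne
    exact h2 (horth i j' hne z hz y' hy')
  exact hjj' (e1.symm.trans e2)

/-- a matrix sending two vectors of one block to vectors pairing non-trivially with two different
blocks does not stabilise the decomposition -/
theorem not_mem_stab (horth : ∀ i j, i ≠ j → ∀ u ∈ D i, ∀ v ∈ D j, B Q u v = 0) (g : GL ι F)
    {i j j' : Fin t} (hjj' : j ≠ j') (x x' y y' : ι → F) (hx : x ∈ D i) (hx' : x' ∈ D i)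
    (hy : y ∈ D j) (hy' : y' ∈ D j')
    (h1 : B Q ((g : Matrix ι ι F) *ᵥ x) y ≠ 0) (h2 : B Q ((g : Matrix ι ι F) *ᵥ x') y' ≠ 0) :
    g ∉ Cfsg.Geo.decompositionStabilizer D := by
  rintro ⟨σ, hσ⟩
  have hm : ∀ z ∈ D i, (g : Matrix ι ι F) *ᵥ z ∈ D (σ i) := by
    intro z hz
    rw [← hσ i]
    exact ⟨z, hz, Matrix.toLin'_apply _ _⟩
  have e1 : σ i = j := by
    by_contra hne
    exact h1 (horth (σ i) j hne _ (hm x hx) y hy)
  have e2 : σ i = j' := by
    by_contra hne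
    exact h2 (horth (σ i) j' hne _ (hm x' hx') y' hy')
  exact hjj' (e1.symm.trans e2)

/-- the stabiliser of the decomposition in `Ω` preserves the set of block vectors with norm in `N` -/
theorem stab_le_stabP (N : F → Prop) :
    Cfsg.Geo.decompositionStabilizer D ⊓ Cfsg.Geo.omegaGL ⇑Q ≤
      stabP (fun v => N (Q v) ∧ ∃ i, v ∈ D i) := by
  rintro g ⟨⟨σ, hσ⟩, hgΩ⟩
  obtain ⟨h, hh, rfl⟩ := (Cfsg.Agent.Helper28.NM.mem_omegaGL_iff Q g).mp hgΩ
  apply stabP_of_maps
  rintro v ⟨hN, i, hi⟩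
  have hQh : Q (mt Q h *ᵥ v) = Q v := (IsoTransport.mem_isometryGroup_iff _ h.1).mp h.2 v
  refine ⟨?_, σ i, ?_⟩
  · show N (Q (mt Q h *ᵥ v))
    rw [hQh]; exact hN
  · rw [← hσ i]
    exact ⟨v, hi, Matrix.toLin'_apply _ _⟩

/-- the general pattern of the non-maximality proofs -/
theorem not_maximal_of (P' : (ι → F) → Prop)
    (hle : Cfsg.Geo.decompositionStabilizer D ⊓ Cfsg.Geo.omegaGL ⇑Q ≤ stabP P')
    (T₁ : GL ι F) (h1Ω : T₁ ∈ Cfsg.Geo.omegaGL ⇑Q) (h1P : T₁ ∈ stabP P')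
    (h1D : T₁ ∉ Cfsg.Geo.decompositionStabilizer D)
    (T₂ : GL ι F) (h2Ω : T₂ ∈ Cfsg.Geo.omegaGL ⇑Q) (h2P : T₂ ∉ stabP P') :
    ∃ K : Subgroup (GL ι F), Cfsg.Geo.decompositionStabilizer D ⊓ Cfsg.Geo.omegaGL ⇑Q < K ∧
      K < Cfsg.Geo.omegaGL ⇑Q := by
  refine ⟨stabP P' ⊓ Cfsg.Geo.omegaGL ⇑Q, lt_of_le_of_ne (le_inf hle inf_le_right) ?_,
    lt_of_le_of_ne inf_le_right ?_⟩
  · intro heq
    have : T₁ ∈ stabP P' ⊓ Cfsg.Geo.omegaGL ⇑Q := ⟨h1P, h1Ω⟩
    rw [← heq] at this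
    exact h1D this.1
  · intro heq
    have : T₂ ∈ stabP P' ⊓ Cfsg.Geo.omegaGL ⇑Q := by rw [heq]; exact h2Ω
    exact h2P this.1

/-- Siegel elements lie in `Ω` -/
theorem sieg_mem (hQ : (QuadraticMap.polarBilin Q).Nondegenerate)
    (hn : 8 ≤ Fintype.card ι) (a b : ι → F) (ha : Q a = 0) (hab : B Q a b = 0) :
    ((siegO Q a b ha hab : ↥(Cfsg.isometryGroup F ⇑Q)) : GL ι F) ∈ Cfsg.Geo.omegaGL ⇑Q := by
  obtain ⟨fr⟩ := exists_frame3 hQ hn
  exact (Cfsg.Agent.Helper28.NM.mem_omegaGL_iff Q _).mpr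
    ⟨_, S_le_Omega hQ fr (siegO_mem_S Q a b ha hab), rfl⟩

/-- the product of two reflections in vectors of equal norm lies in `Ω` -/
theorem refl_mul_mem (hQ : (QuadraticMap.polarBilin Q).Nondegenerate)
    (hn : 8 ≤ Fintype.card ι) (u v : ι → F) (hu : Q u ≠ 0) (hv : Q v ≠ 0) (huv : Q u = Q v) :
    ((reflO Q u hu * reflO Q v hv : ↥(Cfsg.isometryGroup F ⇑Q)) : GL ι F) ∈
      Cfsg.Geo.omegaGL ⇑Q :=
  (Cfsg.Agent.Helper28.NM.mem_omegaGL_iff Q _).mpr
    ⟨_, Cfsg.Agent.Helper28.OC.reflO_mul_mem_Omega Q hQ (Or.inr (by omega)) u v hu hv huv, rfl⟩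

/-- a hyperbolic partner inside a nondegenerate subspace -/
theorem exists_partner_in (W : Submodule F (ι → F))
    (hW : Cfsg.Geo.IsNondegenerateOn (QuadraticMap.polar ⇑Q) W) (e : ι → F) (heW : e ∈ W)
    (he0 : e ≠ 0) (hQe : Q e = 0) : ∃ f, f ∈ W ∧ Q f = 0 ∧ B Q e f = 1 := by
  obtain ⟨-, y₀, hy₀W, hy₀⟩ := hW e heW he0
  obtain ⟨y, hy⟩ : ∃ y : ι → F, y = (B Q e y₀)⁻¹ • y₀ := ⟨_, rfl⟩
  have hyW : y ∈ W := by rw [hy]; exact W.smul_mem _ hy₀W
  have hey : B Q e y = 1 := by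
    rw [hy, B_smul_right', inv_mul_cancel₀ hy₀]
  obtain ⟨c, hc⟩ : ∃ c : F, c = Q y := ⟨_, rfl⟩
  refine ⟨y - c • e, W.sub_mem hyW (W.smul_mem _ heW), ?_, ?_⟩
  · rw [Q_sub', Q_smul, hQe, B_smul_right', B_comm, hey, ← hc]; ring
  · rw [B_sub_right', B_smul_right', B_self, hQe, hey]; ring

/-- a hyperbolic pair spans a plane containing it -/
theorem span_hyp (W : Submodule F (ι → F)) (hdim : finrank F W = 2) (e f : ι → F) (heW : e ∈ W)
    (hfW : f ∈ W) (hQe : Q e = 0) (hQf : Q f = 0) (hef : B Q e f = 1) :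
    ∀ w ∈ W, ∃ a b : F, w = a • e + b • f := by
  have hfe : B Q f e = 1 := by rw [B_comm]; exact hef
  have hee : B Q e e = 0 := by rw [B_self, hQe, mul_zero]
  have hff : B Q f f = 0 := by rw [B_self, hQf, mul_zero]
  have hli : LinearIndependent F ![e, f] := by
    rw [LinearIndependent.pair_iff]
    intro s t hst
    have h1 : B Q (s • e + t • f) f = 0 := by rw [hst]; simp [B]
    have h2 : B Q (s • e + t • f) e = 0 := by rw [hst]; simp [B]
    rw [B_add_left', B_smul_left', B_smul_left', hef, hff] at h1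
    rw [B_add_left', B_smul_left', B_smul_left', hee, hfe] at h2
    simp only [mul_one, mul_zero, add_zero, zero_add] at h1 h2
    exact ⟨h1, h2⟩
  have hspan : Submodule.span F ({e, f} : Set (ι → F)) = W := by
    apply Submodule.eq_of_le_of_finrank_eq
    · rw [Submodule.span_le]
      intro v hv
      rcases hv with rfl | hv
      · exact heW
      · rw [Set.mem_singleton_iff] at hv
        rw [hv]; exact hfW
    · have := finrank_span_eq_card hli
      rw [Fintype.card_fin] at this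
      have hr : Set.range ![e, f] = {e, f} := by
        ext v
        simp only [Matrix.range_cons, Matrix.range_empty, Set.union_empty, Set.union_singleton,
          Set.mem_insert_iff, Set.mem_singleton_iff]
        exact or_comm
      rw [hr] at this
      rw [this, hdim]
  intro w hw
  rw [← hspan] at hw
  obtain ⟨a, b, hab⟩ := Submodule.mem_span_pair.1 hw
  exact ⟨a, b, hab.symm⟩

/-- norm on a hyperbolic pair -/
theorem Q_hyp (e f : ι → F) (hQe : Q e = 0) (hQf : Q f = 0) (hef : B Q e f = 1) (a b : F) :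
    Q (a • e + b • f) = a * b := by
  rw [Q_add, Q_smul, Q_smul, hQe, hQf, B_smul_left', B_smul_right', hef]; ring

/-- polar form on a hyperbolic pair -/
theorem B_hyp (e f : ι → F) (hQe : Q e = 0) (hQf : Q f = 0) (hef : B Q e f = 1) (a b c d : F) :
    B Q (a • e + b • f) (c • e + d • f) = a * d + b * c := by
  have hfe : B Q f e = 1 := by rw [B_comm]; exact hef
  have hee : B Q e e = 0 := by rw [B_self, hQe, mul_zero]
  have hff : B Q f f = 0 := by rw [B_self, hQf, mul_zero]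
  rw [B_add_left', B_add_right', B_add_right', B_smul_left', B_smul_left', B_smul_right',
    B_smul_right', B_smul_left', B_smul_left', B_smul_right', B_smul_right', hee, hff, hef, hfe]
  ring

/-- a nonzero singular vector in a plus-type subspace -/
theorem exists_singular_of_plus (W : Submodule F (ι → F)) (hdim : 0 < finrank F W)
    (hplus : Cfsg.Geo.IsPlusTypeOn ⇑Q W) : ∃ e, e ∈ W ∧ e ≠ 0 ∧ Q e = 0 := by
  obtain ⟨U, hUW, hU0, hUdim⟩ := hplus
  have hU1 : 0 < finrank F U := by omega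
  obtain ⟨⟨e, heU⟩, he0'⟩ := Module.finrank_pos_iff_exists_ne_zero.1 hU1
  exact ⟨e, hUW heU, fun h => he0' (Subtype.ext h), hU0 e heU⟩

end Cfsg.Agent.Helper28.PDN
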