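import Mathlib
import Cfsg.Prelude.Def_GeometricClasses
import Cfsg.Agent.Helper28.OrthMax4
import Cfsg.Agent.Helper28.PlusDecompNM1
import Cfsg.Agent.Helper13.QuadWitt

set_option autoImplicit false
set_option linter.unusedSectionVars false

/-! Geometry inside a subspace on which the polar form is nondegenerate: singular vectors,
hyperbolic pairs, spanning by singular vectors. -/

namespace Cfsg.Agent.Helper28.NDM

open Matrix Module Cfsg.Agent.Helper28.Sg Cfsg.Agent.Helper28.OM Cfsg.Agent.Helper28.Spin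
  Cfsg.Agent.Helper28.OFN Cfsg.Agent.Helper28.PDN

variable {F : Type*} [Field F] [Fintype F] {ι : Type} [Fintype ι] [DecidableEq ι]
  (Q : QuadraticForm F (ι → F))

/-- the polar form is nondegenerate on `N` -/
def NDon (N : Submodule F (ι → F)) : Prop := ∀ x ∈ N, x ≠ 0 → ∃ y ∈ N, B Q x y ≠ 0

theorem NDon.geo {N : Submodule F (ι → F)} (h : NDon Q N) :
    Cfsg.Geo.IsNondegenerateOn (QuadraticMap.polar ⇑Q) N := by
  intro w hw hw0
  obtain ⟨y, hy, hne⟩ := h w hw hw0
  exact ⟨⟨y, hy, by rw [QuadraticMap.polar_comm]; exact hne⟩, ⟨y, hy, hne⟩⟩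

theorem NDon.of_geo {N : Submodule F (ι → F)}
    (h : Cfsg.Geo.IsNondegenerateOn (QuadraticMap.polar ⇑Q) N) : NDon Q N := by
  intro w hw hw0
  obtain ⟨-, y, hy, hne⟩ := h w hw hw0
  exact ⟨y, hy, hne⟩

/-- a subspace of dimension at least three contains a nonzero singular vector -/
theorem exists_singular_in (E : Submodule F (ι → F)) (h3 : 3 ≤ finrank F E) :
    ∃ v, v ∈ E ∧ v ≠ 0 ∧ Q v = 0 := by
  obtain ⟨⟨v, hvE⟩, hv0, hQv⟩ := Cfsg.Agent.Helper13.exists_singular (Q.comp E.subtype) h3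
  exact ⟨v, hvE, fun h => hv0 (Subtype.ext h), hQv⟩

/-- the part of `N` perpendicular to a set of vectors -/
def perpIn (N : Submodule F (ι → F)) (T : Set (ι → F)) : Submodule F (ι → F) :=
  N ⊓ LinearMap.BilinForm.orthogonal (QuadraticMap.polarBilin Q) (Submodule.span F T)

theorem mem_perpIn (N : Submodule F (ι → F)) (T : Set (ι → F)) (x : ι → F) :
    x ∈ perpIn Q N T ↔ x ∈ N ∧ ∀ v ∈ T, B Q v x = 0 := by
  unfold perpIn
  rw [Submodule.mem_inf, LinearMap.BilinForm.mem_orthogonal_iff]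
  constructor
  · rintro ⟨h1, h2⟩
    exact ⟨h1, fun v hv => h2 v (Submodule.subset_span hv)⟩
  · rintro ⟨h1, h2⟩
    refine ⟨h1, fun s hs => ?_⟩
    show B Q s x = 0
    induction hs using Submodule.span_induction with
    | mem v hv => exact h2 v hv
    | zero => simp [B]
    | add a b _ _ ha hb => rw [B_add_left', ha, hb, add_zero]
    | smul c a _ ha => rw [B_smul_left', ha, mul_zero]

theorem finrank_perpIn (hQ : (QuadraticMap.polarBilin Q).Nondegenerate)
    (N : Submodule F (ι → F)) (T : Finset (ι → F)) :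
    finrank F N ≤ finrank F (perpIn Q N (T : Set (ι → F))) + T.card := by
  unfold perpIn
  set X := LinearMap.BilinForm.orthogonal (QuadraticMap.polarBilin Q)
    (Submodule.span F (T : Set (ι → F))) with hX
  have h1 := LinearMap.BilinForm.finrank_orthogonal hQ (Submodule.span F (T : Set (ι → F)))
  have h2 : finrank F (Submodule.span F (T : Set (ι → F))) ≤ T.card :=
    finrank_span_finset_le_card T
  have h3 := Submodule.finrank_sup_add_finrank_inf_eq N X
  have h4 : finrank F ↥(N ⊔ X) ≤ finrank F (ι → F) := Submodule.finrank_le _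
  have h5 : finrank F (Submodule.span F (T : Set (ι → F))) ≤ finrank F (ι → F) :=
    Submodule.finrank_le _
  rw [← hX] at h1
  omega

/-- a hyperbolic pair in a nondegenerate subspace of dimension at least three -/
theorem exists_hyp_in (N : Submodule F (ι → F)) (hN : NDon Q N) (h3 : 3 ≤ finrank F N) :
    ∃ e f, e ∈ N ∧ f ∈ N ∧ Q e = 0 ∧ Q f = 0 ∧ B Q e f = 1 := by
  obtain ⟨e, heN, he0, hQe⟩ := exists_singular_in Q N h3
  obtain ⟨f, hfN, hQf, hef⟩ := exists_partner_in Q N hN.geo e heN he0 hQe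
  exact ⟨e, f, heN, hfN, hQe, hQf, hef⟩

/-- the perpendicular of a hyperbolic pair inside a nondegenerate subspace is nondegenerate -/
theorem NDon_perp_hyp (N : Submodule F (ι → F)) (hN : NDon Q N) (u u' : ι → F) (huN : u ∈ N)
    (hu'N : u' ∈ N) (hQu : Q u = 0) (hQu' : Q u' = 0) (huu' : B Q u u' = 1) :
    NDon Q (perpIn Q N {u, u'}) := by
  have hu'u : B Q u' u = 1 := by rw [B_comm]; exact huu'
  have huu : B Q u u = 0 := by rw [B_self, hQu, mul_zero]
  have hu'u' : B Q u' u' = 0 := by rw [B_self, hQu', mul_zero]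
  intro x hx hx0
  rw [mem_perpIn] at hx
  obtain ⟨hxN, hxT⟩ := hx
  have hux : B Q u x = 0 := hxT u (by simp)
  have hu'x : B Q u' x = 0 := hxT u' (by simp)
  have hxu : B Q x u = 0 := by rw [B_comm]; exact hux
  have hxu' : B Q x u' = 0 := by rw [B_comm]; exact hu'x
  obtain ⟨a, haN, hxa⟩ := hN x hxN hx0
  refine ⟨a - B Q a u' • u - B Q a u • u', ?_, ?_⟩
  · rw [mem_perpIn]
    refine ⟨N.sub_mem (N.sub_mem haN (N.smul_mem _ huN)) (N.smul_mem _ hu'N), ?_⟩
    intro v hv
    rcases hv with rfl | hv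
    · rw [B_sub_right', B_sub_right', B_smul_right', B_smul_right', huu, huu', B_comm Q v a]; ring
    · rw [Set.mem_singleton_iff] at hv
      subst hv
      rw [B_sub_right', B_sub_right', B_smul_right', B_smul_right', hu'u, hu'u', B_comm Q v a]
      ring
  · rw [B_sub_right', B_sub_right', B_smul_right', B_smul_right', hxu, hxu', mul_zero, mul_zero,
      sub_zero, sub_zero]
    exact hxa

theorem pair_card_le [DecidableEq (ι → F)] (u u' : ι → F) :
    ({u, u'} : Finset (ι → F)).card ≤ 2 := Finset.card_le_two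

/-- a hyperbolic pair perpendicular to a given one, in dimension at least five -/
theorem exists_hyp_perp_pair (hQ : (QuadraticMap.polarBilin Q).Nondegenerate)
    (N : Submodule F (ι → F)) (hN : NDon Q N) (h5 : 5 ≤ finrank F N) (u u' : ι → F) (huN : u ∈ N)
    (hu'N : u' ∈ N) (hQu : Q u = 0) (hQu' : Q u' = 0) (huu' : B Q u u' = 1) :
    ∃ e f, e ∈ N ∧ f ∈ N ∧ Q e = 0 ∧ Q f = 0 ∧ B Q e f = 1 ∧ B Q u e = 0 ∧ B Q u' e = 0 ∧
      B Q u f = 0 ∧ B Q u' f = 0 := by
  classical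
  have hnd := NDon_perp_hyp Q N hN u u' huN hu'N hQu hQu' huu'
  have hfin := finrank_perpIn Q hQ N ({u, u'} : Finset (ι → F))
  have hc := pair_card_le u u'
  have hcoe : (({u, u'} : Finset (ι → F)) : Set (ι → F)) = {u, u'} := by simp
  rw [hcoe] at hfin
  obtain ⟨e, f, he, hf, hQe, hQf, hef⟩ := exists_hyp_in Q (perpIn Q N {u, u'}) hnd (by omega)
  rw [mem_perpIn] at he hf
  exact ⟨e, f, he.1, hf.1, hQe, hQf, hef, he.2 u (by simp), he.2 u' (by simp), hf.2 u (by simp),
    hf.2 u' (by simp)⟩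

/-- a frame around a singular vector: a partner and a perpendicular hyperbolic pair -/
theorem exists_frame_in (hQ : (QuadraticMap.polarBilin Q).Nondegenerate)
    (N : Submodule F (ι → F)) (hN : NDon Q N) (h5 : 5 ≤ finrank F N) (u : ι → F) (huN : u ∈ N)
    (hu0 : u ≠ 0) (hQu : Q u = 0) :
    ∃ u' e f, u' ∈ N ∧ e ∈ N ∧ f ∈ N ∧ Q u' = 0 ∧ B Q u u' = 1 ∧ Q e = 0 ∧ Q f = 0 ∧
      B Q e f = 1 ∧ B Q u e = 0 ∧ B Q u' e = 0 ∧ B Q u f = 0 ∧ B Q u' f = 0 := by
  obtain ⟨u', hu'N, hQu', huu'⟩ := exists_partner_in Q N hN.geo u huN hu0 hQu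
  obtain ⟨e, f, he, hf, hQe, hQf, hef, h1, h2, h3, h4⟩ :=
    exists_hyp_perp_pair Q hQ N hN h5 u u' huN hu'N hQu hQu' huu'
  exact ⟨u', e, f, hu'N, he, hf, hQu', huu', hQe, hQf, hef, h1, h2, h3, h4⟩

/-- the singular vectors of a nondegenerate subspace of dimension at least three span it -/
theorem le_of_singular_mem (N : Submodule F (ι → F)) (hN : NDon Q N) (h3 : 3 ≤ finrank F N)
    (Z : Submodule F (ι → F)) (hZ : ∀ v ∈ N, Q v = 0 → v ∈ Z) : N ≤ Z := by
  obtain ⟨e, f, heN, hfN, hQe, hQf, hef⟩ := exists_hyp_in Q N hN h3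
  have hfe : B Q f e = 1 := by rw [B_comm]; exact hef
  have hee : B Q e e = 0 := by rw [B_self, hQe, mul_zero]
  have hff : B Q f f = 0 := by rw [B_self, hQf, mul_zero]
  intro x hx
  obtain ⟨x₂, hx₂⟩ : ∃ x₂ : ι → F, x₂ = x - B Q x f • e - B Q x e • f := ⟨_, rfl⟩
  have hx₂N : x₂ ∈ N := by
    rw [hx₂]; exact N.sub_mem (N.sub_mem hx (N.smul_mem _ heN)) (N.smul_mem _ hfN)
  have hx₂e : B Q x₂ e = 0 := by
    rw [hx₂, B_sub_left', B_sub_left', B_smul_left', B_smul_left', hee, hfe]; ring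
  have hx₂f : B Q x₂ f = 0 := by
    rw [hx₂, B_sub_left', B_sub_left', B_smul_left', B_smul_left', hef, hff]; ring
  obtain ⟨c, hc⟩ : ∃ c : F, c = Q x₂ := ⟨_, rfl⟩
  have hs : Q (x₂ + (e - c • f)) = 0 := by
    rw [Q_add, Q_sub', Q_smul, hQe, hQf, B_smul_right', hef, B_sub_right', B_smul_right', hx₂e,
      hx₂f, ← hc]
    ring
  have h1 : x₂ + (e - c • f) ∈ Z :=
    hZ _ (N.add_mem hx₂N (N.sub_mem heN (N.smul_mem _ hfN))) hs
  have he : e ∈ Z := hZ e heN hQe
  have hf : f ∈ Z := hZ f hfN hQf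
  have h2 : x₂ ∈ Z := by
    have := Z.sub_mem h1 (Z.sub_mem he (Z.smul_mem c hf))
    rwa [add_sub_cancel_right] at this
  have h3' : x = x₂ + B Q x f • e + B Q x e • f := by rw [hx₂]; abel
  rw [h3']
  exact Z.add_mem (Z.add_mem h2 (Z.smul_mem _ he)) (Z.smul_mem _ hf)

end Cfsg.Agent.Helper28.NDM
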