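import Mathlib
import Cfsg.Agent.Helper28.LocBal1
import Cfsg.Agent.Helper28.NondegMax1
import Cfsg.Agent.Helper28.Siegel2

set_option autoImplicit false
set_option linter.unusedSectionVars false

/-! The group generated by the Siegel transformations of a subspace `W`, its action on the singular
points of `W` and its root subgroups. -/

namespace Cfsg.Agent.Helper28.LB

open Matrix Module Cfsg.Agent.Helper28.Sg Cfsg.Agent.Helper28.Spin Cfsg.Agent.Helper28.NDM

variable {F : Type*} [Field F] {ι : Type} [Fintype ι] [DecidableEq ι]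
  (Q : QuadraticForm F (ι → F)) (W : Submodule F (ι → F))

/-- the group generated by the Siegel transformations with both vectors in `W` -/
def SW : Subgroup ↥(Cfsg.isometryGroup F ⇑Q) :=
  Subgroup.closure {g | ∃ (u v : ι → F) (hu : Q u = 0) (huv : B Q u v = 0),
    u ∈ W ∧ v ∈ W ∧ g = siegO Q u v hu huv}

theorem siegO_mem_SW {u v : ι → F} (hu : Q u = 0) (huv : B Q u v = 0) (huW : u ∈ W)
    (hvW : v ∈ W) : siegO Q u v hu huv ∈ SW Q W :=
  Subgroup.subset_closure ⟨u, v, hu, huv, huW, hvW, rfl⟩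

variable {Q W}

theorem SW_sub_mem {s : ↥(Cfsg.isometryGroup F ⇑Q)} (hs : s ∈ SW Q W) (x : ι → F) :
    mt Q s *ᵥ x - x ∈ W := by
  revert x
  induction hs using Subgroup.closure_induction with
  | mem g hg =>
    obtain ⟨u, v, hu, huv, huW, hvW, rfl⟩ := hg
    intro x
    rw [siegO_mulVec]
    have : x + B Q u x • v - B Q v x • u - (Q v * B Q u x) • u - x =
        B Q u x • v - B Q v x • u - (Q v * B Q u x) • u := by abel
    rw [this]
    exact W.sub_mem (W.sub_mem (W.smul_mem _ hvW) (W.smul_mem _ huW)) (W.smul_mem _ huW)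
  | one =>
    intro x
    rw [mt_one_mulVec, sub_self]
    exact W.zero_mem
  | mul a b _ _ ha hb =>
    intro x
    rw [mt_mul_mulVec]
    have : mt Q a *ᵥ (mt Q b *ᵥ x) - x = (mt Q a *ᵥ (mt Q b *ᵥ x) - mt Q b *ᵥ x) +
        (mt Q b *ᵥ x - x) := by abel
    rw [this]
    exact W.add_mem (ha _) (hb _)
  | inv a _ ha =>
    intro x
    have h1 := ha (mt Q a⁻¹ *ᵥ x)
    rw [mt_mulVec_inv] at h1
    have : mt Q a⁻¹ *ᵥ x - x = -(x - mt Q a⁻¹ *ᵥ x) := by abel
    rw [this]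
    exact W.neg_mem h1

theorem SW_map_mem {s : ↥(Cfsg.isometryGroup F ⇑Q)} (hs : s ∈ SW Q W) {x : ι → F} (hx : x ∈ W) :
    mt Q s *ᵥ x ∈ W := by
  have := W.add_mem (SW_sub_mem hs x) hx
  rwa [sub_add_cancel] at this

theorem SW_fix_perp {s : ↥(Cfsg.isometryGroup F ⇑Q)} (hs : s ∈ SW Q W) {x : ι → F}
    (hx : ∀ w ∈ W, B Q w x = 0) : mt Q s *ᵥ x = x := by
  induction hs using Subgroup.closure_induction with
  | mem g hg =>
    obtain ⟨u, v, hu, huv, huW, hvW, rfl⟩ := hg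
    rw [siegO_mulVec, hx u huW, hx v hvW]
    simp
  | one => rw [mt_one_mulVec]
  | mul a b _ _ ha hb => rw [mt_mul_mulVec, hb, ha]
  | inv a _ ha =>
    have := mt_inv_mulVec Q a x
    rw [ha] at this
    exact this

/-- an element of `SW` fixing `W` pointwise is trivial -/
theorem eq_one_of_fix [Fintype F] (hW : NDon Q W) {s : ↥(Cfsg.isometryGroup F ⇑Q)} (hs : s ∈ SW Q W)
    (hfix : ∀ x ∈ W, mt Q s *ᵥ x = x) : s = 1 := by
  apply O_ext
  intro v
  rw [mt_one_mulVec]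
  by_contra hne
  have hd : mt Q s *ᵥ v - v ≠ 0 := sub_ne_zero.2 hne
  obtain ⟨y, hyW, hy⟩ := hW _ (SW_sub_mem hs v) hd
  apply hy
  have h1 : B Q (mt Q s *ᵥ v) y = B Q v y := by
    conv_lhs => rw [← hfix y hyW]
    exact B_isom Q s v y
  show QuadraticMap.polar ⇑Q (mt Q s *ᵥ v - v) y = 0
  rw [QuadraticMap.polar_sub_left]
  simp only [B] at h1
  rw [h1, sub_self]

variable (Q W)

/-- the singular points of `W` -/
@[ext]
structure Pt where
  /-- the underlying line -/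
  p : Submodule F (ι → F)
  isPt : ∃ z, z ∈ W ∧ z ≠ 0 ∧ Q z = 0 ∧ p = Submodule.span F {z}

variable {Q W}

/-- the point spanned by a singular vector -/
def Pt.mk' (z : ι → F) (hzW : z ∈ W) (hz0 : z ≠ 0) (hQz : Q z = 0) : Pt Q W :=
  ⟨Submodule.span F {z}, z, hzW, hz0, hQz, rfl⟩

/-- a generator of a point -/
noncomputable def gen (p : Pt Q W) : ι → F := Classical.choose p.isPt

theorem gen_mem (p : Pt Q W) : gen p ∈ W := (Classical.choose_spec p.isPt).1

theorem gen_ne (p : Pt Q W) : gen p ≠ 0 := (Classical.choose_spec p.isPt).2.1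

theorem gen_sing (p : Pt Q W) : Q (gen p) = 0 := (Classical.choose_spec p.isPt).2.2.1

theorem gen_span (p : Pt Q W) : p.p = Submodule.span F {gen p} :=
  (Classical.choose_spec p.isPt).2.2.2

theorem mk'_gen (p : Pt Q W) : Pt.mk' (gen p) (gen_mem p) (gen_ne p) (gen_sing p) = p := by
  apply Pt.ext
  exact (gen_span p).symm

theorem mk'_eq_iff {z y : ι → F} (hzW : z ∈ W) (hz0 : z ≠ 0) (hQz : Q z = 0) (hyW : y ∈ W)
    (hy0 : y ≠ 0) (hQy : Q y = 0) :
    Pt.mk' z hzW hz0 hQz = Pt.mk' y hyW hy0 hQy ↔ ∃ c : F, c ≠ 0 ∧ y = c • z := by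
  constructor
  · intro h
    have h1 : Submodule.span F {z} = Submodule.span F {y} := congrArg Pt.p h
    have h2 : y ∈ Submodule.span F {z} := by
      rw [h1]; exact Submodule.mem_span_singleton_self y
    obtain ⟨c, hc⟩ := Submodule.mem_span_singleton.1 h2
    refine ⟨c, ?_, hc.symm⟩
    intro h0
    rw [h0, zero_smul] at hc
    exact hy0 hc.symm
  · rintro ⟨c, hc0, rfl⟩
    apply Pt.ext
    show Submodule.span F {z} = Submodule.span F {c • z}
    exact (Submodule.span_singleton_smul_eq (IsUnit.mk0 c hc0) z).symm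

theorem gen_mk' {z : ι → F} (hzW : z ∈ W) (hz0 : z ≠ 0) (hQz : Q z = 0) :
    ∃ c : F, c ≠ 0 ∧ gen (Pt.mk' z hzW hz0 hQz) = c • z := by
  have h := mk'_gen (Pt.mk' z hzW hz0 hQz)
  exact (mk'_eq_iff hzW hz0 hQz (gen_mem _) (gen_ne _) (gen_sing _)).1 h.symm

theorem isom_ne_zero (s : ↥(Cfsg.isometryGroup F ⇑Q)) {z : ι → F} (hz : z ≠ 0) :
    mt Q s *ᵥ z ≠ 0 := by
  intro h
  apply hz
  have := mt_inv_mulVec Q s z
  rw [h, Matrix.mulVec_zero] at this
  exact this.symm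

noncomputable instance : SMul ↥(SW Q W) (Pt Q W) where
  smul s p := Pt.mk' (mt Q (s : ↥(Cfsg.isometryGroup F ⇑Q)) *ᵥ gen p) (SW_map_mem s.2 (gen_mem p))
    (isom_ne_zero _ (gen_ne p)) (by rw [Spin.isom_apply, gen_sing])

theorem smul_def (s : ↥(SW Q W)) (p : Pt Q W) :
    s • p = Pt.mk' (mt Q (s : ↥(Cfsg.isometryGroup F ⇑Q)) *ᵥ gen p) (SW_map_mem s.2 (gen_mem p))
      (isom_ne_zero _ (gen_ne p)) (by rw [Spin.isom_apply, gen_sing]) := rfl

theorem smul_mk' (s : ↥(SW Q W)) {z : ι → F} (hzW : z ∈ W) (hz0 : z ≠ 0) (hQz : Q z = 0) :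
    s • Pt.mk' z hzW hz0 hQz =
      Pt.mk' (mt Q (s : ↥(Cfsg.isometryGroup F ⇑Q)) *ᵥ z) (SW_map_mem s.2 hzW)
        (isom_ne_zero _ hz0) (by rw [Spin.isom_apply, hQz]) := by
  rw [smul_def, mk'_eq_iff]
  obtain ⟨c, hc0, hc⟩ := gen_mk' hzW hz0 hQz
  refine ⟨c⁻¹, inv_ne_zero hc0, ?_⟩
  rw [hc, Matrix.mulVec_smul, smul_smul, inv_mul_cancel₀ hc0, one_smul]

noncomputable instance : MulAction ↥(SW Q W) (Pt Q W) where
  one_smul p := by
    conv_rhs => rw [← mk'_gen p]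
    rw [smul_def, mk'_eq_iff]
    refine ⟨1, one_ne_zero, ?_⟩
    rw [one_smul]
    show gen p = mt Q 1 *ᵥ gen p
    rw [mt_one_mulVec]
  mul_smul s t p := by
    conv_lhs => rw [← mk'_gen p]
    conv_rhs => rw [← mk'_gen p]
    rw [smul_mk', smul_mk', smul_mk', mk'_eq_iff]
    refine ⟨1, one_ne_zero, ?_⟩
    rw [one_smul]
    show _ = mt Q (s.1 * t.1) *ᵥ gen p
    rw [mt_mul_mulVec]

end Cfsg.Agent.Helper28.LB
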