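import Mathlib
import Cfsg.Agent.Helper28.LocBal2

set_option autoImplicit false
set_option linter.unusedSectionVars false

/-! Opposition of singular points and the root subgroups of `SW`. -/

namespace Cfsg.Agent.Helper28.LB

open Matrix Module Cfsg.Agent.Helper28.Sg Cfsg.Agent.Helper28.Spin Cfsg.Agent.Helper28.NDM

variable {F : Type*} [Field F] {ι : Type} [Fintype ι] [DecidableEq ι]
  {Q : QuadraticForm F (ι → F)} {W : Submodule F (ι → F)}

/-- two points are opposite if they are not orthogonal -/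
def Opp (p p' : Pt Q W) : Prop := B Q (gen p) (gen p') ≠ 0

theorem B_smul_smul (c d : F) (x y : ι → F) : B Q (c • x) (d • y) = c * d * B Q x y := by
  show QuadraticMap.polar ⇑Q (c • x) (d • y) = _
  rw [QuadraticMap.polar_smul_left, QuadraticMap.polar_smul_right, smul_eq_mul, smul_eq_mul]
  ring

theorem opp_mk'_iff {z y : ι → F} (hzW : z ∈ W) (hz0 : z ≠ 0) (hQz : Q z = 0) (hyW : y ∈ W)
    (hy0 : y ≠ 0) (hQy : Q y = 0) :
    Opp (Pt.mk' z hzW hz0 hQz) (Pt.mk' y hyW hy0 hQy) ↔ B Q z y ≠ 0 := by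
  obtain ⟨c, hc0, hc⟩ := gen_mk' hzW hz0 hQz
  obtain ⟨d, hd0, hd⟩ := gen_mk' hyW hy0 hQy
  unfold Opp
  rw [hc, hd, B_smul_smul]
  constructor
  · intro h h0
    apply h
    rw [h0, mul_zero]
  · intro h
    exact mul_ne_zero (mul_ne_zero hc0 hd0) h

theorem opp_symm (e y : Pt Q W) (h : Opp e y) : Opp y e := by
  unfold Opp at *
  rwa [B_comm]

theorem opp_smul (s : ↥(SW Q W)) (e y : Pt Q W) (h : Opp e y) : Opp (s • e) (s • y) := by
  rw [smul_def, smul_def, opp_mk'_iff, B_isom]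
  exact h

/-- the root subgroup of a point -/
noncomputable def U (p : Pt Q W) : Subgroup ↥(SW Q W) where
  carrier := {s | ∃ (w : ι → F) (hw : B Q (gen p) w = 0), w ∈ W ∧
    (s : ↥(Cfsg.isometryGroup F ⇑Q)) = siegO Q (gen p) w (gen_sing p) hw}
  mul_mem' := by
    rintro a b ⟨w, hw, hwW, ha⟩ ⟨w', hw', hw'W, hb⟩
    refine ⟨w + w', B_add_right_zero Q hw hw', W.add_mem hwW hw'W, ?_⟩
    show (a : ↥(Cfsg.isometryGroup F ⇑Q)) * b = _
    rw [ha, hb, siegO_mul]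
  one_mem' := ⟨0, QuadraticMap.polar_zero_right _ _, W.zero_mem, (siegO_zero Q _ _ _).symm⟩
  inv_mem' := by
    rintro a ⟨w, hw, hwW, ha⟩
    have hw' : B Q (gen p) (-w) = 0 := by rw [B_neg_right, hw, neg_zero]
    refine ⟨-w, hw', W.neg_mem hwW, ?_⟩
    show (a : ↥(Cfsg.isometryGroup F ⇑Q))⁻¹ = _
    rw [ha, siegO_inv]

theorem mem_U_mk'_iff {z : ι → F} (hzW : z ∈ W) (hz0 : z ≠ 0) (hQz : Q z = 0) (s : ↥(SW Q W)) :
    s ∈ U (Pt.mk' z hzW hz0 hQz) ↔ ∃ (w : ι → F) (hw : B Q z w = 0), w ∈ W ∧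
      (s : ↥(Cfsg.isometryGroup F ⇑Q)) = siegO Q z w hQz hw := by
  obtain ⟨c, hc0, hc⟩ := gen_mk' hzW hz0 hQz
  constructor
  · rintro ⟨w, hw, hwW, hs⟩
    have hw' : B Q z (c • w) = 0 := by
      have := hw
      rw [hc] at this
      have e : B Q (c • z) w = c * B Q z w := by
        show QuadraticMap.polar ⇑Q (c • z) w = _
        rw [QuadraticMap.polar_smul_left, smul_eq_mul]
      rw [e] at this
      rcases mul_eq_zero.1 this with h | h
      · exact absurd h hc0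
      · exact B_smul_right_zero Q c h
    refine ⟨c • w, hw', W.smul_mem _ hwW, ?_⟩
    rw [hs]
    have hzw : B Q z w = 0 := by
      have e : B Q z (c • w) = c * B Q z w := by
        show QuadraticMap.polar ⇑Q z (c • w) = _
        rw [QuadraticMap.polar_smul_right, smul_eq_mul]
      rw [e] at hw'
      rcases mul_eq_zero.1 hw' with h | h
      · exact absurd h hc0
      · exact h
    have hQcz : Q (c • z) = 0 := by rw [Q_smul, hQz, mul_zero]
    rw [← siegO_smul Q c hQz hzw hQcz (B_smul_left_zero Q c hzw) hw']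
    exact siegO_congr Q _ _ _ _ hc rfl
  · rintro ⟨w, hw, hwW, hs⟩
    have hw' : B Q (gen (Pt.mk' z hzW hz0 hQz)) (c⁻¹ • w) = 0 := by
      rw [hc]
      exact B_smul_left_zero Q c (B_smul_right_zero Q c⁻¹ hw)
    refine ⟨c⁻¹ • w, hw', W.smul_mem _ hwW, ?_⟩
    rw [hs]
    have hQcz : Q (c • z) = 0 := by rw [Q_smul, hQz, mul_zero]
    have h1 : B Q z (c⁻¹ • w) = 0 := B_smul_right_zero Q c⁻¹ hw
    have h2 : B Q z (c • c⁻¹ • w) = 0 := B_smul_right_zero Q c h1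
    have h3 := siegO_smul Q c hQz h1 hQcz (B_smul_left_zero Q c h1) h2
    have h4 : siegO Q (gen (Pt.mk' z hzW hz0 hQz)) (c⁻¹ • w) (gen_sing _) hw' =
        siegO Q (c • z) (c⁻¹ • w) hQcz (B_smul_left_zero Q c h1) :=
      siegO_congr Q _ _ _ _ hc rfl
    rw [h4, h3]
    exact siegO_congr Q _ _ _ _ rfl (by rw [smul_smul, mul_inv_cancel₀ hc0, one_smul])

theorem U_conj (s : ↥(SW Q W)) (e : Pt Q W) (u : ↥(SW Q W)) (hu : u ∈ U e) :
    s * u * s⁻¹ ∈ U (s • e) := by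
  obtain ⟨w, hw, hwW, hu⟩ := hu
  rw [smul_def, mem_U_mk'_iff]
  have h1 : B Q (mt Q (s : ↥(Cfsg.isometryGroup F ⇑Q)) *ᵥ gen e)
      (mt Q (s : ↥(Cfsg.isometryGroup F ⇑Q)) *ᵥ w) = 0 := by rw [B_isom, hw]
  refine ⟨_, h1, SW_map_mem s.2 hwW, ?_⟩
  show (s : ↥(Cfsg.isometryGroup F ⇑Q)) * u * (s : ↥(Cfsg.isometryGroup F ⇑Q))⁻¹ = _
  rw [hu, siegO_conj]

theorem U_fix (e : Pt Q W) (u : ↥(SW Q W)) (hu : u ∈ U e) : u • e = e := by
  obtain ⟨w, hw, hwW, hu⟩ := hu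
  conv_rhs => rw [← mk'_gen e]
  rw [smul_def, mk'_eq_iff]
  refine ⟨1, one_ne_zero, ?_⟩
  rw [one_smul, hu, siegO_fix]

theorem U_trans (e y y' : Pt Q W) (h : Opp e y) (h' : Opp e y') : ∃ u ∈ U e, u • y = y' := by
  obtain ⟨a, ha⟩ : ∃ a : F, a = B Q (gen e) (gen y) := ⟨_, rfl⟩
  obtain ⟨a', ha'⟩ : ∃ a : F, a = B Q (gen e) (gen y') := ⟨_, rfl⟩
  have ha0 : a ≠ 0 := by rw [ha]; exact h
  have ha'0 : a' ≠ 0 := by rw [ha']; exact h'
  have hQ1 : Q (a⁻¹ • gen y) = 0 := by rw [Q_smul, gen_sing, mul_zero]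
  have hQ2 : Q (a'⁻¹ • gen y') = 0 := by rw [Q_smul, gen_sing, mul_zero]
  have hB1 : B Q (gen e) (a⁻¹ • gen y) = 1 := by
    show QuadraticMap.polar ⇑Q (gen e) (a⁻¹ • gen y) = 1
    rw [QuadraticMap.polar_smul_right, smul_eq_mul]
    simp only [B] at ha
    rw [← ha, inv_mul_cancel₀ ha0]
  have hB2 : B Q (gen e) (a'⁻¹ • gen y') = 1 := by
    show QuadraticMap.polar ⇑Q (gen e) (a'⁻¹ • gen y') = 1
    rw [QuadraticMap.polar_smul_right, smul_eq_mul]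
    simp only [B] at ha'
    rw [← ha', inv_mul_cancel₀ ha'0]
  have hw : B Q (gen e) (a'⁻¹ • gen y' - a⁻¹ • gen y) = 0 := by
    show QuadraticMap.polar ⇑Q (gen e) (a'⁻¹ • gen y' - a⁻¹ • gen y) = 0
    rw [QuadraticMap.polar_sub_right]
    simp only [B] at hB1 hB2
    rw [hB1, hB2, sub_self]
  have hwW : a'⁻¹ • gen y' - a⁻¹ • gen y ∈ W :=
    W.sub_mem (W.smul_mem _ (gen_mem y')) (W.smul_mem _ (gen_mem y))
  have hmove := siegO_move (gen_sing e) hQ1 hQ2 hB1 hB2 hw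
  refine ⟨⟨siegO Q (gen e) _ (gen_sing e) hw, siegO_mem_SW Q W _ _ (gen_mem e) hwW⟩,
    ⟨_, hw, hwW, rfl⟩, ?_⟩
  conv_rhs => rw [← mk'_gen y']
  rw [smul_def, mk'_eq_iff]
  refine ⟨a' * a⁻¹, mul_ne_zero ha'0 (inv_ne_zero ha0), ?_⟩
  rw [Matrix.mulVec_smul] at hmove
  have h2 : mt Q (siegO Q (gen e) (a'⁻¹ • gen y' - a⁻¹ • gen y) (gen_sing e) hw) *ᵥ gen y =
      a • (a'⁻¹ • gen y') := by
    have := congrArg (fun t => a • t) hmove
    simp only [smul_smul, mul_inv_cancel₀ ha0, one_smul] at this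
    rw [this, smul_smul]
  show gen y' = (a' * a⁻¹) • (mt Q (siegO Q (gen e) _ (gen_sing e) hw) *ᵥ gen y)
  rw [h2, smul_smul, smul_smul]
  have : a' * a⁻¹ * a * a'⁻¹ = 1 := by field_simp
  rw [this, one_smul]

theorem U_gen : Subgroup.closure (⋃ e : Pt Q W, ((U e : Subgroup ↥(SW Q W)) : Set ↥(SW Q W))) = ⊤ := by
  rw [eq_top_iff]
  rintro ⟨s, hs⟩ -
  induction hs using Subgroup.closure_induction with
  | mem g hg =>
    obtain ⟨u, v, hu, huv, huW, hvW, rfl⟩ := hg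
    by_cases hu0 : u = 0
    · have : (⟨siegO Q u v hu huv, Subgroup.subset_closure ⟨u, v, hu, huv, huW, hvW, rfl⟩⟩ :
          ↥(SW Q W)) = 1 := by
        apply Subtype.ext
        subst hu0
        exact siegO_zero_left v hu huv
      rw [this]
      exact Subgroup.one_mem _
    · apply Subgroup.subset_closure
      rw [Set.mem_iUnion]
      refine ⟨Pt.mk' u huW hu0 hu, ?_⟩
      rw [SetLike.mem_coe, mem_U_mk'_iff]
      exact ⟨v, huv, hvW, rfl⟩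
  | one => exact Subgroup.one_mem _
  | mul a b ha hb iha ihb =>
    have : (⟨a * b, Subgroup.mul_mem _ ha hb⟩ : ↥(SW Q W)) = ⟨a, ha⟩ * ⟨b, hb⟩ := rfl
    rw [this]
    exact Subgroup.mul_mem _ iha ihb
  | inv a ha iha =>
    have : (⟨a⁻¹, Subgroup.inv_mem _ ha⟩ : ↥(SW Q W)) = (⟨a, ha⟩ : ↥(SW Q W))⁻¹ := rfl
    rw [this]
    exact Subgroup.inv_mem _ iha

end Cfsg.Agent.Helper28.LB
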