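import Mathlib
import Cfsg.Agent.Helper28.LocBal3

set_option autoImplicit false
set_option linter.unusedSectionVars false

/-! Geometry inside a nondegenerate subspace needed for the root-group lemma. -/

namespace Cfsg.Agent.Helper28.LB

open Matrix Module Cfsg.Agent.Helper28.Sg Cfsg.Agent.Helper28.Spin Cfsg.Agent.Helper28.NDM
  Cfsg.Agent.Helper28.OFN Cfsg.Agent.Helper28.PDN

variable {F : Type*} [Field F] [Fintype F] {ι : Type} [Fintype ι] [DecidableEq ι]
  {Q : QuadraticForm F (ι → F)} {W : Submodule F (ι → F)}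

/-- a nonzero nondegenerate subspace contains a nonsingular vector -/
theorem exists_nonsing {N : Submodule F (ι → F)} (hN : NDon Q N) {x : ι → F} (hxN : x ∈ N)
    (hx0 : x ≠ 0) : ∃ w, w ∈ N ∧ Q w ≠ 0 := by
  obtain ⟨y, hyN, hxy⟩ := hN x hxN hx0
  by_cases hQx : Q x = 0
  · by_cases hQy : Q y = 0
    · refine ⟨x + y, N.add_mem hxN hyN, ?_⟩
      rw [Q_add, hQx, hQy, zero_add, zero_add]
      exact hxy
    · exact ⟨y, hyN, hQy⟩
  · exact ⟨x, hxN, hQx⟩

/-- a nonsingular vector perpendicular to a hyperbolic pair -/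
theorem exists_nonsing_perp (hQ : (QuadraticMap.polarBilin Q).Nondegenerate) (hW : NDon Q W)
    (h3 : 3 ≤ finrank F W) {e f : ι → F} (heW : e ∈ W) (hfW : f ∈ W) (hQe : Q e = 0)
    (hQf : Q f = 0) (hef : B Q e f = 1) :
    ∃ w, w ∈ W ∧ B Q e w = 0 ∧ B Q f w = 0 ∧ Q w ≠ 0 := by
  classical
  have hnd := NDon_perp_hyp Q W hW e f heW hfW hQe hQf hef
  have hfin := finrank_perpIn Q hQ W ({e, f} : Finset (ι → F))
  have hc := pair_card_le e f
  have hcoe : (({e, f} : Finset (ι → F)) : Set (ι → F)) = {e, f} := by simp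
  rw [hcoe] at hfin
  have hpos : 0 < finrank F (perpIn Q W {e, f}) := by omega
  obtain ⟨⟨x, hxN⟩, hx0⟩ := (Module.finrank_pos_iff_exists_ne_zero (R := F)).1 hpos
  have hx0' : x ≠ 0 := fun h => hx0 (Subtype.ext h)
  obtain ⟨w, hwN, hQw⟩ := exists_nonsing hnd hxN hx0'
  rw [mem_perpIn] at hwN
  exact ⟨w, hwN.1, hwN.2 e (by simp), hwN.2 f (by simp), hQw⟩

/-- a partner and a perpendicular nonsingular vector -/
theorem exists_triple (hQ : (QuadraticMap.polarBilin Q).Nondegenerate) (hW : NDon Q W)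
    (h3 : 3 ≤ finrank F W) {e : ι → F} (heW : e ∈ W) (he0 : e ≠ 0) (hQe : Q e = 0) :
    ∃ f w, f ∈ W ∧ w ∈ W ∧ Q f = 0 ∧ B Q e f = 1 ∧ B Q e w = 0 ∧ B Q f w = 0 ∧ Q w ≠ 0 := by
  obtain ⟨f, hfW, hQf, hef⟩ := exists_partner_in Q W hW.geo e heW he0 hQe
  obtain ⟨w, hwW, h1, h2, h3⟩ := exists_nonsing_perp hQ hW h3 heW hfW hQe hQf hef
  exact ⟨f, w, hfW, hwW, hQf, hef, h1, h2, h3⟩

/-- two singular vectors have a common non-orthogonal singular vector -/
theorem exists_common (hW : NDon Q W) {e z : ι → F} (heW : e ∈ W) (hzW : z ∈ W) (he0 : e ≠ 0)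
    (hz0 : z ≠ 0) (hQe : Q e = 0) (hQz : Q z = 0) (hez : B Q e z = 0) :
    ∃ y, y ∈ W ∧ Q y = 0 ∧ B Q e y ≠ 0 ∧ B Q z y ≠ 0 := by
  obtain ⟨f, hfW, hQf, hef⟩ := exists_partner_in Q W hW.geo e heW he0 hQe
  obtain ⟨f', hf'W, hQf', hzf'⟩ := exists_partner_in Q W hW.geo z hzW hz0 hQz
  by_cases h1 : B Q z f = 0
  · by_cases h2 : B Q e f' = 0
    · refine ⟨f + f' - B Q f f' • e, W.sub_mem (W.add_mem hfW hf'W) (W.smul_mem _ heW), ?_, ?_, ?_⟩
      · rw [Q_sub', Q_add, Q_smul, hQf, hQf', hQe, B_smul_right', B_add_left', B_comm Q f e, hef,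
          B_comm Q f' e, h2]
        ring
      · rw [B_sub_right', B_add_right', B_smul_right', hef, h2, B_self, hQe]
        simp
      · rw [B_sub_right', B_add_right', B_smul_right', h1, hzf', B_comm Q z e, hez]
        simp
    · refine ⟨f', hf'W, hQf', h2, ?_⟩
      rw [hzf']
      exact one_ne_zero
  · refine ⟨f, hfW, hQf, ?_, h1⟩
    rw [hef]
    exact one_ne_zero

/-- four vectors forming two orthogonal hyperbolic pairs force dimension at least four -/
theorem four_le_finrank {e f y p : ι → F} (heW : e ∈ W) (hfW : f ∈ W) (hyW : y ∈ W) (hpW : p ∈ W)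
    (hQe : Q e = 0) (hQf : Q f = 0) (hQy : Q y = 0) (hQp : Q p = 0) (hef : B Q e f = 1)
    (hyp : B Q y p = 1) (hey : B Q e y = 0) (hep : B Q e p = 0) (hfy : B Q f y = 0)
    (hfp : B Q f p = 0) : 4 ≤ finrank F W := by
  let v : Fin 4 → ↥W := ![⟨e, heW⟩, ⟨f, hfW⟩, ⟨y, hyW⟩, ⟨p, hpW⟩]
  have hli : LinearIndependent F v := by
    rw [Fintype.linearIndependent_iff]
    intro g hg
    have h0 : g 0 • e + g 1 • f + g 2 • y + g 3 • p = 0 := by
      have := congrArg (fun t : ↥W => (t : ι → F)) hg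
      simpa [Fin.sum_univ_four, v, add_assoc] using this
    have hee : B Q e e = 0 := by rw [B_self, hQe, mul_zero]
    have hff : B Q f f = 0 := by rw [B_self, hQf, mul_zero]
    have hyy : B Q y y = 0 := by rw [B_self, hQy, mul_zero]
    have hpp : B Q p p = 0 := by rw [B_self, hQp, mul_zero]
    have k1 := congrArg (fun t => B Q f t) h0
    have k2 := congrArg (fun t => B Q e t) h0
    have k3 := congrArg (fun t => B Q p t) h0
    have k4 := congrArg (fun t => B Q y t) h0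
    simp only [B_add_right', B_smul_right', B_comm Q f e, hef, hff, hfy, hfp, hee, hey, hep,
      B_comm Q p e, B_comm Q p f, B_comm Q p y, hyp, hpp, B_comm Q y e, B_comm Q y f, hyy,
      mul_zero, mul_one, add_zero, zero_add] at k1 k2 k3 k4
    have k1' : g 0 = 0 := by simpa [B] using k1
    have k2' : g 1 = 0 := by simpa [B] using k2
    have k3' : g 2 = 0 := by simpa [B] using k3
    have k4' : g 3 = 0 := by simpa [B] using k4
    intro i
    fin_cases i
    · exact k1'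
    · exact k2'
    · exact k3'
    · exact k4'
  have := hli.fintype_card_le_finrank
  simpa using this

/-- two independent orthogonal singular vectors: a singular vector and a nonsingular one, both
orthogonal to the first, the singular one not orthogonal to the second -/
theorem exists_mover (hQ : (QuadraticMap.polarBilin Q).Nondegenerate) (hW : NDon Q W)
    (hd : finrank F W = 3 ∨ 5 ≤ finrank F W) {e y : ι → F} (heW : e ∈ W) (hyW : y ∈ W)
    (he0 : e ≠ 0) (hQe : Q e = 0) (hQy : Q y = 0) (hey : B Q e y = 0)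
    (hind : ∀ c : F, y ≠ c • e) :
    ∃ p w, p ∈ W ∧ w ∈ W ∧ Q p = 0 ∧ B Q p w = 0 ∧ B Q p e = 0 ∧ B Q w e = 0 ∧ B Q p y ≠ 0 ∧
      Q w ≠ 0 := by
  classical
  obtain ⟨f, hfW, hQf, hef⟩ := exists_partner_in Q W hW.geo e heW he0 hQe
  have hee : B Q e e = 0 := by rw [B_self, hQe, mul_zero]
  obtain ⟨y₀, hy₀⟩ : ∃ y₀ : ι → F, y₀ = y - B Q y f • e := ⟨_, rfl⟩
  have hy₀W : y₀ ∈ W := by rw [hy₀]; exact W.sub_mem hyW (W.smul_mem _ heW)
  have hy₀0 : y₀ ≠ 0 := by
    intro h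
    rw [hy₀, sub_eq_zero] at h
    exact hind _ h
  have hQy₀ : Q y₀ = 0 := by
    rw [hy₀, Q_sub', Q_smul, hQy, hQe, B_smul_right', B_comm Q y e, hey]
    ring
  have hey₀ : B Q e y₀ = 0 := by
    rw [hy₀, B_sub_right', B_smul_right', hey, hee]
    ring
  have hfy₀ : B Q f y₀ = 0 := by
    rw [hy₀, B_sub_right', B_smul_right', B_comm Q f e, hef, B_comm Q f y]
    ring
  have hnd := NDon_perp_hyp Q W hW e f heW hfW hQe hQf hef
  have hy₀N : y₀ ∈ perpIn Q W {e, f} := by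
    rw [mem_perpIn]
    refine ⟨hy₀W, ?_⟩
    intro v hv
    rcases hv with rfl | rfl
    · exact hey₀
    · exact hfy₀
  obtain ⟨p, hpN, hQp, hy₀p⟩ := exists_partner_in Q _ hnd.geo y₀ hy₀N hy₀0 hQy₀
  have hpN' := (mem_perpIn Q W {e, f} p).1 hpN
  have hep : B Q e p = 0 := hpN'.2 e (by simp)
  have hfp : B Q f p = 0 := hpN'.2 f (by simp)
  have h4 := four_le_finrank heW hfW hy₀W hpN'.1 hQe hQf hQy₀ hQp hef hy₀p hey₀ hep hfy₀ hfp
  have h5 : 5 ≤ finrank F W := by omega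
  have hnd2 := NDon_perp_hyp Q _ hnd y₀ p hy₀N hpN hQy₀ hQp hy₀p
  have hfin1 := finrank_perpIn Q hQ W ({e, f} : Finset (ι → F))
  have hc1 := pair_card_le e f
  have hcoe1 : (({e, f} : Finset (ι → F)) : Set (ι → F)) = {e, f} := by simp
  rw [hcoe1] at hfin1
  have hfin2 := finrank_perpIn Q hQ (perpIn Q W {e, f}) ({y₀, p} : Finset (ι → F))
  have hc2 := pair_card_le y₀ p
  have hcoe2 : (({y₀, p} : Finset (ι → F)) : Set (ι → F)) = {y₀, p} := by simp
  rw [hcoe2] at hfin2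
  have hpos : 0 < finrank F (perpIn Q (perpIn Q W {e, f}) {y₀, p}) := by omega
  obtain ⟨⟨x, hxN⟩, hx0⟩ := (Module.finrank_pos_iff_exists_ne_zero (R := F)).1 hpos
  have hx0' : x ≠ 0 := fun h => hx0 (Subtype.ext h)
  obtain ⟨w, hwN, hQw⟩ := exists_nonsing hnd2 hxN hx0'
  rw [mem_perpIn] at hwN
  have hwN' := (mem_perpIn Q W {e, f} w).1 hwN.1
  refine ⟨p, w, hpN'.1, hwN'.1, hQp, hwN.2 p (by simp), ?_, ?_, ?_, hQw⟩
  · rw [B_comm]; exact hep
  · rw [B_comm]; exact hwN'.2 e (by simp)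
  · have : y = y₀ + B Q y f • e := by rw [hy₀]; abel
    rw [this, B_add_right', B_smul_right', B_comm Q p y₀, hy₀p, B_comm Q p e, hep]
    simp

end Cfsg.Agent.Helper28.LB
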