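import Mathlib
import Cfsg.Agent.Helper28.LocBal4

set_option autoImplicit false
set_option linter.unusedSectionVars false

/-! A semilinear map commuting with the Siegel transformations of a nondegenerate subspace `W` of
dimension at least three is linear and acts as a scalar on `W`. -/

namespace Cfsg.Agent.Helper28.LB

open Matrix Module Cfsg.Agent.Helper28.Sg Cfsg.Agent.Helper28.Spin Cfsg.Agent.Helper28.NDM
  Cfsg.Agent.Helper28.OFN Cfsg.Agent.Helper28.PDN

variable {F : Type*} [Field F] [Fintype F] {ι : Type} [Fintype ι] [DecidableEq ι]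
  {Q : QuadraticForm F (ι → F)} {W : Submodule F (ι → F)}

section scalar

variable {R : Type*} [FunLike R F F] [RingHomClass R F F] (T : (ι → F) → (ι → F)) (τ : R)
  (hadd : ∀ x y, T (x + y) = T x + T y) (hsmul : ∀ (a : F) x, T (a • x) = τ a • T x)
  (hinj : ∀ x, T x = 0 → x = 0)
  (hcomm : ∀ (z w : ι → F) (hz : Q z = 0) (hzw : B Q z w = 0), z ∈ W → w ∈ W →
    ∀ x, T (mt Q (siegO Q z w hz hzw) *ᵥ x) = mt Q (siegO Q z w hz hzw) *ᵥ T x)

include hadd in
theorem T_zero : T 0 = 0 := by
  have := hadd 0 0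
  rw [add_zero] at this
  exact left_eq_add.1 this

include hadd in
theorem T_sub (x y : ι → F) : T (x - y) = T x - T y := by
  have := hadd (x - y) y
  rw [sub_add_cancel] at this
  rw [this, add_sub_cancel_right]

include hadd hsmul hcomm in
/-- every singular vector of `W` is an eigenvector -/
theorem eig_of_comm (h2 : (2 : F) ≠ 0) (hQ : (QuadraticMap.polarBilin Q).Nondegenerate)
    (hW : NDon Q W) (h3 : 3 ≤ finrank F W) {z : ι → F} (hzW : z ∈ W) (hz0 : z ≠ 0)
    (hQz : Q z = 0) : ∃ l : F, T z = l • z := by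
  obtain ⟨f, w, hfW, hwW, hQf, hzf, hzw, hfw, hQw⟩ := exists_triple hQ hW h3 hzW hz0 hQz
  have hD : ∀ x, mt Q (siegO Q z w hQz hzw) *ᵥ x - x =
      B Q z x • w - (B Q w x + Q w * B Q z x) • z := by
    intro x
    rw [siegO_mulVec]
    module
  have hzz : B Q z z = 0 := by rw [B_self, hQz, mul_zero]
  have hwz : B Q w z = 0 := by rw [B_comm]; exact hzw
  have hww : B Q w w = 2 * Q w := B_self Q w
  have hDD : ∀ x, mt Q (siegO Q z w hQz hzw) *ᵥ (mt Q (siegO Q z w hQz hzw) *ᵥ x - x) -
      (mt Q (siegO Q z w hQz hzw) *ᵥ x - x) = (-(2 * Q w * B Q z x)) • z := by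
    intro x
    rw [hD (mt Q (siegO Q z w hQz hzw) *ᵥ x - x), hD x]
    simp only [B_sub_right', B_smul_right', hzw, hzz, hwz, hww]
    module
  have hTD : ∀ x, T (mt Q (siegO Q z w hQz hzw) *ᵥ x - x) =
      mt Q (siegO Q z w hQz hzw) *ᵥ T x - T x := by
    intro x
    rw [T_sub T hadd, hcomm z w hQz hzw hzW hwW]
  have hc0 : -(2 * Q w * B Q z f) ≠ 0 := by
    rw [hzf, mul_one]
    exact neg_ne_zero.2 (mul_ne_zero h2 hQw)
  have hz : z = (-(2 * Q w * B Q z f))⁻¹ •
      (mt Q (siegO Q z w hQz hzw) *ᵥ (mt Q (siegO Q z w hQz hzw) *ᵥ f - f) -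
      (mt Q (siegO Q z w hQz hzw) *ᵥ f - f)) := by
    rw [hDD, smul_smul, inv_mul_cancel₀ hc0, one_smul]
  refine ⟨τ (-(2 * Q w * B Q z f))⁻¹ * -(2 * Q w * B Q z (T f)), ?_⟩
  conv_lhs => rw [hz]
  rw [hsmul, hTD, hTD, hDD, smul_smul]

/-- the coefficients of a vanishing combination of a hyperbolic pair and a perpendicular
nonsingular vector vanish -/
theorem coeff_zero (h2 : (2 : F) ≠ 0) {e f w : ι → F} (hQe : Q e = 0) (hQf : Q f = 0)
    (hef : B Q e f = 1) (hew : B Q e w = 0) (hfw : B Q f w = 0) (hQw : Q w ≠ 0) {a b d : F}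
    (h : a • e + b • w + d • f = 0) : a = 0 ∧ b = 0 ∧ d = 0 := by
  have hee : B Q e e = 0 := by rw [B_self, hQe, mul_zero]
  have hff : B Q f f = 0 := by rw [B_self, hQf, mul_zero]
  have hfe : B Q f e = 1 := by rw [B_comm]; exact hef
  have hwe : B Q w e = 0 := by rw [B_comm]; exact hew
  have hwf : B Q w f = 0 := by rw [B_comm]; exact hfw
  have hww : B Q w w = 2 * Q w := B_self Q w
  have k1 := congrArg (fun t => B Q f t) h
  have k2 := congrArg (fun t => B Q w t) h
  have k3 := congrArg (fun t => B Q e t) h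
  simp only [B_add_right', B_smul_right', hfe, hfw, hff, hwe, hww, hwf, hee, hew, hef, mul_zero,
    mul_one, add_zero, zero_add] at k1 k2 k3
  have k1' : a = 0 := by simpa [B] using k1
  have k3' : d = 0 := by simpa [B] using k3
  have k2' : b * (2 * Q w) = 0 := by simpa [B] using k2
  refine ⟨k1', ?_, k3'⟩
  rcases mul_eq_zero.1 k2' with h | h
  · exact h
  · exact absurd h (mul_ne_zero h2 hQw)

include hadd hsmul hinj in
/-- the semilinear map is a scalar on a hyperbolic pair with a perpendicular nonsingular vector,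
and its field automorphism is trivial -/
theorem scalar_on_triple (h2 : (2 : F) ≠ 0)
    (heig : ∀ z : ι → F, z ∈ W → z ≠ 0 → Q z = 0 → ∃ l : F, T z = l • z)
    {e f w : ι → F} (heW : e ∈ W) (hfW : f ∈ W) (hwW : w ∈ W) (hQe : Q e = 0) (hQf : Q f = 0)
    (hef : B Q e f = 1) (hew : B Q e w = 0) (hfw : B Q f w = 0) (hQw : Q w ≠ 0) {l ν : F}
    (hl : T e = l • e) (hν : T f = ν • f) : (∀ a, τ a = a) ∧ T w = l • w ∧ ν = l := by
  obtain ⟨c, hc⟩ : ∃ c : F, c = Q w := ⟨_, rfl⟩
  have hc0 : c ≠ 0 := by rw [hc]; exact hQw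
  have he0 : e ≠ 0 := by
    intro h
    rw [h] at hef
    simp [B] at hef
  have hl0 : l ≠ 0 := by
    intro h
    rw [h, zero_smul] at hl
    exact he0 (hinj e hl)
  have hfe : B Q f e = 1 := by rw [B_comm]; exact hef
  have hwf : B Q w f = 0 := by rw [B_comm]; exact hfw
  have hff : B Q f f = 0 := by rw [B_self, hQf, mul_zero]
  -- the family of singular vectors
  have hE : ∀ t : F, ∃ m : F, l • e + τ t • T w - (τ t * τ t * τ c * ν) • f =
      m • (e + t • w - (t * t * c) • f) := by
    intro t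
    have hW' : e + t • w - (t * t * c) • f ∈ W :=
      W.sub_mem (W.add_mem heW (W.smul_mem _ hwW)) (W.smul_mem _ hfW)
    have hQ' : Q (e + t • w - (t * t * c) • f) = 0 := by
      rw [Q_sub', Q_add, Q_smul, Q_smul, hQe, hQf, B_smul_right', hew, B_smul_right',
        B_add_left', B_smul_left', hef, hwf, ← hc]
      ring
    have hne : e + t • w - (t * t * c) • f ≠ 0 := by
      intro h
      have := congrArg (fun v => B Q f v) h
      simp only [B_sub_right', B_add_right', B_smul_right', hfe, hfw, hff] at this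
      simp [B] at this
    obtain ⟨m, hm⟩ := heig _ hW' hne hQ'
    refine ⟨m, ?_⟩
    rw [← hm, T_sub T hadd, hadd, hsmul, hsmul, hl, hν, map_mul, map_mul, smul_smul]
  obtain ⟨m1, hm1⟩ := hE 1
  obtain ⟨m2, hm2⟩ := hE (-1)
  rw [map_one] at hm1
  rw [map_neg, map_one] at hm2
  have hsum : (2 * l - (m1 + m2)) • e + (-(m1 - m2)) • w + ((m1 + m2) * c - 2 * (τ c * ν)) • f =
      0 := by
    linear_combination (norm := module) hm1 + hm2
  obtain ⟨k1, k2, k3⟩ := coeff_zero h2 hQe hQf hef hew hfw hQw hsum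
  have hm12 : m1 = m2 := by linear_combination -k2
  have hm1l : m1 = l := by
    have : 2 * (l - m1) = 0 := by rw [← hm12] at k1; linear_combination k1
    rcases mul_eq_zero.1 this with h | h
    · exact absurd h h2
    · linear_combination -h
  have hcν : τ c * ν = l * c := by
    have : 2 * (l * c - τ c * ν) = 0 := by
      rw [← hm12, hm1l] at k3; linear_combination k3
    rcases mul_eq_zero.1 this with h | h
    · exact absurd h h2
    · linear_combination -h
  have hTw : T w = l • w := by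
    rw [hm1l] at hm1
    have h4 : τ c * ν = l * c := hcν
    have : T w - l • w = ((1 : F) * 1 * (τ c * ν) - l * (1 * 1 * c)) • f := by
      linear_combination (norm := module) hm1
    rw [h4] at this
    have h5 : (1 : F) * 1 * (l * c) - l * (1 * 1 * c) = 0 := by ring
    rw [h5, zero_smul] at this
    exact sub_eq_zero.1 this
  have hτ : ∀ a, τ a = a := by
    intro t
    obtain ⟨m, hm⟩ := hE t
    rw [hTw] at hm
    have h0 : (l - m) • e + (τ t * l - m * t) • w + (m * (t * t * c) - τ t * τ t * τ c * ν) • f =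
        0 := by
      linear_combination (norm := module) hm
    obtain ⟨j1, j2, -⟩ := coeff_zero h2 hQe hQf hef hew hfw hQw h0
    have hml : m = l := by linear_combination -j1
    rw [hml] at j2
    have : l * (τ t - t) = 0 := by linear_combination j2
    rcases mul_eq_zero.1 this with h | h
    · exact absurd h hl0
    · exact sub_eq_zero.1 h
  refine ⟨hτ, hTw, ?_⟩
  rw [hτ c] at hcν
  have : c * (ν - l) = 0 := by linear_combination hcν
  rcases mul_eq_zero.1 this with h | h
  · exact absurd h hc0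
  · exact sub_eq_zero.1 h

include hadd hsmul hinj hcomm in
/-- **the scalar lemma** -/
theorem scalar_of_comm (h2 : (2 : F) ≠ 0) (hQ : (QuadraticMap.polarBilin Q).Nondegenerate)
    (hW : NDon Q W) (h3 : 3 ≤ finrank F W) :
    (∀ a, τ a = a) ∧ ∃ l : F, l ≠ 0 ∧ ∀ x ∈ W, T x = l • x := by
  have heig : ∀ z : ι → F, z ∈ W → z ≠ 0 → Q z = 0 → ∃ l : F, T z = l • z :=
    fun z hzW hz0 hQz => eig_of_comm T τ hadd hsmul hcomm h2 hQ hW h3 hzW hz0 hQz
  obtain ⟨e, f, heW, hfW, hQe, hQf, hef⟩ := exists_hyp_in Q W hW h3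
  obtain ⟨w, hwW, hew, hfw, hQw⟩ := exists_nonsing_perp hQ hW h3 heW hfW hQe hQf hef
  have he0 : e ≠ 0 := by
    intro h
    rw [h] at hef
    simp [B] at hef
  have hf0 : f ≠ 0 := by
    intro h
    rw [h] at hef
    simp [B] at hef
  obtain ⟨l, hl⟩ := heig e heW he0 hQe
  obtain ⟨ν, hν⟩ := heig f hfW hf0 hQf
  obtain ⟨hτ, -, -⟩ := scalar_on_triple T τ hadd hsmul hinj h2 heig heW hfW hwW hQe hQf hef hew
    hfw hQw hl hν
  have hl0 : l ≠ 0 := by
    intro h
    rw [h, zero_smul] at hl
    exact he0 (hinj e hl)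
  refine ⟨hτ, l, hl0, ?_⟩
  -- propagation along non-orthogonal singular vectors
  have hprop : ∀ u z : ι → F, u ∈ W → z ∈ W → Q u = 0 → Q z = 0 → T u = l • u → B Q u z ≠ 0 →
      T z = l • z := by
    intro u z huW hzW hQu hQz hu huz
    obtain ⟨a, ha⟩ : ∃ a : F, a = (B Q u z)⁻¹ := ⟨_, rfl⟩
    have hz'W : a • z ∈ W := W.smul_mem _ hzW
    have hQz' : Q (a • z) = 0 := by rw [Q_smul, hQz, mul_zero]
    have huz' : B Q u (a • z) = 1 := by
      rw [B_smul_right', ha, inv_mul_cancel₀ huz]
    have hz'0 : a • z ≠ 0 := by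
      intro h
      rw [h] at huz'
      simp [B] at huz'
    obtain ⟨w', hw'W, huw', hzw', hQw'⟩ := exists_nonsing_perp hQ hW h3 huW hz'W hQu hQz' huz'
    obtain ⟨ν', hν'⟩ := heig (a • z) hz'W hz'0 hQz'
    obtain ⟨-, -, h5⟩ := scalar_on_triple T τ hadd hsmul hinj h2 heig huW hz'W hw'W hQu hQz'
      huz' huw' hzw' hQw' hu hν'
    rw [h5, hsmul, hτ] at hν'
    have ha0 : a ≠ 0 := by rw [ha]; exact inv_ne_zero huz
    have := congrArg (fun t => a⁻¹ • t) hν'
    simp only [smul_smul, inv_mul_cancel₀ ha0, one_smul] at this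
    rw [this, mul_comm, mul_assoc, mul_inv_cancel₀ ha0, mul_one]
  have hsing : ∀ z : ι → F, z ∈ W → Q z = 0 → T z = l • z := by
    intro z hzW hQz
    by_cases hz0 : z = 0
    · rw [hz0, T_zero T hadd, smul_zero]
    by_cases hez : B Q e z = 0
    · obtain ⟨y, hyW, hQy, hey, hzy⟩ := exists_common hW heW hzW he0 hz0 hQe hQz hez
      have hy := hprop e y heW hyW hQe hQy hl hey
      exact hprop y z hyW hzW hQy hQz hy (by rw [B_comm]; exact hzy)
    · exact hprop e z heW hzW hQe hQz hl hez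
  let Z : Submodule F (ι → F) :=
    { carrier := {x | T x = l • x}
      add_mem' := by
        intro a b ha hb
        show T (a + b) = l • (a + b)
        rw [hadd, ha, hb, smul_add]
      zero_mem' := by
        show T 0 = l • 0
        rw [T_zero T hadd, smul_zero]
      smul_mem' := by
        intro c x hx
        show T (c • x) = l • c • x
        rw [hsmul, hτ, hx, smul_comm] }
  have := le_of_singular_mem Q W hW h3 Z (fun v hv hQv => hsing v hv hQv)
  intro x hx
  exact this hx

end scalar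

end Cfsg.Agent.Helper28.LB
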