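import Mathlib
import Cfsg.Agent.Helper28.LocBal4

set_option autoImplicit false
set_option linter.unusedSectionVars false

/-! The group generated by the Siegel transformations of a nondegenerate subspace of dimension
three or at least five has no nontrivial normal subgroup of odd order. -/

namespace Cfsg.Agent.Helper28.LB

open Matrix Module Cfsg.Agent.Helper28.Sg Cfsg.Agent.Helper28.Spin Cfsg.Agent.Helper28.NDM
  Cfsg.Agent.Helper28.OFN Cfsg.Agent.Helper28.PDN

variable {F : Type*} [Field F] [Fintype F] {ι : Type} [Fintype ι] [DecidableEq ι]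
  {Q : QuadraticForm F (ι → F)} {W : Submodule F (ι → F)}

instance : Finite ↥(Cfsg.isometryGroup F ⇑Q) := by
  classical
  infer_instance

/-- a Siegel transformation which is trivial has its second vector on the line of the first -/
theorem siegO_eq_one {z w f : ι → F} (hQz : Q z = 0) (hzw : B Q z w = 0) (hzf : B Q z f = 1)
    (h : siegO Q z w hQz hzw = 1) : ∃ c : F, w = c • z := by
  have h1 := congrArg (fun s => mt Q s *ᵥ f) h
  simp only [siegO_mulVec, mt_one_mulVec, hzf] at h1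
  refine ⟨B Q w f + Q w, ?_⟩
  rw [one_smul, mul_one] at h1
  rw [add_smul]
  have h2 : f + w - B Q w f • z - Q w • z - f = 0 := by rw [h1, sub_self]
  have h3 : w - (B Q w f • z + Q w • z) = f + w - B Q w f • z - Q w • z - f := by abel
  rw [h2] at h3
  exact sub_eq_zero.1 h3

/-- the root subgroups have odd order -/
theorem U_odd (h2 : (2 : F) ≠ 0) (hW : NDon Q W) (e : Pt Q W) : Odd (Nat.card ↥(U e)) := by
  rw [← Nat.not_even_iff_odd]
  intro hev
  have hdvd : 2 ∣ Nat.card ↥(U e) := even_iff_two_dvd.1 hev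
  have : Fact (Nat.Prime 2) := ⟨Nat.prime_two⟩
  obtain ⟨u, hu⟩ := exists_prime_orderOf_dvd_card' 2 hdvd
  obtain ⟨w, hw, hwW, hs⟩ := u.2
  obtain ⟨f, hfW, hQf, hef⟩ := exists_partner_in Q W hW.geo (gen e) (gen_mem e) (gen_ne e)
    (gen_sing e)
  have hu2 : u ^ 2 = 1 := by rw [← hu]; exact pow_orderOf_eq_one u
  have h1 : ((u : ↥(SW Q W)) : ↥(Cfsg.isometryGroup F ⇑Q)) *
      ((u : ↥(SW Q W)) : ↥(Cfsg.isometryGroup F ⇑Q)) = 1 := by
    have := congrArg (fun t : ↥(U e) => ((t : ↥(SW Q W)) : ↥(Cfsg.isometryGroup F ⇑Q))) hu2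
    simpa [pow_two] using this
  rw [hs, siegO_mul Q (gen_sing e) hw hw (B_add_right_zero Q hw hw)] at h1
  obtain ⟨c, hc⟩ := siegO_eq_one (gen_sing e) _ hef h1
  have hw2 : w = (c / 2) • gen e := by
    have : (2 : F) • w = c • gen e := by rw [two_smul]; exact hc
    have h3 := congrArg (fun t => (2 : F)⁻¹ • t) this
    simp only [smul_smul, inv_mul_cancel₀ h2, one_smul] at h3
    rw [h3]
    congr 1
    field_simp
  have hu1 : u = 1 := by
    apply Subtype.ext
    apply Subtype.ext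
    show ((u : ↥(SW Q W)) : ↥(Cfsg.isometryGroup F ⇑Q)) = 1
    rw [hs]
    have h00 : B Q (gen e) 0 = 0 := QuadraticMap.polar_zero_right _ _
    have h4 : B Q (gen e) (0 + (c / 2) • gen e) = 0 := by
      rw [zero_add, ← hw2]; exact hw
    have h5 := siegO_add_smul_self Q (c / 2) (gen_sing e) h00 h4
    rw [siegO_zero] at h5
    rw [← h5]
    exact siegO_congr Q _ _ _ _ rfl (by rw [zero_add, hw2])
  rw [hu1, orderOf_one] at hu
  norm_num at hu

/-- the element swapping the two points of a hyperbolic pair -/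
theorem swap_apply {e f w : ι → F} (hQe : Q e = 0) (hQf : Q f = 0) (hef : B Q e f = 1)
    (hew : B Q e w = 0) (hfw : B Q f w = 0) (hQw : Q w ≠ 0)
    (hfw' : B Q f ((Q w)⁻¹ • w) = 0) :
    mt Q (siegO Q e w hQe hew * siegO Q f ((Q w)⁻¹ • w) hQf hfw' * siegO Q e w hQe hew) *ᵥ e =
        (-(Q w)⁻¹) • f ∧
    mt Q (siegO Q e w hQe hew * siegO Q f ((Q w)⁻¹ • w) hQf hfw' * siegO Q e w hQe hew) *ᵥ f =
        (-(Q w)) • e := by
  obtain ⟨c, hc⟩ : ∃ c : F, c = Q w := ⟨_, rfl⟩
  have hc0 : c ≠ 0 := by rw [hc]; exact hQw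
  have hee : B Q e e = 0 := by rw [B_self, hQe, mul_zero]
  have hff : B Q f f = 0 := by rw [B_self, hQf, mul_zero]
  have hfe : B Q f e = 1 := by rw [B_comm]; exact hef
  have hwe : B Q w e = 0 := by rw [B_comm]; exact hew
  have hwf : B Q w f = 0 := by rw [B_comm]; exact hfw
  have hww : B Q w w = 2 * c := by rw [B_self, hc]
  have hQcw : Q (c⁻¹ • w) = c⁻¹ := by
    rw [Q_smul, ← hc]
    field_simp
  -- the three basic images under `ρ(e, w)`
  have r1e : mt Q (siegO Q e w hQe hew) *ᵥ e = e := siegO_fix hQe hew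
  have r1f : mt Q (siegO Q e w hQe hew) *ᵥ f = f + w - c • e := by
    rw [siegO_mulVec, hef, hwf, ← hc]
    module
  have r1w : mt Q (siegO Q e w hQe hew) *ᵥ w = w - (2 * c) • e := by
    rw [siegO_mulVec, hew, hww]
    module
  -- the images under `ρ(f, c⁻¹ w)`
  have r2f : mt Q (siegO Q f ((Q w)⁻¹ • w) hQf hfw') *ᵥ f = f := siegO_fix hQf hfw'
  have r2e : mt Q (siegO Q f ((Q w)⁻¹ • w) hQf hfw') *ᵥ e = e + c⁻¹ • w - c⁻¹ • f := by
    rw [siegO_mulVec, hfe, B_smul_left', hwe, ← hc, hQcw]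
    module
  have r2w : mt Q (siegO Q f ((Q w)⁻¹ • w) hQf hfw') *ᵥ w = w - (2 : F) • f := by
    rw [siegO_mulVec, hfw, B_smul_left', hww, ← hc]
    have : c⁻¹ * (2 * c) = 2 := by field_simp
    rw [this]
    module
  constructor
  · simp only [mt_mul_mulVec, Matrix.mulVec_sub, Matrix.mulVec_add, Matrix.mulVec_smul, r1e,
      r1f, r1w, r2e]
    rw [← hc]
    match_scalars <;> field_simp <;> ring
  · simp only [mt_mul_mulVec, Matrix.mulVec_sub, Matrix.mulVec_add, Matrix.mulVec_smul, r1e,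
      r1f, r1w, r2e, r2f, r2w]
    rw [← hc]
    match_scalars <;> field_simp <;> ring


/-- `SW` has even order -/
theorem SW_even (hQ : (QuadraticMap.polarBilin Q).Nondegenerate) (hW : NDon Q W)
    (h3 : 3 ≤ finrank F W) : Even (Nat.card ↥(SW Q W)) := by
  obtain ⟨e, f, heW, hfW, hQe, hQf, hef⟩ := exists_hyp_in Q W hW h3
  obtain ⟨w, hwW, hew, hfw, hQw⟩ := exists_nonsing_perp hQ hW h3 heW hfW hQe hQf hef
  have hfw' : B Q f ((Q w)⁻¹ • w) = 0 := B_smul_right_zero Q _ hfw
  have he0 : e ≠ 0 := by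
    intro h
    rw [h] at hef
    simp [B] at hef
  have hf0 : f ≠ 0 := by
    intro h
    rw [h] at hef
    simp [B] at hef
  obtain ⟨hse, hsf⟩ := swap_apply hQe hQf hef hew hfw hQw hfw'
  set s : ↥(SW Q W) := ⟨siegO Q e w hQe hew * siegO Q f ((Q w)⁻¹ • w) hQf hfw' * siegO Q e w hQe hew,
    Subgroup.mul_mem _ (Subgroup.mul_mem _ (siegO_mem_SW Q W _ _ heW hwW)
      (siegO_mem_SW Q W _ _ hfW (W.smul_mem _ hwW))) (siegO_mem_SW Q W _ _ heW hwW)⟩ with hs
  have h1 : s • Pt.mk' e heW he0 hQe = Pt.mk' f hfW hf0 hQf := by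
    rw [smul_mk', mk'_eq_iff]
    refine ⟨-(Q w), neg_ne_zero.2 hQw, ?_⟩
    show f = -(Q w) • (mt Q _ *ᵥ e)
    rw [hse, smul_smul]
    have : -Q w * -(Q w)⁻¹ = 1 := by field_simp
    rw [this, one_smul]
  have h2 : s • Pt.mk' f hfW hf0 hQf = Pt.mk' e heW he0 hQe := by
    rw [smul_mk', mk'_eq_iff]
    refine ⟨-(Q w)⁻¹, neg_ne_zero.2 (inv_ne_zero hQw), ?_⟩
    show e = -(Q w)⁻¹ • (mt Q _ *ᵥ f)
    rw [hsf, smul_smul]
    have : -(Q w)⁻¹ * -Q w = 1 := by field_simp
    rw [this, one_smul]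
  have hne : Pt.mk' e heW he0 hQe ≠ Pt.mk' f hfW hf0 hQf := by
    intro h
    rw [mk'_eq_iff] at h
    obtain ⟨c, -, hc⟩ := h
    rw [hc, B_smul_right', B_self, hQe] at hef
    simp at hef
  have hpow : ∀ k : ℕ, (s ^ (2 * k)) • Pt.mk' e heW he0 hQe = Pt.mk' e heW he0 hQe := by
    intro k
    induction k with
    | zero => simp
    | succ k ih =>
      have : 2 * (k + 1) = 2 * k + 1 + 1 := by ring
      rw [this, pow_succ, pow_succ, mul_smul, mul_smul, h1, h2, ih]
  have hev : Even (orderOf s) := by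
    rw [← Nat.not_odd_iff_even]
    rintro ⟨k, hk⟩
    have h3 := pow_orderOf_eq_one s
    rw [hk, pow_succ] at h3
    have h4 := congrArg (fun t : ↥(SW Q W) => t • Pt.mk' e heW he0 hQe) h3
    simp only [mul_smul, one_smul, h1] at h4
    have h5 : (s ^ (2 * k)) • Pt.mk' f hfW hf0 hQf = Pt.mk' f hfW hf0 hQf := by
      have := hpow k
      have h6 : s • (s ^ (2 * k)) • Pt.mk' e heW he0 hQe = s • Pt.mk' e heW he0 hQe := by
        rw [this]
      rw [← mul_smul, ← pow_succ', pow_succ, mul_smul, h1] at h6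
      exact h6
    rw [h5] at h4
    exact hne h4.symm
  exact hev.trans_dvd (orderOf_dvd_natCard s)

/-- an element of odd order fixing all singular points of `W` is trivial -/
theorem eq_one_of_fix_pts (hQ : (QuadraticMap.polarBilin Q).Nondegenerate) (hW : NDon Q W)
    (h3 : 3 ≤ finrank F W) (n : ↥(SW Q W)) (hodd : Odd (orderOf n))
    (hfix : ∀ e : Pt Q W, n • e = e) : n = 1 := by
  -- every singular vector is an eigenvector
  have heig : ∀ z : ι → F, z ∈ W → z ≠ 0 → Q z = 0 → ∃ l : F,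
      mt Q (n : ↥(Cfsg.isometryGroup F ⇑Q)) *ᵥ z = l • z := by
    intro z hzW hz0 hQz
    have h1 := hfix (Pt.mk' z hzW hz0 hQz)
    rw [smul_mk', mk'_eq_iff] at h1
    obtain ⟨c, hc0, hc⟩ := h1
    refine ⟨c⁻¹, ?_⟩
    have := congrArg (fun t => c⁻¹ • t) hc
    simp only [smul_smul, inv_mul_cancel₀ hc0, one_smul] at this
    exact this.symm
  have hmul : ∀ {z y : ι → F} {l l' : F}, mt Q (n : ↥(Cfsg.isometryGroup F ⇑Q)) *ᵥ z = l • z →
      mt Q (n : ↥(Cfsg.isometryGroup F ⇑Q)) *ᵥ y = l' • y → B Q z y ≠ 0 → l * l' = 1 := by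
    intro z y l l' hz hy hzy
    have := B_isom Q (n : ↥(Cfsg.isometryGroup F ⇑Q)) z y
    rw [hz, hy, B_smul_smul] at this
    have h2 : (l * l' - 1) * B Q z y = 0 := by linear_combination this
    rcases mul_eq_zero.1 h2 with h | h
    · exact sub_eq_zero.1 h
    · exact absurd h hzy
  have hone : ∀ z : ι → F, z ∈ W → Q z = 0 → mt Q (n : ↥(Cfsg.isometryGroup F ⇑Q)) *ᵥ z = z := by
    intro e heW hQe
    by_cases he0 : e = 0
    · rw [he0, Matrix.mulVec_zero]
    obtain ⟨f, w, hfW, hwW, hQf, hef, hew, hfw, hQw⟩ := exists_triple hQ hW h3 heW he0 hQe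
    have hf0 : f ≠ 0 := by
      intro h
      rw [h] at hef
      simp [B] at hef
    obtain ⟨g, hg⟩ : ∃ g : ι → F, g = e + w - Q w • f := ⟨_, rfl⟩
    have hgW : g ∈ W := by
      rw [hg]; exact W.sub_mem (W.add_mem heW hwW) (W.smul_mem _ hfW)
    have hee : B Q e e = 0 := by rw [B_self, hQe, mul_zero]
    have hff : B Q f f = 0 := by rw [B_self, hQf, mul_zero]
    have hQg : Q g = 0 := by
      rw [hg, Q_sub', Q_add, Q_smul, hQe, hQf, hew, B_smul_right', B_add_left', hef, B_comm Q w f,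
        hfw]
      ring
    have heg : B Q e g = -Q w := by
      rw [hg, B_sub_right', B_add_right', B_smul_right', hee, hew, hef]
      ring
    have hfg : B Q f g = 1 := by
      rw [hg, B_sub_right', B_add_right', B_smul_right', hff, hfw, B_comm Q f e, hef]
      ring
    have hg0 : g ≠ 0 := by
      intro h
      rw [h] at hfg
      simp [B] at hfg
    obtain ⟨l, hl⟩ := heig e heW he0 hQe
    obtain ⟨l', hl'⟩ := heig f hfW hf0 hQf
    obtain ⟨l'', hl''⟩ := heig g hgW hg0 hQg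
    have k1 := hmul hl hl' (by rw [hef]; exact one_ne_zero)
    have k2 := hmul hl hl'' (by rw [heg]; exact neg_ne_zero.2 hQw)
    have k3 := hmul hl' hl'' (by rw [hfg]; exact one_ne_zero)
    have hl2 : l * l = 1 := by
      have : l * l = (l * l') * (l * l'') * (l' * l'')⁻¹ := by
        rw [k1, k2, k3]
        have hl'0 : l' ≠ 0 := by
          intro h; rw [h, mul_zero] at k1; exact zero_ne_one k1
        have hl''0 : l'' ≠ 0 := by
          intro h; rw [h, mul_zero] at k2; exact zero_ne_one k2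
        have e1 : l = l'⁻¹ := eq_inv_of_mul_eq_one_left k1
        have e2 : l = l''⁻¹ := eq_inv_of_mul_eq_one_left k2
        have e3 : l' * l'' = 1 := k3
        have : l * l = l'⁻¹ * l''⁻¹ := by nth_rewrite 1 [e1]; rw [e2]
        rw [this, ← mul_inv, e3]
        simp
      rw [this, k1, k2, k3]
      simp
    -- odd order
    obtain ⟨k, hk⟩ := hodd
    have hpow : ∀ j : ℕ, mt Q ((n : ↥(Cfsg.isometryGroup F ⇑Q)) ^ j) *ᵥ e = l ^ j • e := by
      intro j
      induction j with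
      | zero => simp [mt_one_mulVec]
      | succ j ih =>
        rw [pow_succ, mt_mul_mulVec, hl, Matrix.mulVec_smul, ih, smul_smul, pow_succ, mul_comm]
    have h4 : (n : ↥(Cfsg.isometryGroup F ⇑Q)) ^ (2 * k + 1) = 1 := by
      have := pow_orderOf_eq_one n
      rw [hk] at this
      have := congrArg (fun t : ↥(SW Q W) => (t : ↥(Cfsg.isometryGroup F ⇑Q))) this
      simpa using this
    have h5 := hpow (2 * k + 1)
    rw [h4, mt_one_mulVec, pow_succ, pow_mul, pow_two, hl2, one_pow, one_mul] at h5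
    rw [hl, ← h5]
  apply Subtype.ext
  apply eq_one_of_fix hW n.2
  have := le_of_singular_mem Q W hW h3
    (LinearMap.ker (Matrix.mulVecLin (mt Q (n : ↥(Cfsg.isometryGroup F ⇑Q))) - LinearMap.id))
    (by
      intro v hv hQv
      rw [LinearMap.mem_ker, LinearMap.sub_apply, Matrix.mulVecLin_apply, LinearMap.id_apply,
        hone v hv hQv, sub_self])
  intro x hx
  have h := this hx
  rw [LinearMap.mem_ker, LinearMap.sub_apply, Matrix.mulVecLin_apply, LinearMap.id_apply,
    sub_eq_zero] at h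
  exact h

/-- **`SW` has no nontrivial normal subgroup of odd order** -/
theorem SW_core (h2 : (2 : F) ≠ 0) (hQ : (QuadraticMap.polarBilin Q).Nondegenerate)
    (hW : NDon Q W) (hd : finrank F W = 3 ∨ 5 ≤ finrank F W) (M : Subgroup ↥(SW Q W))
    [M.Normal] (hM : Odd (Nat.card ↥M)) : M = ⊥ := by
  have h3 : 3 ≤ finrank F W := by omega
  have hfix := fixes_of_odd_normal (S := ↥(SW Q W)) (X := Pt Q W) Opp U opp_symm opp_smul U_conj
    U_fix U_trans ?_ ?_ U_gen (U_odd h2 hW) (SW_even hQ hW h3) M hM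
  · rw [eq_bot_iff]
    intro n hn
    rw [Subgroup.mem_bot]
    apply eq_one_of_fix_pts hQ hW h3 n _ (hfix n hn)
    have h1 : orderOf (⟨n, hn⟩ : ↥M) ∣ Nat.card ↥M := orderOf_dvd_natCard _
    have h2 : orderOf (⟨n, hn⟩ : ↥M) = orderOf n := Subgroup.orderOf_mk n hn
    rw [h2] at h1
    exact hM.of_dvd_nat h1
  · -- common opposite point
    intro e z _ hopp
    have hez : B Q (gen e) (gen z) = 0 := by
      by_contra h
      exact hopp h
    obtain ⟨y, hyW, hQy, hey, hzy⟩ := exists_common hW (gen_mem e) (gen_mem z) (gen_ne e)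
      (gen_ne z) (gen_sing e) (gen_sing z) hez
    have hy0 : y ≠ 0 := by
      intro h
      rw [h] at hey
      simp [B] at hey
    refine ⟨Pt.mk' y hyW hy0 hQy, ?_, ?_⟩
    · rw [← mk'_gen e, opp_mk'_iff]
      exact hey
    · rw [← mk'_gen z, opp_mk'_iff]
      exact hzy
  · -- moving a non-opposite point
    intro e y hne hopp
    have hey : B Q (gen e) (gen y) = 0 := by
      by_contra h
      exact hopp h
    have hind : ∀ c : F, gen y ≠ c • gen e := by
      intro c hc
      apply hne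
      rw [← mk'_gen y, ← mk'_gen e, mk'_eq_iff]
      have hc0 : c ≠ 0 := by
        intro h
        rw [h, zero_smul] at hc
        exact gen_ne y hc
      refine ⟨c⁻¹, inv_ne_zero hc0, ?_⟩
      rw [hc, smul_smul, inv_mul_cancel₀ hc0, one_smul]
    obtain ⟨p, w, hpW, hwW, hQp, hpw, hpe, hwe, hpy, hQw⟩ := exists_mover hQ hW hd (gen_mem e)
      (gen_mem y) (gen_ne e) (gen_sing e) (gen_sing y) hey hind
    refine ⟨⟨siegO Q p w hQp hpw, siegO_mem_SW Q W _ _ hpW hwW⟩, ?_, ?_⟩
    · conv_rhs => rw [← mk'_gen e]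
      rw [smul_def, mk'_eq_iff]
      refine ⟨1, one_ne_zero, ?_⟩
      rw [one_smul]
      show gen e = mt Q (siegO Q p w hQp hpw) *ᵥ gen e
      rw [siegO_mulVec, hpe, hwe]
      simp
    · conv_lhs => rw [← mk'_gen y]
      rw [smul_def, opp_mk'_iff]
      show B Q (gen y) (mt Q (siegO Q p w hQp hpw) *ᵥ gen y) ≠ 0
      rw [siegO_mulVec, B_sub_right', B_sub_right', B_add_right', B_smul_right', B_smul_right',
        B_smul_right', B_self, gen_sing y, B_comm Q (gen y) w, B_comm Q (gen y) p]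
      have : 2 * 0 + B Q p (gen y) * B Q w (gen y) - B Q w (gen y) * B Q p (gen y) -
          Q w * B Q p (gen y) * B Q p (gen y) = -(Q w * B Q p (gen y) * B Q p (gen y)) := by ring
      rw [this]
      exact neg_ne_zero.2 (mul_ne_zero (mul_ne_zero hQw hpy) hpy)

end Cfsg.Agent.Helper28.LB
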