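import Mathlib

set_option autoImplicit false
set_option linter.unusedSectionVars false

/-! Abstract lemmas on subgroups without nontrivial normal subgroups of odd order. -/

namespace Cfsg.Agent.Helper28.LB

variable {G : Type*} [Group G]

/-- `L` has no nontrivial subgroup of odd order normalised by `L` -/
def NoOddNormal (L : Subgroup G) : Prop :=
  ∀ M : Subgroup G, M ≤ L → (∀ s ∈ L, ∀ n ∈ M, s * n * s⁻¹ ∈ M) → Odd (Nat.card ↥M) → M = ⊥

theorem noOdd_bot : NoOddNormal (⊥ : Subgroup G) := by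
  intro M hM _ _
  exact le_bot_iff.1 hM

/-- transfer from normal subgroups of the subgroup type -/
theorem noOdd_of_subtype (L : Subgroup G)
    (h : ∀ M : Subgroup ↥L, M.Normal → Odd (Nat.card ↥M) → M = ⊥) : NoOddNormal L := by
  intro M hM hnorm hodd
  have hn : (M.subgroupOf L).Normal := by
    constructor
    intro n hn s
    rw [Subgroup.mem_subgroupOf] at hn ⊢
    exact hnorm s.1 s.2 n.1 hn
  have hcard : Nat.card ↥(M.subgroupOf L) = Nat.card ↥M :=
    Nat.card_congr (Subgroup.subgroupOfEquivOfLe hM).toEquiv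
  have h1 := h (M.subgroupOf L) hn (by rw [hcard]; exact hodd)
  rw [Subgroup.subgroupOf_eq_bot] at h1
  exact disjoint_self.1 (h1.mono_right hM)

/-- a central element of a subgroup without odd normal subgroups has order a power of two -/
theorem orderOf_central_of_noOdd [Finite G] {L : Subgroup G} (hL : NoOddNormal L) {a : G}
    (haL : a ∈ L) (hc : ∀ s ∈ L, s * a = a * s) : ∃ i : ℕ, a ^ (2 ^ i) = 1 := by
  have ho : orderOf a ≠ 0 := (orderOf_pos a).ne'
  obtain ⟨i, d, hd, hid⟩ := Nat.exists_eq_two_pow_mul_odd ho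
  refine ⟨i, ?_⟩
  have h2 : (2 : ℕ) ^ i ≠ 0 := pow_ne_zero _ (by norm_num)
  have hord : orderOf (a ^ (2 ^ i)) = d := by
    rw [orderOf_pow_of_dvd h2 (by rw [hid]; exact dvd_mul_right _ _), hid,
      Nat.mul_div_cancel_left _ (Nat.pos_of_ne_zero h2)]
  have hz : Subgroup.zpowers (a ^ (2 ^ i)) = ⊥ := by
    apply hL
    · rw [Subgroup.zpowers_le]
      exact L.pow_mem haL _
    · intro s hs n hn
      have hcomm : s * n = n * s := by
        obtain ⟨j, rfl⟩ := hn
        have h3 : Commute s a := hc s hs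
        exact ((h3.pow_right (2 ^ i)).zpow_right j).eq
      rw [hcomm, mul_inv_cancel_right]
      exact hn
    · rw [Nat.card_zpowers, hord]
      exact hd
  have := Subgroup.mem_zpowers (a ^ (2 ^ i))
  rw [hz, Subgroup.mem_bot] at this
  exact this

/-- two commuting subgroups without odd normal subgroups -/
theorem noOdd_sup [Finite G] {A B : Subgroup G} (hA : NoOddNormal A) (hB : NoOddNormal B)
    (hcomm : ∀ a ∈ A, ∀ b ∈ B, a * b = b * a) : NoOddNormal (A ⊔ B) := by
  have hprod : ∀ x ∈ A ⊔ B, ∃ a ∈ A, ∃ b ∈ B, x = a * b := by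
    intro x hx
    rw [Subgroup.sup_eq_closure] at hx
    induction hx using Subgroup.closure_induction with
    | mem y hy =>
      rcases hy with hy | hy
      · exact ⟨y, hy, 1, B.one_mem, (mul_one y).symm⟩
      · exact ⟨1, A.one_mem, y, hy, (one_mul y).symm⟩
    | one => exact ⟨1, A.one_mem, 1, B.one_mem, (one_mul 1).symm⟩
    | mul y z _ _ hy hz =>
      obtain ⟨a, ha, b, hb, rfl⟩ := hy
      obtain ⟨a', ha', b', hb', rfl⟩ := hz
      refine ⟨a * a', A.mul_mem ha ha', b * b', B.mul_mem hb hb', ?_⟩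
      have := hcomm a' ha' b hb
      calc a * b * (a' * b') = a * (b * a') * b' := by group
        _ = a * (a' * b) * b' := by rw [this]
        _ = a * a' * (b * b') := by group
    | inv y _ hy =>
      obtain ⟨a, ha, b, hb, rfl⟩ := hy
      refine ⟨a⁻¹, A.inv_mem ha, b⁻¹, B.inv_mem hb, ?_⟩
      have := hcomm a ha b hb
      rw [this, mul_inv_rev]
  -- both factors are normal in the join
  have hAn : ∀ x ∈ A ⊔ B, ∀ a ∈ A, x * a * x⁻¹ ∈ A := by
    intro x hx a ha
    obtain ⟨a', ha', b', hb', rfl⟩ := hprod x hx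
    have h1 : b' * a * b'⁻¹ = a := by rw [← hcomm a ha b' hb', mul_inv_cancel_right]
    have : a' * b' * a * (a' * b')⁻¹ = a' * (b' * a * b'⁻¹) * a'⁻¹ := by group
    rw [this, h1]
    exact A.mul_mem (A.mul_mem ha' ha) (A.inv_mem ha')
  have hBn : ∀ x ∈ A ⊔ B, ∀ b ∈ B, x * b * x⁻¹ ∈ B := by
    intro x hx b hb
    obtain ⟨a', ha', b', hb', rfl⟩ := hprod x hx
    have h1 : a' * (b' * b * b'⁻¹) * a'⁻¹ = b' * b * b'⁻¹ := by
      rw [hcomm a' ha' _ (B.mul_mem (B.mul_mem hb' hb) (B.inv_mem hb')), mul_inv_cancel_right]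
    have : a' * b' * b * (a' * b')⁻¹ = a' * (b' * b * b'⁻¹) * a'⁻¹ := by group
    rw [this, h1]
    exact B.mul_mem (B.mul_mem hb' hb) (B.inv_mem hb')
  intro M hM hnorm hodd
  have hMA : M ⊓ A = ⊥ := by
    apply hA _ inf_le_right
    · intro s hs n hn
      exact ⟨hnorm s (Subgroup.mem_sup_left hs) n hn.1, A.mul_mem (A.mul_mem hs hn.2) (A.inv_mem hs)⟩
    · exact hodd.of_dvd_nat (Subgroup.card_dvd_of_le inf_le_left)
  have hMB : M ⊓ B = ⊥ := by
    apply hB _ inf_le_right
    · intro s hs n hn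
      exact ⟨hnorm s (Subgroup.mem_sup_right hs) n hn.1, B.mul_mem (B.mul_mem hs hn.2) (B.inv_mem hs)⟩
    · exact hodd.of_dvd_nat (Subgroup.card_dvd_of_le inf_le_left)
  have hcA : ∀ m ∈ M, ∀ a ∈ A, m * a = a * m := by
    intro m hm a ha
    have h1 : m * a * m⁻¹ * a⁻¹ ∈ M ⊓ A := by
      refine ⟨?_, A.mul_mem (hAn m (hM hm) a ha) (A.inv_mem ha)⟩
      have := hnorm a (Subgroup.mem_sup_left ha) m⁻¹ (M.inv_mem hm)
      have e : m * a * m⁻¹ * a⁻¹ = m * (a * m⁻¹ * a⁻¹) := by group
      rw [e]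
      exact M.mul_mem hm this
    rw [hMA, Subgroup.mem_bot] at h1
    have : m * a = (m * a * m⁻¹ * a⁻¹) * (a * m) := by group
    rw [this, h1, one_mul]
  have hcB : ∀ m ∈ M, ∀ b ∈ B, m * b = b * m := by
    intro m hm b hb
    have h1 : m * b * m⁻¹ * b⁻¹ ∈ M ⊓ B := by
      refine ⟨?_, B.mul_mem (hBn m (hM hm) b hb) (B.inv_mem hb)⟩
      have := hnorm b (Subgroup.mem_sup_right hb) m⁻¹ (M.inv_mem hm)
      have e : m * b * m⁻¹ * b⁻¹ = m * (b * m⁻¹ * b⁻¹) := by group
      rw [e]
      exact M.mul_mem hm this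
    rw [hMB, Subgroup.mem_bot] at h1
    have : m * b = (m * b * m⁻¹ * b⁻¹) * (b * m) := by group
    rw [this, h1, one_mul]
  rw [eq_bot_iff]
  intro m hm
  rw [Subgroup.mem_bot]
  obtain ⟨a, ha, b, hb, hmab⟩ := hprod m (hM hm)
  have hab : a * b = b * a := hcomm a ha b hb
  -- `a` is central in `A`, `b` is central in `B`
  have hac : ∀ s ∈ A, s * a = a * s := by
    intro s hs
    have h1 := hcA m hm s hs
    have h2 := hcomm s hs b hb
    have ea : a = m * b⁻¹ := by rw [hmab, mul_inv_cancel_right]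
    have h3 : s * b⁻¹ = b⁻¹ * s := by
      have := hcomm s hs b⁻¹ (B.inv_mem hb)
      exact this
    calc s * a = s * (m * b⁻¹) := by rw [← ea]
      _ = (s * m) * b⁻¹ := by group
      _ = (m * s) * b⁻¹ := by rw [h1]
      _ = m * (s * b⁻¹) := by group
      _ = m * (b⁻¹ * s) := by rw [h3]
      _ = (m * b⁻¹) * s := by group
      _ = a * s := by rw [← ea]
  have hbc : ∀ s ∈ B, s * b = b * s := by
    intro s hs
    have h1 := hcB m hm s hs
    have eb : b = a⁻¹ * m := by rw [hmab, inv_mul_cancel_left]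
    have h3 : a⁻¹ * s = s * a⁻¹ := hcomm a⁻¹ (A.inv_mem ha) s hs
    calc s * b = s * (a⁻¹ * m) := by rw [← eb]
      _ = (s * a⁻¹) * m := by group
      _ = (a⁻¹ * s) * m := by rw [h3]
      _ = a⁻¹ * (s * m) := by group
      _ = a⁻¹ * (m * s) := by rw [h1]
      _ = (a⁻¹ * m) * s := by group
      _ = b * s := by rw [← eb]
  obtain ⟨i, hi⟩ := orderOf_central_of_noOdd hA ha hac
  obtain ⟨j, hj⟩ := orderOf_central_of_noOdd hB hb hbc
  have hpow : m ^ (2 ^ (i + j)) = 1 := by
    have hc : Commute a b := hab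
    rw [hmab, hc.mul_pow, pow_add, pow_mul, hi, one_pow, mul_comm (2 ^ i) (2 ^ j), pow_mul, hj,
      one_pow, one_mul]
  have h1 : orderOf m ∣ 2 ^ (i + j) := orderOf_dvd_of_pow_eq_one hpow
  have h2 : Odd (orderOf m) := by
    have h3 : orderOf (⟨m, hm⟩ : ↥M) ∣ Nat.card ↥M := orderOf_dvd_natCard _
    rw [Subgroup.orderOf_mk] at h3
    exact hodd.of_dvd_nat h3
  have h4 : (orderOf m).Coprime (2 ^ (i + j)) :=
    (Nat.coprime_two_left.2 h2).symm.pow_right _
  have := Nat.Coprime.eq_one_of_dvd h4 h1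
  exact orderOf_eq_one_iff.1 this


/-- the image under a homomorphism whose kernel on `L` is central of exponent two -/
theorem noOdd_map [Finite G] {H : Type*} [Group H] (f : G →* H) {L : Subgroup G}
    (hL : NoOddNormal L)
    (hker : ∀ z ∈ L, f z = 1 → z * z = 1 ∧ ∀ s ∈ L, s * z = z * s) :
    NoOddNormal (L.map f) := by
  intro M hM hnorm hodd
  obtain ⟨N, hN⟩ : ∃ N : Subgroup G, N = L ⊓ M.comap f := ⟨_, rfl⟩
  have hNL : N ≤ L := by rw [hN]; exact inf_le_left
  have hmemN : ∀ x, x ∈ N ↔ x ∈ L ∧ f x ∈ M := by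
    intro x
    rw [hN]
    exact Iff.rfl
  let fN : ↥N →* H := f.comp N.subtype
  have hrange : fN.range ≤ M := by
    rintro _ ⟨n, rfl⟩
    exact ((hmemN _).1 n.2).2
  have hidx : Odd fN.ker.index := by
    rw [Subgroup.index_ker]
    exact hodd.of_dvd_nat (Subgroup.card_dvd_of_le hrange)
  have hexp : ∀ z : ↥fN.ker, z * z = 1 := by
    intro z
    have hz : f (z : ↥N) = 1 := z.2
    have := (hker _ (hNL (z : ↥N).2) hz).1
    apply Subtype.ext
    apply Subtype.ext
    exact this
  have hcent : ∀ (z : ↥N), z ∈ fN.ker → ∀ x : ↥N, x * z = z * x := by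
    intro z hz x
    have hz' : f (z : G) = 1 := hz
    have := (hker _ (hNL z.2) hz').2 x.1 (hNL x.2)
    exact Subtype.ext this
  have hp : Fact (Nat.Prime 2) := ⟨Nat.prime_two⟩
  have hpg : IsPGroup 2 ↥fN.ker := by
    intro z
    refine ⟨1, ?_⟩
    rw [pow_one, pow_two]
    exact hexp z
  obtain ⟨n, hn⟩ := (IsPGroup.iff_card (p := 2)).1 hpg
  have hcop : (Nat.card ↥fN.ker).Coprime fN.ker.index := by
    rw [hn]
    exact (Nat.coprime_two_left.2 hidx).pow_left _
  obtain ⟨K, hK⟩ := Subgroup.exists_right_complement'_of_coprime hcop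
  have hKcard : Nat.card ↥K = fN.ker.index := by
    have h1 := hK.card_mul_card
    have h2 := Subgroup.card_mul_index fN.ker
    have hpos : 0 < Nat.card ↥fN.ker := Nat.card_pos
    exact Nat.eq_of_mul_eq_mul_left hpos (h1.trans h2.symm)
  -- the complement is the set of elements of odd order
  have hKodd : ∀ x : ↥N, x ∈ K ↔ Odd (orderOf x) := by
    intro x
    constructor
    · intro hx
      have h3 : orderOf (⟨x, hx⟩ : ↥K) ∣ Nat.card ↥K := orderOf_dvd_natCard _
      rw [Subgroup.orderOf_mk, hKcard] at h3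
      exact hidx.of_dvd_nat h3
    · intro hx
      have hsup := hK.sup_eq_top
      have hxs : x ∈ fN.ker ⊔ K := by rw [hsup]; exact Subgroup.mem_top x
      rw [sup_comm, Subgroup.mem_sup_of_normal_right] at hxs
      obtain ⟨k, hk, z, hz, rfl⟩ := hxs
      have hcz : Commute k z := hcent z hz k
      have hpow := pow_orderOf_eq_one (k * z)
      rw [hcz.mul_pow] at hpow
      obtain ⟨j, hj⟩ := hx
      have hz2 : z * z = 1 := by
        have := hexp ⟨z, hz⟩
        exact congrArg Subtype.val this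
      have hzo : z ^ orderOf (k * z) = z := by
        rw [hj, pow_succ, pow_mul, pow_two, hz2, one_pow, one_mul]
      rw [hzo] at hpow
      have hzK : z ∈ K := by
        have : z = (k ^ orderOf (k * z))⁻¹ := eq_inv_of_mul_eq_one_right hpow
        rw [this]
        exact K.inv_mem (K.pow_mem hk _)
      have hdisj := hK.disjoint
      have hz1 : z = 1 := by
        have : z ∈ fN.ker ⊓ K := ⟨hz, hzK⟩
        rw [hdisj.eq_bot, Subgroup.mem_bot] at this
        exact this
      rw [hz1, mul_one]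
      exact hk
  -- the complement is normalised by `L`
  have hK0 : K.map N.subtype = ⊥ := by
    apply hL
    · rintro _ ⟨k, _, rfl⟩
      exact hNL k.2
    · rintro s hs _ ⟨k, hk, rfl⟩
      have hmem : s * (k : G) * s⁻¹ ∈ N := by
        rw [hmemN]
        refine ⟨L.mul_mem (L.mul_mem hs (hNL k.2)) (L.inv_mem hs), ?_⟩
        rw [map_mul, map_mul, map_inv]
        apply hnorm _ ⟨s, hs, rfl⟩
        exact ((hmemN _).1 k.2).2
      refine ⟨⟨_, hmem⟩, ?_, rfl⟩
      rw [SetLike.mem_coe, hKodd]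
      have h1 := (hKodd k).1 hk
      have e1 : orderOf (⟨s * (k : G) * s⁻¹, hmem⟩ : ↥N) = orderOf (s * (k : G) * s⁻¹) :=
        Subgroup.orderOf_mk _ _
      have e2 : orderOf (s * (k : G) * s⁻¹) = orderOf (k : G) := by
        have := orderOf_injective (MulAut.conj s).toMonoidHom (MulAut.conj s).injective (k : G)
        simpa using this
      have e3 : orderOf (k : G) = orderOf k := Subgroup.orderOf_coe k
      rw [e1, e2, e3]
      exact h1
    · have : Nat.card ↥(K.map N.subtype) = Nat.card ↥K :=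
        (Nat.card_congr (Subgroup.equivMapOfInjective K N.subtype
          (Subgroup.subtype_injective N)).toEquiv).symm
      rw [this, hKcard]
      exact hidx
  have hKbot : K = ⊥ := by
    rw [eq_bot_iff]
    intro k hk
    have : (k : G) ∈ K.map N.subtype := ⟨k, hk, rfl⟩
    rw [hK0, Subgroup.mem_bot] at this
    rw [Subgroup.mem_bot]
    exact Subtype.ext this
  have hidx1 : fN.ker.index = 1 := by
    rw [← hKcard, hKbot, Subgroup.card_bot]
  have hkertop : fN.ker = ⊤ := Subgroup.index_eq_one.1 hidx1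
  rw [eq_bot_iff]
  intro m hm
  obtain ⟨x, hxL, rfl⟩ := hM hm
  have hxN : x ∈ N := (hmemN x).2 ⟨hxL, hm⟩
  have : (⟨x, hxN⟩ : ↥N) ∈ fN.ker := by rw [hkertop]; exact Subgroup.mem_top _
  rw [Subgroup.mem_bot]
  exact this

/-- if all squares lie in the commutator subgroup, so do all elements of odd order -/
theorem mem_commutator_of_odd (hsq : ∀ g : G, g ^ 2 ∈ commutator G) {s : G}
    (hs : Odd (orderOf s)) : s ∈ commutator G := by
  obtain ⟨j, hj⟩ := hs
  have h1 : s = (s ^ (j + 1)) ^ 2 := by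
    rw [← pow_mul]
    have : (j + 1) * 2 = orderOf s + 1 := by rw [hj]; ring
    rw [this, pow_succ, pow_orderOf_eq_one, one_mul]
  rw [h1]
  exact hsq _

/-- if the group is generated by involutions, all squares lie in the commutator subgroup -/
theorem sq_mem_commutator (S : Set G) (hS : ∀ r ∈ S, r * r = 1)
    (hgen : ∀ H : Subgroup G, (∀ r ∈ S, r ∈ H) → ∀ g, g ∈ H) (g : G) : g ^ 2 ∈ commutator G := by
  let φ : G →* Abelianization G := (powMonoidHom 2).comp Abelianization.of
  have h1 : ∀ g, g ∈ φ.ker := by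
    apply hgen
    intro r hr
    rw [MonoidHom.mem_ker]
    show (Abelianization.of r) ^ 2 = 1
    rw [← map_pow, pow_two, hS r hr, map_one]
  have h2 := h1 g
  rw [MonoidHom.mem_ker] at h2
  have h3 : Abelianization.of (g ^ 2) = 1 := by
    rw [map_pow]
    exact h2
  rw [← Abelianization.ker_of G]
  exact h3

end Cfsg.Agent.Helper28.LB
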