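import Mathlib
import Cfsg.Agent.Helper28.LocBal5
import Cfsg.Agent.Helper28.LocBal7

set_option autoImplicit false
set_option linter.unusedSectionVars false

/-! Further properties of Siegel transformations: odd order, commutation. -/

namespace Cfsg.Agent.Helper28.LB

open Matrix Module Cfsg.Agent.Helper28.Sg Cfsg.Agent.Helper28.Spin Cfsg.Agent.Helper28.NDM
  Cfsg.Agent.Helper28.OFN Cfsg.Agent.Helper28.PDN

variable {F : Type*} [Field F] [Fintype F] {ι : Type} [Fintype ι] [DecidableEq ι]
  {Q : QuadraticForm F (ι → F)}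

theorem siegO_pow {u v : ι → F} (hu : Q u = 0) (huv : B Q u v = 0) (n : ℕ)
    (hn : B Q u (n • v) = 0) : siegO Q u v hu huv ^ n = siegO Q u (n • v) hu hn := by
  induction n with
  | zero =>
    rw [pow_zero]
    symm
    have h0 : B Q u 0 = 0 := QuadraticMap.polar_zero_right _ _
    rw [← siegO_zero Q u hu h0]
    exact siegO_congr Q _ _ _ _ rfl (zero_smul _ _)
  | succ n ih =>
    have hn' : B Q u (n • v) = 0 := by
      rw [← Nat.cast_smul_eq_nsmul F]
      exact B_smul_right_zero Q _ huv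
    rw [pow_succ, ih hn', siegO_mul Q hu hn' huv (B_add_right_zero Q hn' huv)]
    exact siegO_congr Q _ _ _ _ rfl (by rw [succ_nsmul])

/-- Siegel transformations have odd order in odd characteristic -/
theorem siegO_odd (h2 : (2 : F) ≠ 0) {u v : ι → F} (hu : Q u = 0) (huv : B Q u v = 0) :
    Odd (orderOf (siegO Q u v hu huv)) := by
  have hp : Nat.Prime (ringChar F) := CharP.char_is_prime F (ringChar F)
  have hp2 : ringChar F ≠ 2 := by
    intro h
    apply h2
    have := CharP.cast_eq_zero F (ringChar F)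
    rw [h] at this
    exact_mod_cast this
  have hodd : Odd (ringChar F) := hp.odd_of_ne_two hp2
  have h0 : (ringChar F) • v = 0 := by
    rw [← Nat.cast_smul_eq_nsmul F, CharP.cast_eq_zero F (ringChar F), zero_smul]
  have hn : B Q u ((ringChar F) • v) = 0 := by
    rw [h0]; exact QuadraticMap.polar_zero_right _ _
  have h1 : siegO Q u v hu huv ^ (ringChar F) = 1 := by
    rw [siegO_pow hu huv _ hn]
    have h00 : B Q u 0 = 0 := QuadraticMap.polar_zero_right _ _
    rw [← siegO_zero Q u hu h00]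
    exact siegO_congr Q _ _ _ _ rfl h0
  exact hodd.of_dvd_nat (orderOf_dvd_of_pow_eq_one h1)

/-- without nonzero singular vectors the group `SW` is trivial -/
theorem SW_eq_bot {W : Submodule F (ι → F)} (h : ∀ u ∈ W, Q u = 0 → u = 0) : SW Q W = ⊥ := by
  rw [eq_bot_iff]
  unfold SW
  rw [Subgroup.closure_le]
  rintro _ ⟨u, v, hu, huv, huW, hvW, rfl⟩
  have hu0 := h u huW hu
  subst hu0
  rw [SetLike.mem_coe, Subgroup.mem_bot]
  exact siegO_zero_left v hu huv

/-- a nondegenerate line has no nonzero singular vector -/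
theorem no_singular_of_finrank_one {W : Submodule F (ι → F)} (hW : NDon Q W)
    (h1 : finrank F W = 1) : ∀ u ∈ W, Q u = 0 → u = 0 := by
  intro u huW hQu
  by_contra hu0
  have hu0' : (⟨u, huW⟩ : ↥W) ≠ 0 := fun h => hu0 (congrArg Subtype.val h)
  have h2 := (finrank_eq_one_iff_of_nonzero' (⟨u, huW⟩ : ↥W) hu0').1 h1
  obtain ⟨y, hyW, huy⟩ := hW u huW hu0
  obtain ⟨c, hc⟩ := h2 ⟨y, hyW⟩
  have hc' : c • u = y := congrArg Subtype.val hc
  apply huy
  rw [← hc', B_smul_right', B_self, hQu]
  ring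

/-- `SW` of a nondegenerate subspace of odd dimension has no odd normal subgroups -/
theorem noOdd_SW (h2 : (2 : F) ≠ 0) (hQ : (QuadraticMap.polarBilin Q).Nondegenerate)
    {W : Submodule F (ι → F)} (hW : NDon Q W) (hodd : Odd (finrank F W)) :
    NoOddNormal (SW Q W) := by
  by_cases h1 : finrank F W = 1
  · rw [SW_eq_bot (no_singular_of_finrank_one hW h1)]
    exact noOdd_bot
  · have hd : finrank F W = 3 ∨ 5 ≤ finrank F W := by
      obtain ⟨j, hj⟩ := hodd
      omega
    apply noOdd_of_subtype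
    intro M hMn hM
    exact SW_core h2 hQ hW hd M hM

/-- Siegel transformations of orthogonal subspaces commute -/
theorem siegO_comm_perp {u v u' v' : ι → F} (hu : Q u = 0) (huv : B Q u v = 0) (hu' : Q u' = 0)
    (huv' : B Q u' v' = 0) (h1 : B Q u u' = 0) (h2 : B Q u v' = 0) (h3 : B Q v u' = 0)
    (h4 : B Q v v' = 0) :
    siegO Q u v hu huv * siegO Q u' v' hu' huv' = siegO Q u' v' hu' huv' * siegO Q u v hu huv := by
  have e1 : mt Q (siegO Q u v hu huv) *ᵥ u' = u' := by
    rw [siegO_mulVec, h1, h3]; simp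
  have e2 : mt Q (siegO Q u v hu huv) *ᵥ v' = v' := by
    rw [siegO_mulVec, h2, h4]; simp
  have hc := siegO_conj Q (siegO Q u v hu huv) hu' huv' (by rw [e1]; exact hu')
    (by rw [e1, e2]; exact huv')
  have : siegO Q (mt Q (siegO Q u v hu huv) *ᵥ u') (mt Q (siegO Q u v hu huv) *ᵥ v')
      (by rw [e1]; exact hu') (by rw [e1, e2]; exact huv') = siegO Q u' v' hu' huv' :=
    siegO_congr Q _ _ _ _ e1 e2
  rw [this] at hc
  exact mul_inv_eq_iff_eq_mul.1 hc

end Cfsg.Agent.Helper28.LB
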