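import Mathlib
import Cfsg.Agent.Helper28.LocBal6
import Cfsg.Agent.Helper28.LocBal9

set_option autoImplicit false
set_option linter.unusedSectionVars false

/-! A semilinear similarity commuting with the Siegel transformations of two complementary
orthogonal nondegenerate subspaces. -/

namespace Cfsg.Agent.Helper28.LB

open Matrix Module Cfsg.Agent.Helper28.Sg Cfsg.Agent.Helper28.Spin Cfsg.Agent.Helper28.NDM
  Cfsg.Agent.Helper28.OFN Cfsg.Agent.Helper28.PDN

variable {F : Type*} [Field F] [Fintype F] {ι : Type} [Fintype ι] [DecidableEq ι]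
  {Q : QuadraticForm F (ι → F)}

section pair

variable (T : (ι → F) → (ι → F)) (τ : F ≃+* F)
  (hadd : ∀ x y, T (x + y) = T x + T y) (hsmul : ∀ (a : F) x, T (a • x) = τ a • T x)
  (hinj : ∀ x, T x = 0 → x = 0) {W W' : Submodule F (ι → F)}
  (hcommW : ∀ (z w : ι → F) (hz : Q z = 0) (hzw : B Q z w = 0), z ∈ W → w ∈ W →
    ∀ x, T (mt Q (siegO Q z w hz hzw) *ᵥ x) = mt Q (siegO Q z w hz hzw) *ᵥ T x)
  (hcommW' : ∀ (z w : ι → F) (hz : Q z = 0) (hzw : B Q z w = 0), z ∈ W' → w ∈ W' →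
    ∀ x, T (mt Q (siegO Q z w hz hzw) *ᵥ x) = mt Q (siegO Q z w hz hzw) *ᵥ T x)
  (hsim : ∃ c : F, ∀ v, Q (T v) = c * τ (Q v))

include hadd hsmul hinj hcommW hcommW' hsim in
theorem scalar_pair (h2 : (2 : F) ≠ 0) (hQ : (QuadraticMap.polarBilin Q).Nondegenerate)
    (hW : NDon Q W) (hW' : NDon Q W') (hsup : W ⊔ W' = ⊤)
    (horth : ∀ x ∈ W, ∀ y ∈ W', B Q x y = 0) (h3' : 3 ≤ finrank F W')
    (hd : 3 ≤ finrank F W ∨ finrank F W = 1) :
    (∀ a, τ a = a) ∧ ∃ l l' : F, (∀ x ∈ W, T x = l • x) ∧ (∀ x ∈ W', T x = l' • x) ∧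
      l * l = l' * l' := by
  obtain ⟨hτ, l', hl'0, hl'⟩ := scalar_of_comm T τ hadd hsmul hinj hcommW' h2 hQ hW' h3'
  obtain ⟨c, hc⟩ := hsim
  have hcB : ∀ x y, B Q (T x) (T y) = c * B Q x y := by
    intro x y
    show QuadraticMap.polar (⇑Q) (T x) (T y) = c * QuadraticMap.polar (⇑Q) x y
    unfold QuadraticMap.polar
    rw [← hadd, hc, hc, hc, hτ, hτ, hτ]
    ring
  refine ⟨hτ, ?_⟩
  have hl : ∃ l : F, ∀ x ∈ W, T x = l • x := by
    rcases hd with h3 | h1
    · obtain ⟨-, l, -, hl⟩ := scalar_of_comm T τ hadd hsmul hinj hcommW h2 hQ hW h3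
      exact ⟨l, hl⟩
    · -- `T` preserves `W`
      have hTW : ∀ w ∈ W, T w ∈ W := by
        intro w hw
        have hmem : T w ∈ W ⊔ W' := by rw [hsup]; exact Submodule.mem_top
        obtain ⟨a, ha, b, hb, hab⟩ := Submodule.mem_sup.1 hmem
        have hb0 : b = 0 := by
          by_contra hne
          obtain ⟨y, hy, hby⟩ := hW' b hb hne
          apply hby
          have h5 : B Q (T w) y = 0 := by
            have e : y = T (l'⁻¹ • y) := by
              rw [hl' _ (W'.smul_mem _ hy), smul_smul, mul_inv_cancel₀ hl'0, one_smul]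
            rw [e, hcB, horth w hw _ (W'.smul_mem _ hy), mul_zero]
          rw [← hab, B_add_left', horth a ha y hy, zero_add] at h5
          exact h5
        rw [← hab, hb0, add_zero]
        exact ha
      have hpos : 0 < finrank F W := by omega
      obtain ⟨⟨w₀, hw₀W⟩, hw₀⟩ := (Module.finrank_pos_iff_exists_ne_zero (R := F)).1 hpos
      have hspan := (finrank_eq_one_iff_of_nonzero' (⟨w₀, hw₀W⟩ : ↥W) hw₀).1 h1
      obtain ⟨l, hl⟩ := hspan ⟨T w₀, hTW w₀ hw₀W⟩
      have hl' : l • w₀ = T w₀ := congrArg Subtype.val hl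
      refine ⟨l, fun x hx => ?_⟩
      obtain ⟨a, ha⟩ := hspan ⟨x, hx⟩
      have ha' : a • w₀ = x := congrArg Subtype.val ha
      rw [← ha', hsmul, hτ, ← hl', smul_comm]
  obtain ⟨l, hl⟩ := hl
  refine ⟨l, l', hl, hl', ?_⟩
  have key : ∀ (N : Submodule F (ι → F)) (m : F), NDon Q N → 0 < finrank F N →
      (∀ x ∈ N, T x = m • x) → m * m = c := by
    intro N m hN hpos hm
    obtain ⟨⟨x, hxN⟩, hx0⟩ := (Module.finrank_pos_iff_exists_ne_zero (R := F)).1 hpos
    have hx0' : x ≠ 0 := fun h => hx0 (Subtype.ext h)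
    obtain ⟨w, hwN, hQw⟩ := exists_nonsing hN hxN hx0'
    have h5 := hc w
    rw [hm w hwN, Q_smul, hτ] at h5
    have : (m * m - c) * Q w = 0 := by linear_combination h5
    rcases mul_eq_zero.1 this with h | h
    · exact sub_eq_zero.1 h
    · exact absurd h hQw
  rw [key W l hW (by omega) hl, key W' l' hW' (by omega) hl']

end pair

end Cfsg.Agent.Helper28.LB
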