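import Mathlib
import Cfsg.Prelude.Def_LieTypeDatum
import Cfsg.Agent.Helper28.LocBal7
import Cfsg.Agent.Helper28.FieldS1
import Cfsg.Agent.Helper28.FieldB4
import Cfsg.Agent.Helper28.GraphInv9
import Cfsg.Agent.Helper28.GammaCount6
import Cfsg.Agent.Helper28.OmegaCenter

set_option autoImplicit false
set_option linter.unusedSectionVars false

/-! The `2'`-core of the centralizer of an involutory similarity-induced automorphism of `PΩ` is
trivial, given a model subgroup of the centralizer generated by elements of odd order. -/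

namespace Cfsg.Agent.Helper28.LB

open Matrix Module Cfsg.Agent.Helper28.Sg Cfsg.Agent.Helper28.Spin Cfsg.Agent.Helper28.PG
  Cfsg.Agent.Helper28.PA Cfsg.Agent.Helper28.SSim Cfsg.Agent.Helper28.FO Cfsg.Agent.Helper28.FB
  Cfsg.Agent.Helper28.GInv Cfsg.Agent.Helper28.GC Cfsg.Agent.Helper28.FS

variable {F : Type*} [Field F] [Fintype F] [DecidableEq F] {ι : Type} [Fintype ι] [DecidableEq ι]
  (Q : QuadraticForm F (ι → F))

/-- elements of odd order of the isometry group lie in `Ω` -/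
theorem mem_Omega_of_odd
    (hgen : ∀ (H : Subgroup ↥(Cfsg.isometryGroup F ⇑Q)),
      (∀ (v : ι → F) (hv : Q v ≠ 0), reflO Q v hv ∈ H) → ∀ g, g ∈ H)
    {s : ↥(Cfsg.isometryGroup F ⇑Q)} (hs : Odd (orderOf s)) : s ∈ Cfsg.Omega F ⇑Q := by
  apply mem_commutator_of_odd _ hs
  apply sq_mem_commutator {r | ∃ (v : ι → F) (hv : Q v ≠ 0), r = reflO Q v hv}
  · rintro r ⟨v, hv, rfl⟩
    exact reflO_mul_self Q v hv
  · intro H hH
    apply hgen
    intro v hv
    exact hH _ ⟨v, hv, rfl⟩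

theorem induced_congr {g g' : GL ι F} {σ σ' : F ≃+* F}
    {β β' : Cfsg.POmega F ⇑Q ≃* Cfsg.POmega F ⇑Q} (hg : g = g') (hσ : σ = σ') (hβ : β = β')
    (h : Cfsg.IsInducedBySemilinearPOmega (⇑Q) g σ β) :
    Cfsg.IsInducedBySemilinearPOmega (⇑Q) g' σ' β' := by
  subst hg; subst hσ; subst hβ; exact h

theorem semisim_congr {g g' : GL ι F} {σ σ' : F ≃+* F} (hg : g = g') (hσ : σ = σ')
    (h : Cfsg.IsSemisimilarityPair (⇑Q) g σ) : Cfsg.IsSemisimilarityPair (⇑Q) g' σ' := by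
  subst hg; subst hσ; exact h

/-- an automorphism commuting with `cG g` is induced by a pair normalising `g` up to a scalar -/
theorem exists_scalar_of_comm (hQ : (QuadraticMap.polarBilin Q).Nondegenerate) (fr : Frame3 Q)
    (hperf : commutator ↥(Cfsg.Omega F ⇑Q) = ⊤) (g : ↥(GO Q)) {h : GL ι F} {τ : F ≃+* F}
    (hp : Cfsg.IsSemisimilarityPair (⇑Q) h τ) {γ : MulAut (Cfsg.POmega F ⇑Q)}
    (hind : Cfsg.IsInducedBySemilinearPOmega (⇑Q) h τ γ) (hγ : γ * cG Q g = cG Q g * γ) :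
    ∃ ζ : F, (h : Matrix ι ι F) * (mg Q g).map τ * ((h⁻¹ : GL ι F) : Matrix ι ι F) =
      ζ • mg Q g := by
  have e1 : (RingEquiv.refl F).trans τ = τ := by ext x; rfl
  have e2 : τ.trans (RingEquiv.refl F) = τ := by ext x; rfl
  have e3 : τ.symm.trans τ = RingEquiv.refl F := by ext x; simp
  have hp1 := semisim_congr Q rfl e1 (semisim_mul (⇑Q) hp (semisim_GO g))
  have hi1 := induced_congr Q rfl e1 rfl (induced_mul (⇑Q) hp (semisim_GO g) hind (induced_cG g))
  have hp2 := semisim_congr Q (by rw [mapGL_refl]) e2 (semisim_mul (⇑Q) (semisim_GO g) hp)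
  have hi2 := induced_congr Q (g' := (g : GL ι F) * h) (by rw [mapGL_refl]) e2 rfl
    (induced_mul (⇑Q) (semisim_GO g) hp (induced_cG g) hind)
  have hp3 := semisim_inv (⇑Q) hp2
  have hi3 := induced_inv (⇑Q) hp2 hi2
  have hone : (γ * cG Q g) * (cG Q g * γ)⁻¹ = 1 := by rw [hγ, mul_inv_cancel]
  have hp4 := semisim_congr Q (g' := h * mapGL τ (g : GL ι F) * ((g : GL ι F) * h)⁻¹)
    (by rw [mapGL_symm_apply]) e3 (semisim_mul (⇑Q) hp1 hp3)
  have hi4 := induced_congr Q (g' := h * mapGL τ (g : GL ι F) * ((g : GL ι F) * h)⁻¹)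
    (β' := (1 : MulAut (Cfsg.POmega F ⇑Q)))
    (by rw [mapGL_symm_apply]) e3 hone (induced_mul (⇑Q) hp1 hp3 hi1 hi3)
  have hP : h * mapGL τ (g : GL ι F) * ((g : GL ι F) * h)⁻¹ ∈ GO Q := by
    obtain ⟨c, hc⟩ := hp4
    exact ⟨c, hc⟩
  have h5 : (1 : MulAut (Cfsg.POmega F ⇑Q)) = cG Q ⟨_, hP⟩ := (induced_iff Q _ hP _).1 hi4
  obtain ⟨ζ, hζ⟩ := ker_cG Q hQ fr hperf _ h5.symm
  refine ⟨ζ, ?_⟩
  have h6 : ((h * mapGL τ (g : GL ι F) * ((g : GL ι F) * h)⁻¹ : GL ι F) : Matrix ι ι F) =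
      ζ • 1 := by
    apply Spin.matrix_ext_mulVec
    intro x
    rw [Matrix.smul_mulVec, Matrix.one_mulVec]
    exact hζ x
  have h7 : h * mapGL τ (g : GL ι F) * h⁻¹ =
      (h * mapGL τ (g : GL ι F) * ((g : GL ι F) * h)⁻¹) * (g : GL ι F) := by group
  have h8 := congrArg (fun t : GL ι F => (t : Matrix ι ι F)) h7
  simp only [Units.val_mul] at h8
  rw [Units.val_mul, Units.val_mul] at h6
  rw [h6] at h8
  rw [mapGL_val] at h8
  rw [h8, Matrix.smul_mul, Matrix.one_mul]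


/-- a scalar isometry squares to one and is central -/
theorem scalar_isom (hex : ∃ v : ι → F, Q v ≠ 0) {z : ↥(Cfsg.isometryGroup F ⇑Q)} {l : F}
    (hl : ∀ x, mt Q z *ᵥ x = l • x) : z * z = 1 := by
  obtain ⟨v, hv⟩ := hex
  have h1 := Spin.isom_apply Q z v
  rw [show ((z : GL ι F) : Matrix ι ι F) *ᵥ v = l • v from hl v, Q_smul] at h1
  have hl2 : l * l = 1 := by
    have : (l * l - 1) * Q v = 0 := by linear_combination h1
    rcases mul_eq_zero.1 this with h | h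
    · linear_combination h
    · exact absurd h hv
  apply O_ext
  intro x
  rw [mt_mul_mulVec, hl, hl, smul_smul, hl2, one_smul, mt_one_mulVec]

/-- **the `2'`-core of the centralizer of an involutory similarity, from a model subgroup** -/
theorem core_two_of_model [Nonempty ι] (hQ : (QuadraticMap.polarBilin Q).Nondegenerate)
    (fr : Frame3 Q)
    (hgen : ∀ (H : Subgroup ↥(Cfsg.isometryGroup F ⇑Q)),
      (∀ (v : ι → F) (hv : Q v ≠ 0), reflO Q v hv ∈ H) → ∀ g, g ∈ H)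
    (htop : Cfsg.gammaPOmega F ⇑Q = ⊤) (hex : ∃ v : ι → F, Q v ≠ 0) {k : ℕ}
    (hk : Fintype.card ι = 2 * k) (h2 : (2 : F) ≠ 0) (h6 : 6 ≤ Fintype.card ι)
    (g : ↥(GO Q)) (hx1 : cG Q g ≠ 1) (hg2 : cG Q g * cG Q g = 1)
    (Gen : Set ↥(Cfsg.isometryGroup F ⇑Q))
    (hGodd : ∀ s ∈ Gen, Odd (orderOf s))
    (hGcomm : ∀ s ∈ Gen, mt Q s * mg Q g = mg Q g * mt Q s)
    (hGnorm : ∀ t : ↥(Cfsg.isometryGroup F ⇑Q),
      (mt Q t * mg Q g = mg Q g * mt Q t ∨ mt Q t * mg Q g = -(mg Q g * mt Q t)) →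
      ∀ s ∈ Gen, t * s * t⁻¹ ∈ Subgroup.closure Gen)
    (hO : NoOddNormal (Subgroup.closure Gen))
    (hD : ∀ (h : GL ι F) (τ : F ≃+* F), Cfsg.IsSemisimilarityPair (⇑Q) h τ →
      (∃ ζ : F, (h : Matrix ι ι F) * (mg Q g).map τ * ((h⁻¹ : GL ι F) : Matrix ι ι F) =
        ζ • mg Q g) →
      (∀ s ∈ Gen, (h : Matrix ι ι F) * (mt Q s).map τ * ((h⁻¹ : GL ι F) : Matrix ι ι F) =
        mt Q s) →
      τ = RingEquiv.refl F ∧ ∃ c : F, ((h : Matrix ι ι F) = c • 1 ∨ (h : Matrix ι ι F) = c • mg Q g))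
    (A : Subgroup (MulAut (Cfsg.POmega F ⇑Q)))
    (hinn : ∀ y : Cfsg.POmega F ⇑Q, MulAut.conj y ∈ A) :
    Cfsg.pPrimeCore 2 ↥(A ⊓ Subgroup.centralizer {cG Q g}) = ⊥ := by
  have hperf := Omega_perfect' hQ fr hgen
  have hZP : Subgroup.center (Cfsg.POmega F ⇑Q) = ⊥ := center_POmega_eq_bot Q hQ fr hgen
  have hp2 : Fact (Nat.Prime 2) := ⟨Nat.prime_two⟩
  obtain ⟨x, hx⟩ : ∃ x : MulAut (Cfsg.POmega F ⇑Q), x = cG Q g := ⟨_, rfl⟩
  have hord : orderOf x = 2 := by
    apply orderOf_eq_prime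
    · rw [pow_two, hx]; exact hg2
    · rw [hx]; exact hx1
  obtain ⟨L, hL⟩ : ∃ L : Subgroup ↥(Cfsg.isometryGroup F ⇑Q), L = Subgroup.closure Gen := ⟨_, rfl⟩
  have hGenL : ∀ s ∈ Gen, s ∈ L := by
    intro s hs; rw [hL]; exact Subgroup.subset_closure hs
  have hLΩ : L ≤ Cfsg.Omega F ⇑Q := by
    rw [hL, Subgroup.closure_le]
    intro s hs
    exact mem_Omega_of_odd Q hgen (hGodd s hs)
  -- the elements of `L` commute with `g`
  have hLcomm : ∀ s ∈ L, oGO Q s * g = g * oGO Q s := by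
    have : L ≤ (Subgroup.centralizer {g}).comap (oGO Q) := by
      rw [hL, Subgroup.closure_le]
      intro s hs
      rw [SetLike.mem_coe, Subgroup.mem_comap, Subgroup.mem_centralizer_singleton_iff]
      apply Subtype.ext
      apply Units.ext
      exact hGcomm s hs
    intro s hs
    have := this hs
    rw [Subgroup.mem_comap, Subgroup.mem_centralizer_singleton_iff] at this
    exact this
  -- conjugation by commuting or anticommuting isometries preserves `L`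
  have hLnorm : ∀ t : ↥(Cfsg.isometryGroup F ⇑Q),
      (mt Q t * mg Q g = mg Q g * mt Q t ∨ mt Q t * mg Q g = -(mg Q g * mt Q t)) →
      ∀ s ∈ L, t * s * t⁻¹ ∈ L := by
    intro t ht
    have : L ≤ L.comap (MulAut.conj t).toMonoidHom := by
      nth_rewrite 1 [hL]
      rw [Subgroup.closure_le]
      intro s hs
      rw [SetLike.mem_coe, Subgroup.mem_comap, hL]
      exact hGnorm t ht s hs
    intro s hs
    exact this hs
  obtain ⟨I₀, hI₀⟩ : ∃ I₀ : Subgroup (MulAut (Cfsg.POmega F ⇑Q)), I₀ = L.map (cAut Q) := ⟨_, rfl⟩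
  have hInnA : Cfsg.Inn (Cfsg.POmega F ⇑Q) ≤ A := by
    rintro _ ⟨y, rfl⟩
    exact hinn y
  have hI₀Inn : I₀ ≤ Cfsg.Inn (Cfsg.POmega F ⇑Q) := by
    rw [hI₀, Inn_eq]
    exact Subgroup.map_mono hLΩ
  have hI₀C : I₀ ≤ Subgroup.centralizer {x} := by
    rw [hI₀]
    rintro _ ⟨s, hs, rfl⟩
    rw [Subgroup.mem_centralizer_singleton_iff, hx, ← cG_oGO, ← map_mul, ← map_mul, hLcomm s hs]
  apply pPrimeCore_eq_bot_of
  intro N hNC hNnorm hNcop
  rw [← hx] at hNC hNnorm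
  refine normal_coprime_eq_bot' x hord A (Cfsg.Inn (Cfsg.POmega F ⇑Q)) I₀
    (Cfsg.Inn (Cfsg.POmega F ⇑Q) ⊓ Subgroup.centralizer {x}) hI₀Inn hI₀C hInnA le_rfl ?_ ?_ ?_
    N hNC hNnorm hNcop
  · -- `P` normalises `I₀`
    rintro p ⟨hpI, hpC⟩ y hy
    rw [Inn_eq] at hpI
    obtain ⟨t, htΩ, rfl⟩ := hpI
    rw [hI₀] at hy ⊢
    obtain ⟨s, hs, rfl⟩ := hy
    have hpC' : cAut Q t ∈ Subgroup.centralizer {x} := hpC
    rw [Subgroup.mem_centralizer_singleton_iff, hx, ← cG_oGO] at hpC'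
    have hpC := hpC'
    have hca := comm_or_anticomm Q hQ fr hex hperf hk g (oGO Q t) hpC
    have ht : mt Q t * mg Q g = mg Q g * mt Q t ∨ mt Q t * mg Q g = -(mg Q g * mt Q t) := by
      rcases hca with h | h
      · left
        apply Spin.matrix_ext_mulVec
        intro y
        rw [← Matrix.mulVec_mulVec, ← Matrix.mulVec_mulVec]
        exact h y
      · right
        apply Spin.matrix_ext_mulVec
        intro y
        rw [Matrix.neg_mulVec, ← Matrix.mulVec_mulVec, ← Matrix.mulVec_mulVec]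
        exact h y
    refine ⟨t * s * t⁻¹, hLnorm t ht s hs, ?_⟩
    rw [map_mul, map_mul, map_inv]
  · -- `I₀` has no odd normal subgroups
    intro M hM hMnorm hMcop
    have hno : NoOddNormal (L.map (cAut Q)) := by
      apply noOdd_map (cAut Q) (by rw [hL]; exact hO)
      intro z hzL hz1
      rw [← cG_oGO] at hz1
      obtain ⟨l, hl⟩ := ker_cG Q hQ fr hperf _ hz1
      have hl' : ∀ x, mt Q z *ᵥ x = l • x := hl
      refine ⟨scalar_isom Q hex hl', ?_⟩
      intro s _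
      exact comm_of_scalar hl' s
    rw [hI₀] at hM hMnorm
    exact hno M hM hMnorm (Nat.coprime_two_left.1 hMcop.symm)
  · -- the centralizer of `I₀`
    intro γ hγC hγI
    rw [Subgroup.mem_centralizer_singleton_iff] at hγC
    have hγΓ : γ ∈ Cfsg.gammaPOmega F ⇑Q := by rw [htop]; exact Subgroup.mem_top γ
    obtain ⟨h, τ, hp, hind⟩ := exists_of_mem_gamma (⇑Q) γ hγΓ
    have hsc := exists_scalar_of_comm Q hQ fr hperf g hp hind (by rw [← hx]; exact hγC)
    have hfix : ∀ s ∈ Gen, (h : Matrix ι ι F) * (mt Q s).map τ *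
        ((h⁻¹ : GL ι F) : Matrix ι ι F) = mt Q s := by
      intro s hs
      have hsL := hGenL s hs
      obtain ⟨sΩ, hsΩ⟩ : ∃ sΩ : ↥(Cfsg.Omega F ⇑Q), sΩ = ⟨s, hLΩ hsL⟩ := ⟨_, rfl⟩
      have h1 := hγI (cAut Q s) (by rw [hI₀]; exact ⟨s, hsL, rfl⟩)
      have h1' : γ * MulAut.conj (QuotientGroup.mk sΩ : Cfsg.POmega F ⇑Q) =
          MulAut.conj (QuotientGroup.mk sΩ : Cfsg.POmega F ⇑Q) * γ := by
        rw [← cAut_coe, hsΩ]
        exact h1
      have h3 := apply_eq_of_comm_conj hZP γ _ h1'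
      rw [induced_apply (⇑Q) hp hind, QuotientGroup.eq] at h3
      obtain ⟨z, hz⟩ : ∃ z : ↥(Cfsg.Omega F ⇑Q), z = (actΩ (⇑Q) hp sΩ)⁻¹ * sΩ := ⟨_, rfl⟩
      rw [← hz] at h3
      -- `z` is a central element of `Ω`, hence squares to one
      have hzc : ∀ t ∈ Cfsg.Omega F ⇑Q, (z : ↥(Cfsg.isometryGroup F ⇑Q)) * t =
          t * (z : ↥(Cfsg.isometryGroup F ⇑Q)) := by
        intro t ht
        have := Subgroup.mem_center_iff.1 h3 ⟨t, ht⟩
        exact (congrArg Subtype.val this).symm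
      have hz2 : z * z = 1 := by
        apply Subtype.ext
        apply O_ext
        intro v
        show mt Q ((z : ↥(Cfsg.isometryGroup F ⇑Q)) * (z : ↥(Cfsg.isometryGroup F ⇑Q))) *ᵥ v =
          mt Q 1 *ᵥ v
        rw [mt_one_mulVec, mt_mul_mulVec]
        rcases OC.centralizer_Omega Q hQ h6 (z : ↥(Cfsg.isometryGroup F ⇑Q)) hzc with h | h
        · rw [show mt Q (z : ↥(Cfsg.isometryGroup F ⇑Q)) = 1 from h, Matrix.one_mulVec,
            Matrix.one_mulVec]
        · rw [show mt Q (z : ↥(Cfsg.isometryGroup F ⇑Q)) = -1 from h]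
          simp
      -- `z` has odd order
      obtain ⟨j, hj⟩ := hGodd s hs
      have hso : sΩ ^ (2 * j + 1) = 1 := by
        apply Subtype.ext
        rw [hsΩ]
        show s ^ (2 * j + 1) = 1
        rw [← hj]
        exact pow_orderOf_eq_one s
      have hzo : z ^ (2 * j + 1) = 1 := by
        have hcz : Commute ((actΩ (⇑Q) hp sΩ)⁻¹) sΩ := by
          have h4 := Subgroup.mem_center_iff.1 h3 sΩ
          rw [hz] at h4
          have : sΩ * (actΩ (⇑Q) hp sΩ)⁻¹ = (actΩ (⇑Q) hp sΩ)⁻¹ * sΩ := by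
            calc sΩ * (actΩ (⇑Q) hp sΩ)⁻¹ = (sΩ * ((actΩ (⇑Q) hp sΩ)⁻¹ * sΩ)) * sΩ⁻¹ := by group
              _ = (((actΩ (⇑Q) hp sΩ)⁻¹ * sΩ) * sΩ) * sΩ⁻¹ := by rw [h4]
              _ = (actΩ (⇑Q) hp sΩ)⁻¹ * sΩ := by group
          exact this.symm
        rw [hz, hcz.mul_pow, hso, mul_one, inv_pow, ← map_pow, hso, map_one, inv_one]
      have hz1 : z = 1 := by
        rw [pow_succ, pow_mul, pow_two, hz2, one_pow, one_mul] at hzo
        exact hzo
      rw [hz1] at hz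
      have h5 : actΩ (⇑Q) hp sΩ = sΩ := by
        have := hz
        rw [eq_comm, inv_mul_eq_one] at this
        exact this
      have h6' := congrArg (fun t : ↥(Cfsg.Omega F ⇑Q) =>
        ((((t : ↥(Cfsg.isometryGroup F ⇑Q)) : GL ι F)) : Matrix ι ι F)) h5
      simp only [actΩ_val] at h6'
      rw [hsΩ] at h6'
      exact h6'
    obtain ⟨hτ, c, hc⟩ := hD h τ hp hsc hfix
    subst hτ
    have hgo : h ∈ GO Q := by
      obtain ⟨c', hc'⟩ := hp
      exact ⟨c', hc'⟩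
    have hγeq : γ = cG Q ⟨h, hgo⟩ := (induced_iff Q h hgo γ).1 hind
    have hc0 : c ≠ 0 := by
      intro h0
      have h7 : (h : Matrix ι ι F) = 0 := by
        rcases hc with h' | h' <;> rw [h', h0, zero_smul]
      have h8 : (h : Matrix ι ι F) * ((h⁻¹ : GL ι F) : Matrix ι ι F) = 1 := by
        rw [← Units.val_mul, mul_inv_cancel, Units.val_one]
      rw [h7, Matrix.zero_mul] at h8
      exact zero_ne_one h8
    rcases hc with hc | hc
    · have : (⟨h, hgo⟩ : ↥(GO Q)) = scal Q (Units.mk0 c hc0) := by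
        apply Subtype.ext
        apply Units.ext
        rw [scal_val, Units.val_mk0]
        exact hc
      rw [hγeq, this, cG_scal]
      exact Subgroup.one_mem _
    · have : (⟨h, hgo⟩ : ↥(GO Q)) = scal Q (Units.mk0 c hc0) * g := by
        apply Subtype.ext
        apply Units.ext
        symm
        show ((scal Q (Units.mk0 c hc0) : GL ι F) : Matrix ι ι F) *
          ((g : GL ι F) : Matrix ι ι F) = _
        rw [scal_val, Units.val_mk0, Matrix.smul_mul, Matrix.one_mul]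
        exact hc.symm
      rw [hγeq, this, map_mul, cG_scal, one_mul, ← hx]
      exact Subgroup.mem_zpowers x

end Cfsg.Agent.Helper28.LB
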