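import Mathlib
import Cfsg.Agent.Helper28.LocBal8
import Cfsg.Agent.Helper28.LocBal10

set_option autoImplicit false
set_option linter.unusedSectionVars false

/-! The `2'`-core of the centralizer of an involutory similarity with two eigenspaces. -/

namespace Cfsg.Agent.Helper28.LB

open Matrix Module Cfsg.Agent.Helper28.Sg Cfsg.Agent.Helper28.Spin Cfsg.Agent.Helper28.PG
  Cfsg.Agent.Helper28.PA Cfsg.Agent.Helper28.SSim Cfsg.Agent.Helper28.FO Cfsg.Agent.Helper28.FB
  Cfsg.Agent.Helper28.GInv Cfsg.Agent.Helper28.GC Cfsg.Agent.Helper28.FS Cfsg.Agent.Helper28.NDM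
  Cfsg.Agent.Helper28.OFN

variable {F : Type*} [Field F] [Fintype F] [DecidableEq F] {ι : Type} [Fintype ι] [DecidableEq ι]
  (Q : QuadraticForm F (ι → F))

/-- a Siegel transformation with both vectors in an eigenspace of a self-adjoint map commutes with
the map -/
theorem siegO_comm_M (M : Matrix ι ι F) (hadj : ∀ x y, B Q (M *ᵥ x) y = B Q x (M *ᵥ y)) {c : F}
    {u v : ι → F} (hu : Q u = 0) (huv : B Q u v = 0) (hMu : M *ᵥ u = c • u)
    (hMv : M *ᵥ v = c • v) : mt Q (siegO Q u v hu huv) * M = M * mt Q (siegO Q u v hu huv) := by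
  apply Spin.matrix_ext_mulVec
  intro x
  rw [← Matrix.mulVec_mulVec, ← Matrix.mulVec_mulVec, siegO_mulVec, siegO_mulVec]
  have h1 : B Q u (M *ᵥ x) = c * B Q u x := by rw [← hadj, hMu, B_smul_left']
  have h2 : B Q v (M *ᵥ x) = c * B Q v x := by rw [← hadj, hMv, B_smul_left']
  rw [h1, h2]
  simp only [Matrix.mulVec_add, Matrix.mulVec_sub, Matrix.mulVec_smul, hMu, hMv]
  module

theorem NDon_of_inf_orth (T : Submodule F (ι → F))
    (h : T ⊓ LinearMap.BilinForm.orthogonal (QuadraticMap.polarBilin Q) T = ⊥) : NDon Q T := by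
  intro x hx hx0
  by_contra hcon
  push Not at hcon
  apply hx0
  have : x ∈ T ⊓ LinearMap.BilinForm.orthogonal (QuadraticMap.polarBilin Q) T := by
    refine ⟨hx, ?_⟩
    rw [SetLike.mem_coe, LinearMap.BilinForm.mem_orthogonal_iff]
    intro n hn
    show QuadraticMap.polar (⇑Q) n x = 0
    rw [QuadraticMap.polar_comm]
    exact hcon n hn
  rw [h, Submodule.mem_bot] at this
  exact this

/-- **the square case** -/
theorem core_two_square [Nonempty ι] (hQ : (QuadraticMap.polarBilin Q).Nondegenerate)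
    (fr : Frame3 Q)
    (hgen : ∀ (H : Subgroup ↥(Cfsg.isometryGroup F ⇑Q)),
      (∀ (v : ι → F) (hv : Q v ≠ 0), reflO Q v hv ∈ H) → ∀ g, g ∈ H)
    (htop : Cfsg.gammaPOmega F ⇑Q = ⊤) (hex : ∃ v : ι → F, Q v ≠ 0) {k : ℕ}
    (hk : Fintype.card ι = 2 * k) (h2 : (2 : F) ≠ 0) (hk4 : 4 ≤ k)
    (g : ↥(GO Q)) (hsgn : PG.sgn Q k g = -1) (hg2 : cG Q g * cG Q g = 1) (c : F)
    (hl : ∀ x, mg Q g *ᵥ (mg Q g *ᵥ x) = (c * c) • x) (hμ : (mu Q g : F) = c * c)
    (A : Subgroup (MulAut (Cfsg.POmega F ⇑Q)))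
    (hinn : ∀ y : Cfsg.POmega F ⇑Q, MulAut.conj y ∈ A) :
    Cfsg.pPrimeCore 2 ↥(A ⊓ Subgroup.centralizer {cG Q g}) = ⊥ := by
  have hperf := Omega_perfect' hQ fr hgen
  have hone : (1 : F) ≠ -1 := by
    intro h
    apply h2
    linear_combination h
  have hx1 : cG Q g ≠ 1 := by
    intro h
    have := (ker_of_cG Q hQ fr hex hperf hk g h).2
    rw [hsgn] at this
    exact hone this.symm
  have hl0 := l_ne_zero Q hex g _ hl
  have hc : c ≠ 0 := fun h => hl0 (by rw [h, mul_zero])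
  have hadj := adj_self Q hex g _ hl hμ
  have hsup := eig_sup Q h2 g c hc hl
  have hsup' : eig Q g (-c) ⊔ eig Q g c = ⊤ := by rw [sup_comm]; exact hsup
  have horth : ∀ x ∈ eig Q g c, ∀ y ∈ eig Q g (-c), B Q x y = 0 :=
    fun x hx y hy => eig_orth Q h2 g c hc hadj hx hy
  have horth' : ∀ x ∈ eig Q g (-c), ∀ y ∈ eig Q g c, B Q x y = 0 := by
    intro x hx y hy
    rw [B_comm]
    exact horth y hy x hx
  have hWp : NDon Q (eig Q g c) := NDon_of_inf_orth Q _ (eig_nondeg Q hQ _ _ hsup horth)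
  have hWm : NDon Q (eig Q g (-c)) := NDon_of_inf_orth Q _ (eig_nondeg Q hQ _ _ hsup' horth')
  have hdim := Submodule.finrank_sup_add_finrank_inf_eq (eig Q g c) (eig Q g (-c))
  rw [hsup, eig_inf Q h2 g c hc, finrank_top, finrank_bot, Module.finrank_fintype_fun_eq_card, hk,
    add_zero] at hdim
  have hoddm : Odd (finrank F (eig Q g (-c))) := by
    have h1 := sgn_of_eig Q hex g c hk hl hμ
    rw [hsgn] at h1
    rcases Nat.even_or_odd (finrank F (eig Q g (-c))) with h | h
    · rw [h.neg_one_pow] at h1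
      exact absurd h1.symm hone
    · exact h
  have hoddp : Odd (finrank F (eig Q g c)) := by
    rcases Nat.even_or_odd (finrank F (eig Q g c)) with h | h
    · exfalso
      have : Odd (2 * k) := by
        rw [hdim]
        exact h.add_odd hoddm
      exact (Nat.not_even_iff_odd.2 this) (even_two_mul k)
    · exact h
  -- the generators
  obtain ⟨Gp, hGp⟩ : ∃ Gp : Set ↥(Cfsg.isometryGroup F ⇑Q), Gp = {s | ∃ (u v : ι → F)
      (hu : Q u = 0) (huv : B Q u v = 0), u ∈ eig Q g c ∧ v ∈ eig Q g c ∧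
      s = siegO Q u v hu huv} := ⟨_, rfl⟩
  obtain ⟨Gm, hGm⟩ : ∃ Gm : Set ↥(Cfsg.isometryGroup F ⇑Q), Gm = {s | ∃ (u v : ι → F)
      (hu : Q u = 0) (huv : B Q u v = 0), u ∈ eig Q g (-c) ∧ v ∈ eig Q g (-c) ∧
      s = siegO Q u v hu huv} := ⟨_, rfl⟩
  have hclp : Subgroup.closure Gp = SW Q (eig Q g c) := by rw [hGp]; rfl
  have hclm : Subgroup.closure Gm = SW Q (eig Q g (-c)) := by rw [hGm]; rfl
  have hcl : Subgroup.closure (Gp ∪ Gm) = SW Q (eig Q g c) ⊔ SW Q (eig Q g (-c)) := by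
    rw [Subgroup.closure_union, hclp, hclm]
  have hmemp : ∀ s ∈ Gp, ∃ (u v : ι → F) (hu : Q u = 0) (huv : B Q u v = 0),
      u ∈ eig Q g c ∧ v ∈ eig Q g c ∧ s = siegO Q u v hu huv := by
    intro s hs; rw [hGp] at hs; exact hs
  have hmemm : ∀ s ∈ Gm, ∃ (u v : ι → F) (hu : Q u = 0) (huv : B Q u v = 0),
      u ∈ eig Q g (-c) ∧ v ∈ eig Q g (-c) ∧ s = siegO Q u v hu huv := by
    intro s hs; rw [hGm] at hs; exact hs
  have hmkp : ∀ (u v : ι → F) (hu : Q u = 0) (huv : B Q u v = 0), u ∈ eig Q g c →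
      v ∈ eig Q g c → siegO Q u v hu huv ∈ Gp := by
    intro u v hu huv h1 h2
    rw [hGp]
    exact ⟨u, v, hu, huv, h1, h2, rfl⟩
  have hmkm : ∀ (u v : ι → F) (hu : Q u = 0) (huv : B Q u v = 0), u ∈ eig Q g (-c) →
      v ∈ eig Q g (-c) → siegO Q u v hu huv ∈ Gm := by
    intro u v hu huv h1 h2
    rw [hGm]
    exact ⟨u, v, hu, huv, h1, h2, rfl⟩
  apply core_two_of_model Q hQ fr hgen htop hex hk h2 (by omega) g hx1 hg2 (Gp ∪ Gm)
  · -- odd order
    rintro s (hs | hs)
    · obtain ⟨u, v, hu, huv, -, -, rfl⟩ := hmemp s hs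
      exact siegO_odd h2 hu huv
    · obtain ⟨u, v, hu, huv, -, -, rfl⟩ := hmemm s hs
      exact siegO_odd h2 hu huv
  · -- commutation with `g`
    rintro s (hs | hs)
    · obtain ⟨u, v, hu, huv, h1, h2, rfl⟩ := hmemp s hs
      exact siegO_comm_M Q (mg Q g) hadj hu huv h1 h2
    · obtain ⟨u, v, hu, huv, h1, h2, rfl⟩ := hmemm s hs
      exact siegO_comm_M Q (mg Q g) hadj hu huv h1 h2
  · -- normalisation
    intro t ht
    have hmap : ∀ (c' : F) (u : ι → F), u ∈ eig Q g c' →
        (mt Q t * mg Q g = mg Q g * mt Q t → mt Q t *ᵥ u ∈ eig Q g c') ∧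
        (mt Q t * mg Q g = -(mg Q g * mt Q t) → mt Q t *ᵥ u ∈ eig Q g (-c')) := by
      intro c' u hu
      have hu' : mg Q g *ᵥ u = c' • u := hu
      constructor
      · intro h
        show mg Q g *ᵥ (mt Q t *ᵥ u) = c' • (mt Q t *ᵥ u)
        rw [Matrix.mulVec_mulVec, ← h, ← Matrix.mulVec_mulVec, hu', Matrix.mulVec_smul]
      · intro h
        show mg Q g *ᵥ (mt Q t *ᵥ u) = (-c') • (mt Q t *ᵥ u)
        have h' : mg Q g * mt Q t = -(mt Q t * mg Q g) := by rw [h, neg_neg]
        rw [Matrix.mulVec_mulVec, h', Matrix.neg_mulVec, ← Matrix.mulVec_mulVec, hu',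
          Matrix.mulVec_smul, neg_smul]
    have hconj : ∀ (u v : ι → F) (hu : Q u = 0) (huv : B Q u v = 0),
        t * siegO Q u v hu huv * t⁻¹ = siegO Q (mt Q t *ᵥ u) (mt Q t *ᵥ v)
          (by rw [Spin.isom_apply]; exact hu) (by rw [B_isom]; exact huv) :=
      fun u v hu huv => siegO_conj Q t hu huv _ _
    rintro s (hs | hs)
    · obtain ⟨u, v, hu, huv, h1, h2', rfl⟩ := hmemp s hs
      rw [hconj]
      apply Subgroup.subset_closure
      rcases ht with ht | ht
      · left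
        exact hmkp _ _ _ _ ((hmap c u h1).1 ht) ((hmap c v h2').1 ht)
      · right
        exact hmkm _ _ _ _ ((hmap c u h1).2 ht) ((hmap c v h2').2 ht)
    · obtain ⟨u, v, hu, huv, h1, h2', rfl⟩ := hmemm s hs
      rw [hconj]
      apply Subgroup.subset_closure
      rcases ht with ht | ht
      · right
        exact hmkm _ _ _ _ ((hmap (-c) u h1).1 ht) ((hmap (-c) v h2').1 ht)
      · left
        have e : -(-c) = c := neg_neg c
        have k1 := (hmap (-c) u h1).2 ht
        have k2 := (hmap (-c) v h2').2 ht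
        rw [e] at k1 k2
        exact hmkp _ _ _ _ k1 k2
  · -- no odd normal subgroups
    rw [hcl]
    apply noOdd_sup (noOdd_SW h2 hQ hWp hoddp) (noOdd_SW h2 hQ hWm hoddm)
    intro a ha b hb
    have hbc : b ∈ Subgroup.centralizer (Gp : Set ↥(Cfsg.isometryGroup F ⇑Q)) := by
      have : SW Q (eig Q g (-c)) ≤ Subgroup.centralizer (Gp : Set ↥(Cfsg.isometryGroup F ⇑Q)) := by
        rw [← hclm, Subgroup.closure_le]
        intro s hs
        obtain ⟨u', v', hu', huv', h1', h2', rfl⟩ := hmemm s hs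
        rw [SetLike.mem_coe, Subgroup.mem_centralizer_iff]
        intro r hr
        obtain ⟨u, v, hu, huv, h1, h2'', rfl⟩ := hmemp r hr
        exact siegO_comm_perp hu huv hu' huv' (horth u h1 u' h1') (horth u h1 v' h2')
          (horth v h2'' u' h1') (horth v h2'' v' h2')
      exact this hb
    rw [← Subgroup.centralizer_closure, hclp] at hbc
    exact Subgroup.mem_centralizer_iff.1 hbc a ha
  · -- the centralizer
    intro h τ hp _ hfix
    have hcomm : ∀ (W : Submodule F (ι → F)), (W = eig Q g c ∨ W = eig Q g (-c)) →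
        ∀ (z w : ι → F) (hz : Q z = 0) (hzw : B Q z w = 0), z ∈ W → w ∈ W →
        ∀ x, semi h τ (mt Q (siegO Q z w hz hzw) *ᵥ x) =
          mt Q (siegO Q z w hz hzw) *ᵥ semi h τ x := by
      intro W hW z w hz hzw hzW hwW x
      apply semi_comm h τ _ (hfix _ _) x
      rcases hW with rfl | rfl
      · left; exact hmkp _ _ _ _ hzW hwW
      · right; exact hmkm _ _ _ _ hzW hwW
    have hinj : ∀ x, semi h τ x = 0 → x = 0 := by
      intro x hx
      apply semi_injective h τ
      rw [hx]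
      unfold semi
      have : (fun i => τ ((0 : ι → F) i)) = 0 := by
        funext i; simp
      rw [this, Matrix.mulVec_zero]
    have hsim : ∃ c' : F, ∀ v, Q (semi h τ v) = c' * τ (Q v) := by
      obtain ⟨c', hc'⟩ := hp
      exact ⟨c', hc'⟩
    -- scalars on both eigenspaces
    have hmain : (∀ a, τ a = a) ∧ ∃ l l' : F, (∀ x ∈ eig Q g c, semi h τ x = l • x) ∧
        (∀ x ∈ eig Q g (-c), semi h τ x = l' • x) ∧ l * l = l' * l' := by
      by_cases hbig : 3 ≤ finrank F (eig Q g (-c))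
      · apply scalar_pair (semi h τ) τ (semi_add h τ) (semi_smul h τ) hinj
          (hcomm _ (Or.inl rfl)) (hcomm _ (Or.inr rfl)) hsim h2 hQ hWp hWm hsup horth hbig
        obtain ⟨j, hj⟩ := hoddp
        omega
      · have hbig' : 3 ≤ finrank F (eig Q g c) := by omega
        obtain ⟨hτ, l', l, h1, h2', h3⟩ := scalar_pair (semi h τ) τ (semi_add h τ)
          (semi_smul h τ) hinj (hcomm _ (Or.inr rfl)) (hcomm _ (Or.inl rfl)) hsim h2 hQ hWm hWp
          hsup' horth' hbig' (by
            obtain ⟨j, hj⟩ := hoddm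
            omega)
        exact ⟨hτ, l, l', h2', h1, h3.symm⟩
    obtain ⟨hτ, l, l', hlp, hlm, hll⟩ := hmain
    have hτr : τ = RingEquiv.refl F := by
      ext a
      exact hτ a
    refine ⟨hτr, ?_⟩
    have hsemi : ∀ x, semi h τ x = (h : Matrix ι ι F) *ᵥ x := by
      intro x
      unfold semi
      congr 1
      funext i
      exact hτ (x i)
    have hcases : l' = l ∨ l' = -l := by
      have : (l' - l) * (l' + l) = 0 := by linear_combination -hll
      rcases mul_eq_zero.1 this with h | h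
      · left; linear_combination h
      · right; linear_combination h
    have hdec : ∀ x : ι → F, ∃ a ∈ eig Q g c, ∃ b ∈ eig Q g (-c), a + b = x := by
      intro x
      have : x ∈ eig Q g c ⊔ eig Q g (-c) := by rw [hsup]; exact Submodule.mem_top
      exact Submodule.mem_sup.1 this
    rcases hcases with hl' | hl'
    · refine ⟨l, Or.inl ?_⟩
      apply Spin.matrix_ext_mulVec
      intro x
      obtain ⟨a, ha, b, hb, rfl⟩ := hdec x
      rw [Matrix.smul_mulVec, Matrix.one_mulVec, Matrix.mulVec_add, ← hsemi, ← hsemi, hlp a ha,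
        hlm b hb, hl', smul_add]
    · refine ⟨l * c⁻¹, Or.inr ?_⟩
      apply Spin.matrix_ext_mulVec
      intro x
      obtain ⟨a, ha, b, hb, rfl⟩ := hdec x
      have ha' : mg Q g *ᵥ a = c • a := ha
      have hb' : mg Q g *ᵥ b = (-c) • b := hb
      rw [Matrix.smul_mulVec, Matrix.mulVec_add, Matrix.mulVec_add, ← hsemi, ← hsemi, hlp a ha,
        hlm b hb, hl', ha', hb', smul_add, smul_smul, smul_smul]
      have e1 : l * c⁻¹ * c = l := by field_simp
      have e2 : l * c⁻¹ * -c = -l := by field_simp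
      rw [e1, e2]
  · exact hinn

end Cfsg.Agent.Helper28.LB
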