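import Mathlib

set_option autoImplicit false
set_option linter.unusedSectionVars false

/-! A linear map whose square is a non-square scalar makes the space a vector space over the
quadratic extension: coordinates. -/

namespace Cfsg.Agent.Helper28.LB

open Matrix Module QuadraticAlgebra

variable {F : Type*} [Field F] {ι : Type} [Fintype ι] [DecidableEq ι]

/-- the quadratic extension `F(√l)` -/
abbrev KX (l : F) : Type _ := QuadraticAlgebra F l 0

theorem fact_of_not_isSquare {l : F} (h : ¬ IsSquare l) : Fact (∀ r : F, r ^ 2 ≠ l + 0 * r) := by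
  constructor
  intro r hr
  apply h
  exact ⟨r, by rw [← pow_two, hr]; ring⟩

theorem kx_smul_eq {l : F} {n : ℕ} (κ : KX l) (y : Fin n → KX l) :
    κ • y = κ.re • y + κ.im • ((ω : KX l) • y) := by
  funext i
  simp only [Pi.smul_apply, Pi.add_apply, smul_eq_mul]
  ext
  · simp
    ring
  · simp

/-- coordinates over the quadratic extension -/
theorem exists_coords (M : Matrix ι ι F) (l : F) [Fact (∀ r : F, r ^ 2 ≠ l + 0 * r)]
    (hM : M * M = l • 1) :
    ∃ (n : ℕ) (φ : (ι → F) ≃ₗ[F] (Fin n → KX l)), ∀ v, φ (M *ᵥ v) = (ω : KX l) • φ v := by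
  have hu : (Matrix.toLin' M) * (Matrix.toLin' M) = l • (1 : Module.End F (ι → F)) +
      (0 : F) • Matrix.toLin' M := by
    rw [zero_smul, add_zero]
    apply LinearMap.ext
    intro v
    rw [Module.End.mul_apply, Matrix.toLin'_apply, Matrix.toLin'_apply, Matrix.mulVec_mulVec, hM,
      Matrix.smul_mulVec, Matrix.one_mulVec]
    rfl
  let f : KX l →ₐ[F] Module.End F (ι → F) := QuadraticAlgebra.lift ⟨Matrix.toLin' M, hu⟩
  let inst1 : Module (KX l) (ι → F) := Module.compHom (ι → F) f.toRingHom
  have hsmul : ∀ (κ : KX l) (v : ι → F), κ • v = f κ v := fun κ v => rfl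
  have inst2 : IsScalarTower F (KX l) (ι → F) := by
    constructor
    intro a κ v
    rw [hsmul, hsmul, map_smul]
    rfl
  have inst3 : Module.Finite (KX l) (ι → F) := Module.Finite.of_restrictScalars_finite F _ _
  let b := Module.finBasis (KX l) (ι → F)
  refine ⟨_, b.equivFun.restrictScalars F, ?_⟩
  intro v
  have h1 : M *ᵥ v = (ω : KX l) • v := by
    rw [hsmul]
    show M *ᵥ v = (QuadraticAlgebra.lift ⟨Matrix.toLin' M, hu⟩) ω v
    rw [QuadraticAlgebra.lift_apply_apply]
    simp
  rw [h1]
  show b.equivFun ((ω : KX l) • v) = (ω : KX l) • b.equivFun v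
  exact map_smul _ _ _

end Cfsg.Agent.Helper28.LB
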