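import Mathlib
import Cfsg.Agent.Helper28.LocBal12
import Cfsg.Agent.Helper28.OrthFrame

set_option autoImplicit false
set_option linter.unusedSectionVars false

/-! The quadratic form over the quadratic extension attached to a self-adjoint similarity whose
square is a non-square scalar. -/

namespace Cfsg.Agent.Helper28.LB

open Matrix Module QuadraticAlgebra Cfsg.Agent.Helper28.Sg Cfsg.Agent.Helper28.OFN

variable {F : Type*} [Field F] {ι : Type} [Fintype ι] [DecidableEq ι]
  (Q : QuadraticForm F (ι → F)) (M : Matrix ι ι F) (l : F) [Fact (∀ r : F, r ^ 2 ≠ l + 0 * r)]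
  {n : ℕ} (φ : (ι → F) ≃ₗ[F] (Fin n → KX l))

section

variable (hφ : ∀ v, φ (M *ᵥ v) = (ω : KX l) • φ v)
  (hadj : ∀ x y, B Q (M *ᵥ x) y = B Q x (M *ᵥ y))
  (hsim : ∀ x y, B Q (M *ᵥ x) (M *ᵥ y) = l * B Q x y) (hl0 : l ≠ 0)

include hφ in
theorem psi_omega (y : Fin n → KX l) : φ.symm ((ω : KX l) • y) = M *ᵥ φ.symm y := by
  apply φ.injective
  rw [hφ, LinearEquiv.apply_symm_apply, LinearEquiv.apply_symm_apply]

include hφ in
theorem psi_smul (κ : KX l) (y : Fin n → KX l) :
    φ.symm (κ • y) = κ.re • φ.symm y + κ.im • (M *ᵥ φ.symm y) := by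
  rw [kx_smul_eq, map_add, map_smul, map_smul, psi_omega M l φ hφ]

/-- the bilinear form over the quadratic extension -/
noncomputable def bK : LinearMap.BilinMap (KX l) (Fin n → KX l) (KX l) :=
  LinearMap.mk₂ (KX l)
    (fun x y => (⟨B Q (φ.symm x) (φ.symm y), l⁻¹ * B Q (M *ᵥ φ.symm x) (φ.symm y)⟩ : KX l))
    (by
      intro x x' y
      ext
      · simp only [map_add, B, QuadraticMap.polar_add_left, re_add]
      · simp only [map_add, B, QuadraticMap.polar_add_left, im_add, Matrix.mulVec_add]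
        ring)
    (by
      intro κ x y
      have hadj' : ∀ x y, QuadraticMap.polar (⇑Q) (M *ᵥ x) y =
        QuadraticMap.polar (⇑Q) x (M *ᵥ y) := hadj
      have hsim' : ∀ x y, QuadraticMap.polar (⇑Q) (M *ᵥ x) (M *ᵥ y) =
        l * QuadraticMap.polar (⇑Q) x y := hsim
      ext
      · simp only [psi_smul M l φ hφ, B, QuadraticMap.polar_add_left,
          QuadraticMap.polar_smul_left, smul_eq_mul, re_mul]
        field_simp
      · simp only [psi_smul M l φ hφ, B, QuadraticMap.polar_add_left,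
          QuadraticMap.polar_smul_left, smul_eq_mul, im_mul,
          Matrix.mulVec_add, Matrix.mulVec_smul, hsim', hadj' (M *ᵥ φ.symm x)]
        field_simp
        ring)
    (by
      intro x y y'
      ext
      · simp only [map_add, B, QuadraticMap.polar_add_right, re_add]
      · simp only [map_add, B, QuadraticMap.polar_add_right, im_add]
        ring)
    (by
      intro κ x y
      have hadj' : ∀ x y, QuadraticMap.polar (⇑Q) (M *ᵥ x) y =
        QuadraticMap.polar (⇑Q) x (M *ᵥ y) := hadj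
      have hsim' : ∀ x y, QuadraticMap.polar (⇑Q) (M *ᵥ x) (M *ᵥ y) =
        l * QuadraticMap.polar (⇑Q) x y := hsim
      ext
      · simp only [psi_smul M l φ hφ, B, QuadraticMap.polar_add_right,
          QuadraticMap.polar_smul_right, smul_eq_mul, re_mul, ← hadj' (φ.symm x)]
        field_simp
      · simp only [psi_smul M l φ hφ, B, QuadraticMap.polar_add_right,
          QuadraticMap.polar_smul_right, smul_eq_mul, im_mul, hsim']
        field_simp
        ring)

theorem bK_apply (x y : Fin n → KX l) :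
    bK Q M l φ hφ hadj hsim hl0 x y =
      (⟨B Q (φ.symm x) (φ.symm y), l⁻¹ * B Q (M *ᵥ φ.symm x) (φ.symm y)⟩ : KX l) := rfl

/-- the quadratic form over the quadratic extension -/
noncomputable def QK : QuadraticForm (KX l) (Fin n → KX l) :=
  ((2 : F)⁻¹) • (bK Q M l φ hφ hadj hsim hl0).toQuadraticMap

theorem QK_apply (y : Fin n → KX l) :
    QK Q M l φ hφ hadj hsim hl0 y =
      (⟨(2 : F)⁻¹ * B Q (φ.symm y) (φ.symm y),
        (2 : F)⁻¹ * (l⁻¹ * B Q (M *ᵥ φ.symm y) (φ.symm y))⟩ : KX l) := by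
  unfold QK
  rw [QuadraticMap.smul_apply, LinearMap.BilinMap.toQuadraticMap_apply, bK_apply]
  ext <;> simp

theorem QK_re (h2 : (2 : F) ≠ 0) (y : Fin n → KX l) :
    (QK Q M l φ hφ hadj hsim hl0 y).re = Q (φ.symm y) := by
  rw [QK_apply, B_self]
  field_simp

theorem bK_symm (x y : Fin n → KX l) :
    bK Q M l φ hφ hadj hsim hl0 x y = bK Q M l φ hφ hadj hsim hl0 y x := by
  rw [bK_apply, bK_apply]
  ext
  · exact B_comm Q _ _
  · show l⁻¹ * B Q (M *ᵥ φ.symm x) (φ.symm y) = l⁻¹ * B Q (M *ᵥ φ.symm y) (φ.symm x)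
    rw [hadj, B_comm]

theorem BK_eq (h2 : (2 : F) ≠ 0) (x y : Fin n → KX l) :
    B (QK Q M l φ hφ hadj hsim hl0) x y = bK Q M l φ hφ hadj hsim hl0 x y := by
  show QuadraticMap.polar (⇑(QK Q M l φ hφ hadj hsim hl0)) x y = _
  unfold QK
  rw [QuadraticMap.coeFn_smul, QuadraticMap.polar_smul, LinearMap.BilinMap.polar_toQuadraticMap,
    bK_symm Q M l φ hφ hadj hsim hl0 y x, ← two_smul F, smul_smul, inv_mul_cancel₀ h2, one_smul]

theorem BK_re (h2 : (2 : F) ≠ 0) (x y : Fin n → KX l) :
    (B (QK Q M l φ hφ hadj hsim hl0) x y).re = B Q (φ.symm x) (φ.symm y) := by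
  rw [BK_eq Q M l φ hφ hadj hsim hl0 h2, bK_apply]

theorem QK_nondeg (h2 : (2 : F) ≠ 0) (hQ : (QuadraticMap.polarBilin Q).Nondegenerate) :
    (QuadraticMap.polarBilin (QK Q M l φ hφ hadj hsim hl0)).Nondegenerate := by
  constructor
  · intro x hx
    have h1 : φ.symm x = 0 := by
      apply hQ.1
      intro z
      have := congrArg QuadraticAlgebra.re (hx (φ z))
      have e := BK_re Q M l φ hφ hadj hsim hl0 h2 x (φ z)
      rw [LinearEquiv.symm_apply_apply] at e
      show QuadraticMap.polar (⇑Q) (φ.symm x) z = 0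
      simp only [B] at e
      rw [← e]
      exact this
    have := congrArg φ h1
    rwa [LinearEquiv.apply_symm_apply, map_zero] at this
  · intro x hx
    have h1 : φ.symm x = 0 := by
      apply hQ.2
      intro z
      have := congrArg QuadraticAlgebra.re (hx (φ z))
      have e := BK_re Q M l φ hφ hadj hsim hl0 h2 (φ z) x
      rw [LinearEquiv.symm_apply_apply] at e
      show QuadraticMap.polar (⇑Q) z (φ.symm x) = 0
      simp only [B] at e
      rw [← e]
      exact this
    have := congrArg φ h1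
    rwa [LinearEquiv.apply_symm_apply, map_zero] at this

end

end Cfsg.Agent.Helper28.LB
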