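import Mathlib
import Cfsg.Agent.Helper28.LocBal13
import Cfsg.Agent.Helper28.Siegel2

set_option autoImplicit false
set_option linter.unusedSectionVars false

/-! Transport of isometries over the quadratic extension to isometries over the base field. -/

namespace Cfsg.Agent.Helper28.LB

open Matrix Module QuadraticAlgebra Cfsg.Agent.Helper28.Sg Cfsg.Agent.Helper28.OFN
  Cfsg.Agent.Helper28.Spin Cfsg.Agent.Helper28.IsoTransport

variable {F : Type*} [Field F] {ι : Type} [Fintype ι] [DecidableEq ι]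
  (Q : QuadraticForm F (ι → F)) (M : Matrix ι ι F) (l : F) [Fact (∀ r : F, r ^ 2 ≠ l + 0 * r)]
  {n : ℕ} (φ : (ι → F) ≃ₗ[F] (Fin n → KX l))

/-- transport of a matrix over the extension -/
noncomputable def psiM (A : Matrix (Fin n) (Fin n) (KX l)) : Matrix ι ι F :=
  LinearMap.toMatrix' (φ.symm.toLinearMap ∘ₗ ((Matrix.mulVecLin A).restrictScalars F) ∘ₗ
    φ.toLinearMap)

theorem psiM_mulVec (A : Matrix (Fin n) (Fin n) (KX l)) (v : ι → F) :
    psiM l φ A *ᵥ v = φ.symm (A *ᵥ φ v) := by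
  unfold psiM
  rw [LinearMap.toMatrix'_mulVec]
  rfl

/-- transport as a monoid homomorphism -/
noncomputable def psiHom : Matrix (Fin n) (Fin n) (KX l) →* Matrix ι ι F where
  toFun := psiM l φ
  map_one' := by
    apply Spin.matrix_ext_mulVec
    intro v
    rw [psiM_mulVec, Matrix.one_mulVec, Matrix.one_mulVec, LinearEquiv.symm_apply_apply]
  map_mul' A A' := by
    apply Spin.matrix_ext_mulVec
    intro v
    have e : (psiM l φ A * psiM l φ A') *ᵥ v = psiM l φ A *ᵥ (psiM l φ A' *ᵥ v) :=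
      (Matrix.mulVec_mulVec _ _ _).symm
    rw [e, psiM_mulVec, psiM_mulVec, psiM_mulVec, LinearEquiv.apply_symm_apply,
      Matrix.mulVec_mulVec]

theorem psiHom_apply (A : Matrix (Fin n) (Fin n) (KX l)) : psiHom l φ A = psiM l φ A := rfl

section

variable (hφ : ∀ v, φ (M *ᵥ v) = (ω : KX l) • φ v)
  (hadj : ∀ x y, B Q (M *ᵥ x) y = B Q x (M *ᵥ y))
  (hsim : ∀ x y, B Q (M *ᵥ x) (M *ᵥ y) = l * B Q x y) (hl0 : l ≠ 0) (h2 : (2 : F) ≠ 0)

/-- transport of isometries -/
noncomputable def PsiO :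
    ↥(Cfsg.isometryGroup (KX l) ⇑(QK Q M l φ hφ hadj hsim hl0)) →* ↥(Cfsg.isometryGroup F ⇑Q) :=
  ((Units.map (psiHom l φ)).comp (Subgroup.subtype _)).codRestrict _ (by
    intro A
    rw [mem_isometryGroup_iff]
    intro v
    have h := Spin.isom_apply (QK Q M l φ hφ hadj hsim hl0) A (φ v)
    show Q (psiM l φ ((A : GL (Fin n) (KX l)) : Matrix (Fin n) (Fin n) (KX l)) *ᵥ v) = Q v
    rw [psiM_mulVec, ← QK_re Q M l φ hφ hadj hsim hl0 h2, h, QK_re Q M l φ hφ hadj hsim hl0 h2,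
      LinearEquiv.symm_apply_apply])

theorem PsiO_mulVec (A : ↥(Cfsg.isometryGroup (KX l) ⇑(QK Q M l φ hφ hadj hsim hl0)))
    (v : ι → F) :
    mt Q (PsiO Q M l φ hφ hadj hsim hl0 h2 A) *ᵥ v =
      φ.symm (mt (QK Q M l φ hφ hadj hsim hl0) A *ᵥ φ v) :=
  psiM_mulVec l φ _ v

theorem PsiO_injective : Function.Injective (PsiO Q M l φ hφ hadj hsim hl0 h2) := by
  rw [injective_iff_map_eq_one]
  intro A hA
  apply O_ext
  intro y
  have h1 := congrArg (fun s => mt Q s *ᵥ φ.symm y) hA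
  simp only [PsiO_mulVec, LinearEquiv.apply_symm_apply, mt_one_mulVec] at h1
  have := congrArg φ h1
  rw [LinearEquiv.apply_symm_apply, LinearEquiv.apply_symm_apply] at this
  rw [this, mt_one_mulVec]

/-- the transported isometries commute with `M` -/
theorem PsiO_comm (A : ↥(Cfsg.isometryGroup (KX l) ⇑(QK Q M l φ hφ hadj hsim hl0))) :
    mt Q (PsiO Q M l φ hφ hadj hsim hl0 h2 A) * M = M * mt Q (PsiO Q M l φ hφ hadj hsim hl0 h2 A) := by
  apply Spin.matrix_ext_mulVec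
  intro v
  rw [← Matrix.mulVec_mulVec, ← Matrix.mulVec_mulVec, PsiO_mulVec, PsiO_mulVec, hφ,
    Matrix.mulVec_smul, psi_omega M l φ hφ]

end

end Cfsg.Agent.Helper28.LB
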