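import Mathlib
import Cfsg.Agent.Helper28.LocBal6
import Cfsg.Agent.Helper28.SemiSim3

set_option autoImplicit false
set_option linter.unusedSectionVars false

/-! Semilinear conjugation of Siegel transformations, and similarities of the form `a + b M`. -/

namespace Cfsg.Agent.Helper28.LB

open Matrix Module Cfsg.Agent.Helper28.Sg Cfsg.Agent.Helper28.Spin Cfsg.Agent.Helper28.OFN
  Cfsg.Agent.Helper28.SSim

variable {F : Type*} [Field F] [Fintype F] {ι : Type} [Fintype ι] [DecidableEq ι]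
  {Q : QuadraticForm F (ι → F)}

/-- a semilinear semi-isometry conjugates Siegel transformations to Siegel transformations -/
theorem siegO_semiconj {R : Type*} [FunLike R F F] [RingHomClass R F F] (σ : R)
    (T : (ι → F) → (ι → F)) (hadd : ∀ x y, T (x + y) = T x + T y)
    (hsmul : ∀ (a : F) x, T (a • x) = σ a • T x) (hTQ : ∀ x, Q (T x) = σ (Q x))
    {z w : ι → F} (hz : Q z = 0) (hzw : B Q z w = 0) (hz' : Q (T z) = 0)
    (hzw' : B Q (T z) (T w) = 0) (x : ι → F) :
    T (mt Q (siegO Q z w hz hzw) *ᵥ x) = mt Q (siegO Q (T z) (T w) hz' hzw') *ᵥ T x := by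
  have hTB : ∀ x y, B Q (T x) (T y) = σ (B Q x y) := by
    intro x y
    show QuadraticMap.polar (⇑Q) (T x) (T y) = σ (QuadraticMap.polar (⇑Q) x y)
    unfold QuadraticMap.polar
    rw [← hadd, hTQ, hTQ, hTQ, map_sub, map_sub]
  rw [siegO_mulVec, siegO_mulVec, T_sub T hadd, T_sub T hadd, hadd, hsmul, hsmul, hsmul, hTB, hTB,
    hTQ, map_mul]

/-- the semilinear map of a pair normalising `M` up to a scalar -/
theorem semi_M (h : GL ι F) (τ : F ≃+* F) (M : Matrix ι ι F) (ζ : F)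
    (hζ : (h : Matrix ι ι F) * M.map τ * ((h⁻¹ : GL ι F) : Matrix ι ι F) = ζ • M) (x : ι → F) :
    semi h τ (M *ᵥ x) = ζ • (M *ᵥ semi h τ x) := by
  have h1 : (h : Matrix ι ι F) * M.map τ = (ζ • M) * (h : Matrix ι ι F) := by
    rw [← hζ, Matrix.mul_assoc, ← Units.val_mul, inv_mul_cancel, Units.val_one, Matrix.mul_one]
  unfold semi
  rw [← map_mulVec'' τ M x, Matrix.mulVec_mulVec, h1, ← Matrix.mulVec_mulVec, Matrix.smul_mulVec]

/-- a similarity of the form `a + b M`, where `M` is self-adjoint with non-square scalar square,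
has `a = 0` or `b = 0` -/
theorem ab_zero (hQ : (QuadraticMap.polarBilin Q).Nondegenerate) (h2 : (2 : F) ≠ 0)
    (M : Matrix ι ι F) (l : F) (hadj : ∀ x y, B Q (M *ᵥ x) y = B Q x (M *ᵥ y))
    (hQM : ∀ v, Q (M *ᵥ v) = l * Q v) (hMM : ∀ v, M *ᵥ (M *ᵥ v) = l • v) (hns : ¬ IsSquare l)
    (hex : ∃ v : ι → F, v ≠ 0) {a b c : F}
    (h : ∀ v, Q (a • v + b • M *ᵥ v) = c * Q v) : a = 0 ∨ b = 0 := by
  by_contra hcon
  push Not at hcon
  obtain ⟨ha, hb⟩ := hcon
  obtain ⟨d, hd⟩ : ∃ d : F, d = c - a * a - b * b * l := ⟨_, rfl⟩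
  have h1 : ∀ v, a * b * B Q v (M *ᵥ v) = d * Q v := by
    intro v
    have := h v
    rw [Q_add, Q_smul, Q_smul, hQM, B_smul_left', B_smul_right'] at this
    rw [hd]
    linear_combination this
  have h3 : ∀ v w, (2 * (a * b)) * B Q (M *ᵥ v) w = d * B Q v w := by
    intro v w
    have e1 := h1 (v + w)
    have e2 := h1 v
    have e3 := h1 w
    rw [Matrix.mulVec_add, B_add_left', B_add_right', B_add_right', Q_add] at e1
    have e4 : B Q v (M *ᵥ w) = B Q (M *ᵥ v) w := (hadj v w).symm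
    have e5 : B Q w (M *ᵥ v) = B Q (M *ᵥ v) w := B_comm Q _ _
    rw [e4, e5] at e1
    linear_combination e1 - e2 - e3
  have h4 : ∀ v, M *ᵥ v = (d * (2 * (a * b))⁻¹) • v := by
    intro v
    have hab : 2 * (a * b) ≠ 0 := mul_ne_zero h2 (mul_ne_zero ha hb)
    have : (2 * (a * b)) • (M *ᵥ v) - d • v = 0 := by
      apply hQ.1
      intro w
      show QuadraticMap.polar (⇑Q) ((2 * (a * b)) • (M *ᵥ v) - d • v) w = 0
      rw [QuadraticMap.polar_sub_left, QuadraticMap.polar_smul_left, QuadraticMap.polar_smul_left,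
        smul_eq_mul, smul_eq_mul]
      have := h3 v w
      simp only [B] at this
      rw [this, sub_self]
    have h5 : (2 * (a * b)) • (M *ᵥ v) = d • v := sub_eq_zero.1 this
    have h6 := congrArg (fun t => (2 * (a * b))⁻¹ • t) h5
    simp only [smul_smul, inv_mul_cancel₀ hab, one_smul] at h6
    rw [h6, mul_comm]
  obtain ⟨v, hv⟩ := hex
  have h7 := hMM v
  rw [h4 (M *ᵥ v), h4 v, smul_smul] at h7
  have h8 : (d * (2 * (a * b))⁻¹ * (d * (2 * (a * b))⁻¹) - l) • v = 0 := by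
    rw [sub_smul, h7, sub_self]
  rcases smul_eq_zero.1 h8 with h9 | h9
  · apply hns
    exact ⟨d * (2 * (a * b))⁻¹, (sub_eq_zero.1 h9).symm⟩
  · exact hv h9

end Cfsg.Agent.Helper28.LB
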