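import Mathlib
import Cfsg.Agent.Helper28.LocBal14
import Cfsg.Agent.Helper28.LocBal15
import Cfsg.Agent.Helper28.LocBal9

set_option autoImplicit false
set_option linter.unusedSectionVars false

/-! The centralizer condition of the model in the non-square case. -/

namespace Cfsg.Agent.Helper28.LB

open Matrix Module QuadraticAlgebra Cfsg.Agent.Helper28.Sg Cfsg.Agent.Helper28.OFN
  Cfsg.Agent.Helper28.Spin Cfsg.Agent.Helper28.IsoTransport Cfsg.Agent.Helper28.SSim
  Cfsg.Agent.Helper28.NDM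

variable {F : Type*} [Field F] [Fintype F] {ι : Type} [Fintype ι] [DecidableEq ι]
  (Q : QuadraticForm F (ι → F)) (M : Matrix ι ι F) (l : F) [Fact (∀ r : F, r ^ 2 ≠ l + 0 * r)]
  {n : ℕ} (φ : (ι → F) ≃ₗ[F] (Fin n → KX l))

noncomputable instance : Fintype (KX l) := Fintype.ofEquiv _ (QuadraticAlgebra.equivProd l 0).symm

theorem two_ne_zero_KX (h2 : (2 : F) ≠ 0) : (2 : KX l) ≠ 0 := by
  intro h
  apply h2
  have := congrArg QuadraticAlgebra.re h
  simpa using this

/-- the twisted field automorphism of the quadratic extension -/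
noncomputable def sigmaK (τ : F ≃+* F) (ζ : F) (hτl : τ l = ζ * ζ * l) : KX l →+* KX l where
  toFun κ := ⟨τ κ.re, ζ * τ κ.im⟩
  map_one' := by ext <;> simp
  map_mul' a b := by
    ext
    · simp only [re_mul, map_add, map_mul, hτl]
      ring
    · simp only [im_mul, map_add, map_mul, map_zero]
      ring
  map_zero' := by ext <;> simp
  map_add' a b := by
    ext
    · simp
    · simp only [im_add, map_add]
      ring

theorem sigmaK_apply (τ : F ≃+* F) (ζ : F) (hτl : τ l = ζ * ζ * l) (κ : KX l) :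
    sigmaK l τ ζ hτl κ = ⟨τ κ.re, ζ * τ κ.im⟩ := rfl

section

variable (hφ : ∀ v, φ (M *ᵥ v) = (ω : KX l) • φ v)
  (hadj : ∀ x y, B Q (M *ᵥ x) y = B Q x (M *ᵥ y))
  (hsim : ∀ x y, B Q (M *ᵥ x) (M *ᵥ y) = l * B Q x y) (hl0 : l ≠ 0) (h2 : (2 : F) ≠ 0)

include h2 in
theorem NDon_top (hQ : (QuadraticMap.polarBilin Q).Nondegenerate) :
    NDon (QK Q M l φ hφ hadj hsim hl0) ⊤ := by
  intro x _ hx0
  by_contra hcon
  push Not at hcon
  apply hx0
  apply (QK_nondeg Q M l φ hφ hadj hsim hl0 h2 hQ).1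
  intro y
  exact hcon y Submodule.mem_top

/-- **the centralizer condition** -/
theorem model_hD (hQ : (QuadraticMap.polarBilin Q).Nondegenerate)
    (hQM : ∀ v, Q (M *ᵥ v) = l * Q v) (hMM : ∀ v, M *ᵥ (M *ᵥ v) = l • v) (hns : ¬ IsSquare l)
    (hn3 : 3 ≤ n) (hex : ∃ v : ι → F, v ≠ 0) (h : GL ι F) (τ : F ≃+* F)
    (hp : Cfsg.IsSemisimilarityPair (⇑Q) h τ) (ζ : F)
    (hζ : (h : Matrix ι ι F) * M.map τ * ((h⁻¹ : GL ι F) : Matrix ι ι F) = ζ • M)
    (hfix : ∀ (z w : Fin n → KX l) (hz : QK Q M l φ hφ hadj hsim hl0 z = 0)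
      (hzw : B (QK Q M l φ hφ hadj hsim hl0) z w = 0),
      (h : Matrix ι ι F) * (mt Q (PsiO Q M l φ hφ hadj hsim hl0 h2
        (siegO (QK Q M l φ hφ hadj hsim hl0) z w hz hzw))).map τ *
        ((h⁻¹ : GL ι F) : Matrix ι ι F) =
      mt Q (PsiO Q M l φ hφ hadj hsim hl0 h2 (siegO (QK Q M l φ hφ hadj hsim hl0) z w hz hzw))) :
    τ = RingEquiv.refl F ∧ ∃ c : F, ((h : Matrix ι ι F) = c • 1 ∨ (h : Matrix ι ι F) = c • M) := by
  have hTM := semi_M h τ M ζ hζ
  obtain ⟨v₀, hv₀⟩ := hex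
  have hinj : ∀ x, semi h τ x = 0 → x = 0 := by
    intro x hx
    apply semi_injective h τ
    rw [hx]
    unfold semi
    have : (fun i => τ ((0 : ι → F) i)) = 0 := by
      funext i; simp
    rw [this, Matrix.mulVec_zero]
  have hTv₀ : semi h τ v₀ ≠ 0 := fun h0 => hv₀ (hinj v₀ h0)
  have hτl : τ l = ζ * ζ * l := by
    have h1 : semi h τ (M *ᵥ (M *ᵥ v₀)) = τ l • semi h τ v₀ := by rw [hMM, semi_smul]
    have h3 : semi h τ (M *ᵥ (M *ᵥ v₀)) = (ζ * ζ * l) • semi h τ v₀ := by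
      rw [hTM, hTM, Matrix.mulVec_smul, hMM, smul_smul, smul_smul]
    rw [h1] at h3
    have h4 : (τ l - ζ * ζ * l) • semi h τ v₀ = 0 := by rw [sub_smul, h3, sub_self]
    rcases smul_eq_zero.1 h4 with h5 | h5
    · exact sub_eq_zero.1 h5
    · exact absurd h5 hTv₀
  obtain ⟨Tt, hTt⟩ : ∃ Tt : (Fin n → KX l) → (Fin n → KX l),
      Tt = fun y => φ (semi h τ (φ.symm y)) := ⟨_, rfl⟩
  have hTt' : ∀ y, Tt y = φ (semi h τ (φ.symm y)) := fun y => by rw [hTt]
  have hadd : ∀ x y, Tt (x + y) = Tt x + Tt y := by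
    intro x y
    rw [hTt', hTt', hTt', map_add, semi_add, map_add]
  have hsmul : ∀ (κ : KX l) x, Tt (κ • x) = sigmaK l τ ζ hτl κ • Tt x := by
    intro κ x
    rw [hTt', hTt', psi_smul M l φ hφ, semi_add, semi_smul, semi_smul, hTM, map_add, map_smul,
      map_smul, map_smul, hφ, kx_smul_eq (sigmaK l τ ζ hτl κ), sigmaK_apply, smul_smul]
    congr 2
    rw [mul_comm]
  have hinj' : ∀ x, Tt x = 0 → x = 0 := by
    intro x hx
    rw [hTt'] at hx
    have h1 : semi h τ (φ.symm x) = 0 := by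
      have := congrArg φ.symm hx
      rwa [LinearEquiv.symm_apply_apply, map_zero] at this
    have h3 := hinj _ h1
    have := congrArg φ h3
    rwa [LinearEquiv.apply_symm_apply, map_zero] at this
  have hcomm : ∀ (z w : Fin n → KX l) (hz : QK Q M l φ hφ hadj hsim hl0 z = 0)
      (hzw : B (QK Q M l φ hφ hadj hsim hl0) z w = 0),
      z ∈ (⊤ : Submodule (KX l) (Fin n → KX l)) → w ∈ (⊤ : Submodule (KX l) (Fin n → KX l)) →
      ∀ x, Tt (mt (QK Q M l φ hφ hadj hsim hl0) (siegO (QK Q M l φ hφ hadj hsim hl0) z w hz hzw) *ᵥ x)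
        = mt (QK Q M l φ hφ hadj hsim hl0) (siegO (QK Q M l φ hφ hadj hsim hl0) z w hz hzw) *ᵥ
          Tt x := by
    intro z w hz hzw _ _ x
    have h1 := semi_comm h τ _ (hfix z w hz hzw) (φ.symm x)
    rw [PsiO_mulVec, PsiO_mulVec, LinearEquiv.apply_symm_apply] at h1
    rw [hTt', hTt', h1, LinearEquiv.apply_symm_apply]
  have hQK := QK_nondeg Q M l φ hφ hadj hsim hl0 h2 hQ
  have h3 : 3 ≤ finrank (KX l) (⊤ : Submodule (KX l) (Fin n → KX l)) := by
    rw [finrank_top, Module.finrank_fintype_fun_eq_card, Fintype.card_fin]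
    exact hn3
  obtain ⟨hσ, lam, -, hlam⟩ := scalar_of_comm Tt (sigmaK l τ ζ hτl) hadd hsmul hinj' hcomm
    (two_ne_zero_KX l h2) hQK (NDon_top Q M l φ hφ hadj hsim hl0 h2 hQ) h3
  have hτ : ∀ a, τ a = a := by
    intro a
    have := congrArg QuadraticAlgebra.re (hσ (⟨a, 0⟩ : KX l))
    rw [sigmaK_apply] at this
    exact this
  have hτr : τ = RingEquiv.refl F := by
    ext a
    exact hτ a
  refine ⟨hτr, ?_⟩
  have hsemi : ∀ x, semi h τ x = (h : Matrix ι ι F) *ᵥ x := by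
    intro x
    unfold semi
    congr 1
    funext i
    exact hτ (x i)
  have hT : ∀ v, (h : Matrix ι ι F) *ᵥ v = lam.re • v + lam.im • (M *ᵥ v) := by
    intro v
    have h1 := hlam (φ v) Submodule.mem_top
    rw [hTt', LinearEquiv.symm_apply_apply] at h1
    have h4 := congrArg φ.symm h1
    rw [LinearEquiv.symm_apply_apply, psi_smul M l φ hφ, LinearEquiv.symm_apply_apply] at h4
    rw [← hsemi, h4]
  have hab : lam.re = 0 ∨ lam.im = 0 := by
    obtain ⟨c', hc'⟩ := hp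
    apply ab_zero hQ h2 M l hadj hQM hMM hns ⟨v₀, hv₀⟩ (c := (c' : F))
    intro v
    have := hc' v
    rw [hτ] at this
    have e : (fun i => τ (v i)) = v := by
      funext i; exact hτ (v i)
    rw [e, hT] at this
    exact this
  rcases hab with h0 | h0
  · refine ⟨lam.im, Or.inr ?_⟩
    apply Spin.matrix_ext_mulVec
    intro v
    rw [hT, h0, zero_smul, zero_add, Matrix.smul_mulVec]
  · refine ⟨lam.re, Or.inl ?_⟩
    apply Spin.matrix_ext_mulVec
    intro v
    rw [hT, h0, zero_smul, add_zero, Matrix.smul_mulVec, Matrix.one_mulVec]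

end

end Cfsg.Agent.Helper28.LB
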