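import Mathlib
import Cfsg.Agent.Helper28.LocBal16

set_option autoImplicit false
set_option linter.unusedSectionVars false

/-! Conjugation of the transported Siegel transformations by isometries commuting or
anticommuting with `M`. -/

namespace Cfsg.Agent.Helper28.LB

open Matrix Module QuadraticAlgebra Cfsg.Agent.Helper28.Sg Cfsg.Agent.Helper28.OFN
  Cfsg.Agent.Helper28.Spin Cfsg.Agent.Helper28.IsoTransport Cfsg.Agent.Helper28.SSim
  Cfsg.Agent.Helper28.NDM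

variable {F : Type*} [Field F] [Fintype F] {ι : Type} [Fintype ι] [DecidableEq ι]
  (Q : QuadraticForm F (ι → F)) (M : Matrix ι ι F) (l : F) [Fact (∀ r : F, r ^ 2 ≠ l + 0 * r)]
  {n : ℕ} (φ : (ι → F) ≃ₗ[F] (Fin n → KX l))
  (hφ : ∀ v, φ (M *ᵥ v) = (ω : KX l) • φ v)
  (hadj : ∀ x y, B Q (M *ᵥ x) y = B Q x (M *ᵥ y))
  (hsim : ∀ x y, B Q (M *ᵥ x) (M *ᵥ y) = l * B Q x y) (hl0 : l ≠ 0) (h2 : (2 : F) ≠ 0)

theorem conj_PsiO (t : ↥(Cfsg.isometryGroup F ⇑Q)) (ε : F) (hε : ε * ε = 1)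
    (ht : mt Q t * M = ε • (M * mt Q t)) (u v : Fin n → KX l)
    (hu : QK Q M l φ hφ hadj hsim hl0 u = 0) (huv : B (QK Q M l φ hφ hadj hsim hl0) u v = 0) :
    ∃ (u' v' : Fin n → KX l) (hu' : QK Q M l φ hφ hadj hsim hl0 u' = 0)
      (huv' : B (QK Q M l φ hφ hadj hsim hl0) u' v' = 0),
      t * PsiO Q M l φ hφ hadj hsim hl0 h2 (siegO (QK Q M l φ hφ hadj hsim hl0) u v hu huv) * t⁻¹ =
        PsiO Q M l φ hφ hadj hsim hl0 h2 (siegO (QK Q M l φ hφ hadj hsim hl0) u' v' hu' huv') := by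
  have hτl : (RingEquiv.refl F) l = ε * ε * l := by rw [hε, one_mul]; rfl
  obtain ⟨tK, htK⟩ : ∃ tK : (Fin n → KX l) → (Fin n → KX l),
      tK = fun y => φ (mt Q t *ᵥ φ.symm y) := ⟨_, rfl⟩
  have htK' : ∀ y, tK y = φ (mt Q t *ᵥ φ.symm y) := fun y => by rw [htK]
  have htM : ∀ x, mt Q t *ᵥ (M *ᵥ x) = ε • (M *ᵥ (mt Q t *ᵥ x)) := by
    intro x
    rw [Matrix.mulVec_mulVec, ht, Matrix.smul_mulVec, ← Matrix.mulVec_mulVec]
  have hMt : ∀ x, M *ᵥ (mt Q t *ᵥ x) = ε • (mt Q t *ᵥ (M *ᵥ x)) := by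
    intro x
    rw [htM, smul_smul, hε, one_smul]
  have hadd : ∀ x y, tK (x + y) = tK x + tK y := by
    intro x y
    rw [htK', htK', htK', map_add, Matrix.mulVec_add, map_add]
  have hsmul : ∀ (κ : KX l) x, tK (κ • x) = sigmaK l (RingEquiv.refl F) ε hτl κ • tK x := by
    intro κ x
    rw [htK', htK', psi_smul M l φ hφ, Matrix.mulVec_add, Matrix.mulVec_smul, Matrix.mulVec_smul,
      htM, map_add, map_smul, map_smul, map_smul, hφ,
      kx_smul_eq (sigmaK l (RingEquiv.refl F) ε hτl κ), sigmaK_apply, smul_smul]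
    congr 2
    rw [mul_comm]
    rfl
  have hTQ : ∀ x, QK Q M l φ hφ hadj hsim hl0 (tK x) =
      sigmaK l (RingEquiv.refl F) ε hτl (QK Q M l φ hφ hadj hsim hl0 x) := by
    intro x
    rw [QK_apply, QK_apply, sigmaK_apply, htK', LinearEquiv.symm_apply_apply]
    ext
    · show (2 : F)⁻¹ * B Q (mt Q t *ᵥ φ.symm x) (mt Q t *ᵥ φ.symm x) = _
      rw [B_isom]
      rfl
    · show (2 : F)⁻¹ * (l⁻¹ * B Q (M *ᵥ (mt Q t *ᵥ φ.symm x)) (mt Q t *ᵥ φ.symm x)) = _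
      rw [hMt, B_smul_left', B_isom]
      show _ = ε * ((2 : F)⁻¹ * (l⁻¹ * B Q (M *ᵥ φ.symm x) (φ.symm x)))
      ring
  have hTB : ∀ x y, B (QK Q M l φ hφ hadj hsim hl0) (tK x) (tK y) =
      sigmaK l (RingEquiv.refl F) ε hτl (B (QK Q M l φ hφ hadj hsim hl0) x y) := by
    intro x y
    show QuadraticMap.polar (⇑(QK Q M l φ hφ hadj hsim hl0)) (tK x) (tK y) =
      sigmaK l (RingEquiv.refl F) ε hτl (QuadraticMap.polar (⇑(QK Q M l φ hφ hadj hsim hl0)) x y)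
    unfold QuadraticMap.polar
    rw [← hadd, hTQ, hTQ, hTQ, map_sub, map_sub]
  have hu' : QK Q M l φ hφ hadj hsim hl0 (tK u) = 0 := by rw [hTQ, hu, map_zero]
  have huv' : B (QK Q M l φ hφ hadj hsim hl0) (tK u) (tK v) = 0 := by rw [hTB, huv, map_zero]
  refine ⟨tK u, tK v, hu', huv', ?_⟩
  rw [mul_inv_eq_iff_eq_mul]
  apply O_ext
  intro x
  rw [mt_mul_mulVec, mt_mul_mulVec, PsiO_mulVec, PsiO_mulVec]
  have h1 := siegO_semiconj (sigmaK l (RingEquiv.refl F) ε hτl) tK hadd hsmul hTQ hu huv hu' huv'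
    (φ x)
  rw [htK' (φ x), LinearEquiv.symm_apply_apply, htK'] at h1
  have := congrArg φ.symm h1
  rw [LinearEquiv.symm_apply_apply] at this
  exact this

end Cfsg.Agent.Helper28.LB
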