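import Mathlib
import Cfsg.Agent.Helper28.LocBal11
import Cfsg.Agent.Helper28.LocBal17

set_option autoImplicit false
set_option linter.unusedSectionVars false

/-! The `2'`-core of the centralizer of an involutory similarity whose square is a non-square
scalar. -/

namespace Cfsg.Agent.Helper28.LB

open Matrix Module QuadraticAlgebra Cfsg.Agent.Helper28.Sg Cfsg.Agent.Helper28.Spin
  Cfsg.Agent.Helper28.PG
  Cfsg.Agent.Helper28.PA Cfsg.Agent.Helper28.SSim Cfsg.Agent.Helper28.FO Cfsg.Agent.Helper28.FB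
  Cfsg.Agent.Helper28.GInv Cfsg.Agent.Helper28.GC Cfsg.Agent.Helper28.FS Cfsg.Agent.Helper28.NDM
  Cfsg.Agent.Helper28.OFN

variable {F : Type*} [Field F] [Fintype F] [DecidableEq F] {ι : Type} [Fintype ι] [DecidableEq ι]
  (Q : QuadraticForm F (ι → F))

/-- **the non-square case** -/
theorem core_two_nonsquare [Nonempty ι] (hQ : (QuadraticMap.polarBilin Q).Nondegenerate)
    (fr : Frame3 Q)
    (hgen : ∀ (H : Subgroup ↥(Cfsg.isometryGroup F ⇑Q)),
      (∀ (v : ι → F) (hv : Q v ≠ 0), reflO Q v hv ∈ H) → ∀ g, g ∈ H)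
    (htop : Cfsg.gammaPOmega F ⇑Q = ⊤) (hex : ∃ v : ι → F, Q v ≠ 0) {k : ℕ}
    (hk : Fintype.card ι = 2 * k) (h2 : (2 : F) ≠ 0) (hk4 : 4 ≤ k)
    (g : ↥(GO Q)) (hsgn : PG.sgn Q k g = -1) (hg2 : cG Q g * cG Q g = 1) (l : F)
    (hl : ∀ x, mg Q g *ᵥ (mg Q g *ᵥ x) = l • x) (hμ : (mu Q g : F) = l) (hns : ¬ IsSquare l)
    (A : Subgroup (MulAut (Cfsg.POmega F ⇑Q)))
    (hinn : ∀ y : Cfsg.POmega F ⇑Q, MulAut.conj y ∈ A) :
    Cfsg.pPrimeCore 2 ↥(A ⊓ Subgroup.centralizer {cG Q g}) = ⊥ := by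
  have hperf := Omega_perfect' hQ fr hgen
  have hone : (1 : F) ≠ -1 := by
    intro h
    apply h2
    linear_combination h
  have hx1 : cG Q g ≠ 1 := by
    intro h
    have := (ker_of_cG Q hQ fr hex hperf hk g h).2
    rw [hsgn] at this
    exact hone this.symm
  have hl0 := l_ne_zero Q hex g _ hl
  have hadj := adj_self Q hex g _ hl hμ
  have hM := mg_mul_self Q g l hl
  haveI := fact_of_not_isSquare hns
  obtain ⟨n, φ, hφ⟩ := exists_coords (mg Q g) l hM
  have hsim : ∀ x y, B Q (mg Q g *ᵥ x) (mg Q g *ᵥ y) = l * B Q x y := by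
    intro x y
    rw [← hμ]
    exact polar_sim Q g x y
  have hQM : ∀ v, Q (mg Q g *ᵥ v) = l * Q v := by
    intro v
    rw [← hμ]
    exact mu_spec Q g v
  -- `n = k` is odd
  have hnk : n = k := by
    have h1 := φ.finrank_eq
    have h3 : finrank F (Fin n → KX l) = n * 2 := by
      rw [Module.finrank_pi_fintype]
      simp [QuadraticAlgebra.finrank_eq_two]
    rw [Module.finrank_fintype_fun_eq_card, hk, h3] at h1
    omega
  have hkodd : Odd k := by
    have h1 := sgn_of_nonsquare Q hex hk g l hl hμ hns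
    rw [hsgn] at h1
    rcases Nat.even_or_odd k with h | h
    · rw [h.neg_one_pow] at h1
      exact absurd h1.symm hone
    · exact h
  obtain ⟨Gen0, hGen0⟩ : ∃ Gen0 : Set ↥(Cfsg.isometryGroup (KX l)
      ⇑(QK Q (mg Q g) l φ hφ hadj hsim hl0)), Gen0 = {s | ∃ (u v : Fin n → KX l)
      (hu : QK Q (mg Q g) l φ hφ hadj hsim hl0 u = 0)
      (huv : B (QK Q (mg Q g) l φ hφ hadj hsim hl0) u v = 0),
      u ∈ (⊤ : Submodule (KX l) (Fin n → KX l)) ∧ v ∈ (⊤ : Submodule (KX l) (Fin n → KX l)) ∧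
      s = siegO (QK Q (mg Q g) l φ hφ hadj hsim hl0) u v hu huv} := ⟨_, rfl⟩
  have hcl0 : Subgroup.closure Gen0 = SW (QK Q (mg Q g) l φ hφ hadj hsim hl0) ⊤ := by
    rw [hGen0]; rfl
  have hmem0 : ∀ s ∈ Gen0, ∃ (u v : Fin n → KX l)
      (hu : QK Q (mg Q g) l φ hφ hadj hsim hl0 u = 0)
      (huv : B (QK Q (mg Q g) l φ hφ hadj hsim hl0) u v = 0),
      s = siegO (QK Q (mg Q g) l φ hφ hadj hsim hl0) u v hu huv := by
    intro s hs
    rw [hGen0] at hs
    obtain ⟨u, v, hu, huv, -, -, h⟩ := hs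
    exact ⟨u, v, hu, huv, h⟩
  have hmk0 : ∀ (u v : Fin n → KX l)
      (hu : QK Q (mg Q g) l φ hφ hadj hsim hl0 u = 0)
      (huv : B (QK Q (mg Q g) l φ hφ hadj hsim hl0) u v = 0),
      siegO (QK Q (mg Q g) l φ hφ hadj hsim hl0) u v hu huv ∈ Gen0 := by
    intro u v hu huv
    rw [hGen0]
    exact ⟨u, v, hu, huv, Submodule.mem_top, Submodule.mem_top, rfl⟩
  obtain ⟨Gen, hGen⟩ : ∃ Gen : Set ↥(Cfsg.isometryGroup F ⇑Q),
      Gen = (PsiO Q (mg Q g) l φ hφ hadj hsim hl0 h2) '' Gen0 := ⟨_, rfl⟩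
  have hcl : Subgroup.closure Gen =
      (SW (QK Q (mg Q g) l φ hφ hadj hsim hl0) ⊤).map (PsiO Q (mg Q g) l φ hφ hadj hsim hl0 h2) := by
    rw [hGen, ← hcl0, MonoidHom.map_closure]
  have hmem : ∀ s ∈ Gen, ∃ (u v : Fin n → KX l)
      (hu : QK Q (mg Q g) l φ hφ hadj hsim hl0 u = 0)
      (huv : B (QK Q (mg Q g) l φ hφ hadj hsim hl0) u v = 0),
      s = PsiO Q (mg Q g) l φ hφ hadj hsim hl0 h2
        (siegO (QK Q (mg Q g) l φ hφ hadj hsim hl0) u v hu huv) := by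
    intro s hs
    rw [hGen] at hs
    obtain ⟨s0, hs0, rfl⟩ := hs
    obtain ⟨u, v, hu, huv, rfl⟩ := hmem0 s0 hs0
    exact ⟨u, v, hu, huv, rfl⟩
  have hmk : ∀ (u v : Fin n → KX l)
      (hu : QK Q (mg Q g) l φ hφ hadj hsim hl0 u = 0)
      (huv : B (QK Q (mg Q g) l φ hφ hadj hsim hl0) u v = 0),
      PsiO Q (mg Q g) l φ hφ hadj hsim hl0 h2
        (siegO (QK Q (mg Q g) l φ hφ hadj hsim hl0) u v hu huv) ∈ Gen := by
    intro u v hu huv
    rw [hGen]
    exact ⟨_, hmk0 u v hu huv, rfl⟩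
  apply core_two_of_model Q hQ fr hgen htop hex hk h2 (by omega) g hx1 hg2 Gen
  · -- odd order
    intro s hs
    obtain ⟨u, v, hu, huv, rfl⟩ := hmem s hs
    rw [orderOf_injective _ (PsiO_injective Q (mg Q g) l φ hφ hadj hsim hl0 h2)]
    exact siegO_odd (two_ne_zero_KX l h2) hu huv
  · -- commutation with `g`
    intro s hs
    obtain ⟨u, v, hu, huv, rfl⟩ := hmem s hs
    exact PsiO_comm Q (mg Q g) l φ hφ hadj hsim hl0 h2 _
  · -- normalisation
    intro t ht s hs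
    obtain ⟨u, v, hu, huv, rfl⟩ := hmem s hs
    rcases ht with ht | ht
    · obtain ⟨u', v', hu', huv', h⟩ := conj_PsiO Q (mg Q g) l φ hφ hadj hsim hl0 h2 t 1
        (by rw [one_mul]) (by rw [one_smul]; exact ht) u v hu huv
      rw [h]
      exact Subgroup.subset_closure (hmk u' v' hu' huv')
    · obtain ⟨u', v', hu', huv', h⟩ := conj_PsiO Q (mg Q g) l φ hφ hadj hsim hl0 h2 t (-1)
        (by ring) (by rw [neg_smul, one_smul]; exact ht) u v hu huv
      rw [h]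
      exact Subgroup.subset_closure (hmk u' v' hu' huv')
  · -- no odd normal subgroups
    rw [hcl]
    apply noOdd_map
    · apply noOdd_SW (two_ne_zero_KX l h2) (QK_nondeg Q (mg Q g) l φ hφ hadj hsim hl0 h2 hQ)
        (NDon_top Q (mg Q g) l φ hφ hadj hsim hl0 h2 hQ)
      rw [finrank_top, Module.finrank_fintype_fun_eq_card, Fintype.card_fin, hnk]
      exact hkodd
    · intro z _ hz
      have : z = 1 := PsiO_injective Q (mg Q g) l φ hφ hadj hsim hl0 h2 (by rw [hz, map_one])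
      subst this
      refine ⟨one_mul 1, ?_⟩
      intro s _
      rw [mul_one, one_mul]
  · -- the centralizer
    intro h τ hp hζ hfix
    obtain ⟨ζ, hζ⟩ := hζ
    apply model_hD Q (mg Q g) l φ hφ hadj hsim hl0 h2 hQ hQM hl hns (by omega) ?_ h τ hp ζ hζ
    · intro z w hz hzw
      exact hfix _ (hmk z w hz hzw)
    · obtain ⟨v, hv⟩ := hex
      refine ⟨v, ?_⟩
      rintro rfl
      exact hv (map_zero _)
  · exact hinn

end Cfsg.Agent.Helper28.LB
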