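import Mathlib
import Cfsg.Agent.Helper28.LocBal18

set_option autoImplicit false
set_option linter.unusedSectionVars false

/-! The `2'`-core of the centralizer of an involution induced by a similarity of sign `-1`. -/

namespace Cfsg.Agent.Helper28.LB

open Matrix Module QuadraticAlgebra Cfsg.Agent.Helper28.Sg Cfsg.Agent.Helper28.Spin
  Cfsg.Agent.Helper28.PG
  Cfsg.Agent.Helper28.PA Cfsg.Agent.Helper28.SSim Cfsg.Agent.Helper28.FO Cfsg.Agent.Helper28.FB
  Cfsg.Agent.Helper28.GInv Cfsg.Agent.Helper28.GC Cfsg.Agent.Helper28.FS Cfsg.Agent.Helper28.NDM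
  Cfsg.Agent.Helper28.OFN

variable {F : Type*} [Field F] [Fintype F] [DecidableEq F] {ι : Type} [Fintype ι] [DecidableEq ι]
  (Q : QuadraticForm F (ι → F))

/-- **local balance for graph involutions of even-dimensional orthogonal groups**: the `2'`-core of
the centralizer of an involution induced by a similarity of sign `-1` is trivial -/
theorem core_two_graph [Nonempty ι] (hQ : (QuadraticMap.polarBilin Q).Nondegenerate)
    (fr : Frame3 Q)
    (hgen : ∀ (H : Subgroup ↥(Cfsg.isometryGroup F ⇑Q)),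
      (∀ (v : ι → F) (hv : Q v ≠ 0), reflO Q v hv ∈ H) → ∀ g, g ∈ H)
    (htop : Cfsg.gammaPOmega F ⇑Q = ⊤) (hex : ∃ v : ι → F, Q v ≠ 0) {k : ℕ}
    (hk : Fintype.card ι = 2 * k) (h2 : (2 : F) ≠ 0) (hk4 : 4 ≤ k)
    (g : ↥(GO Q)) (hsgn : PG.sgn Q k g = -1) (hg2 : cG Q g * cG Q g = 1)
    (A : Subgroup (MulAut (Cfsg.POmega F ⇑Q)))
    (hinn : ∀ y : Cfsg.POmega F ⇑Q, MulAut.conj y ∈ A) :
    Cfsg.pPrimeCore 2 ↥(A ⊓ Subgroup.centralizer {cG Q g}) = ⊥ := by
  have hperf := Omega_perfect' hQ fr hgen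
  have hone : (1 : F) ≠ -1 := by
    intro h
    apply h2
    linear_combination h
  obtain ⟨l, hl⟩ := exists_scalar_sq Q hQ fr hex hperf hk g hg2
  rcases mu_cases Q hex g l hl with hμ | hμ
  · by_cases hsq : IsSquare l
    · obtain ⟨c, rfl⟩ := hsq
      exact core_two_square Q hQ fr hgen htop hex hk h2 hk4 g hsgn hg2 c hl hμ A hinn
    · exact core_two_nonsquare Q hQ fr hgen htop hex hk h2 hk4 g hsgn hg2 l hl hμ hsq A hinn
  · exfalso
    have := sgn_of_skew' Q hQ h2 hex hk g l hl hμ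
    rw [hsgn] at this
    exact hone this.symm

end Cfsg.Agent.Helper28.LB
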