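import Mathlib
import Cfsg.Prelude.Def_LieTypeDatum
import Cfsg.Agent.Helper28.FieldB4
import Cfsg.Agent.Helper28.FieldM12
import Cfsg.Agent.Helper28.OmegaCenter

set_option autoImplicit false
set_option linter.unusedSectionVars false

/-! The centralizer of the rational subgroup `I₀` in the centralizer of the standard field
automorphism attached to a single field automorphism (the centre of `Ω` may be nontrivial). -/

namespace Cfsg.Agent.Helper28.LB

open Matrix Module Cfsg.Agent.Helper28.SSim Cfsg.Agent.Helper28.Sg Cfsg.Agent.Helper28.PG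
  Cfsg.Agent.Helper28.GC Cfsg.Agent.Helper28.Spin Cfsg.Agent.Helper28.PA Cfsg.Agent.Helper28.FO
  Cfsg.Agent.Helper28.FM Cfsg.Agent.Helper28.FB
open Cfsg.Agent.Helper7.FieldPSL (FDesc)

section group

variable {G H : Type*} [Group G] [Group H]

/-- two homomorphisms from a perfect group which agree modulo the centre are equal -/
theorem hom_eq_of_central_diff (hperf : commutator G = ⊤) (f₁ f₂ : G →* H)
    (h : ∀ s, (f₁ s)⁻¹ * f₂ s ∈ Subgroup.center H) (s : G) : f₁ s = f₂ s := by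
  obtain ⟨η, hη⟩ : ∃ η : G →* ↥(Subgroup.center H), ∀ s, (η s : H) = (f₁ s)⁻¹ * f₂ s := ⟨
    { toFun := fun s => ⟨(f₁ s)⁻¹ * f₂ s, h s⟩
      map_one' := by
        apply Subtype.ext
        show (f₁ 1)⁻¹ * f₂ 1 = 1
        rw [map_one, map_one, inv_one, one_mul]
      map_mul' := by
        intro s t
        apply Subtype.ext
        show (f₁ (s * t))⁻¹ * f₂ (s * t) = (f₁ s)⁻¹ * f₂ s * ((f₁ t)⁻¹ * f₂ t)
        have hz := Subgroup.mem_center_iff.1 (h s)
        rw [map_mul, map_mul, _root_.mul_inv_rev]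
        generalize f₁ s = a at hz ⊢
        generalize f₂ s = b at hz ⊢
        generalize f₁ t = c
        generalize f₂ t = d
        calc c⁻¹ * a⁻¹ * (b * d) = c⁻¹ * (a⁻¹ * b) * d := by simp only [mul_assoc]
          _ = (a⁻¹ * b) * c⁻¹ * d := by rw [hz]
          _ = _ := by simp only [mul_assoc] }, fun s => rfl⟩
  have hker : ∀ t ∈ commutator G, η t = 1 := by
    intro t ht
    rw [commutator_eq_closure] at ht
    induction ht using Subgroup.closure_induction with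
    | mem x hx =>
      obtain ⟨a, b, rfl⟩ := hx
      rw [map_commutatorElement, commutatorElement_eq_one_iff_commute]
      apply Subtype.ext
      show ((η a : H) * (η b : H)) = (η b : H) * (η a : H)
      exact (Subgroup.mem_center_iff.1 (η b).2) (η a)
    | one => exact map_one _
    | mul x y _ _ hx hy => rw [map_mul, hx, hy, one_mul]
    | inv x _ hx => rw [map_inv, hx, inv_one]
  have hs : η s = 1 := hker s (by rw [hperf]; exact Subgroup.mem_top s)
  have h1 : (f₁ s)⁻¹ * f₂ s = 1 := by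
    rw [← hη, hs]
    rfl
  rw [inv_mul_eq_one] at h1
  exact h1

end group

variable {F : Type*} [Field F] [Fintype F] [DecidableEq F] {F₀ : Type*} [Field F₀] [Fintype F₀]
  [DecidableEq F₀] {ι : Type} [Fintype ι] [DecidableEq ι]

section lemmaD

variable (E : FDesc F F₀) {Q : QuadraticForm F (ι → F)} {Q₀ : QuadraticForm F₀ (ι → F₀)}

/-- the centre of the rational `Ω` acts trivially -/
theorem iotaO_eq_one_of_center (hc : Compat E Q Q₀)
    (hQ₀ : (QuadraticMap.polarBilin Q₀).Nondegenerate) (h6 : 6 ≤ Fintype.card ι)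
    (s : ↥(Cfsg.Omega F₀ ⇑Q₀)) (hs : s ∈ Subgroup.center ↥(Cfsg.Omega F₀ ⇑Q₀)) :
    iotaO E hc s = 1 := by
  rw [iotaO_eq_conj]
  have hcen : bcΩ E hc s ∈ Subgroup.center ↥(Cfsg.Omega F ⇑Q) := by
    have h1 := Cfsg.Agent.Helper28.OC.centralizer_Omega Q₀ hQ₀ h6
      (s : ↥(Cfsg.isometryGroup F₀ ⇑Q₀)) (by
        intro g hg
        have := Subgroup.mem_center_iff.1 hs ⟨g, hg⟩
        have h3 := congrArg Subtype.val this
        exact h3.symm)
    have hmat : ((((bcΩ E hc s : ↥(Cfsg.Omega F ⇑Q)) : ↥(Cfsg.isometryGroup F ⇑Q)) : GL ι F) :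
        Matrix ι ι F) = 1 ∨ ((((bcΩ E hc s : ↥(Cfsg.Omega F ⇑Q)) :
          ↥(Cfsg.isometryGroup F ⇑Q)) : GL ι F) : Matrix ι ι F) = -1 := by
      rw [bcΩ_coe, bcO_val]
      rcases h1 with h | h
      · left
        rw [h, Matrix.map_one _ (map_zero _) (map_one _)]
      · right
        rw [h]
        ext i j
        by_cases hij : i = j
        · subst hij
          simp
        · simp [hij]
    rw [Subgroup.mem_center_iff]
    intro t
    apply Subtype.ext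
    apply Subtype.ext
    apply Units.ext
    show (((t : ↥(Cfsg.isometryGroup F ⇑Q)) : GL ι F) : Matrix ι ι F) *
        ((((bcΩ E hc s : ↥(Cfsg.Omega F ⇑Q)) : ↥(Cfsg.isometryGroup F ⇑Q)) : GL ι F) :
          Matrix ι ι F) =
      ((((bcΩ E hc s : ↥(Cfsg.Omega F ⇑Q)) : ↥(Cfsg.isometryGroup F ⇑Q)) : GL ι F) :
          Matrix ι ι F) * (((t : ↥(Cfsg.isometryGroup F ⇑Q)) : GL ι F) : Matrix ι ι F)
    rcases hmat with h | h
    · rw [h, Matrix.mul_one, Matrix.one_mul]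
    · rw [h, Matrix.mul_neg, Matrix.neg_mul, Matrix.mul_one, Matrix.one_mul]
  have h1 : (QuotientGroup.mk (bcΩ E hc s) : Cfsg.POmega F ⇑Q) = 1 :=
    (QuotientGroup.eq_one_iff _).2 hcen
  rw [h1, map_one]

/-- a similarity-induced automorphism commuting with the field automorphism and centralising `I₀`
is trivial -/
theorem cG_eq_one_of_centralizes_S [Nonempty ι] (hQ : (QuadraticMap.polarBilin Q).Nondegenerate)
    (fr : Frame3 Q) (hperf : commutator ↥(Cfsg.Omega F ⇑Q) = ⊤) (hσS : IsStdAt Q E.σ)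
    (hc : Compat E Q Q₀) (hQ₀ : (QuadraticMap.polarBilin Q₀).Nondegenerate) (fr₀ : Frame3 Q₀)
    (hperf₀ : commutator ↥(Cfsg.Omega F₀ ⇑Q₀) = ⊤) (hσ : 0 < orderOf E.σ)
    (hZP₀ : Subgroup.center (Cfsg.POmega F₀ ⇑Q₀) = ⊥)
    (δ : MulAut (Cfsg.POmega F ⇑Q)) (hδ : δ ∈ Cfsg.pgoAut F ⇑Q)
    (hδC : δ ∈ Subgroup.centralizer {phiS hσS})
    (hcomm : ∀ s : ↥(Cfsg.Omega F₀ ⇑Q₀), δ * iotaO E hc s = iotaO E hc s * δ) : δ = 1 := by
  have h1 : δ ∈ (psiO E hc).range := by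
    rw [range_psiS E hQ fr hperf hσS hc (frame_ex fr₀) hσ]
    exact ⟨hδ, hδC⟩
  obtain ⟨k, rfl⟩ := h1
  have hker := ker_psiO E hQ fr hperf hc hQ₀ fr₀ hperf₀
  have h2 : ∀ s : ↥(Cfsg.Omega F₀ ⇑Q₀),
      cG Q₀ k * MulAut.conj (QuotientGroup.mk s : Cfsg.POmega F₀ ⇑Q₀) =
        MulAut.conj (QuotientGroup.mk s : Cfsg.POmega F₀ ⇑Q₀) * cG Q₀ k := by
    intro s
    have h3 := hcomm s
    rw [iotaO_apply, ← map_mul, ← map_mul] at h3
    have h4 : (k * oGO Q₀ (s : ↥(Cfsg.isometryGroup F₀ ⇑Q₀)))⁻¹ *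
        (oGO Q₀ (s : ↥(Cfsg.isometryGroup F₀ ⇑Q₀)) * k) ∈ (psiO E hc).ker := by
      rw [MonoidHom.mem_ker, map_mul, map_inv, h3, inv_mul_cancel]
    rw [hker, MonoidHom.mem_ker, map_mul, map_inv, inv_mul_eq_one, map_mul, map_mul, cG_oGO,
      cAut_coe] at h4
    exact h4
  have h5 : cG Q₀ k = 1 := by
    ext y
    induction y using QuotientGroup.induction_on with
    | H s => exact apply_eq_of_comm_conj hZP₀ _ _ (h2 s)
  have h6 : k ∈ (psiO E hc).ker := by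
    rw [hker]
    exact h5
  exact h6

/-- **Lemma D**: the centralizer of `I₀` in the centralizer of the field automorphism -/
theorem mem_zpowers_of_centralizes_S [Nonempty ι] (hQ : (QuadraticMap.polarBilin Q).Nondegenerate)
    (fr : Frame3 Q) (hperf : commutator ↥(Cfsg.Omega F ⇑Q) = ⊤)
    (hSt : ∀ τ : F ≃+* F, τ ∈ Subgroup.zpowers E.σ → IsStdAt Q τ)
    (hc : Compat E Q Q₀) (hQ₀ : (QuadraticMap.polarBilin Q₀).Nondegenerate) (fr₀ : Frame3 Q₀)
    (hperf₀ : commutator ↥(Cfsg.Omega F₀ ⇑Q₀) = ⊤) (hσ : 0 < orderOf E.σ)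
    (htop : Cfsg.gammaPOmega F ⇑Q = ⊤)
    (hZP : Subgroup.center (Cfsg.POmega F ⇑Q) = ⊥)
    (hZP₀ : Subgroup.center (Cfsg.POmega F₀ ⇑Q₀) = ⊥)
    (hfr0 : fr.e 0 = jv E (fr₀.e 0)) (hfr1 : fr.e 1 = jv E (fr₀.e 1))
    (γ : MulAut (Cfsg.POmega F ⇑Q))
    (hγC : γ ∈ Subgroup.centralizer {phiS (hSt E.σ (Subgroup.mem_zpowers E.σ))})
    (hcomm : ∀ s : ↥(Cfsg.Omega F₀ ⇑Q₀), γ * iotaO E hc s = iotaO E hc s * γ) :
    γ ∈ Subgroup.zpowers (phiS (hSt E.σ (Subgroup.mem_zpowers E.σ))) := by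
  have hσS := hSt E.σ (Subgroup.mem_zpowers E.σ)
  have hγΓ : γ ∈ Cfsg.gammaPOmega F ⇑Q := by rw [htop]; exact Subgroup.mem_top γ
  obtain ⟨g, τ, hp, hind⟩ := exists_of_mem_gamma (⇑Q) γ hγΓ
  -- the rational elements are fixed modulo the centre, hence fixed
  have hfixΩ : ∀ s : ↥(Cfsg.Omega F₀ ⇑Q₀), actΩ (⇑Q) hp (bcΩ E hc s) = bcΩ E hc s := by
    intro s
    have key := hom_eq_of_central_diff hperf₀ (bcΩ E hc) ((actΩ (⇑Q) hp).comp (bcΩ E hc)) (by
      intro t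
      have h1 := hcomm t
      rw [iotaO_eq_conj] at h1
      have h2 := apply_eq_of_comm_conj hZP γ _ h1
      rw [induced_apply (⇑Q) hp hind, QuotientGroup.eq] at h2
      have h3 := Subgroup.inv_mem _ h2
      rw [_root_.mul_inv_rev, inv_inv] at h3
      exact h3) s
    exact key.symm
  have hfix : ∀ s : ↥(Cfsg.Omega F₀ ⇑Q₀),
      (g : Matrix ι ι F) *
        ((((s : ↥(Cfsg.isometryGroup F₀ ⇑Q₀)) : GL ι F₀) : Matrix ι ι F₀).map E.j).map τ *
        ((g⁻¹ : GL ι F) : Matrix ι ι F) =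
      (((s : ↥(Cfsg.isometryGroup F₀ ⇑Q₀)) : GL ι F₀) : Matrix ι ι F₀).map E.j := by
    intro s
    have h3 := congrArg (fun t : ↥(Cfsg.Omega F ⇑Q) =>
      ((((t : ↥(Cfsg.isometryGroup F ⇑Q)) : GL ι F)) : Matrix ι ι F)) (hfixΩ s)
    simp only [actΩ_val, bcΩ_coe, bcO_val] at h3
    exact h3
  -- the field automorphism fixes the fixed field
  have hτfix : ∀ a₀ : F₀, τ (E.j a₀) = E.j a₀ := by
    intro a₀
    apply tau_fix_of_sieg Q fr g τ (E.j a₀)
    intro b hb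
    obtain ⟨b₀, rfl⟩ : ∃ b₀ : F₀, E.j b₀ = b := by
      rcases hb with rfl | rfl
      · exact ⟨1, map_one _⟩
      · exact ⟨a₀, rfl⟩
    have h01 : B Q₀ (fr₀.e 0) (b₀ • fr₀.e 1) = 0 := B_smul_right_zero Q₀ b₀ (fr₀.Bee 0 1)
    have hmem : siegO Q₀ (fr₀.e 0) (b₀ • fr₀.e 1) (fr₀.Qe 0) h01 ∈ Cfsg.Omega F₀ ⇑Q₀ :=
      S_le_Omega hQ₀ fr₀ (siegO_mem_S Q₀ _ _ _ _)
    have h4 := hfix ⟨_, hmem⟩
    have h5 : ((((⟨_, hmem⟩ : ↥(Cfsg.Omega F₀ ⇑Q₀)) : ↥(Cfsg.isometryGroup F₀ ⇑Q₀)) : GL ι F₀) :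
        Matrix ι ι F₀).map E.j = siegM Q (fr.e 0) (E.j b₀ • fr.e 1) := by
      show (siegM Q₀ (fr₀.e 0) (b₀ • fr₀.e 1)).map E.j = _
      rw [siegM_map (compatHom_of E hc), hfr0, hfr1]
      congr 1
      funext i
      simp [mv, jv]
    rw [h5] at h4
    exact h4
  have hτz : τ ∈ Subgroup.zpowers E.σ := by
    apply mem_zpowers_of_fixes
    intro y hy
    obtain ⟨a₀, rfl⟩ := E.exists_j y hy
    exact hτfix a₀
  have hτS : IsStdAt Q τ := hSt τ hτz
  -- the decomposition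
  have hgGO : g ∈ GO Q := by
    obtain ⟨c, hc'⟩ := hp
    refine ⟨c, fun v => ?_⟩
    have h1 := hc' (fun i => τ.symm (v i))
    rw [← hτS (fun i => τ.symm (v i))] at h1
    simp only [RingEquiv.apply_symm_apply] at h1
    exact h1
  have hγ : γ = cG Q ⟨g, hgGO⟩ * phiS hτS := by
    have h2 := induced_mul (⇑Q) (semisim_GO (⟨g, hgGO⟩ : ↥(GO Q))) (semisim_stdAt hτS)
      (induced_cG (⟨g, hgGO⟩ : ↥(GO Q))) (induced_phiS hτS)
    rw [map_one, mul_one] at h2
    have e : τ.trans (RingEquiv.refl F) = τ := by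
      ext x
      rfl
    rw [e] at h2
    exact induced_unique hp hind h2
  have hφz : phiS hτS ∈ Subgroup.zpowers (phiS hσS) := by
    obtain ⟨n, hn⟩ := hτz
    obtain ⟨k, hk⟩ : ∃ k : ℕ, E.σ ^ k = τ := by
      refine ⟨(n % (orderOf E.σ : ℤ)).toNat, ?_⟩
      rw [← hn, ← zpow_natCast, Int.toNat_of_nonneg (Int.emod_nonneg _ (by exact_mod_cast hσ.ne')),
        zpow_mod_orderOf]
    have : phiS hτS = phiS hσS ^ k := by
      rw [phiS_pow]
      exact phiS_congr _ _ hk.symm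
    rw [this]
    exact Subgroup.pow_mem _ (Subgroup.mem_zpowers _) k
  -- the similarity part is trivial
  have hφC : phiS hτS ∈ Subgroup.centralizer {phiS hσS} := by
    rw [Subgroup.mem_centralizer_singleton_iff]
    obtain ⟨n, hn⟩ := hφz
    rw [← hn]
    exact (Commute.zpow_right (Commute.refl _) n).eq.symm
  have hg1 : cG Q ⟨g, hgGO⟩ = 1 := by
    have e : cG Q ⟨g, hgGO⟩ = γ * (phiS hτS)⁻¹ := by rw [hγ, mul_inv_cancel_right]
    apply cG_eq_one_of_centralizes_S E hQ fr hperf hσS hc hQ₀ fr₀ hperf₀ hσ hZP₀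
    · rw [pgoAut_eq]
      exact ⟨_, rfl⟩
    · rw [e]
      exact Subgroup.mul_mem _ hγC (Subgroup.inv_mem _ hφC)
    · intro s
      have h6 : phiS hτS * iotaO E hc s = iotaO E hc s * phiS hτS := by
        have h7 : iotaO E hc s ∈ Subgroup.centralizer {phiS hσS} := by
          have := iotaO_mem_range E hc s
          rw [range_psiS E hQ fr hperf hσS hc (frame_ex fr₀) hσ] at this
          exact this.2
        rw [Subgroup.mem_centralizer_singleton_iff] at h7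
        obtain ⟨n, hn⟩ := hφz
        rw [← hn]
        have h8 : Commute (iotaO E hc s) (phiS hσS) := h7
        exact (h8.zpow_right n).eq.symm
      have h9 : (phiS hτS)⁻¹ * iotaO E hc s = iotaO E hc s * (phiS hτS)⁻¹ := by
        rw [inv_mul_eq_iff_eq_mul, ← mul_assoc, h6, mul_inv_cancel_right]
      rw [e, mul_assoc, h9, ← mul_assoc, hcomm s, mul_assoc]
  rw [hγ, hg1, one_mul]
  exact hφz

end lemmaD

end Cfsg.Agent.Helper28.LB
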