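import Mathlib
import Cfsg.Prelude.Def_LieTypeDatum
import Cfsg.Agent.Helper28.LocBal20
import Cfsg.Agent.Helper28.FieldB5
import Cfsg.Agent.Helper28.FieldS1

set_option autoImplicit false
set_option linter.unusedSectionVars false

/-! The `p'`-core of the centralizer of the standard field automorphism attached to a single field
automorphism of odd prime order (the centre of `Ω` may be nontrivial). -/

namespace Cfsg.Agent.Helper28.LB

open Matrix Module Cfsg.Agent.Helper28.SSim Cfsg.Agent.Helper28.Sg Cfsg.Agent.Helper28.PG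
  Cfsg.Agent.Helper28.GC Cfsg.Agent.Helper28.Spin Cfsg.Agent.Helper28.PA Cfsg.Agent.Helper28.FO
  Cfsg.Agent.Helper28.FM Cfsg.Agent.Helper28.FB Cfsg.Agent.Helper28.FS
open Cfsg.Agent.Helper7.FieldPSL (FDesc)
open scoped commutatorElement

variable {F : Type*} [Field F] [Fintype F] [DecidableEq F] {F₀ : Type*} [Field F₀] [Fintype F₀]
  [DecidableEq F₀] {ι : Type} [Fintype ι] [DecidableEq ι]

variable (E : FDesc F F₀) {Q : QuadraticForm F (ι → F)} {Q₀ : QuadraticForm F₀ (ι → F₀)}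

/-- the kernel of `iotaO` is central -/
theorem ker_iotaO_le (hc : Compat E Q Q₀) (hZP : Subgroup.center (Cfsg.POmega F ⇑Q) = ⊥) :
    (iotaO E hc).ker ≤ Subgroup.center ↥(Cfsg.Omega F₀ ⇑Q₀) := by
  intro s hs
  rw [MonoidHom.mem_ker, iotaO_eq_conj] at hs
  have h1 : (QuotientGroup.mk (bcΩ E hc s) : Cfsg.POmega F ⇑Q) ∈
      Subgroup.center (Cfsg.POmega F ⇑Q) := by
    rw [Subgroup.mem_center_iff]
    intro y
    have := congrArg (fun e : MulAut (Cfsg.POmega F ⇑Q) => e y) hs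
    simp only [MulAut.conj_apply, MulAut.one_apply] at this
    exact (mul_inv_eq_iff_eq_mul.1 this).symm
  rw [hZP, Subgroup.mem_bot, QuotientGroup.eq_one_iff] at h1
  rw [Subgroup.mem_center_iff]
  intro t
  apply bcΩ_injective E hc
  rw [map_mul, map_mul]
  exact Subgroup.mem_center_iff.1 h1 (bcΩ E hc t)

theorem card_POmega_dvd_card_range (hc : Compat E Q Q₀)
    (hZP : Subgroup.center (Cfsg.POmega F ⇑Q) = ⊥) :
    Nat.card (Cfsg.POmega F₀ ⇑Q₀) ∣ Nat.card ↥(iotaO E hc).range := by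
  rw [← Subgroup.index_ker]
  have h := Subgroup.index_dvd_of_le (ker_iotaO_le E hc hZP)
  exact h

/-- **the `p'`-core of the centralizer of the standard field automorphism** -/
theorem core_iff_S [Nonempty ι] (hQ : (QuadraticMap.polarBilin Q).Nondegenerate)
    (fr : Frame3 Q) (hperf : commutator ↥(Cfsg.Omega F ⇑Q) = ⊤)
    (hSt : ∀ τ : F ≃+* F, τ ∈ Subgroup.zpowers E.σ → IsStdAt Q τ)
    (hc : Compat E Q Q₀) (hQ₀ : (QuadraticMap.polarBilin Q₀).Nondegenerate) (fr₀ : Frame3 Q₀)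
    (hperf₀ : commutator ↥(Cfsg.Omega F₀ ⇑Q₀) = ⊤)
    (htop : Cfsg.gammaPOmega F ⇑Q = ⊤)
    (hgen : ∀ (H : Subgroup ↥(Cfsg.isometryGroup F ⇑Q)),
      (∀ (v : ι → F) (hv : Q v ≠ 0), reflO Q v hv ∈ H) → ∀ g, g ∈ H)
    (hgen₀ : ∀ (H : Subgroup ↥(Cfsg.isometryGroup F₀ ⇑Q₀)),
      (∀ (v : ι → F₀) (hv : Q₀ v ≠ 0), reflO Q₀ v hv ∈ H) → ∀ g, g ∈ H)
    (hfr0 : fr.e 0 = jv E (fr₀.e 0)) (hfr1 : fr.e 1 = jv E (fr₀.e 1))
    (h6 : 6 ≤ Fintype.card ι)
    (hcard : ∃ j : ℕ, Nat.card ↥(Cfsg.pgoAut F₀ ⇑Q₀) ∣ 2 ^ j * Nat.card (Cfsg.POmega F₀ ⇑Q₀))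
    {p : ℕ} [Fact p.Prime] (hp : orderOf E.σ = p) (hp2 : p ≠ 2)
    (A : Subgroup (MulAut (Cfsg.POmega F ⇑Q)))
    (hinn : ∀ k : Cfsg.POmega F ⇑Q, MulAut.conj k ∈ A) :
    Cfsg.pPrimeCore p ↥(A ⊓ Subgroup.centralizer
        {phiS (hSt E.σ (Subgroup.mem_zpowers E.σ))}) ≠ ⊥ ↔
      Nat.Coprime p (Nat.card ↥(MonoidHom.eqLocus
        (phiS (hSt E.σ (Subgroup.mem_zpowers E.σ))).toMonoidHom
        (MonoidHom.id (Cfsg.POmega F ⇑Q)))) := by
  have hpp : p.Prime := Fact.out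
  have hσS := hSt E.σ (Subgroup.mem_zpowers E.σ)
  have hσ : 0 < orderOf E.σ := by rw [hp]; exact hpp.pos
  have hZP : Subgroup.center (Cfsg.POmega F ⇑Q) = ⊥ := center_POmega_eq_bot Q hQ fr hgen
  have hZP₀ : Subgroup.center (Cfsg.POmega F₀ ⇑Q₀) = ⊥ := center_POmega_eq_bot Q₀ hQ₀ fr₀ hgen₀
  have hsimp₀ : IsSimpleGroup (Cfsg.POmega F₀ ⇑Q₀) := POmega_simple hQ₀ fr₀ hgen₀
  have hrange := range_psiS E hQ fr hperf hσS hc (frame_ex fr₀) hσ
  obtain ⟨φ, hφ⟩ : ∃ φ : MulAut (Cfsg.POmega F ⇑Q), φ = phiS hσS := ⟨_, rfl⟩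
  rw [← hφ]
  have hInnA : Cfsg.Inn (Cfsg.POmega F ⇑Q) ≤ A := by
    rintro _ ⟨k, rfl⟩
    exact hinn k
  have hI₀Inn : (iotaO E hc).range ≤ Cfsg.Inn (Cfsg.POmega F ⇑Q) := by
    rintro _ ⟨s, rfl⟩
    exact iotaO_mem_Inn E hc s
  have hI₀C : (iotaO E hc).range ≤ Subgroup.centralizer {φ} := by
    rintro _ ⟨s, rfl⟩
    have := iotaO_mem_range E hc s
    rw [hrange, ← hφ] at this
    exact this.2
  have hcardN := card_inn_inf_centralizer hZP φ
  have hdvdI := card_POmega_dvd_card_range E hc hZP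
  have hI₀ne : (iotaO E hc).range ≠ ⊥ := by
    intro h
    rw [h, Subgroup.card_bot, Nat.dvd_one] at hdvdI
    have : Subsingleton (Cfsg.POmega F₀ ⇑Q₀) := (Nat.card_eq_one_iff_unique.1 hdvdI).1
    obtain ⟨a, b, hab⟩ := hsimp₀.exists_pair_ne
    exact hab (Subsingleton.elim a b)
  constructor
  · intro hne
    by_contra hcop
    apply hne
    have hdvd : p ∣ Nat.card ↥(MonoidHom.eqLocus φ.toMonoidHom
        (MonoidHom.id (Cfsg.POmega F ⇑Q))) := by
      by_contra h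
      exact hcop ((Nat.Prime.coprime_iff_not_dvd hpp).2 h)
    rw [← hcardN] at hdvd
    -- `p` divides the order of `I₀`
    have hpI : p ∣ Nat.card ↥(iotaO E hc).range := by
      refine dvd_trans ?_ hdvdI
      have h1 : Cfsg.Inn (Cfsg.POmega F ⇑Q) ⊓ Subgroup.centralizer {φ} ≤
          Cfsg.pgoAut F ⇑Q ⊓ Subgroup.centralizer {φ} :=
        inf_le_inf_right _ (Inn_le_pgoAut Q)
      have h3 := hdvd.trans (Subgroup.card_dvd_of_le h1)
      rw [hφ, ← hrange] at h3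
      have hker := ker_psiO E hQ fr hperf hc hQ₀ fr₀ hperf₀
      obtain ⟨e⟩ := nonempty_map_equiv_of_ker_eq (psiO E hc) (cG Q₀) hker ⊤
      rw [← MonoidHom.range_eq_map, ← MonoidHom.range_eq_map] at e
      rw [Nat.card_congr e.toEquiv, ← pgoAut_eq] at h3
      obtain ⟨j, hj⟩ := hcard
      have h4 := h3.trans hj
      rcases (Nat.Prime.dvd_mul hpp).1 h4 with h5 | h5
      · exfalso
        have := hpp.dvd_of_dvd_pow h5
        exact hp2 ((Nat.prime_dvd_prime_iff_eq hpp Nat.prime_two).1 this)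
      · exact h5
    apply pPrimeCore_eq_bot_of
    intro N hNC hNnorm hNcop
    refine normal_coprime_eq_bot' φ (by rw [hφ, orderOf_phiS hQ fr hperf, hp]) A
      (Cfsg.Inn (Cfsg.POmega F ⇑Q)) (iotaO E hc).range (psiO E hc).range hI₀Inn hI₀C hInnA ?_ ?_ ?_
      ?_ N hNC hNnorm hNcop
    · rw [hrange, hφ]
      exact inf_le_inf_right _ (Inn_le_pgoAut Q)
    · rintro _ ⟨k, rfl⟩ _ ⟨s, rfl⟩
      rw [iotaO_conj]
      exact ⟨_, rfl⟩
    · intro M hM hMnorm hMcop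
      have hMn : (M.comap (iotaO E hc)).Normal := by
        constructor
        intro n hn s
        rw [Subgroup.mem_comap, map_mul, map_mul, map_inv]
        exact hMnorm _ ⟨s, rfl⟩ _ hn
      rcases normal_cases hQ₀ fr₀ hgen₀ (M.comap (iotaO E hc)) with h | h
      · rw [eq_bot_iff]
        intro y hy
        obtain ⟨s, rfl⟩ := hM hy
        have hs : s ∈ M.comap (iotaO E hc) := hy
        rw [iotaO_eq_one_of_center E hc hQ₀ h6 s (h hs)]
        exact Subgroup.mem_bot.2 rfl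
      · exfalso
        have hle : (iotaO E hc).range ≤ M := by
          rintro _ ⟨s, rfl⟩
          have hs : s ∈ M.comap (iotaO E hc) := by rw [h]; exact Subgroup.mem_top s
          exact hs
        have hpM : p ∣ Nat.card ↥M := hpI.trans (Subgroup.card_dvd_of_le hle)
        have := Nat.Coprime.eq_one_of_dvd hMcop.symm hpM
        exact hpp.one_lt.ne' this
    · intro γ hγC hγ
      rw [hφ] at hγC ⊢
      apply mem_zpowers_of_centralizes_S E hQ fr hperf hSt hc hQ₀ fr₀ hperf₀ hσ htop hZP hZP₀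
        hfr0 hfr1 γ hγC
      intro s
      exact hγ _ ⟨s, rfl⟩
  · intro hcop
    apply pPrimeCore_ne_bot_of p _ (Cfsg.Inn (Cfsg.POmega F ⇑Q) ⊓ Subgroup.centralizer {φ})
    · exact inf_le_inf_right _ hInnA
    · intro c hc' n hn
      refine ⟨(inferInstance : (Cfsg.Inn (Cfsg.POmega F ⇑Q)).Normal).conj_mem n hn.1 c, ?_⟩
      exact Subgroup.mul_mem _ (Subgroup.mul_mem _ hc'.2 hn.2) (Subgroup.inv_mem _ hc'.2)
    · rw [hcardN]
      exact hcop.symm
    · intro h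
      apply hI₀ne
      rw [eq_bot_iff, ← h]
      exact le_inf hI₀Inn hI₀C

end Cfsg.Agent.Helper28.LB
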