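import Mathlib
import Cfsg.Prelude.Def_LieTypeDatum
import Cfsg.Agent.Helper28.LocBal21
import Cfsg.Agent.Helper28.FieldM15

set_option autoImplicit false
set_option linter.unusedSectionVars false

/-! Minus type: the `p'`-core of the centralizer of the standard field automorphism of odd prime
order. -/

namespace Cfsg.Agent.Helper28.LB

open Matrix Module Cfsg.Agent.Helper28.SSim Cfsg.Agent.Helper28.Sg Cfsg.Agent.Helper28.PG
  Cfsg.Agent.Helper28.GC Cfsg.Agent.Helper28.Spin Cfsg.Agent.Helper28.PA Cfsg.Agent.Helper28.FO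
  Cfsg.Agent.Helper28.FM Cfsg.Agent.Helper28.FB Cfsg.Agent.Helper28.FS Cfsg.Agent.Helper28.IDM
open Cfsg.Agent.Helper7.FieldPSL (FDesc)

universe u v

section card

variable {F : Type u} [Field F] [Fintype F] {m : ℕ}

/-- the image of the similarity group has `2`-power index over the inner automorphisms -/
theorem card_pgoAut_minus_dvd (hm : 3 ≤ m) (a b : F)
    (hab : ∀ z₁ z₂ : F, z₁ ^ 2 + a * z₁ * z₂ + b * z₂ ^ 2 = 0 → z₁ = 0 ∧ z₂ = 0) :
    Nat.card ↥(Cfsg.pgoAut F ⇑(QfMinus m F a b)) ∣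
      2 ^ 3 * Nat.card (Cfsg.POmega F ⇑(QfMinus m F a b)) := by
  classical
  have hQ := nondeg_minus (m := m) a b hab
  have hcardι : Fintype.card ((Fin m ⊕ Fin m) ⊕ Fin 2) = 2 * (m + 1) := by
    rw [Fintype.card_sum, Fintype.card_sum, Fintype.card_fin, Fintype.card_fin]; omega
  rcases two_ne_zero_or F with h2 | ⟨h2, hodd⟩
  · rw [card_pgoAut_char_two (QfMinus m F a b) h2 hQ (frameMinus hm a b) (hperf_minus hm a b hab)
      (by rw [hcardι]; omega)]
    exact Nat.mul_dvd_mul_right (by norm_num) _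
  · have hres := Cfsg.Agent.S2728.result hodd hm a b hab
    rw [← QfMinus_coe] at hres
    obtain ⟨hD, hV⟩ := hres
    by_cases hcase : Even m ∧ Fintype.card F % 4 = 3
    · obtain ⟨φ, hs, hker⟩ := hD hcase
      rw [card_pgoAut_of_hom (QfMinus m F a b) hQ (frameMinus hm a b) (hgen_minus hm a b hab) φ hs
        hker, DihedralGroup.nat_card]
      exact Nat.mul_dvd_mul_right (by norm_num) _
    · obtain ⟨φ, hs, hker⟩ := hV hcase
      rw [card_pgoAut_of_hom (QfMinus m F a b) hQ (frameMinus hm a b) (hgen_minus hm a b hab) φ hs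
        hker]
      have h4 : Nat.card (Multiplicative (ZMod 2 × ZMod 2)) = 4 := by
        rw [Nat.card_eq_fintype_card, Fintype.card_multiplicative, Fintype.card_prod, ZMod.card]
      rw [h4]
      exact Nat.mul_dvd_mul_right (by norm_num) _

end card

variable {F : Type u} [Field F] [Fintype F] {F₀ : Type v} [Field F₀] [Fintype F₀] {m : ℕ}
  (E : FDesc F F₀)

theorem isStdAt_minus_zpowers (a₀ b₀ : F₀) (τ : F ≃+* F) (hτ : τ ∈ Subgroup.zpowers E.σ) :
    IsStdAt (QfMinus m F (E.j a₀) (E.j b₀)) τ := by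
  have hfix : ∀ x : F, E.σ x = x → τ x = x := by
    intro x hx
    have h5 : E.σ ∈ MulAction.stabilizer (F ≃+* F) x := by
      rw [MulAction.mem_stabilizer_iff]
      exact hx
    have h6 : τ ∈ MulAction.stabilizer (F ≃+* F) x := (Subgroup.zpowers_le.2 h5) hτ
    exact MulAction.mem_stabilizer_iff.1 h6
  exact isStdAt_minus (m := m) (E.j a₀) (E.j b₀) (hfix _ (E.fix_j a₀)) (hfix _ (E.fix_j b₀))

/-- **the `p'`-core of the centralizer of the standard field automorphism of `PΩ⁻`** -/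
theorem core_iff_minus (hm : 3 ≤ m) (a₀ b₀ : F₀)
    (hab : ∀ z₁ z₂ : F, z₁ ^ 2 + E.j a₀ * z₁ * z₂ + E.j b₀ * z₂ ^ 2 = 0 → z₁ = 0 ∧ z₂ = 0)
    {p : ℕ} [Fact p.Prime] (hp : orderOf E.σ = p) (hp2 : p ≠ 2)
    (A : Subgroup (MulAut (Cfsg.POmega F (Cfsg.quadFormMinus m F (E.j a₀) (E.j b₀)))))
    (hinn : ∀ k : Cfsg.POmega F (Cfsg.quadFormMinus m F (E.j a₀) (E.j b₀)), MulAut.conj k ∈ A) :
    Cfsg.pPrimeCore p ↥(A ⊓ Subgroup.centralizer
        {phiM (m := m) (E.j a₀) (E.j b₀) (E.fix_j a₀) (E.fix_j b₀)}) ≠ ⊥ ↔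
      Nat.Coprime p (Nat.card ↥(MonoidHom.eqLocus
        (phiM (m := m) (E.j a₀) (E.j b₀) (E.fix_j a₀) (E.fix_j b₀)).toMonoidHom
        (MonoidHom.id (Cfsg.POmega F (Cfsg.quadFormMinus m F (E.j a₀) (E.j b₀)))))) := by
  classical
  have hab₀ := aniso_of_j E a₀ b₀ hab
  have hc := compat_minus_E (m := m) E a₀ b₀
  have hQ := nondeg_minus (m := m) _ _ hab
  have hQ₀ := nondeg_minus (m := m) _ _ hab₀
  have hcardι : Fintype.card ((Fin m ⊕ Fin m) ⊕ Fin 2) = 2 * (m + 1) := by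
    rw [Fintype.card_sum, Fintype.card_sum, Fintype.card_fin, Fintype.card_fin]; omega
  have : Nonempty ((Fin m ⊕ Fin m) ⊕ Fin 2) := ⟨Sum.inr 0⟩
  have htop : Cfsg.gammaPOmega F ⇑(QfMinus m F (E.j a₀) (E.j b₀)) = ⊤ :=
    Cfsg.Agent.S2696.result hm _ _ hab
  exact core_iff_S E hQ (frameMinus hm _ _) (hperf_minus hm _ _ hab)
    (isStdAt_minus_zpowers (m := m) E a₀ b₀) hc hQ₀ (frameMinus hm _ _) (hperf_minus hm _ _ hab₀)
    htop (hgen_minus hm _ _ hab) (hgen_minus hm _ _ hab₀)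
    (jv_single E _).symm (jv_single E _).symm (by rw [hcardι]; omega)
    ⟨3, card_pgoAut_minus_dvd hm a₀ b₀ hab₀⟩ hp hp2 A hinn

end Cfsg.Agent.Helper28.LB
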