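import Mathlib
import Cfsg.Prelude.Def_LieTypeDatum
import Cfsg.Agent.Helper28.FieldM5
import Cfsg.Agent.Helper28.GammaCount2

set_option autoImplicit false
set_option linter.unusedSectionVars false

/-! Transport of semilinearly induced automorphisms along an isometry of forms. -/

namespace Cfsg.Agent.Helper28.LB

open Matrix Module Cfsg.Agent.Helper28.SSim Cfsg.Agent.Helper28.Sg Cfsg.Agent.Helper28.PG
  Cfsg.Agent.Helper28.GC Cfsg.Agent.Helper28.FM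

variable {F : Type*} [Field F] {ι : Type} [Fintype ι] [DecidableEq ι]
  {Q Q' : QuadraticForm F (ι → F)}

theorem semisim_transport {T : GL ι F} (hT : IsIsom Q Q' T) {g₀ : GL ι F} {τ : F ≃+* F}
    (hp : Cfsg.IsSemisimilarityPair (⇑Q') g₀ τ) :
    Cfsg.IsSemisimilarityPair (⇑Q) (T * g₀ * (mapGL τ T)⁻¹) τ := by
  obtain ⟨c, hc⟩ := hp
  refine ⟨c, fun v => ?_⟩
  have h1 : (((mapGL τ T)⁻¹ : GL ι F) : Matrix ι ι F) *ᵥ (fun i => τ (v i)) =
      fun i => τ ((((T⁻¹ : GL ι F) : Matrix ι ι F) *ᵥ v) i) := by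
    rw [← map_inv, mapGL_val, map_mulVec'']
  have h2 : ((T * g₀ * (mapGL τ T)⁻¹ : GL ι F) : Matrix ι ι F) *ᵥ (fun i => τ (v i)) =
      (T : Matrix ι ι F) *ᵥ ((g₀ : Matrix ι ι F) *ᵥ
        (fun i => τ ((((T⁻¹ : GL ι F) : Matrix ι ι F) *ᵥ v) i))) := by
    rw [← h1]
    simp only [Units.val_mul, Matrix.mulVec_mulVec, Matrix.mul_assoc]
  rw [h2, hT, hc, hT.inv]

theorem congr_induced {T : GL ι F} (hT : IsIsom Q Q' T) {g₀ : GL ι F} {τ : F ≃+* F}
    (hp : Cfsg.IsSemisimilarityPair (⇑Q') g₀ τ) {β : MulAut (Cfsg.POmega F ⇑Q')}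
    (hind : Cfsg.IsInducedBySemilinearPOmega (⇑Q') g₀ τ β) :
    Cfsg.IsInducedBySemilinearPOmega (⇑Q) (T * g₀ * (mapGL τ T)⁻¹) τ
      (MulAut.congr (tauT hT) β) := by
  apply induced_of_apply (⇑Q) (semisim_transport hT hp)
  intro s
  show tauT hT (β ((tauT hT).symm (QuotientGroup.mk s))) = _
  rw [tauT, quotCenterEquiv_symm_mk, induced_apply (⇑Q') hp hind, quotCenterEquiv_mk]
  congr 1
  apply Subtype.ext
  apply Subtype.ext
  rw [isoΩ, commEquiv_coe]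
  show T * (actHom g₀ τ ((((commEquiv (isoO hT)).symm s : ↥(Cfsg.Omega F ⇑Q')) :
      ↥(Cfsg.isometryGroup F ⇑Q')) : GL ι F)) * T⁻¹ =
    actHom (T * g₀ * (mapGL τ T)⁻¹) τ ((s : ↥(Cfsg.isometryGroup F ⇑Q)) : GL ι F)
  rw [commEquiv_symm_coe, isoO_symm_coe, actHom_apply, actHom_apply, map_mul, map_mul, map_inv]
  group

end Cfsg.Agent.Helper28.LB
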