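import Mathlib
import Cfsg.Prelude.Def_LieTypeDatum
import Cfsg.Agent.Helper28.LocBal19
import Cfsg.Agent.Helper28.LocBal22
import Cfsg.Agent.Helper28.LocBal23
import Cfsg.Agent.Helper28.LocBal24
import Cfsg.Agent.Helper28.FieldB6
import Cfsg.Agent.Helper28.FieldM18
import Cfsg.Agent.Helper28.GraphInvMinus

set_option autoImplicit false
set_option linter.unusedSectionVars false

/-! Failure of local balance for `PΩ⁻_{2m+2}(q)`: automorphisms of prime order outside the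
inner-diagonal group. -/

namespace Cfsg.Agent.Helper28.LB

open Matrix Module Cfsg.Agent.Helper28.SSim Cfsg.Agent.Helper28.Sg Cfsg.Agent.Helper28.PG
  Cfsg.Agent.Helper28.GC Cfsg.Agent.Helper28.Spin Cfsg.Agent.Helper28.PA Cfsg.Agent.Helper28.FO
  Cfsg.Agent.Helper28.FM Cfsg.Agent.Helper28.FB Cfsg.Agent.Helper28.IDM
open Cfsg.Agent.Helper7.FieldPSL (FDesc)

section abstract

variable {F : Type*} [Field F] {ι : Type} [Fintype ι] [DecidableEq ι]
  {Q Q' : QuadraticForm F (ι → F)}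

theorem mem_GO_of_semisim_S {τ : F ≃+* F} (hτS : IsStdAt Q τ) {g : GL ι F}
    (hp : Cfsg.IsSemisimilarityPair (⇑Q) g τ) : g ∈ GO Q := by
  obtain ⟨c, hc'⟩ := hp
  refine ⟨c, fun v => ?_⟩
  have h1 := hc' (fun i => τ.symm (v i))
  rw [← hτS (fun i => τ.symm (v i))] at h1
  simp only [RingEquiv.apply_symm_apply] at h1
  exact h1

theorem decomp_S {τ : F ≃+* F} (hτS : IsStdAt Q τ) {g : GL ι F}
    (hp : Cfsg.IsSemisimilarityPair (⇑Q) g τ) {β : MulAut (Cfsg.POmega F ⇑Q)}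
    (hind : Cfsg.IsInducedBySemilinearPOmega (⇑Q) g τ β) :
    β = cG Q ⟨g, mem_GO_of_semisim_S hτS hp⟩ * phiS hτS := by
  have h2 := induced_mul (⇑Q) (semisim_GO (⟨g, mem_GO_of_semisim_S hτS hp⟩ : ↥(GO Q)))
    (semisim_stdAt hτS) (induced_cG (⟨g, mem_GO_of_semisim_S hτS hp⟩ : ↥(GO Q)))
    (induced_phiS hτS)
  rw [map_one, mul_one] at h2
  have e : τ.trans (RingEquiv.refl F) = τ := by
    ext y
    rfl
  rw [e] at h2
  exact induced_unique hp hind h2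

theorem congr_trans_aut {G H : Type*} [Group G] [Group H] (ψ : G ≃* H) (α : MulAut H)
    (x : MulAut G) :
    MulAut.congr (ψ.trans α) x = α * MulAut.congr ψ x * α⁻¹ := by
  ext y
  simp [MulAut.congr]

/-- an automorphism induced by a semisimilarity whose power is trivial becomes, after an isometric
change of the form to one compatible with the field automorphism, a standard field
automorphism -/
theorem exists_congr_eq_phiS [Finite F] (hQ : (QuadraticMap.polarBilin Q).Nondegenerate)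
    (fr : Frame3 Q) (hperf : commutator ↥(Cfsg.Omega F ⇑Q) = ⊤) {τ : F ≃+* F}
    (hτS : IsStdAt Q τ)
    (hclass : ∀ P : QuadraticForm F (ι → F), (∀ w : ι → F, P (vs τ w) = τ (P w)) →
      (∃ (A : GL ι F) (c : Fˣ), ∀ w, P w = (c : F) * Q ((A : Matrix ι ι F) *ᵥ w)) →
      ∃ (a : GL ι F) (d : Fˣ), mapGL τ a = a ∧
        ∀ w, P ((a : Matrix ι ι F) *ᵥ w) = (d : F) * Q w)
    {T : GL ι F} (hT : IsIsom Q Q' T) {g₀ : GL ι F}
    (hp : Cfsg.IsSemisimilarityPair (⇑Q') g₀ τ) {x : MulAut (Cfsg.POmega F ⇑Q')}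
    (hind : Cfsg.IsInducedBySemilinearPOmega (⇑Q') g₀ τ x) (hx : x ^ orderOf τ = 1) :
    ∃ ψ : Cfsg.POmega F ⇑Q' ≃* Cfsg.POmega F ⇑Q, MulAut.congr ψ x = phiS hτS := by
  have hp' := semisim_transport hT hp
  have hind' := congr_induced hT hp hind
  have hdec := decomp_S hτS hp' hind'
  have hpow : (cG Q ⟨_, mem_GO_of_semisim_S hτS hp'⟩ * phiS hτS) ^ orderOf τ = 1 := by
    rw [← hdec, ← map_pow, hx, map_one]
  obtain ⟨B, hB⟩ := conj_of_pow_eq_one_S hQ fr hperf hτS hclass _ hpow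
  refine ⟨(tauT hT).trans ((cG Q B)⁻¹ : MulAut _), ?_⟩
  rw [congr_trans_aut, hdec, hB]
  exact conj_inv_conj _ _

end abstract

universe u

variable {F : Type u} [Field F] [Fintype F] {m : ℕ}

/-- an automorphism of odd prime order outside `Inndiag` is induced by a semisimilarity whose
field automorphism has the same order -/
theorem exists_field_data (hm : 3 ≤ m) (a b : F)
    (hab : ∀ z₁ z₂ : F, z₁ ^ 2 + a * z₁ * z₂ + b * z₂ ^ 2 = 0 → z₁ = 0 ∧ z₂ = 0)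
    (x' : MulAut (Cfsg.POmega F ⇑(QfMinus m F a b))) {p : ℕ} [Fact p.Prime]
    (hp2 : p ≠ 2) (hord : orderOf x' = p) (hnot : x' ∉ Cfsg.inndiagPOmegaMinus m F a b) :
    ∃ (g₀ : GL ((Fin m ⊕ Fin m) ⊕ Fin 2) F) (τ : F ≃+* F),
      Cfsg.IsSemisimilarityPair (⇑(QfMinus m F a b)) g₀ τ ∧
      Cfsg.IsInducedBySemilinearPOmega (⇑(QfMinus m F a b)) g₀ τ x' ∧ orderOf τ = p ∧
        τ ^ p = 1 := by
  classical
  have hpp : p.Prime := Fact.out
  have hpodd : Odd p := hpp.odd_of_ne_two hp2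
  have hQ := nondeg_minus (m := m) a b hab
  have hperf := hperf_minus hm a b hab
  have htop : Cfsg.gammaPOmega F ⇑(QfMinus m F a b) = ⊤ := Cfsg.Agent.S2696.result hm a b hab
  have hx'Γ : x' ∈ Cfsg.gammaPOmega F ⇑(QfMinus m F a b) := by
    rw [htop]; exact Subgroup.mem_top x'
  obtain ⟨g₀, τ, hp, hind⟩ := exists_of_mem_gamma (⇑(QfMinus m F a b)) x' hx'Γ
  -- the field automorphism is not trivial
  have hτ1 : τ ≠ RingEquiv.refl F := by
    rintro rfl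
    apply hnot
    have hg₀ : g₀ ∈ GO (QfMinus m F a b) := by
      obtain ⟨c, hc⟩ := hp
      exact ⟨c, hc⟩
    have hxg : x' = cG (QfMinus m F a b) ⟨g₀, hg₀⟩ :=
      (induced_iff (QfMinus m F a b) g₀ hg₀ x').1 hind
    rw [hxg]
    apply mem_inndiag_of_odd_order hm a b hab
    rw [← hxg, hord]
    exact hpodd
  -- it has order `p`
  have hτp : τ ^ p = 1 := by
    have h1 := sigmaOf_eq (QfMinus m F a b) hQ (frameMinus hm a b) hperf ⟨x', hx'Γ⟩ hp hind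
    have h3 : (sigmaHom (QfMinus m F a b) hQ (frameMinus hm a b) hperf ⟨x', hx'Γ⟩) ^ p = 1 := by
      rw [← map_pow]
      have : (⟨x', hx'Γ⟩ : ↥(Cfsg.gammaPOmega F ⇑(QfMinus m F a b))) ^ p = 1 := by
        apply Subtype.ext
        show x' ^ p = 1
        rw [← hord]
        exact pow_orderOf_eq_one x'
      rw [this, map_one]
    rw [sigmaHom_apply, h1] at h3
    exact h3
  have hτord : orderOf τ = p := by
    have h1 : orderOf τ ∣ p := orderOf_dvd_of_pow_eq_one hτp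
    rcases (Nat.dvd_prime hpp).1 h1 with h | h
    · exfalso
      apply hτ1
      rw [orderOf_eq_one_iff] at h
      exact h
    · exact h
  exact ⟨g₀, τ, hp, hind, hτord, hτp⟩

/-- an anisotropic binary form with coefficients in the fixed field of an automorphism of odd
order -/
theorem exists_aniso_fixF (τ : F ≃+* F) {p : ℕ} (hpodd : Odd p) (hτp : τ ^ p = 1) :
    ∃ a₀ b₀ : ↥(fixF τ), ∀ z₁ z₂ : F,
      z₁ ^ 2 + (fdescOf τ).j a₀ * z₁ * z₂ + (fdescOf τ).j b₀ * z₂ ^ 2 = 0 → z₁ = 0 ∧ z₂ = 0 := by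
  classical
  have hfin : Fintype ↥(fixF τ) := Fintype.ofFinite _
  obtain ⟨a₀, b₀, hab₀⟩ := exists_aniso_binary (K := ↥(fixF τ))
  refine ⟨a₀, b₀, ?_⟩
  apply aniso_of_fixed τ hpodd hτp _ _ ((fdescOf τ).fix_j a₀) ((fdescOf τ).fix_j b₀)
  intro z₁ z₂ h1 h2 h
  have key := hab₀ ⟨z₁, (mem_fixF τ z₁).2 h1⟩ ⟨z₂, (mem_fixF τ z₂).2 h2⟩ (by
    apply Subtype.ext
    exact h)
  exact ⟨congrArg Subtype.val key.1, congrArg Subtype.val key.2⟩

/-- the change of the anisotropic part -/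
theorem exists_congr_eq_phiM (hm : 3 ≤ m) (a b a' b' : F)
    (hab : ∀ z₁ z₂ : F, z₁ ^ 2 + a * z₁ * z₂ + b * z₂ ^ 2 = 0 → z₁ = 0 ∧ z₂ = 0)
    (hab' : ∀ z₁ z₂ : F, z₁ ^ 2 + a' * z₁ * z₂ + b' * z₂ ^ 2 = 0 → z₁ = 0 ∧ z₂ = 0)
    {τ : F ≃+* F} (hfa : τ a' = a') (hfb : τ b' = b')
    {g₀ : GL ((Fin m ⊕ Fin m) ⊕ Fin 2) F}
    (hp : Cfsg.IsSemisimilarityPair (⇑(QfMinus m F a b)) g₀ τ)
    {x' : MulAut (Cfsg.POmega F ⇑(QfMinus m F a b))}
    (hind : Cfsg.IsInducedBySemilinearPOmega (⇑(QfMinus m F a b)) g₀ τ x')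
    (hx : x' ^ orderOf τ = 1) :
    ∃ ψ : Cfsg.POmega F ⇑(QfMinus m F a b) ≃* Cfsg.POmega F ⇑(QfMinus m F a' b'),
      MulAut.congr ψ x' = phiS (isStdAt_minus (m := m) a' b' hfa hfb) := by
  have hQ' := nondeg_minus (m := m) a' b' hab'
  have hperf' := hperf_minus hm a' b' hab'
  obtain ⟨T, hT⟩ := exists_isIsom_minus (m := m) a' b' a b hab' hab
  exact exists_congr_eq_phiS hQ' (frameMinus hm a' b') hperf' (isStdAt_minus (m := m) a' b' hfa hfb)
    (fun P hP hsim => hclass_minus m a' b' hab' hQ' τ hfa hfb P hP hsim) hT hp hind hx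

/-- an automorphism of odd prime order outside `Inndiag` is conjugate, after changing the
anisotropic part, to a standard field automorphism -/
theorem exists_std_minus (hm : 3 ≤ m) (a b : F)
    (hab : ∀ z₁ z₂ : F, z₁ ^ 2 + a * z₁ * z₂ + b * z₂ ^ 2 = 0 → z₁ = 0 ∧ z₂ = 0)
    (x : MulAut (Cfsg.POmega F (Cfsg.quadFormMinus m F a b))) {p : ℕ} [Fact p.Prime]
    (hp2 : p ≠ 2) (hord : orderOf x = p) (hnot : x ∉ Cfsg.inndiagPOmegaMinus m F a b) :
    ∃ (τ : F ≃+* F) (a₀ b₀ : ↥(fixF τ))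
      (_ : ∀ z₁ z₂ : F, z₁ ^ 2 + (fdescOf τ).j a₀ * z₁ * z₂ + (fdescOf τ).j b₀ * z₂ ^ 2 = 0 →
        z₁ = 0 ∧ z₂ = 0)
      (ψ : Cfsg.POmega F (Cfsg.quadFormMinus m F a b) ≃*
        Cfsg.POmega F (Cfsg.quadFormMinus m F ((fdescOf τ).j a₀) ((fdescOf τ).j b₀))),
      orderOf τ = p ∧ MulAut.congr ψ x =
        phiM (m := m) ((fdescOf τ).j a₀) ((fdescOf τ).j b₀) ((fdescOf τ).fix_j a₀)
          ((fdescOf τ).fix_j b₀) := by
  have hpp : p.Prime := Fact.out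
  have hpodd : Odd p := hpp.odd_of_ne_two hp2
  obtain ⟨g₀, τ, hp, hind, hτord, hτp⟩ := exists_field_data hm a b hab x hp2 hord hnot
  obtain ⟨a₀, b₀, hab'⟩ := exists_aniso_fixF τ hpodd hτp
  have hx : x ^ orderOf τ = 1 := by
    rw [hτord, ← hord]
    exact pow_orderOf_eq_one x
  obtain ⟨ψ, hψ⟩ := exists_congr_eq_phiM hm a b _ _ hab hab' ((fdescOf τ).fix_j a₀)
    ((fdescOf τ).fix_j b₀) hp hind hx
  exact ⟨τ, a₀, b₀, hab', ψ, hτord, hψ⟩

end Cfsg.Agent.Helper28.LB
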