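import Mathlib
import Cfsg.Prelude.Def_LieTypeDatum
import Cfsg.Agent.Helper28.LocBal25

set_option autoImplicit false
set_option linter.unusedSectionVars false

/-! Failure of local balance for `PΩ⁻_{2m+2}(q)`: the main theorem. -/

namespace Cfsg.Agent.Helper28.LB

open Matrix Module Cfsg.Agent.Helper28.SSim Cfsg.Agent.Helper28.Sg Cfsg.Agent.Helper28.PG
  Cfsg.Agent.Helper28.GC Cfsg.Agent.Helper28.Spin Cfsg.Agent.Helper28.PA Cfsg.Agent.Helper28.FO
  Cfsg.Agent.Helper28.FM Cfsg.Agent.Helper28.FB Cfsg.Agent.Helper28.IDM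
open Cfsg.Agent.Helper7.FieldPSL (FDesc)

section transport

variable {G H : Type*} [Group G] [Group H]

theorem conj_mem_map_congr (ψ : G ≃* H) (A : Subgroup (MulAut G))
    (hinn : ∀ k : G, MulAut.conj k ∈ A) (k : H) :
    MulAut.conj k ∈ A.map (MulAut.congr ψ).toMonoidHom := by
  refine ⟨MulAut.conj (ψ.symm k), hinn _, ?_⟩
  ext y
  simp [MulAut.congr]

theorem card_eqLocus_congr (ψ : G ≃* H) (x : MulAut G) :
    Nat.card ↥(MonoidHom.eqLocus (MulAut.congr ψ x).toMonoidHom (MonoidHom.id H)) =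
      Nat.card ↥(MonoidHom.eqLocus x.toMonoidHom (MonoidHom.id G)) := by
  symm
  apply Nat.card_congr
  refine Equiv.subtypeEquiv ψ.toEquiv ?_
  intro k
  show x k = k ↔ (MulAut.congr ψ x) (ψ k) = ψ k
  have : (MulAut.congr ψ x) (ψ k) = ψ (x k) := by
    simp [MulAut.congr]
  rw [this]
  exact (ψ.injective.eq_iff).symm

theorem core_congr (p : ℕ) (ψ : G ≃* H) (A : Subgroup (MulAut G)) (x : MulAut G) :
    Cfsg.pPrimeCore p ↥(A ⊓ Subgroup.centralizer {x}) ≠ ⊥ ↔
      Cfsg.pPrimeCore p ↥(A.map (MulAut.congr ψ).toMonoidHom ⊓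
        Subgroup.centralizer {MulAut.congr ψ x}) ≠ ⊥ := by
  obtain ⟨e⟩ := nonempty_centralizer_congr (MulAut.congr ψ) A _ rfl x
  exact pPrimeCore_ne_bot_congr p e

end transport

universe u

variable {F : Type u} [Field F] [Fintype F] {m : ℕ}

/-- the case of an odd prime -/
theorem main_minus_odd (hm : 3 ≤ m) (a b : F)
    (hab : ∀ z₁ z₂ : F, z₁ ^ 2 + a * z₁ * z₂ + b * z₂ ^ 2 = 0 → z₁ = 0 ∧ z₂ = 0)
    (A : Subgroup (MulAut (Cfsg.POmega F (Cfsg.quadFormMinus m F a b))))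
    (hinn : ∀ k : Cfsg.POmega F (Cfsg.quadFormMinus m F a b), MulAut.conj k ∈ A)
    {p : ℕ} [Fact p.Prime] (hp2 : p ≠ 2)
    (x : MulAut (Cfsg.POmega F (Cfsg.quadFormMinus m F a b))) (hord : orderOf x = p)
    (hnot : x ∉ Cfsg.inndiagPOmegaMinus m F a b) :
    Cfsg.pPrimeCore p ↥(A ⊓ Subgroup.centralizer {x}) ≠ ⊥ ↔
      (Cfsg.IsFieldAutClassPOmegaMinus m x ∧
        Nat.Coprime p (Nat.card ↥(MonoidHom.eqLocus x.toMonoidHom
          (MonoidHom.id (Cfsg.POmega F (Cfsg.quadFormMinus m F a b)))))) := by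
  have hpp : p.Prime := Fact.out
  obtain ⟨τ, a₀, b₀, hab', ψ, hτord, hψ⟩ := exists_std_minus hm a b hab x hp2 hord hnot
  have hτ1 : τ ≠ RingEquiv.refl F := by
    intro h
    have : orderOf τ = 1 := by
      rw [orderOf_eq_one_iff, h]
      rfl
    rw [hτord] at this
    exact hpp.one_lt.ne' this
  have hfield : Cfsg.IsFieldAutClassPOmegaMinus m x := by
    refine ⟨(fdescOf τ).j a₀, (fdescOf τ).j b₀, ψ, τ, hab', hτ1, (fdescOf τ).fix_j a₀,
      (fdescOf τ).fix_j b₀, ?_⟩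
    exact (isFieldAut_iff' (isStdAt_minus (m := m) _ _ ((fdescOf τ).fix_j a₀)
      ((fdescOf τ).fix_j b₀)) _).2 hψ
  have hfin : Fintype ↥(fixF τ) := Fintype.ofFinite _
  have h1 := core_congr p ψ A x
  have h2 := core_iff_minus (fdescOf τ) hm a₀ b₀ hab' hτord hp2
    (A.map (MulAut.congr ψ).toMonoidHom) (conj_mem_map_congr ψ A hinn)
  have h3 := card_eqLocus_congr ψ x
  rw [hψ] at h1 h3
  rw [h1, h2, h3]
  exact ⟨fun h => ⟨hfield, h⟩, fun h => h.2⟩

/-- **failure of local balance for `PΩ⁻_{2m+2}(q)`** -/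
theorem main_minus (hm : 3 ≤ m) (a b : F)
    (hab : ∀ z₁ z₂ : F, z₁ ^ 2 + a * z₁ * z₂ + b * z₂ ^ 2 = 0 → z₁ = 0 ∧ z₂ = 0)
    (A : Subgroup (MulAut (Cfsg.POmega F (Cfsg.quadFormMinus m F a b))))
    (hinn : ∀ k : Cfsg.POmega F (Cfsg.quadFormMinus m F a b), MulAut.conj k ∈ A)
    {p : ℕ} [Fact p.Prime] (hp2 : p = 2 → (2 : F) ≠ 0)
    (x : MulAut (Cfsg.POmega F (Cfsg.quadFormMinus m F a b))) (hord : orderOf x = p)
    (hnot : ¬ Cfsg.IsInnerDiagonalAutPOmegaMinus m a b x) :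
    Cfsg.pPrimeCore p ↥(A ⊓ Subgroup.centralizer {x}) ≠ ⊥ ↔
      (Cfsg.IsFieldAutClassPOmegaMinus m x ∧
        Nat.Coprime p (Nat.card ↥(MonoidHom.eqLocus x.toMonoidHom
          (MonoidHom.id (Cfsg.POmega F (Cfsg.quadFormMinus m F a b)))))) := by
  classical
  have hnot' : x ∉ Cfsg.inndiagPOmegaMinus m F a b :=
    fun h => hnot (pred_of_mem_inndiag hm a b hab x h)
  by_cases hp : p = 2
  · subst hp
    have h2 := hp2 rfl
    have hodd := Cfsg.Agent.Helper28.Spin.card_odd h2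
    constructor
    · intro hne
      exfalso
      apply hne
      have htop : Cfsg.gammaPOmega F (Cfsg.quadFormMinus m F a b) = ⊤ :=
        Cfsg.Agent.S2696.result hm a b hab
      obtain ⟨g, hsgn, hgx, hg2⟩ := GInv.exists_graph_data_minus hodd h2 hm a b hab x
        ⟨by rw [htop]; exact Subgroup.mem_top x, hnot', by rw [hord]; exact even_two⟩ hord
      have hcardι : Fintype.card ((Fin m ⊕ Fin m) ⊕ Fin 2) = 2 * (m + 1) := by
        rw [Fintype.card_sum, Fintype.card_sum, Fintype.card_fin, Fintype.card_fin]; omega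
      have : Nonempty ((Fin m ⊕ Fin m) ⊕ Fin 2) := ⟨Sum.inr 0⟩
      have key := core_two_graph (QfMinus m F a b) (nondeg_minus a b hab) (frameMinus hm a b)
        (hgen_minus hm a b hab) htop (hex_minus a b) hcardι h2 (by omega) g hsgn hg2 A hinn
      rw [hgx] at key
      exact key
    · rintro ⟨hfield, -⟩
      exfalso
      obtain ⟨a', b', ψ, σ, hab', ha, hb, hσ1, hψx⟩ := exists_std_of_class a b x hfield
      have hox : orderOf x = orderOf σ := by
        rw [← orderOf_phiM hm a' b' hab' ha hb, ← hψx]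
        exact ((MulAut.congr ψ).orderOf_eq x).symm
      rw [hord] at hox
      exact orderOf_ne_two_of_aniso a' b' hab' σ ha hb hox.symm
  · exact main_minus_odd hm a b hab A hinn hp x hord hnot'

end Cfsg.Agent.Helper28.LB
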