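import Mathlib
import Cfsg.Agent.Helper4.McLDefs

set_option autoImplicit false

/-! S5075 piece CLSDISJ: the classes of the non-commuting graph: `Reach` is symmetric, equal
classes generate equal subgroups, different classes commute. -/

namespace Cfsg.Agent.S5075P

variable {p : ℕ} [Fact p.Prime] {V : Type*} [AddCommGroup V] [Module (ZMod p) V]

theorem CLSDISJ_adj_symm {a b : V × Module.Dual (ZMod p) V} (h : Adj a b) : Adj b a := by
  unfold Adj at h ⊢
  intro hc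
  exact h ⟨hc.2, hc.1⟩

theorem CLSDISJ_reach_symm (H : Subgroup (V ≃ₗ[ZMod p] V)) {a b : V × Module.Dual (ZMod p) V}
    (h : Reach H a b) : Reach H b a := by
  unfold Reach at h ⊢
  induction h with
  | refl => exact Relation.ReflTransGen.refl
  | tail _ hbc ih =>
    exact Relation.ReflTransGen.head ⟨hbc.2.1, hbc.1, CLSDISJ_adj_symm hbc.2.2⟩ ih

theorem CLSDISJ_reach_trans (H : Subgroup (V ≃ₗ[ZMod p] V)) {a b c : V × Module.Dual (ZMod p) V}
    (h1 : Reach H a b) (h2 : Reach H b c) : Reach H a c :=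
  Relation.ReflTransGen.trans h1 h2

theorem CLSDISJ_reach_step (H : Subgroup (V ≃ₗ[ZMod p] V)) {a b : V × Module.Dual (ZMod p) V}
    (ha : InI0 H a.1 a.2) (hb : InI0 H b.1 b.2) (hab : Adj a b) : Reach H a b :=
  Relation.ReflTransGen.single ⟨ha, hb, hab⟩

/-- commuting generators give commuting closures -/
theorem CLSDISJ_commute_closure {G : Type*} [Group G] (S T : Set G)
    (h : ∀ s ∈ S, ∀ t ∈ T, s * t = t * s) :
    ∀ a ∈ Subgroup.closure S, ∀ b ∈ Subgroup.closure T, a * b = b * a := by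
  intro a ha b hb
  have h1 : Subgroup.closure S ≤ Subgroup.centralizer (Subgroup.closure T : Set G) := by
    rw [Subgroup.closure_le]
    intro s hs
    rw [SetLike.mem_coe, Subgroup.mem_centralizer_iff]
    intro b' hb'
    have h2 : Subgroup.closure T ≤ Subgroup.centralizer ({s} : Set G) := by
      rw [Subgroup.closure_le]
      intro t ht
      rw [SetLike.mem_coe, Subgroup.mem_centralizer_iff]
      intro s' hs'
      rw [Set.mem_singleton_iff] at hs'
      rw [hs']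
      exact h s hs t ht
    have h3 := h2 hb'
    rw [Subgroup.mem_centralizer_iff] at h3
    exact (h3 s (Set.mem_singleton s)).symm
  have h4 := h1 ha
  rw [Subgroup.mem_centralizer_iff] at h4
  exact (h4 b hb).symm

theorem classes_disjoint (H : Subgroup (V ≃ₗ[ZMod p] V)) (v₀ v₁ : V)
    (φ₀ φ₁ : Module.Dual (ZMod p) V) (h0 : InI0 H v₀ φ₀) (h1 : InI0 H v₁ φ₁) :
    (Reach H (v₀, φ₀) (v₁, φ₁) → Gc H v₀ φ₀ = Gc H v₁ φ₁) ∧
    (¬ Reach H (v₀, φ₀) (v₁, φ₁) →
      (∀ v φ w ψ, Cls H v₀ φ₀ v φ → Cls H v₁ φ₁ w ψ → φ w = 0 ∧ ψ v = 0) ∧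
      (∀ a ∈ Gc H v₀ φ₀, ∀ b ∈ Gc H v₁ φ₁, a * b = b * a)) := by
  constructor
  · intro hr
    have hcls : ∀ v φ, Cls H v₀ φ₀ v φ ↔ Cls H v₁ φ₁ v φ := by
      intro v φ
      constructor
      · rintro ⟨hi, h⟩
        exact ⟨hi, CLSDISJ_reach_trans H (CLSDISJ_reach_symm H hr) h⟩
      · rintro ⟨hi, h⟩
        exact ⟨hi, CLSDISJ_reach_trans H hr h⟩
    unfold Gc
    congr 1
    ext t
    constructor
    · rintro ⟨v, φ, hc, rfl⟩
      exact ⟨v, φ, (hcls v φ).1 hc, rfl⟩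
    · rintro ⟨v, φ, hc, rfl⟩
      exact ⟨v, φ, (hcls v φ).2 hc, rfl⟩
  · intro hnr
    have key : ∀ v φ w ψ, Cls H v₀ φ₀ v φ → Cls H v₁ φ₁ w ψ → φ w = 0 ∧ ψ v = 0 := by
      intro v φ w ψ hc0 hc1
      by_contra hcon
      apply hnr
      have hadj : Adj (v, φ) (w, ψ) := hcon
      exact CLSDISJ_reach_trans H hc0.2 (CLSDISJ_reach_trans H
        (CLSDISJ_reach_step H (a := (v, φ)) (b := (w, ψ)) hc0.1 hc1.1 hadj)
        (CLSDISJ_reach_symm H hc1.2))
    refine ⟨key, ?_⟩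
    unfold Gc
    apply CLSDISJ_commute_closure
    rintro s ⟨v, φ, hc0, rfl⟩ t ⟨w, ψ, hc1, rfl⟩
    have hk := key v φ w ψ hc0 hc1
    exact ((tv_commute_iff hc0.1.1.1 hc1.1.1.1 hc0.1.2.1 hc0.1.2.2 hc1.1.2.1 hc1.1.2.2).2 hk).eq

end Cfsg.Agent.S5075P
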