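import Mathlib
import Cfsg.Agent.Helper4.McLDefs
import Cfsg.Agent.Helper28.McLCLSDISJ

set_option autoImplicit false

/-! S5075 piece CLSCONN: the subgroup generated by a class satisfies the hypotheses of the
connected case. -/

namespace Cfsg.Agent.S5075P

variable {p : ℕ} [Fact p.Prime] {V : Type*} [AddCommGroup V] [Module (ZMod p) V]

theorem cls_conn (H : Subgroup (V ≃ₗ[ZMod p] V))
    (hopp : ∀ v φ, InI0 H v φ → ∃ w ψ, InI H w ψ ∧ φ w ≠ 0 ∧ ψ v ≠ 0) (v₀ : V)
    (φ₀ : Module.Dual (ZMod p) V)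
    (hI : ∀ v φ, InI0 (Gc H v₀ φ₀) v φ ↔ Cls H v₀ φ₀ v φ) : Conn (Gc H v₀ φ₀) := by
  refine ⟨?_, ?_, ?_⟩
  · -- generation
    have hset : TV (Gc H v₀ φ₀) = {t | ∃ v φ, Cls H v₀ φ₀ v φ ∧ t = tv v φ} := by
      ext t
      constructor
      · rintro ⟨v, φ, h, rfl⟩
        exact ⟨v, φ, (hI v φ).1 h, rfl⟩
      · rintro ⟨v, φ, h, rfl⟩
        exact ⟨v, φ, (hI v φ).2 h, rfl⟩
    rw [hset]
    rfl
  · -- opposites
    intro v φ h
    have hc := (hI v φ).1 h
    obtain ⟨w, ψ, hw, hφw, hψv⟩ := hopp v φ hc.1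
    have hw0 : w ≠ 0 := by
      rintro rfl
      exact hφw (map_zero φ)
    have hψ0 : ψ ≠ 0 := by
      rintro rfl
      exact hψv (LinearMap.zero_apply v)
    have hwI0 : InI0 H w ψ := ⟨hw, hw0, hψ0⟩
    have hadj : Adj (v, φ) (w, ψ) := by
      unfold Adj
      intro h'
      exact hφw h'.1
    have hcw : Cls H v₀ φ₀ w ψ :=
      ⟨hwI0, CLSDISJ_reach_trans H hc.2
        (CLSDISJ_reach_step H (a := (v, φ)) (b := (w, ψ)) hc.1 hwI0 hadj)⟩
    exact ⟨w, ψ, ((hI w ψ).2 hcw).1, hφw, hψv⟩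
  · -- connectedness
    intro P hP
    have key : ∀ c : V × Module.Dual (ZMod p) V, Reach H (v₀, φ₀) c → InI0 H c.1 c.2 →
        (P c.1 c.2 ↔ P v₀ φ₀) := by
      intro c hr
      unfold Reach at hr
      induction hr with
      | refl => intro _; exact Iff.rfl
      | tail hab hbc ih =>
        rename_i b c
        intro hc
        have hb : InI0 H b.1 b.2 := hbc.1
        have hbcls : Cls H v₀ φ₀ b.1 b.2 := ⟨hb, hab⟩
        have hccls : Cls H v₀ φ₀ c.1 c.2 :=
          ⟨hc, Relation.ReflTransGen.tail hab hbc⟩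
        have hbG := (hI b.1 b.2).2 hbcls
        have hcG := (hI c.1 c.2).2 hccls
        have hadj : ¬ (b.2 c.1 = 0 ∧ c.2 b.1 = 0) := hbc.2.2
        rw [← ih hb]
        constructor
        · intro hPc
          by_contra hPb
          exact hadj ((hP c.1 c.2 b.1 b.2 hcG hbG hPc hPb).symm)
        · intro hPb
          by_contra hPc
          exact hadj (hP b.1 b.2 c.1 c.2 hbG hcG hPb hPc)
    by_cases h0 : P v₀ φ₀
    · left
      intro v φ h
      have hc := (hI v φ).1 h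
      exact (key (v, φ) hc.2 hc.1).2 h0
    · right
      intro v φ h hPv
      have hc := (hI v φ).1 h
      exact h0 ((key (v, φ) hc.2 hc.1).1 hPv)

end Cfsg.Agent.S5075P
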