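import Mathlib
import Cfsg.Agent.Helper4.McLDefs
import Cfsg.Agent.Helper28.McLCLSDISJ

set_option autoImplicit false

/-! S5075 piece CLSI0: the transvections of the subgroup generated by a class are exactly the
transvections of the class. -/

namespace Cfsg.Agent.S5075P

variable {p : ℕ} [Fact p.Prime] {V : Type*} [AddCommGroup V] [Module (ZMod p) V]

theorem CLSI0_Gc_le (H : Subgroup (V ≃ₗ[ZMod p] V)) (v₀ : V) (φ₀ : Module.Dual (ZMod p) V) :
    Gc H v₀ φ₀ ≤ H := by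
  unfold Gc
  rw [Subgroup.closure_le]
  rintro t ⟨v, φ, hc, rfl⟩
  exact hc.1.1.2

theorem cls_inI0 (H : Subgroup (V ≃ₗ[ZMod p] V))
    (hopp : ∀ v φ, InI0 H v φ → ∃ w ψ, InI H w ψ ∧ φ w ≠ 0 ∧ ψ v ≠ 0) (v₀ : V)
    (φ₀ : Module.Dual (ZMod p) V) :
    ∀ v φ, InI0 (Gc H v₀ φ₀) v φ ↔ Cls H v₀ φ₀ v φ := by
  intro v φ
  constructor
  · rintro ⟨⟨hφv, hmem⟩, hv, hφ⟩
    have hI0 : InI0 H v φ := ⟨⟨hφv, CLSI0_Gc_le H v₀ φ₀ hmem⟩, hv, hφ⟩
    refine ⟨hI0, ?_⟩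
    by_contra hnr
    obtain ⟨w, ψ, hw, hφw, hψv⟩ := hopp v φ hI0
    have hw0 : w ≠ 0 := by
      rintro rfl
      exact hφw (map_zero φ)
    have hψ0 : ψ ≠ 0 := by
      rintro rfl
      exact hψv (LinearMap.zero_apply v)
    have hwI0 : InI0 H w ψ := ⟨hw, hw0, hψ0⟩
    have hadj : Adj (w, ψ) (v, φ) := by
      unfold Adj
      intro h
      exact hψv h.1
    -- `(w, ψ)` is not in the class
    have hnw : ¬ Reach H (v₀, φ₀) (w, ψ) := by
      intro h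
      exact hnr (CLSDISJ_reach_trans H h
        (CLSDISJ_reach_step H (a := (w, ψ)) (b := (v, φ)) hwI0 hI0 hadj))
    -- so `tv w ψ` commutes with the generators of the class
    have hcomm : ∀ a ∈ Gc H v₀ φ₀, ∀ b ∈ Subgroup.closure ({tv w ψ} : Set (V ≃ₗ[ZMod p] V)),
        a * b = b * a := by
      unfold Gc
      apply CLSDISJ_commute_closure
      rintro s ⟨x, ξ, hc, rfl⟩ t ht
      rw [Set.mem_singleton_iff] at ht
      rw [ht]
      have hk : ξ w = 0 ∧ ψ x = 0 := by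
        by_contra hcon
        apply hnw
        have hadj' : Adj (x, ξ) (w, ψ) := hcon
        exact CLSDISJ_reach_trans H hc.2
          (CLSDISJ_reach_step H (a := (x, ξ)) (b := (w, ψ)) hc.1 hwI0 hadj')
      exact ((tv_commute_iff hc.1.1.1 hw.1 hc.1.2.1 hc.1.2.2 hw0 hψ0).2 hk).eq
    have h1 := hcomm (tv v φ) hmem (tv w ψ) (Subgroup.subset_closure (Set.mem_singleton _))
    have h2 := (tv_commute_iff hφv hw.1 hv hφ hw0 hψ0).1 h1
    exact hφw h2.1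
  · rintro ⟨hI0, hr⟩
    exact ⟨⟨hI0.1.1, Subgroup.subset_closure ⟨v, φ, ⟨hI0, hr⟩, rfl⟩⟩, hI0.2.1, hI0.2.2⟩

end Cfsg.Agent.S5075P
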