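import Mathlib
import Cfsg.Agent.Helper4.McLDefs
import Cfsg.Agent.Helper28.McLCLSDISJ

set_option autoImplicit false

/-! S5075 piece CLSNORMAL: `H` normalises the subgroup generated by a class. -/

namespace Cfsg.Agent.S5075P

variable {p : ℕ} [Fact p.Prime] {V : Type*} [AddCommGroup V] [Module (ZMod p) V]

/-- conjugating a pair of a class by a transvection of `H` stays in the class -/
theorem CLSNORMAL_cls_conj (H : Subgroup (V ≃ₗ[ZMod p] V)) (v₀ : V)
    (φ₀ : Module.Dual (ZMod p) V) {v w : V} {φ ψ : Module.Dual (ZMod p) V}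
    (hc : Cls H v₀ φ₀ v φ) (hw : InI0 H w ψ) :
    Cls H v₀ φ₀ (v + ψ v • w) (φ - φ w • ψ) := by
  by_cases hcomm : φ w = 0 ∧ ψ v = 0
  · rw [hcomm.1, hcomm.2, zero_smul, zero_smul, add_zero, sub_zero]
    exact hc
  · have hψw : ψ w = 0 := hw.1.1
    have hφv : φ v = 0 := hc.1.1.1
    have hI : InI H (v + ψ v • w) (φ - φ w • ψ) := hc.1.1.conj_tv hw.1
    have hv' : v + ψ v • w ≠ 0 := by
      intro h
      have h1 : ψ (v + ψ v • w) = 0 := by rw [h, map_zero]
      rw [map_add, map_smul, hψw, smul_zero, add_zero] at h1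
      rw [h1, zero_smul, add_zero] at h
      exact hc.1.2.1 h
    have hφ' : φ - φ w • ψ ≠ 0 := by
      intro h
      have h1 : (φ - φ w • ψ) w = 0 := by rw [h, LinearMap.zero_apply]
      rw [LinearMap.sub_apply, LinearMap.smul_apply, hψw, smul_zero, sub_zero] at h1
      rw [h1, zero_smul, sub_zero] at h
      exact hc.1.2.2 h
    have hI0 : InI0 H (v + ψ v • w) (φ - φ w • ψ) := ⟨hI, hv', hφ'⟩
    refine ⟨hI0, ?_⟩
    have hadj1 : Adj (v, φ) (w, ψ) := hcomm
    have hadj2 : Adj (w, ψ) (v + ψ v • w, φ - φ w • ψ) := by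
      unfold Adj
      simp only [map_add, map_smul, hψw, smul_zero, add_zero, LinearMap.sub_apply,
        LinearMap.smul_apply, sub_zero]
      intro h
      exact hcomm ⟨h.2, h.1⟩
    exact CLSDISJ_reach_trans H hc.2 (CLSDISJ_reach_trans H
      (CLSDISJ_reach_step H (a := (v, φ)) (b := (w, ψ)) hc.1 hw hadj1)
      (CLSDISJ_reach_step H (a := (w, ψ)) (b := (v + ψ v • w, φ - φ w • ψ)) hw hI0 hadj2))

/-- a transvection of `H` normalises the subgroup generated by a class -/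
theorem CLSNORMAL_tv_conj (H : Subgroup (V ≃ₗ[ZMod p] V)) (v₀ : V)
    (φ₀ : Module.Dual (ZMod p) V) {w : V} {ψ : Module.Dual (ZMod p) V} (hw : InI0 H w ψ) :
    ∀ k ∈ Gc H v₀ φ₀, tv w ψ * k * (tv w ψ)⁻¹ ∈ Gc H v₀ φ₀ := by
  intro k hk
  unfold Gc at hk
  induction hk using Subgroup.closure_induction with
  | mem t ht =>
    obtain ⟨v, φ, hc, rfl⟩ := ht
    rw [tv_conj_tv hw.1.1]
    exact Subgroup.subset_closure ⟨_, _, CLSNORMAL_cls_conj H v₀ φ₀ hc hw, rfl⟩
  | one =>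
    rw [mul_one, mul_inv_cancel]
    exact Subgroup.one_mem _
  | mul a b _ _ ha hb =>
    have : tv w ψ * (a * b) * (tv w ψ)⁻¹ =
        (tv w ψ * a * (tv w ψ)⁻¹) * (tv w ψ * b * (tv w ψ)⁻¹) := by group
    rw [this]
    exact Subgroup.mul_mem _ ha hb
  | inv a _ ha =>
    have : tv w ψ * a⁻¹ * (tv w ψ)⁻¹ = (tv w ψ * a * (tv w ψ)⁻¹)⁻¹ := by group
    rw [this]
    exact Subgroup.inv_mem _ ha

theorem cls_normal (H : Subgroup (V ≃ₗ[ZMod p] V)) (hgen : H = Subgroup.closure (TV H)) (v₀ : V)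
    (φ₀ : Module.Dual (ZMod p) V) :
    ∀ h ∈ H, ∀ k ∈ Gc H v₀ φ₀, h * k * h⁻¹ ∈ Gc H v₀ φ₀ := by
  intro h hh
  have key : (∀ k ∈ Gc H v₀ φ₀, h * k * h⁻¹ ∈ Gc H v₀ φ₀) ∧
      (∀ k ∈ Gc H v₀ φ₀, h⁻¹ * k * h ∈ Gc H v₀ φ₀) := by
    rw [hgen] at hh
    induction hh using Subgroup.closure_induction with
    | mem t ht =>
      obtain ⟨w, ψ, hw, rfl⟩ := ht
      refine ⟨CLSNORMAL_tv_conj H v₀ φ₀ hw, ?_⟩
      have hw' : InI0 H w (-ψ) := ⟨hw.1.neg_right, hw.2.1, neg_ne_zero.2 hw.2.2⟩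
      have hinv : (tv w ψ)⁻¹ = tv w (-ψ) := tv_neg_right hw.1.1
      intro k hk
      have := CLSNORMAL_tv_conj H v₀ φ₀ hw' k hk
      rw [← hinv, inv_inv] at this
      exact this
    | one =>
      constructor
      · intro k hk
        rw [one_mul, inv_one, mul_one]
        exact hk
      · intro k hk
        rw [inv_one, one_mul, mul_one]
        exact hk
    | mul a b _ _ ha hb =>
      constructor
      · intro k hk
        have : a * b * k * (a * b)⁻¹ = a * (b * k * b⁻¹) * a⁻¹ := by group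
        rw [this]
        exact ha.1 _ (hb.1 k hk)
      · intro k hk
        have : (a * b)⁻¹ * k * (a * b) = b⁻¹ * (a⁻¹ * k * a) * b := by group
        rw [this]
        exact hb.2 _ (ha.2 k hk)
    | inv a _ ha =>
      constructor
      · intro k hk
        rw [inv_inv]
        exact ha.2 k hk
      · intro k hk
        rw [inv_inv]
        exact ha.1 k hk
  exact key.1

end Cfsg.Agent.S5075P
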