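import Mathlib
import Cfsg.Agent.Helper4.McLDefs

set_option autoImplicit false

/-! S5075 piece ENUM: enumeration of the finitely many subgroups generated by the classes. -/

namespace Cfsg.Agent.S5075P

variable {p : ℕ} [Fact p.Prime] {V : Type*} [AddCommGroup V] [Module (ZMod p) V]

theorem enum_classes [Finite V] (H : Subgroup (V ≃ₗ[ZMod p] V))
    (hgen : H = Subgroup.closure (TV H))
    (hcls : ∀ v₀ φ₀, InI0 H v₀ φ₀ →
      Gc H v₀ φ₀ ≤ H ∧ (∀ h ∈ H, ∀ k ∈ Gc H v₀ φ₀, h * k * h⁻¹ ∈ Gc H v₀ φ₀) ∧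
      (∀ v φ, InI0 (Gc H v₀ φ₀) v φ ↔ Cls H v₀ φ₀ v φ) ∧ Conn (Gc H v₀ φ₀))
    (hdisj : ∀ v₀ v₁ φ₀ φ₁, InI0 H v₀ φ₀ → InI0 H v₁ φ₁ →
      (Reach H (v₀, φ₀) (v₁, φ₁) → Gc H v₀ φ₀ = Gc H v₁ φ₁) ∧
      (¬ Reach H (v₀, φ₀) (v₁, φ₁) →
        (∀ v φ w ψ, Cls H v₀ φ₀ v φ → Cls H v₁ φ₁ w ψ → φ w = 0 ∧ ψ v = 0) ∧
        (∀ a ∈ Gc H v₀ φ₀, ∀ b ∈ Gc H v₁ φ₁, a * b = b * a))) :
    ∃ (n : ℕ) (K : Fin n → Subgroup (V ≃ₗ[ZMod p] V)),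
      (∀ j, K j ≤ H ∧ (∀ h ∈ H, ∀ k ∈ K j, h * k * h⁻¹ ∈ K j) ∧ Conn (K j)) ∧
      ⨆ j, K j = H ∧
      (∀ j j', j ≠ j' → (∀ v φ w ψ, InI0 (K j) v φ → InI0 (K j') w ψ → φ w = 0 ∧ ψ v = 0) ∧
        (∀ a ∈ K j, ∀ b ∈ K j', a * b = b * a)) := by
  classical
  have : Finite (V ≃ₗ[ZMod p] V) :=
    Finite.of_injective (fun g : V ≃ₗ[ZMod p] V => (g : V → V)) DFunLike.coe_injective
  obtain ⟨S, hS⟩ : ∃ S : Set (Subgroup (V ≃ₗ[ZMod p] V)),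
      S = {K | ∃ v φ, InI0 H v φ ∧ K = Gc H v φ} := ⟨_, rfl⟩
  have hSmem : ∀ K, K ∈ S ↔ ∃ v φ, InI0 H v φ ∧ K = Gc H v φ := by
    intro K
    rw [hS]
    rfl
  have : Finite S := Subtype.finite
  let e : S ≃ Fin (Nat.card S) := Finite.equivFin S
  have hK : ∀ j : Fin (Nat.card S), ∃ v φ, InI0 H v φ ∧ ((e.symm j : S) : Subgroup _) = Gc H v φ := by
    intro j
    exact (hSmem _).1 (e.symm j).2
  refine ⟨Nat.card S, fun j => ((e.symm j : S) : Subgroup (V ≃ₗ[ZMod p] V)), ?_, ?_, ?_⟩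
  · intro j
    obtain ⟨v, φ, h0, hj⟩ := hK j
    have := hcls v φ h0
    simp only [hj]
    exact ⟨this.1, this.2.1, this.2.2.2⟩
  · apply le_antisymm
    · apply iSup_le
      intro j
      obtain ⟨v, φ, h0, hj⟩ := hK j
      simp only [hj]
      exact (hcls v φ h0).1
    · conv_lhs => rw [hgen]
      rw [Subgroup.closure_le]
      rintro t ⟨v, φ, h0, rfl⟩
      have hmem : Gc H v φ ∈ S := (hSmem _).2 ⟨v, φ, h0, rfl⟩
      have h1 : tv v φ ∈ Gc H v φ :=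
        Subgroup.subset_closure ⟨v, φ, ⟨h0, Relation.ReflTransGen.refl⟩, rfl⟩
      have h2 : Gc H v φ ≤ ⨆ j, ((e.symm j : S) : Subgroup (V ≃ₗ[ZMod p] V)) := by
        have := le_iSup (fun j => ((e.symm j : S) : Subgroup (V ≃ₗ[ZMod p] V))) (e ⟨_, hmem⟩)
        rw [Equiv.symm_apply_apply] at this
        exact this
      exact h2 h1
  · intro j j' hjj'
    obtain ⟨v, φ, h0, hj⟩ := hK j
    obtain ⟨v', φ', h0', hj'⟩ := hK j'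
    have hne : Gc H v φ ≠ Gc H v' φ' := by
      intro heq
      apply hjj'
      have : (e.symm j : S) = e.symm j' := by
        apply Subtype.ext
        rw [hj, hj', heq]
      exact e.symm.injective this
    have hnr : ¬ Reach H (v, φ) (v', φ') := fun hr => hne ((hdisj v v' φ φ' h0 h0').1 hr)
    obtain ⟨hA, hB⟩ := (hdisj v v' φ φ' h0 h0').2 hnr
    simp only [hj, hj']
    refine ⟨?_, hB⟩
    intro x ξ y η hx hy
    exact hA x ξ y η (((hcls v φ h0).2.2.1 x ξ).1 hx) (((hcls v' φ' h0').2.2.1 y η).1 hy)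

end Cfsg.Agent.S5075P
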