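import Mathlib
import Cfsg.Prelude.Def_GeometricClasses
import Cfsg.Agent.Helper28.NondegMax1
import Cfsg.Agent.Helper28.OmegaCenter

set_option autoImplicit false
set_option linter.unusedSectionVars false

/-! The group-theoretic core of the maximality of the stabiliser of a nondegenerate subspace in
`Ω(Q)`: an overgroup of the stabiliser of `V = W ⊥ A` containing an element that moves `W`
contains all Siegel transformations. -/

namespace Cfsg.Agent.Helper28.NDM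

open Matrix Module Cfsg.Agent.Helper28.Sg Cfsg.Agent.Helper28.OM Cfsg.Agent.Helper28.Spin
  Cfsg.Agent.Helper28.OFN Cfsg.Agent.Helper28.PDN

variable {F : Type*} [Field F] [Fintype F] {ι : Type} [Fintype ι] [DecidableEq ι]
  {Q : QuadraticForm F (ι → F)}

theorem reflO_mulVec (v : ι → F) (hv : Q v ≠ 0) (x : ι → F) :
    mt Q (reflO Q v hv) *ᵥ x = x - ((Q v)⁻¹ * B Q v x) • v := by
  show Cfsg.reflectionMatrix ⇑Q v *ᵥ x = _
  rw [refl_mulVec]

/-- vectors `w ⟂ u` all of whose multiples give Siegel elements `T_{u, c w}` in `M` -/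
def Lsub (M : Subgroup ↥(Cfsg.isometryGroup F ⇑Q)) (u : ι → F) (hu : Q u = 0) :
    Submodule F (ι → F) where
  carrier := {w | B Q u w = 0 ∧ ∀ (c : F) (h : B Q u (c • w) = 0), siegO Q u (c • w) hu h ∈ M}
  zero_mem' := by
    refine ⟨QuadraticMap.polar_zero_right _ _, fun c h => ?_⟩
    have h0 : B Q u 0 = 0 := QuadraticMap.polar_zero_right _ _
    rw [siegO_congr Q hu h hu h0 rfl (smul_zero c), siegO_zero]
    exact M.one_mem
  add_mem' := by
    rintro a b ⟨ha, ha'⟩ ⟨hb, hb'⟩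
    refine ⟨by rw [B_add_right', ha, hb, add_zero], fun c h => ?_⟩
    have hca : B Q u (c • a) = 0 := B_smul_right_zero Q c ha
    have hcb : B Q u (c • b) = 0 := B_smul_right_zero Q c hb
    have hsum : B Q u (c • a + c • b) = 0 := B_add_right_zero Q hca hcb
    have := M.mul_mem (ha' c hca) (hb' c hcb)
    rw [siegO_mul Q hu hca hcb hsum] at this
    rw [siegO_congr Q hu h hu hsum rfl (smul_add c a b)]
    exact this
  smul_mem' := by
    rintro k a ⟨ha, ha'⟩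
    refine ⟨B_smul_right_zero Q k ha, fun c h => ?_⟩
    have h' : B Q u ((c * k) • a) = 0 := B_smul_right_zero Q _ ha
    rw [siegO_congr Q hu h hu h' rfl (smul_smul c k a)]
    exact ha' _ h'

theorem mem_Lsub (M : Subgroup ↥(Cfsg.isometryGroup F ⇑Q)) (u : ι → F) (hu : Q u = 0)
    (w : ι → F) : w ∈ Lsub M u hu ↔
      B Q u w = 0 ∧ ∀ (c : F) (h : B Q u (c • w) = 0), siegO Q u (c • w) hu h ∈ M := Iff.rfl

theorem Lsub_map_fix {M : Subgroup ↥(Cfsg.isometryGroup F ⇑Q)} {u : ι → F} (hu : Q u = 0)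
    {g : ↥(Cfsg.isometryGroup F ⇑Q)} (hg : g ∈ M) (hgu : mt Q g *ᵥ u = u) {w : ι → F}
    (hw : w ∈ Lsub M u hu) : mt Q g *ᵥ w ∈ Lsub M u hu := by
  obtain ⟨h1, h2⟩ := hw
  have hB : B Q u (mt Q g *ᵥ w) = 0 := by
    have := B_isom Q g u w
    rw [hgu] at this; rw [this]; exact h1
  refine ⟨hB, fun k h => ?_⟩
  have hk : B Q u (k • w) = 0 := B_smul_right_zero Q k h1
  have hu' : Q (mt Q g *ᵥ u) = 0 := by rw [hgu]; exact hu
  have huv' : B Q (mt Q g *ᵥ u) (mt Q g *ᵥ (k • w)) = 0 := by rw [B_isom]; exact hk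
  have hconj := siegO_conj Q g hu hk hu' huv'
  have hmem : g * siegO Q u (k • w) hu hk * g⁻¹ ∈ M :=
    M.mul_mem (M.mul_mem hg (h2 k hk)) (M.inv_mem hg)
  rw [hconj] at hmem
  rw [siegO_congr Q hu h hu' huv' hgu.symm (by rw [Matrix.mulVec_smul])]
  exact hmem

/-- the standing hypotheses -/
structure Ctx (Q : QuadraticForm F (ι → F)) (W A : Submodule F (ι → F))
    (M : Subgroup ↥(Cfsg.isometryGroup F ⇑Q)) : Prop where
  hQ : (QuadraticMap.polarBilin Q).Nondegenerate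
  orth : ∀ w ∈ W, ∀ a ∈ A, B Q w a = 0
  dec : ∀ x : ι → F, ∃ w ∈ W, ∃ a ∈ A, x = w + a
  ndW : NDon Q W
  ndA : NDon Q A
  siegΩ : ∀ (u v : ι → F) (hu : Q u = 0) (huv : B Q u v = 0),
    siegO Q u v hu huv ∈ Cfsg.Omega F ⇑Q
  reflΩ : ∀ (x y : ι → F) (hx : Q x ≠ 0) (hy : Q y ≠ 0), Q x = Q y →
    reflO Q x hx * reflO Q y hy ∈ Cfsg.Omega F ⇑Q
  hP : ∀ g ∈ Cfsg.Omega F ⇑Q, (∀ w ∈ W, mt Q g *ᵥ w ∈ W) → g ∈ M
  hirr : ∀ S : Submodule F (ι → F), S ≤ W → S ≠ ⊥ →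
    (∀ x ∈ W, Q x ≠ 0 → ∀ s ∈ S, s - ((Q x)⁻¹ * B Q x s) • x ∈ S) →
    (∀ e ∈ W, ∀ v ∈ W, Q e = 0 → B Q e v = 0 → ∀ s ∈ S,
      s + B Q e s • v - B Q v s • e - (Q v * B Q e s) • e ∈ S) → W ≤ S

variable {W A : Submodule F (ι → F)} {M : Subgroup ↥(Cfsg.isometryGroup F ⇑Q)}

theorem Ctx.inter (c : Ctx Q W A M) {x : ι → F} (hxW : x ∈ W) (hxA : x ∈ A) : x = 0 := by
  by_contra h0
  obtain ⟨y, hy, hne⟩ := c.ndW x hxW h0
  exact hne (by rw [B_comm]; exact c.orth y hy x hxA)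

theorem Ctx.sieg_A (c : Ctx Q W A M) {u y : ι → F} (hu : u ∈ A) (hy : y ∈ A) (hQu : Q u = 0)
    (huy : B Q u y = 0) : siegO Q u y hQu huy ∈ M := by
  apply c.hP _ (c.siegΩ _ _ _ _)
  intro w hw
  rw [siegO_mulVec]
  have h1 : B Q u w = 0 := by rw [B_comm]; exact c.orth w hw u hu
  have h2 : B Q y w = 0 := by rw [B_comm]; exact c.orth w hw y hy
  rw [h1, h2]
  simpa using hw

theorem Ctx.sieg_W (c : Ctx Q W A M) {e v : ι → F} (he : e ∈ W) (hv : v ∈ W) (hQe : Q e = 0)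
    (hev : B Q e v = 0) : siegO Q e v hQe hev ∈ M := by
  apply c.hP _ (c.siegΩ _ _ _ _)
  intro w hw
  rw [siegO_mulVec]
  exact W.sub_mem (W.sub_mem (W.add_mem hw (W.smul_mem _ hv)) (W.smul_mem _ he)) (W.smul_mem _ he)

theorem Ctx.refl_mem (c : Ctx Q W A M) {x y : ι → F} (hx : x ∈ W) (hy : y ∈ A) (hQx : Q x ≠ 0)
    (hQy : Q y ≠ 0) (hxy : Q x = Q y) : reflO Q x hQx * reflO Q y hQy ∈ M := by
  apply c.hP _ (c.reflΩ _ _ _ _ hxy)
  intro w hw
  rw [mt_mul_mulVec, reflO_mulVec y, reflO_mulVec x]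
  have h1 : B Q y w = 0 := by rw [B_comm]; exact c.orth w hw y hy
  rw [h1, mul_zero, zero_smul, sub_zero]
  exact W.sub_mem hw (W.smul_mem _ hx)

theorem Ctx.mem_Lsub_of_A (c : Ctx Q W A M) {u y : ι → F} (hu : u ∈ A) (hQu : Q u = 0)
    (hy : y ∈ A) (huy : B Q u y = 0) : y ∈ Lsub M u hQu :=
  ⟨huy, fun k h => c.sieg_A hu (A.smul_mem k hy) hQu h⟩

/-- Lemma B: a Siegel family at `u ∈ A` reaching outside `A` is the full family. -/
theorem Ctx.lemB (c : Ctx Q W A M) (h5 : 5 ≤ finrank F A) {u : ι → F} (huA : u ∈ A) (hu0 : u ≠ 0)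
    (hQu : Q u = 0) {w : ι → F} (hw : w ∈ Lsub M u hQu) (hwA : w ∉ A) : u ∈ S1 M := by
  obtain ⟨u', e', f', hu'A, he'A, hf'A, hQu', huu', hQe', hQf', he'f', hue', hu'e', huf', hu'f'⟩ :=
    exists_frame_in Q c.hQ A c.ndA h5 u huA hu0 hQu
  obtain ⟨S, hS⟩ : ∃ S : Submodule F (ι → F), S = Lsub M u hQu ⊓ W := ⟨_, rfl⟩
  have hmemS : ∀ x, x ∈ S ↔ x ∈ Lsub M u hQu ∧ x ∈ W := by
    intro x; rw [hS, Submodule.mem_inf]
  have hSW : S ≤ W := by rw [hS]; exact inf_le_right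
  have hS0 : S ≠ ⊥ := by
    obtain ⟨w₁, hw₁, a₁, ha₁, hwa⟩ := c.dec w
    have hua₁ : B Q u a₁ = 0 := by
      have h1 : B Q u w = 0 := hw.1
      have h2 : B Q u w₁ = 0 := by rw [B_comm]; exact c.orth w₁ hw₁ u huA
      rw [hwa, B_add_right', h2, zero_add] at h1; exact h1
    have ha₁L : a₁ ∈ Lsub M u hQu := c.mem_Lsub_of_A huA hQu ha₁ hua₁
    have hw₁L : w₁ ∈ Lsub M u hQu := by
      have : w₁ = w - a₁ := by rw [hwa]; abel
      rw [this]; exact Submodule.sub_mem _ hw ha₁L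
    intro hbot
    have hw₁S : w₁ ∈ S := (hmemS w₁).2 ⟨hw₁L, hw₁⟩
    rw [hbot, Submodule.mem_bot] at hw₁S
    apply hwA; rw [hwa, hw₁S, zero_add]; exact ha₁
  have hR : ∀ x ∈ W, Q x ≠ 0 → ∀ s ∈ S, s - ((Q x)⁻¹ * B Q x s) • x ∈ S := by
    intro x hx hQx s hs
    obtain ⟨hsL, hsW⟩ := (hmemS s).1 hs
    obtain ⟨y, hy⟩ : ∃ y : ι → F, y = e' + Q x • f' := ⟨_, rfl⟩
    have hyA : y ∈ A := by rw [hy]; exact A.add_mem he'A (A.smul_mem _ hf'A)
    have hQy : Q y = Q x := by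
      rw [hy, Q_add, Q_smul, hQe', hQf', B_smul_right', he'f']; ring
    have huy : B Q u y = 0 := by rw [hy, B_add_right', B_smul_right', hue', huf']; ring
    have hQy0 : Q y ≠ 0 := by rw [hQy]; exact hQx
    have hg := c.refl_mem hx hyA hQx hQy0 hQy.symm
    have hyu : B Q y u = 0 := by rw [B_comm]; exact huy
    have hxu : B Q x u = 0 := c.orth x hx u huA
    have hgu : mt Q (reflO Q x hQx * reflO Q y hQy0) *ᵥ u = u := by
      rw [mt_mul_mulVec, reflO_mulVec y, hyu, mul_zero, zero_smul, sub_zero, reflO_mulVec x, hxu,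
        mul_zero, zero_smul, sub_zero]
    have hys : B Q y s = 0 := by rw [B_comm]; exact c.orth s hsW y hyA
    have hgs : mt Q (reflO Q x hQx * reflO Q y hQy0) *ᵥ s = s - ((Q x)⁻¹ * B Q x s) • x := by
      rw [mt_mul_mulVec, reflO_mulVec y, hys, mul_zero, zero_smul, sub_zero, reflO_mulVec x]
    have hmem := Lsub_map_fix hQu hg hgu hsL
    rw [hgs] at hmem
    exact (hmemS _).2 ⟨hmem, W.sub_mem hsW (W.smul_mem _ hx)⟩
  have hSg : ∀ e ∈ W, ∀ v ∈ W, Q e = 0 → B Q e v = 0 → ∀ s ∈ S,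
      s + B Q e s • v - B Q v s • e - (Q v * B Q e s) • e ∈ S := by
    intro e he v hv hQe hev s hs
    obtain ⟨hsL, hsW⟩ := (hmemS s).1 hs
    have hg := c.sieg_W he hv hQe hev
    have heu : B Q e u = 0 := c.orth e he u huA
    have hvu : B Q v u = 0 := c.orth v hv u huA
    have hgu : mt Q (siegO Q e v hQe hev) *ᵥ u = u := by
      rw [siegO_mulVec, heu, hvu]; simp
    have hmem := Lsub_map_fix hQu hg hgu hsL
    rw [siegO_mulVec] at hmem
    exact (hmemS _).2 ⟨hmem,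
      W.sub_mem (W.sub_mem (W.add_mem hsW (W.smul_mem _ hv)) (W.smul_mem _ he)) (W.smul_mem _ he)⟩
  have hWS := c.hirr S hSW hS0 hR hSg
  refine ⟨hQu, fun v hv => ?_⟩
  obtain ⟨w₁, hw₁, a₁, ha₁, hva⟩ := c.dec v
  have hw₁L : w₁ ∈ Lsub M u hQu := ((hmemS w₁).1 (hWS hw₁)).1
  have hua₁ : B Q u a₁ = 0 := by
    have h2 : B Q u w₁ = 0 := by rw [B_comm]; exact c.orth w₁ hw₁ u huA
    have h1 := hv
    rw [hva, B_add_right', h2, zero_add] at h1; exact h1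
  have ha₁L := c.mem_Lsub_of_A huA hQu ha₁ hua₁
  have hvL : v ∈ Lsub M u hQu := by rw [hva]; exact Submodule.add_mem _ hw₁L ha₁L
  have h1 : B Q u ((1 : F) • v) = 0 := by rw [one_smul]; exact hv
  have := hvL.2 1 h1
  rw [siegO_congr Q hQu hv hQu h1 rfl (one_smul F v).symm]; exact this

/-- Phase 2: one full Siegel family at a singular point of `A` gives all of `Ω`. -/
theorem Ctx.phase2 (c : Ctx Q W A M) (fr : Frame3 Q)
    (hgen : ∀ (H : Subgroup ↥(Cfsg.isometryGroup F ⇑Q)),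
      (∀ (v : ι → F) (hv : Q v ≠ 0), reflO Q v hv ∈ H) → ∀ g, g ∈ H)
    (h5 : 5 ≤ finrank F A) (hW0 : W ≠ ⊥) {u : ι → F} (huA : u ∈ A) (hu0 : u ≠ 0)
    (hu : u ∈ S1 M) : Cfsg.Omega F ⇑Q ≤ M := by
  obtain ⟨hQu, huS⟩ := hu
  obtain ⟨w₁, hw₁W, hw₁0⟩ := Submodule.exists_mem_ne_zero_of_ne_bot hW0
  obtain ⟨u', e', f', hu'A, he'A, hf'A, hQu', huu', hQe', hQf', he'f', hue', hu'e', huf', hu'f'⟩ :=
    exists_frame_in Q c.hQ A c.ndA h5 u huA hu0 hQu
  have huw₁ : B Q u w₁ = 0 := by rw [B_comm]; exact c.orth w₁ hw₁W u huA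
  have hg₁ := huS w₁ huw₁
  have hw₁A : w₁ ∉ A := fun h => hw₁0 (c.inter hw₁W h)
  have key : ∀ x ∈ A, x ≠ 0 → Q x = 0 → B Q u x = 0 → B Q u' x = 0 → x ∈ S1 M := by
    intro x hxA hx0 hQx hux hu'x
    have hw₁x : B Q w₁ x = 0 := c.orth w₁ hw₁W x hxA
    have hgx : mt Q (siegO Q u w₁ hQu huw₁) *ᵥ x = x := by
      rw [siegO_mulVec, hux, hw₁x]; simp
    have hu'L : u' ∈ Lsub M x hQx :=
      c.mem_Lsub_of_A hxA hQx hu'A (by rw [B_comm]; exact hu'x)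
    have hmem := Lsub_map_fix hQx hg₁ hgx hu'L
    apply c.lemB h5 hxA hx0 hQx hmem
    have hw₁u' : B Q w₁ u' = 0 := c.orth w₁ hw₁W u' hu'A
    rw [siegO_mulVec, huu', hw₁u']
    intro hmemA
    apply hw₁A
    have h2 : w₁ = (u' + (1 : F) • w₁ - (0 : F) • u - (Q w₁ * 1) • u) - u' + (Q w₁) • u := by
      simp only [one_smul, zero_smul, sub_zero, mul_one]
      abel
    rw [h2]
    exact A.add_mem (A.sub_mem hmemA hu'A) (A.smul_mem _ huA)
  have he'0 : e' ≠ 0 := by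
    rintro rfl
    have : B Q (0 : ι → F) f' = 0 := QuadraticMap.polar_zero_left _ _
    rw [this] at he'f'
    exact zero_ne_one he'f'
  have hf'0 : f' ≠ 0 := by
    rintro rfl
    have : B Q e' (0 : ι → F) = 0 := QuadraticMap.polar_zero_right _ _
    rw [this] at he'f'
    exact zero_ne_one he'f'
  have he' := key e' he'A he'0 hQe' hue' hu'e'
  have hf' := key f' hf'A hf'0 hQf' huf' hu'f'
  rw [Omega_eq_S c.hQ fr hgen]
  unfold S
  rw [Subgroup.closure_le]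
  rintro g ⟨a, b, ha, hab, rfl⟩
  exact (S1_all c.hQ fr M he' hf' (by rw [he'f']; exact one_ne_zero) ha).2 b hab

end Cfsg.Agent.Helper28.NDM
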