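import Mathlib
import Cfsg.Prelude.Def_GeometricClasses
import Cfsg.Agent.Helper28.NondegMax2

set_option autoImplicit false
set_option linter.unusedSectionVars false

/-! Irreducibility of a nondegenerate space under its Siegel transformations, and the first
phase of the maximality argument. -/

namespace Cfsg.Agent.Helper28.NDM

open Matrix Module Cfsg.Agent.Helper28.Sg Cfsg.Agent.Helper28.OM Cfsg.Agent.Helper28.Spin
  Cfsg.Agent.Helper28.OFN Cfsg.Agent.Helper28.PDN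

variable {F : Type*} [Field F] [Fintype F] {ι : Type} [Fintype ι] [DecidableEq ι]
  {Q : QuadraticForm F (ι → F)}

/-- a nonzero subspace of `A` invariant under the Siegel transformations of `A` is `A` -/
theorem irr_sieg (hQ : (QuadraticMap.polarBilin Q).Nondegenerate) (A : Submodule F (ι → F))
    (hA : NDon Q A) (h5 : 5 ≤ finrank F A) (Z : Submodule F (ι → F)) (hZA : Z ≤ A) (hZ0 : Z ≠ ⊥)
    (hinv : ∀ a ∈ A, ∀ b ∈ A, Q a = 0 → B Q a b = 0 → ∀ z ∈ Z,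
      z + B Q a z • b - B Q b z • a - (Q b * B Q a z) • a ∈ Z) : A ≤ Z := by
  obtain ⟨p, hpZ, hp0⟩ := Submodule.exists_mem_ne_zero_of_ne_bot hZ0
  have hpA := hZA hpZ
  have step1 : ∀ a ∈ A, Q a = 0 → B Q a p = 0 → a ∈ Z := by
    intro a haA hQa hap
    by_cases ha0 : a = 0
    · rw [ha0]; exact Z.zero_mem
    by_cases hpa : ∃ k : F, p = k • a
    · obtain ⟨k, hk⟩ := hpa
      have hk0 : k ≠ 0 := by rintro rfl; rw [zero_smul] at hk; exact hp0 hk
      have : a = k⁻¹ • p := by rw [hk, smul_smul, inv_mul_cancel₀ hk0, one_smul]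
      rw [this]; exact Z.smul_mem _ hpZ
    obtain ⟨a', ha'A, hQa', haa'⟩ := exists_partner_in Q A hA.geo a haA ha0 hQa
    obtain ⟨p₂, hp₂⟩ : ∃ p₂ : ι → F, p₂ = p - B Q p a' • a := ⟨_, rfl⟩
    have hp₂0 : p₂ ≠ 0 := by
      intro h; apply hpa; exact ⟨B Q p a', by rw [hp₂] at h; exact sub_eq_zero.mp h⟩
    have haa : B Q a a = 0 := by rw [B_self, hQa, mul_zero]
    have hp₂mem : p₂ ∈ perpIn Q A {a, a'} := by
      rw [mem_perpIn]
      refine ⟨by rw [hp₂]; exact A.sub_mem hpA (A.smul_mem _ haA), ?_⟩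
      intro v hv
      rcases hv with rfl | hv
      · rw [hp₂, B_sub_right', B_smul_right', hap, haa]; ring
      · rw [Set.mem_singleton_iff] at hv; subst hv
        rw [hp₂, B_sub_right', B_smul_right', B_comm Q v a, haa', B_comm Q v p]; ring
    obtain ⟨b, hb, hne⟩ := NDon_perp_hyp Q A hA a a' haA ha'A hQa hQa' haa' p₂ hp₂mem hp₂0
    rw [mem_perpIn] at hb
    obtain ⟨hbA, hbT⟩ := hb
    have hab : B Q a b = 0 := hbT a (by simp)
    have hbp : B Q b p ≠ 0 := by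
      have hpe : p = p₂ + B Q p a' • a := by rw [hp₂]; abel
      rw [hpe, B_add_right', B_smul_right', B_comm Q b a, hab, mul_zero, add_zero, B_comm]
      exact hne
    have h1 := hinv a haA b hbA hQa hab p hpZ
    rw [hap] at h1
    have h2 : B Q b p • a ∈ Z := by
      have h3 := Z.sub_mem hpZ h1
      have h4 : p - (p + (0 : F) • b - B Q b p • a - (Q b * 0) • a) = B Q b p • a := by
        simp only [zero_smul, add_zero, mul_zero, sub_zero]
        abel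
      rw [h4] at h3; exact h3
    have : a = (B Q b p)⁻¹ • (B Q b p • a) := by rw [smul_smul, inv_mul_cancel₀ hbp, one_smul]
    rw [this]; exact Z.smul_mem _ h2
  have step2 : ∀ a ∈ A, Q a = 0 → B Q a p ≠ 0 → a ∈ Z := by
    intro a haA hQa hap
    obtain ⟨k, hk⟩ : ∃ k : F, k = B Q a p := ⟨_, rfl⟩
    obtain ⟨p₁, hp₁⟩ : ∃ p₁ : ι → F, p₁ = k⁻¹ • p := ⟨_, rfl⟩
    obtain ⟨p', hp'⟩ : ∃ p' : ι → F, p' = p₁ - Q p₁ • a := ⟨_, rfl⟩
    have hk0 : k ≠ 0 := by rw [hk]; exact hap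
    have hap₁ : B Q a p₁ = 1 := by rw [hp₁, B_smul_right', ← hk, inv_mul_cancel₀ hk0]
    have haa : B Q a a = 0 := by rw [B_self, hQa, mul_zero]
    have hQp' : Q p' = 0 := by
      rw [hp', Q_sub', Q_smul, hQa, B_smul_right', B_comm Q p₁ a, hap₁]; ring
    have hap' : B Q a p' = 1 := by rw [hp', B_sub_right', B_smul_right', haa, hap₁]; ring
    have hp'A : p' ∈ A := by
      rw [hp', hp₁]; exact A.sub_mem (A.smul_mem _ hpA) (A.smul_mem _ haA)
    obtain ⟨e, f, heA, hfA, hQe, hQf, hef, hae, hp'e, haf, hp'f⟩ :=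
      exists_hyp_perp_pair Q hQ A hA h5 a p' haA hp'A hQa hQp' hap'
    have hpe : p = k • (p' + Q p₁ • a) := by
      rw [hp', sub_add_cancel, hp₁, smul_smul, mul_inv_cancel₀ hk0, one_smul]
    have hep : B Q e p = 0 := by
      rw [hpe, B_smul_right', B_add_right', B_smul_right', B_comm Q e p', hp'e, B_comm Q e a, hae]
      ring
    have hfp : B Q f p = 0 := by
      rw [hpe, B_smul_right', B_add_right', B_smul_right', B_comm Q f p', hp'f, B_comm Q f a, haf]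
      ring
    have heZ := step1 e heA hQe hep
    have hfZ := step1 f hfA hQf hfp
    have hbZ : e + f ∈ Z := Z.add_mem heZ hfZ
    have hab : B Q a (e + f) = 0 := by rw [B_add_right', hae, haf, add_zero]
    have hQb : Q (e + f) = 1 := by rw [Q_add, hQe, hQf, hef]; ring
    have hbp : B Q (e + f) p = 0 := by rw [B_add_left', hep, hfp, add_zero]
    have h1 := hinv a haA (e + f) (A.add_mem heA hfA) hQa hab p hpZ
    rw [hbp, hQb, ← hk] at h1
    have h2 : k • a ∈ Z := by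
      have h3 := Z.sub_mem (Z.add_mem hpZ (Z.smul_mem k hbZ)) h1
      have h4 : p + k • (e + f) - (p + k • (e + f) - (0 : F) • a - (1 * k) • a) = k • a := by
        simp only [zero_smul, sub_zero, one_mul]
        abel
      rw [h4] at h3; exact h3
    have : a = k⁻¹ • (k • a) := by rw [smul_smul, inv_mul_cancel₀ hk0, one_smul]
    rw [this]; exact Z.smul_mem _ h2
  apply le_of_singular_mem Q A hA (by omega) Z
  intro v hvA hQv
  by_cases h : B Q v p = 0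
  · exact step1 v hvA hQv h
  · exact step2 v hvA hQv h

variable {W A : Submodule F (ι → F)} {M : Subgroup ↥(Cfsg.isometryGroup F ⇑Q)}

theorem triple_card_le [DecidableEq (ι → F)] (x y z : ι → F) :
    ({x, y, z} : Finset (ι → F)).card ≤ 3 := Finset.card_le_three

/-- a vector of `V` perpendicular to all singular vectors of `A` has no `A`-component -/
theorem Ctx.mem_W_of_perp_singular (c : Ctx Q W A M) (h3 : 3 ≤ finrank F A) {p : ι → F}
    (hp : ∀ a ∈ A, Q a = 0 → B Q a p = 0) : p ∈ W := by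
  obtain ⟨w₁, hw₁, a₁, ha₁, hpa⟩ := c.dec p
  have h1 : ∀ a ∈ A, Q a = 0 → a ∈ perpIn Q ⊤ {a₁} := by
    intro a ha hQa
    rw [mem_perpIn]
    refine ⟨Submodule.mem_top, ?_⟩
    intro v hv
    rw [Set.mem_singleton_iff] at hv
    subst hv
    have h2 := hp a ha hQa
    have h3 : B Q a w₁ = 0 := by rw [B_comm]; exact c.orth w₁ hw₁ a ha
    rw [hpa, B_add_right', h3, zero_add] at h2
    rw [B_comm]; exact h2
  have h2 := le_of_singular_mem Q A c.ndA h3 _ h1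
  have ha₁0 : a₁ = 0 := by
    by_contra h0
    obtain ⟨y, hy, hne⟩ := c.ndA a₁ ha₁ h0
    have := h2 hy
    rw [mem_perpIn] at this
    exact hne (this.2 a₁ rfl)
  rw [hpa, ha₁0, add_zero]; exact hw₁

/-- Phase 1: some singular point of `A` carries a full Siegel family in `M`. -/
theorem Ctx.goal1 (c : Ctx Q W A M) (h7 : 7 ≤ finrank F A) {g₀ : ↥(Cfsg.isometryGroup F ⇑Q)}
    (hg₀ : g₀ ∈ M) (hgA : ¬ ∀ a ∈ A, mt Q g₀ *ᵥ a ∈ A)
    (hns : ¬ ∀ a ∈ A, mt Q g₀⁻¹ *ᵥ a ∈ W) : ∃ u ∈ A, u ≠ 0 ∧ u ∈ S1 M := by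
  classical
  have hex : ∃ a ∈ A, ∃ b ∈ A, ∃ (hQa : Q a = 0) (hab : B Q a b = 0), ∃ p : ι → F,
      mt Q g₀ *ᵥ p ∈ A ∧ mt Q g₀ *ᵥ (mt Q (siegO Q a b hQa hab) *ᵥ p) ∉ A := by
    by_contra hcon
    push Not at hcon
    obtain ⟨P, hP⟩ : ∃ P : Submodule F (ι → F), P = A.comap (Matrix.mulVecLin (mt Q g₀)) :=
      ⟨_, rfl⟩
    have hmemP : ∀ x, x ∈ P ↔ mt Q g₀ *ᵥ x ∈ A := by
      intro x; rw [hP, Submodule.mem_comap, Matrix.mulVecLin_apply]
    obtain ⟨Z, hZ⟩ : ∃ Z : Submodule F (ι → F), Z = A ⊓ P := ⟨_, rfl⟩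
    have hmemZ : ∀ x, x ∈ Z ↔ x ∈ A ∧ mt Q g₀ *ᵥ x ∈ A := by
      intro x; rw [hZ, Submodule.mem_inf, hmemP]
    have hZA : Z ≤ A := by rw [hZ]; exact inf_le_left
    have hinv : ∀ a ∈ A, ∀ b ∈ A, Q a = 0 → B Q a b = 0 → ∀ z ∈ Z,
        z + B Q a z • b - B Q b z • a - (Q b * B Q a z) • a ∈ Z := by
      intro a ha b hb hQa hab z hz
      obtain ⟨hzA, hzP⟩ := (hmemZ z).1 hz
      rw [hmemZ]
      refine ⟨A.sub_mem (A.sub_mem (A.add_mem hzA (A.smul_mem _ hb)) (A.smul_mem _ ha))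
        (A.smul_mem _ ha), ?_⟩
      have := hcon a ha b hb hQa hab z hzP
      rw [siegO_mulVec] at this
      exact this
    by_cases hZ0 : Z = ⊥
    · apply hns
      have key : ∀ p : ι → F, mt Q g₀ *ᵥ p ∈ A → p ∈ W := by
        intro p hp
        apply c.mem_W_of_perp_singular (by omega)
        intro a ha hQa
        by_cases ha0 : a = 0
        · rw [ha0]; exact QuadraticMap.polar_zero_left _ _
        obtain ⟨a', e, f, ha'A, heA, hfA, hQa', haa', hQe, hQf, hef, hae, ha'e, haf, ha'f⟩ :=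
          exists_frame_in Q c.hQ A c.ndA (by omega) a ha ha0 hQa
        obtain ⟨d, hd⟩ : ∃ d : ι → F, d = B Q a p • e - B Q e p • a := ⟨_, rfl⟩
        have hdA : d ∈ A := by rw [hd]; exact A.sub_mem (A.smul_mem _ heA) (A.smul_mem _ ha)
        have hdP : mt Q g₀ *ᵥ d ∈ A := by
          have h1 := hcon a ha e heA hQa hae p hp
          rw [siegO_mulVec, hQe] at h1
          have h2 : d = (p + B Q a p • e - B Q e p • a - (0 * B Q a p) • a) - p := by
            rw [hd, zero_mul, zero_smul, sub_zero]; abel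
          rw [h2, Matrix.mulVec_sub]
          exact A.sub_mem h1 hp
        have hdZ : d ∈ Z := (hmemZ d).2 ⟨hdA, hdP⟩
        rw [hZ0, Submodule.mem_bot] at hdZ
        have h3 : B Q d f = B Q a p := by
          rw [hd, B_sub_left', B_smul_left', B_smul_left', hef, haf]; ring
        rw [← h3, hdZ]
        exact QuadraticMap.polar_zero_left _ _
      intro a ha
      apply key
      rw [mt_mulVec_inv]; exact ha
    · apply hgA
      have hAZ := irr_sieg c.hQ A c.ndA (by omega) Z hZA hZ0 hinv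
      intro a ha
      exact ((hmemZ a).1 (hAZ ha)).2
  obtain ⟨a, ha, b, hb, hQa, hab, p, hpA, hpn⟩ := hex
  obtain ⟨y, hy⟩ : ∃ y : ι → F, y = mt Q g₀ *ᵥ p := ⟨_, rfl⟩
  have hT := c.sieg_A ha hb hQa hab
  have hu' : Q (mt Q g₀ *ᵥ a) = 0 := by rw [isom_apply]; exact hQa
  have huv' : B Q (mt Q g₀ *ᵥ a) (mt Q g₀ *ᵥ b) = 0 := by rw [B_isom]; exact hab
  have hconj := siegO_conj Q g₀ hQa hab hu' huv'
  have hg₁ : siegO Q (mt Q g₀ *ᵥ a) (mt Q g₀ *ᵥ b) hu' huv' ∈ M := by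
    rw [← hconj]
    exact M.mul_mem (M.mul_mem hg₀ hT) (M.inv_mem hg₀)
  have hg₁y : mt Q (siegO Q (mt Q g₀ *ᵥ a) (mt Q g₀ *ᵥ b) hu' huv') *ᵥ y =
      mt Q g₀ *ᵥ (mt Q (siegO Q a b hQa hab) *ᵥ p) := by
    rw [← hconj, hy, mt_mul_mulVec, mt_mul_mulVec, mt_inv_mulVec]
  have hfin := finrank_perpIn Q c.hQ A
    ({mt Q g₀ *ᵥ a, mt Q g₀ *ᵥ b, y} : Finset (ι → F))
  have hcard := triple_card_le (mt Q g₀ *ᵥ a) (mt Q g₀ *ᵥ b) y
  have hcoe : (({mt Q g₀ *ᵥ a, mt Q g₀ *ᵥ b, y} : Finset (ι → F)) : Set (ι → F)) =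
      {mt Q g₀ *ᵥ a, mt Q g₀ *ᵥ b, y} := by simp
  rw [hcoe] at hfin
  obtain ⟨u, hu, hu0, hQu⟩ := exists_singular_in Q
    (perpIn Q A {mt Q g₀ *ᵥ a, mt Q g₀ *ᵥ b, y}) (by omega)
  rw [mem_perpIn] at hu
  obtain ⟨huA, huT⟩ := hu
  have h1 : B Q (mt Q g₀ *ᵥ a) u = 0 := huT _ (by simp)
  have h2 : B Q (mt Q g₀ *ᵥ b) u = 0 := huT _ (by simp)
  have h3 : B Q y u = 0 := huT _ (by simp)
  have hg₁u : mt Q (siegO Q (mt Q g₀ *ᵥ a) (mt Q g₀ *ᵥ b) hu' huv') *ᵥ u = u := by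
    rw [siegO_mulVec, h1, h2]; simp
  have hyL : y ∈ Lsub M u hQu :=
    c.mem_Lsub_of_A huA hQu (by rw [hy]; exact hpA) (by rw [B_comm]; exact h3)
  have hmem := Lsub_map_fix hQu hg₁ hg₁u hyL
  rw [hg₁y] at hmem
  exact ⟨u, huA, hu0, c.lemB (by omega) huA hu0 hQu hmem hpn⟩

/-- the core theorem: `M` contains `Ω` -/
theorem Ctx.main (c : Ctx Q W A M) (fr : Frame3 Q)
    (hgen : ∀ (H : Subgroup ↥(Cfsg.isometryGroup F ⇑Q)),
      (∀ (v : ι → F) (hv : Q v ≠ 0), reflO Q v hv ∈ H) → ∀ g, g ∈ H)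
    (h7 : 7 ≤ finrank F A) (hW0 : W ≠ ⊥) {g₀ : ↥(Cfsg.isometryGroup F ⇑Q)}
    (hg₀ : g₀ ∈ M) (hgA : ¬ ∀ a ∈ A, mt Q g₀ *ᵥ a ∈ A)
    (hns : ¬ ∀ a ∈ A, mt Q g₀⁻¹ *ᵥ a ∈ W) : Cfsg.Omega F ⇑Q ≤ M := by
  obtain ⟨u, huA, hu0, hu⟩ := c.goal1 h7 hg₀ hgA hns
  exact c.phase2 fr hgen (by omega) hW0 huA hu0 hu

end Cfsg.Agent.Helper28.NDM
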