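import Mathlib
import Cfsg.Prelude.Def_GeometricClasses
import Cfsg.Agent.Helper28.NondegMax1

set_option autoImplicit false
set_option linter.unusedSectionVars false

/-! A nondegenerate quadratic space is irreducible under its reflections and Siegel
transformations, except for the hyperbolic planes over the fields with at most three elements. -/

namespace Cfsg.Agent.Helper28.NDM

open Matrix Module Cfsg.Agent.Helper28.Sg Cfsg.Agent.Helper28.OM Cfsg.Agent.Helper28.Spin
  Cfsg.Agent.Helper28.OFN Cfsg.Agent.Helper28.PDN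

variable {F : Type*} [Field F] [Fintype F] {ι : Type} [Fintype ι] [DecidableEq ι]
  {Q : QuadraticForm F (ι → F)}

/-- `W` is a hyperbolic plane -/
def HypPlane (Q : QuadraticForm F (ι → F)) (W : Submodule F (ι → F)) : Prop :=
  ∃ e f : ι → F, e ∈ W ∧ f ∈ W ∧ Q e = 0 ∧ Q f = 0 ∧ B Q e f = 1 ∧
    ∀ w ∈ W, B Q e w = 0 → B Q f w = 0 → w = 0

theorem finrank_perpIn_sub (hQ : (QuadraticMap.polarBilin Q).Nondegenerate)
    (N S : Submodule F (ι → F)) :
    finrank F N ≤ finrank F (perpIn Q N (S : Set (ι → F))) + finrank F S := by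
  unfold perpIn
  rw [Submodule.span_eq]
  set X := LinearMap.BilinForm.orthogonal (QuadraticMap.polarBilin Q) S with hX
  have h1 := LinearMap.BilinForm.finrank_orthogonal hQ S
  have h3 := Submodule.finrank_sup_add_finrank_inf_eq N X
  have h4 : finrank F ↥(N ⊔ X) ≤ finrank F (ι → F) := Submodule.finrank_le _
  have h5 : finrank F S ≤ finrank F (ι → F) := Submodule.finrank_le _
  rw [← hX] at h1
  omega

theorem card_le_three_of {F : Type*} [Field F] [Fintype F] (h : ∀ x : F, x = 0 ∨ x = 1 ∨ x = -1) :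
    Fintype.card F ≤ 3 := by
  classical
  have hsub : (Finset.univ : Finset F) ⊆ {0, 1, -1} := by
    intro x _
    rcases h x with h | h | h <;> simp [h]
  calc Fintype.card F = (Finset.univ : Finset F).card := rfl
    _ ≤ ({0, 1, -1} : Finset F).card := Finset.card_le_card hsub
    _ ≤ 3 := Finset.card_le_three

theorem irr_refl (hQ : (QuadraticMap.polarBilin Q).Nondegenerate) (W : Submodule F (ι → F))
    (hW : NDon Q W) (hex : ¬ (Fintype.card F ≤ 3 ∧ HypPlane Q W))
    (S : Submodule F (ι → F)) (hSW : S ≤ W) (hS0 : S ≠ ⊥)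
    (hR : ∀ x ∈ W, Q x ≠ 0 → ∀ s ∈ S, s - ((Q x)⁻¹ * B Q x s) • x ∈ S)
    (hSg : ∀ e ∈ W, ∀ v ∈ W, Q e = 0 → B Q e v = 0 → ∀ s ∈ S,
      s + B Q e s • v - B Q v s • e - (Q v * B Q e s) • e ∈ S) : W ≤ S := by
  classical
  by_contra hWS
  obtain ⟨z₀, hz₀W, hz₀S⟩ := SetLike.not_le_iff_exists.mp hWS
  obtain ⟨s₀, hs₀S, hs₀0⟩ := Submodule.exists_mem_ne_zero_of_ne_bot hS0
  obtain ⟨T, hT⟩ : ∃ T : Submodule F (ι → F), T = perpIn Q W (S : Set (ι → F)) := ⟨_, rfl⟩
  have hmemT : ∀ x, x ∈ T ↔ x ∈ W ∧ ∀ s ∈ S, B Q s x = 0 := by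
    intro x; rw [hT, mem_perpIn]; rfl
  -- nonsingular vectors lie in S ∪ T
  have F1 : ∀ x ∈ W, x ∉ S → x ∉ T → Q x = 0 := by
    intro x hx hxS hxT
    by_contra hQx
    apply hxT
    rw [hmemT]
    refine ⟨hx, fun s hs => ?_⟩
    by_contra hne
    apply hxS
    have h1 := hR x hx hQx s hs
    have h2 : ((Q x)⁻¹ * B Q x s) • x ∈ S := by
      have := S.sub_mem hs h1
      rwa [sub_sub_cancel] at this
    have hk : (Q x)⁻¹ * B Q x s ≠ 0 :=
      mul_ne_zero (inv_ne_zero hQx) (by rw [B_comm]; exact hne)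
    have : x = ((Q x)⁻¹ * B Q x s)⁻¹ • (((Q x)⁻¹ * B Q x s) • x) := by
      rw [smul_smul, inv_mul_cancel₀ hk, one_smul]
    rw [this]; exact S.smul_mem _ h2
  by_cases hST : ∃ r, r ∈ S ∧ r ∈ T ∧ r ≠ 0
  · -- Case A
    obtain ⟨r, hrS, hrT, hr0⟩ := hST
    obtain ⟨hrW, hrperp⟩ := (hmemT r).1 hrT
    have hrr : B Q r r = 0 := hrperp r hrS
    obtain ⟨y, hyW, hry⟩ := hW r hrW hr0
    have hsing : ∀ y' ∈ W, B Q r y' ≠ 0 → Q y' = 0 := by
      intro y' hy' hne
      apply F1 y' hy'
      · intro hS'; apply hne; rw [B_comm]; exact hrperp y' hS'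
      · intro hT'; exact hne (((hmemT y').1 hT').2 r hrS)
    have hQy : Q y = 0 := hsing y hyW hry
    have hyy : B Q y y = 0 := by rw [B_self, hQy, mul_zero]
    have hl : ∀ l : F, l * l * Q r + l * B Q y r = 0 := by
      intro l
      have h1 : Q (y + l • r) = 0 := by
        apply hsing _ (W.add_mem hyW (W.smul_mem _ hrW))
        rw [B_add_right', B_smul_right', hrr, mul_zero, add_zero]; exact hry
      rw [Q_add, Q_smul, hQy, B_smul_right'] at h1
      rw [← h1]; ring
    have h1 := hl 1
    rw [one_mul, one_mul, one_mul] at h1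
    have hyr : B Q y r ≠ 0 := by rw [B_comm]; exact hry
    have h01 : ∀ l : F, l = 0 ∨ l = 1 := by
      intro l
      by_contra hcon
      push Not at hcon
      obtain ⟨hl0, hl1⟩ := hcon
      have h2 := hl l
      have h3 : B Q y r = - Q r := by linear_combination h1
      rw [h3] at h2
      have h4 : l * (l - 1) * Q r = 0 := by linear_combination h2
      have h5 : Q r = 0 := by
        rcases mul_eq_zero.mp h4 with h | h
        · rcases mul_eq_zero.mp h with h | h
          · exact absurd h hl0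
          · exact absurd (sub_eq_zero.mp h) hl1
        · exact h
      apply hyr
      rw [h3, h5, neg_zero]
    have hcard : Fintype.card F ≤ 3 := by
      apply card_le_three_of
      intro x
      rcases h01 x with h | h
      · left; exact h
      · right; left; exact h
    have hyr1 : B Q y r = 1 := by
      rcases h01 (B Q y r) with h | h
      · exact absurd h hyr
      · exact h
    have hry1 : B Q r y = 1 := by rw [B_comm]; exact hyr1
    have hperp : ∀ x ∈ W, B Q r x = 0 → B Q y x = 0 → Q x = 0 := by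
      intro x hx hrx hyx
      have h2 : Q (y + x) = 0 := by
        apply hsing _ (W.add_mem hyW hx)
        rw [B_add_right', hrx, add_zero]; exact hry
      rw [Q_add, hQy, hyx] at h2
      rw [← h2]; ring
    apply hex
    refine ⟨hcard, y, y + r, hyW, W.add_mem hyW hrW, hQy, ?_, ?_, ?_⟩
    · have := hsing (y + (1 : F) • r) (W.add_mem hyW (W.smul_mem _ hrW)) (by
        rw [B_add_right', B_smul_right', hrr, mul_zero, add_zero]; exact hry)
      rwa [one_smul] at this
    · rw [B_add_right', hyy, hyr1, zero_add]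
    · intro w hw hyw hyrw
      have hrw : B Q r w = 0 := by
        rw [B_add_left', hyw, zero_add] at hyrw; exact hyrw
      by_contra hw0
      obtain ⟨a, haW, hwa⟩ := hW w hw hw0
      obtain ⟨a', ha'⟩ : ∃ a' : ι → F, a' = a - B Q a y • r - B Q a r • y := ⟨_, rfl⟩
      have ha'W : a' ∈ W := by
        rw [ha']; exact W.sub_mem (W.sub_mem haW (W.smul_mem _ hrW)) (W.smul_mem _ hyW)
      have hra' : B Q r a' = 0 := by
        rw [ha', B_sub_right', B_sub_right', B_smul_right', B_smul_right', hrr, hry1,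
          B_comm Q r a]; ring
      have hya' : B Q y a' = 0 := by
        rw [ha', B_sub_right', B_sub_right', B_smul_right', B_smul_right', hyy, hyr1,
          B_comm Q y a]; ring
      have hwa' : B Q w a' = B Q w a := by
        rw [ha', B_sub_right', B_sub_right', B_smul_right', B_smul_right', B_comm Q w r, hrw,
          B_comm Q w y, hyw]; ring
      have hQw : Q w = 0 := hperp w hw hrw hyw
      have hQa' : Q a' = 0 := hperp a' ha'W hra' hya'
      have hQwa' : Q (w + a') = 0 := by
        apply hperp _ (W.add_mem hw ha'W)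
        · rw [B_add_right', hrw, hra', add_zero]
        · rw [B_add_right', hyw, hya', add_zero]
      rw [Q_add, hQw, hQa', hwa'] at hQwa'
      apply hwa
      rw [← hQwa']; ring
  · -- Case B
    push Not at hST
    have hST' : ∀ r, r ∈ S → r ∈ T → r = 0 := hST
    have hTbot : T ≠ ⊥ := by
      intro hbot
      have h1 := finrank_perpIn_sub hQ W S
      rw [← hT, hbot, finrank_bot] at h1
      have h2 : finrank F S < finrank F W :=
        Submodule.finrank_lt_finrank_of_lt (lt_of_le_of_ne hSW (fun h => hWS (h ▸ le_refl _)))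
      omega
    obtain ⟨t₀, ht₀T, ht₀0⟩ := Submodule.exists_mem_ne_zero_of_ne_bot hTbot
    obtain ⟨ht₀W, ht₀perp⟩ := (hmemT t₀).1 ht₀T
    have hs₀W := hSW hs₀S
    have hsum : ∀ s ∈ S, s ≠ 0 → ∀ t ∈ T, t ≠ 0 → Q s + Q t = 0 := by
      intro s hs hs0 t ht ht0
      have htW := ((hmemT t).1 ht).1
      have hst : B Q s t = 0 := ((hmemT t).1 ht).2 s hs
      have h1 : Q (s + t) = 0 := by
        apply F1 _ (W.add_mem (hSW hs) htW)
        · intro h
          apply ht0
          apply hST' t _ ht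
          have := S.sub_mem h hs
          rwa [add_sub_cancel_left] at this
        · intro h
          apply hs0
          apply hST' s hs
          have := T.sub_mem h ht
          rwa [add_sub_cancel_right] at this
      rw [Q_add, hst, add_zero] at h1
      exact h1
    obtain ⟨c, hc⟩ : ∃ c : F, c = Q s₀ := ⟨_, rfl⟩
    have hQt₀ : Q t₀ = -c := by
      have := hsum s₀ hs₀S hs₀0 t₀ ht₀T ht₀0
      rw [hc]; linear_combination this
    have hQS : ∀ s ∈ S, s ≠ 0 → Q s = c := by
      intro s hs hs0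
      have := hsum s hs hs0 t₀ ht₀T ht₀0
      rw [hQt₀] at this
      linear_combination this
    have hQT : ∀ t ∈ T, t ≠ 0 → Q t = -c := by
      intro t ht ht0
      have := hsum s₀ hs₀S hs₀0 t ht ht0
      rw [← hc] at this
      linear_combination this
    obtain ⟨s₂, hs₂S, hs₂s₀⟩ : ∃ s₂ ∈ S, B Q s₂ s₀ ≠ 0 := by
      by_contra hcon
      push Not at hcon
      exact hs₀0 (hST' s₀ hs₀S ((hmemT s₀).2 ⟨hs₀W, hcon⟩))
    have hs₀t₀ : B Q s₀ t₀ = 0 := ht₀perp s₀ hs₀S
    have ht₀s₀ : B Q t₀ s₀ = 0 := by rw [B_comm]; exact hs₀t₀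
    have hQe : Q (s₀ + t₀) = 0 := by
      rw [Q_add, hs₀t₀, add_zero]; exact hsum s₀ hs₀S hs₀0 t₀ ht₀T ht₀0
    by_cases h2 : (2 : F) = 0
    · -- characteristic two: use a Siegel transformation
      have hs₀s₀ : B Q s₀ s₀ = 0 := by rw [B_self, h2, zero_mul]
      obtain ⟨x, hxW, ht₀x⟩ := hW t₀ ht₀W ht₀0
      have hs₀s₂ : B Q s₀ s₂ ≠ 0 := by rw [B_comm]; exact hs₂s₀
      obtain ⟨μ, hμ⟩ : ∃ μ : F, μ = (- B Q t₀ x - B Q s₀ x) * (B Q s₀ s₂)⁻¹ := ⟨_, rfl⟩
      obtain ⟨v, hv⟩ : ∃ v : ι → F, v = x + μ • s₂ := ⟨_, rfl⟩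
      have hvW : v ∈ W := by rw [hv]; exact W.add_mem hxW (W.smul_mem _ (hSW hs₂S))
      have ht₀s₂ : B Q t₀ s₂ = 0 := by rw [B_comm]; exact ht₀perp s₂ hs₂S
      have hμ' : μ * B Q s₀ s₂ = - B Q t₀ x - B Q s₀ x := by
        rw [hμ, mul_assoc, inv_mul_cancel₀ hs₀s₂, mul_one]
      have hs₀v : B Q s₀ v = - B Q t₀ x := by
        rw [hv, B_add_right', B_smul_right', hμ']; ring
      have ht₀v : B Q t₀ v = B Q t₀ x := by
        rw [hv, B_add_right', B_smul_right', ht₀s₂]; ring
      have hev : B Q (s₀ + t₀) v = 0 := by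
        rw [B_add_left', hs₀v, ht₀v]; ring
      have hes₀ : B Q (s₀ + t₀) s₀ = 0 := by
        rw [B_add_left', hs₀s₀, ht₀s₀, add_zero]
      have h1 := hSg (s₀ + t₀) (W.add_mem hs₀W ht₀W) v hvW hQe hev s₀ hs₀S
      rw [hes₀, zero_smul, add_zero, mul_zero, zero_smul, sub_zero] at h1
      have hvs₀ : B Q v s₀ ≠ 0 := by
        rw [B_comm, hs₀v]; exact neg_ne_zero.mpr ht₀x
      have h3 : B Q v s₀ • (s₀ + t₀) ∈ S := by
        have := S.sub_mem hs₀S h1
        rwa [sub_sub_cancel] at this
      have h4 : s₀ + t₀ ∈ S := by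
        have : s₀ + t₀ = (B Q v s₀)⁻¹ • (B Q v s₀ • (s₀ + t₀)) := by
          rw [smul_smul, inv_mul_cancel₀ hvs₀, one_smul]
        rw [this]; exact S.smul_mem _ h3
      apply ht₀0
      apply hST' t₀ _ ht₀T
      have := S.sub_mem h4 hs₀S
      rwa [add_sub_cancel_left] at this
    · -- odd characteristic
      have hc0 : c ≠ 0 := by
        intro hc0
        apply hs₀0
        apply hST' s₀ hs₀S
        rw [hmemT]
        refine ⟨hs₀W, fun s hs => ?_⟩
        have hQ0 : ∀ s ∈ S, Q s = 0 := by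
          intro s hs
          by_cases hs0 : s = 0
          · rw [hs0]; exact map_zero _
          · rw [hQS s hs hs0, hc0]
        have h1 := hQ0 (s + s₀) (S.add_mem hs hs₀S)
        rw [Q_add, hQ0 s hs, hQ0 s₀ hs₀S] at h1
        rw [← h1]; ring
      have hlam : ∀ l : F, l ≠ 0 → l * l = 1 := by
        intro l hl
        have h1 := hQS (l • s₀) (S.smul_mem _ hs₀S) (smul_ne_zero hl hs₀0)
        rw [Q_smul, ← hc] at h1
        have h3 : (l * l - 1) * c = 0 := by linear_combination h1
        rcases mul_eq_zero.mp h3 with h | h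
        · exact sub_eq_zero.mp h
        · exact absurd h hc0
      have hcard : Fintype.card F ≤ 3 := by
        apply card_le_three_of
        intro x
        by_cases hx : x = 0
        · left; exact hx
        · right
          have h1 := hlam x hx
          have h3 : (x - 1) * (x + 1) = 0 := by linear_combination h1
          rcases mul_eq_zero.mp h3 with h | h
          · left; exact sub_eq_zero.mp h
          · right; exact eq_neg_of_add_eq_zero_left h
      have h2c : 2 * c ≠ 0 := mul_ne_zero h2 hc0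
      have h4c : 4 * c ≠ 0 := by
        have : (4 : F) = 2 * 2 := by norm_num
        rw [this]; exact mul_ne_zero (mul_ne_zero h2 h2) hc0
      -- S and T are lines
      have three : ∀ (N : Submodule F (ι → F)) (n₀ : ι → F) (d : F), n₀ ∈ N → d ≠ 0 →
          Q n₀ = d → (∀ n ∈ N, n ≠ 0 → Q n = d) → ∀ n ∈ N, n = 0 ∨ n = n₀ ∨ n = -n₀ := by
        intro N n₀ d hn₀ hd hQn₀ hN n hn
        by_contra hcon
        push Not at hcon
        obtain ⟨hn0, hn1, hn2⟩ := hcon
        have h1 := hN n hn hn0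
        have h3 := hN (n + n₀) (N.add_mem hn hn₀) (fun h => hn2 (eq_neg_of_add_eq_zero_left h))
        have h4 := hN (n - n₀) (N.sub_mem hn hn₀) (fun h => hn1 (sub_eq_zero.mp h))
        rw [Q_add, h1, hQn₀] at h3
        rw [Q_sub', h1, hQn₀] at h4
        have h5 : 2 * d = 0 := by linear_combination h3 + h4
        rcases mul_eq_zero.mp h5 with h | h
        · exact h2 h
        · exact hd h
      have hS3 := three S s₀ c hs₀S hc0 hc.symm hQS
      have hT3 := three T t₀ (-c) ht₀T (neg_ne_zero.mpr hc0) hQt₀ hQT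
      have hs₀s₀ : B Q s₀ s₀ = 2 * c := by rw [B_self, ← hc]
      have ht₀t₀ : B Q t₀ t₀ = -(2 * c) := by rw [B_self, hQt₀]; ring
      apply hex
      refine ⟨hcard, s₀ + t₀, (4 * c)⁻¹ • (s₀ - t₀), W.add_mem hs₀W ht₀W,
        W.smul_mem _ (W.sub_mem hs₀W ht₀W), hQe, ?_, ?_, ?_⟩
      · rw [Q_smul, Q_sub', ← hc, hQt₀, hs₀t₀]; ring
      · rw [B_smul_right', B_add_left', B_sub_right', B_sub_right', hs₀s₀, hs₀t₀, ht₀s₀, ht₀t₀]
        have h6 : 2 * c - 0 + (0 - -(2 * c)) = 4 * c := by ring
        rw [h6, inv_mul_cancel₀ h4c]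
      · intro w hw h1 h3
        rw [B_add_left'] at h1
        rw [B_smul_left', B_sub_left'] at h3
        have h3' : B Q s₀ w - B Q t₀ w = 0 := by
          rcases mul_eq_zero.mp h3 with h | h
          · exact absurd h (inv_ne_zero h4c)
          · exact h
        have h5 : 2 * B Q s₀ w = 0 := by linear_combination h1 + h3'
        have hs₀w : B Q s₀ w = 0 := by
          rcases mul_eq_zero.mp h5 with h | h
          · exact absurd h h2
          · exact h
        have ht₀w : B Q t₀ w = 0 := by linear_combination h1 - hs₀w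
        have hwT : w ∈ T := by
          rw [hmemT]
          refine ⟨hw, fun s hs => ?_⟩
          rcases hS3 s hs with h | h | h
          · rw [h]; exact QuadraticMap.polar_zero_left _ _
          · rw [h]; exact hs₀w
          · rw [h]
            have : B Q (-s₀) w = - B Q s₀ w := QuadraticMap.polar_neg_left _ _ _
            rw [this, hs₀w, neg_zero]
        rcases hT3 w hwT with h | h | h
        · exact h
        · exfalso
          rw [h, ht₀t₀] at ht₀w
          exact h2c (neg_eq_zero.mp ht₀w)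
        · exfalso
          rw [h, B_neg_right, ht₀t₀, neg_neg] at ht₀w
          exact h2c ht₀w

end Cfsg.Agent.Helper28.NDM
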