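import Mathlib
import Cfsg.Prelude.Def_GeometricClasses
import Cfsg.Agent.Helper28.NondegMax3
import Cfsg.Agent.Helper28.NondegMax4

set_option autoImplicit false
set_option linter.unusedSectionVars false

/-! Maximality in `Ω(Q)` of the stabiliser of a nondegenerate subspace `W` with `V = W ⊥ A`,
`dim A ≥ 7`, no isometry mapping `A` into `W`. -/

namespace Cfsg.Agent.Helper28.NDM

open Matrix Module Cfsg.Agent.Helper28.Sg Cfsg.Agent.Helper28.OM Cfsg.Agent.Helper28.Spin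
  Cfsg.Agent.Helper28.OFN Cfsg.Agent.Helper28.PDN

variable {F : Type*} [Field F] [Fintype F] {ι : Type} [Fintype ι] [DecidableEq ι]
  {Q : QuadraticForm F (ι → F)} {W A : Submodule F (ι → F)}

/-- vectors perpendicular to `W` lie in `A` -/
theorem mem_A_of_perp (orth : ∀ w ∈ W, ∀ a ∈ A, B Q w a = 0)
    (dec : ∀ x : ι → F, ∃ w ∈ W, ∃ a ∈ A, x = w + a) (ndW : NDon Q W) {x : ι → F}
    (hx : ∀ w ∈ W, B Q w x = 0) : x ∈ A := by
  obtain ⟨w₁, hw₁, a₁, ha₁, hxa⟩ := dec x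
  have hw₁0 : w₁ = 0 := by
    by_contra h0
    obtain ⟨y, hy, hne⟩ := ndW w₁ hw₁ h0
    apply hne
    have h1 := hx y hy
    rw [hxa, B_add_right', orth y hy a₁ ha₁, add_zero] at h1
    rw [B_comm]; exact h1
  rw [hxa, hw₁0, zero_add]; exact ha₁

theorem stab_transfer (orth : ∀ w ∈ W, ∀ a ∈ A, B Q w a = 0)
    (dec : ∀ x : ι → F, ∃ w ∈ W, ∃ a ∈ A, x = w + a) (ndW : NDon Q W)
    (g : ↥(Cfsg.isometryGroup F ⇑Q)) (h : ∀ w ∈ W, mt Q g *ᵥ w ∈ W) :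
    ∀ a ∈ A, mt Q g *ᵥ a ∈ A := by
  have hst := Cfsg.Agent.Helper28.NM.mem_subspaceStabilizer_of_le W (g : GL ι F) h
  rw [Cfsg.Agent.Helper28.NM.mem_subspaceStabilizer_iff] at hst
  intro a ha
  apply mem_A_of_perp orth dec ndW
  intro w hw
  have h1 : mt Q g⁻¹ *ᵥ w ∈ W := by
    rw [hst]
    show mt Q g *ᵥ (mt Q g⁻¹ *ᵥ w) ∈ W
    rw [mt_mulVec_inv]; exact hw
  have h2 : B Q w (mt Q g *ᵥ a) = B Q (mt Q g⁻¹ *ᵥ w) a := by
    rw [← B_isom Q g (mt Q g⁻¹ *ᵥ w) a, mt_mulVec_inv]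
  rw [h2]; exact orth _ h1 a ha

theorem orth_symm (orth : ∀ w ∈ W, ∀ a ∈ A, B Q w a = 0) : ∀ a ∈ A, ∀ w ∈ W, B Q a w = 0 :=
  fun a ha w hw => by rw [B_comm]; exact orth w hw a ha

theorem dec_symm (dec : ∀ x : ι → F, ∃ w ∈ W, ∃ a ∈ A, x = w + a) :
    ∀ x : ι → F, ∃ a ∈ A, ∃ w ∈ W, x = a + w := by
  intro x
  obtain ⟨w, hw, a, ha, h⟩ := dec x
  exact ⟨a, ha, w, hw, by rw [h, add_comm]⟩

/-- no injective map sends a bigger space into a smaller one -/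
theorem not_maps_of_finrank_lt (hlt : finrank F W < finrank F A)
    (g : ↥(Cfsg.isometryGroup F ⇑Q)) : ¬ ∀ a ∈ A, mt Q g *ᵥ a ∈ W := by
  intro h
  have hinj : Function.Injective (Matrix.mulVecLin (mt Q g)) := by
    intro x y hxy
    have h2 : ∀ v : ι → F, mt Q g⁻¹ *ᵥ (mt Q g *ᵥ v) = v := fun v => mt_inv_mulVec Q g v
    rw [← h2 x, ← h2 y]
    congr 1
  have hle : A.map (Matrix.mulVecLin (mt Q g)) ≤ W := by
    rintro _ ⟨a, ha, rfl⟩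
    exact h a ha
  have h1 := Submodule.finrank_mono hle
  have h2 : finrank F (A.map (Matrix.mulVecLin (mt Q g))) = finrank F A :=
    LinearEquiv.finrank_eq (Submodule.equivMapOfInjective _ hinj A).symm
  omega

theorem nondeg_stab_maximal (hQ : (QuadraticMap.polarBilin Q).Nondegenerate) (fr : Frame3 Q)
    (hgen : ∀ (H : Subgroup ↥(Cfsg.isometryGroup F ⇑Q)),
      (∀ (v : ι → F) (hv : Q v ≠ 0), reflO Q v hv ∈ H) → ∀ g, g ∈ H)
    (hcard : Fintype.card F ≠ 2 ∨ Fintype.card ι ≠ 4)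
    (W A : Submodule F (ι → F)) (orth : ∀ w ∈ W, ∀ a ∈ A, B Q w a = 0)
    (dec : ∀ x : ι → F, ∃ w ∈ W, ∃ a ∈ A, x = w + a) (ndW : NDon Q W) (ndA : NDon Q A)
    (h7 : 7 ≤ finrank F A) (hW0 : W ≠ ⊥) (hexW : ¬ (Fintype.card F ≤ 3 ∧ HypPlane Q W))
    (hns : ∀ g : ↥(Cfsg.isometryGroup F ⇑Q), ¬ ∀ a ∈ A, mt Q g *ᵥ a ∈ W) :
    Cfsg.Geo.IsMaximalIn (Cfsg.Geo.omegaGL ⇑Q)
      (Cfsg.Geo.subspaceStabilizer W ⊓ Cfsg.Geo.omegaGL ⇑Q) := by
  classical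
  refine ⟨lt_of_le_of_ne inf_le_right ?_, ?_⟩
  · intro heq
    obtain ⟨w₁, hw₁W, hw₁0⟩ := Submodule.exists_mem_ne_zero_of_ne_bot hW0
    obtain ⟨u, huA, hu0, hQu⟩ := exists_singular_in Q A (by omega)
    obtain ⟨u', hu'A, hQu', huu'⟩ := exists_partner_in Q A ndA.geo u huA hu0 hQu
    have huw₁ : B Q u w₁ = 0 := by rw [B_comm]; exact orth w₁ hw₁W u huA
    obtain ⟨s, hs⟩ : ∃ s, s = siegO Q u w₁ hQu huw₁ := ⟨_, rfl⟩
    have hsΩ : s ∈ Cfsg.Omega F ⇑Q := by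
      rw [hs]; exact S_le_Omega hQ fr (siegO_mem_S Q _ _ _ _)
    have h1 : ((s : ↥(Cfsg.isometryGroup F ⇑Q)) : GL ι F) ∈
        Cfsg.Geo.subspaceStabilizer W ⊓ Cfsg.Geo.omegaGL ⇑Q := by
      rw [heq]
      exact (Cfsg.Agent.Helper28.NM.mem_omegaGL_iff Q _).mpr ⟨s, hsΩ, rfl⟩
    have h2 : ∀ w ∈ W, mt Q s *ᵥ w ∈ W := fun w hw => (h1.1 w).mp hw
    have h3 := stab_transfer orth dec ndW s h2 u' hu'A
    rw [hs, siegO_mulVec, huu', orth w₁ hw₁W u' hu'A] at h3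
    have hw₁A : w₁ ∈ A := by
      have h4 : w₁ = (u' + (1 : F) • w₁ - (0 : F) • u - (Q w₁ * 1) • u) - u' + Q w₁ • u := by
        simp only [one_smul, zero_smul, sub_zero, mul_one]
        abel
      rw [h4]; exact A.add_mem (A.sub_mem h3 hu'A) (A.smul_mem _ huA)
    obtain ⟨y, hy, hne⟩ := ndW w₁ hw₁W hw₁0
    exact hne (by rw [B_comm]; exact orth y hy w₁ hw₁A)
  · intro M hPM hMS
    by_cases hMP : M ≤ Cfsg.Geo.subspaceStabilizer W ⊓ Cfsg.Geo.omegaGL ⇑Q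
    · left; exact le_antisymm hMP hPM
    right
    refine le_antisymm hMS ?_
    obtain ⟨g, hgM, hgP⟩ := SetLike.not_le_iff_exists.mp hMP
    have hgW : g ∉ Cfsg.Geo.subspaceStabilizer W := fun h => hgP ⟨h, hMS hgM⟩
    obtain ⟨g₀, hg₀Ω, rfl⟩ := (Cfsg.Agent.Helper28.NM.mem_omegaGL_iff Q _).mp (hMS hgM)
    have hgW' : ¬ ∀ w ∈ W, mt Q g₀ *ᵥ w ∈ W :=
      fun h => hgW (Cfsg.Agent.Helper28.NM.mem_subspaceStabilizer_of_le _ _ h)
    have hgA : ¬ ∀ a ∈ A, mt Q g₀ *ᵥ a ∈ A := by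
      intro h
      apply hgW'
      exact stab_transfer (orth_symm orth) (dec_symm dec) ndA g₀ h
    have ctx : Ctx Q W A (M.comap (Cfsg.isometryGroup F ⇑Q).subtype) :=
      { hQ := hQ
        orth := orth
        dec := dec
        ndW := ndW
        ndA := ndA
        siegΩ := fun u v hu huv => S_le_Omega hQ fr (siegO_mem_S Q _ _ _ _)
        reflΩ := fun x y hx hy hxy =>
          Cfsg.Agent.Helper28.OC.reflO_mul_mem_Omega Q hQ hcard x y hx hy hxy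
        hP := by
          intro h hhΩ hhW
          apply hPM
          exact ⟨Cfsg.Agent.Helper28.NM.mem_subspaceStabilizer_of_le _ _ hhW,
            (Cfsg.Agent.Helper28.NM.mem_omegaGL_iff Q _).mpr ⟨h, hhΩ, rfl⟩⟩
        hirr := fun S hSW hS0 hR hSg => irr_refl hQ W ndW hexW S hSW hS0 hR hSg }
    have key : Cfsg.Omega F ⇑Q ≤ M.comap (Cfsg.isometryGroup F ⇑Q).subtype :=
      ctx.main fr hgen h7 hW0 (g₀ := g₀) hgM hgA (hns g₀⁻¹)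
    unfold Cfsg.Geo.omegaGL
    rw [Subgroup.map_le_iff_le_comap]
    exact key

/-- the stabilisers of `W` and of its complement `A` in `Ω` coincide -/
theorem stab_inf_eq (orth : ∀ w ∈ W, ∀ a ∈ A, B Q w a = 0)
    (dec : ∀ x : ι → F, ∃ w ∈ W, ∃ a ∈ A, x = w + a) (ndW : NDon Q W) (ndA : NDon Q A) :
    Cfsg.Geo.subspaceStabilizer A ⊓ Cfsg.Geo.omegaGL ⇑Q =
      Cfsg.Geo.subspaceStabilizer W ⊓ Cfsg.Geo.omegaGL ⇑Q := by
  apply le_antisymm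
  · rintro g ⟨hgA, hgΩ⟩
    refine ⟨?_, hgΩ⟩
    obtain ⟨g₀, hg₀Ω, rfl⟩ := (Cfsg.Agent.Helper28.NM.mem_omegaGL_iff Q _).mp hgΩ
    apply Cfsg.Agent.Helper28.NM.mem_subspaceStabilizer_of_le
    exact stab_transfer (orth_symm orth) (dec_symm dec) ndA g₀ (fun a ha => (hgA a).mp ha)
  · rintro g ⟨hgW, hgΩ⟩
    refine ⟨?_, hgΩ⟩
    obtain ⟨g₀, hg₀Ω, rfl⟩ := (Cfsg.Agent.Helper28.NM.mem_omegaGL_iff Q _).mp hgΩ
    apply Cfsg.Agent.Helper28.NM.mem_subspaceStabilizer_of_le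
    exact stab_transfer orth dec ndW g₀ (fun w hw => (hgW w).mp hw)

end Cfsg.Agent.Helper28.NDM
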