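import Mathlib
import Cfsg.Prelude.Def_GeometricClasses
import Cfsg.Agent.Helper28.NondegMax5

set_option autoImplicit false
set_option linter.unusedSectionVars false

/-! Statement-level form of the maximality of stabilisers of nondegenerate subspaces. -/

namespace Cfsg.Agent.Helper28.NDM

open Matrix Module Cfsg.Agent.Helper28.Sg Cfsg.Agent.Helper28.OM Cfsg.Agent.Helper28.Spin
  Cfsg.Agent.Helper28.OFN Cfsg.Agent.Helper28.PDN

variable {F : Type*} [Field F] [Fintype F] {ι : Type} [Fintype ι] [DecidableEq ι]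
  {Q : QuadraticForm F (ι → F)}

/-- the orthogonal complement -/
def perpC (Q : QuadraticForm F (ι → F)) (W : Submodule F (ι → F)) : Submodule F (ι → F) :=
  LinearMap.BilinForm.orthogonal (QuadraticMap.polarBilin Q) W

theorem mem_perpC (W : Submodule F (ι → F)) (x : ι → F) :
    x ∈ perpC Q W ↔ ∀ w ∈ W, B Q w x = 0 := Iff.rfl

theorem perpC_orth (W : Submodule F (ι → F)) : ∀ w ∈ W, ∀ a ∈ perpC Q W, B Q w a = 0 :=
  fun w hw a ha => ha w hw

theorem perpC_dec (W : Submodule F (ι → F)) (ndW : NDon Q W) :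
    ∀ x : ι → F, ∃ w ∈ W, ∃ a ∈ perpC Q W, x = w + a := by
  have hBr : (QuadraticMap.polarBilin Q).IsRefl := by
    intro x y h
    have h' : B Q x y = 0 := h
    show B Q y x = 0
    rw [B_comm]; exact h'
  have hrn : (LinearMap.BilinForm.restrict (QuadraticMap.polarBilin Q) W).Nondegenerate := by
    constructor
    · intro x hx
      by_contra hx0
      obtain ⟨u, hu, h⟩ := ndW x x.2 (fun h => hx0 (Subtype.ext h))
      exact h (hx ⟨u, hu⟩)
    · intro x hx
      by_contra hx0
      obtain ⟨u, hu, h⟩ := ndW x x.2 (fun h => hx0 (Subtype.ext h))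
      apply h
      have h' : B Q u x = 0 := hx ⟨u, hu⟩
      rw [B_comm]; exact h'
  have hcompl : IsCompl W (perpC Q W) :=
    LinearMap.BilinForm.isCompl_orthogonal_of_restrict_nondegenerate hBr hrn
  intro v
  have hv : v ∈ W ⊔ perpC Q W := by rw [hcompl.sup_eq_top]; trivial
  obtain ⟨a, ha, b, hb, rfl⟩ := Submodule.mem_sup.mp hv
  exact ⟨a, ha, b, hb, rfl⟩

theorem perpC_nd (hQ : (QuadraticMap.polarBilin Q).Nondegenerate) (W : Submodule F (ι → F))
    (ndW : NDon Q W) : NDon Q (perpC Q W) := by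
  intro b hb hb0
  obtain ⟨y, hy⟩ : ∃ y, B Q b y ≠ 0 := by
    by_contra hcon
    push Not at hcon
    exact hb0 (hQ.1 b hcon)
  obtain ⟨w', hw', a', ha', rfl⟩ := perpC_dec W ndW y
  refine ⟨a', ha', ?_⟩
  have h0 : B Q w' b = 0 := hb w' hw'
  rw [B_add_right', B_comm Q b w', h0, zero_add] at hy
  exact hy

/-- dimensions of an orthogonal decomposition add up -/
theorem finrank_add_of_dec {W A : Submodule F (ι → F)} (orth : ∀ w ∈ W, ∀ a ∈ A, B Q w a = 0)
    (dec : ∀ x : ι → F, ∃ w ∈ W, ∃ a ∈ A, x = w + a) (ndW : NDon Q W) :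
    finrank F W + finrank F A = Fintype.card ι := by
  have h1 := Submodule.finrank_sup_add_finrank_inf_eq W A
  have h2 : W ⊔ A = ⊤ := by
    rw [eq_top_iff]
    intro x _
    obtain ⟨w, hw, a, ha, rfl⟩ := dec x
    exact Submodule.add_mem_sup hw ha
  have h3 : W ⊓ A = ⊥ := by
    rw [eq_bot_iff]
    rintro x ⟨hxW, hxA⟩
    rw [Submodule.mem_bot]
    by_contra h0
    obtain ⟨y, hy, hne⟩ := ndW x hxW h0
    exact hne (by rw [B_comm]; exact orth y hy x hxA)
  rw [h2, h3, finrank_top, finrank_bot, Module.finrank_fintype_fun_eq_card] at h1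
  omega

theorem HypPlane.finrank_eq {W : Submodule F (ι → F)} (h : HypPlane Q W) : finrank F W = 2 := by
  obtain ⟨e, f, heW, hfW, hQe, hQf, hef, hperp⟩ := h
  have hfe : B Q f e = 1 := by rw [B_comm]; exact hef
  have hee : B Q e e = 0 := by rw [B_self, hQe, mul_zero]
  have hff : B Q f f = 0 := by rw [B_self, hQf, mul_zero]
  have hli : LinearIndependent F ![e, f] := by
    rw [LinearIndependent.pair_iff]
    intro s t hst
    have h1 : B Q (s • e + t • f) f = 0 := by rw [hst]; simp [B]
    have h2 : B Q (s • e + t • f) e = 0 := by rw [hst]; simp [B]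
    rw [B_add_left', B_smul_left', B_smul_left', hef, hff] at h1
    rw [B_add_left', B_smul_left', B_smul_left', hee, hfe] at h2
    simp only [mul_one, mul_zero, add_zero, zero_add] at h1 h2
    exact ⟨h1, h2⟩
  have hspan : Submodule.span F ({e, f} : Set (ι → F)) = W := by
    apply le_antisymm
    · rw [Submodule.span_le]
      intro v hv
      rcases hv with rfl | hv
      · exact heW
      · rw [Set.mem_singleton_iff] at hv
        rw [hv]; exact hfW
    · intro w hw
      have h0 : w - B Q f w • e - B Q e w • f = 0 := by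
        apply hperp _ (W.sub_mem (W.sub_mem hw (W.smul_mem _ heW)) (W.smul_mem _ hfW))
        · rw [B_sub_right', B_sub_right', B_smul_right', B_smul_right', hee, hef]; ring
        · rw [B_sub_right', B_sub_right', B_smul_right', B_smul_right', hfe, hff]; ring
      have h1 : w = B Q f w • e + B Q e w • f := by
        rw [sub_sub, sub_eq_zero] at h0; exact h0
      rw [h1]
      exact Submodule.add_mem _
        (Submodule.smul_mem _ _ (Submodule.subset_span (by simp)))
        (Submodule.smul_mem _ _ (Submodule.subset_span (by simp)))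
  have := finrank_span_eq_card hli
  rw [Fintype.card_fin] at this
  have hr : Set.range ![e, f] = {e, f} := by
    ext v
    simp only [Matrix.range_cons, Matrix.range_empty, Set.union_empty, Set.union_singleton,
      Set.mem_insert_iff, Set.mem_singleton_iff]
    exact or_comm
  rw [hr, hspan] at this
  exact this

theorem HypPlane.plus {W : Submodule F (ι → F)} (h : HypPlane Q W) :
    Cfsg.Geo.IsPlusTypeOn ⇑Q W := by
  have hdim := h.finrank_eq
  obtain ⟨e, f, heW, hfW, hQe, hQf, hef, hperp⟩ := h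
  have he0 : e ≠ 0 := by
    rintro rfl
    have : B Q (0 : ι → F) f = 0 := QuadraticMap.polar_zero_left _ _
    rw [this] at hef
    exact zero_ne_one hef
  refine ⟨Submodule.span F {e}, ?_, ?_, ?_⟩
  · rw [Submodule.span_le]
    intro v hv
    rw [Set.mem_singleton_iff] at hv
    rw [hv]; exact heW
  · intro w hw
    obtain ⟨c, rfl⟩ := Submodule.mem_span_singleton.mp hw
    rw [Q_smul, hQe, mul_zero]
  · rw [finrank_span_singleton he0, hdim]

/-- **Maximality of the stabiliser of a nondegenerate subspace**, abstract form. -/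
theorem stab_maximal_gen (hQ : (QuadraticMap.polarBilin Q).Nondegenerate)
    (hn : 13 ≤ Fintype.card ι) (W A : Submodule F (ι → F))
    (orth : ∀ w ∈ W, ∀ a ∈ A, B Q w a = 0)
    (dec : ∀ x : ι → F, ∃ w ∈ W, ∃ a ∈ A, x = w + a) (ndW : NDon Q W) (ndA : NDon Q A)
    (hW0 : W ≠ ⊥) (hA0 : A ≠ ⊥) (hexW : ¬ (Fintype.card F ≤ 3 ∧ HypPlane Q W))
    (hexA : ¬ (Fintype.card F ≤ 3 ∧ HypPlane Q A))
    (hns : finrank F W = finrank F A →
      ∀ g : ↥(Cfsg.isometryGroup F ⇑Q), ¬ ∀ a ∈ A, mt Q g *ᵥ a ∈ W) :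
    Cfsg.Geo.IsMaximalIn (Cfsg.Geo.omegaGL ⇑Q)
      (Cfsg.Geo.subspaceStabilizer W ⊓ Cfsg.Geo.omegaGL ⇑Q) := by
  obtain ⟨fr⟩ := exists_frame3 hQ (by omega)
  have hgen := hgen_all (F := F) hQ (by omega : Fintype.card ι ≠ 4)
  have hcard : Fintype.card F ≠ 2 ∨ Fintype.card ι ≠ 4 := Or.inr (by omega)
  have hsum := finrank_add_of_dec orth dec ndW
  rcases lt_trichotomy (finrank F W) (finrank F A) with hlt | heq | hgt
  · exact nondeg_stab_maximal hQ fr hgen hcard W A orth dec ndW ndA (by omega) hW0 hexW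
      (not_maps_of_finrank_lt hlt)
  · exact nondeg_stab_maximal hQ fr hgen hcard W A orth dec ndW ndA (by omega) hW0 hexW
      (hns heq)
  · rw [← stab_inf_eq orth dec ndW ndA]
    exact nondeg_stab_maximal hQ fr hgen hcard A W (orth_symm orth) (dec_symm dec) ndA ndW
      (by omega) hA0 hexA (not_maps_of_finrank_lt hgt)

end Cfsg.Agent.Helper28.NDM
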