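import Mathlib
import Cfsg.Prelude.Def_GeometricClasses
import Cfsg.Agent.Helper28.NondegMax6

set_option autoImplicit false
set_option linter.unusedSectionVars false

/-! Statement-level form of the maximality of stabilisers of nondegenerate subspaces. -/

namespace Cfsg.Agent.Helper28.NDM

open Matrix Module Cfsg.Agent.Helper28.Sg Cfsg.Agent.Helper28.OM Cfsg.Agent.Helper28.Spin
  Cfsg.Agent.Helper28.OFN Cfsg.Agent.Helper28.PDN

variable {F : Type*} [Field F] [Fintype F] {ι : Type} [Fintype ι] [DecidableEq ι]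

theorem stab_maximal_fun (Q : QuadraticForm F (ι → F))
    (hQ : (QuadraticMap.polarBilin Q).Nondegenerate)
    (hn : 13 ≤ Fintype.card ι) (W : Submodule F (ι → F)) (hW0 : W ≠ ⊥) (hW1 : W ≠ ⊤)
    (hW : Cfsg.Geo.IsNondegenerateOn (QuadraticMap.polar ⇑Q) W)
    (hexW : ¬ (Fintype.card F ≤ 3 ∧ finrank F W = 2 ∧ Cfsg.Geo.IsPlusTypeOn ⇑Q W))
    (hexA : ∀ A : Submodule F (ι → F), (∀ x, x ∈ A ↔ ∀ w ∈ W, QuadraticMap.polar ⇑Q w x = 0) →
      finrank F W + finrank F A = Fintype.card ι →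
      Cfsg.Geo.IsNondegenerateOn (QuadraticMap.polar ⇑Q) A →
      ¬ (Fintype.card F ≤ 3 ∧ finrank F A = 2 ∧ Cfsg.Geo.IsPlusTypeOn ⇑Q A))
    (hns : ∀ A : Submodule F (ι → F), (∀ x, x ∈ A ↔ ∀ w ∈ W, QuadraticMap.polar ⇑Q w x = 0) →
      finrank F W + finrank F A = Fintype.card ι →
      finrank F W = finrank F A → Cfsg.Geo.IsNondegenerateOn (QuadraticMap.polar ⇑Q) A →
      ∀ g : ↥(Cfsg.isometryGroup F ⇑Q), ¬ ∀ a ∈ A, mt Q g *ᵥ a ∈ W) :
    Cfsg.Geo.IsMaximalIn (Cfsg.Geo.omegaGL ⇑Q)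
      (Cfsg.Geo.subspaceStabilizer W ⊓ Cfsg.Geo.omegaGL ⇑Q) := by
  have ndW := NDon.of_geo Q hW
  have ndA := perpC_nd hQ W ndW
  have orth := perpC_orth (Q := Q) W
  have dec := perpC_dec W ndW
  have hsum := finrank_add_of_dec orth dec ndW
  have hA0 : perpC Q W ≠ ⊥ := by
    intro h
    rw [h, finrank_bot, add_zero] at hsum
    apply hW1
    apply Submodule.eq_top_of_finrank_eq
    rw [hsum, Module.finrank_fintype_fun_eq_card]
  refine stab_maximal_gen hQ hn W (perpC Q W) orth dec ndW ndA hW0 hA0 ?_ ?_ ?_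
  · rintro ⟨hc, hp⟩
    exact hexW ⟨hc, hp.finrank_eq, hp.plus⟩
  · rintro ⟨hc, hp⟩
    exact hexA (perpC Q W) (fun x => Iff.rfl) hsum (NDon.geo Q ndA) ⟨hc, hp.finrank_eq, hp.plus⟩
  · intro heq
    exact hns (perpC Q W) (fun x => Iff.rfl) hsum heq (NDon.geo Q ndA)

end Cfsg.Agent.Helper28.NDM
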