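import Mathlib
import Cfsg.Prelude.Def_GeometricClasses
import Cfsg.Agent.Helper28.NondegMax6

set_option autoImplicit false
set_option linter.unusedSectionVars false
set_option linter.style.haveILetI false

/-! Anti-isometries of even-dimensional nondegenerate quadratic spaces over finite fields, and:
the orthogonal sum of two isometric even-dimensional spaces is of plus type. -/

namespace Cfsg.Agent.Helper28.NDM

open Matrix Module Cfsg.Agent.Helper28.Sg Cfsg.Agent.Helper28.OM Cfsg.Agent.Helper28.Spin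
  Cfsg.Agent.Helper28.OFN Cfsg.Agent.Helper28.PDN

variable {F : Type*} [Field F] [Fintype F] {ι : Type} [Fintype ι] [DecidableEq ι]
  {Q : QuadraticForm F (ι → F)}

open Polynomial in
theorem exists_st {F : Type*} [Field F] [Fintype F] (h2 : (2 : F) ≠ 0) (α β : F) (hα : α ≠ 0)
    (hβ : β ≠ 0) : ∃ s t : F, α * (s * s) + β * (t * t) = -α := by
  have hodd : Fintype.card F % 2 = 1 := by
    by_contra h
    have h0 : Fintype.card F % 2 = 0 := by omega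
    rw [← FiniteField.even_card_iff_char_two] at h0
    haveI : CharP F 2 := by rw [← h0]; exact ringChar.charP F
    exact h2 (CharTwo.two_eq_zero)
  have hf : degree (C α * X ^ 2 + C α : F[X]) = 2 := by
    compute_degree!
  have hg : degree (C β * X ^ 2 : F[X]) = 2 := by
    compute_degree!
  obtain ⟨a, b, hab⟩ := FiniteField.exists_root_sum_quadratic hf hg hodd
  refine ⟨a, b, ?_⟩
  simp only [eval_add, eval_mul, eval_C, eval_pow, eval_X] at hab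
  linear_combination hab

/-- a nonzero nondegenerate space contains a nonsingular vector -/
theorem exists_nonsing (N : Submodule F (ι → F)) (hN : NDon Q N) (hN0 : N ≠ ⊥) :
    ∃ v ∈ N, Q v ≠ 0 := by
  obtain ⟨x, hxN, hx0⟩ := Submodule.exists_mem_ne_zero_of_ne_bot hN0
  obtain ⟨y, hyN, hxy⟩ := hN x hxN hx0
  by_cases hQx : Q x = 0
  · by_cases hQy : Q y = 0
    · refine ⟨x + y, N.add_mem hxN hyN, ?_⟩
      rw [Q_add, hQx, hQy, zero_add, zero_add]; exact hxy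
    · exact ⟨y, hyN, hQy⟩
  · exact ⟨x, hxN, hQx⟩

/-- the perpendicular of a non-isotropic vector inside a nondegenerate space -/
theorem NDon_perp_ns (N : Submodule F (ι → F)) (hN : NDon Q N) (v : ι → F) (hvN : v ∈ N)
    (hvv : B Q v v ≠ 0) : NDon Q (perpIn Q N {v}) := by
  intro x hx hx0
  rw [mem_perpIn] at hx
  obtain ⟨hxN, hxT⟩ := hx
  have hvx : B Q v x = 0 := hxT v rfl
  obtain ⟨y, hyN, hxy⟩ := hN x hxN hx0
  refine ⟨y - ((B Q v v)⁻¹ * B Q v y) • v, ?_, ?_⟩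
  · rw [mem_perpIn]
    refine ⟨N.sub_mem hyN (N.smul_mem _ hvN), ?_⟩
    intro u hu
    rw [Set.mem_singleton_iff] at hu
    subst hu
    rw [B_sub_right', B_smul_right', mul_assoc, mul_comm, mul_assoc, mul_inv_cancel₀ hvv]
    ring
  · rw [B_sub_right', B_smul_right', B_comm Q x v, hvx, mul_zero, sub_zero]
    exact hxy

theorem finrank_perp_ns (N : Submodule F (ι → F)) (v : ι → F) (hvN : v ∈ N)
    (hvv : B Q v v ≠ 0) : finrank F (perpIn Q N {v}) + 1 = finrank F N := by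
  have hv0 : v ≠ 0 := by
    rintro rfl
    exact hvv (QuadraticMap.polar_zero_left _ _)
  have h1 := Submodule.finrank_sup_add_finrank_inf_eq (perpIn Q N {v}) (Submodule.span F {v})
  have h2 : perpIn Q N {v} ⊔ Submodule.span F {v} = N := by
    apply le_antisymm
    · apply sup_le
      · intro x hx
        rw [mem_perpIn] at hx
        exact hx.1
      · rw [Submodule.span_le]
        intro x hx
        rw [Set.mem_singleton_iff] at hx
        rw [hx]; exact hvN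
    · intro y hyN
      have : y = (y - ((B Q v v)⁻¹ * B Q v y) • v) + ((B Q v v)⁻¹ * B Q v y) • v := by abel
      rw [this]
      apply Submodule.add_mem_sup
      · rw [mem_perpIn]
        refine ⟨N.sub_mem hyN (N.smul_mem _ hvN), ?_⟩
        intro u hu
        rw [Set.mem_singleton_iff] at hu
        subst hu
        rw [B_sub_right', B_smul_right', mul_assoc, mul_comm, mul_assoc, mul_inv_cancel₀ hvv]
        ring
      · exact Submodule.smul_mem _ _ (Submodule.mem_span_singleton_self v)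
  have h3 : perpIn Q N {v} ⊓ Submodule.span F {v} = ⊥ := by
    rw [eq_bot_iff]
    rintro x ⟨hx1, hx2⟩
    rw [Submodule.mem_bot]
    obtain ⟨c, rfl⟩ := Submodule.mem_span_singleton.mp hx2
    have hx1' := hx1
    rw [SetLike.mem_coe, mem_perpIn] at hx1'
    have := hx1'.2 v rfl
    rw [B_smul_right'] at this
    rcases mul_eq_zero.mp this with h | h
    · rw [h, zero_smul]
    · exact absurd h hvv
  rw [h2, h3, finrank_bot, finrank_span_singleton hv0] at h1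
  omega

/-- anti-isometries of even-dimensional nondegenerate spaces in odd characteristic -/
theorem exists_anti (h2 : (2 : F) ≠ 0) : ∀ (d : ℕ) (W : Submodule F (ι → F)), NDon Q W →
    finrank F W = d → Even d →
    ∃ σ : (ι → F) →ₗ[F] (ι → F), ∀ w ∈ W, σ w ∈ W ∧ Q (σ w) = - Q w := by
  intro d
  induction d using Nat.strong_induction_on with
  | _ d ih =>
  intro W hW hd hev
  by_cases hd0 : d = 0
  · refine ⟨0, fun w hw => ?_⟩
    have hbot : W = ⊥ := Submodule.finrank_eq_zero.mp (hd.trans hd0)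
    rw [hbot] at hw
    have hw0 : w = 0 := (Submodule.mem_bot F).mp hw
    subst hw0
    simp
  have hd2 : 2 ≤ d := by
    rcases hev with ⟨k, hk⟩
    omega
  have hW0 : W ≠ ⊥ := by
    intro h
    rw [h, finrank_bot] at hd
    omega
  obtain ⟨v₁, hv₁W, hQv₁⟩ := exists_nonsing W hW hW0
  have hv₁v₁ : B Q v₁ v₁ ≠ 0 := by rw [B_self]; exact mul_ne_zero h2 hQv₁
  have hW₁ := NDon_perp_ns W hW v₁ hv₁W hv₁v₁
  have hf₁ := finrank_perp_ns W v₁ hv₁W hv₁v₁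
  have hW₁0 : perpIn Q W {v₁} ≠ ⊥ := by
    intro h
    rw [h, finrank_bot] at hf₁
    omega
  obtain ⟨v₂, hv₂W₁, hQv₂⟩ := exists_nonsing _ hW₁ hW₁0
  have hv₂v₂ : B Q v₂ v₂ ≠ 0 := by rw [B_self]; exact mul_ne_zero h2 hQv₂
  have hW₂ := NDon_perp_ns _ hW₁ v₂ hv₂W₁ hv₂v₂
  have hf₂ := finrank_perp_ns _ v₂ hv₂W₁ hv₂v₂
  have hv₂W : v₂ ∈ W := ((mem_perpIn Q W {v₁} v₂).1 hv₂W₁).1
  have hv₁v₂ : B Q v₁ v₂ = 0 := ((mem_perpIn Q W {v₁} v₂).1 hv₂W₁).2 v₁ rfl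
  have hv₂v₁ : B Q v₂ v₁ = 0 := by rw [B_comm]; exact hv₁v₂
  obtain ⟨W₂, hW₂def⟩ : ∃ W₂ : Submodule F (ι → F), W₂ = perpIn Q (perpIn Q W {v₁}) {v₂} :=
    ⟨_, rfl⟩
  rw [← hW₂def] at hW₂ hf₂
  have hmemW₂ : ∀ x, x ∈ W₂ ↔ x ∈ W ∧ B Q v₁ x = 0 ∧ B Q v₂ x = 0 := by
    intro x
    rw [hW₂def, mem_perpIn, mem_perpIn]
    constructor
    · rintro ⟨⟨h1, h3⟩, h4⟩
      exact ⟨h1, h3 v₁ rfl, h4 v₂ rfl⟩
    · rintro ⟨h1, h3, h4⟩
      refine ⟨⟨h1, ?_⟩, ?_⟩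
      · intro u hu; rw [Set.mem_singleton_iff] at hu; rw [hu]; exact h3
      · intro u hu; rw [Set.mem_singleton_iff] at hu; rw [hu]; exact h4
  obtain ⟨σ', hσ'⟩ := ih (d - 2) (by omega) W₂ hW₂ (by omega) (by
    rcases hev with ⟨k, hk⟩
    exact ⟨k - 1, by omega⟩)
  obtain ⟨α, hα⟩ : ∃ α : F, α = Q v₁ := ⟨_, rfl⟩
  obtain ⟨β, hβ⟩ : ∃ β : F, β = Q v₂ := ⟨_, rfl⟩
  have hα0 : α ≠ 0 := by rw [hα]; exact hQv₁
  have hβ0 : β ≠ 0 := by rw [hβ]; exact hQv₂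
  obtain ⟨s, t, hst⟩ := exists_st h2 α β hα0 hβ0
  obtain ⟨p₁, hp₁⟩ : ∃ p₁ : ι → F, p₁ = s • v₁ + t • v₂ := ⟨_, rfl⟩
  obtain ⟨p₂, hp₂⟩ : ∃ p₂ : ι → F, p₂ = (-(β * α⁻¹) * t) • v₁ + s • v₂ := ⟨_, rfl⟩
  have hB11 : B Q v₁ v₁ = 2 * α := by rw [B_self, ← hα]
  have hB22 : B Q v₂ v₂ = 2 * β := by rw [B_self, ← hβ]
  have hQp₁ : Q p₁ = -α := by
    rw [hp₁, Q_add, Q_smul, Q_smul, B_smul_left', B_smul_right', hv₁v₂, ← hα, ← hβ]
    linear_combination hst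
  have hQp₂ : Q p₂ = -β := by
    rw [hp₂, Q_add, Q_smul, Q_smul, B_smul_left', B_smul_right', hv₁v₂, ← hα, ← hβ]
    have hu : α * α⁻¹ = 1 := mul_inv_cancel₀ hα0
    linear_combination (β * α⁻¹) * hst + (β * β * α⁻¹ * t * t - s * s * β - β) * hu
  have hp₁p₂ : B Q p₁ p₂ = 0 := by
    rw [hp₁, hp₂, B_add_left', B_add_right', B_add_right', B_smul_left', B_smul_left',
      B_smul_right', B_smul_right', B_smul_left', B_smul_left', B_smul_right', B_smul_right',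
      hB11, hB22, hv₁v₂, hv₂v₁]
    have hu : α * α⁻¹ = 1 := mul_inv_cancel₀ hα0
    linear_combination (-(2 * s * t * β)) * hu
  have hp₁W : p₁ ∈ W := by rw [hp₁]; exact W.add_mem (W.smul_mem _ hv₁W) (W.smul_mem _ hv₂W)
  have hp₂W : p₂ ∈ W := by rw [hp₂]; exact W.add_mem (W.smul_mem _ hv₁W) (W.smul_mem _ hv₂W)
  -- coordinate functionals
  obtain ⟨c₁, hc₁⟩ : ∃ c₁ : (ι → F) →ₗ[F] F, ∀ x, c₁ x = (2 * α)⁻¹ * B Q v₁ x :=
    ⟨(2 * α)⁻¹ • (QuadraticMap.polarBilin Q v₁), fun x => rfl⟩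
  obtain ⟨c₂, hc₂⟩ : ∃ c₂ : (ι → F) →ₗ[F] F, ∀ x, c₂ x = (2 * β)⁻¹ * B Q v₂ x :=
    ⟨(2 * β)⁻¹ • (QuadraticMap.polarBilin Q v₂), fun x => rfl⟩
  have h2α : 2 * α ≠ 0 := mul_ne_zero h2 hα0
  have h2β : 2 * β ≠ 0 := mul_ne_zero h2 hβ0
  obtain ⟨σ, hσ⟩ : ∃ σ : (ι → F) →ₗ[F] (ι → F),
      ∀ x, σ x = c₁ x • p₁ + c₂ x • p₂ + σ' (x - c₁ x • v₁ - c₂ x • v₂) :=
    ⟨c₁.smulRight p₁ + c₂.smulRight p₂ +
      σ' ∘ₗ (LinearMap.id - c₁.smulRight v₁ - c₂.smulRight v₂), fun x => by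
      simp only [LinearMap.add_apply, LinearMap.smulRight_apply, LinearMap.comp_apply,
        LinearMap.sub_apply, LinearMap.id_apply]⟩
  refine ⟨σ, ?_⟩
  intro w hw
  obtain ⟨w', hw'⟩ : ∃ w' : ι → F, w' = w - c₁ w • v₁ - c₂ w • v₂ := ⟨_, rfl⟩
  have hw'W₂ : w' ∈ W₂ := by
    rw [hmemW₂]
    refine ⟨by rw [hw']; exact W.sub_mem (W.sub_mem hw (W.smul_mem _ hv₁W)) (W.smul_mem _ hv₂W),
      ?_, ?_⟩
    · rw [hw', B_sub_right', B_sub_right', B_smul_right', B_smul_right', hB11, hv₁v₂, hc₁]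
      have hu := inv_mul_cancel₀ h2α
      linear_combination (-(B Q v₁ w)) * hu
    · rw [hw', B_sub_right', B_sub_right', B_smul_right', B_smul_right', hB22, hv₂v₁, hc₂]
      have hu := inv_mul_cancel₀ h2β
      linear_combination (-(B Q v₂ w)) * hu
  have hσw : σ w = c₁ w • p₁ + c₂ w • p₂ + σ' w' := by
    rw [hσ, hw']
  rw [hσw]
  obtain ⟨hσ'W₂, hσ'Q⟩ := hσ' w' hw'W₂
  obtain ⟨hσ'W, h1σ', h2σ'⟩ := (hmemW₂ _).1 hσ'W₂
  obtain ⟨hw'W, h1w', h2w'⟩ := (hmemW₂ _).1 hw'W₂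
  refine ⟨W.add_mem (W.add_mem (W.smul_mem _ hp₁W) (W.smul_mem _ hp₂W)) hσ'W, ?_⟩
  have hp₁σ : B Q p₁ (σ' w') = 0 := by
    rw [hp₁, B_add_left', B_smul_left', B_smul_left', h1σ', h2σ']; ring
  have hp₂σ : B Q p₂ (σ' w') = 0 := by
    rw [hp₂, B_add_left', B_smul_left', B_smul_left', h1σ', h2σ']; ring
  have hwe : w = c₁ w • v₁ + c₂ w • v₂ + w' := by rw [hw']; abel
  have hQw : Q w = α * (c₁ w * c₁ w) + β * (c₂ w * c₂ w) + Q w' := by
    conv_lhs => rw [hwe]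
    rw [Q_add, Q_add, Q_smul, Q_smul, B_smul_left', B_smul_right', hv₁v₂, B_add_left',
      B_smul_left', B_smul_left', h1w', h2w', ← hα, ← hβ]
    ring
  rw [Q_add, Q_add, Q_smul, Q_smul, B_smul_left', B_smul_right', hp₁p₂, B_add_left',
    B_smul_left', B_smul_left', hp₁σ, hp₂σ, hQp₁, hQp₂, hσ'Q, hQw]
  ring

/-- the orthogonal sum of two isometric nondegenerate even-dimensional spaces is of plus type -/
theorem plus_of_isometric (W A : Submodule F (ι → F)) (orth : ∀ w ∈ W, ∀ a ∈ A, B Q w a = 0)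
    (dec : ∀ x : ι → F, ∃ w ∈ W, ∃ a ∈ A, x = w + a) (ndW : NDon Q W)
    (heq : finrank F W = finrank F A) (hev : Even (finrank F W))
    (g : ↥(Cfsg.isometryGroup F ⇑Q)) (hg : ∀ a ∈ A, mt Q g *ᵥ a ∈ W) :
    Cfsg.Geo.IsPlusTypeOn ⇑Q ⊤ := by
  obtain ⟨σ, hσ⟩ : ∃ σ : (ι → F) →ₗ[F] (ι → F), ∀ w ∈ W, σ w ∈ W ∧ Q (σ w) = - Q w := by
    by_cases h2 : (2 : F) = 0
    · refine ⟨LinearMap.id, fun w hw => ⟨hw, ?_⟩⟩
      rw [LinearMap.id_apply]
      have : Q w + Q w = 0 := by rw [← two_mul, h2, zero_mul]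
      exact eq_neg_of_add_eq_zero_left this
    · exact exists_anti h2 _ W ndW rfl hev
  obtain ⟨φ, hφ⟩ : ∃ φ : A →ₗ[F] (ι → F),
      ∀ a : A, φ a = (a : ι → F) + σ (mt Q g *ᵥ (a : ι → F)) :=
    ⟨A.subtype + (σ ∘ₗ Matrix.mulVecLin (mt Q g)) ∘ₗ A.subtype, fun a => by simp⟩
  have hinj : Function.Injective φ := by
    intro a a' h
    rw [hφ, hφ] at h
    have h1 : (a : ι → F) - a' =
        σ (mt Q g *ᵥ (a' : ι → F)) - σ (mt Q g *ᵥ (a : ι → F)) := by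
      rw [sub_eq_sub_iff_add_eq_add, h, add_comm]
    have h2 : (a : ι → F) - a' ∈ W := by
      rw [h1]; exact W.sub_mem (hσ _ (hg _ a'.2)).1 (hσ _ (hg _ a.2)).1
    have h3 : (a : ι → F) - a' ∈ A := A.sub_mem a.2 a'.2
    have h4 : (a : ι → F) - a' = 0 := by
      by_contra h0
      obtain ⟨y, hy, hne⟩ := ndW _ h2 h0
      exact hne (by rw [B_comm]; exact orth y hy _ h3)
    exact Subtype.ext (sub_eq_zero.mp h4)
  refine ⟨LinearMap.range φ, le_top, ?_, ?_⟩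
  · rintro u ⟨a, rfl⟩
    rw [hφ, Q_add]
    have hga := hg a a.2
    obtain ⟨hσW, hσQ⟩ := hσ _ hga
    rw [hσQ, isom_apply, orth_symm orth a a.2 _ hσW]
    ring
  · rw [LinearMap.finrank_range_of_inj hinj, finrank_top, Module.finrank_fintype_fun_eq_card]
    have := finrank_add_of_dec orth dec ndW
    omega

end Cfsg.Agent.Helper28.NDM
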