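import Cfsg.Agent.Helper29.OC2K.Main
import Cfsg.Agent.Helper28.Spin10

set_option autoImplicit false
set_option linter.unusedSectionVars false
set_option linter.unusedVariables false

/-! # S5694 CHAR2, the reflection route (all even `q`): `¬ M ≤ StabO D → G1 M D`

`r_a r_b ∈ HS D` for pure nonsingular `a, b`; a non-pure nonsingular `n` with `r_n r_a ∈ M` gives `G1`
(`lemA`); hence an element of `M` maps the pure nonsingular vectors either all to pure vectors (then it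
lies in `StabO D`, `pstab`) or all to non-pure vectors; in the second case `r_{g a} r_{g b}` fixes a pure
nonsingular vector, so lies in `StabO D`, which is impossible when `B a b ≠ 0` (`step4`). -/

namespace Cfsg.Agent.OC2K

open Matrix Cfsg.Agent.Helper28.Sg Cfsg.Agent.Helper28.Spin Cfsg.Agent.Helper12.OrthGen
  Cfsg.Agent.S2614 Cfsg.Agent.S5683P Cfsg.Agent.Helper28.NDM

variable {F : Type*} [Field F] {t k : ℕ} {ι : Type} [Fintype ι] [DecidableEq ι]
  {Q : QuadraticForm F (ι → F)} [QHyp Q] {D : Fin t → Submodule F (ι → F)}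
  {M : Subgroup (OGq Q)}

namespace C2R28

theorem B_self2 (h2 : (2 : F) = 0) (x : ι → F) : B Q x x = 0 := by
  rw [B_self Q x, h2, zero_mul]


/-- every element of a finite field of characteristic two is a square -/
theorem exists_sq [Fintype F] (h2 : (2 : F) = 0) (a : F) : ∃ s : F, s * s = a := by
  have hF : ringChar F = 2 :=
    CharP.ringChar_of_prime_eq_zero Nat.prime_two (by exact_mod_cast h2)
  obtain ⟨s, hs⟩ := FiniteField.isSquare_of_char_two hF a
  exact ⟨s, hs.symm⟩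

theorem B_add_l (x y z : ι → F) : B Q (x + y) z = B Q x z + B Q y z :=
  QuadraticMap.polar_add_left _ _ _ _

theorem B_add_r (x y z : ι → F) : B Q x (y + z) = B Q x y + B Q x z :=
  QuadraticMap.polar_add_right _ _ _ _

theorem B_sub_l (x y z : ι → F) : B Q (x - y) z = B Q x z - B Q y z :=
  QuadraticMap.polar_sub_left _ _ _ _

theorem B_sub_r (x y z : ι → F) : B Q x (y - z) = B Q x y - B Q x z :=
  QuadraticMap.polar_sub_right _ _ _ _

theorem B_smul_l (s : F) (x z : ι → F) : B Q (s • x) z = s * B Q x z := by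
  show QuadraticMap.polar _ (s • x) z = _
  rw [QuadraticMap.polar_smul_left]; rfl

theorem B_smul_r (s : F) (x z : ι → F) : B Q x (s • z) = s * B Q x z := by
  show QuadraticMap.polar _ x (s • z) = _
  rw [QuadraticMap.polar_smul_right]; rfl

/-- a non-zero singular vector of the block perpendicular to a nonsingular vector of the block -/
theorem sing_perp [Fintype F] (h2 : (2 : F) = 0) (hD : HD Q k D) {b : Fin t} {x : ι → F}
    (hx : x ∈ D b) (hQx : Q x ≠ 0) :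
    ∃ u ∈ D b, u ≠ 0 ∧ Q u = 0 ∧ B Q u x = 0 := by
  obtain ⟨e, f, he, hf, hp⟩ := BLK.hyp hD b
  have he0 : e ≠ 0 := by
    rintro rfl
    have := hp.Bef
    simp [B] at this
  by_cases hxe : B Q x e = 0
  · exact ⟨e, he, he0, hp.Qe, by rw [B_comm]; exact hxe⟩
  obtain ⟨w, hw, hew, hfw, hQw⟩ := GEOA.exists_nonsing_perp (Q := Q) (D b) (BLK.ndon hD b)
    (BLK.three hD b) he hf hp.Qe hp.Qf (by rw [hp.Bef]; exact one_ne_zero)
  set y : ι → F := (B Q x e) • w - (B Q x w) • e with hy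
  have hyD : y ∈ D b := (D b).sub_mem ((D b).smul_mem _ hw) ((D b).smul_mem _ he)
  have hxy : B Q x y = 0 := by
    rw [hy, B_sub_r, B_smul_r, B_smul_r]; ring
  have hye : B Q y e = 0 := by
    rw [hy, B_sub_l, B_smul_l, B_smul_l, B_comm Q w e, hew, B_self_of_singular Q hp.Qe]; ring
  obtain ⟨α, hα⟩ := exists_sq h2 (Q y / Q x)
  have hαx : α * α * Q x = Q y := by rw [hα]; field_simp
  refine ⟨y + α • x, (D b).add_mem hyD ((D b).smul_mem _ hx), ?_, ?_, ?_⟩
  · intro h0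
    have hyx : y = (-α) • x := by rw [neg_smul]; exact eq_neg_of_add_eq_zero_left h0
    have h1 : B Q y e = (-α) * B Q x e := by rw [hyx, B_smul_l]
    rw [hye] at h1
    have hα0 : α = 0 := by
      rcases mul_eq_zero.1 h1.symm with h | h
      · exact neg_eq_zero.1 h
      · exact absurd h hxe
    rw [hα0, neg_zero, zero_smul] at hyx
    -- `y = 0` contradicts `Q w ≠ 0`
    have h3 : (B Q x e) • w = (B Q x w) • e := sub_eq_zero.1 (hyx ▸ hy.symm)
    have h4 := congrArg (fun z => Q z) h3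
    simp only [Q_smul, hp.Qe, mul_zero] at h4
    rcases mul_eq_zero.1 h4 with h | h
    · exact hxe (mul_self_eq_zero.1 h)
    · exact hQw h
  · rw [Q_add, Q_smul, hαx]
    have hyx' : B Q y (α • x) = 0 := by rw [B_smul_r, B_comm Q y x, hxy, mul_zero]
    show Q y + Q y + QuadraticMap.polar (⇑Q) y (α • x) = 0
    simp only [B] at hyx'
    rw [hyx', add_zero]
    linear_combination (Q y) * h2
  · rw [B_add_l, B_smul_l, B_comm Q y x, hxy, B_self2 h2, mul_zero, add_zero]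


/-- for `u` singular and `x` nonsingular in a block: `y ⊥ u` in the block with `B y x = 1` -/
theorem partner [Fintype F] (hD : HD Q k D) {b : Fin t} {u x : ι → F} (hu : u ∈ D b) (hu0 : u ≠ 0)
    (hQu : Q u = 0) (hx : x ∈ D b) (hQx : Q x ≠ 0) :
    ∃ y ∈ D b, B Q u y = 0 ∧ B Q y x = 1 := by
  by_contra hcon
  push Not at hcon
  have h : ∀ w ∈ D b, B Q u w = 0 → B Q w x = 0 := by
    intro w hw huw
    by_contra hne
    apply hcon ((B Q w x)⁻¹ • w) ((D b).smul_mem _ hw)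
    · rw [B_smul_r, huw, mul_zero]
    · rw [B_smul_l, inv_mul_cancel₀ hne]
  obtain ⟨s, hs⟩ := GEOC.perp_perp (D b) (BLK.ndon hD b) hu hu0 hQu hx h
  apply hQx
  rw [hs, Q_smul, hQu, mul_zero]

/-- **Lemma A**: a non-pure nonsingular `w` with `r_a r_w ∈ M` for a pure nonsingular `a` gives `G1` -/
theorem lemA [Fintype F] (h2 : (2 : F) = 0) (hD : HD Q k D) (hHM : HS D ≤ M) {c : Fin t}
    {a w : ι → F} (ha : a ∈ D c) (hQa : Q a ≠ 0) (hQw : Q w ≠ 0) (hw : ¬ Pure D w)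
    (hmem : reflO Q a hQa * reflO Q w hQw ∈ M) : G1 M D := by
  classical
  have hsum : Q w = ∑ c, Q (cmp D c w) := CMP2.Q_sum hD w
  obtain ⟨d, -, hd⟩ : ∃ d ∈ (Finset.univ : Finset (Fin t)), Q (cmp D d w) ≠ 0 := by
    apply Finset.exists_ne_zero_of_sum_ne_zero
    rw [← hsum]; exact hQw
  set x : ι → F := cmp D d w with hx
  have hxd : x ∈ D d := CMP1.mem hD d w
  obtain ⟨u, hu, hu0, hQu, hux⟩ := sing_perp h2 hD hxd hd
  obtain ⟨y, hy, huy, hyx⟩ := partner hD hu hu0 hQu hxd hd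
  set h := siegO Q u y hQu huy with hh
  have hhH : h ∈ HS D := SIEGMEM.mem hD hu hy hQu huy
  have huw : B Q u w = 0 := by rw [← CMP2.B_left hD hu w]; exact hux
  have hyw : B Q y w = 1 := by rw [← CMP2.B_left hD hy w]; exact hyx
  have hhw : mt Q h *ᵥ w = w + (-1 : F) • u := by
    rw [hh, siegO_mulVec, huw, hyw]
    simp [sub_eq_add_neg]
  have hha : mt Q h *ᵥ a ∈ D c := SIEGMEM.block hD hu hy hQu huy c a ha
  have hQha : Q (mt Q h *ᵥ a) ≠ 0 := by rw [Q_isom]; exact hQa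
  have hQhw : Q (mt Q h *ᵥ w) ≠ 0 := by rw [Q_isom]; exact hQw
  have h1 : reflO Q a hQa * reflO Q (mt Q h *ᵥ a) hQha ∈ M :=
    hHM (REFLMEM.mem hD ha hha hQa hQha (Q_isom _ _).symm)
  have h2m : reflO Q (mt Q h *ᵥ a) hQha * reflO Q (mt Q h *ᵥ w) hQhw ∈ M := by
    have e1 : reflO Q (mt Q h *ᵥ a) hQha = h * reflO Q a hQa * h⁻¹ := reflO_conj Q h a hQa hQha
    have e2 : reflO Q (mt Q h *ᵥ w) hQhw = h * reflO Q w hQw * h⁻¹ := reflO_conj Q h w hQw hQhw
    have : reflO Q (mt Q h *ᵥ a) hQha * reflO Q (mt Q h *ᵥ w) hQhw =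
        h * (reflO Q a hQa * reflO Q w hQw) * h⁻¹ := by
      rw [e1, e2]; group
    rw [this]
    exact M.mul_mem (M.mul_mem (hHM hhH) hmem) (M.inv_mem (hHM hhH))
  have h3 : reflO Q w hQw * reflO Q (mt Q h *ᵥ w) hQhw ∈ M := by
    have : reflO Q w hQw * reflO Q (mt Q h *ᵥ w) hQhw =
        (reflO Q a hQa * reflO Q w hQw)⁻¹ * (reflO Q a hQa * reflO Q (mt Q h *ᵥ a) hQha) *
          (reflO Q (mt Q h *ᵥ a) hQha * reflO Q (mt Q h *ᵥ w) hQhw) := by
      rw [_root_.mul_inv_rev, reflO_inv, reflO_inv]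
      simp only [mul_assoc]
      rw [← mul_assoc (reflO Q a hQa) (reflO Q a hQa), reflO_mul_self, one_mul,
        ← mul_assoc (reflO Q (mt Q h *ᵥ a) hQha), reflO_mul_self, one_mul]
    rw [this]
    exact M.mul_mem (M.mul_mem (M.inv_mem hmem) h1) h2m
  have key : ∀ (v' : ι → F) (hv' : Q v' ≠ 0), v' = w + (-1 : F) • u →
      reflO Q w hQw * reflO Q v' hv' ∈ M → G1 M D := by
    intro v' hv' e hm
    subst e
    have h' : B Q u (((-1 : F) * (Q w)⁻¹) • w) = 0 := by rw [B_smul_r, huw, mul_zero]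
    rw [reflO_mul_reflO Q (-1) hQu huw hQw hv' h'] at hm
    refine ⟨d, u, hQu, hu, hu0, ((-1 : F) * (Q w)⁻¹) • w, ⟨h', hm⟩, ?_⟩
    intro hmem'
    apply hw
    refine ⟨d, ?_⟩
    have hne : ((-1 : F) * (Q w)⁻¹) ≠ 0 :=
      mul_ne_zero (neg_ne_zero.2 one_ne_zero) (inv_ne_zero hQw)
    have := (D d).smul_mem ((-1 : F) * (Q w)⁻¹)⁻¹ hmem'
    rwa [smul_smul, inv_mul_cancel₀ hne, one_smul] at this
  exact key _ hQhw hhw h3


/-- products of two reflections in pure nonsingular vectors lie in `HS D` (characteristic two: the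
norms can be made equal by scaling) -/
theorem refl_pair_mem [Fintype F] (h2 : (2 : F) = 0) (hD : HD Q k D) {c c' : Fin t} {a b : ι → F}
    (ha : a ∈ D c) (hb : b ∈ D c') (hQa : Q a ≠ 0) (hQb : Q b ≠ 0) :
    reflO Q a hQa * reflO Q b hQb ∈ HS D := by
  obtain ⟨s, hs⟩ := exists_sq h2 (Q a / Q b)
  have hs0 : s ≠ 0 := by
    rintro rfl
    rw [mul_zero] at hs
    exact (div_ne_zero hQa hQb) hs.symm
  have hQsb : Q (s • b) = Q a := by rw [Q_smul, hs]; field_simp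
  have hQsb' : Q (s • b) ≠ 0 := by rw [hQsb]; exact hQa
  rw [← reflO_smul Q b hQb hs0 hQsb']
  exact REFLMEM.mem hD ha ((D c').smul_mem s hb) hQa hQsb' hQsb.symm

theorem refl_pair_conj (g : OGq Q) {a b : ι → F} (hQa : Q a ≠ 0) (hQb : Q b ≠ 0)
    (hQga : Q (mt Q g *ᵥ a) ≠ 0) (hQgb : Q (mt Q g *ᵥ b) ≠ 0) :
    reflO Q (mt Q g *ᵥ a) hQga * reflO Q (mt Q g *ᵥ b) hQgb =
      g * (reflO Q a hQa * reflO Q b hQb) * g⁻¹ := by
  have e1 : reflO Q (mt Q g *ᵥ a) hQga = g * reflO Q a hQa * g⁻¹ := reflO_conj Q g a hQa hQga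
  have e2 : reflO Q (mt Q g *ᵥ b) hQgb = g * reflO Q b hQb * g⁻¹ := reflO_conj Q g b hQb hQgb
  rw [e1, e2]; group

/-- **the dichotomy**: without `G1`, an element of `M` mapping one pure nonsingular vector to a pure
vector maps every pure nonsingular vector to a pure vector -/
theorem dich [Fintype F] (h2 : (2 : F) = 0) (hD : HD Q k D) (hHM : HS D ≤ M) (hG1 : ¬ G1 M D)
    {g : OGq Q} (hg : g ∈ M) {c c' : Fin t} {a b : ι → F} (ha : a ∈ D c) (hQa : Q a ≠ 0)
    (hga : Pure D (mt Q g *ᵥ a)) (hb : b ∈ D c') (hQb : Q b ≠ 0) : Pure D (mt Q g *ᵥ b) := by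
  by_contra hnp
  obtain ⟨e, hgae⟩ := hga
  have hQga : Q (mt Q g *ᵥ a) ≠ 0 := by rw [Q_isom]; exact hQa
  have hQgb : Q (mt Q g *ᵥ b) ≠ 0 := by rw [Q_isom]; exact hQb
  apply hG1
  refine lemA h2 hD hHM hgae hQga hQgb hnp ?_
  rw [refl_pair_conj g hQa hQb hQga hQgb]
  exact M.mul_mem (M.mul_mem hg (hHM (refl_pair_mem h2 hD ha hb hQa hQb))) (M.inv_mem hg)

/-- `r_n r_n'` with `n` non-pure and `B n n' ≠ 0` does not stabilise the decomposition -/
theorem step4 [Fintype F] (h2 : (2 : F) = 0) (hD : HD Q k D) {n n' : ι → F}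
    (hQn : Q n ≠ 0) (hQn' : Q n' ≠ 0) (hnp : ¬ Pure D n) (hB : B Q n n' ≠ 0) :
    reflO Q n hQn * reflO Q n' hQn' ∉ StabO D := by
  classical
  intro hmem
  obtain ⟨σ, hσ⟩ := STAB.perm hD hmem
  -- a block where the components pair nontrivially
  have hsum : B Q n n' = ∑ c, B Q (cmp D c n) (cmp D c n') := CMP2.B_sum hD n n'
  obtain ⟨e, -, he⟩ : ∃ e ∈ (Finset.univ : Finset (Fin t)), B Q (cmp D e n) (cmp D e n') ≠ 0 := by
    apply Finset.exists_ne_zero_of_sum_ne_zero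
    rw [← hsum]; exact hB
  set x : ι → F := cmp D e n' with hx
  have hxe : x ∈ D e := CMP1.mem hD e n'
  have h1 : B Q n' x = 0 := by
    rw [B_comm, ← CMP2.B_left hD hxe n']
    exact B_self2 h2 _
  have h2' : B Q n x = B Q (cmp D e n) x := (CMP2.B_right hD hxe n).symm
  have hmx : mt Q (reflO Q n hQn * reflO Q n' hQn') *ᵥ x = x - ((Q n)⁻¹ * B Q n x) • n := by
    rw [mt_mul_mulVec, reflO_mulVec n' hQn' x, h1, mul_zero, zero_smul, sub_zero, reflO_mulVec]
  set β : F := (Q n)⁻¹ * B Q n x with hβ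
  have hβ0 : β ≠ 0 := by
    rw [hβ, h2']
    exact mul_ne_zero (inv_ne_zero hQn) he
  have hpure : Pure D (x - β • n) := by
    rw [← hmx]
    exact ⟨σ e, (hσ e x).1 hxe⟩
  -- a second block where `n` is non-zero
  obtain ⟨b, hbe, hb⟩ : ∃ b, b ≠ e ∧ cmp D b n ≠ 0 := by
    by_contra hcon
    push Not at hcon
    exact hnp ⟨e, (CMP1.mem_iff hD).2 hcon⟩
  refine CMP1.not_pure hD hbe ?_ ?_ hpure
  · rw [map_sub, map_smul, CMP1.of_mem_ne hD (Ne.symm hbe) hxe, zero_sub]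
    exact neg_ne_zero.2 (smul_ne_zero hβ0 hb)
  · rw [map_sub, map_smul, CMP1.of_mem hD hxe]
    intro h0
    apply he
    have : x = β • cmp D e n := sub_eq_zero.1 h0
    rw [this]
    show QuadraticMap.polar _ _ (β • cmp D e n) = 0
    rw [QuadraticMap.polar_smul_right]
    have := B_self2 (Q := Q) h2 (cmp D e n)
    simp only [B] at this
    rw [this, smul_zero]

/-- the hypothesis on the blocks: two perpendicularity conditions leave a nonsingular vector of the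
block (true for blocks of dimension `≥ 6`, and for minus-type blocks of dimension `4`) -/
def NS3 (Q : QuadraticForm F (ι → F)) (D : Fin t → Submodule F (ι → F)) : Prop :=
  ∀ (c : Fin t) (p p' : ι → F), ∃ z ∈ D c, Q z ≠ 0 ∧ B Q p z = 0 ∧ B Q p' z = 0

/-- two nonsingular vectors of the block, perpendicular to a given singular `u`, not perpendicular
to each other -/
theorem ns2 [Fintype F] (hD : HD Q k D) (hNS : NS3 Q D) {c : Fin t} {u : ι → F} (hu : u ∈ D c)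
    (hu0 : u ≠ 0) (hQu : Q u = 0) :
    ∃ a ∈ D c, ∃ a₂ ∈ D c, B Q u a = 0 ∧ B Q u a₂ = 0 ∧ Q a ≠ 0 ∧ Q a₂ ≠ 0 ∧ B Q a a₂ ≠ 0 := by
  obtain ⟨a, ha, hQa, hua, -⟩ := hNS c u u
  obtain ⟨y, hy, huy, hya⟩ := partner hD hu hu0 hQu ha hQa
  have hay : B Q a y = 1 := by rw [B_comm]; exact hya
  by_cases hQy : Q y = 0
  · obtain ⟨z, hz, hQz, huz, hyz⟩ := hNS c u y
    by_cases haz : B Q a z = 0
    · refine ⟨a, ha, y + z, (D c).add_mem hy hz, hua, ?_, hQa, ?_, ?_⟩
      · rw [B_add_r, huy, huz, add_zero]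
      · rw [Q_add, hQy, zero_add]
        show Q z + QuadraticMap.polar (⇑Q) y z ≠ 0
        simp only [B] at hyz
        rw [hyz, add_zero]; exact hQz
      · rw [B_add_r, hay, haz, add_zero]; exact one_ne_zero
    · exact ⟨a, ha, z, hz, hua, huz, hQa, hQz, haz⟩
  · exact ⟨a, ha, y, hy, hua, huy, hQa, hQy, by rw [hay]; exact one_ne_zero⟩

/-- an isometry mapping all pure nonsingular vectors to pure vectors stabilises the decomposition -/
theorem pstab [Fintype F] (hD : HD Q k D) (hNS : NS3 Q D) {g : OGq Q}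
    (h : ∀ c, ∀ a ∈ D c, Q a ≠ 0 → Pure D (mt Q g *ᵥ a)) : g ∈ StabO D := by
  by_contra hg
  obtain ⟨c, u, hu, hu0, hQu, hnp⟩ := STEP0B.exists_nonpure hD hg
  obtain ⟨a, ha, a₂, ha₂, hua, hua₂, hQa, hQa₂, haa₂⟩ := ns2 hD hNS hu hu0 hQu
  have hQau : Q (a + u) ≠ 0 := by
    rw [Q_add, hQu, add_zero]
    show Q a + QuadraticMap.polar (⇑Q) a u ≠ 0
    have : B Q a u = 0 := by rw [B_comm]; exact hua
    simp only [B] at this
    rw [this, add_zero]; exact hQa
  obtain ⟨e₁, h1⟩ := h c a ha hQa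
  obtain ⟨e₂, h2'⟩ := h c a₂ ha₂ hQa₂
  obtain ⟨e₃, h3⟩ := h c (a + u) ((D c).add_mem ha hu) hQau
  have h12 : e₁ = e₂ := STEP0A.same_block hD h1 h2' (by rw [B_isom]; exact haa₂)
  have h32 : e₃ = e₂ := STEP0A.same_block hD h3 h2' (by
    rw [B_isom, B_add_l, hua₂, add_zero]; exact haa₂)
  apply hnp
  refine ⟨e₂, ?_⟩
  have : mt Q g *ᵥ u = mt Q g *ᵥ (a + u) - mt Q g *ᵥ a := by
    rw [Matrix.mulVec_add]; abel
  rw [this]
  exact (D e₂).sub_mem (h32 ▸ h3) (h12 ▸ h1)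

/-- **the reflection route**: an overgroup of `HS D` not inside `StabO D` satisfies `G1`
(characteristic two, all `q`) -/
theorem main [Fintype F] (h2 : (2 : F) = 0) (hD : HD Q k D) (hNS : NS3 Q D) (hHM : HS D ≤ M)
    (hnle : ¬ M ≤ StabO D) : G1 M D := by
  classical
  by_contra hG1
  obtain ⟨g, hgM, hgS⟩ := SetLike.not_le_iff_exists.mp hnle
  have hbad : ∀ c, ∀ b ∈ D c, Q b ≠ 0 → ¬ Pure D (mt Q g *ᵥ b) := by
    intro c b hb hQb hpure
    apply hgS
    apply pstab hD hNS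
    intro c' a ha hQa
    exact dich h2 hD hHM hG1 hgM hb hQb hpure ha hQa
  have ht := hD.t3
  set c₀ : Fin t := ⟨0, by omega⟩ with hc₀
  obtain ⟨e, f, he, hf, hp⟩ := BLK.hyp hD c₀
  have he0 : e ≠ 0 := by
    rintro rfl
    have := hp.Bef
    simp [B] at this
  obtain ⟨a, ha, a₂, ha₂, -, -, hQa, hQa₂, haa₂⟩ := ns2 hD hNS he he0 hp.Qe
  have hQn : Q (mt Q g *ᵥ a) ≠ 0 := by rw [Q_isom]; exact hQa
  have hQn' : Q (mt Q g *ᵥ a₂) ≠ 0 := by rw [Q_isom]; exact hQa₂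
  have hnp := hbad c₀ a ha hQa
  have hB : B Q (mt Q g *ᵥ a) (mt Q g *ᵥ a₂) ≠ 0 := by rw [B_isom]; exact haa₂
  have hmM : reflO Q (mt Q g *ᵥ a) hQn * reflO Q (mt Q g *ᵥ a₂) hQn' ∈ M := by
    rw [refl_pair_conj g hQa hQa₂ hQn hQn']
    exact M.mul_mem (M.mul_mem hgM (hHM (refl_pair_mem h2 hD ha ha₂ hQa hQa₂))) (M.inv_mem hgM)
  obtain ⟨z, hz, hQz, hnz, hn'z⟩ := hNS c₀ (mt Q g *ᵥ a) (mt Q g *ᵥ a₂)
  have hmz : mt Q (reflO Q (mt Q g *ᵥ a) hQn * reflO Q (mt Q g *ᵥ a₂) hQn') *ᵥ z = z := by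
    rw [mt_mul_mulVec, reflO_mulVec _ hQn' z, hn'z, mul_zero, zero_smul, sub_zero,
      reflO_mulVec _ hQn z, hnz, mul_zero, zero_smul, sub_zero]
  have hmS : reflO Q (mt Q g *ᵥ a) hQn * reflO Q (mt Q g *ᵥ a₂) hQn' ∈ StabO D := by
    apply pstab hD hNS
    intro c' b hb hQb
    exact dich h2 hD hHM hG1 hmM hz hQz (by rw [hmz]; exact ⟨c₀, hz⟩) hb hQb
  exact step4 h2 hD hQn hQn' hnp hB hmS

end C2R28

end Cfsg.Agent.OC2K
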