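import Cfsg.Agent.Helper28.OC2KC2R28
import Cfsg.Agent.Helper20.OC2KC2GEOPAIR5

set_option autoImplicit false
set_option linter.unusedSectionVars false
set_option linter.unusedVariables false

/-! # S5694 CHAR2, reflection route: the block hypothesis `NS3`

`NS3` holds for blocks of dimension `≥ 5` (`C2.GEOPAIR5.main`) and for blocks of dimension `≥ 4`
without totally singular 2-spaces (`C2.Witt1`). -/

namespace Cfsg.Agent.OC2K

open Matrix Module Cfsg.Agent.Helper28.Sg Cfsg.Agent.Helper28.Spin Cfsg.Agent.Helper12.OrthGen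
  Cfsg.Agent.S2614 Cfsg.Agent.S5683P Cfsg.Agent.Helper28.NDM

variable {F : Type*} [Field F] {t k : ℕ} {ι : Type} [Fintype ι] [DecidableEq ι]
  {Q : QuadraticForm F (ι → F)} [QHyp Q] {D : Fin t → Submodule F (ι → F)}
  {M : Subgroup (OGq Q)}

namespace C2R28

/-- if `B w w' ≠ 0`, one of `w`, `w'`, `w + w'` is nonsingular -/
theorem nonsing_of_pair {w w' : ι → F} (h : B Q w w' ≠ 0) :
    Q w ≠ 0 ∨ Q w' ≠ 0 ∨ Q (w + w') ≠ 0 := by
  by_contra hcon
  push Not at hcon
  obtain ⟨h1, h2, h3⟩ := hcon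
  apply h
  have : Q (w + w') = Q w + Q w' + B Q w w' := Q_add Q w w'
  rw [h1, h2, h3] at this
  linear_combination -this

/-- `NS3` for blocks of dimension at least `5` -/
theorem ns3_of_five [Fintype F] (hD : HD Q k D) (hk : 5 ≤ k) : NS3 Q D := by
  intro c p p'
  obtain ⟨w, hw, w', hw', h1, h2, h3, h4, h5⟩ :=
    C2.GEOPAIR5.main hD hk (CMP1.mem hD c p) (CMP1.mem hD c p')
  have e1 : ∀ z ∈ D c, B Q p z = B Q (cmp D c p) z := fun z hz => (CMP2.B_right hD hz p).symm
  have e2 : ∀ z ∈ D c, B Q p' z = B Q (cmp D c p') z := fun z hz => (CMP2.B_right hD hz p').symm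
  rcases nonsing_of_pair h5 with h | h | h
  · exact ⟨w, hw, h, by rw [e1 w hw]; exact h1, by rw [e2 w hw]; exact h2⟩
  · exact ⟨w', hw', h, by rw [e1 w' hw']; exact h3, by rw [e2 w' hw']; exact h4⟩
  · refine ⟨w + w', (D c).add_mem hw hw', h, ?_, ?_⟩
    · rw [e1 _ ((D c).add_mem hw hw'), B_add_r, h1, h3, add_zero]
    · rw [e2 _ ((D c).add_mem hw hw'), B_add_r, h2, h4, add_zero]

/-- `NS3` for blocks of dimension at least `4` without totally singular 2-spaces -/
theorem ns3_of_witt1 [Fintype F] (hD : HD Q k D) (hk : 4 ≤ k) (hW : C2.Witt1 Q D) : NS3 Q D := by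
  classical
  intro c p p'
  set W : Submodule F (ι → F) := perpIn Q (D c) (({p, p'} : Finset (ι → F)) : Set (ι → F)) with hWdef
  have hfr : 2 ≤ finrank F W := by
    have h1 : finrank F (D c) ≤ finrank F W + ({p, p'} : Finset (ι → F)).card :=
      finrank_perpIn (Q := Q) (QHyp.nd (Q := Q)) (D c) ({p, p'} : Finset (ι → F))
    have h2 : ({p, p'} : Finset (ι → F)).card ≤ 2 := Finset.card_le_two
    rw [hD.rank c] at h1
    omega
  have hmemW : ∀ z, z ∈ W ↔ z ∈ D c ∧ B Q p z = 0 ∧ B Q p' z = 0 := by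
    intro z
    rw [hWdef, mem_perpIn]
    constructor
    · rintro ⟨h1, h2⟩
      exact ⟨h1, h2 p (by simp), h2 p' (by simp)⟩
    · rintro ⟨h1, h2, h3⟩
      refine ⟨h1, fun v hv => ?_⟩
      simp only [Finset.coe_insert, Finset.coe_singleton, Set.mem_insert_iff,
        Set.mem_singleton_iff] at hv
      rcases hv with rfl | rfl
      · exact h2
      · exact h3
  by_contra hcon
  push Not at hcon
  have hsing : ∀ z ∈ W, Q z = 0 := by
    intro z hz
    obtain ⟨hz1, hz2, hz3⟩ := (hmemW z).1 hz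
    by_contra hQz
    exact hcon z hz1 hQz hz2 hz3
  -- a non-zero vector of `W`
  have hpos : 0 < finrank F W := by omega
  obtain ⟨⟨z₁, hz₁⟩, hz₁0⟩ := (Module.finrank_pos_iff_exists_ne_zero).1 hpos
  have hz₁0' : z₁ ≠ 0 := fun h0 => hz₁0 (Subtype.ext h0)
  -- a vector of `W` outside the line `F z₁`
  obtain ⟨z₂, hz₂, hz₂n⟩ : ∃ z₂ ∈ W, z₂ ∉ Submodule.span F ({z₁} : Set (ι → F)) := by
    by_contra hno
    push Not at hno
    have hle : W ≤ Submodule.span F ({z₁} : Set (ι → F)) := fun z hz => hno z hz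
    have h1 := Submodule.finrank_mono hle
    have h2 : finrank F (Submodule.span F ({z₁} : Set (ι → F))) ≤ 1 := by
      have := finrank_span_le_card (R := F) ({z₁} : Set (ι → F))
      simpa using this
    omega
  have hB : B Q z₁ z₂ = 0 := by
    have h3 := hsing (z₁ + z₂) (W.add_mem hz₁ hz₂)
    have : Q (z₁ + z₂) = Q z₁ + Q z₂ + B Q z₁ z₂ := Q_add Q z₁ z₂
    rw [h3, hsing z₁ hz₁, hsing z₂ hz₂] at this
    linear_combination -this
  obtain ⟨s, hs⟩ := hW c z₁ ((hmemW z₁).1 hz₁).1 z₂ ((hmemW z₂).1 hz₂).1 (hsing z₁ hz₁)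
    (hsing z₂ hz₂) hB hz₁0'
  apply hz₂n
  rw [hs]
  exact Submodule.smul_mem _ s (Submodule.subset_span rfl)

end C2R28

end Cfsg.Agent.OC2K
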