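import Mathlib
import Cfsg.Prelude.Def_GeometricClasses
import Cfsg.Agent.Helper28.OrthSim3

set_option autoImplicit false
set_option linter.unusedSectionVars false
set_option linter.unusedVariables false

/-! # `O_n(q) < SL_n(q)`, small `n` (S5798, `n = 6`): shared geometry (helper28).

Reflections, nonsingular vectors in orthogonal complements, connectivity and spanning by
nonsingular vectors; odd characteristic, no Witt index assumption. -/

namespace Cfsg.Agent.OS6P

open Matrix Module Cfsg.Agent.Helper28.Sg Cfsg.Agent.Helper28.Spin Cfsg.Agent.Helper28.SLMax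
  Cfsg.Agent.Helper28.SimMax Cfsg.Agent.Helper28.OSim

variable {F : Type*} [Field F] {n : ℕ} {Q : QuadraticForm F (Fin n → F)}

/-! ### bilinearity of `B Q` in `rw`-able form -/

theorem GEO.B_add_left (x y z : Fin n → F) : B Q (x + y) z = B Q x z + B Q y z :=
  QuadraticMap.polar_add_left _ _ _ _

theorem GEO.B_add_right (x y z : Fin n → F) : B Q x (y + z) = B Q x y + B Q x z :=
  QuadraticMap.polar_add_right _ _ _ _

theorem GEO.B_smul_left (a : F) (x y : Fin n → F) : B Q (a • x) y = a * B Q x y := by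
  show QuadraticMap.polar ⇑Q (a • x) y = _
  rw [QuadraticMap.polar_smul_left, smul_eq_mul]

theorem GEO.B_smul_right (a : F) (x y : Fin n → F) : B Q x (a • y) = a * B Q x y := by
  show QuadraticMap.polar ⇑Q x (a • y) = _
  rw [QuadraticMap.polar_smul_right, smul_eq_mul]

theorem GEO.B_neg_left (x y : Fin n → F) : B Q (-x) y = - B Q x y :=
  QuadraticMap.polar_neg_left _ _ _

theorem GEO.B_neg_right (x y : Fin n → F) : B Q x (-y) = - B Q x y :=
  QuadraticMap.polar_neg_right _ _ _

theorem GEO.B_sub_left (x y z : Fin n → F) : B Q (x - y) z = B Q x z - B Q y z :=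
  QuadraticMap.polar_sub_left _ _ _ _

theorem GEO.B_sub_right (x y z : Fin n → F) : B Q x (y - z) = B Q x y - B Q x z :=
  QuadraticMap.polar_sub_right _ _ _ _

theorem GEO.B_zero_left (y : Fin n → F) : B Q 0 y = 0 := by simp [B]

theorem GEO.B_zero_right (x : Fin n → F) : B Q x 0 = 0 := by simp [B]

theorem GEO.Q_neg (x : Fin n → F) : Q (-x) = Q x := by
  have := Q_smul Q (-1) x
  rw [neg_smul, one_smul] at this
  rw [this]; ring

theorem GEO.Q_zero : Q (0 : Fin n → F) = 0 := map_zero Q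

/-! ### reflections -/

/-- the reflection in `z` -/
noncomputable def GEO.R (Q : QuadraticForm F (Fin n → F)) (z : Fin n → F) :
    Matrix (Fin n) (Fin n) F := E z (-(Q z)⁻¹ • pv Q z)

theorem GEO.R_mulVec (z x : Fin n → F) :
    GEO.R Q z *ᵥ x = x - ((Q z)⁻¹ * B Q z x) • z := by
  unfold GEO.R
  rw [E_mulVec, smul_dotProduct, pv_dot, smul_eq_mul, sub_eq_add_neg, ← neg_smul]
  congr 2
  ring

theorem GEO.R_iso {z : Fin n → F} (hz : Q z ≠ 0) (x : Fin n → F) : Q (GEO.R Q z *ᵥ x) = Q x := by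
  rw [GEO.R_mulVec, sub_eq_add_neg, ← neg_smul, Q_add, Q_smul, GEO.B_smul_right, B_comm Q x z]
  field_simp
  ring

theorem GEO.R_det {z : Fin n → F} (hz : Q z ≠ 0) : (GEO.R Q z).det = -1 := by
  unfold GEO.R
  rw [E_det, smul_dotProduct, pv_dot, B_self, smul_eq_mul]
  field_simp
  ring

/-- a product of two reflections lies in every overgroup of `CO(Q) ∩ SL` -/
theorem GEO.RR_mem (M : Subgroup (Matrix.GeneralLinearGroup (Fin n) F))
    (hHM : Cfsg.Geo.quadSimilarityGroup (⇑Q) ⊓ SL n F ≤ M) {z z' : Fin n → F} (hz : Q z ≠ 0)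
    (hz' : Q z' ≠ 0) : GEO.R Q z * GEO.R Q z' ∈ MS M := by
  apply mem_of_isom M hHM
  · intro x
    rw [← Matrix.mulVec_mulVec, GEO.R_iso hz, GEO.R_iso hz']
  · rw [Matrix.det_mul, GEO.R_det hz, GEO.R_det hz']
    ring

/-! ### nonsingular vectors in orthogonal complements -/

/-- generic version: `2 dim S < n` -/
theorem GEO.nonsing_perp_gen (hQ : (QuadraticMap.polarBilin Q).Nondegenerate)
    (S : Submodule F (Fin n → F)) (hS : 2 * finrank F S < n) :
    ∃ z : Fin n → F, Q z ≠ 0 ∧ ∀ s ∈ S, B Q s z = 0 := by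
  classical
  by_contra hcon
  push Not at hcon
  set Bf := QuadraticMap.polarBilin Q with hBf
  set P := LinearMap.BilinForm.orthogonal Bf S with hP
  have hPmem : ∀ x, x ∈ P ↔ ∀ s ∈ S, B Q s x = 0 := fun x => Iff.rfl
  have hPdim : finrank F P = n - finrank F S := by
    rw [hP, LinearMap.BilinForm.finrank_orthogonal hQ S, Module.finrank_fin_fun]
  have hQP : ∀ x ∈ P, Q x = 0 := by
    intro x hx
    by_contra h
    obtain ⟨s, hs, hsx⟩ := hcon x h
    exact hsx ((hPmem x).mp hx s hs)
  have hBP : ∀ x ∈ P, ∀ y ∈ P, B Q x y = 0 := by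
    intro x hx y hy
    have h1 := Q_add Q x y
    rw [hQP x hx, hQP y hy, hQP (x + y) (P.add_mem hx hy)] at h1
    linear_combination -h1
  have hle : P ≤ S := by
    intro v hv
    apply mem_of_forall_perp hQ S v
    intro x hx
    exact hBP x ((hPmem x).mpr hx) v hv
  have h1 := Submodule.finrank_mono hle
  have h3 : finrank F S ≤ n := by
    have := Submodule.finrank_le S
    rwa [Module.finrank_fin_fun] at this
  omega

/-- `S ∩ S^⊥ = 0` version: `dim S < n` -/
theorem GEO.nonsing_perp (hQ : (QuadraticMap.polarBilin Q).Nondegenerate)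
    (S : Submodule F (Fin n → F)) (hS : finrank F S < n)
    (hdisj : ∀ x ∈ S, (∀ s ∈ S, B Q s x = 0) → x = 0) :
    ∃ z : Fin n → F, Q z ≠ 0 ∧ ∀ s ∈ S, B Q s z = 0 := by
  classical
  by_contra hcon
  push Not at hcon
  set Bf := QuadraticMap.polarBilin Q with hBf
  set P := LinearMap.BilinForm.orthogonal Bf S with hP
  have hPmem : ∀ x, x ∈ P ↔ ∀ s ∈ S, B Q s x = 0 := fun x => Iff.rfl
  have hPdim : finrank F P = n - finrank F S := by
    rw [hP, LinearMap.BilinForm.finrank_orthogonal hQ S, Module.finrank_fin_fun]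
  have hQP : ∀ x ∈ P, Q x = 0 := by
    intro x hx
    by_contra h
    obtain ⟨s, hs, hsx⟩ := hcon x h
    exact hsx ((hPmem x).mp hx s hs)
  have hBP : ∀ x ∈ P, ∀ y ∈ P, B Q x y = 0 := by
    intro x hx y hy
    have h1 := Q_add Q x y
    rw [hQP x hx, hQP y hy, hQP (x + y) (P.add_mem hx hy)] at h1
    linear_combination -h1
  have hpos : 0 < finrank F P := by omega
  obtain ⟨v, hv0⟩ := Module.finrank_pos_iff_exists_ne_zero.mp hpos
  have hvS : (v : Fin n → F) ∈ S := by
    apply mem_of_forall_perp hQ S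
    intro x hx
    exact hBP x ((hPmem x).mpr hx) v v.2
  have := hdisj v hvS ((hPmem v).mp v.2)
  exact hv0 (Subtype.ext this)

/-- the span of three mutually orthogonal vectors, each nonsingular or zero, meets its orthogonal
complement trivially -/
theorem GEO.span3_disj (h2 : (2 : F) ≠ 0) {a b c : Fin n → F} (ha : Q a ≠ 0 ∨ a = 0)
    (hb : Q b ≠ 0 ∨ b = 0) (hc : Q c ≠ 0 ∨ c = 0) (hab : B Q a b = 0) (hac : B Q a c = 0)
    (hbc : B Q b c = 0) (x : Fin n → F)
    (hx : x ∈ Submodule.span F ({a, b, c} : Set (Fin n → F))) (hax : B Q a x = 0)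
    (hbx : B Q b x = 0) (hcx : B Q c x = 0) : x = 0 := by
  obtain ⟨α, β, γ, rfl⟩ := Submodule.mem_span_triple.mp hx
  have hba : B Q b a = 0 := by rw [B_comm]; exact hab
  have hca : B Q c a = 0 := by rw [B_comm]; exact hac
  have hcb : B Q c b = 0 := by rw [B_comm]; exact hbc
  have key : ∀ (t : Fin n → F) (τ : F), (Q t ≠ 0 ∨ t = 0) → τ * (2 * Q t) = 0 → τ • t = 0 := by
    intro t τ ht h
    rcases ht with ht | ht
    · rcases mul_eq_zero.mp h with h' | h'
      · rw [h', zero_smul]
      · exact absurd h' (mul_ne_zero h2 ht)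
    · rw [ht, smul_zero]
  rw [GEO.B_add_right, GEO.B_add_right, GEO.B_smul_right, GEO.B_smul_right, GEO.B_smul_right,
    B_self, hab, hac] at hax
  rw [GEO.B_add_right, GEO.B_add_right, GEO.B_smul_right, GEO.B_smul_right, GEO.B_smul_right,
    B_self, hba, hbc] at hbx
  rw [GEO.B_add_right, GEO.B_add_right, GEO.B_smul_right, GEO.B_smul_right, GEO.B_smul_right,
    B_self, hca, hcb] at hcx
  rw [key a α ha (by linear_combination hax), key b β hb (by linear_combination hbx),
    key c γ hc (by linear_combination hcx)]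
  simp

theorem GEO.finrank_span3_le (a b c : Fin n → F) :
    finrank F (Submodule.span F ({a, b, c} : Set (Fin n → F))) ≤ 3 := by
  classical
  have := finrank_span_finset_le_card (R := F) ({a, b, c} : Finset (Fin n → F))
  have h3 : ({a, b, c} : Finset (Fin n → F)).card ≤ 3 := Finset.card_le_three
  rw [Finset.coe_insert, Finset.coe_insert, Finset.coe_singleton] at this
  exact le_trans this h3

/-- a nonsingular vector orthogonal to three mutually orthogonal vectors, each nonsingular or zero -/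
theorem GEO.nonsing_perp3 (hQ : (QuadraticMap.polarBilin Q).Nondegenerate) (h2 : (2 : F) ≠ 0)
    (hn : 4 ≤ n) {a b c : Fin n → F} (ha : Q a ≠ 0 ∨ a = 0)
    (hb : Q b ≠ 0 ∨ b = 0) (hc : Q c ≠ 0 ∨ c = 0) (hab : B Q a b = 0) (hac : B Q a c = 0)
    (hbc : B Q b c = 0) :
    ∃ z : Fin n → F, Q z ≠ 0 ∧ B Q a z = 0 ∧ B Q b z = 0 ∧ B Q c z = 0 := by
  obtain ⟨z, hz, hzS⟩ := GEO.nonsing_perp hQ (Submodule.span F ({a, b, c} : Set (Fin n → F)))
    (by have := GEO.finrank_span3_le a b c; omega)
    (by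
      intro x hx hxS
      exact GEO.span3_disj h2 ha hb hc hab hac hbc x hx
        (hxS a (Submodule.subset_span (by simp))) (hxS b (Submodule.subset_span (by simp)))
        (hxS c (Submodule.subset_span (by simp))))
  exact ⟨z, hz, hzS a (Submodule.subset_span (by simp)), hzS b (Submodule.subset_span (by simp)),
    hzS c (Submodule.subset_span (by simp))⟩

/-- connectivity: two nonsingular vectors of `e^⊥` are both non-orthogonal to a third one -/
theorem GEO.conn (hQ : (QuadraticMap.polarBilin Q).Nondegenerate) (h2 : (2 : F) ≠ 0)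
    (hn : 4 ≤ n) {e z z' : Fin n → F} (he : Q e ≠ 0 ∨ e = 0) (hz : Q z ≠ 0) (hz' : Q z' ≠ 0)
    (hez : B Q e z = 0) (hez' : B Q e z' = 0) :
    ∃ z'' : Fin n → F, Q z'' ≠ 0 ∧ B Q e z'' = 0 ∧ B Q z'' z ≠ 0 ∧ B Q z'' z' ≠ 0 := by
  by_cases hzz : B Q z z' = 0
  · have hz'z : B Q z' z = 0 := by rw [B_comm]; exact hzz
    by_cases hs : Q z + Q z' = 0
    · obtain ⟨w, hw, hew, hzw, hz'w⟩ := GEO.nonsing_perp3 hQ h2 hn he (Or.inl hz) (Or.inl hz')
        hez hez' hzz
      have hwz : B Q w z = 0 := by rw [B_comm]; exact hzw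
      have hwz' : B Q w z' = 0 := by rw [B_comm]; exact hz'w
      refine ⟨z + z' + w, ?_, ?_, ?_, ?_⟩
      · rw [Q_add, Q_add, hzz, GEO.B_add_left, hzw, hz'w]
        intro h
        apply hw
        linear_combination h - hs
      · rw [GEO.B_add_right, GEO.B_add_right, hez, hez', hew]; ring
      · rw [GEO.B_add_left, GEO.B_add_left, B_self, hz'z, hwz]
        intro h
        exact mul_ne_zero h2 hz (by linear_combination h)
      · rw [GEO.B_add_left, GEO.B_add_left, B_self, hzz, hwz']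
        intro h
        exact mul_ne_zero h2 hz' (by linear_combination h)
    · refine ⟨z + z', ?_, ?_, ?_, ?_⟩
      · rw [Q_add, hzz, add_zero]; exact hs
      · rw [GEO.B_add_right, hez, hez']; ring
      · rw [GEO.B_add_left, B_self, hz'z, add_zero]; exact mul_ne_zero h2 hz
      · rw [GEO.B_add_left, B_self, hzz, zero_add]; exact mul_ne_zero h2 hz'
  · refine ⟨z, hz, hez, ?_, hzz⟩
    rw [B_self]; exact mul_ne_zero h2 hz

theorem GEO.finrank_span2_le (a b : Fin n → F) :
    finrank F (Submodule.span F ({a, b} : Set (Fin n → F))) ≤ 2 := finrank_span_pair_le a b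

/-- additive induction: `e^⊥` is generated by its nonsingular vectors -/
theorem GEO.ind (hQ : (QuadraticMap.polarBilin Q).Nondegenerate) (hn : 5 ≤ n) (e : Fin n → F)
    (P : (Fin n → F) → Prop) (hadd : ∀ x y, P x → P y → P (x + y)) (hneg : ∀ x, P x → P (-x))
    (hns : ∀ z, Q z ≠ 0 → B Q e z = 0 → P z) : ∀ x, B Q e x = 0 → P x := by
  intro x hex
  by_cases hx : Q x = 0
  · obtain ⟨z, hz, hzS⟩ := GEO.nonsing_perp_gen hQ (Submodule.span F ({e, x} : Set (Fin n → F)))
      (by have := GEO.finrank_span2_le e x; omega)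
    have hez : B Q e z = 0 := hzS e (Submodule.subset_span (by simp))
    have hxz : B Q x z = 0 := hzS x (Submodule.subset_span (by simp))
    have h1 : x = (x + z) + (-z) := by abel
    rw [h1]
    apply hadd
    · apply hns
      · rw [Q_add, hx, hxz, zero_add, add_zero]; exact hz
      · rw [GEO.B_add_right, hex, hez, add_zero]
    · apply hneg
      exact hns z hz hez
  · exact hns x hx hex

/-- a vector of any prescribed norm orthogonal to two orthogonal nonsingular vectors -/
theorem GEO.value_perp2 [Finite F] (hQ : (QuadraticMap.polarBilin Q).Nondegenerate)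
    (h2 : (2 : F) ≠ 0) (hn : 5 ≤ n) {a b : Fin n → F} (ha : Q a ≠ 0) (hb : Q b ≠ 0)
    (hab : B Q a b = 0) (ν : F) :
    ∃ y : Fin n → F, Q y = ν ∧ B Q a y = 0 ∧ B Q b y = 0 := by
  classical
  set S : Submodule F (Fin n → F) := Submodule.span F ({a, b, 0} : Set (Fin n → F)) with hS
  set Bf := QuadraticMap.polarBilin Q with hBf
  set P := LinearMap.BilinForm.orthogonal Bf S with hP
  have hPmem : ∀ x, x ∈ P ↔ ∀ s ∈ S, B Q s x = 0 := fun x => Iff.rfl
  have hSdim : finrank F S ≤ 2 := by
    have h0 : ({a, b, 0} : Set (Fin n → F)) = insert 0 ({a, b} : Set (Fin n → F)) := by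
      ext t; simp only [Set.mem_insert_iff, Set.mem_singleton_iff]; tauto
    rw [hS, h0, Submodule.span_insert_zero]
    exact GEO.finrank_span2_le a b
  have hPdim : finrank F P = n - finrank F S := by
    rw [hP, LinearMap.BilinForm.finrank_orthogonal hQ S, Module.finrank_fin_fun]
  obtain ⟨v, hv0, hQv⟩ := Cfsg.Agent.Helper13.exists_singular (Q.comp P.subtype) (by omega)
  have hv0' : (v : Fin n → F) ≠ 0 := fun h0 => hv0 (Subtype.ext h0)
  have hQv' : Q (v : Fin n → F) = 0 := hQv
  have hvP := (hPmem v).mp v.2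
  obtain ⟨f₀, hf₀P, hf₀⟩ : ∃ f₀ ∈ P, B Q f₀ v ≠ 0 := by
    by_contra hcon
    push Not at hcon
    apply hv0'
    have hvS : (v : Fin n → F) ∈ S := by
      apply mem_of_forall_perp hQ S
      intro x hx
      exact hcon x ((hPmem x).mpr hx)
    exact GEO.span3_disj h2 (Or.inl ha) (Or.inl hb) (Or.inr rfl) hab (GEO.B_zero_right a)
      (GEO.B_zero_right b) v hvS (hvP a (Submodule.subset_span (by simp)))
      (hvP b (Submodule.subset_span (by simp))) (GEO.B_zero_left _)
  have hf₀S := (hPmem f₀).mp hf₀P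
  obtain ⟨f₁, hf₁⟩ : ∃ f₁ : Fin n → F, f₁ = (B Q f₀ v)⁻¹ • f₀ := ⟨_, rfl⟩
  have hf₁v : B Q f₁ v = 1 := by
    rw [hf₁, GEO.B_smul_left, inv_mul_cancel₀ hf₀]
  have haf₁ : B Q a f₁ = 0 := by
    rw [hf₁, GEO.B_smul_right, hf₀S a (Submodule.subset_span (by simp)), mul_zero]
  have hbf₁ : B Q b f₁ = 0 := by
    rw [hf₁, GEO.B_smul_right, hf₀S b (Submodule.subset_span (by simp)), mul_zero]
  refine ⟨f₁ + (ν - Q f₁) • (v : Fin n → F), ?_, ?_, ?_⟩
  · rw [Q_add, Q_smul, hQv', GEO.B_smul_right, hf₁v]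
    ring
  · rw [GEO.B_add_right, GEO.B_smul_right, haf₁, hvP a (Submodule.subset_span (by simp))]
    ring
  · rw [GEO.B_add_right, GEO.B_smul_right, hbf₁, hvP b (Submodule.subset_span (by simp))]
    ring

end Cfsg.Agent.OS6P
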