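import Mathlib
import Cfsg.Prelude.Def_GeometricClasses
import Cfsg.Agent.Helper28.OrthSim3
import Cfsg.Agent.Helper28.OS6Geo

set_option autoImplicit false
set_option linter.unusedSectionVars false
set_option linter.unusedVariables false

/-! # `O_n(q) < SL_n(q)`, small `n` (S5798): tools for the first transvection (helper28).

The transported form `Q ∘ g⁻¹`, LEMMA T (a commutator of `r_e r_c` with `m ∈ M` commuting with `r_c` and
fixing `e` is a transvection with centre `e`), and the nonsingular witness of a non-similarity. -/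

namespace Cfsg.Agent.OS6P

open Matrix Module Cfsg.Agent.Helper28.Sg Cfsg.Agent.Helper28.Spin Cfsg.Agent.Helper28.SLMax
  Cfsg.Agent.Helper28.SimMax Cfsg.Agent.Helper28.OSim

variable {F : Type*} [Field F] {n : ℕ} {Q : QuadraticForm F (Fin n → F)}

/-! ### the transported form -/

/-- the form `Q ∘ g⁻¹` -/
noncomputable def TOOLS.Qg (Q : QuadraticForm F (Fin n → F))
    (g : Matrix.GeneralLinearGroup (Fin n) F) : QuadraticForm F (Fin n → F) :=
  Q.comp (Matrix.toLin' ((g⁻¹ : Matrix.GeneralLinearGroup (Fin n) F) : Matrix (Fin n) (Fin n) F))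

theorem TOOLS.Qg_apply (g : Matrix.GeneralLinearGroup (Fin n) F) (x : Fin n → F) :
    TOOLS.Qg Q g x = Q (((g⁻¹ : Matrix.GeneralLinearGroup (Fin n) F) :
      Matrix (Fin n) (Fin n) F) *ᵥ x) := by
  unfold TOOLS.Qg
  rw [QuadraticMap.comp_apply, Matrix.toLin'_apply]

theorem TOOLS.B_Qg (g : Matrix.GeneralLinearGroup (Fin n) F) (x y : Fin n → F) :
    B (TOOLS.Qg Q g) x y = B Q (((g⁻¹ : Matrix.GeneralLinearGroup (Fin n) F) :
      Matrix (Fin n) (Fin n) F) *ᵥ x) (((g⁻¹ : Matrix.GeneralLinearGroup (Fin n) F) :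
      Matrix (Fin n) (Fin n) F) *ᵥ y) := by
  show QuadraticMap.polar _ x y = QuadraticMap.polar _ _ _
  unfold QuadraticMap.polar
  rw [TOOLS.Qg_apply, TOOLS.Qg_apply, TOOLS.Qg_apply, Matrix.mulVec_add]

theorem TOOLS.g_ginv (g : Matrix.GeneralLinearGroup (Fin n) F) (y : Fin n → F) :
    (g : Matrix (Fin n) (Fin n) F) *ᵥ
      (((g⁻¹ : Matrix.GeneralLinearGroup (Fin n) F) : Matrix (Fin n) (Fin n) F) *ᵥ y) = y := by
  rw [Matrix.mulVec_mulVec, ← Units.val_mul, mul_inv_cancel, Units.val_one, Matrix.one_mulVec]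

theorem TOOLS.ginv_g (g : Matrix.GeneralLinearGroup (Fin n) F) (y : Fin n → F) :
    ((g⁻¹ : Matrix.GeneralLinearGroup (Fin n) F) : Matrix (Fin n) (Fin n) F) *ᵥ
      ((g : Matrix (Fin n) (Fin n) F) *ᵥ y) = y := by
  rw [Matrix.mulVec_mulVec, ← Units.val_mul, inv_mul_cancel, Units.val_one, Matrix.one_mulVec]

theorem TOOLS.Qg_nondeg (hQ : (QuadraticMap.polarBilin Q).Nondegenerate)
    (g : Matrix.GeneralLinearGroup (Fin n) F) :
    (QuadraticMap.polarBilin (TOOLS.Qg Q g)).Nondegenerate := by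
  have key : ∀ x : Fin n → F, (∀ y, B (TOOLS.Qg Q g) x y = 0) → x = 0 := by
    intro x hx
    have h1 : ((g⁻¹ : Matrix.GeneralLinearGroup (Fin n) F) : Matrix (Fin n) (Fin n) F) *ᵥ x = 0 := by
      apply hQ.1
      intro y
      have := hx ((g : Matrix (Fin n) (Fin n) F) *ᵥ y)
      rw [TOOLS.B_Qg, TOOLS.ginv_g] at this
      exact this
    rw [← TOOLS.g_ginv g x, h1, Matrix.mulVec_zero]
  constructor
  · intro x hx
    exact key x hx
  · intro x hx
    apply key x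
    intro y
    rw [B_comm]
    exact hx y

/-- overgroups of `CO(Q) ∩ SL` containing `g` also contain `CO(Q ∘ g⁻¹) ∩ SL` -/
theorem TOOLS.hHM_Qg {M : Subgroup (Matrix.GeneralLinearGroup (Fin n) F)}
    (hHM : Cfsg.Geo.quadSimilarityGroup (⇑Q) ⊓ SL n F ≤ M)
    {g : Matrix.GeneralLinearGroup (Fin n) F} (hgM : g ∈ M) :
    Cfsg.Geo.quadSimilarityGroup (⇑(TOOLS.Qg Q g)) ⊓ SL n F ≤ M := by
  rintro A ⟨⟨c, hc⟩, hA⟩
  have h1 : g⁻¹ * A * g ∈ Cfsg.Geo.quadSimilarityGroup (⇑Q) ⊓ SL n F := by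
    constructor
    · refine ⟨c, fun v => ?_⟩
      have := hc ((g : Matrix (Fin n) (Fin n) F) *ᵥ v)
      rw [TOOLS.Qg_apply, TOOLS.Qg_apply, TOOLS.ginv_g] at this
      rw [Units.val_mul, Units.val_mul, ← Matrix.mulVec_mulVec, ← Matrix.mulVec_mulVec]
      exact this
    · have hA' : A ∈ SL n F := hA
      show g⁻¹ * A * g ∈ SL n F
      rw [mem_SL_iff] at hA' ⊢
      rw [Units.val_mul, Units.val_mul, Matrix.det_mul, Matrix.det_mul, hA', mul_one,
        ← Matrix.det_mul, ← Units.val_mul, inv_mul_cancel, Units.val_one, Matrix.det_one]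
  have h2 := hHM h1
  have h3 : A = g * (g⁻¹ * A * g) * g⁻¹ := by group
  rw [h3]
  exact M.mul_mem (M.mul_mem hgM h2) (M.inv_mem hgM)

/-! ### reflections: involution and commutation -/

theorem GEO.R_sq {z : Fin n → F} (hz : Q z ≠ 0) : GEO.R Q z * GEO.R Q z = 1 := by
  apply Cfsg.Agent.Helper28.Spin.matrix_ext_mulVec
  intro x
  rw [← Matrix.mulVec_mulVec, GEO.R_mulVec, GEO.R_mulVec, GEO.B_sub_right, GEO.B_smul_right,
    B_self, Matrix.one_mulVec]
  have h : (Q z)⁻¹ * (B Q z x - (Q z)⁻¹ * B Q z x * (2 * Q z)) = - ((Q z)⁻¹ * B Q z x) := by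
    field_simp
    ring
  rw [h, neg_smul]
  abel

/-- a matrix fixing `c` and preserving `B(c, ·)` commutes with the reflection in `c` -/
theorem GEO.R_comm_of {c : Fin n → F} (A : Matrix (Fin n) (Fin n) F)
    (h1 : A *ᵥ c = c) (h2 : ∀ x, B Q c (A *ᵥ x) = B Q c x) :
    GEO.R Q c * A = A * GEO.R Q c := by
  apply Cfsg.Agent.Helper28.Spin.matrix_ext_mulVec
  intro x
  rw [← Matrix.mulVec_mulVec, ← Matrix.mulVec_mulVec, GEO.R_mulVec, GEO.R_mulVec, h2,
    Matrix.mulVec_sub, Matrix.mulVec_smul, h1]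

/-! ### LEMMA T -/

/-- **LEMMA T**: `m ∈ M` commuting with the reflection `r_c` and fixing `e` (`c`, `e` nonsingular):
then `r_e m r_e m⁻¹ = (r_e r_c) m (r_c r_e) m⁻¹ ∈ M` is the transvection `1 + e ⊗ φ`,
`φ x = (Q e)⁻¹ (B(e, m⁻¹ x) - B(e, x))`. -/
theorem TOOLS.lemmaT {M : Subgroup (Matrix.GeneralLinearGroup (Fin n) F)}
    (hHM : Cfsg.Geo.quadSimilarityGroup (⇑Q) ⊓ SL n F ≤ M)
    {m : Matrix.GeneralLinearGroup (Fin n) F} (hm : m ∈ M) {c e : Fin n → F}
    (hc : Q c ≠ 0) (he : Q e ≠ 0)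
    (hcm : GEO.R Q c * (m : Matrix (Fin n) (Fin n) F) = (m : Matrix (Fin n) (Fin n) F) * GEO.R Q c)
    (hme : (m : Matrix (Fin n) (Fin n) F) *ᵥ e = e) :
    ∃ φ : Fin n → F, φ ⬝ᵥ e = 0 ∧
      (∀ v, B Q e ((m : Matrix (Fin n) (Fin n) F) *ᵥ v) ≠ B Q e v → φ ≠ 0) ∧ E e φ ∈ MS M := by
  obtain ⟨φ, hφ⟩ : ∃ φ : Fin n → F, φ = (Q e)⁻¹ •
      (pv Q e ᵥ* ((m⁻¹ : Matrix.GeneralLinearGroup (Fin n) F) : Matrix (Fin n) (Fin n) F)
        - pv Q e) := ⟨_, rfl⟩
  have hφx : ∀ x, φ ⬝ᵥ x = (Q e)⁻¹ * (B Q e (((m⁻¹ : Matrix.GeneralLinearGroup (Fin n) F) :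
      Matrix (Fin n) (Fin n) F) *ᵥ x) - B Q e x) := by
    intro x
    rw [hφ, smul_dotProduct, sub_dotProduct, ← Matrix.dotProduct_mulVec, pv_dot, pv_dot,
      smul_eq_mul]
  have hmie : ((m⁻¹ : Matrix.GeneralLinearGroup (Fin n) F) : Matrix (Fin n) (Fin n) F) *ᵥ e = e := by
    conv_lhs => rw [← hme]
    exact TOOLS.ginv_g m e
  refine ⟨φ, ?_, ?_, ?_⟩
  · rw [hφx, hmie, sub_self, mul_zero]
  · intro v hv h0
    have h1 := hφx ((m : Matrix (Fin n) (Fin n) F) *ᵥ v)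
    rw [h0, zero_dotProduct, TOOLS.ginv_g] at h1
    rcases mul_eq_zero.mp h1.symm with h | h
    · exact he (inv_eq_zero.mp h)
    · exact hv (sub_eq_zero.mp h).symm
  · -- membership
    have hmem : (GEO.R Q e * GEO.R Q c) * (m : Matrix (Fin n) (Fin n) F) *
        (GEO.R Q c * GEO.R Q e) *
        ((m⁻¹ : Matrix.GeneralLinearGroup (Fin n) F) : Matrix (Fin n) (Fin n) F) ∈ MS M := by
      refine MS_mul (MS_mul (MS_mul (GEO.RR_mem M hHM he hc) ⟨m, hm, rfl⟩)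
        (GEO.RR_mem M hHM hc he)) ⟨m⁻¹, M.inv_mem hm, rfl⟩
    have heq : (GEO.R Q e * GEO.R Q c) * (m : Matrix (Fin n) (Fin n) F) *
        (GEO.R Q c * GEO.R Q e) *
        ((m⁻¹ : Matrix.GeneralLinearGroup (Fin n) F) : Matrix (Fin n) (Fin n) F) = E e φ := by
      have h1 : (GEO.R Q e * GEO.R Q c) * (m : Matrix (Fin n) (Fin n) F) *
          (GEO.R Q c * GEO.R Q e) = GEO.R Q e * (m : Matrix (Fin n) (Fin n) F) * GEO.R Q e := by
        calc (GEO.R Q e * GEO.R Q c) * (m : Matrix (Fin n) (Fin n) F) * (GEO.R Q c * GEO.R Q e)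
            = GEO.R Q e * ((GEO.R Q c * (m : Matrix (Fin n) (Fin n) F)) * GEO.R Q c) * GEO.R Q e := by
              simp only [Matrix.mul_assoc]
          _ = GEO.R Q e * (((m : Matrix (Fin n) (Fin n) F) * GEO.R Q c) * GEO.R Q c) * GEO.R Q e := by
              rw [hcm]
          _ = GEO.R Q e * ((m : Matrix (Fin n) (Fin n) F) * (GEO.R Q c * GEO.R Q c)) * GEO.R Q e := by
              rw [Matrix.mul_assoc (m : Matrix (Fin n) (Fin n) F)]
          _ = GEO.R Q e * (m : Matrix (Fin n) (Fin n) F) * GEO.R Q e := by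
              rw [GEO.R_sq hc, Matrix.mul_one]
      rw [h1]
      apply Cfsg.Agent.Helper28.Spin.matrix_ext_mulVec
      intro x
      rw [← Matrix.mulVec_mulVec, ← Matrix.mulVec_mulVec, ← Matrix.mulVec_mulVec, E_mulVec, hφx]
      set y := ((m⁻¹ : Matrix.GeneralLinearGroup (Fin n) F) : Matrix (Fin n) (Fin n) F) *ᵥ x with hy
      have hz : (m : Matrix (Fin n) (Fin n) F) *ᵥ (GEO.R Q e *ᵥ y) =
          x - ((Q e)⁻¹ * B Q e y) • e := by
        rw [GEO.R_mulVec, Matrix.mulVec_sub, Matrix.mulVec_smul, hme, hy, TOOLS.g_ginv]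
      rw [hz, GEO.R_mulVec, GEO.B_sub_right, GEO.B_smul_right, B_self]
      have h : (Q e)⁻¹ * (B Q e x - (Q e)⁻¹ * B Q e y * (2 * Q e)) =
          (Q e)⁻¹ * B Q e x - 2 * ((Q e)⁻¹ * B Q e y) := by
        field_simp
      rw [h]
      module
    rw [← heq]
    exact hmem

/-! ### the nonsingular witness of a non-similarity -/

/-- a non-similarity `g` moves the orthogonal complement of some nonsingular vector `a` off the
orthogonal complement of `g a` -/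
theorem TOOLS.witness (h2 : (2 : F) ≠ 0) (hQ : (QuadraticMap.polarBilin Q).Nondegenerate)
    (hn : 5 ≤ n) (g : Matrix.GeneralLinearGroup (Fin n) F)
    (hgS : g ∉ Cfsg.Geo.quadSimilarityGroup (⇑Q)) :
    ∃ a x : Fin n → F, Q a ≠ 0 ∧ B Q a x = 0 ∧
      B Q ((g : Matrix (Fin n) (Fin n) F) *ᵥ a) ((g : Matrix (Fin n) (Fin n) F) *ᵥ x) ≠ 0 := by
  classical
  by_contra hcon
  push Not at hcon
  apply hgS
  have hall : ∀ a : Fin n → F, Q a ≠ 0 → ∃ e : F, ∀ x,
      B Q ((g : Matrix (Fin n) (Fin n) F) *ᵥ a) ((g : Matrix (Fin n) (Fin n) F) *ᵥ x)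
        = e * B Q a x := by
    intro a ha
    obtain ⟨e, he⟩ := exists_smul_of_ker (pv Q a)
      (pv Q ((g : Matrix (Fin n) (Fin n) F) *ᵥ a) ᵥ* (g : Matrix (Fin n) (Fin n) F)) (by
        intro x hx
        rw [pv_dot] at hx
        rw [← Matrix.dotProduct_mulVec, pv_dot]
        exact hcon a x ha hx)
    refine ⟨e, fun x => ?_⟩
    rw [← pv_dot, Matrix.dotProduct_mulVec, he, smul_dotProduct, pv_dot, smul_eq_mul]
  choose e he using hall
  have hstep : ∀ (a a' : Fin n → F) (ha : Q a ≠ 0) (ha' : Q a' ≠ 0), B Q a a' ≠ 0 →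
      e a ha = e a' ha' := by
    intro a a' ha ha' haa'
    have h1 := he a ha a'
    have h3 := he a' ha' a
    rw [B_comm, h3, B_comm Q a' a] at h1
    exact (mul_right_cancel₀ haa' h1).symm
  have hconst : ∀ (a a' : Fin n → F) (ha : Q a ≠ 0) (ha' : Q a' ≠ 0), e a ha = e a' ha' := by
    intro a a' ha ha'
    obtain ⟨z, hz, -, hza, hza'⟩ := GEO.conn hQ h2 (by omega) (e := 0) (Or.inr rfl) ha ha'
      (GEO.B_zero_left a) (GEO.B_zero_left a')
    rw [← hstep z a hz ha hza, hstep z a' hz ha' hza']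
  obtain ⟨a₀, ha₀, -⟩ := GEO.nonsing_perp_gen hQ (⊥ : Submodule F (Fin n → F)) (by
    rw [finrank_bot]; omega)
  set c : F := e a₀ ha₀ with hc
  have hBall : ∀ v : Fin n → F, B Q 0 v = 0 → ∀ x,
      B Q ((g : Matrix (Fin n) (Fin n) F) *ᵥ v) ((g : Matrix (Fin n) (Fin n) F) *ᵥ x)
        = c * B Q v x := by
    apply GEO.ind hQ hn (0 : Fin n → F)
      (fun v => ∀ x, B Q ((g : Matrix (Fin n) (Fin n) F) *ᵥ v)
        ((g : Matrix (Fin n) (Fin n) F) *ᵥ x) = c * B Q v x)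
    · intro v w hv hw x
      rw [Matrix.mulVec_add, GEO.B_add_left, GEO.B_add_left, hv x, hw x]
      ring
    · intro v hv x
      rw [Matrix.mulVec_neg, GEO.B_neg_left, GEO.B_neg_left, hv x]
      ring
    · intro z hz _ x
      rw [he z hz x, hconst z a₀ hz ha₀]
  have hc0 : c ≠ 0 := by
    intro h0
    have hgv : (g : Matrix (Fin n) (Fin n) F) *ᵥ a₀ = 0 := by
      apply hQ.1
      intro y
      show B Q _ y = 0
      rw [← TOOLS.g_ginv g y, hBall a₀ (GEO.B_zero_left _), h0, zero_mul]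
    apply ha₀
    rw [← TOOLS.ginv_g g a₀, hgv, Matrix.mulVec_zero]
    exact GEO.Q_zero
  refine ⟨Units.mk0 c hc0, fun v => ?_⟩
  show Q _ = c * Q v
  have h4 := hBall v (GEO.B_zero_left _) v
  rw [B_self, B_self] at h4
  have h5 : (2 : F) * (Q ((g : Matrix (Fin n) (Fin n) F) *ᵥ v) - c * Q v) = 0 := by
    linear_combination h4
  rcases mul_eq_zero.mp h5 with h6 | h6
  · exact absurd h6 h2
  · exact sub_eq_zero.mp h6

end Cfsg.Agent.OS6P
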