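import Mathlib
import Cfsg.Prelude.Def_GeometricClasses
import Cfsg.Agent.Helper28.OrthSim3
import Cfsg.Agent.Helper28.OS6Geo
import Cfsg.Agent.Helper28.OS6Tools

set_option autoImplicit false
set_option linter.unusedSectionVars false
set_option linter.unusedVariables false

/-! # `O_n(q) < SL_n(q)`, `n ≥ 6`, `q` odd (S5798): the first transvection (helper28).

`g ∈ M \ CO(Q)`, `M ≥ CO(Q) ∩ SL`: then `M` contains a nontrivial transvection with `Q`-nonsingular
centre.  Route: `Q' = Q ∘ g⁻¹`; a `Q'`-nonsingular `v` with `B'(v,·)` not proportional to `B(v,·)`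
(`TOOLS.witness`), `c ⊥ v` nonsingular with `B'(c, v) = 0`, a `Q'`-nonsingular `y ⊥ c, ⊥' c` outside
`span {v, v°}`, `m = r'_v r'_y ∈ M`, `e ⊥' v, y` nonsingular with `B(e, v) ≠ 0`, and LEMMA T. -/

namespace Cfsg.Agent.OS6P

open Matrix Module Cfsg.Agent.Helper28.Sg Cfsg.Agent.Helper28.Spin Cfsg.Agent.Helper28.SLMax
  Cfsg.Agent.Helper28.SimMax Cfsg.Agent.Helper28.OSim

variable {F : Type*} [Field F] {n : ℕ} {Q : QuadraticForm F (Fin n → F)}

theorem FIRST.Q_sub (x y : Fin n → F) : Q (x - y) = Q x + Q y - B Q x y := by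
  rw [sub_eq_add_neg, Q_add, GEO.Q_neg, GEO.B_neg_right]
  ring

/-- a nonsingular vector of a subspace `U` outside a subspace `Z`, given a nonsingular `v ∈ U ∩ Z`
and some `w ∈ U \ Z` -/
theorem FIRST.nsout (h2 : (2 : F) ≠ 0) (U Z : Submodule F (Fin n → F)) {v w : Fin n → F}
    (hvU : v ∈ U) (hvZ : v ∈ Z) (hv : Q v ≠ 0) (hwU : w ∈ U) (hwZ : w ∉ Z) :
    ∃ y ∈ U, Q y ≠ 0 ∧ y ∉ Z := by
  by_cases hw : Q w = 0
  · by_cases hp : Q (w + v) = 0
    · refine ⟨w - v, U.sub_mem hwU hvU, ?_, ?_⟩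
      · rw [FIRST.Q_sub, hw]
        rw [Q_add, hw] at hp
        intro hm
        apply mul_ne_zero h2 hv
        linear_combination hp + hm
      · intro h
        apply hwZ
        have : w = (w - v) + v := by abel
        rw [this]
        exact Z.add_mem h hvZ
    · refine ⟨w + v, U.add_mem hwU hvU, hp, ?_⟩
      intro h
      apply hwZ
      have : w = (w + v) - v := by abel
      rw [this]
      exact Z.sub_mem h hvZ
  · exact ⟨w, hwU, hw, hwZ⟩

/-- **the first transvection** -/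
theorem FIRST.main [Finite F] (h2 : (2 : F) ≠ 0) (hQ : (QuadraticMap.polarBilin Q).Nondegenerate)
    (hn : 6 ≤ n) (M : Subgroup (Matrix.GeneralLinearGroup (Fin n) F))
    (hHM : Cfsg.Geo.quadSimilarityGroup (⇑Q) ⊓ SL n F ≤ M)
    (g : Matrix.GeneralLinearGroup (Fin n) F) (hgM : g ∈ M)
    (hgS : g ∉ Cfsg.Geo.quadSimilarityGroup (⇑Q)) :
    ∃ e φ : Fin n → F, Q e ≠ 0 ∧ φ ⬝ᵥ e = 0 ∧ φ ≠ 0 ∧ E e φ ∈ MS M := by
  classical
  obtain ⟨Q', hQ'def⟩ : ∃ Q' : QuadraticForm F (Fin n → F), Q' = TOOLS.Qg Q g := ⟨_, rfl⟩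
  have hQ' : (QuadraticMap.polarBilin Q').Nondegenerate := by
    rw [hQ'def]; exact TOOLS.Qg_nondeg hQ g
  have hHM' : Cfsg.Geo.quadSimilarityGroup (⇑Q') ⊓ SL n F ≤ M := by
    rw [hQ'def]; exact TOOLS.hHM_Qg hHM hgM
  -- (1) the witness
  have hgS' : g ∉ Cfsg.Geo.quadSimilarityGroup (⇑Q') := by
    rintro ⟨c, hc⟩
    apply hgS
    refine ⟨c, fun w => ?_⟩
    have := hc ((g : Matrix (Fin n) (Fin n) F) *ᵥ w)
    rw [hQ'def, TOOLS.Qg_apply, TOOLS.Qg_apply, TOOLS.ginv_g, TOOLS.ginv_g] at this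
    exact this
  obtain ⟨v, x₀, hv, hvx', hvx⟩ := TOOLS.witness h2 hQ' (by omega) g hgS'
  have hvx0 : B Q v x₀ ≠ 0 := by
    rw [hQ'def, TOOLS.B_Qg, TOOLS.ginv_g, TOOLS.ginv_g] at hvx
    exact hvx
  -- (2) the two dual vectors of `v`
  obtain ⟨vo, hvo⟩ := pv_surj hQ' (pv Q v)
  have hvo' : ∀ x, B Q' vo x = B Q v x := by
    intro x
    rw [← pv_dot, hvo, pv_dot]
  obtain ⟨vs, hvs⟩ := pv_surj hQ (pv Q' v)
  have hvs' : ∀ x, B Q vs x = B Q' v x := by
    intro x
    rw [← pv_dot, hvs, pv_dot]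
  -- (3) the vector `c`
  obtain ⟨c, hc, hcS⟩ := GEO.nonsing_perp_gen hQ (Submodule.span F ({v, vs} : Set (Fin n → F)))
    (by have := GEO.finrank_span2_le v vs; omega)
  have hvc : B Q v c = 0 := hcS v (Submodule.subset_span (by simp))
  have hvc' : B Q' v c = 0 := by
    rw [← hvs']; exact hcS vs (Submodule.subset_span (by simp))
  have hcv : B Q c v = 0 := by rw [B_comm]; exact hvc
  have hcv' : B Q' c v = 0 := by rw [B_comm]; exact hvc'
  -- (4) the vector `y`
  obtain ⟨cs, hcs⟩ := pv_surj hQ (pv Q' c)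
  have hcs' : ∀ x, B Q cs x = B Q' c x := by
    intro x
    rw [← pv_dot, hcs, pv_dot]
  set Sc : Submodule F (Fin n → F) := Submodule.span F ({c, cs} : Set (Fin n → F)) with hSc
  set L := LinearMap.BilinForm.orthogonal (QuadraticMap.polarBilin Q) Sc with hL
  have hLmem : ∀ x, x ∈ L ↔ ∀ s ∈ Sc, B Q s x = 0 := fun x => Iff.rfl
  have hLdim : finrank F L = n - finrank F Sc := by
    rw [hL, LinearMap.BilinForm.finrank_orthogonal hQ Sc, Module.finrank_fin_fun]
  have hLof : ∀ x, B Q c x = 0 → B Q' c x = 0 → x ∈ L := by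
    intro x h1 h2'
    rw [hLmem]
    intro s hs
    obtain ⟨α, β, rfl⟩ := Submodule.mem_span_pair.mp hs
    rw [GEO.B_add_left, GEO.B_smul_left, GEO.B_smul_left, h1, hcs', h2']
    ring
  set Z : Submodule F (Fin n → F) := Submodule.span F ({v, vo} : Set (Fin n → F)) with hZ
  have hvZ : v ∈ Z := Submodule.subset_span (by simp)
  have hvL : v ∈ L := hLof v hcv hcv'
  obtain ⟨w, hwL, hwZ⟩ : ∃ w ∈ L, w ∉ Z := by
    by_contra hcon
    push Not at hcon
    have hle : L ≤ Z := fun x hx => hcon x hx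
    have h1 := Submodule.finrank_mono hle
    have h3 : finrank F Sc ≤ 2 := GEO.finrank_span2_le c cs
    have h4 : finrank F Z ≤ 2 := GEO.finrank_span2_le v vo
    omega
  obtain ⟨y, hyL, hy, hyZ⟩ := FIRST.nsout (Q := Q') h2 L Z hvL hvZ hv hwL hwZ
  have hcy : B Q c y = 0 := (hLmem y).mp hyL c (Submodule.subset_span (by simp))
  have hcy' : B Q' c y = 0 := by
    rw [← hcs']; exact (hLmem y).mp hyL cs (Submodule.subset_span (by simp))
  have hyc' : B Q' y c = 0 := by rw [B_comm]; exact hcy'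
  -- (5) the vector `k`
  obtain ⟨k, hk1, hk2, hk3⟩ : ∃ k : Fin n → F, B Q' v k = 0 ∧ B Q' y k = 0 ∧ B Q v k ≠ 0 := by
    by_contra hcon
    push Not at hcon
    have hmem : vo ∈ Submodule.span F ({v, y} : Set (Fin n → F)) := by
      apply mem_of_forall_perp hQ'
      intro x hx
      rw [B_comm, hvo']
      exact hcon x (hx v (Submodule.subset_span (by simp))) (hx y (Submodule.subset_span (by simp)))
    obtain ⟨α, β, hαβ⟩ := Submodule.mem_span_pair.mp hmem
    by_cases hβ : β = 0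
    · apply hvx0
      rw [← hvo', ← hαβ, hβ, zero_smul, add_zero, GEO.B_smul_left, hvx', mul_zero]
    · apply hyZ
      have hy' : y = β⁻¹ • vo - (β⁻¹ * α) • v := by
        rw [← hαβ, smul_add, smul_smul, smul_smul, inv_mul_cancel₀ hβ, one_smul]
        abel
      rw [hy']
      exact Z.sub_mem (Z.smul_mem _ (Submodule.subset_span (by simp))) (Z.smul_mem _ hvZ)
  -- (6) the centre `e`
  obtain ⟨e, he, hve', hye', hve⟩ : ∃ e : Fin n → F, Q e ≠ 0 ∧ B Q' v e = 0 ∧ B Q' y e = 0 ∧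
      B Q v e ≠ 0 := by
    by_cases hk : Q k = 0
    · by_cases hp : Q (k + c) = 0
      · refine ⟨k - c, ?_, ?_, ?_, ?_⟩
        · rw [FIRST.Q_sub, hk]
          rw [Q_add, hk] at hp
          intro hm
          apply mul_ne_zero h2 hc
          linear_combination hp + hm
        · rw [GEO.B_sub_right, hk1, hvc', sub_zero]
        · rw [GEO.B_sub_right, hk2, hyc', sub_zero]
        · rw [GEO.B_sub_right, hvc, sub_zero]; exact hk3
      · refine ⟨k + c, hp, ?_, ?_, ?_⟩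
        · rw [GEO.B_add_right, hk1, hvc', add_zero]
        · rw [GEO.B_add_right, hk2, hyc', add_zero]
        · rw [GEO.B_add_right, hvc, add_zero]; exact hk3
    · exact ⟨k, hk, hk1, hk2, hk3⟩
  -- (7) the element `m` and LEMMA T
  obtain ⟨m, hmM, hmval⟩ := GEO.RR_mem M hHM' hv hy
  have hmx : ∀ x, (m : Matrix (Fin n) (Fin n) F) *ᵥ x =
      x - ((Q' y)⁻¹ * B Q' y x) • y -
        ((Q' v)⁻¹ * B Q' v (x - ((Q' y)⁻¹ * B Q' y x) • y)) • v := by
    intro x
    rw [hmval, ← Matrix.mulVec_mulVec, GEO.R_mulVec, GEO.R_mulVec]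
  have hme : (m : Matrix (Fin n) (Fin n) F) *ᵥ e = e := by
    rw [hmx, hye', mul_zero, zero_smul, sub_zero, hve', mul_zero, zero_smul, sub_zero]
  have hmc : (m : Matrix (Fin n) (Fin n) F) *ᵥ c = c := by
    rw [hmx, hyc', mul_zero, zero_smul, sub_zero, hvc', mul_zero, zero_smul, sub_zero]
  have hBc : ∀ x, B Q c ((m : Matrix (Fin n) (Fin n) F) *ᵥ x) = B Q c x := by
    intro x
    rw [hmx, GEO.B_sub_right, GEO.B_sub_right, GEO.B_smul_right, GEO.B_smul_right, hcy, hcv]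
    ring
  have hcm := GEO.R_comm_of (Q := Q) (c := c) (m : Matrix (Fin n) (Fin n) F) hmc hBc
  obtain ⟨φ, hφe, hφne, hEφ⟩ := TOOLS.lemmaT hHM hmM hc he hcm hme
  -- nontriviality
  obtain ⟨w₀, hw1, hw2⟩ : ∃ w₀ : Fin n → F, B Q' y w₀ = 0 ∧ B Q' v w₀ ≠ 0 := by
    by_contra hcon
    push Not at hcon
    have hmem : v ∈ Submodule.span F ({y, y} : Set (Fin n → F)) := by
      apply mem_of_forall_perp hQ'
      intro x hx
      rw [B_comm]
      exact hcon x (hx y (Submodule.subset_span (by simp)))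
    obtain ⟨α, β, hαβ⟩ := Submodule.mem_span_pair.mp hmem
    have hαβ' : (α + β) • y = v := by rw [add_smul]; exact hαβ
    have hne : α + β ≠ 0 := by
      intro h0
      rw [h0, zero_smul] at hαβ'
      apply hv
      rw [← hαβ']
      exact GEO.Q_zero
    apply hyZ
    have hy' : y = (α + β)⁻¹ • v := by
      rw [← hαβ', smul_smul, inv_mul_cancel₀ hne, one_smul]
    rw [hy']
    exact Z.smul_mem _ hvZ
  have hφ0 : φ ≠ 0 := by
    apply hφne w₀
    rw [hmx, hw1, mul_zero, zero_smul, sub_zero, GEO.B_sub_right, GEO.B_smul_right]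
    intro h
    have hev : B Q e v ≠ 0 := by rw [B_comm]; exact hve
    have h5 : (Q' v)⁻¹ * B Q' v w₀ * B Q e v = 0 := by linear_combination -h
    rcases mul_eq_zero.mp h5 with h6 | h6
    · rcases mul_eq_zero.mp h6 with h7 | h7
      · exact hv (inv_eq_zero.mp h7)
      · exact hw2 h7
    · exact hev h6
  exact ⟨e, φ, he, hφe, hφ0, hEφ⟩

end Cfsg.Agent.OS6P
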