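import Mathlib
import Cfsg.Prelude.Def_GeometricClasses
import Cfsg.Agent.Helper28.OrthMax3
import Cfsg.Agent.Helper28.NondegMax2

set_option autoImplicit false
set_option linter.unusedSectionVars false

/-! Pairs of complementary totally singular subspaces of an orthogonal space and the root elements
of their stabiliser (towards maximality of `GL_k(q).2` in `Ω⁺_2k(q)`, `k` even). -/

namespace Cfsg.Agent.Helper28.OSP

open Matrix Module Cfsg.Agent.Helper28.Sg Cfsg.Agent.Helper28.OM Cfsg.Agent.Helper28.Spin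
  Cfsg.Agent.Helper28.NDM Cfsg.Agent.Helper28.OFN

variable {F : Type*} [Field F] [Fintype F] {ι : Type} [Fintype ι] [DecidableEq ι]
  {Q : QuadraticForm F (ι → F)}

/-- a pair of complementary totally singular subspaces -/
structure LP (Q : QuadraticForm F (ι → F)) (A C : Submodule F (ι → F)) : Prop where
  tsA : ∀ u ∈ A, Q u = 0
  tsB : ∀ u ∈ C, Q u = 0
  dec : ∀ x : ι → F, ∃ a ∈ A, ∃ b ∈ C, x = a + b

variable {A C A' C' : Submodule F (ι → F)}

theorem LP.symm (h : LP Q A C) : LP Q C A :=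
  ⟨h.tsB, h.tsA, fun x => by
    obtain ⟨a, ha, b, hb, rfl⟩ := h.dec x
    exact ⟨b, hb, a, ha, add_comm _ _⟩⟩

theorem LP.isoA (h : LP Q A C) : ∀ u ∈ A, ∀ v ∈ A, B Q u v = 0 := B_zero_of_ts A h.tsA

theorem LP.isoB (h : LP Q A C) : ∀ u ∈ C, ∀ v ∈ C, B Q u v = 0 := B_zero_of_ts C h.tsB

theorem eq_zero_of_B (hQ : (QuadraticMap.polarBilin Q).Nondegenerate) (x : ι → F)
    (h : ∀ z : ι → F, B Q x z = 0) : x = 0 := hQ.1 x h

/-- `A^⊥ ⊆ A` -/
theorem LP.perp_mem (hQ : (QuadraticMap.polarBilin Q).Nondegenerate) (h : LP Q A C) {x : ι → F}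
    (hx : ∀ a ∈ A, B Q a x = 0) : x ∈ A := by
  obtain ⟨a, ha, b, hb, rfl⟩ := h.dec x
  have hb0 : b = 0 := by
    apply eq_zero_of_B hQ
    intro z
    obtain ⟨a', ha', b', hb', rfl⟩ := h.dec z
    have h1 := hx a' ha'
    have h2 := h.isoA a' ha' a ha
    have h3 := h.isoB b hb b' hb'
    simp only [B, QuadraticMap.polar_add_right] at h1 ⊢
    rw [QuadraticMap.polar_comm _ b a']
    linear_combination h1 - h2 + h3
  rw [hb0, add_zero]
  exact ha

theorem LP.disj (hQ : (QuadraticMap.polarBilin Q).Nondegenerate) (h : LP Q A C) {x : ι → F}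
    (ha : x ∈ A) (hb : x ∈ C) : x = 0 := by
  apply eq_zero_of_B hQ
  intro z
  obtain ⟨a', ha', b', hb', rfl⟩ := h.dec z
  have h2 := h.isoA x ha a' ha'
  have h3 := h.isoB x hb b' hb'
  simp only [B, QuadraticMap.polar_add_right]
  linear_combination h2 + h3

theorem LP.exists_pair (hQ : (QuadraticMap.polarBilin Q).Nondegenerate) (h : LP Q A C)
    {a : ι → F} (ha : a ∈ A) (ha0 : a ≠ 0) : ∃ b ∈ C, B Q a b = 1 := by
  obtain ⟨b, hb, hab⟩ : ∃ b ∈ C, B Q a b ≠ 0 := by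
    by_contra hcon
    push Not at hcon
    apply ha0
    apply eq_zero_of_B hQ
    intro z
    obtain ⟨a', ha', b', hb', rfl⟩ := h.dec z
    have h2 := h.isoA a ha a' ha'
    have h3 := hcon b' hb'
    simp only [B, QuadraticMap.polar_add_right]
    linear_combination h2 + h3
  refine ⟨(B Q a b)⁻¹ • b, C.smul_mem _ hb, ?_⟩
  simp only [B, QuadraticMap.polar_smul_right, smul_eq_mul]
  exact inv_mul_cancel₀ hab

/-- dual vectors for an independent pair -/
theorem LP.exists_dual2 (hQ : (QuadraticMap.polarBilin Q).Nondegenerate) (h : LP Q A C)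
    {e₁ e₂ : ι → F} (he₁ : e₁ ∈ A) (he₂ : e₂ ∈ A) (hind : Indep e₁ e₂) :
    ∃ f₁ ∈ C, ∃ f₂ ∈ C, B Q e₁ f₁ = 1 ∧ B Q e₂ f₁ = 0 ∧ B Q e₁ f₂ = 0 ∧ B Q e₂ f₂ = 1 := by
  obtain ⟨g₁, hg₁, h1⟩ := h.exists_pair hQ he₁ hind.ne_zero_left
  have hw : e₂ - B Q e₂ g₁ • e₁ ≠ 0 := by
    intro h0
    have := hind (-(B Q e₂ g₁)) 1 (by rw [← h0]; module)
    exact one_ne_zero this.2
  obtain ⟨g₂, hg₂, h2⟩ := h.exists_pair hQ (A.sub_mem he₂ (A.smul_mem _ he₁)) hw
  simp only [B, QuadraticMap.polar_sub_left, QuadraticMap.polar_smul_left, smul_eq_mul] at h2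
  set f₂ := g₂ - B Q e₁ g₂ • g₁ with hf₂
  have hf₂C : f₂ ∈ C := C.sub_mem hg₂ (C.smul_mem _ hg₁)
  have e12 : B Q e₁ f₂ = 0 := by
    simp only [hf₂, B, QuadraticMap.polar_sub_right, QuadraticMap.polar_smul_right, smul_eq_mul]
    linear_combination (-(B Q e₁ g₂)) * h1
  have e22 : B Q e₂ f₂ = 1 := by
    simp only [hf₂, B, QuadraticMap.polar_sub_right, QuadraticMap.polar_smul_right, smul_eq_mul]
    linear_combination h2
  refine ⟨g₁ - B Q e₂ g₁ • f₂, C.sub_mem hg₁ (C.smul_mem _ hf₂C), f₂, hf₂C, ?_, ?_, e12, e22⟩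
  · have : B Q e₁ (g₁ - B Q e₂ g₁ • f₂) = B Q e₁ g₁ - B Q e₂ g₁ * B Q e₁ f₂ := by
      simp only [B, QuadraticMap.polar_sub_right, QuadraticMap.polar_smul_right, smul_eq_mul]
    rw [this, e12, h1]; ring
  · have : B Q e₂ (g₁ - B Q e₂ g₁ • f₂) = B Q e₂ g₁ - B Q e₂ g₁ * B Q e₂ f₂ := by
      simp only [B, QuadraticMap.polar_sub_right, QuadraticMap.polar_smul_right, smul_eq_mul]
    rw [this, e22]; ring

/-- the hypothesis "all root elements of the pair `(A, C)` lie in `K`" -/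
def HasRoots (K : Subgroup ↥(Cfsg.isometryGroup F ⇑Q)) (A C : Submodule F (ι → F)) : Prop :=
  ∀ a ∈ A, ∀ b ∈ C, ∀ (ha : Q a = 0) (hab : B Q a b = 0), siegO Q a b ha hab ∈ K

theorem siegO_swap {a b : ι → F} (ha : Q a = 0) (hb : Q b = 0) (hab : B Q a b = 0)
    (hba : B Q b (-a) = 0) : siegO Q a b ha hab = siegO Q b (-a) hb hba := by
  apply O_ext
  intro x
  rw [siegO_mulVec, siegO_mulVec, hb]
  have : Q (-a) = 0 := by rw [QuadraticMap.map_neg]; exact ha
  rw [this]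
  simp only [B, QuadraticMap.polar_neg_left, zero_mul, zero_smul, sub_zero]
  module

theorem HasRoots.symm {K : Subgroup ↥(Cfsg.isometryGroup F ⇑Q)} (hAC : LP Q A C)
    (h : HasRoots K A C) : HasRoots K C A := by
  intro b hb a ha hQb hba
  have hab : B Q a (-b) = 0 := by rw [B_neg_right, B_comm, hba, neg_zero]
  rw [siegO_swap hQb (hAC.tsA a ha) hba hab]
  exact h a ha (-b) (C.neg_mem hb) _ _

/-- commutator of two Siegel elements at orthogonal singular vectors -/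
theorem sieg_comm {e₁ e₂ w w' : ι → F} (h1 : Q e₁ = 0) (h2 : Q e₂ = 0) (h12 : B Q e₁ e₂ = 0)
    (hw : Q w = 0) (hw' : Q w' = 0) (h1w : B Q e₁ w = 0) (h2w : B Q e₂ w = 0)
    (h1w' : B Q e₁ w' = 0) (h2w' : B Q e₂ w' = 0) (hc : B Q e₁ (B Q w w' • e₂) = 0) :
    siegO Q e₁ w h1 h1w * siegO Q e₂ w' h2 h2w' =
      siegO Q e₁ (B Q w w' • e₂) h1 hc * (siegO Q e₂ w' h2 h2w' * siegO Q e₁ w h1 h1w) := by
  have h11 : B Q e₁ e₁ = 0 := B_self_of_singular Q h1
  have h22 : B Q e₂ e₂ = 0 := B_self_of_singular Q h2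
  have h21 : B Q e₂ e₁ = 0 := by rw [B_comm]; exact h12
  have hw1 : B Q w e₁ = 0 := by rw [B_comm]; exact h1w
  have hw2 : B Q w e₂ = 0 := by rw [B_comm]; exact h2w
  have hw1' : B Q w' e₁ = 0 := by rw [B_comm]; exact h1w'
  have hw2' : B Q w' e₂ = 0 := by rw [B_comm]; exact h2w'
  have hQc : Q (B Q w w' • e₂) = 0 := by rw [Q_smul, h2, mul_zero]
  apply O_ext
  intro x
  rw [mt_mul_mulVec, mt_mul_mulVec, mt_mul_mulVec]
  rw [siegO_mulVec Q e₂ w', siegO_mulVec Q e₁ w, siegO_mulVec Q e₁ w, siegO_mulVec Q e₂ w',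
    siegO_mulVec Q e₁ (B Q w w' • e₂)]
  simp only [B] at h11 h22 h21 h12 hw1 hw2 hw1' hw2' h1w h2w h1w' h2w'
  simp only [hw, hw', hQc, B, QuadraticMap.polar_add_right, QuadraticMap.polar_sub_right,
    QuadraticMap.polar_smul_right, QuadraticMap.polar_smul_left, smul_eq_mul,
    h11, h22, h21, h12, hw2, hw1', h1w, h2w, h1w', h2w',
    zero_mul, mul_zero, zero_smul, sub_zero, add_zero]
  rw [QuadraticMap.polar_comm (⇑Q) w' w]
  module

/-- symmetry of the long root groups -/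
theorem Lsub_symm {K : Subgroup ↥(Cfsg.isometryGroup F ⇑Q)} {e₁ e₂ : ι → F} (h1 : Q e₁ = 0)
    (h2 : Q e₂ = 0) (h : e₂ ∈ Lsub K e₁ h1) : e₁ ∈ Lsub K e₂ h2 := by
  obtain ⟨h12, hK⟩ := h
  have h21 : B Q e₂ e₁ = 0 := by rw [B_comm]; exact h12
  refine ⟨h21, fun c hc => ?_⟩
  have hc' : B Q e₁ ((-c) • e₂) = 0 := B_smul_right_zero Q _ h12
  have : siegO Q e₂ (c • e₁) h2 hc = siegO Q e₁ ((-c) • e₂) h1 hc' := by
    apply O_ext
    intro x
    rw [siegO_mulVec, siegO_mulVec, Q_smul, Q_smul, h1, h2]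
    simp only [B, QuadraticMap.polar_smul_left, smul_eq_mul]
    module
  rw [this]
  exact hK _ _

/-- **Lemma X** (lines): two pairs sharing an independent pair of vectors `e₁, e₂` whose long root
group is not in `K`. -/
theorem lemX (hQ : (QuadraticMap.polarBilin Q).Nondegenerate) (hAC : LP Q A C) (hAC' : LP Q A' C')
    (K : Subgroup ↥(Cfsg.isometryGroup F ⇑Q)) (hK : HasRoots K A C) (hK' : HasRoots K A' C')
    {e₁ e₂ : ι → F} (he₁ : e₁ ∈ A) (he₁' : e₁ ∈ A') (he₂ : e₂ ∈ A) (he₂' : e₂ ∈ A')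
    (hind : Indep e₁ e₂) (h1 : Q e₁ = 0) (hne : e₂ ∉ Lsub K e₁ h1)
    {w' : ι → F} (hw' : w' ∈ C') (h1w' : B Q e₁ w' = 0) (h2w' : B Q e₂ w' = 0) : w' ∈ C := by
  have h2 : Q e₂ = 0 := hAC.tsA e₂ he₂
  have h12 : B Q e₁ e₂ = 0 := hAC.isoA e₁ he₁ e₂ he₂
  have hQw' : Q w' = 0 := hAC'.tsB w' hw'
  -- Step 1
  have st1 : ∀ w ∈ C, B Q e₁ w = 0 → B Q e₂ w = 0 → B Q w w' = 0 := by
    intro w hw h1w h2w
    by_contra hww
    apply hne
    refine ⟨h12, fun c hc => ?_⟩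
    set t := c / B Q w w' with ht
    have hQtw : Q (t • w) = 0 := by rw [Q_smul, hAC.tsB w hw, mul_zero]
    have h1tw : B Q e₁ (t • w) = 0 := B_smul_right_zero Q t h1w
    have h2tw : B Q e₂ (t • w) = 0 := B_smul_right_zero Q t h2w
    have hX := hK e₁ he₁ (t • w) (C.smul_mem t hw) h1 h1tw
    have hY := hK' e₂ he₂' w' hw' h2 h2w'
    have hval : B Q (t • w) w' = c := by
      simp only [B, QuadraticMap.polar_smul_left, smul_eq_mul]
      rw [ht]
      exact div_mul_cancel₀ c hww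
    have hc' : B Q e₁ (B Q (t • w) w' • e₂) = 0 := B_smul_right_zero Q _ h12
    have hcomm := sieg_comm h1 h2 h12 hQtw hQw' h1tw h2tw h1w' h2w' hc'
    have hZ : siegO Q e₁ (B Q (t • w) w' • e₂) h1 hc' =
        siegO Q e₁ (t • w) h1 h1tw * siegO Q e₂ w' h2 h2w' *
          (siegO Q e₂ w' h2 h2w' * siegO Q e₁ (t • w) h1 h1tw)⁻¹ := by
      rw [hcomm]; group
    rw [siegO_congr Q h1 hc h1 hc' rfl (by rw [hval]), hZ]
    exact K.mul_mem (K.mul_mem hX hY) (K.inv_mem (K.mul_mem hY hX))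
  -- Step 2
  obtain ⟨f₁, hf₁, f₂, hf₂, e11, e21, e12, e22⟩ := hAC.exists_dual2 hQ he₁ he₂ hind
  obtain ⟨a, ha, b, hb, rfl⟩ := hAC.dec w'
  have h1b : B Q e₁ b = 0 := by
    have := hAC.isoA e₁ he₁ a ha
    simp only [B, QuadraticMap.polar_add_right] at h1w' this ⊢
    linear_combination h1w' - this
  have h2b : B Q e₂ b = 0 := by
    have := hAC.isoA e₂ he₂ a ha
    simp only [B, QuadraticMap.polar_add_right] at h2w' this ⊢
    linear_combination h2w' - this
  have ha' : a = B Q a f₁ • e₁ + B Q a f₂ • e₂ := by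
    have : a - (B Q a f₁ • e₁ + B Q a f₂ • e₂) = 0 := by
      apply eq_zero_of_B hQ
      intro z
      obtain ⟨a1, ha1, b1, hb1, rfl⟩ := hAC.dec z
      have hmem : a - (B Q a f₁ • e₁ + B Q a f₂ • e₂) ∈ A :=
        A.sub_mem ha (A.add_mem (A.smul_mem _ he₁) (A.smul_mem _ he₂))
      have hz1 := hAC.isoA _ hmem a1 ha1
      set b1' := b1 - B Q e₁ b1 • f₁ - B Q e₂ b1 • f₂ with hb1'
      have hb1'C : b1' ∈ C := C.sub_mem (C.sub_mem hb1 (C.smul_mem _ hf₁)) (C.smul_mem _ hf₂)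
      have q1 : B Q e₁ b1' = 0 := by
        simp only [hb1', B, QuadraticMap.polar_sub_right, QuadraticMap.polar_smul_right, smul_eq_mul]
        linear_combination (-(B Q e₁ b1)) * e11 - (B Q e₂ b1) * e12
      have q2 : B Q e₂ b1' = 0 := by
        simp only [hb1', B, QuadraticMap.polar_sub_right, QuadraticMap.polar_smul_right, smul_eq_mul]
        linear_combination (-(B Q e₁ b1)) * e21 - (B Q e₂ b1) * e22
      have h3 := st1 b1' hb1'C q1 q2
      have h4 := hAC.isoB b1' hb1'C b hb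
      have h5 : B Q b1' a = 0 := by
        simp only [B, QuadraticMap.polar_add_right] at h3 h4 ⊢
        linear_combination h3 - h4
      have h6 : B Q a b1 = B Q e₁ b1 * B Q a f₁ + B Q e₂ b1 * B Q a f₂ := by
        rw [B_comm] at h5
        simp only [hb1', B, QuadraticMap.polar_sub_right, QuadraticMap.polar_smul_right,
          smul_eq_mul] at h5 ⊢
        linear_combination h5
      rw [B_add_right', hz1, zero_add]
      simp only [B, QuadraticMap.polar_sub_left, QuadraticMap.polar_add_left,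
        QuadraticMap.polar_smul_left, smul_eq_mul] at h6 ⊢
      linear_combination h6
    exact sub_eq_zero.mp this
  -- Step 3
  set s₁ := B Q a f₁ with hs₁
  set s₂ := B Q a f₂ with hs₂
  have hs20 : s₂ = 0 := by
    by_contra hs
    apply hne
    refine ⟨h12, fun c hc => ?_⟩
    set t := c / s₂ with ht
    have hts : t * s₂ = c := div_mul_cancel₀ c hs
    have h1tw : B Q e₁ (t • (a + b)) = 0 := B_smul_right_zero Q t h1w'
    have hg2 := hK' e₁ he₁' (t • (a + b)) (C'.smul_mem t hw') h1 h1tw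
    have h1tb : B Q e₁ (t • b) = 0 := B_smul_right_zero Q t h1b
    have hg1 := hK e₁ he₁ (t • b) (C.smul_mem t hb) h1 h1tb
    have hsum : B Q e₁ (t • b + c • e₂) = 0 := B_add_right_zero Q h1tb hc
    have hsum' : B Q e₁ (t • b + c • e₂ + (t * s₁) • e₁) = 0 :=
      B_add_right_zero Q hsum (B_smul_right_zero Q _ (B_self_of_singular Q h1))
    have e1 : t • (a + b) = t • b + c • e₂ + (t * s₁) • e₁ := by
      conv_lhs => rw [ha']
      rw [← hts]
      module
    have e2 : siegO Q e₁ (t • (a + b)) h1 h1tw = siegO Q e₁ (t • b) h1 h1tb * siegO Q e₁ (c • e₂) h1 hc := by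
      rw [siegO_congr Q h1 h1tw h1 hsum' rfl e1, siegO_add_smul_self Q _ h1 hsum hsum',
        siegO_mul Q h1 h1tb hc hsum]
    have e3 : siegO Q e₁ (c • e₂) h1 hc =
        (siegO Q e₁ (t • b) h1 h1tb)⁻¹ * siegO Q e₁ (t • (a + b)) h1 h1tw := by
      rw [e2]; group
    rw [e3]
    exact K.mul_mem (K.inv_mem hg1) hg2
  have hs10 : s₁ = 0 := by
    by_contra hs
    apply hne
    apply Lsub_symm h2 h1
    have h21 : B Q e₂ e₁ = 0 := by rw [B_comm]; exact h12
    refine ⟨h21, fun c hc => ?_⟩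
    set t := c / s₁ with ht
    have hts : t * s₁ = c := div_mul_cancel₀ c hs
    have h2tw : B Q e₂ (t • (a + b)) = 0 := B_smul_right_zero Q t h2w'
    have hg2 := hK' e₂ he₂' (t • (a + b)) (C'.smul_mem t hw') h2 h2tw
    have h2tb : B Q e₂ (t • b) = 0 := B_smul_right_zero Q t h2b
    have hg1 := hK e₂ he₂ (t • b) (C.smul_mem t hb) h2 h2tb
    have hsum : B Q e₂ (t • b + c • e₁) = 0 := B_add_right_zero Q h2tb hc
    have hsum' : B Q e₂ (t • b + c • e₁ + (t * s₂) • e₂) = 0 :=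
      B_add_right_zero Q hsum (B_smul_right_zero Q _ (B_self_of_singular Q h2))
    have e1 : t • (a + b) = t • b + c • e₁ + (t * s₂) • e₂ := by
      conv_lhs => rw [ha']
      rw [← hts]
      module
    have e2 : siegO Q e₂ (t • (a + b)) h2 h2tw = siegO Q e₂ (t • b) h2 h2tb * siegO Q e₂ (c • e₁) h2 hc := by
      rw [siegO_congr Q h2 h2tw h2 hsum' rfl e1, siegO_add_smul_self Q _ h2 hsum hsum',
        siegO_mul Q h2 h2tb hc hsum]
    have e3 : siegO Q e₂ (c • e₁) h2 hc =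
        (siegO Q e₂ (t • b) h2 h2tb)⁻¹ * siegO Q e₂ (t • (a + b)) h2 h2tw := by
      rw [e2]; group
    rw [e3]
    exact K.mul_mem (K.inv_mem hg1) hg2
  rw [ha', hs10, hs20, zero_smul, zero_smul, zero_add, zero_add]
  exact hb

end Cfsg.Agent.Helper28.OSP
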