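import Mathlib
import Cfsg.Prelude.Def_GeometricClasses
import Cfsg.Agent.Helper28.OSing1

set_option autoImplicit false
set_option linter.unusedSectionVars false

/-! Two pairs of complementary totally singular subspaces sharing a line: consequences of Lemma X. -/

namespace Cfsg.Agent.Helper28.OSP

open Matrix Module Cfsg.Agent.Helper28.Sg Cfsg.Agent.Helper28.OM Cfsg.Agent.Helper28.Spin
  Cfsg.Agent.Helper28.NDM Cfsg.Agent.Helper28.OFN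

variable {F : Type*} [Field F] [Fintype F] {ι : Type} [Fintype ι] [DecidableEq ι]
  {Q : QuadraticForm F (ι → F)}

variable {A C A' C' : Submodule F (ι → F)}

theorem lemX' (hQ : (QuadraticMap.polarBilin Q).Nondegenerate) (hAC : LP Q A C) (hAC' : LP Q A' C')
    (K : Subgroup ↥(Cfsg.isometryGroup F ⇑Q)) (hK : HasRoots K A C) (hK' : HasRoots K A' C')
    {e₁ e₂ : ι → F} (he₁ : e₁ ∈ A) (he₁' : e₁ ∈ A') (he₂ : e₂ ∈ A) (he₂' : e₂ ∈ A')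
    (hind : Indep e₁ e₂) (h1 : Q e₁ = 0) (hne : e₂ ∉ Lsub K e₁ h1)
    {z : ι → F} (h1z : B Q e₁ z = 0) (h2z : B Q e₂ z = 0) : z ∈ C ↔ z ∈ C' :=
  ⟨fun hz => lemX hQ hAC' hAC K hK' hK he₁' he₁ he₂' he₂ hind h1 hne hz h1z h2z,
   fun hz => lemX hQ hAC hAC' K hK hK' he₁ he₁' he₂ he₂' hind h1 hne hz h1z h2z⟩

/-- "dimension at least five": two independent vectors orthogonal to three given ones -/
def BigL (Q : QuadraticForm F (ι → F)) (W : Submodule F (ι → F)) : Prop :=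
  ∀ y₁ y₂ y₃ : ι → F, ∃ z₁ ∈ W, ∃ z₂ ∈ W, Indep z₁ z₂ ∧
    B Q y₁ z₁ = 0 ∧ B Q y₂ z₁ = 0 ∧ B Q y₃ z₁ = 0 ∧ B Q y₁ z₂ = 0 ∧ B Q y₂ z₂ = 0 ∧ B Q y₃ z₂ = 0

/-- the non-degeneracy hypothesis on `K`: no long root group of `A` or of `C` lies in `K` -/
def NoRL (K : Subgroup ↥(Cfsg.isometryGroup F ⇑Q)) (A C : Submodule F (ι → F)) : Prop :=
  ∀ e₁ e₂ : ι → F, Indep e₁ e₂ → (e₁ ∈ A ∧ e₂ ∈ A) ∨ (e₁ ∈ C ∧ e₂ ∈ C) →
    ∀ h1 : Q e₁ = 0, e₂ ∉ Lsub K e₁ h1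

theorem NoRL.symm {K : Subgroup ↥(Cfsg.isometryGroup F ⇑Q)} (h : NoRL K A C) : NoRL K C A :=
  fun e₁ e₂ hi hm => h e₁ e₂ hi hm.symm

theorem eq_of_mem (hQ : (QuadraticMap.polarBilin Q).Nondegenerate) (hAC : LP Q A C)
    (hAC' : LP Q A' C') (K : Subgroup ↥(Cfsg.isometryGroup F ⇑Q)) (hK : HasRoots K A C)
    (hK' : HasRoots K A' C') (hbA : BigL Q A) (hbC : BigL Q C) (hbA' : BigL Q A')
    (hbC' : BigL Q C') (hne : NoRL K A C)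
    {e₁ e₂ : ι → F} (he₁ : e₁ ∈ A) (he₁' : e₁ ∈ A') (he₂ : e₂ ∈ A) (he₂' : e₂ ∈ A')
    (hind : Indep e₁ e₂) : A = A' ∧ C = C' := by
  have h1Q : Q e₁ = 0 := hAC.tsA e₁ he₁
  have hneE := hne e₁ e₂ hind (Or.inl ⟨he₁, he₂⟩) h1Q
  have hKs := hK.symm hAC
  have hKs' := hK'.symm hAC'
  have hA1 : A ≤ A' := by
    intro y hy
    obtain ⟨f₁, hf₁, f₂, hf₂, hindf, p11, p21, p31, p12, p22, p32⟩ := hbC e₁ e₂ y
    have hf₁' : f₁ ∈ C' := (lemX' hQ hAC hAC' K hK hK' he₁ he₁' he₂ he₂' hind h1Q hneE p11 p21).mp hf₁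
    have hf₂' : f₂ ∈ C' := (lemX' hQ hAC hAC' K hK hK' he₁ he₁' he₂ he₂' hind h1Q hneE p12 p22).mp hf₂
    have hQf : Q f₁ = 0 := hAC.tsB f₁ hf₁
    exact (lemX' hQ hAC.symm hAC'.symm K hKs hKs' hf₁ hf₁' hf₂ hf₂' hindf hQf
      (hne f₁ f₂ hindf (Or.inr ⟨hf₁, hf₂⟩) hQf) (by rw [B_comm]; exact p31)
      (by rw [B_comm]; exact p32)).mp hy
  have hA2 : A' ≤ A := by
    intro y hy
    obtain ⟨f₁, hf₁', f₂, hf₂', hindf, p11, p21, p31, p12, p22, p32⟩ := hbC' e₁ e₂ y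
    have hf₁ : f₁ ∈ C := (lemX' hQ hAC hAC' K hK hK' he₁ he₁' he₂ he₂' hind h1Q hneE p11 p21).mpr hf₁'
    have hf₂ : f₂ ∈ C := (lemX' hQ hAC hAC' K hK hK' he₁ he₁' he₂ he₂' hind h1Q hneE p12 p22).mpr hf₂'
    have hQf : Q f₁ = 0 := hAC.tsB f₁ hf₁
    exact (lemX' hQ hAC.symm hAC'.symm K hKs hKs' hf₁ hf₁' hf₂ hf₂' hindf hQf
      (hne f₁ f₂ hindf (Or.inr ⟨hf₁, hf₂⟩) hQf) (by rw [B_comm]; exact p31)
      (by rw [B_comm]; exact p32)).mpr hy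
  refine ⟨le_antisymm hA1 hA2, le_antisymm ?_ ?_⟩
  · intro y hy
    obtain ⟨a₁, ha₁, a₂, ha₂, hinda, p11, -, -, p12, -, -⟩ := hbA y y y
    have hQa : Q a₁ = 0 := hAC.tsA a₁ ha₁
    exact (lemX' hQ hAC hAC' K hK hK' ha₁ (hA1 ha₁) ha₂ (hA1 ha₂) hinda hQa
      (hne a₁ a₂ hinda (Or.inl ⟨ha₁, ha₂⟩) hQa) (by rw [B_comm]; exact p11)
      (by rw [B_comm]; exact p12)).mp hy
  · intro y hy
    obtain ⟨a₁, ha₁', a₂, ha₂', hinda, p11, -, -, p12, -, -⟩ := hbA' y y y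
    have ha₁ := hA2 ha₁'
    have ha₂ := hA2 ha₂'
    have hQa : Q a₁ = 0 := hAC.tsA a₁ ha₁
    exact (lemX' hQ hAC hAC' K hK hK' ha₁ ha₁' ha₂ ha₂' hinda hQa
      (hne a₁ a₂ hinda (Or.inl ⟨ha₁, ha₂⟩) hQa) (by rw [B_comm]; exact p11)
      (by rw [B_comm]; exact p12)).mpr hy

/-! ### images under group elements -/

/-- image of a subspace under an isometry -/
def mp (g : ↥(Cfsg.isometryGroup F ⇑Q)) (W : Submodule F (ι → F)) : Submodule F (ι → F) :=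
  W.map (Matrix.toLin' (mt Q g))

theorem mem_mp (g : ↥(Cfsg.isometryGroup F ⇑Q)) (W : Submodule F (ι → F)) (x : ι → F) :
    x ∈ mp g W ↔ ∃ w ∈ W, mt Q g *ᵥ w = x := by
  unfold mp
  rw [Submodule.mem_map]
  simp only [Matrix.toLin'_apply]

theorem mulVec_mem_mp (g : ↥(Cfsg.isometryGroup F ⇑Q)) (W : Submodule F (ι → F)) {w : ι → F}
    (hw : w ∈ W) : mt Q g *ᵥ w ∈ mp g W :=
  (mem_mp g W _).mpr ⟨w, hw, rfl⟩

theorem LP.map (h : LP Q A C) (g : ↥(Cfsg.isometryGroup F ⇑Q)) : LP Q (mp g A) (mp g C) := by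
  refine ⟨?_, ?_, ?_⟩
  · intro u hu
    obtain ⟨a, ha, rfl⟩ := (mem_mp g A u).mp hu
    rw [isom_apply]
    exact h.tsA a ha
  · intro u hu
    obtain ⟨a, ha, rfl⟩ := (mem_mp g C u).mp hu
    rw [isom_apply]
    exact h.tsB a ha
  · intro x
    obtain ⟨a, ha, b, hb, hab⟩ := h.dec (mt Q g⁻¹ *ᵥ x)
    refine ⟨_, mulVec_mem_mp g A ha, _, mulVec_mem_mp g C hb, ?_⟩
    rw [← mulVec_add, ← hab, mt_mulVec_inv]

theorem HasRoots.map {K : Subgroup ↥(Cfsg.isometryGroup F ⇑Q)} (h : HasRoots K A C)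
    {g : ↥(Cfsg.isometryGroup F ⇑Q)} (hg : g ∈ K) : HasRoots K (mp g A) (mp g C) := by
  intro u hu v hv hQu huv
  obtain ⟨a, ha, rfl⟩ := (mem_mp g A u).mp hu
  obtain ⟨b, hb, rfl⟩ := (mem_mp g C v).mp hv
  have hQa : Q a = 0 := by rw [← isom_apply Q g a]; exact hQu
  have hab : B Q a b = 0 := by rw [← B_isom Q g]; exact huv
  rw [← siegO_conj Q g hQa hab hQu huv]
  exact K.mul_mem (K.mul_mem hg (h a ha b hb hQa hab)) (K.inv_mem hg)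

theorem BigL.map {W : Submodule F (ι → F)} (h : BigL Q W) (g : ↥(Cfsg.isometryGroup F ⇑Q)) :
    BigL Q (mp g W) := by
  intro y₁ y₂ y₃
  obtain ⟨z₁, hz₁, z₂, hz₂, hind, p11, p21, p31, p12, p22, p32⟩ :=
    h (mt Q g⁻¹ *ᵥ y₁) (mt Q g⁻¹ *ᵥ y₂) (mt Q g⁻¹ *ᵥ y₃)
  have key : ∀ y z : ι → F, B Q (mt Q g⁻¹ *ᵥ y) z = 0 → B Q y (mt Q g *ᵥ z) = 0 := by
    intro y z hyz
    rw [← mt_mulVec_inv Q g y, B_isom]
    exact hyz
  refine ⟨_, mulVec_mem_mp g W hz₁, _, mulVec_mem_mp g W hz₂, ?_, key _ _ p11, key _ _ p21,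
    key _ _ p31, key _ _ p12, key _ _ p22, key _ _ p32⟩
  intro x y hxy
  apply hind x y
  have := congrArg (fun t => mt Q g⁻¹ *ᵥ t) hxy
  simp only [mulVec_add, mulVec_smul, mt_inv_mulVec, mulVec_zero] at this
  exact this

end Cfsg.Agent.Helper28.OSP
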