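import Mathlib
import Cfsg.Prelude.Def_GeometricClasses
import Cfsg.Agent.Helper28.OSing2

set_option autoImplicit false
set_option linter.unusedSectionVars false

/-! Dichotomy for two pairs of complementary totally singular subspaces with common root elements. -/

namespace Cfsg.Agent.Helper28.OSP

open Matrix Module Cfsg.Agent.Helper28.Sg Cfsg.Agent.Helper28.OM Cfsg.Agent.Helper28.Spin
  Cfsg.Agent.Helper28.NDM Cfsg.Agent.Helper28.OFN

variable {F : Type*} [Field F] [Fintype F] {ι : Type} [Fintype ι] [DecidableEq ι]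
  {Q : QuadraticForm F (ι → F)}

variable {A C A' C' : Submodule F (ι → F)}

/-- the key step: for `u ∈ A'` and `u' ∈ C'` orthogonal to `u`, the Siegel element `T_{u,u'}`
stabilises `A` and `C`, so `u'` is congruent to a multiple of `u` modulo `A` and modulo `C` -/
theorem exists_coeffs (hQ : (QuadraticMap.polarBilin Q).Nondegenerate) (hAC : LP Q A C)
    (hAC' : LP Q A' C') (K : Subgroup ↥(Cfsg.isometryGroup F ⇑Q)) (hK : HasRoots K A C)
    (hK' : HasRoots K A' C') (hbA : BigL Q A) (hbC : BigL Q C) (hne : NoRL K A C)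
    {u u' : ι → F} (hu : u ∈ A') (hu' : u' ∈ C') (huu' : B Q u u' = 0) (huA : u ∉ A)
    (huC : u ∉ C) : ∃ γ δ : F, u' - γ • u ∈ A ∧ u' - δ • u ∈ C := by
  have hQu : Q u = 0 := hAC'.tsA u hu
  have hQu' : Q u' = 0 := hAC'.tsB u' hu'
  set g := siegO Q u u' hQu huu' with hg
  have hgK : g ∈ K := hK' u hu u' hu' hQu huu'
  obtain ⟨e₁, he₁, e₂, he₂, hind, p11, p21, -, p12, p22, -⟩ := hbA u u' u
  have hfix : ∀ e : ι → F, B Q u e = 0 → B Q u' e = 0 → mt Q g *ᵥ e = e := by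
    intro e h1 h2
    rw [hg, siegO_mulVec, h1, h2]
    simp
  have he₁' : e₁ ∈ mp g A := by
    have := mulVec_mem_mp g A he₁
    rwa [hfix e₁ p11 p21] at this
  have he₂' : e₂ ∈ mp g A := by
    have := mulVec_mem_mp g A he₂
    rwa [hfix e₂ p12 p22] at this
  obtain ⟨hA, hC⟩ := eq_of_mem hQ hAC (hAC.map g) K hK (hK.map hgK) hbA hbC (hbA.map g)
    (hbC.map g) hne he₁ he₁' he₂ he₂' hind
  have hgx : ∀ x : ι → F, mt Q g *ᵥ x - x = B Q u x • u' - B Q u' x • u := by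
    intro x
    rw [hg, siegO_mulVec, hQu']
    simp only [zero_mul, zero_smul, sub_zero]
    abel
  have step : ∀ (W : Submodule F (ι → F)), W = mp g W → (∃ x ∈ W, B Q u x ≠ 0) →
      ∃ γ : F, u' - γ • u ∈ W := by
    intro W hW ⟨x, hx, hux⟩
    have h1 : mt Q g *ᵥ x ∈ W := by
      rw [hW]; exact mulVec_mem_mp g W hx
    have h2 := W.sub_mem h1 hx
    rw [hgx] at h2
    refine ⟨(B Q u x)⁻¹ * B Q u' x, ?_⟩
    have h3 := W.smul_mem (B Q u x)⁻¹ h2
    have e : (B Q u x)⁻¹ • (B Q u x • u' - B Q u' x • u) = u' - ((B Q u x)⁻¹ * B Q u' x) • u := by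
      rw [smul_sub, smul_smul, smul_smul, inv_mul_cancel₀ hux, one_smul]
    rwa [e] at h3
  have hxA : ∃ x ∈ A, B Q u x ≠ 0 := by
    by_contra hcon
    push Not at hcon
    apply huA
    apply hAC.perp_mem hQ
    intro a ha
    rw [B_comm]; exact hcon a ha
  have hxC : ∃ x ∈ C, B Q u x ≠ 0 := by
    by_contra hcon
    push Not at hcon
    apply huC
    apply hAC.symm.perp_mem hQ
    intro a ha
    rw [B_comm]; exact hcon a ha
  obtain ⟨γ, hγ⟩ := step A hA hxA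
  obtain ⟨δ, hδ⟩ := step C hC hxC
  exact ⟨γ, δ, hγ, hδ⟩

theorem dichotomy (hQ : (QuadraticMap.polarBilin Q).Nondegenerate) (hAC : LP Q A C)
    (hAC' : LP Q A' C') (K : Subgroup ↥(Cfsg.isometryGroup F ⇑Q)) (hK : HasRoots K A C)
    (hK' : HasRoots K A' C') (hbA : BigL Q A) (hbC : BigL Q C) (hbA' : BigL Q A')
    (hbC' : BigL Q C') (hne : NoRL K A C) :
    (A = A' ∧ C = C') ∨ (A = C' ∧ C = A') := by
  by_cases hu : ∃ u ∈ A', u ∉ A ∧ u ∉ C
  · exfalso
    obtain ⟨u, hu, huA, huC⟩ := hu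
    obtain ⟨u₁, hu₁, u₂, hu₂, hind, p1, -, -, p2, -, -⟩ := hbC' u u u
    obtain ⟨γ₁, δ₁, ha₁, hb₁⟩ := exists_coeffs hQ hAC hAC' K hK hK' hbA hbC hne hu hu₁ p1 huA huC
    obtain ⟨γ₂, δ₂, ha₂, hb₂⟩ := exists_coeffs hQ hAC hAC' K hK hK' hbA hbC hne hu hu₂ p2 huA huC
    set c₁ := δ₁ - γ₁ with hc₁
    set c₂ := δ₂ - γ₂ with hc₂
    have hz : c₂ • (u₁ - γ₁ • u) - c₁ • (u₂ - γ₂ • u) = 0 := by
      apply hAC.disj hQ
      · exact A.sub_mem (A.smul_mem _ ha₁) (A.smul_mem _ ha₂)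
      · have e : c₂ • (u₁ - γ₁ • u) - c₁ • (u₂ - γ₂ • u) =
            c₂ • (u₁ - δ₁ • u) - c₁ • (u₂ - δ₂ • u) := by
          rw [hc₁, hc₂]; module
        rw [e]
        exact C.sub_mem (C.smul_mem _ hb₁) (C.smul_mem _ hb₂)
    have hz' : c₂ • u₁ + (-c₁) • u₂ = 0 := by
      apply hAC'.disj hQ
      · have e : c₂ • u₁ + (-c₁) • u₂ = (c₂ * γ₁ - c₁ * γ₂) • u := by
          have : c₂ • u₁ + (-c₁) • u₂ - (c₂ * γ₁ - c₁ * γ₂) • u =
              c₂ • (u₁ - γ₁ • u) - c₁ • (u₂ - γ₂ • u) := by module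
          rw [hz] at this
          exact sub_eq_zero.mp this
        rw [e]
        exact A'.smul_mem _ hu
      · exact C'.add_mem (C'.smul_mem _ hu₁) (C'.smul_mem _ hu₂)
    obtain ⟨hc20, hc10⟩ := hind _ _ hz'
    have hc10' : c₁ = 0 := neg_eq_zero.mp hc10
    have hδ : δ₁ = γ₁ := by
      have : δ₁ - γ₁ = 0 := by rw [← hc₁]; exact hc10'
      exact sub_eq_zero.mp this
    rw [hδ] at hb₁
    have h0 := hAC.disj hQ ha₁ hb₁
    have hu₁0 : u₁ = 0 := by
      apply hAC'.disj hQ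
      · rw [sub_eq_zero.mp h0]
        exact A'.smul_mem _ hu
      · exact hu₁
    exact hind.ne_zero_left hu₁0
  · push Not at hu
    have hor : ∀ u ∈ A', u ∈ A ∨ u ∈ C := by
      intro u hu'
      by_contra hcon
      push Not at hcon
      exact hcon.2 (hu u hu' hcon.1)
    obtain ⟨e₁, he₁, e₂, he₂, hind, -, -, -, -, -, -⟩ := hbA' 0 0 0
    by_cases hle : A' ≤ A
    · left
      exact eq_of_mem hQ hAC hAC' K hK hK' hbA hbC hbA' hbC' hne (hle he₁) he₁ (hle he₂) he₂ hind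
    · right
      obtain ⟨u₁, hu₁, hu₁A⟩ := SetLike.not_le_iff_exists.mp hle
      have hu₁C : u₁ ∈ C := (hor u₁ hu₁).resolve_left hu₁A
      have hle' : A' ≤ C := by
        intro u₂ hu₂
        rcases hor u₂ hu₂ with h | h
        · rcases hor (u₁ + u₂) (A'.add_mem hu₁ hu₂) with h' | h'
          · exfalso
            apply hu₁A
            have := A.sub_mem h' h
            rwa [add_sub_cancel_right] at this
          · have := C.sub_mem h' hu₁C
            rwa [add_sub_cancel_left] at this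
        · exact h
      have := eq_of_mem hQ hAC.symm hAC' K (hK.symm hAC) hK' hbC hbA hbA' hbC' hne.symm
        (hle' he₁) he₁ (hle' he₂) he₂ hind
      exact ⟨this.2, this.1⟩

theorem exists_RL (hQ : (QuadraticMap.polarBilin Q).Nondegenerate) (hAC : LP Q A C)
    (K : Subgroup ↥(Cfsg.isometryGroup F ⇑Q)) (hK : HasRoots K A C)
    (hbA : BigL Q A) (hbC : BigL Q C) (k : ↥(Cfsg.isometryGroup F ⇑Q)) (hk : k ∈ K)
    (hkn : ¬ ((A = mp k A ∧ C = mp k C) ∨ (A = mp k C ∧ C = mp k A))) :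
    ∃ e₁ e₂ : ι → F, Indep e₁ e₂ ∧ ((e₁ ∈ A ∧ e₂ ∈ A) ∨ (e₁ ∈ C ∧ e₂ ∈ C)) ∧
      ∃ h1 : Q e₁ = 0, e₂ ∈ Lsub K e₁ h1 := by
  by_contra hcon
  apply hkn
  refine dichotomy hQ hAC (hAC.map k) K hK (hK.map hk) hbA hbC (hbA.map k) (hbC.map k) ?_
  intro e₁ e₂ hi hm h1 hL
  exact hcon ⟨e₁, e₂, hi, hm, h1, hL⟩

end Cfsg.Agent.Helper28.OSP
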