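import Mathlib
import Cfsg.Prelude.Def_GeometricClasses
import Cfsg.Agent.Helper28.OSing3

set_option autoImplicit false
set_option linter.unusedSectionVars false

/-! Abstract maximality of the stabiliser of a pair of complementary totally singular subspaces. -/

namespace Cfsg.Agent.Helper28.OSP

open Matrix Module Cfsg.Agent.Helper28.Sg Cfsg.Agent.Helper28.OM Cfsg.Agent.Helper28.Spin
  Cfsg.Agent.Helper28.NDM Cfsg.Agent.Helper28.OFN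

variable {F : Type*} [Field F] [Fintype F] {ι : Type} [Fintype ι] [DecidableEq ι]
  {Q : QuadraticForm F (ι → F)}

variable {A C : Submodule F (ι → F)}

/-- a long root group of `A` in `K` spreads to all of `A` -/
theorem le_Lsub (hQ : (QuadraticMap.polarBilin Q).Nondegenerate) (hAC : LP Q A C)
    (K : Subgroup ↥(Cfsg.isometryGroup F ⇑Q)) (hK : HasRoots K A C) {e₁ e₂ : ι → F}
    (he₁ : e₁ ∈ A) (he₂ : e₂ ∈ A) (hind : Indep e₁ e₂) (h1 : Q e₁ = 0)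
    (hL : e₂ ∈ Lsub K e₁ h1) : A ≤ Lsub K e₁ h1 := by
  obtain ⟨f₁, hf₁, f₂, hf₂, e11, e21, e12, e22⟩ := hAC.exists_dual2 hQ he₁ he₂ hind
  intro a ha
  set a'' := a - B Q a f₂ • e₂ with ha''def
  have ha'' : a'' ∈ A := A.sub_mem ha (A.smul_mem _ he₂)
  have hQa'' : Q a'' = 0 := hAC.tsA _ ha''
  have hab : B Q a'' f₂ = 0 := by
    simp only [ha''def, B, QuadraticMap.polar_sub_left, QuadraticMap.polar_smul_left, smul_eq_mul]
    linear_combination (-(B Q a f₂)) * e22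
  have hg := hK a'' ha'' f₂ hf₂ hQa'' hab
  have hQf : Q f₂ = 0 := hAC.tsB f₂ hf₂
  have hge₁ : mt Q (siegO Q a'' f₂ hQa'' hab) *ᵥ e₁ = e₁ := by
    rw [siegO_mulVec, hAC.isoA a'' ha'' e₁ he₁, B_comm Q f₂ e₁, e12]
    simp
  have hge₂ : mt Q (siegO Q a'' f₂ hQa'' hab) *ᵥ e₂ = e₂ - a'' := by
    rw [siegO_mulVec, hAC.isoA a'' ha'' e₂ he₂, B_comm Q f₂ e₂, e22]
    simp
  have h2 := Lsub_map_fix h1 hg hge₁ hL
  rw [hge₂] at h2
  have h3 : a'' ∈ Lsub K e₁ h1 := by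
    have := (Lsub K e₁ h1).sub_mem hL h2
    rwa [sub_sub_cancel] at this
  have e : a = a'' + B Q a f₂ • e₂ := by rw [ha''def]; abel
  rw [e]
  exact (Lsub K e₁ h1).add_mem h3 ((Lsub K e₁ h1).smul_mem _ hL)

theorem mem_S1_of_le (hAC : LP Q A C) (K : Subgroup ↥(Cfsg.isometryGroup F ⇑Q))
    (hK : HasRoots K A C) {e₁ : ι → F} (he₁ : e₁ ∈ A) (h1 : Q e₁ = 0)
    (hle : A ≤ Lsub K e₁ h1) : e₁ ∈ S1 K := by
  refine ⟨h1, fun v hv => ?_⟩
  obtain ⟨a, ha, b, hb, rfl⟩ := hAC.dec v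
  have h1a : B Q e₁ a = 0 := hAC.isoA e₁ he₁ a ha
  have h1b : B Q e₁ b = 0 := by
    rw [B_add_right', h1a, zero_add] at hv
    exact hv
  rw [← siegO_mul Q h1 h1a h1b hv]
  refine K.mul_mem ?_ (hK e₁ he₁ b hb h1 h1b)
  have h1a' : B Q e₁ ((1 : F) • a) = 0 := by rw [one_smul]; exact h1a
  have := (hle ha).2 1 h1a'
  rw [siegO_congr Q h1 h1a' h1 h1a rfl (one_smul F a)] at this
  exact this

/-- if one nonzero vector of `A` is in `S1 K`, all of `A` is -/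
theorem S1_of_mem (hQ : (QuadraticMap.polarBilin Q).Nondegenerate) (hAC : LP Q A C)
    (K : Subgroup ↥(Cfsg.isometryGroup F ⇑Q)) (hK : HasRoots K A C) {e : ι → F} (he : e ∈ A)
    (he0 : e ≠ 0) (heS : e ∈ S1 K) : ∀ e' ∈ A, e' ∈ S1 K := by
  intro e' he'
  by_cases hc : ∃ c : F, e' = c • e
  · obtain ⟨c, rfl⟩ := hc
    exact S1_smul K heS c
  · have hind : Indep e e' := indep_of_not_smul he0 hc
    obtain ⟨f₁, hf₁, f₂, hf₂, e11, e21, e12, e22⟩ := hAC.exists_dual2 hQ he he' hind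
    set f := f₁ + f₂ with hf
    have hfC : f ∈ C := C.add_mem hf₁ hf₂
    have h1 : B Q e f = 1 := by rw [hf, B_add_right', e11, e12, add_zero]
    have h2 : B Q e' f = 1 := by rw [hf, B_add_right', e21, e22, zero_add]
    have h0 : B Q (e - e') f = 0 := by rw [B_sub_left', h1, h2, sub_self]
    have hmem : e - e' ∈ A := A.sub_mem he he'
    have hQ0 : Q (e - e') = 0 := hAC.tsA _ hmem
    have hg := hK (e - e') hmem f hfC hQ0 h0
    have := S1_map K heS hg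
    rw [siegO_mulVec, hAC.isoA _ hmem e he, B_comm Q f e, h1] at this
    simpa using this

theorem omega_le_of_RL (hQ : (QuadraticMap.polarBilin Q).Nondegenerate) (fr : Frame3 Q)
    (hgen : ∀ (H : Subgroup ↥(Cfsg.isometryGroup F ⇑Q)),
      (∀ (v : ι → F) (hv : Q v ≠ 0), reflO Q v hv ∈ H) → ∀ g, g ∈ H)
    (hAC : LP Q A C) (K : Subgroup ↥(Cfsg.isometryGroup F ⇑Q)) (hK : HasRoots K A C)
    (s : ↥(Cfsg.isometryGroup F ⇑Q)) (hs : s ∈ K) (hs2 : ∀ b ∈ C, mt Q s *ᵥ b ∈ A)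
    {e₁ e₂ : ι → F} (he₁ : e₁ ∈ A) (he₂ : e₂ ∈ A) (hind : Indep e₁ e₂) (h1 : Q e₁ = 0)
    (hL : e₂ ∈ Lsub K e₁ h1) : Cfsg.Omega F ⇑Q ≤ K := by
  have hle := le_Lsub hQ hAC K hK he₁ he₂ hind h1 hL
  have heS := mem_S1_of_le hAC K hK he₁ h1 hle
  have hAS := S1_of_mem hQ hAC K hK he₁ hind.ne_zero_left heS
  have hCS : ∀ b ∈ C, b ∈ S1 K := by
    intro b hb
    have := S1_map K (hAS _ (hs2 b hb)) (K.inv_mem hs)
    rwa [mt_inv_mulVec] at this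
  obtain ⟨b, hb, hab⟩ := hAC.exists_pair hQ he₁ hind.ne_zero_left
  rw [Omega_eq_S hQ fr hgen]
  unfold S
  rw [Subgroup.closure_le]
  rintro g ⟨u, v, hu, huv, rfl⟩
  exact (S1_all hQ fr K (hAS e₁ he₁) (hCS b hb) (by rw [hab]; exact one_ne_zero) hu).2 v huv

/-- **abstract maximality** -/
theorem o_pair_max (hQ : (QuadraticMap.polarBilin Q).Nondegenerate) (fr : Frame3 Q)
    (hgen : ∀ (H : Subgroup ↥(Cfsg.isometryGroup F ⇑Q)),
      (∀ (v : ι → F) (hv : Q v ≠ 0), reflO Q v hv ∈ H) → ∀ g, g ∈ H)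
    (hAC : LP Q A C) (K : Subgroup ↥(Cfsg.isometryGroup F ⇑Q)) (hK : HasRoots K A C)
    (hbA : BigL Q A) (hbC : BigL Q C)
    (s : ↥(Cfsg.isometryGroup F ⇑Q)) (hs : s ∈ K) (hs1 : ∀ a ∈ A, mt Q s *ᵥ a ∈ C)
    (hs2 : ∀ b ∈ C, mt Q s *ᵥ b ∈ A)
    (k : ↥(Cfsg.isometryGroup F ⇑Q)) (hk : k ∈ K)
    (hkn : ¬ ((A = mp k A ∧ C = mp k C) ∨ (A = mp k C ∧ C = mp k A))) :
    Cfsg.Omega F ⇑Q ≤ K := by
  obtain ⟨e₁, e₂, hind, hm, h1, hL⟩ := exists_RL hQ hAC K hK hbA hbC k hk hkn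
  rcases hm with ⟨he₁, he₂⟩ | ⟨he₁, he₂⟩
  · exact omega_le_of_RL hQ fr hgen hAC K hK s hs hs2 he₁ he₂ hind h1 hL
  · exact omega_le_of_RL hQ fr hgen hAC.symm K (hK.symm hAC) s hs hs1 he₁ he₂ hind h1 hL

end Cfsg.Agent.Helper28.OSP
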