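import Mathlib
import Cfsg.Prelude.Def_GeometricClasses
import Cfsg.Agent.Helper28.OSing4
import Cfsg.Agent.S0749

set_option autoImplicit false
set_option linter.unusedSectionVars false

/-! The swap element of a pair of complementary totally singular subspaces of even dimension
(a product of an even number of reflections of equal norm), and `BigL` from the dimension. -/

namespace Cfsg.Agent.Helper28.OSP

open Matrix Module Cfsg.Agent.Helper28.Sg Cfsg.Agent.Helper28.OM Cfsg.Agent.Helper28.Spin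
  Cfsg.Agent.Helper28.NDM Cfsg.Agent.Helper28.OFN

variable {F : Type*} [Field F] [Fintype F] {ι : Type} [Fintype ι] [DecidableEq ι]
  {Q : QuadraticForm F (ι → F)}

variable {A C : Submodule F (ι → F)}

theorem bigL_of_finrank (W : Submodule F (ι → F)) (h : 5 ≤ finrank F W) : BigL Q W := by
  intro y₁ y₂ y₃
  set f : W →ₗ[F] (F × F × F) :=
    ((QuadraticMap.polarBilin Q y₁).comp W.subtype).prod
      (((QuadraticMap.polarBilin Q y₂).comp W.subtype).prod
        ((QuadraticMap.polarBilin Q y₃).comp W.subtype)) with hf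
  have hker : 2 ≤ finrank F (LinearMap.ker f) := by
    have h1 := LinearMap.finrank_range_add_finrank_ker f
    have h2 : finrank F (LinearMap.range f) ≤ 3 := by
      have := Submodule.finrank_le (LinearMap.range f)
      simpa [Module.finrank_prod] using this
    omega
  obtain ⟨x, hx0⟩ : ∃ x : LinearMap.ker f, x ≠ 0 := by
    have : 0 < finrank F (LinearMap.ker f) := by omega
    exact (Module.finrank_pos_iff_exists_ne_zero (R := F) (M := ↥(LinearMap.ker f))).mp this
  obtain ⟨y, hxy⟩ := exists_linearIndependent_pair_of_one_lt_finrank (R := F)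
    (M := ↥(LinearMap.ker f)) (by omega : 1 < finrank F (LinearMap.ker f)) hx0
  have hxy := (LinearIndependent.pair_iff (R := F) (M := ↥(LinearMap.ker f))).mp hxy
  have hx' : f x.1 = 0 := LinearMap.mem_ker.mp x.2
  have hy' : f y.1 = 0 := LinearMap.mem_ker.mp y.2
  refine ⟨(x.1 : ι → F), x.1.2, (y.1 : ι → F), y.1.2, ?_, ?_, ?_, ?_, ?_, ?_, ?_⟩
  · intro s t hst
    apply hxy s t
    apply Subtype.ext
    apply Subtype.ext
    simpa using hst
  · exact congrArg Prod.fst hx'
  · exact congrArg (fun p => p.2.1) hx'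
  · exact congrArg (fun p => p.2.2) hx'
  · exact congrArg Prod.fst hy'
  · exact congrArg (fun p => p.2.1) hy'
  · exact congrArg (fun p => p.2.2) hy'

theorem B_sum_left {κ : Type*} (s : Finset κ) (c : κ → F) (v : κ → ι → F) (y : ι → F) :
    B Q (∑ i ∈ s, c i • v i) y = ∑ i ∈ s, c i * B Q (v i) y := by
  show (QuadraticMap.polarBilin Q) (∑ i ∈ s, c i • v i) y = _
  rw [map_sum, LinearMap.sum_apply]
  apply Finset.sum_congr rfl
  intro i _
  rw [map_smul, LinearMap.smul_apply, smul_eq_mul]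
  rfl

theorem exists_swap (hQ : (QuadraticMap.polarBilin Q).Nondegenerate)
    (hcard : Fintype.card F ≠ 2 ∨ Fintype.card ι ≠ 4) (hAC : LP Q A C) {k' : ℕ}
    (hA : finrank F A = 2 * k') (hC : finrank F C = 2 * k') :
    ∃ s ∈ Cfsg.Omega F ⇑Q, (∀ a ∈ A, mt Q s *ᵥ a ∈ C) ∧ (∀ b ∈ C, mt Q s *ᵥ b ∈ A) := by
  classical
  have : Module.Finite F A := Module.Finite.of_injective A.subtype Subtype.val_injective
  set bA : Basis (Fin (2 * k')) F A := Module.finBasisOfFinrankEq F A hA with hbA
  set e : Fin (2 * k') → (ι → F) := fun i => (bA i : ι → F) with he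
  have heA : ∀ i, e i ∈ A := fun i => (bA i).2
  have hsumA : ∀ a : A, (a : ι → F) = ∑ i, bA.repr a i • e i := by
    intro a
    conv_lhs => rw [← bA.sum_repr a]
    rw [Submodule.coe_sum]
    rfl
  set Ψ : C →ₗ[F] (Fin (2 * k') → F) :=
    LinearMap.pi (fun i => (QuadraticMap.polarBilin Q (e i)).comp C.subtype) with hΨ
  have hΨa : ∀ (b : C) i, Ψ b i = B Q (e i) (b : ι → F) := fun b i => rfl
  have hinj : Function.Injective Ψ := by
    rw [← LinearMap.ker_eq_bot, LinearMap.ker_eq_bot']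
    intro b hb
    apply Subtype.ext
    apply hAC.disj hQ _ b.2
    apply hAC.perp_mem hQ
    intro a ha
    rw [show (a : ι → F) = ∑ i, bA.repr ⟨a, ha⟩ i • e i from hsumA ⟨a, ha⟩, B_sum_left]
    apply Finset.sum_eq_zero
    intro i _
    rw [← hΨa, hb]
    simp
  set Ψe : C ≃ₗ[F] (Fin (2 * k') → F) :=
    LinearMap.linearEquivOfInjective Ψ hinj (by rw [hC]; simp) with hΨe
  set f : Fin (2 * k') → (ι → F) := fun j => ((Ψe.symm (Pi.single j 1) : C) : ι → F) with hf
  have hfC : ∀ j, f j ∈ C := fun j => (Ψe.symm (Pi.single j 1)).2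
  have hef : ∀ i j, B Q (e i) (f j) = if i = j then 1 else 0 := by
    intro i j
    have h1 : Ψe (Ψe.symm (Pi.single j 1)) i = (Pi.single j (1 : F) : Fin (2 * k') → F) i := by
      rw [LinearEquiv.apply_symm_apply]
    rw [Pi.single_apply] at h1
    rw [← h1]
    rfl
  have hsumC : ∀ b : C, (b : ι → F) = ∑ j, Ψe b j • f j := by
    intro b
    have h1 : Ψe b = ∑ j, Ψe b j • (Pi.single j (1 : F) : Fin (2 * k') → F) := by
      funext i
      simp [Finset.sum_apply, Pi.single_apply]
    have h2 : b = ∑ j, Ψe b j • Ψe.symm (Pi.single j (1 : F)) := by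
      apply Ψe.injective
      rw [map_sum]
      simp only [map_smul, LinearEquiv.apply_symm_apply]
      exact h1
    conv_lhs => rw [h2]
    rw [Submodule.coe_sum]
    rfl
  -- the anisotropic vectors `e i - f i`
  set v : Fin (2 * k') → (ι → F) := fun i => e i - f i with hvdef
  have hee : ∀ i j, B Q (e i) (e j) = 0 := fun i j => hAC.isoA _ (heA i) _ (heA j)
  have hff : ∀ i j, B Q (f i) (f j) = 0 := fun i j => hAC.isoB _ (hfC i) _ (hfC j)
  have hQv : ∀ i, Q (v i) = -1 := by
    intro i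
    rw [hvdef]
    show Q (e i - f i) = -1
    rw [Q_sub', hAC.tsA _ (heA i), hAC.tsB _ (hfC i), hef i i, if_pos rfl]
    ring
  have hv : ∀ i, Q (v i) ≠ 0 := by
    intro i
    rw [hQv]
    exact neg_ne_zero.mpr one_ne_zero
  have hr : ∀ i x, mt Q (reflO Q (v i) (hv i)) *ᵥ x = x + B Q (v i) x • v i := by
    intro i x
    rw [reflO_mulVec, hQv, inv_neg, inv_one]
    module
  have hBve : ∀ i j, B Q (v i) (e j) = if i = j then -1 else 0 := by
    intro i j
    show B Q (e i - f i) (e j) = _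
    rw [B_sub_left', hee, B_comm Q (f i) (e j), hef j i]
    by_cases h : i = j
    · rw [if_pos h, if_pos h.symm]; ring
    · rw [if_neg h, if_neg (fun h' => h h'.symm)]; ring
  have hBvf : ∀ i j, B Q (v i) (f j) = if i = j then 1 else 0 := by
    intro i j
    show B Q (e i - f i) (f j) = _
    rw [B_sub_left', hff, hef i j, sub_zero]
  have hre : ∀ i j, mt Q (reflO Q (v i) (hv i)) *ᵥ e j = if i = j then f j else e j := by
    intro i j
    rw [hr, hBve]
    by_cases h : i = j
    · rw [if_pos h, if_pos h, h]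
      show e j + (-1 : F) • (e j - f j) = f j
      module
    · rw [if_neg h, if_neg h, zero_smul, add_zero]
  have hrf : ∀ i j, mt Q (reflO Q (v i) (hv i)) *ᵥ f j = if i = j then e j else f j := by
    intro i j
    rw [hr, hBvf]
    by_cases h : i = j
    · rw [if_pos h, if_pos h, h]
      show f j + (1 : F) • (e j - f j) = e j
      module
    · rw [if_neg h, if_neg h, zero_smul, add_zero]
  have ind : ∀ l : ℕ, 2 * l ≤ 2 * k' → ∃ g ∈ Cfsg.Omega F ⇑Q, ∀ i : Fin (2 * k'),
      ((i : ℕ) < 2 * l → mt Q g *ᵥ e i = f i ∧ mt Q g *ᵥ f i = e i) ∧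
      (2 * l ≤ (i : ℕ) → mt Q g *ᵥ e i = e i ∧ mt Q g *ᵥ f i = f i) := by
    intro l
    induction l with
    | zero =>
      intro _
      exact ⟨1, Subgroup.one_mem _, fun i => ⟨fun h => absurd h (by omega),
        fun _ => ⟨mt_one_mulVec Q _, mt_one_mulVec Q _⟩⟩⟩
    | succ l ih =>
      intro hl
      obtain ⟨g, hg, hgi⟩ := ih (by omega)
      obtain ⟨i0, hi0⟩ : ∃ i0 : Fin (2 * k'), (i0 : ℕ) = 2 * l := ⟨⟨2 * l, by omega⟩, rfl⟩
      obtain ⟨i1, hi1⟩ : ∃ i1 : Fin (2 * k'), (i1 : ℕ) = 2 * l + 1 := ⟨⟨2 * l + 1, by omega⟩, rfl⟩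
      have h01 : i0 ≠ i1 := by
        intro h
        have := congrArg Fin.val h
        omega
      refine ⟨g * (reflO Q (v i0) (hv i0) * reflO Q (v i1) (hv i1)),
        (Cfsg.Omega F ⇑Q).mul_mem hg
          (Cfsg.Agent.Helper28.OC.reflO_mul_mem_Omega Q hQ hcard _ _ _ _ (by rw [hQv, hQv])), ?_⟩
      intro i
      have hact : ∀ x, mt Q (g * (reflO Q (v i0) (hv i0) * reflO Q (v i1) (hv i1))) *ᵥ x =
          mt Q g *ᵥ (mt Q (reflO Q (v i0) (hv i0)) *ᵥ (mt Q (reflO Q (v i1) (hv i1)) *ᵥ x)) := by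
        intro x
        rw [mt_mul_mulVec, mt_mul_mulVec]
      by_cases hii0 : i0 = i
      · have hne1 : i1 ≠ i := fun h => h01 (hii0.trans h.symm)
        have hge := (hgi i).2 (by rw [← hii0, hi0])
        refine ⟨fun _ => ⟨?_, ?_⟩, fun h => absurd h (by rw [← hii0, hi0]; omega)⟩
        · rw [hact, hre i1 i, if_neg hne1, hre i0 i, if_pos hii0]
          exact hge.2
        · rw [hact, hrf i1 i, if_neg hne1, hrf i0 i, if_pos hii0]
          exact hge.1
      · by_cases hii1 : i1 = i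
        · have hge := (hgi i).2 (by rw [← hii1, hi1]; omega)
          refine ⟨fun _ => ⟨?_, ?_⟩, fun h => absurd h (by rw [← hii1, hi1]; omega)⟩
          · rw [hact, hre i1 i, if_pos hii1, hrf i0 i, if_neg hii0]
            exact hge.2
          · rw [hact, hrf i1 i, if_pos hii1, hre i0 i, if_neg hii0]
            exact hge.1
        · have hne0 : (i : ℕ) ≠ 2 * l := fun h => hii0 (Fin.ext (by rw [hi0, h]))
          have hne1 : (i : ℕ) ≠ 2 * l + 1 := fun h => hii1 (Fin.ext (by rw [hi1, h]))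
          have e1 : mt Q (g * (reflO Q (v i0) (hv i0) * reflO Q (v i1) (hv i1))) *ᵥ e i =
              mt Q g *ᵥ e i := by
            rw [hact, hre i1 i, if_neg hii1, hre i0 i, if_neg hii0]
          have e2 : mt Q (g * (reflO Q (v i0) (hv i0) * reflO Q (v i1) (hv i1))) *ᵥ f i =
              mt Q g *ᵥ f i := by
            rw [hact, hrf i1 i, if_neg hii1, hrf i0 i, if_neg hii0]
          rw [e1, e2]
          exact ⟨fun h => (hgi i).1 (by omega), fun h => (hgi i).2 (by omega)⟩
  obtain ⟨s, hs, hsi⟩ := ind k' le_rfl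
  have hse : ∀ i, mt Q s *ᵥ e i = f i := fun i => ((hsi i).1 i.2).1
  have hsf : ∀ i, mt Q s *ᵥ f i = e i := fun i => ((hsi i).1 i.2).2
  refine ⟨s, hs, ?_, ?_⟩
  · intro a ha
    rw [show (a : ι → F) = ∑ i, bA.repr ⟨a, ha⟩ i • e i from hsumA ⟨a, ha⟩, Matrix.mulVec_sum]
    apply Submodule.sum_mem
    intro i _
    rw [mulVec_smul, hse]
    exact C.smul_mem _ (hfC i)
  · intro b hb
    rw [show (b : ι → F) = ∑ j, Ψe ⟨b, hb⟩ j • f j from hsumC ⟨b, hb⟩, Matrix.mulVec_sum]
    apply Submodule.sum_mem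
    intro i _
    rw [mulVec_smul, hsf]
    exact A.smul_mem _ (heA i)

end Cfsg.Agent.Helper28.OSP
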