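import Mathlib
import Cfsg.Prelude.Def_GeometricClasses
import Cfsg.Agent.Helper28.OSing5

set_option autoImplicit false
set_option linter.unusedSectionVars false

/-! Maximality of the stabiliser `GL_k(q).2` of a pair of complementary totally singular subspaces
in `Ω⁺_2k(q)`, `k` even, `k ≥ 5`. -/

namespace Cfsg.Agent.Helper28.OSP

open Matrix Module Cfsg.Agent.Helper28.Sg Cfsg.Agent.Helper28.OM Cfsg.Agent.Helper28.Spin
  Cfsg.Agent.Helper28.NDM Cfsg.Agent.Helper28.OFN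

variable {F : Type*} [Field F] [Fintype F] {ι : Type} [Fintype ι] [DecidableEq ι]
  {Q : QuadraticForm F (ι → F)}

theorem gl_inv_mulVec' (g : GL ι F) (x : ι → F) :
    ((g⁻¹ : GL ι F) : Matrix ι ι F) *ᵥ ((g : Matrix ι ι F) *ᵥ x) = x := by
  rw [Matrix.mulVec_mulVec, ← Units.val_mul, inv_mul_cancel, Units.val_one, Matrix.one_mulVec]

theorem mem_decompStab_of'' {t k : ℕ} (D : Fin t → Submodule F (ι → F))
    (hk : ∀ i, finrank F (D i) = k) (g : GL ι F) (σ : Equiv.Perm (Fin t))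
    (hg : ∀ i, ∀ x ∈ D i, (g : Matrix ι ι F) *ᵥ x ∈ D (σ i)) :
    g ∈ Cfsg.Geo.decompositionStabilizer D := by
  refine ⟨σ, fun i => ?_⟩
  apply Submodule.eq_of_le_of_finrank_eq
  · rintro _ ⟨x, hx, rfl⟩
    rw [Matrix.toLin'_apply]
    exact hg i x hx
  · rw [hk (σ i), Cfsg.Agent.S0749.finrank_map_of_injOn _ _ ?_, hk i]
    intro x _ hx
    rw [Matrix.toLin'_apply] at hx
    have := congrArg (fun z => ((g⁻¹ : GL ι F) : Matrix ι ι F) *ᵥ z) hx
    simp only [gl_inv_mulVec', mulVec_zero] at this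
    exact this

theorem forall_of_mem_decompStab'' {t : ℕ} (D : Fin t → Submodule F (ι → F)) (g : GL ι F)
    (hg : g ∈ Cfsg.Geo.decompositionStabilizer D) :
    ∃ σ : Equiv.Perm (Fin t), ∀ i, ∀ x ∈ D i, (g : Matrix ι ι F) *ᵥ x ∈ D (σ i) := by
  obtain ⟨σ, hσ⟩ := hg
  refine ⟨σ, fun i x hx => ?_⟩
  rw [← hσ i]
  exact ⟨x, hx, Matrix.toLin'_apply _ _⟩

theorem pair_maximal (hQ : (QuadraticMap.polarBilin Q).Nondegenerate) (fr : Frame3 Q)
    (hgen : ∀ (H : Subgroup ↥(Cfsg.isometryGroup F ⇑Q)),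
      (∀ (v : ι → F) (hv : Q v ≠ 0), reflO Q v hv ∈ H) → ∀ g, g ∈ H)
    (hcard : Fintype.card F ≠ 2 ∨ Fintype.card ι ≠ 4) {k k' : ℕ} (hkk : k = 2 * k')
    (h5 : 5 ≤ k) (D : Fin 2 → Submodule F (ι → F)) (hD : Cfsg.Geo.IsMDecomposition k D)
    (hts : ∀ i, Cfsg.Geo.IsTotallySingularQuad ⇑Q (D i)) :
    Cfsg.Geo.IsMaximalIn (Cfsg.Geo.omegaGL ⇑Q)
      (Cfsg.Geo.decompositionStabilizer D ⊓ Cfsg.Geo.omegaGL ⇑Q) := by
  classical
  have hAC : LP Q (D 0) (D 1) := by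
    refine ⟨hts 0, hts 1, fun x => ?_⟩
    have hx : x ∈ iSup D := by rw [hD.iSup_eq_top]; trivial
    have hle : iSup D ≤ D 0 ⊔ D 1 := by
      apply iSup_le
      intro i
      fin_cases i
      · exact le_sup_left
      · exact le_sup_right
    obtain ⟨a, ha, b, hb, rfl⟩ := Submodule.mem_sup.mp (hle hx)
    exact ⟨a, ha, b, hb, rfl⟩
  have hbA : BigL Q (D 0) := bigL_of_finrank (D 0) (by rw [hD.finrank_eq 0]; exact h5)
  have hbC : BigL Q (D 1) := bigL_of_finrank (D 1) (by rw [hD.finrank_eq 1]; exact h5)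
  obtain ⟨s, hsΩ, hs1, hs2⟩ := exists_swap hQ hcard hAC
    (by rw [hD.finrank_eq 0]; exact hkk) (by rw [hD.finrank_eq 1]; exact hkk)
  have hSO := S_le_Omega hQ fr
  have hmem1 : ∀ g : ↥(Cfsg.isometryGroup F ⇑Q),
      (∀ a ∈ D 0, mt Q g *ᵥ a ∈ D 0) → (∀ b ∈ D 1, mt Q g *ᵥ b ∈ D 1) →
      (g : GL ι F) ∈ Cfsg.Geo.decompositionStabilizer D := by
    intro g h0 h1
    refine mem_decompStab_of'' D hD.finrank_eq (g : GL ι F) 1 ?_
    intro i x hx
    fin_cases i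
    · exact h0 x hx
    · exact h1 x hx
  have hmem2 : ∀ g : ↥(Cfsg.isometryGroup F ⇑Q),
      (∀ a ∈ D 0, mt Q g *ᵥ a ∈ D 1) → (∀ b ∈ D 1, mt Q g *ᵥ b ∈ D 0) →
      (g : GL ι F) ∈ Cfsg.Geo.decompositionStabilizer D := by
    intro g h0 h1
    refine mem_decompStab_of'' D hD.finrank_eq (g : GL ι F) (Equiv.swap 0 1) ?_
    intro i x hx
    fin_cases i
    · exact h0 x hx
    · exact h1 x hx
  refine ⟨lt_of_le_of_ne inf_le_right ?_, ?_⟩
  · intro heq
    obtain ⟨z₁, hz₁, z₂, hz₂, hind, -, -, -, -, -, -⟩ := hbA 0 0 0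
    obtain ⟨f₁, hf₁, -, -, e11, e21, -, -⟩ := hAC.exists_dual2 hQ hz₁ hz₂ hind
    have hQz : Q z₁ = 0 := hAC.tsA z₁ hz₁
    have hzz : B Q z₁ z₂ = 0 := hAC.isoA z₁ hz₁ z₂ hz₂
    have h1 : ((siegO Q z₁ z₂ hQz hzz : ↥(Cfsg.isometryGroup F ⇑Q)) : GL ι F) ∈
        Cfsg.Geo.decompositionStabilizer D ⊓ Cfsg.Geo.omegaGL ⇑Q := by
      rw [heq]
      exact (Cfsg.Agent.Helper28.NM.mem_omegaGL_iff Q _).mpr
        ⟨_, hSO (siegO_mem_S Q _ _ _ _), rfl⟩
    obtain ⟨σ, hσ⟩ := forall_of_mem_decompStab'' D _ h1.1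
    have h3 := hσ 1 f₁ hf₁
    have h4 : mt Q (siegO Q z₁ z₂ hQz hzz) *ᵥ f₁ = f₁ + z₂ := by
      rw [siegO_mulVec, e11, e21, hAC.tsA z₂ hz₂]
      simp
    have h3' : f₁ + z₂ ∈ D (σ 1) := by rw [← h4]; exact h3
    have hcases : σ 1 = 0 ∨ σ 1 = 1 := by
      generalize σ 1 = j
      fin_cases j
      · left; rfl
      · right; rfl
    rcases hcases with h | h
    · rw [h] at h3'
      have hfA : f₁ ∈ D 0 := by
        have := (D 0).sub_mem h3' hz₂
        rwa [add_sub_cancel_right] at this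
      have hf0 := hAC.disj hQ hfA hf₁
      rw [hf0] at e11
      have : B Q z₁ 0 = 0 := QuadraticMap.polar_zero_right _ _
      rw [this] at e11
      exact zero_ne_one e11
    · rw [h] at h3'
      have hzC : z₂ ∈ D 1 := by
        have := (D 1).sub_mem h3' hf₁
        rwa [add_sub_cancel_left] at this
      exact hind.symm.ne_zero_left (hAC.disj hQ hz₂ hzC)
  · intro M hHM hMS
    by_cases hMH : M ≤ Cfsg.Geo.decompositionStabilizer D ⊓ Cfsg.Geo.omegaGL ⇑Q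
    · left; exact le_antisymm hMH hHM
    right
    refine le_antisymm hMS ?_
    obtain ⟨g, hgM, hgH⟩ := SetLike.not_le_iff_exists.mp hMH
    obtain ⟨g₀, hg₀Ω, rfl⟩ := (Cfsg.Agent.Helper28.NM.mem_omegaGL_iff Q _).mp (hMS hgM)
    have key : Cfsg.Omega F ⇑Q ≤ M.comap (Cfsg.isometryGroup F ⇑Q).subtype := by
      refine o_pair_max hQ fr hgen hAC (M.comap (Cfsg.isometryGroup F ⇑Q).subtype) ?_ hbA hbC
        s ?_ hs1 hs2 g₀ hgM ?_
      · intro a ha b hb hQa hab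
        apply hHM
        refine ⟨hmem1 _ ?_ ?_, (Cfsg.Agent.Helper28.NM.mem_omegaGL_iff Q _).mpr
          ⟨siegO Q a b hQa hab, hSO (siegO_mem_S Q a b hQa hab), rfl⟩⟩
        · intro x hx
          rw [siegO_mulVec, hAC.isoA a ha x hx]
          simp only [zero_smul, mul_zero, add_zero, sub_zero]
          exact (D 0).sub_mem hx ((D 0).smul_mem _ ha)
        · intro x hx
          rw [siegO_mulVec, hAC.isoB b hb x hx, hAC.tsB b hb]
          simp only [zero_smul, zero_mul, sub_zero]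
          exact (D 1).add_mem hx ((D 1).smul_mem _ hb)
      · exact hHM ⟨hmem2 s hs1 hs2, (Cfsg.Agent.Helper28.NM.mem_omegaGL_iff Q _).mpr ⟨s, hsΩ, rfl⟩⟩
      · intro h
        apply hgH
        refine ⟨?_, hMS hgM⟩
        rcases h with ⟨h1, h2'⟩ | ⟨h1, h2'⟩
        · refine hmem1 g₀ ?_ ?_
          · intro a ha
            rw [h1]; exact mulVec_mem_mp g₀ _ ha
          · intro b hb
            rw [h2']; exact mulVec_mem_mp g₀ _ hb
        · refine hmem2 g₀ ?_ ?_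
          · intro a ha
            rw [h2']; exact mulVec_mem_mp g₀ _ ha
          · intro b hb
            rw [h1]; exact mulVec_mem_mp g₀ _ hb
    unfold Cfsg.Geo.omegaGL
    rw [Subgroup.map_le_iff_le_comap]
    exact key

/-- the statement for a function-valued nondegenerate quadratic form -/
theorem pair_maximal_fun (Q₀ : (ι → F) → F) (hQ₀ : Cfsg.Geo.IsNondegenerateQuadraticForm Q₀)
    (hn : 8 ≤ Fintype.card ι) {k k' : ℕ} (hkk : k = 2 * k') (h5 : 5 ≤ k)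
    (D : Fin 2 → Submodule F (ι → F)) (hD : Cfsg.Geo.IsMDecomposition k D)
    (hts : ∀ i, Cfsg.Geo.IsTotallySingularQuad Q₀ (D i)) :
    Cfsg.Geo.IsMaximalIn (Cfsg.Geo.omegaGL Q₀)
      (Cfsg.Geo.decompositionStabilizer D ⊓ Cfsg.Geo.omegaGL Q₀) := by
  have hQ := Cfsg.Agent.Helper28.NM.ofFun_nondeg Q₀ hQ₀
  obtain ⟨fr⟩ := exists_frame3 hQ hn
  have key := pair_maximal hQ fr (hgen_all hQ (by omega)) (Or.inr (by omega)) hkk h5 D hD hts
  exact key

end Cfsg.Agent.Helper28.OSP
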