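import Mathlib

set_option autoImplicit false

/-! Abstract lemma on symplectic spaces: a family of pairs closed under the action of symplectic
transvections and containing one independent orthogonal pair contains all of them. -/

namespace Cfsg.Agent.Helper28.USub

open Module

variable {k E : Type*} [Field k] [AddCommGroup E] [Module k E]

/-- elementary linear independence of a pair -/
def Indep (k : Type*) {E : Type*} [Field k] [AddCommGroup E] [Module k E] (a b : E) : Prop :=
  ∀ s t : k, s • a + t • b = 0 → s = 0 ∧ t = 0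

theorem Indep.symm {a b : E} (hab : Indep k a b) : Indep k b a := by
  intro s t hst
  rw [add_comm] at hst
  exact (hab t s hst).symm

theorem Indep.ne_zero_left {a b : E} (hab : Indep k a b) : a ≠ 0 := by
  intro h0
  have := hab 1 0 (by rw [h0]; simp)
  exact one_ne_zero this.1

theorem Indep.ne_zero_right {a b : E} (hab : Indep k a b) : b ≠ 0 := hab.symm.ne_zero_left

variable (B : LinearMap.BilinForm k E)

/-- hypotheses on the form: alternating and nondegenerate -/
structure Sympl : Prop where
  alt : ∀ x, B x x = 0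
  nondeg : ∀ a, (∀ x, B a x = 0) → a = 0

variable {B}

theorem Sympl.skew (hB : Sympl B) (x y : E) : B x y = - B y x := by
  have h1 := hB.alt (x + y)
  simp only [map_add, LinearMap.add_apply, hB.alt, zero_add, add_zero] at h1
  linear_combination h1

theorem Sympl.exists_dual (hB : Sympl B) {a b : E} (hab : Indep k a b) :
    ∃ x, B a x = 1 ∧ B b x = 0 := by
  let f : E →ₗ[k] (k × k) := (B a).prod (B b)
  have hf : ∀ x, f x = (B a x, B b x) := fun x => rfl
  have hr : LinearMap.range f = ⊤ := by
    by_contra hne
    obtain ⟨φ, hφ0, hφ⟩ := (LinearMap.range f).exists_le_ker_of_lt_top (lt_top_iff_ne_top.mpr hne)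
    have h1 : ∀ x, φ (1, 0) * B a x + φ (0, 1) * B b x = 0 := by
      intro x
      have h2 : f x ∈ LinearMap.ker φ := hφ (LinearMap.mem_range_self f x)
      rw [LinearMap.mem_ker, hf] at h2
      have h3 : ((B a x, B b x) : k × k) = B a x • ((1, 0) : k × k) + B b x • ((0, 1) : k × k) := by
        simp
      rw [h3, map_add, map_smul, map_smul, smul_eq_mul, smul_eq_mul] at h2
      linear_combination h2
    have h4 : φ (1, 0) • a + φ (0, 1) • b = 0 := by
      apply hB.nondeg
      intro x
      simp only [map_add, map_smul, LinearMap.add_apply, LinearMap.smul_apply, smul_eq_mul]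
      exact h1 x
    obtain ⟨h5, h6⟩ := hab _ _ h4
    apply hφ0
    apply LinearMap.ext
    intro ⟨x, y⟩
    have h3 : ((x, y) : k × k) = x • ((1, 0) : k × k) + y • ((0, 1) : k × k) := by simp
    rw [h3, map_add, map_smul, map_smul, h5, h6]
    simp
  have : ((1, 0) : k × k) ∈ LinearMap.range f := by rw [hr]; trivial
  obtain ⟨x, hx⟩ := this
  rw [hf] at hx
  exact ⟨x, congrArg Prod.fst hx, congrArg Prod.snd hx⟩

/-- closure of a family of pairs under symplectic transvections -/
def Closed (B : LinearMap.BilinForm k E) (Pr : E → E → Prop) : Prop :=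
  ∀ a b, Pr a b → ∀ (u : E) (t : k), Pr (a + (t * B a u) • u) (b + (t * B b u) • u)

theorem Closed.swap {Pr : E → E → Prop} (hc : Closed B Pr) : Closed B (fun a b => Pr b a) :=
  fun a b hab u t => hc b a hab u t

theorem moveA {Pr : E → E → Prop} (hc : Closed B Pr) {a b u : E} (hab : Pr a b) (hbu : B b u = 0)
    (hau : B a u ≠ 0) (t : k) : Pr (a + t • u) b := by
  have := hc a b hab u (t / B a u)
  rwa [hbu, mul_zero, zero_smul, add_zero, div_mul_cancel₀ _ hau] at this

theorem stepA (hB : Sympl B) {Pr : E → E → Prop} (hc : Closed B Pr) {a b a' : E} (hab : Pr a b)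
    (h0 : B a b = 0) (h0' : B a' b = 0) (hi : Indep k a b) (hi' : Indep k a' b) : Pr a' b := by
  have hba : B b a = 0 := by rw [hB.skew, h0, neg_zero]
  have hba' : B b a' = 0 := by rw [hB.skew, h0', neg_zero]
  by_cases h1 : B a a' ≠ 0
  · have := moveA hc hab (u := a' - a) (by rw [map_sub, hba, hba', sub_zero])
      (by rw [map_sub, hB.alt, sub_zero]; exact h1) 1
    rwa [one_smul, add_sub_cancel] at this
  · push Not at h1
    obtain ⟨x1, hx1, hx1b⟩ := hB.exists_dual hi
    obtain ⟨x2, hx2, hx2b⟩ := hB.exists_dual hi'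
    have hbx1 : B b x1 = 0 := hx1b
    have hbx2 : B b x2 = 0 := hx2b
    -- find m with B a m ≠ 0, B a' m ≠ 0, B b m = 0
    obtain ⟨m, hm1, hm2, hm3⟩ : ∃ m, B a m ≠ 0 ∧ B a' m ≠ 0 ∧ B b m = 0 := by
      by_cases h2 : B a' x1 ≠ 0
      · exact ⟨x1, by rw [hx1]; exact one_ne_zero, h2, hbx1⟩
      · push Not at h2
        by_cases h3 : B a x2 ≠ 0
        · exact ⟨x2, h3, by rw [hx2]; exact one_ne_zero, hbx2⟩
        · push Not at h3
          refine ⟨x1 + x2, ?_, ?_, ?_⟩
          · rw [map_add, hx1, h3, add_zero]; exact one_ne_zero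
          · rw [map_add, h2, hx2, zero_add]; exact one_ne_zero
          · rw [map_add, hbx1, hbx2, add_zero]
    have s1 : Pr (a + m) b := by
      have := moveA hc hab hm3 hm1 1
      rwa [one_smul] at this
    have hma' : B m a' ≠ 0 := by rw [hB.skew]; exact neg_ne_zero.mpr hm2
    have := moveA hc s1 (u := a' - (a + m))
      (by rw [map_sub, map_add, hba, hba', hm3]; ring)
      (by
        rw [map_sub, hB.alt, sub_zero, map_add, LinearMap.add_apply, h1, zero_add]
        exact hma') 1
    rwa [one_smul, add_sub_cancel] at this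

theorem stepB (hB : Sympl B) {Pr : E → E → Prop} (hc : Closed B Pr) {a b b' : E} (hab : Pr a b)
    (h0 : B a b = 0) (h0' : B a b' = 0) (hi : Indep k a b) (hi' : Indep k a b') : Pr a b' :=
  stepA hB hc.swap (a := b) (b := a) (a' := b') hab (by rw [hB.skew, h0, neg_zero])
    (by rw [hB.skew, h0', neg_zero]) hi.symm hi'.symm

theorem exists_mid (hB : Sympl B) [FiniteDimensional k E] (h3 : 3 ≤ finrank k E) {b b' a' : E}
    (hi' : Indep k a' b') (h0' : B a' b' = 0) (hb : b ≠ 0) :
    ∃ c, B c b = 0 ∧ B c b' = 0 ∧ Indep k c b ∧ Indep k c b' := by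
  by_cases h1 : B b b' ≠ 0
  · -- any nonzero vector orthogonal to both
    let f : E →ₗ[k] (k × k) := (B b).prod (B b')
    have hker : LinearMap.ker f ≠ ⊥ := by
      apply LinearMap.ker_ne_bot_of_finrank_lt
      rw [Module.finrank_prod, Module.finrank_self]
      omega
    obtain ⟨c, hc, hc0⟩ := (Submodule.ne_bot_iff _).mp hker
    have hc' : f c = 0 := LinearMap.mem_ker.mp hc
    have e1 : B b c = 0 := congrArg Prod.fst hc'
    have e2 : B b' c = 0 := congrArg Prod.snd hc'
    have e3 : B c b = 0 := by rw [hB.skew, e1, neg_zero]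
    have e4 : B c b' = 0 := by rw [hB.skew, e2, neg_zero]
    have hb'b : B b' b ≠ 0 := by rw [hB.skew]; exact neg_ne_zero.mpr h1
    refine ⟨c, e3, e4, ?_, ?_⟩
    · intro s t hst
      have h2 := congrArg (fun z => B z b') hst
      simp only [map_add, map_smul, LinearMap.add_apply, LinearMap.smul_apply, e4, smul_eq_mul,
        mul_zero, zero_add, map_zero, LinearMap.zero_apply] at h2
      have ht : t = 0 := by
        rcases mul_eq_zero.mp h2 with h | h
        · exact h
        · exact absurd h h1
      rw [ht, zero_smul, add_zero] at hst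
      rcases smul_eq_zero.mp hst with h | h
      · exact ⟨h, ht⟩
      · exact absurd h hc0
    · intro s t hst
      have h2 := congrArg (fun z => B z b) hst
      simp only [map_add, map_smul, LinearMap.add_apply, LinearMap.smul_apply, e3, smul_eq_mul,
        mul_zero, zero_add, map_zero, LinearMap.zero_apply] at h2
      have ht : t = 0 := by
        rcases mul_eq_zero.mp h2 with h | h
        · exact h
        · exact absurd h hb'b
      rw [ht, zero_smul, add_zero] at hst
      rcases smul_eq_zero.mp hst with h | h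
      · exact ⟨h, ht⟩
      · exact absurd h hc0
  · push Not at h1
    have hb'b : B b' b = 0 := by rw [hB.skew, h1, neg_zero]
    by_cases h2 : Indep k b b'
    · refine ⟨b + b', ?_, ?_, ?_, ?_⟩
      · rw [map_add, LinearMap.add_apply, hB.alt, hb'b, add_zero]
      · rw [map_add, LinearMap.add_apply, hB.alt, h1, add_zero]
      · intro s t hst
        have : (s + t) • b + s • b' = 0 := by rw [← hst]; module
        obtain ⟨e1, e2⟩ := h2 _ _ this
        refine ⟨e2, ?_⟩
        rw [e2, zero_add] at e1
        exact e1
      · intro s t hst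
        have : s • b + (s + t) • b' = 0 := by rw [← hst]; module
        obtain ⟨e1, e2⟩ := h2 _ _ this
        refine ⟨e1, ?_⟩
        rw [e1, zero_add] at e2
        exact e2
    · -- b and b' are proportional
      unfold Indep at h2
      push Not at h2
      obtain ⟨s, t, hst, hne⟩ := h2
      have hb' : b' ≠ 0 := hi'.ne_zero_right
      have hs : s ≠ 0 := by
        intro hs
        rw [hs, zero_smul, zero_add] at hst
        rcases smul_eq_zero.mp hst with h | h
        · exact hne hs h
        · exact hb' h
      have hbr : b = (-(t / s)) • b' := by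
        have h5 : s • b = -(t • b') := eq_neg_of_add_eq_zero_left hst
        have h6 : b = s⁻¹ • (s • b) := by rw [smul_smul, inv_mul_cancel₀ hs, one_smul]
        rw [h6, h5]
        rw [smul_neg, smul_smul, neg_smul]
        congr 2
        field_simp
      have hr0 : -(t / s) ≠ 0 := by
        intro h0
        rw [h0, zero_smul] at hbr
        exact hb hbr
      refine ⟨a', ?_, h0', ?_, hi'⟩
      · rw [hbr, map_smul, h0', smul_zero]
      · intro x y hxy
        rw [hbr, smul_smul] at hxy
        obtain ⟨e1, e2⟩ := hi' _ _ hxy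
        refine ⟨e1, ?_⟩
        rcases mul_eq_zero.mp e2 with h | h
        · exact h
        · exact absurd h hr0

/-- **transitivity on orthogonal independent pairs** -/
theorem pairs_all (hB : Sympl B) [FiniteDimensional k E] (h3 : 3 ≤ finrank k E)
    {Pr : E → E → Prop} (hc : Closed B Pr) {a b : E} (hab : Pr a b) (h0 : B a b = 0)
    (hi : Indep k a b) {a' b' : E} (h0' : B a' b' = 0) (hi' : Indep k a' b') : Pr a' b' := by
  obtain ⟨c, hc1, hc2, hc3, hc4⟩ := exists_mid hB h3 hi' h0' hi.ne_zero_right
  have s1 : Pr c b := stepA hB hc hab h0 hc1 hi hc3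
  have s2 : Pr c b' := stepB hB hc s1 hc1 hc2 hc3 hc4
  exact stepA hB hc s2 hc2 h0' hc4 hi'

end Cfsg.Agent.Helper28.USub
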