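import Mathlib
import Cfsg.Agent.Helper28.USub1

set_option autoImplicit false

/-! Abstract orthogonal geometry over a field of odd characteristic in which every subspace of
dimension three contains a singular vector (e.g. a finite field): dual vectors, hyperbolic pairs
perpendicular to a small subspace, singular vectors with prescribed products. -/

namespace Cfsg.Agent.Helper28.OSub

open Module Cfsg.Agent.Helper28.USub

variable {k E : Type*} [Field k] [AddCommGroup E] [Module k E]

/-- hypotheses on the form: symmetric, nondegenerate, odd characteristic, singular vectors in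
every subspace of dimension three -/
structure Orth (β : LinearMap.BilinForm k E) : Prop where
  symm : ∀ x y, β x y = β y x
  nondeg : ∀ a, (∀ x, β x a = 0) → a = 0
  two : (2 : k) ≠ 0
  iso : ∀ Y : Submodule k E, 3 ≤ finrank k Y → ∃ e ∈ Y, e ≠ 0 ∧ β e e = 0

variable {β : LinearMap.BilinForm k E}

theorem Orth.nd (hβ : Orth β) : β.Nondegenerate := by
  refine ⟨fun x hx => hβ.nondeg x (fun y => ?_), fun y hy => hβ.nondeg y hy⟩
  rw [hβ.symm]
  exact hx y

theorem Orth.exists_perp_one (hβ : Orth β) [FiniteDimensional k E] (W : Submodule k E) {x : E}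
    (hx : x ∉ W) : ∃ w, (∀ y ∈ W, β w y = 0) ∧ β w x = 1 := by
  obtain ⟨f, hfx, hfW⟩ := Submodule.exists_dual_map_eq_bot_of_notMem hx inferInstance
  set w₀ := (β.toDual hβ.nd).symm f with hw₀
  have h1 : ∀ v, β w₀ v = f v := fun v => LinearMap.BilinForm.apply_toDual_symm_apply f v
  refine ⟨(f x)⁻¹ • w₀, fun y hy => ?_, ?_⟩
  · have h2 : f y ∈ Submodule.map f W := Submodule.mem_map_of_mem hy
    rw [hfW, Submodule.mem_bot] at h2
    rw [map_smul, LinearMap.smul_apply, h1, h2, smul_zero]
  · rw [map_smul, LinearMap.smul_apply, h1, smul_eq_mul, inv_mul_cancel₀ hfx]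

theorem Orth.exists_dual2 (hβ : Orth β) [FiniteDimensional k E] {a b : E} (hab : Indep k a b)
    (α γ : k) : ∃ x, β x a = α ∧ β x b = γ := by
  have h1 : a ∉ Submodule.span k {b} := by
    intro hmem
    obtain ⟨t, ht⟩ := Submodule.mem_span_singleton.mp hmem
    have := hab 1 (-t) (by rw [one_smul, neg_smul, ht]; exact add_neg_cancel _)
    exact one_ne_zero this.1
  have h2 : b ∉ Submodule.span k {a} := by
    intro hmem
    obtain ⟨t, ht⟩ := Submodule.mem_span_singleton.mp hmem
    have := hab (-t) 1 (by rw [one_smul, neg_smul, ht]; exact neg_add_cancel _)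
    exact one_ne_zero this.2
  obtain ⟨w₁, hw₁, hw₁a⟩ := hβ.exists_perp_one _ h1
  obtain ⟨w₂, hw₂, hw₂b⟩ := hβ.exists_perp_one _ h2
  have e1 : β w₁ b = 0 := hw₁ b (Submodule.mem_span_singleton_self b)
  have e2 : β w₂ a = 0 := hw₂ a (Submodule.mem_span_singleton_self a)
  refine ⟨α • w₁ + γ • w₂, ?_, ?_⟩
  · simp only [map_add, map_smul, LinearMap.add_apply, LinearMap.smul_apply, hw₁a, e2, smul_eq_mul]
    ring
  · simp only [map_add, map_smul, LinearMap.add_apply, LinearMap.smul_apply, hw₂b, e1, smul_eq_mul]
    ring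

/-- a hyperbolic pair perpendicular to a small subspace -/
theorem Orth.exists_hyp_perp (hβ : Orth β) [FiniteDimensional k E] (W : Submodule k E)
    (hW : 2 * finrank k W + 3 ≤ finrank k E) :
    ∃ e f, β e e = 0 ∧ β f f = 0 ∧ β e f = 1 ∧ (∀ w ∈ W, β e w = 0) ∧ (∀ w ∈ W, β f w = 0) := by
  obtain ⟨C, hC⟩ := Submodule.exists_isCompl W
  set X := β.orthogonal W with hX
  have h1 : finrank k X = finrank k E - finrank k W :=
    LinearMap.BilinForm.finrank_orthogonal hβ.nd W
  have h2 := Submodule.finrank_add_eq_of_isCompl hC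
  have h3 := Submodule.finrank_sup_add_finrank_inf_eq X C
  have h4 : finrank k ↥(X ⊔ C) ≤ finrank k E := Submodule.finrank_le _
  obtain ⟨e, heY, he0, hee⟩ := hβ.iso (X ⊓ C) (by omega)
  have heX : e ∈ X := heY.1
  have heC : e ∈ C := heY.2
  have heW : e ∉ W := by
    intro hw
    have : e ∈ W ⊓ C := ⟨hw, heC⟩
    rw [hC.inf_eq_bot, Submodule.mem_bot] at this
    exact he0 this
  have hperp : ∀ w ∈ W, β e w = 0 := by
    intro w hw
    rw [hβ.symm]
    exact LinearMap.BilinForm.mem_orthogonal_iff.mp heX w hw
  obtain ⟨f', hf'W, hf'e⟩ := hβ.exists_perp_one W heW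
  have hef' : β e f' = 1 := by rw [hβ.symm]; exact hf'e
  refine ⟨e, f' - (β f' f' / 2) • e, hee, ?_, ?_, hperp, ?_⟩
  · simp only [map_sub, map_smul, LinearMap.sub_apply, LinearMap.smul_apply, hee, hef', hf'e,
      smul_eq_mul]
    have := hβ.two
    field_simp
    ring
  · simp only [map_sub, map_smul, hee, hef', smul_eq_mul]
    ring
  · intro w hw
    simp only [map_sub, map_smul, LinearMap.sub_apply, LinearMap.smul_apply, hf'W w hw,
      hperp w hw, smul_eq_mul]
    ring

theorem finrank_span_list_le (l : List E) :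
    finrank k (Submodule.span k {x | x ∈ l}) ≤ l.length := by
  classical
  have h1 : {x | x ∈ l} = ((l.toFinset : Finset E) : Set E) := by
    ext x; simp
  rw [h1]
  exact le_trans (finrank_span_finset_le_card _) (List.toFinset_card_le l)

/-- a hyperbolic pair perpendicular to a short list of vectors -/
theorem Orth.exists_hyp_perp_list (hβ : Orth β) [FiniteDimensional k E] (l : List E)
    (hl : 2 * l.length + 3 ≤ finrank k E) :
    ∃ e f, β e e = 0 ∧ β f f = 0 ∧ β e f = 1 ∧ (∀ w ∈ l, β e w = 0) ∧ (∀ w ∈ l, β f w = 0) := by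
  have h1 := finrank_span_list_le (k := k) l
  obtain ⟨e, f, h2, h3, h4, h5, h6⟩ := hβ.exists_hyp_perp (Submodule.span k {x | x ∈ l}) (by omega)
  exact ⟨e, f, h2, h3, h4, fun w hw => h5 w (Submodule.subset_span hw),
    fun w hw => h6 w (Submodule.subset_span hw)⟩

/-- a singular vector with prescribed products with two independent vectors -/
theorem Orth.exists_sing_dual2 (hβ : Orth β) [FiniteDimensional k E] (h9 : 9 ≤ finrank k E)
    {a b : E} (hab : Indep k a b) (α γ : k) : ∃ c, β c c = 0 ∧ β c a = α ∧ β c b = γ := by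
  obtain ⟨c', hc'a, hc'b⟩ := hβ.exists_dual2 hab α γ
  obtain ⟨e, f, hee, hff, hef, he, hf⟩ := hβ.exists_hyp_perp_list [a, b, c'] (by simp; omega)
  have hea : β e a = 0 := he a (by simp)
  have heb : β e b = 0 := he b (by simp)
  have hec : β e c' = 0 := he c' (by simp)
  have hfa : β f a = 0 := hf a (by simp)
  have hfb : β f b = 0 := hf b (by simp)
  have hfc : β f c' = 0 := hf c' (by simp)
  have hce : β c' e = 0 := by rw [hβ.symm]; exact hec
  have hcf : β c' f = 0 := by rw [hβ.symm]; exact hfc
  have hfe : β f e = 1 := by rw [hβ.symm]; exact hef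
  refine ⟨c' + e - (β c' c' / 2) • f, ?_, ?_, ?_⟩
  · simp only [map_sub, map_add, map_smul, LinearMap.sub_apply, LinearMap.add_apply,
      LinearMap.smul_apply, hee, hff, hef, hfe, hec, hfc, hce, hcf, smul_eq_mul]
    have := hβ.two
    field_simp
    ring
  · simp only [map_sub, map_add, map_smul, LinearMap.sub_apply, LinearMap.add_apply,
      LinearMap.smul_apply, hc'a, hea, hfa, smul_eq_mul]
    ring
  · simp only [map_sub, map_add, map_smul, LinearMap.sub_apply, LinearMap.add_apply,
      LinearMap.smul_apply, hc'b, heb, hfb, smul_eq_mul]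
    ring

theorem indep_of_dual {e s f : E} (h1 : β f e ≠ 0) (h0 : β f s = 0) (hs : s ≠ 0) :
    Indep k e s := by
  intro x y hxy
  have h2 := congrArg (fun z => β f z) hxy
  simp only [map_add, map_smul, h0, smul_eq_mul, mul_zero, add_zero, map_zero] at h2
  have hx : x = 0 := by
    rcases mul_eq_zero.mp h2 with h | h
    · exact h
    · exact absurd h h1
  rw [hx, zero_smul, zero_add] at hxy
  rcases smul_eq_zero.mp hxy with h | h
  · exact ⟨hx, h⟩
  · exact absurd h hs

/-- the vectors perpendicular to a given one form a hyperplane -/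
theorem finrank_ker_flip [FiniteDimensional k E] (u : E) :
    finrank k E ≤ finrank k (LinearMap.ker (β.flip u)) + 1 := by
  have h1 := LinearMap.finrank_range_add_finrank_ker (β.flip u)
  have h2 : finrank k (LinearMap.range (β.flip u)) ≤ 1 := by
    have := Submodule.finrank_le (LinearMap.range (β.flip u))
    rwa [Module.finrank_self] at this
  omega

/-- a counting argument: an injective map cannot send a large subspace into the square of a
small one -/
theorem exists_not_mem_of_card [Finite k] [FiniteDimensional k E] (A U : Submodule k E)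
    (hlt : 2 * finrank k U < finrank k A) (τ : E → E × E) (hτ : Function.Injective τ) :
    ∃ w ∈ A, ¬ ((τ w).1 ∈ U ∧ (τ w).2 ∈ U) := by
  by_contra hcon
  push Not at hcon
  have : Finite E := Module.finite_of_finite k
  let ι : A → U × U := fun w => (⟨(τ w).1, (hcon w w.2).1⟩, ⟨(τ w).2, (hcon w w.2).2⟩)
  have hι : Function.Injective ι := by
    intro w w' hww
    apply Subtype.ext
    apply hτ
    have e1 := congrArg (fun z : U × U => (z.1 : E)) hww
    have e2 := congrArg (fun z : U × U => (z.2 : E)) hww
    exact Prod.ext e1 e2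
  have h1 := Nat.card_le_card_of_injective ι hι
  rw [Nat.card_prod, Module.natCard_eq_pow_finrank (K := k) (V := A),
    Module.natCard_eq_pow_finrank (K := k) (V := U), ← pow_add] at h1
  have hk : 1 < Nat.card k := Finite.one_lt_card
  have := (Nat.pow_le_pow_iff_right hk).mp h1
  omega

end Cfsg.Agent.Helper28.OSub
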