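import Mathlib
import Cfsg.Agent.Helper2.SU.Main
import Cfsg.Agent.Helper2.UnitaryCount

set_option autoImplicit false

/-! The subfield of index two in a field with `q ^ 2` elements is the fixed field of the
Frobenius involution; decomposition `K = F₀ ⊕ θ F₀`. -/

namespace Cfsg.Agent.Helper28.USub

open Cfsg.Agent.Helper2.SUGen

variable {K : Type*} [Field K] [Fintype K] {q : ℕ}

theorem natCard_subfield (hF : Fintype.card K = q ^ 2) (F₀ : Subfield K)
    (hcard : Fintype.card K = Nat.card F₀ ^ 2) : Nat.card F₀ = q := by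
  rw [hF] at hcard
  exact (Nat.pow_left_injective (by norm_num : 2 ≠ 0) hcard).symm

theorem fix_of_mem (hF : Fintype.card K = q ^ 2) (D : Frob K q) (F₀ : Subfield K)
    (hcard : Fintype.card K = Nat.card F₀ ^ 2) {x : K} (hx : x ∈ F₀) : D.σ x = x := by
  classical
  have hq := natCard_subfield hF F₀ hcard
  have : Fintype F₀ := Fintype.ofFinite _
  rw [Nat.card_eq_fintype_card] at hq
  have h1 : (⟨x, hx⟩ : F₀) ^ Fintype.card F₀ = ⟨x, hx⟩ := FiniteField.pow_card _
  rw [hq] at h1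
  have h2 := congrArg (fun z : F₀ => (z : K)) h1
  simp only [SubmonoidClass.coe_pow] at h2
  rw [D.pow]
  exact h2

theorem mem_of_fix (hF : Fintype.card K = q ^ 2) (D : Frob K q) (F₀ : Subfield K)
    (hcard : Fintype.card K = Nat.card F₀ ^ 2) {x : K} (hx : D.σ x = x) : x ∈ F₀ := by
  classical
  have hq := natCard_subfield hF F₀ hcard
  have hsub : (F₀ : Set K) ⊆ (Cfsg.Agent.Helper2.Herm.K hF : Set K) := by
    intro y hy
    show y ^ q = y
    rw [← D.pow]
    exact fix_of_mem hF D F₀ hcard hy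
  have hT : Nat.card (Cfsg.Agent.Helper2.Herm.K hF : Set K) = q := by
    have := Cfsg.Agent.Helper2.Herm.card_K hF
    rw [← Nat.card_eq_fintype_card] at this
    exact this
  have heq : (F₀ : Set K) = (Cfsg.Agent.Helper2.Herm.K hF : Set K) := by
    apply Set.eq_of_subset_of_ncard_le hsub ?_ (Set.toFinite _)
    rw [← Nat.card_coe_set_eq, ← Nat.card_coe_set_eq, hT]
    exact le_of_eq hq.symm
  have : x ∈ (Cfsg.Agent.Helper2.Herm.K hF : Set K) := by
    show x ^ q = x
    rw [← D.pow]; exact hx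
  rw [← heq] at this
  exact this

omit [Fintype K] in
theorem exists_theta (D : Frob K q) : ∃ θ : K, D.σ θ ≠ θ := by
  by_contra hcon
  push Not at hcon
  exact D.ne_id (RingHom.ext hcon)

theorem fix_iff (hF : Fintype.card K = q ^ 2) (D : Frob K q) (F₀ : Subfield K)
    (hcard : Fintype.card K = Nat.card F₀ ^ 2) (x : K) : x ∈ F₀ ↔ D.σ x = x :=
  ⟨fun hx => fix_of_mem hF D F₀ hcard hx, fun hx => mem_of_fix hF D F₀ hcard hx⟩

omit [Fintype K] in
/-- decomposition of an element along `1, θ` -/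
theorem exists_decomp_field (D : Frob K q) (F₀ : Subfield K)
    (hfix : ∀ x, x ∈ F₀ ↔ D.σ x = x) {θ : K} (hθ : D.σ θ ≠ θ) (x : K) :
    ∃ s ∈ F₀, ∃ t ∈ F₀, x = s + θ * t := by
  have hd : θ - D.σ θ ≠ 0 := sub_ne_zero.mpr (Ne.symm hθ)
  have hd' : D.σ θ - θ ≠ 0 := sub_ne_zero.mpr hθ
  set t := (x - D.σ x) / (θ - D.σ θ) with ht
  have htf : D.σ t = t := by
    rw [ht, map_div₀, map_sub, map_sub, D.invol, D.invol]
    field_simp
    ring
  refine ⟨x - θ * t, (hfix _).mpr ?_, t, (hfix _).mpr htf, by ring⟩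
  rw [map_sub, map_mul, htf]
  have : (θ - D.σ θ) * t = x - D.σ x := by rw [ht]; field_simp
  linear_combination this

omit [Fintype K] in
theorem decomp_field_unique (D : Frob K q) (F₀ : Subfield K)
    (hfix : ∀ x, x ∈ F₀ ↔ D.σ x = x) {θ : K} (hθ : D.σ θ ≠ θ) {s t : K} (hs : s ∈ F₀)
    (ht : t ∈ F₀) (h0 : s + θ * t = 0) : s = 0 ∧ t = 0 := by
  have h1 := congrArg D.σ h0
  rw [map_add, map_mul, map_zero, (hfix _).mp hs, (hfix _).mp ht] at h1
  have h2 : (θ - D.σ θ) * t = 0 := by linear_combination h0 - h1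
  have ht0 : t = 0 := by
    rcases mul_eq_zero.mp h2 with h | h
    · exact absurd h (sub_ne_zero.mpr (Ne.symm hθ))
    · exact h
  refine ⟨?_, ht0⟩
  rw [ht0, mul_zero, add_zero] at h0
  exact h0

end Cfsg.Agent.Helper28.USub
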