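import Mathlib
import Cfsg.Prelude.Def_GeometricClasses
import Cfsg.Agent.Helper28.UPair6
import Cfsg.Agent.Helper28.USub1
import Cfsg.Agent.Helper28.USub2
import Cfsg.Agent.Helper28.USub3

set_option autoImplicit false

/-! The rational structure `V₀ = P · F₀ⁿ` inside the unitary space and its symplectic form. -/

namespace Cfsg.Agent.Helper28.USub

open Matrix Module Cfsg.Agent.S2644 Cfsg.Agent.Helper2.SUGen Cfsg.Agent.Helper28.UPair

variable {K : Type*} [Field K] {q n : ℕ}

local notation "h" => Cfsg.hermForm n K q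
local notation "GLn" => Matrix.GeneralLinearGroup (Fin n) K

/-- the embedding of rational vectors given by `P` -/
def emb {F₀ : Subfield K} (P : GLn) (u : Fin n → F₀) : Fin n → K :=
  (P : Matrix (Fin n) (Fin n) K) *ᵥ (fun i => ((u i : F₀) : K))

section emb

variable {F₀ : Subfield K} (P : Matrix.GeneralLinearGroup (Fin n) K)

theorem emb_add (u v : Fin n → F₀) : emb P (u + v) = emb P u + emb P v := by
  unfold emb
  rw [← Matrix.mulVec_add]
  congr 1

theorem emb_zero : emb P (0 : Fin n → F₀) = 0 := by
  unfold emb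
  have : (fun i => (((0 : Fin n → F₀) i : F₀) : K)) = 0 := by
    funext i; simp
  rw [this, Matrix.mulVec_zero]

theorem emb_smul (t : F₀) (u : Fin n → F₀) : emb P (t • u) = (t : K) • emb P u := by
  unfold emb
  rw [← Matrix.mulVec_smul]
  congr 1

theorem emb_neg (u : Fin n → F₀) : emb P (-u) = - emb P u := by
  unfold emb
  rw [← Matrix.mulVec_neg]
  congr 1

theorem emb_sub (u v : Fin n → F₀) : emb P (u - v) = emb P u - emb P v := by
  rw [sub_eq_add_neg, emb_add, emb_neg, ← sub_eq_add_neg]

theorem emb_eq_zero {u : Fin n → F₀} (hu : emb P u = 0) : u = 0 := by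
  unfold emb at hu
  have := congrArg (fun z => ((P⁻¹ : GLn) : Matrix (Fin n) (Fin n) K) *ᵥ z) hu
  simp only [gl_inv_mulVec, mulVec_zero] at this
  funext i
  have h1 := congrFun this i
  exact Subtype.ext h1

theorem emb_single (j : Fin n) :
    emb P (Pi.single j (1 : F₀)) = (P : Matrix (Fin n) (Fin n) K) *ᵥ Pi.single j (1 : K) := by
  unfold emb
  congr 1
  funext i
  by_cases hij : i = j
  · subst hij; simp
  · simp [hij]

end emb

/-- the data of a rational symplectic structure -/
structure RS (D : Frob K q) (F₀ : Subfield K) (ζ : K) (P : GLn) : Prop where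
  fixm : ∀ x, x ∈ F₀ ↔ D.σ x = x
  z0 : ζ ≠ 0
  zs : D.σ ζ = -ζ
  rat : ∀ u v : Fin n → F₀, ζ * h (emb P u) (emb P v) ∈ F₀
  alt : ∀ u : Fin n → F₀, h (emb P u) (emb P u) = 0

variable {D : Frob K q} {F₀ : Subfield K} {ζ : K} {P : Matrix.GeneralLinearGroup (Fin n) K}

theorem RS.fix (R : RS D F₀ ζ P) (t : F₀) : D.σ (t : K) = t := (R.fixm _).mp t.2

/-- the symplectic form on the rational vectors -/
def omega (R : RS D F₀ ζ P) : LinearMap.BilinForm F₀ (Fin n → F₀) :=
  LinearMap.mk₂ F₀ (fun u v => (⟨ζ * h (emb P u) (emb P v), R.rat u v⟩ : F₀))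
    (by
      intro u u' v
      apply Subtype.ext
      simp only [emb_add, h_add_left, mul_add, Subfield.coe_add])
    (by
      intro t u v
      apply Subtype.ext
      simp only [emb_smul, h_smul_left, smul_eq_mul, Subfield.coe_mul]
      ring)
    (by
      intro u v v'
      apply Subtype.ext
      simp only [emb_add, h_add_right D, mul_add, Subfield.coe_add])
    (by
      intro t u v
      apply Subtype.ext
      simp only [emb_smul, h_smul_right D, R.fix, smul_eq_mul, Subfield.coe_mul]
      ring)

theorem omega_val (R : RS D F₀ ζ P) (u v : Fin n → F₀) :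
    ((omega R u v : F₀) : K) = ζ * h (emb P u) (emb P v) := rfl

theorem h_emb (R : RS D F₀ ζ P) (u v : Fin n → F₀) :
    h (emb P u) (emb P v) = ζ⁻¹ * ((omega R u v : F₀) : K) := by
  rw [omega_val, ← mul_assoc, inv_mul_cancel₀ R.z0, one_mul]

theorem sympl_omega (R : RS D F₀ ζ P) : Sympl (omega R) := by
  refine ⟨fun x => ?_, fun a ha => ?_⟩
  · apply Subtype.ext
    rw [omega_val, R.alt, mul_zero]
    rfl
  · -- nondegeneracy
    have h1 : ∀ x : Fin n → F₀, h (emb P x) (emb P a) = 0 := by
      intro x
      have h2 := congrArg (fun z : F₀ => (z : K)) (ha x)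
      simp only [omega_val, LinearMap.zero_apply, ZeroMemClass.coe_zero] at h2
      rcases mul_eq_zero.mp h2 with h3 | h3
      · exact absurd h3 R.z0
      · exact h_symm_zero D h3
    set L : (Fin n → K) →ₗ[K] K := (hlin (q := q) (emb P a)).comp
      (Matrix.toLin' (P : Matrix (Fin n) (Fin n) K)) with hL
    have hL0 : L = 0 := by
      apply (Pi.basisFun K (Fin n)).ext
      intro j
      rw [hL, LinearMap.comp_apply, Pi.basisFun_apply, Matrix.toLin'_apply, hlin_apply,
        ← emb_single (F₀ := F₀), h1]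
      rfl
    have h4 : ∀ z : Fin n → K, h z (emb P a) = 0 := by
      intro z
      have := congrArg (fun f => f (((P⁻¹ : GLn) : Matrix (Fin n) (Fin n) K) *ᵥ z)) hL0
      simp only [hL, LinearMap.comp_apply, Matrix.toLin'_apply, gl_mulVec_inv, hlin_apply,
        LinearMap.zero_apply] at this
      exact this
    have h5 : emb P a = 0 := h_nondeg D (fun y => h_symm_zero D (h4 y))
    exact emb_eq_zero P h5

end Cfsg.Agent.Helper28.USub
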