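import Mathlib
import Cfsg.Prelude.Def_GeometricClasses
import Cfsg.Agent.Helper28.USub4

set_option autoImplicit false

/-! Decomposition of vectors along the rational structure; rational transvections. -/

namespace Cfsg.Agent.Helper28.USub

open Matrix Module Cfsg.Agent.S2644 Cfsg.Agent.Helper2.SUGen Cfsg.Agent.Helper28.UPair

variable {K : Type*} [Field K] {q n : ℕ}

local notation "h" => Cfsg.hermForm n K q
local notation "T" => Cfsg.unitaryTransvection n q
local notation "GLn" => Matrix.GeneralLinearGroup (Fin n) K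

variable {D : Frob K q} {F₀ : Subfield K} {ζ : K} {P : Matrix.GeneralLinearGroup (Fin n) K}

theorem exists_decomp (R : RS D F₀ ζ P) {θ : K} (hθ : D.σ θ ≠ θ) (z : Fin n → K) :
    ∃ a b : Fin n → F₀, z = emb P a + θ • emb P b := by
  set w := ((P⁻¹ : GLn) : Matrix (Fin n) (Fin n) K) *ᵥ z with hw
  choose s hs t ht hst using fun i => exists_decomp_field D F₀ R.fixm hθ (w i)
  refine ⟨fun i => ⟨s i, hs i⟩, fun i => ⟨t i, ht i⟩, ?_⟩
  unfold emb
  rw [← Matrix.mulVec_smul, ← Matrix.mulVec_add]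
  have : (fun i => (((⟨s i, hs i⟩ : F₀)) : K)) + θ • (fun i => (((⟨t i, ht i⟩ : F₀)) : K)) = w := by
    funext i
    simp only [Pi.add_apply, Pi.smul_apply, smul_eq_mul]
    exact (hst i).symm
  rw [this, hw, gl_mulVec_inv]

theorem decomp_unique (R : RS D F₀ ζ P) {θ : K} (hθ : D.σ θ ≠ θ) {a b : Fin n → F₀}
    (h0 : emb P a + θ • emb P b = 0) : a = 0 ∧ b = 0 := by
  unfold emb at h0
  rw [← Matrix.mulVec_smul, ← Matrix.mulVec_add] at h0
  have := congrArg (fun z => ((P⁻¹ : GLn) : Matrix (Fin n) (Fin n) K) *ᵥ z) h0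
  simp only [gl_inv_mulVec, mulVec_zero] at this
  have h1 : ∀ i, ((a i : F₀) : K) = 0 ∧ ((b i : F₀) : K) = 0 := by
    intro i
    have h2 := congrFun this i
    simp only [Pi.add_apply, Pi.smul_apply, smul_eq_mul, Pi.zero_apply] at h2
    exact decomp_field_unique D F₀ R.fixm hθ (a i).2 (b i).2 h2
  constructor
  · funext i
    exact Subtype.ext (h1 i).1
  · funext i
    exact Subtype.ext (h1 i).2

theorem decomp_unique' (R : RS D F₀ ζ P) {θ : K} (hθ : D.σ θ ≠ θ) {a b a' b' : Fin n → F₀}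
    (h0 : emb P a + θ • emb P b = emb P a' + θ • emb P b') : a = a' ∧ b = b' := by
  have h1 : emb P (a - a') + θ • emb P (b - b') = 0 := by
    rw [emb_sub, emb_sub, smul_sub]
    linear_combination (exp := 1) h0
  obtain ⟨e1, e2⟩ := decomp_unique R hθ h1
  exact ⟨sub_eq_zero.mp e1, sub_eq_zero.mp e2⟩

theorem smul_emb {θ : K} (s t : F₀) (w : Fin n → F₀) :
    ((s : K) + θ * (t : K)) • emb P w = emb P (s • w) + θ • emb P (t • w) := by
  rw [emb_smul, emb_smul, add_smul, mul_smul]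

/-- a point `a + θ b` with `a, b` independent is not a multiple of a rational point -/
theorem not_indep_of_eq (R : RS D F₀ ζ P) {θ : K} (hθ : D.σ θ ≠ θ) {a b w : Fin n → F₀} {c : K}
    (heq : emb P a + θ • emb P b = c • emb P w) : ¬ Indep F₀ a b := by
  intro hi
  obtain ⟨s, hs, t, ht, hc⟩ := exists_decomp_field D F₀ R.fixm hθ c
  have h1 : c • emb P w = emb P ((⟨s, hs⟩ : F₀) • w) + θ • emb P ((⟨t, ht⟩ : F₀) • w) := by
    rw [← smul_emb, hc]
  rw [h1] at heq
  obtain ⟨e1, e2⟩ := decomp_unique' R hθ heq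
  have h2 : (⟨t, ht⟩ : F₀) • a + (-(⟨s, hs⟩ : F₀)) • b = 0 := by
    rw [e1, e2, smul_smul, smul_smul, neg_mul, neg_smul, mul_comm]
    exact add_neg_cancel _
  obtain ⟨e3, e4⟩ := hi _ _ h2
  rw [neg_eq_zero] at e4
  rw [e4, zero_smul] at e1
  exact hi.ne_zero_left e1

theorem exists_eq_of_not_indep {θ : K} {a b : Fin n → F₀} (hi : ¬ Indep F₀ a b) :
    ∃ (c : K) (w : Fin n → F₀), emb P a + θ • emb P b = c • emb P w := by
  unfold Indep at hi
  push Not at hi
  obtain ⟨s, t, hst, hne⟩ := hi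
  by_cases hs : s = 0
  · have ht : t ≠ 0 := hne hs
    rw [hs, zero_smul, zero_add] at hst
    have hb : b = 0 := by
      rcases smul_eq_zero.mp hst with h1 | h1
      · exact absurd h1 ht
      · exact h1
    refine ⟨1, a, ?_⟩
    rw [hb, emb_zero, smul_zero, add_zero, one_smul]
  · have ha : a = (-(t / s)) • b := by
      have h5 : s • a = -(t • b) := eq_neg_of_add_eq_zero_left hst
      have h6 : a = s⁻¹ • (s • a) := by rw [smul_smul, inv_mul_cancel₀ hs, one_smul]
      rw [h6, h5, smul_neg, smul_smul, neg_smul]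
      congr 2
      field_simp
    refine ⟨((-(t / s) : F₀) : K) + θ, b, ?_⟩
    rw [ha, emb_smul, add_smul]

/-- the value of the form on `a + θ b` -/
theorem h_decomp_self (R : RS D F₀ ζ P) (θ : K) (a b : Fin n → F₀) :
    h (emb P a + θ • emb P b) (emb P a + θ • emb P b) =
      ζ⁻¹ * (D.σ θ - θ) * ((omega R a b : F₀) : K) := by
  have hsk : omega R b a = - omega R a b := (sympl_omega R).skew b a
  simp only [h_add_left, h_add_right D, h_smul_left, h_smul_right D, h_emb R, hsk,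
    (sympl_omega R).alt, NegMemClass.coe_neg, ZeroMemClass.coe_zero]
  ring

/-- the skew scalar attached to a rational scalar -/
theorem skew_of (R : RS D F₀ ζ P) (t : F₀) : D.σ ((t : K) * ζ) = -((t : K) * ζ) := by
  rw [map_mul, R.fix, R.zs]; ring

theorem exists_of_skew (R : RS D F₀ ζ P) {c : K} (hc : D.σ c = -c) :
    ∃ t : F₀, c = (t : K) * ζ := by
  have h1 : D.σ (c * ζ⁻¹) = c * ζ⁻¹ := by
    rw [map_mul, map_inv₀, hc, R.zs]
    field_simp
  refine ⟨⟨c * ζ⁻¹, (R.fixm _).mpr h1⟩, ?_⟩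
  show c = c * ζ⁻¹ * ζ
  rw [mul_assoc, inv_mul_cancel₀ R.z0, mul_one]

/-- action of a rational transvection on rational vectors -/
theorem T_emb (R : RS D F₀ ζ P) (t : F₀) (w u : Fin n → F₀) :
    T (emb P w) ((t : K) * ζ) *ᵥ emb P u = emb P (u + (t * omega R u w) • w) := by
  rw [T_mulVec, h_emb R, emb_add, emb_smul]
  congr 2
  rw [Subfield.coe_mul]
  field_simp [R.z0]

theorem T_emb_pair (R : RS D F₀ ζ P) (θ : K) (t : F₀) (w a b : Fin n → F₀) :
    T (emb P w) ((t : K) * ζ) *ᵥ (emb P a + θ • emb P b) =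
      emb P (a + (t * omega R a w) • w) + θ • emb P (b + (t * omega R b w) • w) := by
  rw [Matrix.mulVec_add, Matrix.mulVec_smul, T_emb R, T_emb R]

theorem mem_subf_of_maps (g : GLn) (μ : K) (hμ : μ ≠ 0)
    (hg : ∀ j, ∃ w : Fin n → F₀,
      (g : Matrix (Fin n) (Fin n) K) *ᵥ emb P (Pi.single j (1 : F₀)) = μ • emb P w) :
    g ∈ Cfsg.Geo.subfieldSubgroup F₀ P := by
  choose w hw using hg
  refine mem_subf_of F₀ P g (Matrix.of fun i j => w j i) μ hμ ?_
  ext i j
  have h1 := congrFun (hw j) i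
  rw [emb_single, Matrix.mulVec_mulVec] at h1
  simp only [Matrix.mulVec_single_one, Matrix.col_apply] at h1
  rw [h1]
  simp only [Pi.smul_apply, Matrix.smul_apply, smul_eq_mul, emb, Matrix.mulVec, dotProduct,
    Matrix.mul_apply, Matrix.map_apply, Matrix.of_apply]
  rfl

theorem maps_of_mem_subf (g : GLn) (hg : g ∈ Cfsg.Geo.subfieldSubgroup F₀ P) :
    ∃ μ : K, μ ≠ 0 ∧ ∀ u : Fin n → F₀, ∃ w : Fin n → F₀,
      (g : Matrix (Fin n) (Fin n) K) *ᵥ emb P u = μ • emb P w := by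
  obtain ⟨A₀, μ, hμ, hgP⟩ := exists_of_mem_subf F₀ P g hg
  refine ⟨μ, hμ, fun u => ⟨A₀ *ᵥ u, ?_⟩⟩
  unfold emb
  rw [Matrix.mulVec_mulVec, hgP, Matrix.smul_mulVec, ← Matrix.mulVec_mulVec]
  congr 2
  funext i
  simp [Matrix.mulVec, dotProduct]

end Cfsg.Agent.Helper28.USub
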