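import Mathlib
import Cfsg.Prelude.Def_GeometricClasses
import Cfsg.Agent.Helper28.USub5

set_option autoImplicit false

/-! Rational points have full root groups; elements outside the subfield group produce
irrational points. -/

namespace Cfsg.Agent.Helper28.USub

open Matrix Module Cfsg.Agent.S2644 Cfsg.Agent.Helper2.SUGen Cfsg.Agent.Helper28.UPair

variable {K : Type*} [Field K] {q n : ℕ}

local notation "h" => Cfsg.hermForm n K q
local notation "T" => Cfsg.unitaryTransvection n q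
local notation "GLn" => Matrix.GeneralLinearGroup (Fin n) K

variable {D : Frob K q} {F₀ : Subfield K} {ζ : K} {P : Matrix.GeneralLinearGroup (Fin n) K}

/-- the subgroup `H` of the statement -/
abbrev HH (n q : ℕ) (F₀ : Subfield K) (P : Matrix.GeneralLinearGroup (Fin n) K) :
    Subgroup (Matrix.GeneralLinearGroup (Fin n) K) :=
  Cfsg.Geo.subfieldSubgroup F₀ P ⊓ (Cfsg.GU n K q ⊓ Cfsg.Geo.specialLinear (Fin n) K)

theorem T_emb_inM (R : RS D F₀ ζ P) (w : Fin n → F₀) {c : K} (hc : D.σ c = -c) :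
    InM (HH n q F₀ P) (T (emb P w) c) := by
  have haa : h (emb P w) (emb P w) = 0 := R.alt w
  have hcc : c + D.σ c + h (0 : Fin n → K) 0 = 0 := by rw [h_zero_left, hc]; ring
  refine ⟨Cfsg.Agent.Helper28.UM.SgG D (emb P w) 0 c haa (h_zero_left _) hcc, ⟨?_, ?_⟩, ?_⟩
  · obtain ⟨t, rfl⟩ := exists_of_skew R hc
    refine mem_subf_of_maps _ 1 one_ne_zero (fun j =>
      ⟨Pi.single j (1 : F₀) + (t * omega R (Pi.single j (1 : F₀)) w) • w, ?_⟩)
    rw [Cfsg.Agent.Helper28.UM.SgG_val, Sg_zero D, T_emb R, one_smul]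
  · exact (Cfsg.Agent.Helper28.UM.mem_G_iff _).mpr
      ⟨Sg_pres D _ 0 c haa (h_zero_left _) hcc, Sg_det D _ 0 c haa (h_zero_left _)⟩
  · rw [Cfsg.Agent.Helper28.UM.SgG_val, Sg_zero D]

theorem InM.mono {M M' : Subgroup GLn} (hMM : M ≤ M') {A : Matrix (Fin n) (Fin n) K}
    (hA : InM M A) : InM M' A := by
  obtain ⟨g, hg, rfl⟩ := hA
  exact ⟨g, hMM hg, rfl⟩

theorem emb_mem_SS (R : RS D F₀ ζ P) {M : Subgroup GLn} (hHM : HH n q F₀ P ≤ M)
    (w : Fin n → F₀) : emb P w ∈ SS D M :=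
  ⟨R.alt w, fun _ hc => InM.mono hHM (T_emb_inM R w hc)⟩

theorem T_pres (R : RS D F₀ ζ P) (w : Fin n → F₀) {c : K} (hc : D.σ c = -c) :
    Pres (q := q) (T (emb P w) c) := by
  have := Sg_pres D (emb P w) 0 c (R.alt w) (h_zero_left _) (by rw [h_zero_left, hc]; ring)
  rwa [Sg_zero D] at this

theorem closed_SS (R : RS D F₀ ζ P) {M : Subgroup GLn} (hHM : HH n q F₀ P ≤ M) (θ : K) :
    Closed (omega R) (fun a b => emb P a + θ • emb P b ∈ SS D M) := by
  intro a b hab u t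
  have h1 := SS_map D M hab (InM.mono hHM (T_emb_inM R u (skew_of R t))) (T_pres R u (skew_of R t))
  rwa [T_emb_pair R] at h1

end Cfsg.Agent.Helper28.USub
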