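import Mathlib
import Cfsg.Prelude.Def_GeometricClasses
import Cfsg.Agent.Helper28.USub6

set_option autoImplicit false

/-! An element mapping every rational point to a multiple of a rational point lies in the
subfield group. -/

namespace Cfsg.Agent.Helper28.USub

open Matrix Module Cfsg.Agent.S2644 Cfsg.Agent.Helper2.SUGen Cfsg.Agent.Helper28.UPair

variable {K : Type*} [Field K] {q n : ℕ}

local notation "h" => Cfsg.hermForm n K q
local notation "GLn" => Matrix.GeneralLinearGroup (Fin n) K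

variable {D : Frob K q} {F₀ : Subfield K} {ζ : K} {P : Matrix.GeneralLinearGroup (Fin n) K}

theorem mulVec_eq_zero_gl (g : GLn) {z : Fin n → K}
    (hz : (g : Matrix (Fin n) (Fin n) K) *ᵥ z = 0) : z = 0 := by
  have := congrArg (fun t => ((g⁻¹ : GLn) : Matrix (Fin n) (Fin n) K) *ᵥ t) hz
  simp only [gl_inv_mulVec, mulVec_zero] at this
  exact this

theorem mem_subf_of_all (R : RS D F₀ ζ P) {θ : K} (hθ : D.σ θ ≠ θ) (hn : 0 < n) (g : GLn)
    (hyp : ∀ u : Fin n → F₀, ∃ (c : K) (w : Fin n → F₀),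
      (g : Matrix (Fin n) (Fin n) K) *ᵥ emb P u = c • emb P w) :
    g ∈ Cfsg.Geo.subfieldSubgroup F₀ P := by
  classical
  choose c w hcw using hyp
  set e : Fin n → (Fin n → F₀) := fun j => Pi.single j (1 : F₀) with he
  set E : Fin n → (Fin n → K) := fun j => Pi.single j (1 : K) with hE
  have hembe : ∀ j, emb P (e j) = (P : Matrix (Fin n) (Fin n) K) *ᵥ E j := fun j => emb_single P j
  -- key independence of images
  have hind : ∀ j j' : Fin n, j ≠ j' → ∀ x y : K,
      x • ((g : Matrix (Fin n) (Fin n) K) *ᵥ emb P (e j)) +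
        y • ((g : Matrix (Fin n) (Fin n) K) *ᵥ emb P (e j')) = 0 → x = 0 ∧ y = 0 := by
    intro j j' hjj x y hxy
    rw [hembe, hembe, ← Matrix.mulVec_smul, ← Matrix.mulVec_smul, ← Matrix.mulVec_smul,
      ← Matrix.mulVec_smul, ← Matrix.mulVec_add, ← Matrix.mulVec_add] at hxy
    have h1 := mulVec_eq_zero_gl P (mulVec_eq_zero_gl g hxy)
    have h2 := congrFun h1 j
    have h3 := congrFun h1 j'
    simp only [hE, Pi.add_apply, Pi.smul_apply, Pi.single_apply, smul_eq_mul, Pi.zero_apply] at h2 h3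
    rw [if_neg hjj] at h2
    rw [if_neg (Ne.symm hjj)] at h3
    constructor
    · simpa using h2
    · simpa using h3
  have hc0 : ∀ j, c (e j) ≠ 0 := by
    intro j h0
    have h1 := hcw (e j)
    rw [h0, zero_smul] at h1
    have h2 := emb_eq_zero P (mulVec_eq_zero_gl g h1)
    have h3 := congrFun h2 j
    simp [he] at h3
  set j₀ : Fin n := ⟨0, hn⟩ with hj₀
  refine mem_subf_of_maps g (c (e j₀)) (hc0 j₀) (fun j => ?_)
  by_cases hj : j = j₀
  · rw [hj]; exact ⟨w (e j₀), hcw _⟩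
  -- the main case
  have hjj : j₀ ≠ j := Ne.symm hj
  have hi0 : Indep F₀ (w (e j₀)) (w (e j)) := by
    intro x y hxy
    have h1 := congrArg (emb P) hxy
    rw [emb_add, emb_smul, emb_smul, emb_zero] at h1
    have h2 : ((x : K) / c (e j₀)) • ((g : Matrix (Fin n) (Fin n) K) *ᵥ emb P (e j₀)) +
        ((y : K) / c (e j)) • ((g : Matrix (Fin n) (Fin n) K) *ᵥ emb P (e j)) = 0 := by
      rw [hcw, hcw, smul_smul, smul_smul, div_mul_cancel₀ _ (hc0 j₀), div_mul_cancel₀ _ (hc0 j)]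
      exact h1
    obtain ⟨e1, e2⟩ := hind j₀ j hjj _ _ h2
    rw [div_eq_zero_iff] at e1 e2
    constructor
    · rcases e1 with e1 | e1
      · exact Subtype.ext e1
      · exact absurd e1 (hc0 j₀)
    · rcases e2 with e2 | e2
      · exact Subtype.ext e2
      · exact absurd e2 (hc0 j)
  have h1 : c (e j₀) • emb P (w (e j₀)) + c (e j) • emb P (w (e j)) =
      c (e j₀ + e j) • emb P (w (e j₀ + e j)) := by
    rw [← hcw, ← hcw, ← hcw, emb_add, Matrix.mulVec_add]
  obtain ⟨s, hs, t, ht, hd⟩ := exists_decomp_field D F₀ R.fixm hθ (c (e j) / c (e j₀))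
  have h2 : emb P (w (e j₀) + (⟨s, hs⟩ : F₀) • w (e j)) + θ • emb P ((⟨t, ht⟩ : F₀) • w (e j)) =
      (c (e j₀ + e j) / c (e j₀)) • emb P (w (e j₀ + e j)) := by
    rw [emb_add, add_assoc, ← smul_emb]
    show emb P (w (e j₀)) + (s + θ * t) • emb P (w (e j)) = _
    rw [← hd, div_eq_inv_mul, div_eq_inv_mul, ← smul_smul, ← smul_smul, ← h1, smul_add, smul_smul,
      smul_smul, inv_mul_cancel₀ (hc0 j₀), one_smul]
  have h3 := not_indep_of_eq R hθ h2
  have ht0 : t = 0 := by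
    by_contra ht0
    apply h3
    intro x y hxy
    have h4 : x • w (e j₀) + (x * ⟨s, hs⟩ + y * ⟨t, ht⟩) • w (e j) = 0 := by
      rw [← hxy]; module
    obtain ⟨e1, e2⟩ := hi0 _ _ h4
    refine ⟨e1, ?_⟩
    rw [e1, zero_mul, zero_add] at e2
    rcases mul_eq_zero.mp e2 with e3 | e3
    · exact e3
    · exact absurd (congrArg (fun z : F₀ => (z : K)) e3) ht0
  refine ⟨(⟨s, hs⟩ : F₀) • w (e j), ?_⟩
  rw [hcw, emb_smul, smul_smul]
  congr 1
  rw [ht0, mul_zero, add_zero] at hd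
  show c (e j) = c (e j₀) * s
  rw [← hd, mul_div_cancel₀ _ (hc0 j₀)]

theorem exists_irrational (R : RS D F₀ ζ P) {θ : K} (hθ : D.σ θ ≠ θ) (hn : 0 < n) (g : GLn)
    (hg : g ∉ Cfsg.Geo.subfieldSubgroup F₀ P) :
    ∃ u : Fin n → F₀, ∀ (c : K) (w : Fin n → F₀),
      (g : Matrix (Fin n) (Fin n) K) *ᵥ emb P u ≠ c • emb P w := by
  by_contra hcon
  push Not at hcon
  exact hg (mem_subf_of_all R hθ hn g hcon)

end Cfsg.Agent.Helper28.USub
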