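import Mathlib
import Cfsg.Prelude.Def_GeometricClasses
import Cfsg.Agent.Helper28.USub7

set_option autoImplicit false

/-! Maximality of the symplectic subfield group `Sp_n(q) ∘ Z` in `SU_n(q)`. -/

namespace Cfsg.Agent.Helper28.USub

open Matrix Module Cfsg.Agent.S2644 Cfsg.Agent.Helper2.SUGen Cfsg.Agent.Helper28.UPair

section abstract

variable {k E : Type*} [Field k] [AddCommGroup E] [Module k E] {B : LinearMap.BilinForm k E}

theorem Sympl.exists_perp_indep (hB : Sympl B) [FiniteDimensional k E] (h3 : 3 ≤ finrank k E)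
    {a : E} (ha : a ≠ 0) : ∃ b, B a b = 0 ∧ Indep k a b := by
  obtain ⟨x, hx⟩ : ∃ x, B a x ≠ 0 := by
    by_contra hcon
    push Not at hcon
    exact ha (hB.nondeg a hcon)
  let f : E →ₗ[k] (k × k) := (B a).prod (B x)
  have hker : LinearMap.ker f ≠ ⊥ := by
    apply LinearMap.ker_ne_bot_of_finrank_lt
    rw [Module.finrank_prod, Module.finrank_self]
    omega
  obtain ⟨c, hc, hc0⟩ := (Submodule.ne_bot_iff _).mp hker
  have hc' : f c = 0 := LinearMap.mem_ker.mp hc
  have e1 : B a c = 0 := congrArg Prod.fst hc'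
  have e2 : B x c = 0 := congrArg Prod.snd hc'
  refine ⟨c, e1, ?_⟩
  intro s t hst
  have h2 := congrArg (fun z => B x z) hst
  simp only [map_add, map_smul, e2, smul_eq_mul, mul_zero, add_zero, map_zero] at h2
  have hxa : B x a ≠ 0 := by rw [hB.skew]; exact neg_ne_zero.mpr hx
  have hs : s = 0 := by
    rcases mul_eq_zero.mp h2 with h | h
    · exact h
    · exact absurd h hxa
  rw [hs, zero_smul, zero_add] at hst
  rcases smul_eq_zero.mp hst with h | h
  · exact ⟨hs, h⟩
  · exact absurd h hc0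

end abstract

variable {K : Type*} [Field K] {q n : ℕ}

local notation "h" => Cfsg.hermForm n K q
local notation "T" => Cfsg.unitaryTransvection n q
local notation "GLn" => Matrix.GeneralLinearGroup (Fin n) K

variable {D : Frob K q} {F₀ : Subfield K} {ζ : K} {P : Matrix.GeneralLinearGroup (Fin n) K}

theorem omega_eq_zero_of_iso (R : RS D F₀ ζ P) {θ : K} (hθ : D.σ θ ≠ θ) {a b : Fin n → F₀}
    (hiso : h (emb P a + θ • emb P b) (emb P a + θ • emb P b) = 0) : omega R a b = 0 := by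
  rw [h_decomp_self R] at hiso
  rcases mul_eq_zero.mp hiso with h1 | h1
  · rcases mul_eq_zero.mp h1 with h2 | h2
    · exact absurd h2 (inv_ne_zero R.z0)
    · exact absurd h2 (sub_ne_zero.mpr hθ)
  · exact Subtype.ext h1

theorem subfield_proper (R : RS D F₀ ζ P) (hn : 3 ≤ n) :
    HH n q F₀ P ≠ Cfsg.GU n K q ⊓ Cfsg.Geo.specialLinear (Fin n) K := by
  classical
  intro heq
  obtain ⟨θ, hθ⟩ := exists_theta D
  have hS := sympl_omega R
  have hfr : 3 ≤ finrank F₀ (Fin n → F₀) := by rw [Module.finrank_fin_fun]; exact hn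
  set j₀ : Fin n := ⟨0, by omega⟩
  have ha0 : (Pi.single j₀ (1 : F₀) : Fin n → F₀) ≠ 0 := by
    intro h0
    have := congrFun h0 j₀
    simp at this
  obtain ⟨b, hab, hi⟩ := hS.exists_perp_indep hfr ha0
  set a : Fin n → F₀ := Pi.single j₀ (1 : F₀) with ha
  obtain ⟨u, hau, hbu⟩ := hS.exists_dual hi
  set y := emb P a + θ • emb P b with hy
  have hyy : h y y = 0 := by
    rw [hy, h_decomp_self R, hab]; simp
  have hz : ζ + D.σ ζ + h (0 : Fin n → K) 0 = 0 := by rw [h_zero_left, R.zs]; ring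
  set g : GLn := Cfsg.Agent.Helper28.UM.SgG D y 0 ζ hyy (h_zero_left _) hz with hg
  have hgG : g ∈ Cfsg.GU n K q ⊓ Cfsg.Geo.specialLinear (Fin n) K :=
    (Cfsg.Agent.Helper28.UM.mem_G_iff g).mpr
      ⟨Sg_pres D y 0 ζ hyy (h_zero_left _) hz, Sg_det D y 0 ζ hyy (h_zero_left _)⟩
  have hgH : g ∈ Cfsg.Geo.subfieldSubgroup F₀ P := by
    rw [← heq] at hgG
    exact hgG.1
  obtain ⟨μ, -, hμ⟩ := maps_of_mem_subf g hgH
  obtain ⟨w, hw⟩ := hμ u
  have hua : omega R u a = -1 := by rw [hS.skew, hau]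
  have hub : omega R u b = 0 := by rw [hS.skew, hbu, neg_zero]
  have h1 : (g : Matrix (Fin n) (Fin n) K) *ᵥ emb P u = emb P (u - a) + θ • emb P (-b) := by
    rw [hg, Cfsg.Agent.Helper28.UM.SgG_val, Sg_zero D, T_mulVec, hy, h_add_right D,
      h_smul_right D, h_emb R, h_emb R, hua, hub, emb_sub, emb_neg]
    simp only [NegMemClass.coe_neg, OneMemClass.coe_one, ZeroMemClass.coe_zero, mul_zero, add_zero]
    rw [show ζ * (ζ⁻¹ * -1) = -1 by field_simp [R.z0]]
    module
  rw [h1] at hw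
  apply not_indep_of_eq R hθ hw
  intro s t hst
  have h2 := congrArg (fun z => omega R a z) hst
  simp only [map_add, map_smul, map_sub, map_neg, hau, hab, hS.alt, smul_eq_mul, map_zero] at h2
  have hs : s = 0 := by linear_combination h2
  rw [hs, zero_smul, zero_add, smul_neg, neg_eq_zero] at hst
  rcases smul_eq_zero.mp hst with h3 | h3
  · exact ⟨hs, h3⟩
  · exact absurd h3 hi.ne_zero_right

/-- **maximality of the symplectic subfield group** -/
theorem subfield_maximal [Fintype K] (hK : Fintype.card K = q ^ 2) (hn : 4 ≤ n)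
    (R : RS D F₀ ζ P) :
    Cfsg.Geo.IsMaximalIn (Cfsg.GU n K q ⊓ Cfsg.Geo.specialLinear (Fin n) K) (HH n q F₀ P) := by
  classical
  obtain ⟨θ, hθ⟩ := exists_theta D
  have hS := sympl_omega R
  have hfr : 3 ≤ finrank F₀ (Fin n → F₀) := by rw [Module.finrank_fin_fun]; omega
  refine ⟨lt_of_le_of_ne inf_le_right (subfield_proper R (by omega)), ?_⟩
  intro M hHM hMS
  by_cases hMH : M ≤ HH n q F₀ P
  · left; exact le_antisymm hMH hHM
  right
  refine le_antisymm hMS ?_
  obtain ⟨g, hgM, hgH⟩ := SetLike.not_le_iff_exists.mp hMH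
  have hMP : ∀ a ∈ M, Pres (q := q) (a : Matrix (Fin n) (Fin n) K) :=
    fun a ha => ((Cfsg.Agent.Helper28.UM.mem_G_iff a).mp (hMS ha)).1
  have hgS : g ∉ Cfsg.Geo.subfieldSubgroup F₀ P := fun hh => hgH ⟨hh, hMS hgM⟩
  obtain ⟨u, hu⟩ := exists_irrational R hθ (by omega) g hgS
  have hyS : (g : Matrix (Fin n) (Fin n) K) *ᵥ emb P u ∈ SS D M :=
    SS_map D M (emb_mem_SS R hHM u) ⟨g, hgM, rfl⟩ (hMP g hgM)
  obtain ⟨a, b, hab⟩ := exists_decomp R hθ ((g : Matrix (Fin n) (Fin n) K) *ᵥ emb P u)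
  have hi : Indep F₀ a b := by
    by_contra hcon
    obtain ⟨c, w, hcw⟩ := exists_eq_of_not_indep (P := P) (θ := θ) hcon
    exact hu c w (by rw [hab, hcw])
  rw [hab] at hyS
  have h0 : omega R a b = 0 := omega_eq_zero_of_iso R hθ hyS.1
  have hcl := closed_SS R hHM θ
  have hall : ∀ v : Fin n → K, h v v = 0 → v ∈ SS D M := by
    intro v hv
    obtain ⟨a', b', hv'⟩ := exists_decomp R hθ v
    rw [hv'] at hv ⊢
    have h0' : omega R a' b' = 0 := omega_eq_zero_of_iso R hθ hv
    by_cases hi' : Indep F₀ a' b'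
    · exact pairs_all hS hfr hcl hyS h0 hi h0' hi'
    · obtain ⟨c, w, hcw⟩ := exists_eq_of_not_indep (P := P) (θ := θ) hi'
      rw [hcw]
      exact SS_smul D M (emb_mem_SS R hHM w) c
  intro g' hg'
  obtain ⟨hgP, hgdet⟩ := (Cfsg.Agent.Helper28.UM.mem_G_iff g').mp hg'
  have hmem := SU_le_TT D hK (by omega) (by omega) hgP hgdet
  have key : ∀ A' ∈ TT D (⊤ : Submodule K (Fin n → K)), InM M A' := by
    intro A' hA'
    induction hA' using Submonoid.closure_induction with
    | mem A' hA' =>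
      obtain ⟨x, c, -, hxx, hc, rfl⟩ := hA'
      exact (hall x hxx).2 c hc
    | one => exact InM.one M
    | mul A1 A2 _ _ h1 h2 => exact h1.mul h2
  obtain ⟨g'', hg'', hgg'⟩ := key _ hmem
  have : g'' = g' := Units.ext hgg'
  rw [← this]
  exact hg''

end Cfsg.Agent.Helper28.USub
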