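import Mathlib
import Cfsg.Prelude.Def_GeometricClasses
import Cfsg.Agent.Helper28.USub8
import Cfsg.Agent.Helper28.OSub1
import Cfsg.Agent.Helper13.QuadWitt

set_option autoImplicit false

/-! The rational orthogonal structure `V₀ = P · F₀ⁿ` inside the unitary space. -/

namespace Cfsg.Agent.Helper28.OSub

open Matrix Module Cfsg.Agent.S2644 Cfsg.Agent.Helper2.SUGen Cfsg.Agent.Helper28.UPair
  Cfsg.Agent.Helper28.USub

variable {K : Type*} [Field K] {q n : ℕ}

local notation "h" => Cfsg.hermForm n K q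
local notation "GLn" => Matrix.GeneralLinearGroup (Fin n) K

/-- the data of a rational orthogonal structure, with a chosen skew element `θ` -/
structure RO (D : Frob K q) (F₀ : Subfield K) (P : Matrix.GeneralLinearGroup (Fin n) K) (θ : K) :
    Prop where
  fixm : ∀ x, x ∈ F₀ ↔ D.σ x = x
  rat : ∀ u v : Fin n → F₀, h (emb P u) (emb P v) ∈ F₀
  two : (2 : K) ≠ 0
  th0 : θ ≠ 0
  ths : D.σ θ = -θ

variable {D : Frob K q} {F₀ : Subfield K} {P : Matrix.GeneralLinearGroup (Fin n) K} {θ : K}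

theorem RO.fix (R : RO D F₀ P θ) (t : F₀) : D.σ (t : K) = t := (R.fixm _).mp t.2

theorem RO.thne (R : RO D F₀ P θ) : D.σ θ ≠ θ := by
  rw [R.ths]
  intro h0
  have h1 : (2 : K) * θ = 0 := by linear_combination -h0
  rcases mul_eq_zero.mp h1 with h2 | h2
  · exact R.two h2
  · exact R.th0 h2

theorem RO.two' (R : RO D F₀ P θ) : (2 : F₀) ≠ 0 := by
  intro h0
  apply R.two
  have := congrArg (fun z : F₀ => (z : K)) h0
  simp only [ZeroMemClass.coe_zero] at this
  rw [← this]
  norm_cast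

/-- the symmetric form on the rational vectors -/
def bet (R : RO D F₀ P θ) : LinearMap.BilinForm F₀ (Fin n → F₀) :=
  LinearMap.mk₂ F₀ (fun u v => (⟨h (emb P u) (emb P v), R.rat u v⟩ : F₀))
    (by
      intro u u' v
      apply Subtype.ext
      simp only [emb_add, h_add_left, Subfield.coe_add])
    (by
      intro t u v
      apply Subtype.ext
      simp only [emb_smul, h_smul_left, smul_eq_mul, Subfield.coe_mul])
    (by
      intro u v v'
      apply Subtype.ext
      simp only [emb_add, h_add_right D, Subfield.coe_add])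
    (by
      intro t u v
      apply Subtype.ext
      simp only [emb_smul, h_smul_right D, R.fix, smul_eq_mul, Subfield.coe_mul])

theorem h_emb (R : RO D F₀ P θ) (u v : Fin n → F₀) :
    h (emb P u) (emb P v) = ((bet R u v : F₀) : K) := rfl

theorem bet_symm (R : RO D F₀ P θ) (u v : Fin n → F₀) : bet R u v = bet R v u := by
  apply Subtype.ext
  rw [← h_emb R, ← h_emb R, ← h_conj D, h_emb R, R.fix]

theorem bet_nondeg (R : RO D F₀ P θ) (a : Fin n → F₀) (ha : ∀ x, bet R x a = 0) : a = 0 := by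
  have h1 : ∀ x : Fin n → F₀, h (emb P x) (emb P a) = 0 := by
    intro x
    rw [h_emb R, ha x]
    rfl
  set L : (Fin n → K) →ₗ[K] K := (hlin (q := q) (emb P a)).comp
    (Matrix.toLin' (P : Matrix (Fin n) (Fin n) K)) with hL
  have hL0 : L = 0 := by
    apply (Pi.basisFun K (Fin n)).ext
    intro j
    rw [hL, LinearMap.comp_apply, Pi.basisFun_apply, Matrix.toLin'_apply, hlin_apply,
      ← emb_single (F₀ := F₀), h1]
    rfl
  have h4 : ∀ z : Fin n → K, h z (emb P a) = 0 := by
    intro z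
    have := congrArg (fun f => f (((P⁻¹ : GLn) : Matrix (Fin n) (Fin n) K) *ᵥ z)) hL0
    simp only [hL, LinearMap.comp_apply, Matrix.toLin'_apply, gl_mulVec_inv, hlin_apply,
      LinearMap.zero_apply] at this
    exact this
  have h5 : emb P a = 0 := h_nondeg D (fun y => h_symm_zero D (h4 y))
  exact emb_eq_zero P h5

theorem orth_bet [Finite K] (R : RO D F₀ P θ) : Orth (bet R) := by
  refine ⟨bet_symm R, bet_nondeg R, R.two', ?_⟩
  intro Y hY
  obtain ⟨⟨v, hvY⟩, hv0, hQv⟩ := Cfsg.Agent.Helper13.exists_singular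
    ((LinearMap.BilinMap.toQuadraticMap (bet R)).comp Y.subtype) hY
  refine ⟨v, hvY, fun h0 => hv0 (Subtype.ext h0), ?_⟩
  simpa using hQv

/-! ### decomposition along the rational structure -/

theorem exists_decompO (R : RO D F₀ P θ) (z : Fin n → K) :
    ∃ a b : Fin n → F₀, z = emb P a + θ • emb P b := by
  set w := ((P⁻¹ : GLn) : Matrix (Fin n) (Fin n) K) *ᵥ z with hw
  choose s hs t ht hst using fun i => exists_decomp_field D F₀ R.fixm R.thne (w i)
  refine ⟨fun i => ⟨s i, hs i⟩, fun i => ⟨t i, ht i⟩, ?_⟩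
  unfold emb
  rw [← Matrix.mulVec_smul, ← Matrix.mulVec_add]
  have : (fun i => (((⟨s i, hs i⟩ : F₀)) : K)) + θ • (fun i => (((⟨t i, ht i⟩ : F₀)) : K)) = w := by
    funext i
    simp only [Pi.add_apply, Pi.smul_apply, smul_eq_mul]
    exact (hst i).symm
  rw [this, hw, gl_mulVec_inv]

theorem decomp_zeroO (R : RO D F₀ P θ) {a b : Fin n → F₀}
    (h0 : emb P a + θ • emb P b = 0) : a = 0 ∧ b = 0 := by
  unfold emb at h0
  rw [← Matrix.mulVec_smul, ← Matrix.mulVec_add] at h0
  have := congrArg (fun z => ((P⁻¹ : GLn) : Matrix (Fin n) (Fin n) K) *ᵥ z) h0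
  simp only [gl_inv_mulVec, mulVec_zero] at this
  have h1 : ∀ i, ((a i : F₀) : K) = 0 ∧ ((b i : F₀) : K) = 0 := by
    intro i
    have h2 := congrFun this i
    simp only [Pi.add_apply, Pi.smul_apply, smul_eq_mul, Pi.zero_apply] at h2
    exact decomp_field_unique D F₀ R.fixm R.thne (a i).2 (b i).2 h2
  constructor
  · funext i
    exact Subtype.ext (h1 i).1
  · funext i
    exact Subtype.ext (h1 i).2

theorem decomp_uniqueO (R : RO D F₀ P θ) {a b a' b' : Fin n → F₀}
    (h0 : emb P a + θ • emb P b = emb P a' + θ • emb P b') : a = a' ∧ b = b' := by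
  have h1 : emb P (a - a') + θ • emb P (b - b') = 0 := by
    rw [emb_sub, emb_sub, smul_sub]
    linear_combination (exp := 1) h0
  obtain ⟨e1, e2⟩ := decomp_zeroO R h1
  exact ⟨sub_eq_zero.mp e1, sub_eq_zero.mp e2⟩

/-- uniqueness of the decomposition of scalars -/
theorem scal_zero (R : RO D F₀ P θ) {s t : F₀} (h0 : (s : K) + θ * (t : K) = 0) :
    s = 0 ∧ t = 0 := by
  obtain ⟨e1, e2⟩ := decomp_field_unique D F₀ R.fixm R.thne s.2 t.2 h0
  exact ⟨Subtype.ext e1, Subtype.ext e2⟩

theorem exists_scal (R : RO D F₀ P θ) (x : K) : ∃ s t : F₀, x = (s : K) + θ * (t : K) := by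
  obtain ⟨s, hs, t, ht, hx⟩ := exists_decomp_field D F₀ R.fixm R.thne x
  exact ⟨⟨s, hs⟩, ⟨t, ht⟩, hx⟩

/-- a point `a + θ b` with `a, b` independent is not a multiple of a rational point -/
theorem not_indep_of_eqO (R : RO D F₀ P θ) {a b w : Fin n → F₀} {c : K}
    (heq : emb P a + θ • emb P b = c • emb P w) : ¬ Indep F₀ a b := by
  intro hi
  obtain ⟨s, t, hc⟩ := exists_scal R c
  have h1 : c • emb P w = emb P (s • w) + θ • emb P (t • w) := by
    rw [← smul_emb, hc]
  rw [h1] at heq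
  obtain ⟨e1, e2⟩ := decomp_uniqueO R heq
  have h2 : t • a + (-s) • b = 0 := by
    rw [e1, e2, smul_smul, smul_smul, neg_mul, neg_smul, mul_comm]
    exact add_neg_cancel _
  obtain ⟨e3, e4⟩ := hi _ _ h2
  rw [neg_eq_zero] at e4
  rw [e4, zero_smul] at e1
  exact hi.ne_zero_left e1

/-- the element `θ²` of the subfield -/
def del (R : RO D F₀ P θ) : F₀ := ⟨θ * θ, (R.fixm _).mpr (by rw [map_mul, R.ths]; ring)⟩

theorem del_val (R : RO D F₀ P θ) : ((del R : F₀) : K) = θ * θ := rfl

/-- independent rational vectors stay independent over the big field -/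
theorem indep_emb (R : RO D F₀ P θ) {a b : Fin n → F₀} (hab : Indep F₀ a b) :
    Indep K (emb P a) (emb P b) := by
  intro x y hxy
  obtain ⟨s, t, hx⟩ := exists_scal R x
  obtain ⟨s', t', hy⟩ := exists_scal R y
  have h1 : emb P (s • a + s' • b) + θ • emb P (t • a + t' • b) = 0 := by
    rw [← hxy, hx, hy, emb_add, emb_add, emb_smul, emb_smul, emb_smul, emb_smul]
    module
  obtain ⟨e1, e2⟩ := decomp_zeroO R h1
  obtain ⟨e3, e4⟩ := hab _ _ e1
  obtain ⟨e5, e6⟩ := hab _ _ e2
  rw [hx, hy, e3, e4, e5, e6]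
  simp

end Cfsg.Agent.Helper28.OSub
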