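import Mathlib
import Cfsg.Prelude.Def_GeometricClasses
import Cfsg.Agent.Helper28.OSub2

set_option autoImplicit false

/-! An element mapping every rational singular point to a multiple of a rational point lies in
the subfield group. -/

namespace Cfsg.Agent.Helper28.OSub

open Matrix Module Cfsg.Agent.S2644 Cfsg.Agent.Helper2.SUGen Cfsg.Agent.Helper28.UPair
  Cfsg.Agent.Helper28.USub

variable {K : Type*} [Field K] {q n : ℕ}

local notation "h" => Cfsg.hermForm n K q
local notation "GLn" => Matrix.GeneralLinearGroup (Fin n) K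

variable {D : Frob K q} {F₀ : Subfield K} {P : Matrix.GeneralLinearGroup (Fin n) K} {θ : K}

theorem mulVec_emb_ne_zero (g : GLn) {s : Fin n → F₀} (hs : s ≠ 0) :
    (g : Matrix (Fin n) (Fin n) K) *ᵥ emb P s ≠ 0 :=
  fun h0 => hs (emb_eq_zero P (mulVec_eq_zero_gl g h0))

theorem mult_step (R : RO D F₀ P θ) (g : GLn) {s s' : Fin n → F₀} (hi : Indep F₀ s s')
    {c c' c'' : K} {w w' w'' : Fin n → F₀}
    (h1 : (g : Matrix (Fin n) (Fin n) K) *ᵥ emb P s = c • emb P w)
    (h2 : (g : Matrix (Fin n) (Fin n) K) *ᵥ emb P s' = c' • emb P w')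
    (h3 : (g : Matrix (Fin n) (Fin n) K) *ᵥ emb P (s + s') = c'' • emb P w'') :
    ∃ w₁ : Fin n → F₀, (g : Matrix (Fin n) (Fin n) K) *ᵥ emb P s' = c • emb P w₁ := by
  have hc0 : c ≠ 0 := by
    intro h0
    rw [h0, zero_smul] at h1
    exact mulVec_emb_ne_zero g hi.ne_zero_left h1
  have hc0' : c' ≠ 0 := by
    intro h0
    rw [h0, zero_smul] at h2
    exact mulVec_emb_ne_zero g hi.ne_zero_right h2
  have hiK := indep_emb R hi
  have hiw : Indep F₀ w w' := by
    intro x y hxy
    have h4 := congrArg (emb P) hxy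
    rw [emb_add, emb_smul, emb_smul, emb_zero] at h4
    have h5 : (g : Matrix (Fin n) (Fin n) K) *ᵥ (((x : K) / c) • emb P s + ((y : K) / c') • emb P s')
        = 0 := by
      rw [Matrix.mulVec_add, Matrix.mulVec_smul, Matrix.mulVec_smul, h1, h2, smul_smul, smul_smul,
        div_mul_cancel₀ _ hc0, div_mul_cancel₀ _ hc0']
      exact h4
    obtain ⟨e1, e2⟩ := hiK _ _ (mulVec_eq_zero_gl g h5)
    rw [div_eq_zero_iff] at e1 e2
    constructor
    · rcases e1 with e1 | e1
      · exact Subtype.ext e1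
      · exact absurd e1 hc0
    · rcases e2 with e2 | e2
      · exact Subtype.ext e2
      · exact absurd e2 hc0'
  have h6 : c • emb P w + c' • emb P w' = c'' • emb P w'' := by
    rw [← h1, ← h2, ← h3, emb_add, Matrix.mulVec_add]
  obtain ⟨a, b, hd⟩ := exists_scal R (c' / c)
  have h7 : emb P (w + a • w') + θ • emb P (b • w') = (c'' / c) • emb P w'' := by
    rw [emb_add, add_assoc, ← smul_emb, ← hd, div_eq_inv_mul, div_eq_inv_mul, ← smul_smul,
      ← smul_smul, ← h6, smul_add, smul_smul, smul_smul, inv_mul_cancel₀ hc0, one_smul]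
  have h8 := not_indep_of_eqO R h7
  have hb0 : b = 0 := by
    by_contra hb0
    apply h8
    intro x y hxy
    have h9 : x • w + (x * a + y * b) • w' = 0 := by
      rw [← hxy]; module
    obtain ⟨e1, e2⟩ := hiw _ _ h9
    refine ⟨e1, ?_⟩
    rw [e1, zero_mul, zero_add] at e2
    rcases mul_eq_zero.mp e2 with e3 | e3
    · exact e3
    · exact absurd e3 hb0
  refine ⟨a • w', ?_⟩
  rw [h2, emb_smul, smul_smul]
  congr 1
  rw [hb0] at hd
  simp only [ZeroMemClass.coe_zero, mul_zero, add_zero] at hd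
  rw [← hd, mul_div_cancel₀ _ hc0]

theorem finrank_E (F₀ : Subfield K) (n : ℕ) : finrank F₀ (Fin n → F₀) = n := by
  rw [Module.finrank_fin_fun]

theorem bet_add_self (R : RO D F₀ P θ) (x y : Fin n → F₀) :
    bet R (x + y) (x + y) = bet R x x + 2 * bet R x y + bet R y y := by
  simp only [map_add, LinearMap.add_apply, bet_symm R y x]
  ring

theorem mem_subf_of_sing [Finite K] (R : RO D F₀ P θ) (hn : 7 ≤ n) (g : GLn)
    (hyp : ∀ s : Fin n → F₀, bet R s s = 0 →
      ∃ (c : K) (w : Fin n → F₀), (g : Matrix (Fin n) (Fin n) K) *ᵥ emb P s = c • emb P w) :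
    g ∈ Cfsg.Geo.subfieldSubgroup F₀ P := by
  classical
  have hO := orth_bet R
  have hfr := finrank_E F₀ n
  obtain ⟨s₀, f₀, hs₀, hf₀, hsf₀, -, -⟩ := hO.exists_hyp_perp_list [] (by
    rw [hfr]; simp only [List.length_nil]; omega)
  have hs₀0 : s₀ ≠ 0 := by
    intro h0
    rw [h0] at hsf₀
    simp at hsf₀
  obtain ⟨c₀, w₀, hcw₀⟩ := hyp s₀ hs₀
  have hc₀ : c₀ ≠ 0 := by
    intro h0
    rw [h0, zero_smul] at hcw₀
    exact mulVec_emb_ne_zero g hs₀0 hcw₀
  have hA : ∀ s : Fin n → F₀, bet R s s = 0 →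
      ∃ w : Fin n → F₀, (g : Matrix (Fin n) (Fin n) K) *ᵥ emb P s = c₀ • emb P w := by
    intro s hs
    by_cases hs0 : s = 0
    · refine ⟨0, ?_⟩
      rw [hs0, emb_zero, Matrix.mulVec_zero, smul_zero]
    obtain ⟨e, f, hee, hff, hef, he, hf⟩ := hO.exists_hyp_perp_list [s₀, s] (by
      rw [hfr]; simp only [List.length_cons, List.length_nil]; omega)
    have hes₀ : bet R e s₀ = 0 := he s₀ (by simp)
    have hes : bet R e s = 0 := he s (by simp)
    have hfs₀ : bet R f s₀ = 0 := hf s₀ (by simp)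
    have hfs : bet R f s = 0 := hf s (by simp)
    have hfe : bet R f e = 1 := by rw [bet_symm R]; exact hef
    have hi1 : Indep F₀ s₀ e := (indep_of_dual (β := bet R) (by rw [hfe]; exact one_ne_zero)
      hfs₀ hs₀0).symm
    have hi2 : Indep F₀ e s := indep_of_dual (β := bet R) (by rw [hfe]; exact one_ne_zero) hfs hs0
    have hsing1 : bet R (s₀ + e) (s₀ + e) = 0 := by
      rw [bet_add_self, hs₀, hee, bet_symm R s₀ e, hes₀]; ring
    have hsing2 : bet R (e + s) (e + s) = 0 := by
      rw [bet_add_self, hs, hee, hes]; ring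
    obtain ⟨c1, w1, h1⟩ := hyp e hee
    obtain ⟨c2, w2, h2⟩ := hyp (s₀ + e) hsing1
    obtain ⟨w₁, hw₁⟩ := mult_step R g hi1 hcw₀ h1 h2
    obtain ⟨c3, w3, h3⟩ := hyp s hs
    obtain ⟨c4, w4, h4⟩ := hyp (e + s) hsing2
    exact mult_step R g hi2 hw₁ h3 h4
  have hB : ∀ x : Fin n → F₀,
      ∃ w : Fin n → F₀, (g : Matrix (Fin n) (Fin n) K) *ᵥ emb P x = c₀ • emb P w := by
    intro x
    obtain ⟨e, f, hee, hff, hef, he, hf⟩ := hO.exists_hyp_perp_list [x] (by
      rw [hfr]; simp only [List.length_cons, List.length_nil]; omega)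
    have hex : bet R e x = 0 := he x (by simp)
    have hfx : bet R f x = 0 := hf x (by simp)
    have hxe : bet R x e = 0 := by rw [bet_symm R]; exact hex
    have hxf : bet R x f = 0 := by rw [bet_symm R]; exact hfx
    have hfe : bet R f e = 1 := by rw [bet_symm R]; exact hef
    set t : F₀ := bet R x x / 2 with ht
    have hsing : bet R (x + e - t • f) (x + e - t • f) = 0 := by
      simp only [map_sub, map_add, map_smul, LinearMap.sub_apply, LinearMap.add_apply,
        LinearMap.smul_apply, hee, hff, hef, hfe, hex, hfx, hxe, hxf, smul_eq_mul]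
      rw [ht]
      have := R.two'
      field_simp
      ring
    obtain ⟨w1, h1⟩ := hA _ hsing
    obtain ⟨w2, h2⟩ := hA e hee
    obtain ⟨w3, h3⟩ := hA f hff
    refine ⟨w1 - w2 + t • w3, ?_⟩
    have hx : emb P x = emb P (x + e - t • f) - emb P e + (t : K) • emb P f := by
      rw [emb_sub, emb_add, emb_smul]; abel
    rw [hx, Matrix.mulVec_add, Matrix.mulVec_sub, Matrix.mulVec_smul, h1, h2, h3, emb_add, emb_sub,
      emb_smul]
    module
  exact mem_subf_of_maps g c₀ hc₀ (fun j => hB _)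

end Cfsg.Agent.Helper28.OSub
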