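import Mathlib
import Cfsg.Prelude.Def_GeometricClasses
import Cfsg.Agent.Helper28.OSub3

set_option autoImplicit false

/-! Siegel elements: rational ones lie in the subfield group; commutator computations. -/

namespace Cfsg.Agent.Helper28.OSub

open Matrix Module Cfsg.Agent.S2644 Cfsg.Agent.Helper2.SUGen Cfsg.Agent.Helper28.UPair
  Cfsg.Agent.Helper28.USub

variable {K : Type*} [Field K] {q n : ℕ}

local notation "h" => Cfsg.hermForm n K q
local notation "T" => Cfsg.unitaryTransvection n q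
local notation "GLn" => Matrix.GeneralLinearGroup (Fin n) K

variable {D : Frob K q} {F₀ : Subfield K} {P : Matrix.GeneralLinearGroup (Fin n) K} {θ : K}

/-! ### general facts on `InM` -/

theorem InM.of_mul_left {M : Subgroup GLn} {A X : Matrix (Fin n) (Fin n) K} (hA : InM M A)
    (hAX : InM M (A * X)) : InM M X := by
  obtain ⟨a, ha, rfl⟩ := hA
  obtain ⟨b, hb, hbX⟩ := hAX
  refine ⟨a⁻¹ * b, M.mul_mem (M.inv_mem ha) hb, ?_⟩
  rw [Units.val_mul, hbX, ← mul_assoc, ← Units.val_mul, inv_mul_cancel]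
  simp

theorem InM.conj_Sg (D : Frob K q) {M : Subgroup GLn} {A : Matrix (Fin n) (Fin n) K}
    (hA : InM M A) (hP : Pres (q := q) A) {x w : Fin n → K} {c : K}
    (hS : InM M (Sg (q := q) x w c)) : InM M (Sg (q := q) (A *ᵥ x) (A *ᵥ w) c) := by
  obtain ⟨g, hg, rfl⟩ := hA
  obtain ⟨s, hs, hsS⟩ := hS
  refine ⟨g * s * g⁻¹, M.mul_mem (M.mul_mem hg hs) (M.inv_mem hg), ?_⟩
  rw [Units.val_mul, Units.val_mul, hsS, Sg_conj D _ hP, mul_assoc, ← Units.val_mul,
    mul_inv_cancel]
  simp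

/-- the commutator of two Siegel elements with the same centre is a transvection -/
theorem comm_T (D : Frob K q) {M : Subgroup GLn} {x a b : Fin n → K} {ca cb : K}
    (hxx : h x x = 0) (ha : h a x = 0) (hb : h b x = 0) (hA : InM M (Sg (q := q) x a ca))
    (hB : InM M (Sg (q := q) x b cb)) : InM M (T x (h a b - h b a)) := by
  have e1 : Sg (q := q) x a ca * Sg (q := q) x b cb = Sg (q := q) x (a + b) (ca + cb - h b a) :=
    Sg_mul D x a b ca cb hxx ha hb
  have e2 : Sg (q := q) x b cb * Sg (q := q) x a ca = Sg (q := q) x (b + a) (cb + ca - h a b) :=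
    Sg_mul D x b a cb ca hxx hb ha
  have hba : h (b + a) x = 0 := by rw [h_add_left, ha, hb, add_zero]
  have e3 : (Sg (q := q) x b cb * Sg (q := q) x a ca) * T x (h a b - h b a) =
      Sg (q := q) x a ca * Sg (q := q) x b cb := by
    rw [e2, e1, ← Sg_zero D, Sg_mul D x (b + a) 0 _ _ hxx hba (h_zero_left _)]
    apply Sg_congr'
    · abel
    · rw [h_zero_left]; ring
  exact InM.of_mul_left (hB.mul hA) (by rw [e3]; exact hA.mul hB)

/-- conjugating a Siegel element with centre `v` by one with centre `y ⟂ v` -/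
theorem conj_special (D : Frob K q) {M : Subgroup GLn} {y z v w' : Fin n → K} {c₁ c₂ : K}
    (hyy : h y y = 0) (hzy : h z y = 0) (hc₁ : c₁ + D.σ c₁ + h z z = 0) (hvv : h v v = 0)
    (hwv : h w' v = 0) (hvy : h v y = 0) (hvz : h v z = 0) (hwy : h w' y = 0)
    (hX₁ : InM M (Sg (q := q) y z c₁)) (hX₂ : InM M (Sg (q := q) v w' c₂)) :
    InM M (Sg (q := q) v (-(h w' z) • y) 0) := by
  have hP := Sg_pres D y z c₁ hyy hzy hc₁
  have h1 := InM.conj_Sg D hX₁ hP hX₂
  have e1 : Sg (q := q) y z c₁ *ᵥ v = v := by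
    rw [Sg_mulVec, hvy, hvz]; module
  have e2 : Sg (q := q) y z c₁ *ᵥ w' = w' - h w' z • y := by
    rw [Sg_mulVec, hwy]; module
  rw [e1, e2] at h1
  have hyv : h y v = 0 := h_symm_zero D hvy
  have hyw : h y w' = 0 := h_symm_zero D hwy
  have e : Sg (q := q) v w' c₂ * Sg (q := q) v (-(h w' z) • y) 0 =
      Sg (q := q) v (w' - h w' z • y) c₂ := by
    rw [Sg_mul D v w' _ c₂ 0 hvv hwv (by rw [h_smul_left, hyv, mul_zero])]
    apply Sg_congr'
    · module
    · rw [h_smul_left, hyw]; ring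
  exact InM.of_mul_left hX₂ (by rw [e]; exact h1)

/-! ### rational Siegel elements -/

theorem h_emb_dec (R : RO D F₀ P θ) (x a b : Fin n → F₀) :
    h (emb P x) (emb P a + θ • emb P b) =
      ((bet R x a : F₀) : K) - θ * ((bet R x b : F₀) : K) := by
  rw [h_add_right D, h_smul_right D, h_emb R, h_emb R, R.ths]
  ring

theorem h_dec_emb (R : RO D F₀ P θ) (a b x : Fin n → F₀) :
    h (emb P a + θ • emb P b) (emb P x) =
      ((bet R a x : F₀) : K) + θ * ((bet R b x : F₀) : K) := by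
  rw [h_add_left, h_smul_left, h_emb R, h_emb R]

theorem Sg_emb (R : RO D F₀ P θ) (u w x : Fin n → F₀) (c : F₀) :
    Sg (q := q) (emb P u) (emb P w) (c : K) *ᵥ emb P x =
      emb P (x + bet R x u • w - bet R x w • u + (c * bet R x u) • u) := by
  rw [Sg_mulVec, h_emb R, h_emb R, emb_add, emb_sub, emb_add, emb_smul, emb_smul, emb_smul]
  rfl

/-- the rational coefficient of a rational Siegel element -/
def cE (R : RO D F₀ P θ) (w : Fin n → F₀) : F₀ := -(bet R w w) / 2

theorem cE_cond (R : RO D F₀ P θ) (w : Fin n → F₀) :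
    ((cE R w : F₀) : K) + D.σ ((cE R w : F₀) : K) + h (emb P w) (emb P w) = 0 := by
  rw [R.fix, h_emb R]
  have h1 : cE R w + cE R w + bet R w w = 0 := by
    unfold cE
    have := R.two'
    field_simp
    ring
  have := congrArg (fun z : F₀ => (z : K)) h1
  simpa using this

theorem h_emb_zero (R : RO D F₀ P θ) {u v : Fin n → F₀} (huv : bet R u v = 0) :
    h (emb P u) (emb P v) = 0 := by
  rw [h_emb R, huv]; rfl

theorem SgE_inH (R : RO D F₀ P θ) {u w : Fin n → F₀} (hu : bet R u u = 0)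
    (hwu : bet R w u = 0) :
    InM (HH n q F₀ P) (Sg (q := q) (emb P u) (emb P w) ((cE R w : F₀) : K)) := by
  have hxx := h_emb_zero R hu
  have hwx := h_emb_zero R hwu
  have hcc := cE_cond R w
  refine ⟨Cfsg.Agent.Helper28.UM.SgG D (emb P u) (emb P w) _ hxx hwx hcc, ⟨?_, ?_⟩, ?_⟩
  · refine mem_subf_of_maps _ 1 one_ne_zero (fun j => ?_)
    rw [Cfsg.Agent.Helper28.UM.SgG_val, Sg_emb R]
    exact ⟨_, (one_smul _ _).symm⟩
  · exact (Cfsg.Agent.Helper28.UM.mem_G_iff _).mpr
      ⟨Sg_pres D _ _ _ hxx hwx hcc, Sg_det D _ _ _ hxx hwx⟩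
  · rw [Cfsg.Agent.Helper28.UM.SgG_val]

theorem SgE_pres (R : RO D F₀ P θ) {u w : Fin n → F₀} (hu : bet R u u = 0)
    (hwu : bet R w u = 0) :
    Pres (q := q) (Sg (q := q) (emb P u) (emb P w) ((cE R w : F₀) : K)) :=
  Sg_pres D _ _ _ (h_emb_zero R hu) (h_emb_zero R hwu) (cE_cond R w)

end Cfsg.Agent.Helper28.OSub
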