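import Mathlib
import Cfsg.Prelude.Def_GeometricClasses
import Cfsg.Agent.Helper28.OSub4

set_option autoImplicit false

/-! An overgroup of the orthogonal subfield group which is not contained in the subfield group
contains the full unitary root group of a rational singular point. -/

namespace Cfsg.Agent.Helper28.OSub

open Matrix Module Cfsg.Agent.S2644 Cfsg.Agent.Helper2.SUGen Cfsg.Agent.Helper28.UPair
  Cfsg.Agent.Helper28.USub

variable {K : Type*} [Field K] {q n : ℕ}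

local notation "h" => Cfsg.hermForm n K q
local notation "T" => Cfsg.unitaryTransvection n q
local notation "GLn" => Matrix.GeneralLinearGroup (Fin n) K

variable {D : Frob K q} {F₀ : Subfield K} {P : Matrix.GeneralLinearGroup (Fin n) K} {θ : K}

theorem exists_rat_SS [Finite K] (R : RO D F₀ P θ) (hn : 13 ≤ n) {M : Subgroup GLn}
    (hHM : HH n q F₀ P ≤ M) (hMP : ∀ a ∈ M, Pres (q := q) (a : Matrix (Fin n) (Fin n) K))
    {g : GLn} (hgM : g ∈ M) (hgS : g ∉ Cfsg.Geo.subfieldSubgroup F₀ P) :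
    ∃ v : Fin n → F₀, v ≠ 0 ∧ bet R v v = 0 ∧ emb P v ∈ SS D M := by
  classical
  have hO := orth_bet R
  have hfr := finrank_E F₀ n
  -- step 1: a rational singular point with irrational image
  obtain ⟨u, hu, hirr⟩ : ∃ u : Fin n → F₀, bet R u u = 0 ∧ ∀ (c : K) (w : Fin n → F₀),
      (g : Matrix (Fin n) (Fin n) K) *ᵥ emb P u ≠ c • emb P w := by
    by_contra hcon
    push Not at hcon
    exact hgS (mem_subf_of_sing R (by omega) g (fun s hs => hcon s hs))
  have hgP := hMP g hgM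
  -- step 2
  obtain ⟨p, r, hy⟩ := exists_decompO R ((g : Matrix (Fin n) (Fin n) K) *ᵥ emb P u)
  have hi : Indep F₀ p r := by
    by_contra hcon
    obtain ⟨c, w, hcw⟩ := exists_eq_of_not_indep (P := P) (θ := θ) hcon
    exact hirr c w (by rw [hy, hcw])
  have hyy : h ((g : Matrix (Fin n) (Fin n) K) *ᵥ emb P u)
      ((g : Matrix (Fin n) (Fin n) K) *ᵥ emb P u) = 0 := by
    rw [hgP]; exact h_emb_zero R hu
  -- step 3: counting
  choose τ₁ τ₂ hτ using fun w : Fin n → F₀ =>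
    exists_decompO R ((g : Matrix (Fin n) (Fin n) K) *ᵥ emb P w)
  have hτinj : Function.Injective (fun w : Fin n → F₀ => (τ₁ w, τ₂ w)) := by
    intro w w' hww
    have e1 : τ₁ w = τ₁ w' := congrArg Prod.fst hww
    have e2 : τ₂ w = τ₂ w' := congrArg Prod.snd hww
    have e3 : (g : Matrix (Fin n) (Fin n) K) *ᵥ emb P w =
        (g : Matrix (Fin n) (Fin n) K) *ᵥ emb P w' := by rw [hτ w, hτ w', e1, e2]
    have e4 : (g : Matrix (Fin n) (Fin n) K) *ᵥ emb P (w - w') = 0 := by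
      rw [emb_sub, Matrix.mulVec_sub, e3, sub_self]
    exact sub_eq_zero.mp (emb_eq_zero P (mulVec_eq_zero_gl g e4))
  have hUle : finrank F₀ (Submodule.span F₀ {x | x ∈ [p, r]}) ≤ 2 := finrank_span_list_le [p, r]
  have hA := finrank_ker_flip (β := bet R) u
  obtain ⟨w, hwA, hwU⟩ := exists_not_mem_of_card (LinearMap.ker ((bet R).flip u))
    (Submodule.span F₀ {x | x ∈ [p, r]}) (by omega) _ hτinj
  have hwu : bet R w u = 0 := LinearMap.mem_ker.mp hwA
  have hz := hτ w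
  -- step 4: a hyperbolic pair
  obtain ⟨v, f, hvv, hff, hvf, hv, hf⟩ := hO.exists_hyp_perp_list [p, r, τ₁ w, τ₂ w] (by
    rw [hfr]; simp only [List.length_cons, List.length_nil]; omega)
  have hvp : bet R v p = 0 := hv p (by simp)
  have hvr : bet R v r = 0 := hv r (by simp)
  have hvz₁ : bet R v (τ₁ w) = 0 := hv _ (by simp)
  have hvz₂ : bet R v (τ₂ w) = 0 := hv _ (by simp)
  have hfp : bet R f p = 0 := hf p (by simp)
  have hfr' : bet R f r = 0 := hf r (by simp)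
  have hfz₁ : bet R f (τ₁ w) = 0 := hf _ (by simp)
  have hfz₂ : bet R f (τ₂ w) = 0 := hf _ (by simp)
  have hfv : bet R f v = 1 := by rw [bet_symm R]; exact hvf
  have hv0 : v ≠ 0 := by
    intro h0
    rw [h0] at hvf
    simp at hvf
  -- step 5: the vector w'
  obtain ⟨w₀, hw₀p, hw₀r, hw₀z⟩ : ∃ w₀, bet R w₀ p = 0 ∧ bet R w₀ r = 0 ∧
      (bet R w₀ (τ₁ w) ≠ 0 ∨ bet R w₀ (τ₂ w) ≠ 0) := by
    by_cases h1 : τ₁ w ∈ Submodule.span F₀ {x | x ∈ [p, r]}
    · have h2 : τ₂ w ∉ Submodule.span F₀ {x | x ∈ [p, r]} := fun h2 => hwU ⟨h1, h2⟩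
      obtain ⟨w₀, hw₀, hw₀z⟩ := hO.exists_perp_one _ h2
      exact ⟨w₀, hw₀ p (Submodule.subset_span (by simp)), hw₀ r (Submodule.subset_span (by simp)),
        Or.inr (by rw [hw₀z]; exact one_ne_zero)⟩
    · obtain ⟨w₀, hw₀, hw₀z⟩ := hO.exists_perp_one _ h1
      exact ⟨w₀, hw₀ p (Submodule.subset_span (by simp)), hw₀ r (Submodule.subset_span (by simp)),
        Or.inl (by rw [hw₀z]; exact one_ne_zero)⟩
  obtain ⟨w', hw'p, hw'r, hw'v, hw'z₁, hw'z₂⟩ : ∃ w', bet R w' p = 0 ∧ bet R w' r = 0 ∧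
      bet R w' v = 0 ∧ bet R w' (τ₁ w) = bet R w₀ (τ₁ w) ∧ bet R w' (τ₂ w) = bet R w₀ (τ₂ w) := by
    refine ⟨w₀ - bet R w₀ v • f, ?_, ?_, ?_, ?_, ?_⟩
    · simp only [map_sub, map_smul, LinearMap.sub_apply, LinearMap.smul_apply, hw₀p, hfp,
        smul_eq_mul]; ring
    · simp only [map_sub, map_smul, LinearMap.sub_apply, LinearMap.smul_apply, hw₀r, hfr',
        smul_eq_mul]; ring
    · simp only [map_sub, map_smul, LinearMap.sub_apply, LinearMap.smul_apply, hfv,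
        smul_eq_mul]; ring
    · simp only [map_sub, map_smul, LinearMap.sub_apply, LinearMap.smul_apply, hfz₁,
        smul_eq_mul]; ring
    · simp only [map_sub, map_smul, LinearMap.sub_apply, LinearMap.smul_apply, hfz₂,
        smul_eq_mul]; ring
  have hμ : h (emb P w') ((g : Matrix (Fin n) (Fin n) K) *ᵥ emb P w) ≠ 0 := by
    rw [hz, h_emb_dec R, hw'z₁, hw'z₂]
    intro h0
    have h1 : ((bet R w₀ (τ₁ w) : F₀) : K) + θ * ((-(bet R w₀ (τ₂ w)) : F₀) : K) = 0 := by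
      rw [← h0]; push_cast; ring
    obtain ⟨e1, e2⟩ := scal_zero R h1
    rcases hw₀z with h2 | h2
    · exact h2 e1
    · exact h2 (neg_eq_zero.mp e2)
  set μ' := h (emb P w') ((g : Matrix (Fin n) (Fin n) K) *ᵥ emb P w) with hμ'
  -- step 6: the vector w''
  obtain ⟨A, B, hAB⟩ := exists_scal R (θ * D.σ μ')
  obtain ⟨w₁, hw₁p, hw₁r⟩ := hO.exists_dual2 hi A B
  obtain ⟨w'', hw''p, hw''r, hw''v⟩ : ∃ w'', bet R p w'' = A ∧ bet R r w'' = B ∧
      bet R w'' v = 0 := by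
    refine ⟨w₁ - bet R w₁ v • f, ?_, ?_, ?_⟩
    · rw [bet_symm R]
      simp only [map_sub, map_smul, LinearMap.sub_apply, LinearMap.smul_apply, hw₁p, hfp,
        smul_eq_mul]; ring
    · rw [bet_symm R]
      simp only [map_sub, map_smul, LinearMap.sub_apply, LinearMap.smul_apply, hw₁r, hfr',
        smul_eq_mul]; ring
    · simp only [map_sub, map_smul, LinearMap.sub_apply, LinearMap.smul_apply, hfv,
        smul_eq_mul]; ring
  have hyw'' : h ((g : Matrix (Fin n) (Fin n) K) *ᵥ emb P u) (emb P w'') = θ * D.σ μ' := by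
    rw [hy, h_dec_emb R, hw''p, hw''r, hAB]
  -- step 7: the group elements
  have hvv' : h (emb P v) (emb P v) = 0 := h_emb_zero R hvv
  have hX₁ : InM M (Sg (q := q) ((g : Matrix (Fin n) (Fin n) K) *ᵥ emb P u)
      ((g : Matrix (Fin n) (Fin n) K) *ᵥ emb P w) ((cE R w : F₀) : K)) :=
    InM.conj_Sg D ⟨g, hgM, rfl⟩ hgP (InM.mono hHM (SgE_inH R hu hwu))
  have hX₂ : InM M (Sg (q := q) (emb P v) (emb P w') ((cE R w' : F₀) : K)) :=
    InM.mono hHM (SgE_inH R hvv hw'v)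
  have hzy : h ((g : Matrix (Fin n) (Fin n) K) *ᵥ emb P w)
      ((g : Matrix (Fin n) (Fin n) K) *ᵥ emb P u) = 0 := by
    rw [hgP]; exact h_emb_zero R hwu
  have hc₁ : ((cE R w : F₀) : K) + D.σ ((cE R w : F₀) : K) +
      h ((g : Matrix (Fin n) (Fin n) K) *ᵥ emb P w) ((g : Matrix (Fin n) (Fin n) K) *ᵥ emb P w)
      = 0 := by
    rw [hgP]; exact cE_cond R w
  have hvy : h (emb P v) ((g : Matrix (Fin n) (Fin n) K) *ᵥ emb P u) = 0 := by
    rw [hy, h_emb_dec R, hvp, hvr]; simp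
  have hvz : h (emb P v) ((g : Matrix (Fin n) (Fin n) K) *ᵥ emb P w) = 0 := by
    rw [hz, h_emb_dec R, hvz₁, hvz₂]; simp
  have hwy : h (emb P w') ((g : Matrix (Fin n) (Fin n) K) *ᵥ emb P u) = 0 := by
    rw [hy, h_emb_dec R, hw'p, hw'r]; simp
  have hC₁ := conj_special D hyy hzy hc₁ hvv' (h_emb_zero R hw'v) hvy hvz hwy hX₁ hX₂
  rw [← hμ'] at hC₁
  have hyv : h ((g : Matrix (Fin n) (Fin n) K) *ᵥ emb P u) (emb P v) = 0 := h_symm_zero D hvy
  have hav : h (-μ' • ((g : Matrix (Fin n) (Fin n) K) *ᵥ emb P u)) (emb P v) = 0 := by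
    rw [h_smul_left, hyv, mul_zero]
  -- step 8
  have hN : μ' * D.σ μ' ≠ 0 := mul_ne_zero hμ (σ_ne_zero D hμ)
  have key : ∀ l : F₀, InM M (T (emb P v) (-2 * (l : K) * θ * (μ' * D.σ μ'))) := by
    intro l
    have hlv : bet R (l • w'') v = 0 := by
      rw [map_smul, LinearMap.smul_apply, hw''v, smul_zero]
    have hX₃ : InM M (Sg (q := q) (emb P v) (emb P (l • w'')) ((cE R (l • w'') : F₀) : K)) :=
      InM.mono hHM (SgE_inH R hvv hlv)
    have h1 := comm_T D hvv' hav (h_emb_zero R hlv) hC₁ hX₃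
    have e1 : h (-μ' • ((g : Matrix (Fin n) (Fin n) K) *ᵥ emb P u)) (emb P (l • w'')) =
        -(μ' * l * θ * D.σ μ') := by
      rw [h_smul_left, emb_smul, h_smul_right D, R.fix, hyw'']; ring
    have e2 : h (emb P (l • w'')) (-μ' • ((g : Matrix (Fin n) (Fin n) K) *ᵥ emb P u)) =
        μ' * l * θ * D.σ μ' := by
      rw [← h_conj D, e1, map_neg, map_mul, map_mul, map_mul, D.invol, R.fix, R.ths]; ring
    rw [e1, e2] at h1
    have e3 : -(μ' * (l : K) * θ * D.σ μ') - μ' * l * θ * D.σ μ' =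
        -2 * (l : K) * θ * (μ' * D.σ μ') := by ring
    rwa [e3] at h1
  refine ⟨v, hv0, hvv, hvv', fun c hc => ?_⟩
  have hNfix : D.σ (μ' * D.σ μ') = μ' * D.σ μ' := by rw [map_mul, D.invol]; ring
  have hden : -2 * θ * (μ' * D.σ μ') ≠ 0 :=
    mul_ne_zero (mul_ne_zero (neg_ne_zero.mpr R.two) R.th0) hN
  have hlfix : D.σ (c / (-2 * θ * (μ' * D.σ μ'))) = c / (-2 * θ * (μ' * D.σ μ')) := by
    rw [map_div₀, map_mul, map_mul, hNfix, hc, R.ths, map_neg, map_ofNat]
    have h2 := R.two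
    have hθ0 := R.th0
    have hσμ := σ_ne_zero D hμ
    field_simp
  have := key ⟨c / (-2 * θ * (μ' * D.σ μ')), (R.fixm _).mpr hlfix⟩
  have e : -2 * ((⟨c / (-2 * θ * (μ' * D.σ μ')), (R.fixm _).mpr hlfix⟩ : F₀) : K) * θ *
      (μ' * D.σ μ') = c := by
    show -2 * (c / (-2 * θ * (μ' * D.σ μ'))) * θ * (μ' * D.σ μ') = c
    have h2 := R.two
    have hθ0 := R.th0
    have hσμ := σ_ne_zero D hμ
    field_simp
  rwa [e] at this

end Cfsg.Agent.Helper28.OSub
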