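import Mathlib
import Cfsg.Prelude.Def_GeometricClasses
import Cfsg.Agent.Helper28.OSub5

set_option autoImplicit false

/-! From one rational singular point to all isotropic points. -/

namespace Cfsg.Agent.Helper28.OSub

open Matrix Module Cfsg.Agent.S2644 Cfsg.Agent.Helper2.SUGen Cfsg.Agent.Helper28.UPair
  Cfsg.Agent.Helper28.USub

variable {K : Type*} [Field K] {q n : ℕ}

local notation "h" => Cfsg.hermForm n K q
local notation "T" => Cfsg.unitaryTransvection n q
local notation "GLn" => Matrix.GeneralLinearGroup (Fin n) K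

variable {D : Frob K q} {F₀ : Subfield K} {P : Matrix.GeneralLinearGroup (Fin n) K} {θ : K}

/-- all rational singular points have full root groups once one of them has -/
theorem all_rat_SS [Finite K] (R : RO D F₀ P θ) (hn : 9 ≤ n) {M : Subgroup GLn}
    (hHM : HH n q F₀ P ≤ M) {v₀ : Fin n → F₀} (hv₀0 : v₀ ≠ 0) (hv₀ : bet R v₀ v₀ = 0)
    (hv₀S : emb P v₀ ∈ SS D M) (s : Fin n → F₀) (hs : bet R s s = 0) : emb P s ∈ SS D M := by
  have hO := orth_bet R
  have hfr := finrank_E F₀ n
  by_cases hi : Indep F₀ v₀ s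
  · obtain ⟨x, hxx, hxv, hxs⟩ := hO.exists_sing_dual2 (by rw [hfr]; exact hn) hi 1 1
    have hwx : bet R (s - v₀) x = 0 := by
      rw [map_sub, LinearMap.sub_apply, bet_symm R s x, bet_symm R v₀ x, hxs, hxv, sub_self]
    have h1 := SS_map D M hv₀S (InM.mono hHM (SgE_inH R hxx hwx)) (SgE_pres R hxx hwx)
    rw [Sg_emb R] at h1
    have e : v₀ + bet R v₀ x • (s - v₀) - bet R v₀ (s - v₀) • x +
        (cE R (s - v₀) * bet R v₀ x) • x = s := by
      have e1 : bet R v₀ x = 1 := by rw [bet_symm R]; exact hxv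
      have e2 : cE R (s - v₀) = bet R v₀ s := by
        unfold cE
        simp only [map_sub, LinearMap.sub_apply, hs, hv₀, bet_symm R s v₀]
        have := R.two'
        field_simp
        ring
      rw [e1, e2, map_sub, hv₀]
      module
    rwa [e] at h1
  · unfold Indep at hi
    push Not at hi
    obtain ⟨a, b, hab, hne⟩ := hi
    have hb : b ≠ 0 := by
      intro hb
      rw [hb, zero_smul, add_zero] at hab
      rcases smul_eq_zero.mp hab with h1 | h1
      · exact hne h1 hb
      · exact hv₀0 h1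
    have hs' : s = (-(a / b)) • v₀ := by
      have h5 : b • s = -(a • v₀) := eq_neg_of_add_eq_zero_right hab
      have h6 : s = b⁻¹ • (b • s) := by rw [smul_smul, inv_mul_cancel₀ hb, one_smul]
      rw [h6, h5, smul_neg, smul_smul, neg_smul]
      congr 2
      field_simp
    rw [hs', emb_smul]
    exact SS_smul D M hv₀S _

section closure

variable (R : RO D F₀ P θ) {M : Subgroup (Matrix.GeneralLinearGroup (Fin n) K)}

theorem h_pt (a b a' b' : Fin n → F₀) :
    h (emb P a + θ • emb P b) (emb P a' + θ • emb P b') =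
      (((bet R a a' : F₀) : K) - θ * θ * ((bet R b b' : F₀) : K)) +
        θ * (((bet R b a' : F₀) : K) - ((bet R a b' : F₀) : K)) := by
  simp only [h_add_left, h_add_right D, h_smul_left, h_smul_right D, h_emb R, R.ths]
  ring

/-- the dependent case -/
theorem L_dep (hrat : ∀ s : Fin n → F₀, bet R s s = 0 → emb P s ∈ SS D M) {a b : Fin n → F₀}
    (hi : ¬ Indep F₀ a b) (hiso : h (emb P a + θ • emb P b) (emb P a + θ • emb P b) = 0) :
    emb P a + θ • emb P b ∈ SS D M := by
  obtain ⟨c, w, hcw⟩ := exists_eq_of_not_indep (P := P) (θ := θ) hi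
  rw [hcw] at hiso ⊢
  by_cases hc : c = 0
  · rw [hc, zero_smul]
    have := hrat 0 (by simp)
    rwa [emb_zero] at this
  · apply SS_smul D M (hrat w _) c
    rw [h_smul_left, h_smul_right D, h_emb R] at hiso
    have hσc : D.σ c ≠ 0 := σ_ne_zero D hc
    have h1 : ((bet R w w : F₀) : K) = 0 := by
      rcases mul_eq_zero.mp hiso with h2 | h2
      · exact absurd h2 hc
      · rcases mul_eq_zero.mp h2 with h3 | h3
        · exact absurd h3 hσc
        · exact h3
    exact Subtype.ext h1

/-- totally singular rational lines -/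
theorem L_ts [Finite K] (hn : 9 ≤ n)
    (hrat : ∀ s : Fin n → F₀, bet R s s = 0 → emb P s ∈ SS D M) {a b : Fin n → F₀}
    (hi : Indep F₀ a b) (haa : bet R a a = 0) (hbb : bet R b b = 0) (hab : bet R a b = 0) :
    emb P a + θ • emb P b ∈ SS D M := by
  have hO := orth_bet R
  have hfr := finrank_E F₀ n
  obtain ⟨c, hcc, hca, hcb⟩ := hO.exists_sing_dual2 (by rw [hfr]; exact hn) hi 1 0
  have hac : bet R a c = 1 := by rw [bet_symm R]; exact hca
  have hbc : bet R b c = 0 := by rw [bet_symm R]; exact hcb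
  have hba : bet R b a = 0 := by rw [bet_symm R]; exact hab
  have hb1 : bet R (b + c) (b + c) = 0 := by
    rw [bet_add_self, hbb, hcc, hbc]; ring
  have hb2 : bet R (b - c) (b - c) = 0 := by
    simp only [map_sub, LinearMap.sub_apply, hbb, hcc, hbc, hcb]; ring
  have two0 := R.two
  have y1 : emb P a + θ • emb P (b + c) ∈ SS D M := by
    apply SS_line D M (hrat _ hb1) (hrat _ haa)
    · rw [h_emb R, map_add, hab, hac]
      simp
    · rw [h_pt R]
      simp only [map_add, LinearMap.add_apply, haa, hbb, hcc, hbc, hcb, hab, hba, hac, hca]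
      simp
  have y2 : emb P a + θ • emb P (b - c) ∈ SS D M := by
    apply SS_line D M (hrat _ hb2) (hrat _ haa)
    · rw [h_emb R, map_sub, hab, hac]
      simp
    · rw [h_pt R]
      simp only [map_sub, LinearMap.sub_apply, haa, hbb, hcc, hbc, hcb, hab, hba, hac, hca]
      simp
  have e : emb P a + θ • emb P (b - c) + (1 : K) • (emb P a + θ • emb P (b + c)) =
      (2 : K) • (emb P a + θ • emb P b) := by
    rw [emb_sub, emb_add]; module
  have hpt : h (emb P a + θ • emb P b) (emb P a + θ • emb P b) = 0 := by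
    rw [h_pt R, haa, hbb, hab, hba]; simp
  have y3 : (2 : K) • (emb P a + θ • emb P b) ∈ SS D M := by
    rw [← e]
    apply SS_line D M y1 y2
    · rw [h_pt R]
      simp only [map_sub, map_add, LinearMap.sub_apply, LinearMap.add_apply, haa, hbb, hcc, hbc,
        hcb, hab, hba, hac, hca]
      simp only [ZeroMemClass.coe_zero, OneMemClass.coe_one, sub_zero, zero_sub, sub_self,
        mul_zero, zero_add, add_zero]
      intro h0
      push_cast at h0
      have : (2 : K) * θ = 0 := by linear_combination -h0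
      rcases mul_eq_zero.mp this with h1 | h1
      · exact two0 h1
      · exact R.th0 h1
    · rw [e, h_smul_left, h_smul_right D, hpt, mul_zero, mul_zero]
  have := SS_smul D M y3 (2 : K)⁻¹
  rwa [smul_smul, inv_mul_cancel₀ two0, one_smul] at this

/-- the invariant of an isotropic point -/
def mInv (a b : Fin n → F₀) : K := ((bet R a b : F₀) : K) + θ * ((bet R b b : F₀) : K)

theorem pt_move (a b c : Fin n → F₀) (α γ : F₀) :
    emb P (a + (del R * γ) • c) + θ • emb P (b + α • c) =
      (emb P a + θ • emb P b) + (θ * ((α : K) + θ * (γ : K))) • emb P c := by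
  rw [emb_add, emb_add, emb_smul, emb_smul, Subfield.coe_mul, del_val]
  module

theorem mInv_move {a b c : Fin n → F₀} {α γ : F₀} (hcc : bet R c c = 0) (hca : bet R c a = α)
    (hcb : bet R c b = γ) :
    mInv R (a + (del R * γ) • c) (b + α • c) = mInv R a b + ((α : K) + θ * (γ : K)) ^ 2 := by
  have hac : bet R a c = α := by rw [bet_symm R]; exact hca
  have hbc : bet R b c = γ := by rw [bet_symm R]; exact hcb
  unfold mInv
  simp only [map_add, map_smul, LinearMap.add_apply, LinearMap.smul_apply, hcc, hca, hcb, hac,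
    hbc, smul_eq_mul]
  push_cast
  rw [del_val]
  ring

theorem iso_move {a b c : Fin n → F₀} {α γ : F₀} (hcc : bet R c c = 0) (hca : bet R c a = α)
    (hcb : bet R c b = γ)
    (hiso : h (emb P a + θ • emb P b) (emb P a + θ • emb P b) = 0) :
    h (emb P (a + (del R * γ) • c) + θ • emb P (b + α • c))
      (emb P (a + (del R * γ) • c) + θ • emb P (b + α • c)) = 0 := by
  have hac : bet R a c = α := by rw [bet_symm R]; exact hca
  have hbc : bet R b c = γ := by rw [bet_symm R]; exact hcb
  rw [pt_move R]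
  have e1 : h (emb P a + θ • emb P b) (emb P c) = (α : K) + θ * (γ : K) := by
    rw [h_dec_emb R, hac, hbc]
  have e2 : h (emb P c) (emb P a + θ • emb P b) = (α : K) - θ * (γ : K) := by
    rw [h_emb_dec R, hca, hcb]
  rw [h_self_add_smul D, hiso, e1, e2, h_emb_zero R hcc, map_mul, map_add, map_mul, R.fix, R.fix,
    R.ths]
  ring

theorem L_move {a b c : Fin n → F₀} {α γ : F₀}
    (hrat : ∀ s : Fin n → F₀, bet R s s = 0 → emb P s ∈ SS D M)
    (hcc : bet R c c = 0) (hca : bet R c a = α) (hcb : bet R c b = γ)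
    (hρ : (α : K) + θ * (γ : K) ≠ 0)
    (hiso : h (emb P a + θ • emb P b) (emb P a + θ • emb P b) = 0)
    (hS : emb P (a + (del R * γ) • c) + θ • emb P (b + α • c) ∈ SS D M) :
    emb P a + θ • emb P b ∈ SS D M := by
  have hac : bet R a c = α := by rw [bet_symm R]; exact hca
  have hbc : bet R b c = γ := by rw [bet_symm R]; exact hcb
  rw [pt_move R] at hS
  have e1 : h (emb P a + θ • emb P b) (emb P c) = (α : K) + θ * (γ : K) := by
    rw [h_dec_emb R, hac, hbc]
  have e : (emb P a + θ • emb P b) + (θ * ((α : K) + θ * (γ : K))) • emb P c +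
      (-(θ * ((α : K) + θ * (γ : K)))) • emb P c = emb P a + θ • emb P b := by
    module
  rw [← e]
  apply SS_line D M (hrat c hcc) hS
  · rw [h_add_left, h_smul_left, e1, h_emb_zero R hcc, mul_zero, add_zero]
    exact hρ
  · rw [e]; exact hiso

theorem L1 [Finite K] (hn : 9 ≤ n)
    (hrat : ∀ s : Fin n → F₀, bet R s s = 0 → emb P s ∈ SS D M) {a b : Fin n → F₀}
    (hiso : h (emb P a + θ • emb P b) (emb P a + θ • emb P b) = 0) (hm : mInv R a b = 0) :
    emb P a + θ • emb P b ∈ SS D M := by
  by_cases hi : Indep F₀ a b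
  · obtain ⟨hab, hbb⟩ := scal_zero R hm
    have haa : bet R a a = 0 := by
      rw [h_pt R, hbb] at hiso
      apply Subtype.ext
      simp only [ZeroMemClass.coe_zero, mul_zero, sub_zero, bet_symm R b a, sub_self, add_zero]
        at hiso
      exact hiso
    exact L_ts R hn hrat hi haa hbb hab
  · exact L_dep R hrat hi hiso

theorem L2 [Finite K] (hn : 9 ≤ n)
    (hrat : ∀ s : Fin n → F₀, bet R s s = 0 → emb P s ∈ SS D M) {a b : Fin n → F₀}
    (hiso : h (emb P a + θ • emb P b) (emb P a + θ • emb P b) = 0) (ρ : K)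
    (hm : mInv R a b = -ρ ^ 2) : emb P a + θ • emb P b ∈ SS D M := by
  have hO := orth_bet R
  have hfr := finrank_E F₀ n
  by_cases hi : Indep F₀ a b
  · by_cases hρ : ρ = 0
    · exact L1 R hn hrat hiso (by rw [hm, hρ]; ring)
    · obtain ⟨α, γ, hαγ⟩ := exists_scal R ρ
      obtain ⟨c, hcc, hca, hcb⟩ := hO.exists_sing_dual2 (by rw [hfr]; exact hn) hi α γ
      apply L_move R hrat hcc hca hcb (by rw [← hαγ]; exact hρ) hiso
      apply L1 R hn hrat (iso_move R hcc hca hcb hiso)
      rw [mInv_move R hcc hca hcb, hm, ← hαγ]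
      ring
  · exact L_dep R hrat hi hiso

theorem L3 [Finite K] (hn : 9 ≤ n) (hsq : ∃ i : K, i * i = -1)
    (hrat : ∀ s : Fin n → F₀, bet R s s = 0 → emb P s ∈ SS D M) {a b : Fin n → F₀}
    (hiso : h (emb P a + θ • emb P b) (emb P a + θ • emb P b) = 0) :
    emb P a + θ • emb P b ∈ SS D M := by
  have hO := orth_bet R
  have hfr := finrank_E F₀ n
  obtain ⟨i, hii⟩ := hsq
  by_cases hi : Indep F₀ a b
  · by_cases h1 : mInv R a b = 1
    · exact L2 R hn hrat hiso i (by rw [h1]; linear_combination hii)
    · have two0 := R.two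
      have hρ : (mInv R a b - 1) / 2 ≠ 0 := by
        intro h0
        rw [div_eq_zero_iff] at h0
        rcases h0 with h0 | h0
        · exact h1 (sub_eq_zero.mp h0)
        · exact two0 h0
      obtain ⟨α, γ, hαγ⟩ := exists_scal R ((mInv R a b - 1) / 2)
      obtain ⟨c, hcc, hca, hcb⟩ := hO.exists_sing_dual2 (by rw [hfr]; exact hn) hi α γ
      apply L_move R hrat hcc hca hcb (by rw [← hαγ]; exact hρ) hiso
      apply L2 R hn hrat (iso_move R hcc hca hcb hiso) (i * ((mInv R a b + 1) / 2))
      rw [mInv_move R hcc hca hcb, ← hαγ]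
      field_simp
      linear_combination ((mInv R a b + 1) ^ 2) * hii
  · exact L_dep R hrat hi hiso

end closure

end Cfsg.Agent.Helper28.OSub
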