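import Mathlib
import Cfsg.Prelude.Def_GeometricClasses
import Cfsg.Agent.Helper28.OSub6

set_option autoImplicit false

/-! Maximality of the orthogonal subfield group `O_n(q) ∘ Z` in `SU_n(q)`, `q` odd. -/

namespace Cfsg.Agent.Helper28.OSub

open Matrix Module Cfsg.Agent.S2644 Cfsg.Agent.Helper2.SUGen Cfsg.Agent.Helper28.UPair
  Cfsg.Agent.Helper28.USub

variable {K : Type*} [Field K] {q n : ℕ}

local notation "h" => Cfsg.hermForm n K q
local notation "T" => Cfsg.unitaryTransvection n q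
local notation "GLn" => Matrix.GeneralLinearGroup (Fin n) K

variable {D : Frob K q} {F₀ : Subfield K} {P : Matrix.GeneralLinearGroup (Fin n) K} {θ : K}

theorem subfield_properO [Finite K] (R : RO D F₀ P θ) (hn : 7 ≤ n) :
    HH n q F₀ P ≠ Cfsg.GU n K q ⊓ Cfsg.Geo.specialLinear (Fin n) K := by
  classical
  intro heq
  have hO := orth_bet R
  have hfr := finrank_E F₀ n
  obtain ⟨a, f, haa, hff, haf, -, -⟩ := hO.exists_hyp_perp_list [] (by
    rw [hfr]; simp only [List.length_nil]; omega)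
  obtain ⟨b, f', hbb, -, hbf', hb, -⟩ := hO.exists_hyp_perp_list [a, f] (by
    rw [hfr]; simp only [List.length_cons, List.length_nil]; omega)
  have hba : bet R b a = 0 := hb a (by simp)
  have hbf : bet R b f = 0 := hb f (by simp)
  have hab : bet R a b = 0 := by rw [bet_symm R]; exact hba
  have hfa : bet R f a = 1 := by rw [bet_symm R]; exact haf
  have hfb : bet R f b = 0 := by rw [bet_symm R]; exact hbf
  have ha0 : a ≠ 0 := by
    intro h0
    rw [h0] at haf
    simp at haf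
  have hyy : h (emb P a + θ • emb P b) (emb P a + θ • emb P b) = 0 := by
    rw [h_pt R, haa, hbb, hab, hba]; simp
  have hz : θ + D.σ θ + h (0 : Fin n → K) 0 = 0 := by rw [h_zero_left, R.ths]; ring
  set g : GLn := Cfsg.Agent.Helper28.UM.SgG D (emb P a + θ • emb P b) 0 θ hyy (h_zero_left _) hz
    with hg
  have hgG : g ∈ Cfsg.GU n K q ⊓ Cfsg.Geo.specialLinear (Fin n) K :=
    (Cfsg.Agent.Helper28.UM.mem_G_iff g).mpr
      ⟨Sg_pres D _ 0 θ hyy (h_zero_left _) hz, Sg_det D _ 0 θ hyy (h_zero_left _)⟩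
  have hgH : g ∈ Cfsg.Geo.subfieldSubgroup F₀ P := by
    rw [← heq] at hgG
    exact hgG.1
  obtain ⟨μ, -, hμ⟩ := maps_of_mem_subf g hgH
  obtain ⟨w, hw⟩ := hμ f
  have h1 : (g : Matrix (Fin n) (Fin n) K) *ᵥ emb P f =
      emb P (f + del R • b) + θ • emb P a := by
    rw [hg, Cfsg.Agent.Helper28.UM.SgG_val, Sg_zero D, T_mulVec, h_emb_dec R, hfa, hfb, emb_add,
      emb_smul, del_val]
    simp only [OneMemClass.coe_one, ZeroMemClass.coe_zero, mul_zero, sub_zero, mul_one]
    module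
  rw [h1] at hw
  apply not_indep_of_eqO R hw
  apply indep_of_dual (β := bet R) (f := a) _ haa ha0
  rw [map_add, map_smul, haf, hab]
  simp

/-- **maximality of the orthogonal subfield group** -/
theorem subfield_maximalO [Fintype K] (hK : Fintype.card K = q ^ 2) (hn : 13 ≤ n)
    (R : RO D F₀ P θ) (hsq : ∃ i : K, i * i = -1) :
    Cfsg.Geo.IsMaximalIn (Cfsg.GU n K q ⊓ Cfsg.Geo.specialLinear (Fin n) K) (HH n q F₀ P) := by
  classical
  refine ⟨lt_of_le_of_ne inf_le_right (subfield_properO R (by omega)), ?_⟩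
  intro M hHM hMS
  by_cases hMH : M ≤ HH n q F₀ P
  · left; exact le_antisymm hMH hHM
  right
  refine le_antisymm hMS ?_
  obtain ⟨g, hgM, hgH⟩ := SetLike.not_le_iff_exists.mp hMH
  have hMP : ∀ a ∈ M, Pres (q := q) (a : Matrix (Fin n) (Fin n) K) :=
    fun a ha => ((Cfsg.Agent.Helper28.UM.mem_G_iff a).mp (hMS ha)).1
  have hgS : g ∉ Cfsg.Geo.subfieldSubgroup F₀ P := fun hh => hgH ⟨hh, hMS hgM⟩
  obtain ⟨v, hv0, hvv, hvS⟩ := exists_rat_SS R hn hHM hMP hgM hgS
  have hrat := all_rat_SS R (by omega) hHM hv0 hvv hvS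
  have hall : ∀ x : Fin n → K, h x x = 0 → x ∈ SS D M := by
    intro x hx
    obtain ⟨a, b, hab⟩ := exists_decompO R x
    rw [hab] at hx ⊢
    exact L3 R (by omega) hsq hrat hx
  intro g' hg'
  obtain ⟨hgP, hgdet⟩ := (Cfsg.Agent.Helper28.UM.mem_G_iff g').mp hg'
  have hmem := SU_le_TT D hK (by omega) (by omega) hgP hgdet
  have key : ∀ A' ∈ TT D (⊤ : Submodule K (Fin n → K)), InM M A' := by
    intro A' hA'
    induction hA' using Submonoid.closure_induction with
    | mem A' hA' =>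
      obtain ⟨x, c, -, hxx, hc, rfl⟩ := hA'
      exact (hall x hxx).2 c hc
    | one => exact InM.one M
    | mul A1 A2 _ _ h1 h2 => exact h1.mul h2
  obtain ⟨g'', hg'', hgg'⟩ := key _ hmem
  have : g'' = g' := Units.ext hgg'
  rw [← this]
  exact hg''

end Cfsg.Agent.Helper28.OSub
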