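import Mathlib
import Cfsg.Prelude.Def_GeometricClasses
import Cfsg.Agent.Helper28.NondegMax7

set_option autoImplicit false
set_option linter.unusedSectionVars false

/-! The stabiliser of an orthogonal pair of non-isometric nondegenerate subspaces is maximal in `Ω`. -/

namespace Cfsg.Agent.Helper28.OPair

open Matrix Module Cfsg.Agent.Helper28.Sg Cfsg.Agent.Helper28.OM Cfsg.Agent.Helper28.Spin
  Cfsg.Agent.Helper28.OFN Cfsg.Agent.Helper28.PDN Cfsg.Agent.Helper28.NDM

variable {F : Type*} [Field F] [Fintype F] {ι : Type} [Fintype ι] [DecidableEq ι]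
  (Q : QuadraticForm F (ι → F))

theorem mt_injective (g : ↥(Cfsg.isometryGroup F ⇑Q)) :
    Function.Injective (Matrix.mulVecLin (mt Q g)) := by
  intro x y hxy
  have h2 : ∀ v : ι → F, (((g : GL ι F)⁻¹ : GL ι F) : Matrix ι ι F) *ᵥ (mt Q g *ᵥ v) = v := by
    intro v
    rw [Matrix.mulVec_mulVec, ← Units.val_mul, inv_mul_cancel, Units.val_one, Matrix.one_mulVec]
  rw [← h2 x, ← h2 y]
  congr 1

/-- an isometry mapping a subspace into another of the same dimension gives an isometry -/
theorem isometric_of_map (g : ↥(Cfsg.isometryGroup F ⇑Q)) (U V : Submodule F (ι → F))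
    (hfr : finrank F U = finrank F V) (h : ∀ u ∈ U, mt Q g *ᵥ u ∈ V) :
    Cfsg.Geo.AreIsometricFor ⇑Q U V := by
  let f : U →ₗ[F] V := (Matrix.mulVecLin (mt Q g)).restrict h
  have hinj : Function.Injective f := by
    intro x y hxy
    apply Subtype.ext
    apply mt_injective Q g
    exact congrArg Subtype.val hxy
  refine ⟨LinearMap.linearEquivOfInjective f hinj hfr, fun w => ?_⟩
  rw [LinearMap.linearEquivOfInjective_apply]
  show Q (mt Q g *ᵥ (w : ι → F)) = Q w
  exact isom_apply Q g w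

theorem isometric_symm {U V : Submodule F (ι → F)} (h : Cfsg.Geo.AreIsometricFor ⇑Q U V) :
    Cfsg.Geo.AreIsometricFor ⇑Q V U := by
  obtain ⟨e, he⟩ := h
  refine ⟨e.symm, fun w => ?_⟩
  have := he (e.symm w)
  rw [LinearEquiv.apply_symm_apply] at this
  exact this.symm

theorem map_eq_of_stab (W : Submodule F (ι → F)) (g : GL ι F)
    (h : g ∈ Cfsg.Geo.subspaceStabilizer W) :
    W.map (Matrix.toLin' (g : Matrix ι ι F)) = W := by
  rw [Cfsg.Agent.Helper28.NM.mem_subspaceStabilizer_iff] at h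
  apply le_antisymm
  · rintro _ ⟨w, hw, rfl⟩
    rw [Matrix.toLin'_apply]
    exact (h w).1 hw
  · intro w hw
    refine ⟨((g⁻¹ : GL ι F) : Matrix ι ι F) *ᵥ w, ?_, ?_⟩
    · rw [SetLike.mem_coe, h, Matrix.mulVec_mulVec, ← Units.val_mul, mul_inv_cancel, Units.val_one,
        Matrix.one_mulVec]
      exact hw
    · rw [Matrix.toLin'_apply, Matrix.mulVec_mulVec, ← Units.val_mul, mul_inv_cancel,
        Units.val_one, Matrix.one_mulVec]

theorem pair_stab_maximal (hQ : (QuadraticMap.polarBilin Q).Nondegenerate)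
    (hn : 13 ≤ Fintype.card ι) (k : ℕ) (hk : 3 ≤ k) (D : Fin 2 → Submodule F (ι → F))
    (hD : Cfsg.Geo.IsNondegenerateMDecomposition (QuadraticMap.polar ⇑Q) k D)
    (hni : ¬ Cfsg.Geo.AreIsometricFor ⇑Q (D 0) (D 1)) :
    Cfsg.Geo.IsMaximalIn (Cfsg.Geo.omegaGL ⇑Q)
      (Cfsg.Geo.decompositionStabilizer D ⊓ Cfsg.Geo.omegaGL ⇑Q) := by
  have orth : ∀ w ∈ D 0, ∀ a ∈ D 1, B Q w a = 0 := hD.orthogonal 0 1 (by decide)
  have ndW : NDon Q (D 0) := NDon.of_geo Q (hD.nondegenerate 0)
  have ndA : NDon Q (D 1) := NDon.of_geo Q (hD.nondegenerate 1)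
  have hfr0 : finrank F (D 0) = k := hD.decomp.finrank_eq 0
  have hfr1 : finrank F (D 1) = k := hD.decomp.finrank_eq 1
  have dec : ∀ x : ι → F, ∃ w ∈ D 0, ∃ a ∈ D 1, x = w + a := by
    intro x
    have hx : x ∈ iSup D := by rw [hD.decomp.iSup_eq_top]; trivial
    have hsup : iSup D = D 0 ⊔ D 1 := by
      apply le_antisymm
      · apply iSup_le
        intro i
        fin_cases i
        · exact le_sup_left
        · exact le_sup_right
      · exact sup_le (le_iSup D 0) (le_iSup D 1)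
    rw [hsup] at hx
    obtain ⟨w, hw, a, ha, rfl⟩ := Submodule.mem_sup.mp hx
    exact ⟨w, hw, a, ha, rfl⟩
  have hsum := finrank_add_of_dec orth dec ndW
  have hW0 : D 0 ≠ ⊥ := by
    intro h
    rw [h, finrank_bot] at hfr0
    omega
  have hW1 : D 0 ≠ ⊤ := by
    intro h
    rw [h, finrank_top, Module.finrank_pi, hfr1] at hsum
    rw [h, finrank_top, Module.finrank_pi] at hfr0
    omega
  -- the complement in the form used by the maximality theorem is `D 1`
  have hAeq : ∀ A : Submodule F (ι → F),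
      (∀ x, x ∈ A ↔ ∀ w ∈ D 0, QuadraticMap.polar ⇑Q w x = 0) →
      finrank F (D 0) + finrank F A = Fintype.card ι → A = D 1 := by
    intro A hA hsumA
    symm
    apply Submodule.eq_of_le_of_finrank_eq
    · intro a ha
      rw [hA]
      intro w hw
      exact orth w hw a ha
    · omega
  have key := stab_maximal_fun Q hQ hn (D 0) hW0 hW1 (hD.nondegenerate 0)
    (by
      rintro ⟨-, h2, -⟩
      omega)
    (by
      rintro A hA hsumA - ⟨-, h2, -⟩
      rw [hAeq A hA hsumA] at h2
      omega)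
    (by
      intro A hA hsumA heq _ g hg
      rw [hAeq A hA hsumA] at hg
      exact hni (isometric_symm Q (isometric_of_map Q g (D 1) (D 0) (by omega) hg)))
  have heq : Cfsg.Geo.decompositionStabilizer D ⊓ Cfsg.Geo.omegaGL ⇑Q =
      Cfsg.Geo.subspaceStabilizer (D 0) ⊓ Cfsg.Geo.omegaGL ⇑Q := by
    apply le_antisymm
    · rintro g ⟨⟨σ, hσ⟩, hgΩ⟩
      refine ⟨?_, hgΩ⟩
      obtain ⟨g₀, hg₀Ω, rfl⟩ := (Cfsg.Agent.Helper28.NM.mem_omegaGL_iff Q _).mp hgΩ
      apply Cfsg.Agent.Helper28.NM.mem_subspaceStabilizer_of_le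
      by_cases h0 : σ 0 = 0
      · intro w hw
        have := hσ 0
        rw [h0] at this
        rw [← this]
        exact ⟨w, hw, by rw [Matrix.toLin'_apply]⟩
      · exfalso
        have h1 : σ 0 = 1 := by
          have : ∀ j : Fin 2, j ≠ 0 → j = 1 := by decide
          exact this _ h0
        apply hni
        apply isometric_of_map Q g₀ (D 0) (D 1) (by omega)
        intro w hw
        have := hσ 0
        rw [h1] at this
        rw [← this]
        exact ⟨w, hw, by rw [Matrix.toLin'_apply]⟩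
    · rintro g ⟨hgW, hgΩ⟩
      refine ⟨⟨1, ?_⟩, hgΩ⟩
      have hgA : g ∈ Cfsg.Geo.subspaceStabilizer (D 1) := by
        have := stab_inf_eq (Q := Q) orth dec ndW ndA
        have h2 : g ∈ Cfsg.Geo.subspaceStabilizer (D 0) ⊓ Cfsg.Geo.omegaGL ⇑Q := ⟨hgW, hgΩ⟩
        rw [← this] at h2
        exact h2.1
      intro i
      fin_cases i
      · exact map_eq_of_stab (D 0) g hgW
      · exact map_eq_of_stab (D 1) g hgA
  rw [heq]
  exact key

end Cfsg.Agent.Helper28.OPair
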