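import Mathlib
import Cfsg.Prelude.Def_GeometricClasses
import Cfsg.Agent.Helper28.OrthSim3

set_option autoImplicit false

/-! Maximality of the orthogonal similarity group in `SL_n(q)`, `q` odd, for `n ≥ 10`
(the bound `11 ≤ n` of `OSim.osim_maximal` lowered by one: the singular centre `p` is chosen in
the orthogonal complement of the four vectors but outside `span {du, dw, gu}` instead of via a
hyperbolic pair). -/

namespace Cfsg.Agent.Helper28.OSim

open Matrix Module Cfsg.Agent.Helper28.Sg Cfsg.Agent.Helper28.Spin Cfsg.Agent.Helper28.SLMax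
  Cfsg.Agent.Helper28.SimMax

variable {F : Type*} [Field F] {n : ℕ} {Q : QuadraticForm F (Fin n → F)}

theorem finrank_span_triple_le (a b c : Fin n → F) :
    finrank F (Submodule.span F ({a, b, c} : Set (Fin n → F))) ≤ 3 := by
  classical
  have := finrank_span_finset_le_card (R := F) ({a, b, c} : Finset (Fin n → F))
  have h3 : ({a, b, c} : Finset (Fin n → F)).card ≤ 3 := Finset.card_le_three
  rw [Finset.coe_insert, Finset.coe_insert, Finset.coe_singleton] at this
  exact le_trans this h3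

/-- a nonzero singular vector orthogonal to `S` and outside `Z` -/
theorem exists_singular_perp_not_mem [Finite F] (hQ : (QuadraticMap.polarBilin Q).Nondegenerate)
    (S Z : Submodule F (Fin n → F)) (hS : finrank F S + finrank F Z + 3 ≤ n) :
    ∃ p : Fin n → F, p ≠ 0 ∧ Q p = 0 ∧ (∀ s ∈ S, B Q s p = 0) ∧ p ∉ Z := by
  classical
  set Bf := QuadraticMap.polarBilin Q with hBf
  set P := LinearMap.BilinForm.orthogonal Bf S with hP
  have hPmem : ∀ x, x ∈ P ↔ ∀ s ∈ S, B Q s x = 0 := fun x => Iff.rfl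
  have hPdim : finrank F P = n - finrank F S := by
    rw [hP, LinearMap.BilinForm.finrank_orthogonal hQ S, Module.finrank_fin_fun]
  obtain ⟨q, hq⟩ := Submodule.exists_isCompl Z
  have hqdim : finrank F Z + finrank F q = n := by
    have := Submodule.finrank_add_eq_of_isCompl hq
    rwa [Module.finrank_fin_fun] at this
  set Y := P ⊓ q with hY
  have hYdim : 3 ≤ finrank F Y := by
    rw [hY]
    have h1 := Submodule.finrank_sup_add_finrank_inf_eq P q
    have h2 : finrank F (P ⊔ q : Submodule F (Fin n → F)) ≤ n := by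
      have := Submodule.finrank_le (P ⊔ q)
      rwa [Module.finrank_fin_fun] at this
    have h3 : finrank F S ≤ n := by
      have := Submodule.finrank_le S
      rwa [Module.finrank_fin_fun] at this
    omega
  obtain ⟨v, hv0, hQv⟩ := Cfsg.Agent.Helper13.exists_singular (Q.comp Y.subtype) hYdim
  have hvY : (v : Fin n → F) ∈ Y := v.2
  have he0 : (v : Fin n → F) ≠ 0 := fun h0 => hv0 (Subtype.ext h0)
  refine ⟨(v : Fin n → F), he0, hQv, (hPmem _).mp hvY.1, ?_⟩
  intro hvZ
  have : (v : Fin n → F) ∈ Z ⊓ q := ⟨hvZ, hvY.2⟩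
  rw [hq.inf_eq_bot] at this
  exact he0 ((Submodule.mem_bot F).mp this)

/-- a non-similarity in `M`, witnessed by a singular `u` and `z₀ ⊥ u` with `g z₀` not orthogonal to
`g u`, yields a good transvection with singular centre -/
theorem exists_good_transvection_ten [Finite F] (hQ : (QuadraticMap.polarBilin Q).Nondegenerate)
    (hn : 10 ≤ n) (M : Subgroup (Matrix.GeneralLinearGroup (Fin n) F))
    (hHM : Cfsg.Geo.quadSimilarityGroup (⇑Q) ⊓ SL n F ≤ M)
    (g : Matrix.GeneralLinearGroup (Fin n) F) (hgM : g ∈ M) (u z₀ : Fin n → F)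
    (hQu : Q u = 0) (huz : B Q u z₀ = 0)
    (hne : B Q ((g : Matrix (Fin n) (Fin n) F) *ᵥ z₀) ((g : Matrix (Fin n) (Fin n) F) *ᵥ u) ≠ 0) :
    ∃ p c₀ : Fin n → F, Q p = 0 ∧ p ≠ 0 ∧ B Q p c₀ = 0 ∧ (∀ a : F, c₀ ≠ a • p) ∧
      E p (pv Q c₀) ∈ MS M := by
  classical
  have hginv' : ∀ y, ((g⁻¹ : Matrix.GeneralLinearGroup (Fin n) F) : Matrix (Fin n) (Fin n) F) *ᵥ
      ((g : Matrix (Fin n) (Fin n) F) *ᵥ y) = y := by
    intro y
    rw [Matrix.mulVec_mulVec, ← Units.val_mul, inv_mul_cancel, Units.val_one, Matrix.one_mulVec]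
  -- (2) the second singular vector `w`
  obtain ⟨w, w', hQw, hQw', hww', hwS, hw'S⟩ := exists_hyp_perp hQ
    (Submodule.span F ({u, z₀} : Set (Fin n → F))) (by
      have := finrank_span_pair_le u z₀
      omega)
  have huw : B Q u w = 0 := hwS u (Submodule.subset_span (by simp))
  have hzw : B Q z₀ w = 0 := hwS z₀ (Submodule.subset_span (by simp))
  have huw' : B Q u w' = 0 := hw'S u (Submodule.subset_span (by simp))
  -- (3) the adjoint images
  obtain ⟨du, hdu⟩ := pv_surj hQ (pv Q u ᵥ*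
    ((g⁻¹ : Matrix.GeneralLinearGroup (Fin n) F) : Matrix (Fin n) (Fin n) F))
  obtain ⟨dw, hdw⟩ := pv_surj hQ (pv Q w ᵥ*
    ((g⁻¹ : Matrix.GeneralLinearGroup (Fin n) F) : Matrix (Fin n) (Fin n) F))
  have hdu' : ∀ x, B Q du ((g : Matrix (Fin n) (Fin n) F) *ᵥ x) = B Q u x := by
    intro x
    rw [← pv_dot, hdu, ← Matrix.dotProduct_mulVec, hginv', pv_dot]
  have hdw' : ∀ x, B Q dw ((g : Matrix (Fin n) (Fin n) F) *ᵥ x) = B Q w x := by
    intro x
    rw [← pv_dot, hdw, ← Matrix.dotProduct_mulVec, hginv', pv_dot]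
  obtain ⟨gu, hgu⟩ : ∃ gu : Fin n → F, gu = (g : Matrix (Fin n) (Fin n) F) *ᵥ u := ⟨_, rfl⟩
  obtain ⟨gw, hgw⟩ : ∃ gw : Fin n → F, gw = (g : Matrix (Fin n) (Fin n) F) *ᵥ w := ⟨_, rfl⟩
  obtain ⟨gz, hgz⟩ : ∃ gz : Fin n → F, gz = (g : Matrix (Fin n) (Fin n) F) *ᵥ z₀ := ⟨_, rfl⟩
  rw [← hgu, ← hgz] at hne
  have hdu_gu : B Q du gu = 0 := by rw [hgu, hdu']; exact B_self_of_singular Q hQu
  have hdu_gw : B Q du gw = 0 := by rw [hgw, hdu']; exact huw
  have hdw_gu : B Q dw gu = 0 := by rw [hgu, hdw', B_comm]; exact huw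
  have hdw_gw : B Q dw gw = 0 := by rw [hgw, hdw']; exact B_self_of_singular Q hQw
  have hdu_gz : B Q du gz = 0 := by rw [hgz, hdu']; exact huz
  have hdw_gz : B Q dw gz = 0 := by rw [hgz, hdw', B_comm]; exact hzw
  -- (4') the singular centre `p`, outside `span {du, dw, gu}`
  obtain ⟨p, hp0, hQp, hpS, hpZ⟩ := exists_singular_perp_not_mem hQ
    (Submodule.span F ({du, dw} : Set (Fin n → F)) ⊔ Submodule.span F ({gu, gw} : Set (Fin n → F)))
    (Submodule.span F ({du, dw, gu} : Set (Fin n → F)))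
    (by
      have h1 := finrank_span_four_le du dw gu gw
      have h2 := finrank_span_triple_le du dw gu
      omega)
  have hmem1 : ∀ v ∈ ({du, dw} : Set (Fin n → F)), v ∈
      Submodule.span F ({du, dw} : Set (Fin n → F)) ⊔ Submodule.span F ({gu, gw} : Set (Fin n → F)) :=
    fun v hv => Submodule.mem_sup_left (Submodule.subset_span hv)
  have hmem2 : ∀ v ∈ ({gu, gw} : Set (Fin n → F)), v ∈
      Submodule.span F ({du, dw} : Set (Fin n → F)) ⊔ Submodule.span F ({gu, gw} : Set (Fin n → F)) :=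
    fun v hv => Submodule.mem_sup_right (Submodule.subset_span hv)
  have hdu_p : B Q du p = 0 := hpS du (hmem1 du (by simp))
  have hdw_p : B Q dw p = 0 := hpS dw (hmem1 dw (by simp))
  have hgu_p : B Q gu p = 0 := hpS gu (hmem2 gu (by simp))
  have hgw_p : B Q gw p = 0 := hpS gw (hmem2 gw (by simp))
  -- (5') a vector `t₁ ⊥ du, dw, p` with `B(gu, t₁) ≠ 0`
  set S₃ := Submodule.span F ({du, dw} : Set (Fin n → F)) ⊔
    Submodule.span F ({p, p} : Set (Fin n → F)) with hS₃
  obtain ⟨t₁, ht₁S, hgu_t₁⟩ : ∃ t₁ : Fin n → F, (∀ s ∈ S₃, B Q s t₁ = 0) ∧ B Q gu t₁ ≠ 0 := by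
    by_contra hcon
    push Not at hcon
    have hmem : gu ∈ S₃ := by
      apply mem_of_forall_perp hQ S₃ gu
      intro x hx
      rw [B_comm]
      exact hcon x hx
    obtain ⟨s1, hs1, s2, hs2, hsum⟩ := Submodule.mem_sup.mp hmem
    obtain ⟨α, β, rfl⟩ := Submodule.mem_span_pair.mp hs1
    obtain ⟨c₁, c₂, rfl⟩ := Submodule.mem_span_pair.mp hs2
    by_cases hc : c₁ + c₂ = 0
    · -- `gu ∈ span {du, dw}` contradicts `hne`
      apply hne
      have hgu' : gu = α • du + β • dw := by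
        rw [← hsum, ← add_smul, hc, zero_smul, add_zero]
      rw [B_comm, hgu']
      show QuadraticMap.polar ⇑Q (α • du + β • dw) gz = 0
      rw [QuadraticMap.polar_add_left, QuadraticMap.polar_smul_left, QuadraticMap.polar_smul_left]
      simp only [B] at hdu_gz hdw_gz
      rw [hdu_gz, hdw_gz]; simp
    · apply hpZ
      have hp' : p = (c₁ + c₂)⁻¹ • gu - ((c₁ + c₂)⁻¹ * α) • du - ((c₁ + c₂)⁻¹ * β) • dw := by
        have h3 : gu = α • du + β • dw + (c₁ + c₂) • p := by
          rw [← hsum, add_smul]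
        rw [h3, smul_add, smul_add, smul_smul, smul_smul, smul_smul, inv_mul_cancel₀ hc, one_smul]
        abel
      rw [hp']
      refine Submodule.sub_mem _ (Submodule.sub_mem _ (Submodule.smul_mem _ _
        (Submodule.subset_span (by simp))) (Submodule.smul_mem _ _
        (Submodule.subset_span (by simp)))) (Submodule.smul_mem _ _
        (Submodule.subset_span (by simp)))
  -- (6) the singular vector `t`
  obtain ⟨e₃, f₃, hQe₃, hQf₃, hef₃, he₃S, hf₃S⟩ := exists_hyp_perp hQ S₃ (by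
    have h1 := Submodule.finrank_add_le_finrank_add_finrank
      (Submodule.span F ({du, dw} : Set (Fin n → F))) (Submodule.span F ({p, p} : Set (Fin n → F)))
    have h2 := finrank_span_pair_le du dw
    have h3 : finrank F (Submodule.span F ({p, p} : Set (Fin n → F))) ≤ 1 := by
      rw [Set.pair_eq_singleton]
      exact (finrank_span_singleton hp0).le
    rw [hS₃]
    omega)
  obtain ⟨t, hQt, htS, hgu_t⟩ := exists_singular_ne S₃ hQe₃ hQf₃ hef₃ he₃S hf₃S (pv Q gu) t₁
    ht₁S (by rw [pv_dot]; exact hgu_t₁)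
  rw [pv_dot] at hgu_t
  have hdu_t : B Q du t = 0 :=
    htS du (Submodule.mem_sup_left (Submodule.subset_span (by simp)))
  have hdw_t : B Q dw t = 0 :=
    htS dw (Submodule.mem_sup_left (Submodule.subset_span (by simp)))
  have hp_t : B Q p t = 0 :=
    htS p (Submodule.mem_sup_right (Submodule.subset_span (by simp)))
  have htp : B Q t p = 0 := by rw [B_comm]; exact hp_t
  -- (7) the matrices
  obtain ⟨r₁, hr₁M, hr₁⟩ := siegM_mem M hHM w u hQw (by rw [B_comm]; exact huw)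
  obtain ⟨r, hrM, hr⟩ := siegM_mem M hHM t p hQt htp
  obtain ⟨g₁, hg₁⟩ : ∃ g₁ : Matrix.GeneralLinearGroup (Fin n) F, g₁ = g * r₁ * g⁻¹ := ⟨_, rfl⟩
  have hg₁M : g₁ ∈ M := by rw [hg₁]; exact M.mul_mem (M.mul_mem hgM hr₁M) (M.inv_mem hgM)
  have hg₁v : ∀ x, (g₁ : Matrix (Fin n) (Fin n) F) *ᵥ x = x + B Q dw x • gu - B Q du x • gw := by
    intro x
    have hx : x = (g : Matrix (Fin n) (Fin n) F) *ᵥ
        (((g⁻¹ : Matrix.GeneralLinearGroup (Fin n) F) : Matrix (Fin n) (Fin n) F) *ᵥ x) := by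
      rw [Matrix.mulVec_mulVec, ← Units.val_mul, mul_inv_cancel, Units.val_one, Matrix.one_mulVec]
    have e1 : B Q dw x = B Q w
        (((g⁻¹ : Matrix.GeneralLinearGroup (Fin n) F) : Matrix (Fin n) (Fin n) F) *ᵥ x) := by
      conv_lhs => rw [hx]
      exact hdw' _
    have e2 : B Q du x = B Q u
        (((g⁻¹ : Matrix.GeneralLinearGroup (Fin n) F) : Matrix (Fin n) (Fin n) F) *ᵥ x) := by
      conv_lhs => rw [hx]
      exact hdu' _
    rw [hg₁, Units.val_mul, Units.val_mul, ← Matrix.mulVec_mulVec, ← Matrix.mulVec_mulVec, hr₁,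
      siegM_mulVec, hQu, zero_mul, zero_smul, sub_zero, Matrix.mulVec_sub, Matrix.mulVec_add,
      Matrix.mulVec_smul, Matrix.mulVec_smul, ← hgu, ← hgw, ← hx, e1, e2]
  have hrv : ∀ x, (r : Matrix (Fin n) (Fin n) F) *ᵥ x = x + B Q t x • p - B Q p x • t := by
    intro x
    rw [hr, siegM_mulVec, hQp, zero_mul, zero_smul, sub_zero]
  obtain ⟨φ, hφ⟩ : ∃ φ : Fin n → F, φ = B Q t gw • pv Q du - B Q t gu • pv Q dw := ⟨_, rfl⟩
  have hφv : ∀ x, φ ⬝ᵥ x = B Q t gw * B Q du x - B Q t gu * B Q dw x := by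
    intro x
    rw [hφ, sub_dotProduct, smul_dotProduct, smul_dotProduct, pv_dot, pv_dot, smul_eq_mul,
      smul_eq_mul]
  have hφp : φ ⬝ᵥ p = 0 := by rw [hφv, hdu_p, hdw_p]; ring
  have hφt : φ ⬝ᵥ t = 0 := by rw [hφv, hdu_t, hdw_t]; ring
  have hφgu : φ ⬝ᵥ gu = 0 := by rw [hφv, hdu_gu, hdw_gu]; ring
  have hφgw : φ ⬝ᵥ gw = 0 := by rw [hφv, hdu_gw, hdw_gw]; ring
  have hcomm : (g₁ : Matrix (Fin n) (Fin n) F) * (r : Matrix (Fin n) (Fin n) F) =
      E p φ * ((r : Matrix (Fin n) (Fin n) F) * (g₁ : Matrix (Fin n) (Fin n) F)) := by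
    apply Spin.matrix_ext_mulVec
    intro x
    rw [← Matrix.mulVec_mulVec, ← Matrix.mulVec_mulVec, ← Matrix.mulVec_mulVec, hrv, hg₁v, hg₁v,
      hrv, E_mulVec]
    have e1 : B Q dw (x + B Q t x • p - B Q p x • t) = B Q dw x := by
      show QuadraticMap.polar ⇑Q dw (x + B Q t x • p - B Q p x • t) = _
      rw [QuadraticMap.polar_sub_right, QuadraticMap.polar_add_right, QuadraticMap.polar_smul_right,
        QuadraticMap.polar_smul_right]
      simp only [B] at hdw_p hdw_t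
      rw [hdw_p, hdw_t]; simp
    have e2 : B Q du (x + B Q t x • p - B Q p x • t) = B Q du x := by
      show QuadraticMap.polar ⇑Q du (x + B Q t x • p - B Q p x • t) = _
      rw [QuadraticMap.polar_sub_right, QuadraticMap.polar_add_right, QuadraticMap.polar_smul_right,
        QuadraticMap.polar_smul_right]
      simp only [B] at hdu_p hdu_t
      rw [hdu_p, hdu_t]; simp
    have e3 : B Q p (x + B Q dw x • gu - B Q du x • gw) = B Q p x := by
      show QuadraticMap.polar ⇑Q p (x + B Q dw x • gu - B Q du x • gw) = _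
      rw [QuadraticMap.polar_sub_right, QuadraticMap.polar_add_right, QuadraticMap.polar_smul_right,
        QuadraticMap.polar_smul_right, QuadraticMap.polar_comm _ p gu, QuadraticMap.polar_comm _ p gw]
      simp only [B] at hgu_p hgw_p
      rw [hgu_p, hgw_p]; simp
    have e4 : B Q t (x + B Q dw x • gu - B Q du x • gw) = B Q t x - φ ⬝ᵥ x := by
      show QuadraticMap.polar ⇑Q t (x + B Q dw x • gu - B Q du x • gw) = _
      rw [QuadraticMap.polar_sub_right, QuadraticMap.polar_add_right, QuadraticMap.polar_smul_right,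
        QuadraticMap.polar_smul_right, hφv]
      simp only [B, smul_eq_mul]
      ring
    rw [e1, e2, e3, e4]
    have e5 : φ ⬝ᵥ (x + B Q dw x • gu - B Q du x • gw + (B Q t x - φ ⬝ᵥ x) • p - B Q p x • t)
        = φ ⬝ᵥ x := by
      rw [dotProduct_sub, dotProduct_add, dotProduct_sub, dotProduct_add, dotProduct_smul,
        dotProduct_smul, dotProduct_smul, dotProduct_smul, hφp, hφt, hφgu, hφgw]
      simp
    rw [e5]
    module
  have hE : E p φ ∈ MS M := by
    refine ⟨g₁ * r * (r * g₁)⁻¹, M.mul_mem (M.mul_mem hg₁M hrM)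
      (M.inv_mem (M.mul_mem hrM hg₁M)), ?_⟩
    have h1 : ((g₁ * r * (r * g₁)⁻¹ : Matrix.GeneralLinearGroup (Fin n) F) :
        Matrix (Fin n) (Fin n) F) * ((r * g₁ : Matrix.GeneralLinearGroup (Fin n) F) :
        Matrix (Fin n) (Fin n) F) = E p φ * ((r * g₁ : Matrix.GeneralLinearGroup (Fin n) F) :
        Matrix (Fin n) (Fin n) F) := by
      rw [← Units.val_mul, inv_mul_cancel_right, Units.val_mul, hcomm, Units.val_mul]
    exact (Units.mul_left_inj (r * g₁)).mp h1
  -- (8) genericity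
  obtain ⟨c₀, hc₀⟩ : ∃ c₀ : Fin n → F, c₀ = B Q t gw • du - B Q t gu • dw := ⟨_, rfl⟩
  have hpvc : pv Q c₀ = φ := by
    rw [hc₀, hφ, sub_eq_add_neg, pv_add, pv_neg, pv_smul, pv_smul, ← sub_eq_add_neg]
  have hc₀v : ∀ x, B Q c₀ x = φ ⬝ᵥ x := by
    intro x
    rw [← hpvc, pv_dot]
  refine ⟨p, c₀, hQp, hp0, ?_, ?_, by rw [hpvc]; exact hE⟩
  · rw [B_comm, hc₀v, hφp]
  · intro a ha
    have h2 : B Q c₀ ((g : Matrix (Fin n) (Fin n) F) *ᵥ w') = - B Q t gu := by
      rw [hc₀v, hφv, hdu', hdw', huw', hww']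
      ring
    by_cases ha0 : a = 0
    · rw [ha, ha0, zero_smul] at h2
      apply hgu_t
      rw [B_comm]
      have : B Q (0 : Fin n → F) ((g : Matrix (Fin n) (Fin n) F) *ᵥ w') = 0 := by simp [B]
      rw [this] at h2
      exact neg_eq_zero.mp h2.symm
    · apply hpZ
      have hp' : p = (a⁻¹ * B Q t gw) • du - (a⁻¹ * B Q t gu) • dw := by
        have h3 : a • p = B Q t gw • du - B Q t gu • dw := by rw [← ha, hc₀]
        calc p = a⁻¹ • (a • p) := by rw [smul_smul, inv_mul_cancel₀ ha0, one_smul]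
          _ = _ := by rw [h3, smul_sub, smul_smul, smul_smul]
      rw [hp']
      exact Submodule.sub_mem _ (Submodule.smul_mem _ _ (Submodule.subset_span (by simp)))
        (Submodule.smul_mem _ _ (Submodule.subset_span (by simp)))

/-- **The similarity group of a non-degenerate quadratic form is maximal in `SL_n(F)`**, `|F|` odd,
`n ≥ 10`. -/
theorem osim_maximal_ten [Fintype F] (h2 : (2 : F) ≠ 0)
    (hQ : (QuadraticMap.polarBilin Q).Nondegenerate) (hn : 10 ≤ n) :
    Cfsg.Geo.IsMaximalIn (SL n F) (Cfsg.Geo.quadSimilarityGroup (⇑Q) ⊓ SL n F) := by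
  classical
  obtain ⟨fr⟩ := Cfsg.Agent.Helper28.OM.exists_frame3 hQ (by rw [Fintype.card_fin]; omega)
  refine ⟨lt_of_le_of_ne inf_le_right ?_, ?_⟩
  · intro heq
    obtain ⟨g, hg1, hg2⟩ := exists_not_sim_orth fr
    apply hg2
    have : g ∈ Cfsg.Geo.quadSimilarityGroup (⇑Q) ⊓ SL n F := by rw [heq]; exact hg1
    exact this.1
  · intro M hPM hMS
    by_cases hMP : M ≤ Cfsg.Geo.quadSimilarityGroup (⇑Q) ⊓ SL n F
    · left; exact le_antisymm hMP hPM
    right
    refine le_antisymm hMS ?_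
    obtain ⟨g, hgM, hgP⟩ := SetLike.not_le_iff_exists.mp hMP
    have hgS : g ∉ Cfsg.Geo.quadSimilarityGroup (⇑Q) := fun h' => hgP ⟨h', hMS hgM⟩
    obtain ⟨u, z₀, hQu, huz, hne⟩ : ∃ u z₀ : Fin n → F, Q u = 0 ∧ B Q u z₀ = 0 ∧
        B Q ((g : Matrix (Fin n) (Fin n) F) *ᵥ z₀) ((g : Matrix (Fin n) (Fin n) F) *ᵥ u) ≠ 0 := by
      by_contra hcon
      push Not at hcon
      apply hgS
      apply sim_of_singular h2 hQ fr
      intro u hQu
      obtain ⟨e, he⟩ := exists_smul_of_ker (pv Q u)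
        (pv Q ((g : Matrix (Fin n) (Fin n) F) *ᵥ u) ᵥ* (g : Matrix (Fin n) (Fin n) F)) (by
          intro x hx
          rw [pv_dot] at hx
          rw [← Matrix.dotProduct_mulVec, pv_dot, B_comm]
          exact hcon u x hQu hx)
      refine ⟨e, fun x => ?_⟩
      rw [← pv_dot, Matrix.dotProduct_mulVec, he, smul_dotProduct, pv_dot, smul_eq_mul]
    obtain ⟨p, c₀, hQp, hp0, hpc, hc₀, hE⟩ :=
      exists_good_transvection_ten hQ hn M hPM g hgM u z₀ hQu huz hne
    have hcen := all_center_sing hQ (by omega) M hPM p c₀ hQp hpc hc₀ hE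
    have hall := all_of_center_sing hQ fr (by omega) M hPM p hQp hp0 hcen
    apply SL_le_of_transvections (by omega)
    intro v φ hφ
    exact Eg_mem_of_MS _ _ _ (hall v φ hφ)

/-- function-level form (the shape of the `cmax5_sl10` conjunct): `n ≥ 10`, `|F|` odd -/
theorem osim_maximal_fun_ten {F : Type*} [Field F] [Fintype F] (n : ℕ) (hn : 10 ≤ n)
    (hodd : Odd (Fintype.card F)) (Q : (Fin n → F) → F)
    (hQ : Cfsg.Geo.IsNondegenerateQuadraticForm Q) :
    Cfsg.Geo.IsMaximalIn (Cfsg.Geo.specialLinear (Fin n) F)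
      (Cfsg.Geo.quadSimilarityGroup Q ⊓ Cfsg.Geo.specialLinear (Fin n) F) := by
  classical
  have h2 : (2 : F) ≠ 0 := by
    intro h
    obtain ⟨p, hp⟩ := CharP.exists F
    have hp2 : p = 2 := by
      have : ((2 : ℕ) : F) = 0 := by exact_mod_cast h
      have hdvd := (CharP.cast_eq_zero_iff F p 2).mp this
      have hprime := CharP.char_is_prime F p
      exact (Nat.prime_dvd_prime_iff_eq hprime Nat.prime_two).mp hdvd
    subst hp2
    obtain ⟨k, hk⟩ := FiniteField.card F 2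
    have hk' := hk.2
    rw [hk'] at hodd
    have hk0 : (k : ℕ) ≠ 0 := k.ne_zero
    exact (Nat.not_odd_iff_even.mpr (Nat.even_pow.mpr ⟨even_two, hk0⟩)) hodd
  exact osim_maximal_ten (Q := Cfsg.Agent.Helper28.NM.ofFun Q hQ) h2
    (Cfsg.Agent.Helper28.NM.ofFun_nondeg Q hQ) hn

end Cfsg.Agent.Helper28.OSim

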