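import Mathlib
import Cfsg.Prelude.Def_GeometricClasses
import Cfsg.Agent.Helper28.PlusDecompNM1

set_option autoImplicit false

/-! Non-maximality in `Ω(Q)`, `q` odd, of the stabiliser of an orthogonal decomposition into planes
having orthogonal frames `(x, y)` of norms `(ε₀, ε₁)` which contain all vectors of these norms. -/

namespace Cfsg.Agent.Helper28.PDN

open Matrix Module Cfsg.Agent.Helper28.Sg Cfsg.Agent.Helper28.OM Cfsg.Agent.Helper28.Spin
  Cfsg.Agent.Helper28.OFN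

variable {F : Type*} [Field F] [Fintype F] {ι : Type} [Fintype ι] [DecidableEq ι]
  (Q : QuadraticForm F (ι → F))

/-- the reflection swapping two orthogonal vectors of the same norm -/
theorem swap_refl {ε : F} (h2ε : 2 * ε ≠ 0) (p q : ι → F) (hp : Q p = ε) (hq : Q q = ε)
    (hpq : B Q p q = 0) :
    Q (p - q) = 2 * ε ∧ Cfsg.reflectionMatrix ⇑Q (p - q) *ᵥ p = q ∧
      Cfsg.reflectionMatrix ⇑Q (p - q) *ᵥ q = p ∧
      ∀ z, B Q p z = 0 → B Q q z = 0 → Cfsg.reflectionMatrix ⇑Q (p - q) *ᵥ z = z := by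
  have hqp : B Q q p = 0 := by rw [B_comm]; exact hpq
  have hQd : Q (p - q) = 2 * ε := by
    rw [Q_sub', hp, hq, hpq]; ring
  refine ⟨hQd, ?_, ?_, ?_⟩
  · rw [refl_mulVec, hQd]
    have : QuadraticMap.polar ⇑Q (p - q) p = 2 * ε := by
      show B Q _ _ = _
      rw [B_sub_left', B_self, hp, hqp, sub_zero]
    rw [this, inv_mul_cancel₀ h2ε, one_smul, sub_sub_cancel]
  · rw [refl_mulVec, hQd]
    have : QuadraticMap.polar ⇑Q (p - q) q = -(2 * ε) := by
      show B Q _ _ = _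
      rw [B_sub_left', B_self, hq, hpq, zero_sub]
    rw [this, mul_neg, inv_mul_cancel₀ h2ε, neg_smul, one_smul, sub_neg_eq_add]
    abel
  · intro z ha hb
    rw [refl_mulVec]
    have : QuadraticMap.polar ⇑Q (p - q) z = 0 := by
      show B Q _ _ = _
      rw [B_sub_left', ha, hb, sub_zero]
    rw [this, mul_zero, zero_smul, sub_zero]

variable {t : ℕ} (D : Fin t → Submodule F (ι → F))

/-- **Non-maximality for framed planes, odd characteristic.** -/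
theorem frame2_not_maximal (hQ : (QuadraticMap.polarBilin Q).Nondegenerate)
    (h2 : (2 : F) ≠ 0) (hn : 8 ≤ Fintype.card ι) (ht : 3 ≤ t)
    (horth : ∀ i j, i ≠ j → ∀ u ∈ D i, ∀ v ∈ D j, B Q u v = 0)
    (ε₀ ε₁ : F) (hε₀ : ε₀ ≠ 0) (hε₁ : ε₁ ≠ 0)
    (x y : Fin t → (ι → F)) (hx : ∀ i, x i ∈ D i) (hy : ∀ i, y i ∈ D i)
    (hQx : ∀ i, Q (x i) = ε₀) (hQy : ∀ i, Q (y i) = ε₁) (hxy : ∀ i, B Q (x i) (y i) = 0)
    (hcls : ∀ i, ∀ v ∈ D i, (Q v = ε₀ ∨ Q v = ε₁) →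
      v = x i ∨ v = -x i ∨ v = y i ∨ v = -y i)
    (lam mu : F) (hlam : lam ≠ 0) (hlm : 1 + lam * lam + mu * mu = 0) :
    ∃ K : Subgroup (GL ι F), Cfsg.Geo.decompositionStabilizer D ⊓ Cfsg.Geo.omegaGL ⇑Q < K ∧
      K < Cfsg.Geo.omegaGL ⇑Q := by
  classical
  have h2ε₀ : (2 : F) * ε₀ ≠ 0 := mul_ne_zero h2 hε₀
  have h2ε₁ : (2 : F) * ε₁ ≠ 0 := mul_ne_zero h2 hε₁
  let N : F → Prop := fun c => c = ε₀ ∨ c = ε₁
  let P : (ι → F) → Prop := fun v => N (Q v) ∧ ∃ i, v ∈ D i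
  have hPx : ∀ l, P (x l) := fun l => ⟨Or.inl (hQx l), l, hx l⟩
  have hPy : ∀ l, P (y l) := fun l => ⟨Or.inr (hQy l), l, hy l⟩
  have hQneg : ∀ v : ι → F, Q (-v) = Q v := fun v => by
    have := Q_smul Q (-1) v; simpa using this
  have hPneg : ∀ v, P v → P (-v) := by
    rintro v ⟨h1, i, hi⟩
    exact ⟨by show N (Q (-v)); rw [hQneg]; exact h1, i, (D i).neg_mem hi⟩
  have hxx : ∀ i i', i ≠ i' → B Q (x i) (x i') = 0 :=
    fun i i' h => horth i i' h _ (hx i) _ (hx i')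
  have hxyall : ∀ i l, B Q (x i) (y l) = 0 := by
    intro i l
    by_cases h : i = l
    · subst h; exact hxy i
    · exact horth i l h _ (hx i) _ (hy l)
  -- the swap reflections preserve `P`
  have hswap : ∀ i i', i ≠ i' → ∃ hd : Q (x i - x i') ≠ 0, Q (x i - x i') = 2 * ε₀ ∧
      ((reflO Q (x i - x i') hd : ↥(Cfsg.isometryGroup F ⇑Q)) : GL ι F) ∈ stabP P := by
    intro i i' hii'
    obtain ⟨hQd, r1, r2, r3⟩ := swap_refl Q h2ε₀ (x i) (x i') (hQx i) (hQx i') (hxx i i' hii')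
    have hd : Q (x i - x i') ≠ 0 := by rw [hQd]; exact h2ε₀
    refine ⟨hd, hQd, ?_⟩
    apply stabP_of_maps
    have hRx : ∀ l, P (Cfsg.reflectionMatrix ⇑Q (x i - x i') *ᵥ x l) := by
      intro l
      by_cases h1 : l = i
      · rw [h1, r1]; exact hPx i'
      · by_cases h2' : l = i'
        · rw [h2', r2]; exact hPx i
        · rw [r3 _ (hxx i l (Ne.symm h1)) (hxx i' l (Ne.symm h2'))]; exact hPx l
    have hRy : ∀ l, Cfsg.reflectionMatrix ⇑Q (x i - x i') *ᵥ y l = y l :=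
      fun l => r3 _ (hxyall i l) (hxyall i' l)
    intro v hv
    rw [reflO_val]
    obtain ⟨hNv, l, hl⟩ := hv
    rcases hcls l v hl hNv with h | h | h | h
    · rw [h]; exact hRx l
    · rw [h, Matrix.mulVec_neg]; exact hPneg _ (hRx l)
    · rw [h, hRy]; exact hPy l
    · rw [h, Matrix.mulVec_neg, hRy]; exact hPneg _ (hPy l)
  -- indices
  set i0 : Fin t := ⟨0, by omega⟩ with hi0
  set i1 : Fin t := ⟨1, by omega⟩ with hi1
  set i2 : Fin t := ⟨2, by omega⟩ with hi2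
  have h01 : i0 ≠ i1 := by
    intro h; rw [hi0, hi1, Fin.mk.injEq] at h; omega
  have h02 : i0 ≠ i2 := by
    intro h; rw [hi0, hi2, Fin.mk.injEq] at h; omega
  have h12 : i1 ≠ i2 := by
    intro h; rw [hi1, hi2, Fin.mk.injEq] at h; omega
  obtain ⟨hd₁, hQd₁, hr₁⟩ := hswap i0 i1 h01
  obtain ⟨hd₂, hQd₂, hr₂⟩ := hswap i0 i2 h02
  obtain ⟨-, r1a, r1b, r1fix⟩ := swap_refl Q h2ε₀ (x i0) (x i1) (hQx i0) (hQx i1) (hxx i0 i1 h01)
  obtain ⟨-, r2a, r2b, r2fix⟩ := swap_refl Q h2ε₀ (x i0) (x i2) (hQx i0) (hQx i2) (hxx i0 i2 h02)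
  -- the Siegel element
  obtain ⟨u, hu⟩ : ∃ u : ι → F, u = x i0 + lam • x i1 + mu • x i2 := ⟨_, rfl⟩
  have hQu : Q u = 0 := by
    rw [hu, Q_add, Q_add, Q_smul, Q_smul, B_add_left', B_smul_right', B_smul_right',
      B_smul_left', B_smul_right', hQx, hQx, hQx, hxx i0 i1 h01, hxx i0 i2 h02, hxx i1 i2 h12]
    linear_combination ε₀ * hlm
  have huy : B Q u (y i0) = 0 := by
    rw [hu, B_add_left', B_add_left', B_smul_left', B_smul_left', hxyall, hxyall, hxyall]; ring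
  have hux0 : B Q u (x i0) = 2 * ε₀ := by
    rw [hu, B_add_left', B_add_left', B_smul_left', B_smul_left', B_self, hQx,
      hxx i1 i0 h01.symm, hxx i2 i0 h02.symm]; ring
  have hux1 : B Q u (x i1) = lam * (2 * ε₀) := by
    rw [hu, B_add_left', B_add_left', B_smul_left', B_smul_left', B_self, hQx,
      hxx i0 i1 h01, hxx i2 i1 h12.symm]; ring
  refine not_maximal_of Q D P (stab_le_stabP Q D N)
    ((reflO Q _ hd₁ * reflO Q _ hd₂ : ↥(Cfsg.isometryGroup F ⇑Q)) : GL ι F)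
    (refl_mul_mem Q hQ hn _ _ hd₁ hd₂ (by rw [hQd₁, hQd₂]))
    ((stabP P).mul_mem hr₁ hr₂) ?_
    ((siegO Q u (y i0) hQu huy : ↥(Cfsg.isometryGroup F ⇑Q)) : GL ι F)
    (sieg_mem Q hQ hn _ _ hQu huy) ?_
  · have hmat : ∀ z : ι → F, (((reflO Q _ hd₁ * reflO Q _ hd₂ :
        ↥(Cfsg.isometryGroup F ⇑Q)) : GL ι F) : Matrix ι ι F) *ᵥ z =
        Cfsg.reflectionMatrix ⇑Q (x i0 - x i1) *ᵥ
          (Cfsg.reflectionMatrix ⇑Q (x i0 - x i2) *ᵥ z) := by
      intro z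
      rw [Matrix.mulVec_mulVec]
      rfl
    refine not_mem_stab Q D horth _ h02.symm (x i0) (y i0) (x i2) (y i0) (hx i0) (hy i0) (hx i2)
      (hy i0) ?_ ?_
    · rw [hmat, r2a, r1fix _ (hxx i0 i2 h02) (hxx i1 i2 h12), B_self, hQx]
      exact h2ε₀
    · rw [hmat, r2fix _ (hxyall i0 i0) (hxyall i2 i0), r1fix _ (hxyall i0 i0) (hxyall i1 i0),
        B_self, hQy]
      exact h2ε₁
  · intro hmem
    have hP := ((mem_stabP P _).mp hmem (x i0)).mpr (hPx i0)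
    obtain ⟨-, j, hj⟩ := hP
    rw [show (((siegO Q u (y i0) hQu huy : ↥(Cfsg.isometryGroup F ⇑Q)) : GL ι F) : Matrix ι ι F) =
      mt Q (siegO Q u (y i0) hQu huy) from rfl, siegO_mulVec, hux0, hQy] at hj
    have hyx0 : B Q (y i0) (x i0) = 0 := by rw [B_comm]; exact hxyall i0 i0
    rw [hyx0] at hj
    refine not_block Q D horth h01 _ (y i0) (x i1) (hy i0) (hx i1) ?_ ?_ j hj
    · rw [B_sub_left', B_sub_left', B_add_left', B_smul_left', B_smul_left', B_smul_left',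
        hxyall, huy, B_self, hQy]
      have : (2 * ε₀) * (2 * ε₁) ≠ 0 := mul_ne_zero h2ε₀ h2ε₁
      intro h
      apply this
      linear_combination h
    · rw [B_sub_left', B_sub_left', B_add_left', B_smul_left', B_smul_left', B_smul_left',
        hxx i0 i1 h01, hux1, B_comm, hxyall]
      have : ε₁ * (2 * ε₀) * (lam * (2 * ε₀)) ≠ 0 :=
        mul_ne_zero (mul_ne_zero hε₁ h2ε₀) (mul_ne_zero hlam h2ε₀)
      intro h
      apply this
      linear_combination -h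

end Cfsg.Agent.Helper28.PDN
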