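import Mathlib
import Cfsg.Prelude.Def_GeometricClasses
import Cfsg.Agent.Helper28.PlusDecompNM2

set_option autoImplicit false

/-! Hyperbolic planes over `F_3` and `F_5`: the frames of non-singular vectors. -/

namespace Cfsg.Agent.Helper28.PDN

open Matrix Module Cfsg.Agent.Helper28.Sg Cfsg.Agent.Helper28.OM Cfsg.Agent.Helper28.Spin
  Cfsg.Agent.Helper28.OFN

variable {F : Type*} [Field F] [Fintype F] {ι : Type} [Fintype ι] [DecidableEq ι]
  (Q : QuadraticForm F (ι → F))

variable {t : ℕ} (D : Fin t → Submodule F (ι → F))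

/-- hyperbolic bases of the blocks of a decomposition into planes with singular vectors -/
theorem exists_hyp_bases (hD : Cfsg.Geo.IsOrthogonalMDecomposition ⇑Q 2 D)
    (hsing : ∀ i, ∃ e, e ∈ D i ∧ e ≠ 0 ∧ Q e = 0) :
    ∃ e f : Fin t → (ι → F), (∀ i, e i ∈ D i) ∧ (∀ i, f i ∈ D i) ∧ (∀ i, Q (e i) = 0) ∧
      (∀ i, Q (f i) = 0) ∧ (∀ i, B Q (e i) (f i) = 1) ∧
      ∀ i, ∀ w ∈ D i, ∃ a b : F, w = a • e i + b • f i := by
  choose e he he0 hQe using hsing
  have hpart : ∀ i, ∃ f, f ∈ D i ∧ Q f = 0 ∧ B Q (e i) f = 1 :=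
    fun i => exists_partner_in Q (D i) (hD.decomp.nondegenerate i) (e i) (he i) (he0 i) (hQe i)
  choose f hf hQf hef using hpart
  exact ⟨e, f, he, hf, hQe, hQf, hef, fun i =>
    span_hyp Q (D i) (hD.decomp.decomp.finrank_eq i) (e i) (f i) (he i) (hf i) (hQe i) (hQf i)
      (hef i)⟩

theorem hyp3_not_maximal (hQ : (QuadraticMap.polarBilin Q).Nondegenerate)
    (hq : Fintype.card F = 3) (hn : 8 ≤ Fintype.card ι) (ht : 3 ≤ t)
    (hD : Cfsg.Geo.IsOrthogonalMDecomposition ⇑Q 2 D)
    (hsing : ∀ i, ∃ e, e ∈ D i ∧ e ≠ 0 ∧ Q e = 0) :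
    ∃ K : Subgroup (GL ι F), Cfsg.Geo.decompositionStabilizer D ⊓ Cfsg.Geo.omegaGL ⇑Q < K ∧
      K < Cfsg.Geo.omegaGL ⇑Q := by
  classical
  have h3 := three_eq_zero hq
  have h2 := two_ne_zero3 hq
  obtain ⟨e, f, he, hf, hQe, hQf, hef, hspan⟩ := exists_hyp_bases Q D hD hsing
  have horth : ∀ i j, i ≠ j → ∀ u ∈ D i, ∀ v ∈ D j, B Q u v = 0 :=
    fun i j hij u hu v hv => hD.decomp.orthogonal i j hij u hu v hv
  refine frame2_not_maximal Q D hQ h2 hn ht horth 1 (-1) one_ne_zero (neg_ne_zero.mpr one_ne_zero)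
    (fun i => (1 : F) • e i + (1 : F) • f i) (fun i => (1 : F) • e i + (-1 : F) • f i)
    (fun i => (D i).add_mem ((D i).smul_mem _ (he i)) ((D i).smul_mem _ (hf i)))
    (fun i => (D i).add_mem ((D i).smul_mem _ (he i)) ((D i).smul_mem _ (hf i)))
    (fun i => by rw [Q_hyp Q _ _ (hQe i) (hQf i) (hef i)]; ring)
    (fun i => by rw [Q_hyp Q _ _ (hQe i) (hQf i) (hef i)]; ring)
    (fun i => by rw [B_hyp Q _ _ (hQe i) (hQf i) (hef i)]; ring) ?_ 1 1 one_ne_zero
    (by linear_combination h3)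
  intro i v hv hQv
  obtain ⟨a, b, rfl⟩ := hspan i v hv
  rw [Q_hyp Q _ _ (hQe i) (hQf i) (hef i)] at hQv
  have ha : a ≠ 0 := by
    rintro rfl
    rw [zero_mul] at hQv
    rcases hQv with h | h
    · exact zero_ne_one h
    · exact one_ne_zero (neg_eq_zero.mp h.symm)
  have haa := mul_self_eq_one3 hq ha
  rcases hQv with h | h
  · have hb : b = a := by
      have : a * b = a * a := by rw [h, haa]
      exact mul_left_cancel₀ ha this
    subst hb
    rcases eq_one_or_neg_one3 hq ha with h1 | h1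
    · left; rw [h1]
    · right; left; rw [h1]; module
  · have hb : b = -a := by
      have : a * b = a * (-a) := by rw [h, mul_neg, haa]
      exact mul_left_cancel₀ ha this
    subst hb
    rcases eq_one_or_neg_one3 hq ha with h1 | h1
    · right; right; left; rw [h1]
    · right; right; right; rw [h1]; module

theorem five_eq_zero (hq : Fintype.card F = 5) : (5 : F) = 0 := by
  have : ((5 : ℕ) : F) = 0 := by rw [← hq]; exact Nat.cast_card_eq_zero F
  exact_mod_cast this

theorem two_ne_zero5 (hq : Fintype.card F = 5) : (2 : F) ≠ 0 := by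
  intro h
  have h5 := five_eq_zero hq
  have : (1 : F) = 0 := by linear_combination h5 - 2 * h
  exact one_ne_zero this

theorem cases5 (hq : Fintype.card F = 5) {a : F} (ha : a ≠ 0) :
    a = 1 ∨ a = -1 ∨ a = 2 ∨ a = -2 := by
  have h5 := five_eq_zero hq
  have h := FiniteField.pow_card_sub_one_eq_one a ha
  rw [hq] at h
  have : (a - 1) * ((a + 1) * ((a - 2) * (a + 2))) = 0 := by
    have h4 : a ^ 4 = 1 := h
    linear_combination h4 + (1 - a ^ 2) * h5
  rcases mul_eq_zero.mp this with h1 | h1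
  · left; exact sub_eq_zero.mp h1
  · rcases mul_eq_zero.mp h1 with h1 | h1
    · right; left; exact eq_neg_of_add_eq_zero_left h1
    · rcases mul_eq_zero.mp h1 with h1 | h1
      · right; right; left; exact sub_eq_zero.mp h1
      · right; right; right; exact eq_neg_of_add_eq_zero_left h1

theorem hyp5_not_maximal (hQ : (QuadraticMap.polarBilin Q).Nondegenerate)
    (hq : Fintype.card F = 5) (hn : 8 ≤ Fintype.card ι) (ht : 3 ≤ t)
    (hD : Cfsg.Geo.IsOrthogonalMDecomposition ⇑Q 2 D)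
    (hsing : ∀ i, ∃ e, e ∈ D i ∧ e ≠ 0 ∧ Q e = 0) :
    ∃ K : Subgroup (GL ι F), Cfsg.Geo.decompositionStabilizer D ⊓ Cfsg.Geo.omegaGL ⇑Q < K ∧
      K < Cfsg.Geo.omegaGL ⇑Q := by
  classical
  have h5 := five_eq_zero hq
  have h2 := two_ne_zero5 hq
  obtain ⟨e, f, he, hf, hQe, hQf, hef, hspan⟩ := exists_hyp_bases Q D hD hsing
  have horth : ∀ i j, i ≠ j → ∀ u ∈ D i, ∀ v ∈ D j, B Q u v = 0 :=
    fun i j hij u hu v hv => hD.decomp.orthogonal i j hij u hu v hv
  refine frame2_not_maximal Q D hQ h2 hn ht horth 1 1 one_ne_zero one_ne_zero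
    (fun i => (1 : F) • e i + (1 : F) • f i) (fun i => (2 : F) • e i + (3 : F) • f i)
    (fun i => (D i).add_mem ((D i).smul_mem _ (he i)) ((D i).smul_mem _ (hf i)))
    (fun i => (D i).add_mem ((D i).smul_mem _ (he i)) ((D i).smul_mem _ (hf i)))
    (fun i => by rw [Q_hyp Q _ _ (hQe i) (hQf i) (hef i)]; ring)
    (fun i => by rw [Q_hyp Q _ _ (hQe i) (hQf i) (hef i)]; linear_combination h5)
    (fun i => by rw [B_hyp Q _ _ (hQe i) (hQf i) (hef i)]; linear_combination h5) ?_ 2 0 h2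
    (by linear_combination h5)
  intro i v hv hQv
  obtain ⟨a, b, rfl⟩ := hspan i v hv
  rw [Q_hyp Q _ _ (hQe i) (hQf i) (hef i)] at hQv
  have hQv' : a * b = 1 := by rcases hQv with h | h <;> exact h
  have ha : a ≠ 0 := by
    rintro rfl
    rw [zero_mul] at hQv'
    exact zero_ne_one hQv'
  rcases cases5 hq ha with h1 | h1 | h1 | h1
  · left
    subst h1
    have hb : b = 1 := by linear_combination hQv'
    rw [hb]
  · right; left
    subst h1
    have hb : b = -1 := by linear_combination -hQv'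
    rw [hb]; module
  · right; right; left
    subst h1
    have hb : b = 3 := by linear_combination 3 * hQv' - b * h5
    rw [hb]
  · right; right; right
    subst h1
    have hb : b = -3 := by linear_combination -3 * hQv' - b * h5
    rw [hb]; module

end Cfsg.Agent.Helper28.PDN
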