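import Mathlib
import Cfsg.Prelude.Def_GeometricClasses
import Cfsg.Agent.Helper28.PlusDecompNM3

set_option autoImplicit false

/-! Hyperbolic planes over `F_2`: non-maximality of `O₂⁺(2) wr S_t` in `Ω`. -/

namespace Cfsg.Agent.Helper28.PDN

open Matrix Module Cfsg.Agent.Helper28.Sg Cfsg.Agent.Helper28.OM Cfsg.Agent.Helper28.Spin
  Cfsg.Agent.Helper28.OFN

variable {F : Type*} [Field F] [Fintype F] {ι : Type} [Fintype ι] [DecidableEq ι]
  (Q : QuadraticForm F (ι → F))

variable {t : ℕ} (D : Fin t → Submodule F (ι → F))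

theorem two_eq_zero_of_card2 (hq : Fintype.card F = 2) : (2 : F) = 0 := by
  have : ((2 : ℕ) : F) = 0 := by rw [← hq]; exact Nat.cast_card_eq_zero F
  exact_mod_cast this

theorem eq_one_of_card2 (hq : Fintype.card F = 2) {a : F} (ha : a ≠ 0) : a = 1 := by
  have h := FiniteField.pow_card_sub_one_eq_one a ha
  rw [hq] at h
  simpa using h

/-- Gram values between two families of block vectors -/
theorem cross (horth : ∀ i j, i ≠ j → ∀ u ∈ D i, ∀ v ∈ D j, B Q u v = 0)
    (p q : Fin t → (ι → F)) (hp : ∀ i, p i ∈ D i) (hq : ∀ i, q i ∈ D i) (c : F)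
    (hpq : ∀ i, B Q (p i) (q i) = c) (i l : Fin t) :
    B Q (p i) (q l) = if i = l then c else 0 := by
  by_cases h : i = l
  · subst h; rw [if_pos rfl]; exact hpq i
  · rw [if_neg h]; exact horth i l h _ (hp i) _ (hq l)

section hyp

variable (horth : ∀ i j, i ≠ j → ∀ u ∈ D i, ∀ v ∈ D j, B Q u v = 0)
  (e f : Fin t → (ι → F)) (he : ∀ i, e i ∈ D i) (hf : ∀ i, f i ∈ D i)
  (hQe : ∀ i, Q (e i) = 0) (hQf : ∀ i, Q (f i) = 0) (hef : ∀ i, B Q (e i) (f i) = 1)

include horth he hf hQe hQf hef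

theorem gram_ee (i l : Fin t) : B Q (e i) (e l) = 0 := by
  rw [cross Q D horth e e he he 0 (fun i => by rw [B_self, hQe, mul_zero])]; simp

theorem gram_ff (i l : Fin t) : B Q (f i) (f l) = 0 := by
  rw [cross Q D horth f f hf hf 0 (fun i => by rw [B_self, hQf, mul_zero])]; simp

theorem gram_ef (i l : Fin t) : B Q (e i) (f l) = if i = l then 1 else 0 :=
  cross Q D horth e f he hf 1 hef i l

theorem gram_fe (i l : Fin t) : B Q (f i) (e l) = if i = l then 1 else 0 :=
  cross Q D horth f e hf he 1 (fun i => by rw [B_comm]; exact hef i) i l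

/-- a Siegel element mixing two blocks moves the norm-one vector `e + f` out of the blocks -/
theorem T2_not_mem (N : F → Prop) (hN1 : N 1) {i0 i1 : Fin t} (h01 : i0 ≠ i1)
    (h : B Q (e i1) (e i0) = 0) :
    ((siegO Q (e i1) (e i0) (hQe i1) h : ↥(Cfsg.isometryGroup F ⇑Q)) : GL ι F) ∉
      stabP (fun v => N (Q v) ∧ ∃ i, v ∈ D i) := by
  intro hmem
  have hee := gram_ee Q D horth e f he hf hQe hQf hef
  have hff := gram_ff Q D horth e f he hf hQe hQf hef
  have hef' := gram_ef Q D horth e f he hf hQe hQf hef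
  have hfe' := gram_fe Q D horth e f he hf hQe hQf hef
  have hPy : (fun v => N (Q v) ∧ ∃ i, v ∈ D i) (e i0 + f i0) := by
    refine ⟨?_, i0, (D i0).add_mem (he i0) (hf i0)⟩
    rw [Q_add, hQe, hQf, hef]; simpa using hN1
  obtain ⟨-, j, hj⟩ := ((mem_stabP _ _).mp hmem _).mpr hPy
  rw [show (((siegO Q (e i1) (e i0) (hQe i1) h : ↥(Cfsg.isometryGroup F ⇑Q)) : GL ι F) :
    Matrix ι ι F) = mt Q (siegO Q (e i1) (e i0) (hQe i1) h) from rfl, siegO_mulVec] at hj
  refine not_block Q D horth h01 _ (e i0) (f i1) (he i0) (hf i1) ?_ ?_ j hj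
  · simp [B_add_left', B_add_right', B_sub_left', B_smul_left', hee, hff, hef', hfe', h01,
      h01.symm, hQe]
  · simp [B_add_left', B_add_right', B_sub_left', B_smul_left', hee, hff, hef', hfe', h01,
      h01.symm, hQe]

theorem Q_a (i : Fin t) : Q (e i + f i) = 1 := by
  rw [Q_add, hQe, hQf, hef]; ring

theorem gram_aa (h2 : (2 : F) = 0) (i l : Fin t) : B Q (e i + f i) (e l + f l) = 0 := by
  have hee := gram_ee Q D horth e f he hf hQe hQf hef
  have hff := gram_ff Q D horth e f he hf hQe hQf hef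
  have hef' := gram_ef Q D horth e f he hf hQe hQf hef
  have hfe' := gram_fe Q D horth e f he hf hQe hQf hef
  rw [B_add_left', B_add_right', B_add_right', hee, hff, hef', hfe']
  by_cases h : i = l
  · rw [if_pos h]; linear_combination h2
  · rw [if_neg h]; ring

/-- the vectors defining the first Siegel element (characteristic two) -/
theorem T1_data (h2 : (2 : F) = 0) {i0 i1 i2 : Fin t} :
    Q ((e i0 + f i0) + (e i1 + f i1)) = 0 ∧
      B Q ((e i0 + f i0) + (e i1 + f i1)) (e i2 + f i2) = 0 := by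
  have haa := gram_aa Q D horth e f he hf hQe hQf hef h2
  have hQa := Q_a Q D horth e f he hf hQe hQf hef
  constructor
  · rw [Q_add, hQa, hQa, haa]; linear_combination h2
  · rw [B_add_left', haa, haa]; ring

/-- the first Siegel element does not stabilise the decomposition -/
theorem T1_not_stab (h2 : (2 : F) = 0) {i0 i1 i2 : Fin t} (h01 : i0 ≠ i1) (h02 : i0 ≠ i2)
    (h12 : i1 ≠ i2) (hu : Q ((e i0 + f i0) + (e i1 + f i1)) = 0)
    (huw : B Q ((e i0 + f i0) + (e i1 + f i1)) (e i2 + f i2) = 0) :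
    ((siegO Q _ _ hu huw : ↥(Cfsg.isometryGroup F ⇑Q)) : GL ι F) ∉
      Cfsg.Geo.decompositionStabilizer D := by
  have hee := gram_ee Q D horth e f he hf hQe hQf hef
  have hff := gram_ff Q D horth e f he hf hQe hQf hef
  have hef' := gram_ef Q D horth e f he hf hQe hQf hef
  have hfe' := gram_fe Q D horth e f he hf hQe hQf hef
  have hQa := Q_a Q D horth e f he hf hQe hQf hef
  refine not_mem_stab Q D horth _ h12 (f i0) (f i0) (e i1) (e i2) (hf i0) (hf i0) (he i1) (he i2)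
    ?_ ?_
  · rw [show (((siegO Q _ _ hu huw : ↥(Cfsg.isometryGroup F ⇑Q)) : GL ι F) :
      Matrix ι ι F) = mt Q (siegO Q _ _ hu huw) from rfl, siegO_mulVec]
    simp [B_add_left', B_add_right', B_sub_left', B_smul_left', hee, hff, hef', hfe', h01,
      h01.symm, h02, h02.symm, h12, h12.symm, hQa]
  · rw [show (((siegO Q _ _ hu huw : ↥(Cfsg.isometryGroup F ⇑Q)) : GL ι F) :
      Matrix ι ι F) = mt Q (siegO Q _ _ hu huw) from rfl, siegO_mulVec]
    simp [B_add_left', B_add_right', B_sub_left', B_smul_left', hee, hff, hef', hfe', h01,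
      h01.symm, h02, h02.symm, h12, h12.symm, hQa]

end hyp

/-- **`O₂⁺(2) wr S_t` is not maximal in `Ω`.** -/
theorem q2k2_not_maximal (hQ : (QuadraticMap.polarBilin Q).Nondegenerate)
    (hq : Fintype.card F = 2) (hn : 8 ≤ Fintype.card ι) (ht : 3 ≤ t)
    (hD : Cfsg.Geo.IsOrthogonalMDecomposition ⇑Q 2 D)
    (hsing : ∀ i, ∃ e, e ∈ D i ∧ e ≠ 0 ∧ Q e = 0) :
    ∃ K : Subgroup (GL ι F), Cfsg.Geo.decompositionStabilizer D ⊓ Cfsg.Geo.omegaGL ⇑Q < K ∧
      K < Cfsg.Geo.omegaGL ⇑Q := by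
  classical
  have h2 := two_eq_zero_of_card2 hq
  obtain ⟨e, f, he, hf, hQe, hQf, hef, hspan⟩ := exists_hyp_bases Q D hD hsing
  have horth : ∀ i j, i ≠ j → ∀ u ∈ D i, ∀ v ∈ D j, B Q u v = 0 :=
    fun i j hij u hu v hv => hD.decomp.orthogonal i j hij u hu v hv
  set i0 : Fin t := ⟨0, by omega⟩ with hi0
  set i1 : Fin t := ⟨1, by omega⟩ with hi1
  set i2 : Fin t := ⟨2, by omega⟩ with hi2
  have h01 : i0 ≠ i1 := by
    intro h; rw [hi0, hi1, Fin.mk.injEq] at h; omega
  have h02 : i0 ≠ i2 := by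
    intro h; rw [hi0, hi2, Fin.mk.injEq] at h; omega
  have h12 : i1 ≠ i2 := by
    intro h; rw [hi1, hi2, Fin.mk.injEq] at h; omega
  let N : F → Prop := fun c => c = 1
  let P : (ι → F) → Prop := fun v => N (Q v) ∧ ∃ i, v ∈ D i
  have haa := gram_aa Q D horth e f he hf hQe hQf hef h2
  have hQa := Q_a Q D horth e f he hf hQe hQf hef
  obtain ⟨hu, huw⟩ := T1_data Q D horth e f he hf hQe hQf hef h2 (i0 := i0) (i1 := i1) (i2 := i2)
  have hee0 : B Q (e i1) (e i0) = 0 := gram_ee Q D horth e f he hf hQe hQf hef i1 i0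
  -- classification of the norm-one block vectors
  have hcls : ∀ v, P v → ∃ l, v = e l + f l := by
    rintro v ⟨hNv, l, hl⟩
    obtain ⟨a, b, rfl⟩ := hspan l v hl
    have hab : a * b = 1 := by
      have : Q (a • e l + b • f l) = 1 := hNv
      rwa [Q_hyp Q _ _ (hQe l) (hQf l) (hef l)] at this
    have ha : a ≠ 0 := by
      rintro rfl; rw [zero_mul] at hab; exact zero_ne_one hab
    have hb : b ≠ 0 := by
      rintro rfl; rw [mul_zero] at hab; exact zero_ne_one hab
    rw [eq_one_of_card2 hq ha, eq_one_of_card2 hq hb, one_smul, one_smul]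
    exact ⟨l, rfl⟩
  refine not_maximal_of Q D P (stab_le_stabP Q D N)
    ((siegO Q _ _ hu huw : ↥(Cfsg.isometryGroup F ⇑Q)) : GL ι F)
    (sieg_mem Q hQ hn _ _ hu huw) ?_
    (T1_not_stab Q D horth e f he hf hQe hQf hef h2 h01 h02 h12 hu huw)
    ((siegO Q (e i1) (e i0) (hQe i1) hee0 : ↥(Cfsg.isometryGroup F ⇑Q)) : GL ι F)
    (sieg_mem Q hQ hn _ _ (hQe i1) hee0)
    (T2_not_mem Q D horth e f he hf hQe hQf hef N rfl h01 hee0)
  apply stabP_of_maps
  intro v hv
  obtain ⟨l, rfl⟩ := hcls v hv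
  rw [show (((siegO Q _ _ hu huw : ↥(Cfsg.isometryGroup F ⇑Q)) : GL ι F) :
    Matrix ι ι F) = mt Q (siegO Q _ _ hu huw) from rfl, siegO_mulVec, B_add_left', haa, haa, haa]
  simpa using hv

end Cfsg.Agent.Helper28.PDN
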