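import Mathlib
import Cfsg.Prelude.Def_GeometricClasses
import Cfsg.Agent.Helper28.PlusDecompNM4

set_option autoImplicit false

/-! Hyperbolic planes over `F_4`: `O₂⁺(4) wr S_t` lies in the stabiliser of an `F_2`-form. -/

namespace Cfsg.Agent.Helper28.PDN

open Matrix Module Cfsg.Agent.Helper28.Sg Cfsg.Agent.Helper28.OM Cfsg.Agent.Helper28.Spin
  Cfsg.Agent.Helper28.OFN

variable {F : Type*} [Field F] [Fintype F] {ι : Type} [Fintype ι] [DecidableEq ι]
  (Q : QuadraticForm F (ι → F))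

variable {t : ℕ} (D : Fin t → Submodule F (ι → F))

/-- membership in the prime subfield `F_2` -/
def IsF2 (c : F) : Prop := c * c = c

theorem isF2_zero : IsF2 (0 : F) := by unfold IsF2; ring
theorem isF2_one : IsF2 (1 : F) := by unfold IsF2; ring

theorem isF2_add (h2 : (2 : F) = 0) {a b : F} (ha : IsF2 a) (hb : IsF2 b) : IsF2 (a + b) := by
  unfold IsF2 at *
  linear_combination ha + hb + a * b * h2

theorem isF2_mul {a b : F} (ha : IsF2 a) (hb : IsF2 b) : IsF2 (a * b) := by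
  unfold IsF2 at *
  linear_combination a * a * hb + b * ha

theorem isF2_sub (h2 : (2 : F) = 0) {a b : F} (ha : IsF2 a) (hb : IsF2 b) : IsF2 (a - b) := by
  unfold IsF2 at *
  linear_combination ha - hb + (b * b - a * b) * h2

/-- the vectors pairing with `P` into `F_2` -/
def dualP (P : (ι → F) → Prop) : (ι → F) → Prop := fun x => ∀ y, P y → IsF2 (B Q x y)

/-- isometries preserving `P` preserve its dual -/
theorem dual_le (P : (ι → F) → Prop) (g : GL ι F) (hgΩ : g ∈ Cfsg.Geo.omegaGL ⇑Q)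
    (hgP : g ∈ stabP P) : g ∈ stabP (dualP Q P) := by
  obtain ⟨h, -, rfl⟩ := (Cfsg.Agent.Helper28.NM.mem_omegaGL_iff Q g).mp hgΩ
  apply stabP_of_maps
  intro x hx y hy
  have e1 : mt Q h *ᵥ (mt Q h⁻¹ *ᵥ y) = y := mt_mulVec_inv Q h y
  have hy' : P (mt Q h⁻¹ *ᵥ y) := by
    have := (mem_stabP P _).mp hgP (mt Q h⁻¹ *ᵥ y)
    rw [← this]
    show P (mt Q h *ᵥ (mt Q h⁻¹ *ᵥ y))
    rw [e1]; exact hy
  show IsF2 (B Q (mt Q h *ᵥ x) y)
  rw [← e1, B_isom]
  exact hx _ hy'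

theorem two_eq_zero_of_card4 (hq : Fintype.card F = 4) : (2 : F) = 0 := by
  have h4 : ((4 : ℕ) : F) = 0 := by rw [← hq]; exact Nat.cast_card_eq_zero F
  have : (2 : F) * 2 = 0 := by push_cast at h4; linear_combination h4
  exact mul_self_eq_zero.mp this

theorem cube_eq_one_of_card4 (hq : Fintype.card F = 4) {a : F} (ha : a ≠ 0) : a * a * a = 1 := by
  have h := FiniteField.pow_card_sub_one_eq_one a ha
  rw [hq] at h
  rw [← h]; ring

theorem exists_omega (hq : Fintype.card F = 4) : ∃ ω : F, ω ≠ 0 ∧ ω ≠ 1 ∧ ω * (ω + 1) = 1 := by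
  classical
  have h2 := two_eq_zero_of_card4 hq
  have h3 : 2 < Fintype.card F := by omega
  obtain ⟨a, b, c, hab, hac, hbc⟩ := Fintype.two_lt_card_iff.mp h3
  have key : ∃ ω : F, ω ≠ 0 ∧ ω ≠ 1 := by
    by_cases ha : a ≠ 0 ∧ a ≠ 1
    · exact ⟨a, ha⟩
    · by_cases hb : b ≠ 0 ∧ b ≠ 1
      · exact ⟨b, hb⟩
      · refine ⟨c, ?_, ?_⟩
        · rintro rfl
          have ha' : a = 1 := by
            by_contra h
            exact ha ⟨hac, h⟩
          have hb' : b = 1 := by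
            by_contra h
            exact hb ⟨hbc, h⟩
          exact hab (ha'.trans hb'.symm)
        · rintro rfl
          have ha' : a = 0 := by
            by_contra h
            exact ha ⟨h, hac⟩
          have hb' : b = 0 := by
            by_contra h
            exact hb ⟨h, hbc⟩
          exact hab (ha'.trans hb'.symm)
  obtain ⟨ω, h0, h1⟩ := key
  refine ⟨ω, h0, h1, ?_⟩
  have hc := cube_eq_one_of_card4 hq h0
  have : (ω - 1) * (ω * (ω + 1) - 1) = 0 := by linear_combination hc + (1 - ω) * h2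
  rcases mul_eq_zero.mp this with h | h
  · exact absurd (sub_eq_zero.mp h) h1
  · exact sub_eq_zero.mp h

section hyp

variable (horth : ∀ i j, i ≠ j → ∀ u ∈ D i, ∀ v ∈ D j, B Q u v = 0)
  (e f : Fin t → (ι → F)) (he : ∀ i, e i ∈ D i) (hf : ∀ i, f i ∈ D i)
  (hQe : ∀ i, Q (e i) = 0) (hQf : ∀ i, Q (f i) = 0) (hef : ∀ i, B Q (e i) (f i) = 1)
  (hspan : ∀ i, ∀ w ∈ D i, ∃ a b : F, w = a • e i + b • f i)

include horth he hf hQe hQf hef hspan

/-- norm-one block vectors pair into `F_2` -/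
theorem PP_isF2 (hq : Fintype.card F = 4) (y z : ι → F)
    (hy : (fun v => (fun c : F => c = 1) (Q v) ∧ ∃ i, v ∈ D i) y)
    (hz : (fun v => (fun c : F => c = 1) (Q v) ∧ ∃ i, v ∈ D i) z) : IsF2 (B Q y z) := by
  have h2 := two_eq_zero_of_card4 hq
  obtain ⟨hQy, i, hi⟩ := hy
  obtain ⟨hQz, l, hl⟩ := hz
  by_cases hil : i = l
  · subst hil
    obtain ⟨a, b, rfl⟩ := hspan i y hi
    obtain ⟨c, d, rfl⟩ := hspan i z hl
    have hab : a * b = 1 := by
      have : Q (a • e i + b • f i) = 1 := hQy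
      rwa [Q_hyp Q _ _ (hQe i) (hQf i) (hef i)] at this
    have hcd : c * d = 1 := by
      have : Q (c • e i + d • f i) = 1 := hQz
      rwa [Q_hyp Q _ _ (hQe i) (hQf i) (hef i)] at this
    rw [B_hyp Q _ _ (hQe i) (hQf i) (hef i)]
    have hne : ∀ x y : F, x * y = 1 → x ≠ 0 := by
      rintro x y hxy rfl; rw [zero_mul] at hxy; exact zero_ne_one hxy
    have hr : a * d ≠ 0 := mul_ne_zero (hne a b hab) (hne d c (by rw [mul_comm]; exact hcd))
    have hs : b * c ≠ 0 := mul_ne_zero (hne b a (by rw [mul_comm]; exact hab)) (hne c d hcd)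
    have hr3 := cube_eq_one_of_card4 hq hr
    have hs3 := cube_eq_one_of_card4 hq hs
    have hrs : (a * d) * (b * c) = 1 := by linear_combination c * d * hab + hcd
    obtain ⟨r, hr'⟩ : ∃ r : F, r = a * d := ⟨_, rfl⟩
    obtain ⟨s, hs'⟩ : ∃ s : F, s = b * c := ⟨_, rfl⟩
    rw [← hr'] at hr3 hrs ⊢
    rw [← hs'] at hs3 hrs ⊢
    unfold IsF2
    -- r² = s, s² = r
    have e1 : r * r = s := by linear_combination s * hr3 - r * r * hrs
    have e2 : s * s = r := by linear_combination r * hs3 - s * s * hrs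
    linear_combination e1 + e2 + r * s * h2
  · rw [horth i l hil _ hi _ hl]
    exact isF2_zero

end hyp

/-- **`O₂⁺(4) wr S_t` is not maximal in `Ω`.** -/
theorem q4k2_not_maximal (hQ : (QuadraticMap.polarBilin Q).Nondegenerate)
    (hq : Fintype.card F = 4) (hn : 8 ≤ Fintype.card ι) (ht : 3 ≤ t)
    (hD : Cfsg.Geo.IsOrthogonalMDecomposition ⇑Q 2 D)
    (hsing : ∀ i, ∃ e, e ∈ D i ∧ e ≠ 0 ∧ Q e = 0) :
    ∃ K : Subgroup (GL ι F), Cfsg.Geo.decompositionStabilizer D ⊓ Cfsg.Geo.omegaGL ⇑Q < K ∧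
      K < Cfsg.Geo.omegaGL ⇑Q := by
  classical
  have h2 := two_eq_zero_of_card4 hq
  obtain ⟨e, f, he, hf, hQe, hQf, hef, hspan⟩ := exists_hyp_bases Q D hD hsing
  have horth : ∀ i j, i ≠ j → ∀ u ∈ D i, ∀ v ∈ D j, B Q u v = 0 :=
    fun i j hij u hu v hv => hD.decomp.orthogonal i j hij u hu v hv
  set i0 : Fin t := ⟨0, by omega⟩ with hi0
  set i1 : Fin t := ⟨1, by omega⟩ with hi1
  set i2 : Fin t := ⟨2, by omega⟩ with hi2
  have h01 : i0 ≠ i1 := by
    intro h; rw [hi0, hi1, Fin.mk.injEq] at h; omega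
  have h02 : i0 ≠ i2 := by
    intro h; rw [hi0, hi2, Fin.mk.injEq] at h; omega
  have h12 : i1 ≠ i2 := by
    intro h; rw [hi1, hi2, Fin.mk.injEq] at h; omega
  obtain ⟨ω, hω0, hω1, hωω⟩ := exists_omega hq
  let N : F → Prop := fun c => c = 1
  let P : (ι → F) → Prop := fun v => N (Q v) ∧ ∃ i, v ∈ D i
  have hPP : ∀ y z, P y → P z → IsF2 (B Q y z) :=
    PP_isF2 Q D horth e f he hf hQe hQf hef hspan hq
  have hQa := Q_a Q D horth e f he hf hQe hQf hef
  have hPa : ∀ i, P (e i + f i) := fun i => ⟨hQa i, i, (D i).add_mem (he i) (hf i)⟩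
  have hPb : ∀ i, P (ω • e i + (ω + 1) • f i) := fun i =>
    ⟨by show Q _ = 1; rw [Q_hyp Q _ _ (hQe i) (hQf i) (hef i)]; exact hωω, i,
      (D i).add_mem ((D i).smul_mem _ (he i)) ((D i).smul_mem _ (hf i))⟩
  obtain ⟨hu, huw⟩ := T1_data Q D horth e f he hf hQe hQf hef h2 (i0 := i0) (i1 := i1) (i2 := i2)
  have hu' : Q (ω • ((e i0 + f i0) + (e i1 + f i1))) = 0 := by rw [Q_smul, hu, mul_zero]
  have huw' : B Q (ω • ((e i0 + f i0) + (e i1 + f i1))) (e i2 + f i2) = 0 := by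
    rw [B_smul_left', huw, mul_zero]
  have hee := gram_ee Q D horth e f he hf hQe hQf hef
  have hff := gram_ff Q D horth e f he hf hQe hQf hef
  have hef' := gram_ef Q D horth e f he hf hQe hQf hef
  have hfe' := gram_fe Q D horth e f he hf hQe hQf hef
  refine not_maximal_of Q D (dualP Q P)
    (fun g hg => dual_le Q P g hg.2 (stab_le_stabP Q D N hg))
    ((siegO Q _ _ hu huw : ↥(Cfsg.isometryGroup F ⇑Q)) : GL ι F)
    (sieg_mem Q hQ hn _ _ hu huw) ?_
    (T1_not_stab Q D horth e f he hf hQe hQf hef h2 h01 h02 h12 hu huw)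
    ((siegO Q _ _ hu' huw' : ↥(Cfsg.isometryGroup F ⇑Q)) : GL ι F)
    (sieg_mem Q hQ hn _ _ hu' huw') ?_
  · apply stabP_of_maps
    intro x hx y hy
    rw [show (((siegO Q _ _ hu huw : ↥(Cfsg.isometryGroup F ⇑Q)) : GL ι F) :
      Matrix ι ι F) = mt Q (siegO Q _ _ hu huw) from rfl, siegO_mulVec]
    rw [B_sub_left', B_sub_left', B_add_left', B_smul_left', B_smul_left', B_smul_left']
    have hux : IsF2 (B Q ((e i0 + f i0) + (e i1 + f i1)) x) := by
      rw [B_comm, B_add_right']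
      exact isF2_add h2 (hx _ (hPa i0)) (hx _ (hPa i1))
    have hwx : IsF2 (B Q (e i2 + f i2) x) := by rw [B_comm]; exact hx _ (hPa i2)
    have hwy : IsF2 (B Q (e i2 + f i2) y) := hPP _ _ (hPa i2) hy
    have huy : IsF2 (B Q ((e i0 + f i0) + (e i1 + f i1)) y) := by
      rw [B_add_left']
      exact isF2_add h2 (hPP _ _ (hPa i0) hy) (hPP _ _ (hPa i1) hy)
    rw [hQa]
    exact isF2_sub h2 (isF2_sub h2 (isF2_add h2 (hx y hy) (isF2_mul hux hwy))
      (isF2_mul hwx huy)) (isF2_mul (isF2_mul isF2_one hux) huy)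
  · intro hmem
    have hb0 : dualP Q P (ω • e i0 + (ω + 1) • f i0) := fun y hy => hPP _ _ (hPb i0) hy
    have h1 := ((mem_stabP _ _).mp hmem _).mpr hb0 _ (hPb i2)
    rw [show (((siegO Q _ _ hu' huw' : ↥(Cfsg.isometryGroup F ⇑Q)) : GL ι F) :
      Matrix ι ι F) = mt Q (siegO Q _ _ hu' huw') from rfl, siegO_mulVec] at h1
    have key : B Q (ω • e i0 + (ω + 1) • f i0 +
        B Q (ω • (e i0 + f i0 + (e i1 + f i1))) (ω • e i0 + (ω + 1) • f i0) • (e i2 + f i2) -
        B Q (e i2 + f i2) (ω • e i0 + (ω + 1) • f i0) • ω • (e i0 + f i0 + (e i1 + f i1)) -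
        (Q (e i2 + f i2) * B Q (ω • (e i0 + f i0 + (e i1 + f i1)))
          (ω • e i0 + (ω + 1) • f i0)) • ω • (e i0 + f i0 + (e i1 + f i1)))
        (ω • e i2 + (ω + 1) • f i2) = ω := by
      simp [hee, hff, hef', hfe', h01, h01.symm, h02, h02.symm, h12, h12.symm, hQa]
      linear_combination (2 * ω ^ 3 + 2 * ω ^ 2) * h2
    rw [key] at h1
    unfold IsF2 at h1
    have : ω * (ω - 1) = 0 := by linear_combination h1
    rcases mul_eq_zero.mp this with h | h
    · exact hω0 h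
    · exact hω1 (sub_eq_zero.mp h)

end Cfsg.Agent.Helper28.PDN
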