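import Mathlib
import Cfsg.Prelude.Def_GeometricClasses
import Cfsg.Agent.Helper28.PlusDecompNM5

set_option autoImplicit false

/-! Plus-type four-dimensional blocks: a Witt basis. -/

namespace Cfsg.Agent.Helper28.PDN

open Matrix Module Cfsg.Agent.Helper28.Sg Cfsg.Agent.Helper28.OM Cfsg.Agent.Helper28.Spin
  Cfsg.Agent.Helper28.OFN

variable {F : Type*} [Field F] [Fintype F] {ι : Type} [Fintype ι] [DecidableEq ι]
  (Q : QuadraticForm F (ι → F))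

/-- a Witt basis of a nondegenerate plus-type subspace of dimension four -/
theorem exists_witt4 (W : Submodule F (ι → F)) (hdim : finrank F W = 4)
    (hW : Cfsg.Geo.IsNondegenerateOn (QuadraticMap.polar ⇑Q) W)
    (hplus : Cfsg.Geo.IsPlusTypeOn ⇑Q W) :
    ∃ e₁ f₁ e₂ f₂ : ι → F, e₁ ∈ W ∧ f₁ ∈ W ∧ e₂ ∈ W ∧ f₂ ∈ W ∧
      Q e₁ = 0 ∧ Q f₁ = 0 ∧ Q e₂ = 0 ∧ Q f₂ = 0 ∧ B Q e₁ f₁ = 1 ∧ B Q e₂ f₂ = 1 ∧
      B Q e₁ e₂ = 0 ∧ B Q e₁ f₂ = 0 ∧ B Q f₁ e₂ = 0 ∧ B Q f₁ f₂ = 0 ∧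
      ∀ v ∈ W, ∃ α β γ δ : F, v = α • e₁ + β • f₁ + γ • e₂ + δ • f₂ := by
  classical
  obtain ⟨U, hUW, hU0, hUdim⟩ := hplus
  have hU2 : finrank F U = 2 := by omega
  have hUB : ∀ x ∈ U, ∀ y ∈ U, B Q x y = 0 := by
    intro x hx y hy
    have h1 := Q_add Q x y
    rw [hU0 x hx, hU0 y hy, hU0 (x + y) (U.add_mem hx hy)] at h1
    linear_combination -h1
  -- e₁
  obtain ⟨⟨e₁, he₁U⟩, he₁0'⟩ := Module.finrank_pos_iff_exists_ne_zero.1 (by omega : 0 < finrank F U)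
  have he₁0 : e₁ ≠ 0 := fun h => he₁0' (Subtype.ext h)
  have he₁W : e₁ ∈ W := hUW he₁U
  have hQe₁ : Q e₁ = 0 := hU0 e₁ he₁U
  -- f₁
  obtain ⟨f₁, hf₁W, hQf₁, hef₁⟩ := exists_partner_in Q W hW e₁ he₁W he₁0 hQe₁
  -- e₂
  obtain ⟨⟨e₂, he₂U⟩, he₂0', he₂f₁'⟩ :=
    Cfsg.Agent.Helper13.exists_ne_zero_mem_ker_of_finrank_lt
      ((QuadraticMap.polarBilin Q f₁).comp U.subtype) (by rw [Module.finrank_self]; omega)
  have he₂0 : e₂ ≠ 0 := fun h => he₂0' (Subtype.ext h)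
  have he₂W : e₂ ∈ W := hUW he₂U
  have hQe₂ : Q e₂ = 0 := hU0 e₂ he₂U
  have hf₁e₂ : B Q f₁ e₂ = 0 := he₂f₁'
  have he₁e₂ : B Q e₁ e₂ = 0 := hUB e₁ he₁U e₂ he₂U
  have he₂e₁ : B Q e₂ e₁ = 0 := by rw [B_comm]; exact he₁e₂
  have he₂f₁ : B Q e₂ f₁ = 0 := by rw [B_comm]; exact hf₁e₂
  have hf₁e₁ : B Q f₁ e₁ = 1 := by rw [B_comm]; exact hef₁
  have he₁e₁ : B Q e₁ e₁ = 0 := by rw [B_self, hQe₁, mul_zero]
  have hf₁f₁ : B Q f₁ f₁ = 0 := by rw [B_self, hQf₁, mul_zero]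
  have he₂e₂ : B Q e₂ e₂ = 0 := by rw [B_self, hQe₂, mul_zero]
  -- f₂
  obtain ⟨-, y₀, hy₀W, hy₀⟩ := hW e₂ he₂W he₂0
  obtain ⟨y', hy'⟩ : ∃ y' : ι → F, y' = y₀ - B Q y₀ f₁ • e₁ - B Q y₀ e₁ • f₁ := ⟨_, rfl⟩
  have hy'W : y' ∈ W := by
    rw [hy']
    exact W.sub_mem (W.sub_mem hy₀W (W.smul_mem _ he₁W)) (W.smul_mem _ hf₁W)
  have hy'e₁ : B Q y' e₁ = 0 := by
    rw [hy', B_sub_left', B_sub_left', B_smul_left', B_smul_left', he₁e₁, hf₁e₁]; ring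
  have hy'f₁ : B Q y' f₁ = 0 := by
    rw [hy', B_sub_left', B_sub_left', B_smul_left', B_smul_left', hef₁, hf₁f₁]; ring
  have he₂y' : B Q e₂ y' ≠ 0 := by
    rw [hy', B_sub_right', B_sub_right', B_smul_right', B_smul_right', he₂e₁, he₂f₁, mul_zero,
      mul_zero, sub_zero, sub_zero]
    exact hy₀
  obtain ⟨y'', hy''⟩ : ∃ y'' : ι → F, y'' = (B Q e₂ y')⁻¹ • y' := ⟨_, rfl⟩
  have hy''W : y'' ∈ W := by rw [hy'']; exact W.smul_mem _ hy'W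
  have hy''e₁ : B Q y'' e₁ = 0 := by rw [hy'', B_smul_left', hy'e₁, mul_zero]
  have hy''f₁ : B Q y'' f₁ = 0 := by rw [hy'', B_smul_left', hy'f₁, mul_zero]
  have he₂y'' : B Q e₂ y'' = 1 := by rw [hy'', B_smul_right', inv_mul_cancel₀ he₂y']
  obtain ⟨c, hc⟩ : ∃ c : F, c = Q y'' := ⟨_, rfl⟩
  obtain ⟨f₂, hf₂⟩ : ∃ f₂ : ι → F, f₂ = y'' - c • e₂ := ⟨_, rfl⟩
  have hf₂W : f₂ ∈ W := by rw [hf₂]; exact W.sub_mem hy''W (W.smul_mem _ he₂W)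
  have hQf₂ : Q f₂ = 0 := by
    rw [hf₂, Q_sub', Q_smul, hQe₂, B_smul_right', B_comm, he₂y'', ← hc]; ring
  have he₂f₂ : B Q e₂ f₂ = 1 := by
    rw [hf₂, B_sub_right', B_smul_right', he₂e₂, he₂y'']; ring
  have he₁f₂ : B Q e₁ f₂ = 0 := by
    rw [hf₂, B_sub_right', B_smul_right', he₁e₂, B_comm, hy''e₁]; ring
  have hf₁f₂ : B Q f₁ f₂ = 0 := by
    rw [hf₂, B_sub_right', B_smul_right', hf₁e₂, B_comm, hy''f₁]; ring
  have hf₂e₁ : B Q f₂ e₁ = 0 := by rw [B_comm]; exact he₁f₂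
  have hf₂f₁ : B Q f₂ f₁ = 0 := by rw [B_comm]; exact hf₁f₂
  have hf₂e₂ : B Q f₂ e₂ = 1 := by rw [B_comm]; exact he₂f₂
  have hf₂f₂ : B Q f₂ f₂ = 0 := by rw [B_self, hQf₂, mul_zero]
  refine ⟨e₁, f₁, e₂, f₂, he₁W, hf₁W, he₂W, hf₂W, hQe₁, hQf₁, hQe₂, hQf₂, hef₁, he₂f₂, he₁e₂,
    he₁f₂, hf₁e₂, hf₁f₂, ?_⟩
  -- spanning
  have hli : LinearIndependent F ![e₁, f₁, e₂, f₂] := by
    rw [Fintype.linearIndependent_iff]
    intro g hg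
    rw [Fin.sum_univ_four] at hg
    simp only [Matrix.cons_val_zero, Matrix.cons_val_one, Matrix.cons_val_two,
      Matrix.cons_val_three, Matrix.head_cons, Matrix.tail_cons] at hg
    have k0 : B Q (g 0 • e₁ + g 1 • f₁ + g 2 • e₂ + g 3 • f₂) f₁ = 0 := by rw [hg]; simp [B]
    have k1 : B Q (g 0 • e₁ + g 1 • f₁ + g 2 • e₂ + g 3 • f₂) e₁ = 0 := by rw [hg]; simp [B]
    have k2 : B Q (g 0 • e₁ + g 1 • f₁ + g 2 • e₂ + g 3 • f₂) f₂ = 0 := by rw [hg]; simp [B]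
    have k3 : B Q (g 0 • e₁ + g 1 • f₁ + g 2 • e₂ + g 3 • f₂) e₂ = 0 := by rw [hg]; simp [B]
    rw [B_add_left', B_add_left', B_add_left', B_smul_left', B_smul_left', B_smul_left',
      B_smul_left'] at k0 k1 k2 k3
    rw [hef₁, hf₁f₁, he₂f₁, hf₂f₁] at k0
    rw [he₁e₁, hf₁e₁, he₂e₁, hf₂e₁] at k1
    rw [he₁f₂, hf₁f₂, he₂f₂, hf₂f₂] at k2
    rw [he₁e₂, hf₁e₂, he₂e₂, hf₂e₂] at k3
    intro i
    fin_cases i
    · show g 0 = 0; linear_combination k0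
    · show g 1 = 0; linear_combination k1
    · show g 2 = 0; linear_combination k2
    · show g 3 = 0; linear_combination k3
  have hspan : Submodule.span F (Set.range ![e₁, f₁, e₂, f₂]) = W := by
    apply Submodule.eq_of_le_of_finrank_eq
    · rw [Submodule.span_le]
      rintro _ ⟨i, rfl⟩
      fin_cases i
      · exact he₁W
      · exact hf₁W
      · exact he₂W
      · exact hf₂W
    · rw [finrank_span_eq_card hli, Fintype.card_fin, hdim]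
  intro v hv
  rw [← hspan, Submodule.mem_span_range_iff_exists_fun] at hv
  obtain ⟨g, hg⟩ := hv
  rw [Fin.sum_univ_four] at hg
  simp only [Matrix.cons_val_zero, Matrix.cons_val_one, Matrix.cons_val_two,
    Matrix.cons_val_three, Matrix.head_cons, Matrix.tail_cons] at hg
  exact ⟨g 0, g 1, g 2, g 3, hg.symm⟩

end Cfsg.Agent.Helper28.PDN
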