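import Mathlib
import Cfsg.Prelude.Def_GeometricClasses
import Cfsg.Agent.Helper28.PlusDecompNM6

set_option autoImplicit false

/-! Plus-type four-dimensional blocks over `F_2`: the two anisotropic planes. -/

namespace Cfsg.Agent.Helper28.PDN

open Matrix Module Cfsg.Agent.Helper28.Sg Cfsg.Agent.Helper28.OM Cfsg.Agent.Helper28.Spin
  Cfsg.Agent.Helper28.OFN

variable {F : Type*} [Field F] [Fintype F] {ι : Type} [Fintype ι] [DecidableEq ι]
  (Q : QuadraticForm F (ι → F))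

/-- the two anisotropic planes of an `O₄⁺(2)`-space, and its norm-one vectors -/
theorem exists_abcd (hq : Fintype.card F = 2) (W : Submodule F (ι → F)) (hdim : finrank F W = 4)
    (hW : Cfsg.Geo.IsNondegenerateOn (QuadraticMap.polar ⇑Q) W)
    (hplus : Cfsg.Geo.IsPlusTypeOn ⇑Q W) :
    ∃ a b c d e f : ι → F, a ∈ W ∧ b ∈ W ∧ c ∈ W ∧ d ∈ W ∧ e ∈ W ∧ f ∈ W ∧
      Q e = 0 ∧ Q f = 0 ∧ B Q e f = 1 ∧
      Q a = 1 ∧ Q b = 1 ∧ Q c = 1 ∧ Q d = 1 ∧ B Q a b = 1 ∧ B Q c d = 1 ∧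
      B Q a c = 0 ∧ B Q a d = 0 ∧ B Q b c = 0 ∧ B Q b d = 0 ∧
      ∀ v ∈ W, Q v = 1 →
        (∃ α β : F, v = α • a + β • b) ∨ (∃ γ δ : F, v = γ • c + δ • d) := by
  classical
  have h2 := two_eq_zero_of_card2 hq
  obtain ⟨e₁, f₁, e₂, f₂, he₁W, hf₁W, he₂W, hf₂W, hQe₁, hQf₁, hQe₂, hQf₂, he₁f₁, he₂f₂, he₁e₂,
    he₁f₂, hf₁e₂, hf₁f₂, hspan⟩ := exists_witt4 Q W hdim hW hplus
  have he₂e₁ : B Q e₂ e₁ = 0 := by rw [B_comm]; exact he₁e₂
  have he₂f₁ : B Q e₂ f₁ = 0 := by rw [B_comm]; exact hf₁e₂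
  have hf₁e₁ : B Q f₁ e₁ = 1 := by rw [B_comm]; exact he₁f₁
  have he₁e₁ : B Q e₁ e₁ = 0 := by rw [B_self, hQe₁, mul_zero]
  have hf₁f₁ : B Q f₁ f₁ = 0 := by rw [B_self, hQf₁, mul_zero]
  have he₂e₂ : B Q e₂ e₂ = 0 := by rw [B_self, hQe₂, mul_zero]
  have hf₂e₁ : B Q f₂ e₁ = 0 := by rw [B_comm]; exact he₁f₂
  have hf₂f₁ : B Q f₂ f₁ = 0 := by rw [B_comm]; exact hf₁f₂
  have hf₂e₂ : B Q f₂ e₂ = 1 := by rw [B_comm]; exact he₂f₂
  have hf₂f₂ : B Q f₂ f₂ = 0 := by rw [B_self, hQf₂, mul_zero]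
  have hQa : Q (e₁ + f₁) = 1 := by rw [Q_add, hQe₁, hQf₁, he₁f₁]; ring
  have hQc : Q (e₂ + f₂) = 1 := by rw [Q_add, hQe₂, hQf₂, he₂f₂]; ring
  have hQb : Q (e₁ + e₂ + f₂) = 1 := by
    rw [Q_add, Q_add, B_add_left', hQe₁, hQe₂, hQf₂, he₁e₂, he₁f₂, he₂f₂]; ring
  have hQd : Q (e₁ + f₁ + e₂) = 1 := by
    rw [Q_add, hQa, hQe₂, B_add_left', he₁e₂, hf₁e₂]; ring
  refine ⟨e₁ + f₁, e₁ + e₂ + f₂, e₂ + f₂, e₁ + f₁ + e₂, e₁, f₁, W.add_mem he₁W hf₁W,
    W.add_mem (W.add_mem he₁W he₂W) hf₂W, W.add_mem he₂W hf₂W,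
    W.add_mem (W.add_mem he₁W hf₁W) he₂W, he₁W, hf₁W, hQe₁, hQf₁, he₁f₁, hQa, hQb, hQc, hQd,
    ?_, ?_, ?_, ?_, ?_, ?_, ?_⟩
  · simp only [B_add_left', B_add_right', he₁e₁, he₁e₂, he₁f₂, hf₁e₁, hf₁e₂, hf₁f₂]; ring
  · simp only [B_add_left', B_add_right', he₂e₁, he₂f₁, he₂e₂, hf₂e₁, hf₂f₁, hf₂e₂]; ring
  · simp only [B_add_left', B_add_right', he₁e₂, he₁f₂, hf₁e₂, hf₁f₂]; ring
  · simp only [B_add_left', B_add_right', he₁e₁, he₁f₁, he₁e₂, hf₁e₁, hf₁f₁, hf₁e₂]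
    linear_combination h2
  · simp only [B_add_left', B_add_right', he₁e₂, he₁f₂, he₂e₂, he₂f₂, hf₂e₂, hf₂f₂]
    linear_combination h2
  · simp only [B_add_left', B_add_right', he₁e₁, he₁f₁, he₁e₂, he₂e₁, he₂f₁, he₂e₂, hf₂e₁, hf₂f₁,
      hf₂e₂]
    linear_combination h2
  · intro v hv hQv
    obtain ⟨α, β, γ, δ, rfl⟩ := hspan v hv
    have hQform : Q (α • e₁ + β • f₁ + γ • e₂ + δ • f₂) = α * β + γ * δ := by
      rw [add_assoc, Q_add, Q_hyp Q _ _ hQe₁ hQf₁ he₁f₁, Q_hyp Q _ _ hQe₂ hQf₂ he₂f₂]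
      simp only [B_add_left', B_add_right', B_smul_left', B_smul_right', he₁e₂, he₁f₂, hf₁e₂,
        hf₁f₂]
      ring
    rw [hQform] at hQv
    have h01 : ∀ x : F, x = 0 ∨ x = 1 := fun x => by
      by_cases h : x = 0
      · exact Or.inl h
      · exact Or.inr (eq_one_of_card2 hq h)
    have hcontra : ∀ {p : Prop}, (1 : F) = 0 → p := fun h => absurd h one_ne_zero
    rcases h01 α with rfl | rfl <;> rcases h01 β with rfl | rfl <;>
      rcases h01 γ with rfl | rfl <;> rcases h01 δ with rfl | rfl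
    · exact hcontra (by linear_combination -hQv)
    · exact hcontra (by linear_combination -hQv)
    · exact hcontra (by linear_combination -hQv)
    · right; exact ⟨1, 0, by ext k; simp⟩
    · exact hcontra (by linear_combination -hQv)
    · exact hcontra (by linear_combination -hQv)
    · exact hcontra (by linear_combination -hQv)
    · left
      refine ⟨1, 1, ?_⟩
      ext k
      simp only [Pi.add_apply, Pi.smul_apply, smul_eq_mul]
      linear_combination (-(e₁ k)) * h2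
    · exact hcontra (by linear_combination -hQv)
    · exact hcontra (by linear_combination -hQv)
    · exact hcontra (by linear_combination -hQv)
    · left; exact ⟨0, 1, by ext k; simp⟩
    · left; exact ⟨1, 0, by ext k; simp⟩
    · right
      refine ⟨1, 1, ?_⟩
      ext k
      simp only [Pi.add_apply, Pi.smul_apply, smul_eq_mul]
      linear_combination (-(e₂ k)) * h2
    · right; exact ⟨0, 1, by ext k; simp⟩
    · exact hcontra (by linear_combination h2 - hQv)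

end Cfsg.Agent.Helper28.PDN
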