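import Mathlib
import Cfsg.Prelude.Def_GeometricClasses
import Cfsg.Agent.Helper28.PlusDecompNM7

set_option autoImplicit false

/-! `O₄⁺(2) wr S_t` is not maximal in `Ω`: it stabilises the set of all anisotropic planes of
the blocks. -/

namespace Cfsg.Agent.Helper28.PDN

open Matrix Module Cfsg.Agent.Helper28.Sg Cfsg.Agent.Helper28.OM Cfsg.Agent.Helper28.Spin
  Cfsg.Agent.Helper28.OFN

variable {F : Type*} [Field F] [Fintype F] {ι : Type} [Fintype ι] [DecidableEq ι]
  (Q : QuadraticForm F (ι → F))

variable {t : ℕ} (D : Fin t → Submodule F (ι → F))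

theorem Q_pair (a b : ι → F) (hQa : Q a = 1) (hQb : Q b = 1) (hab : B Q a b = 1) (α β : F) :
    Q (α • a + β • b) = α * α + β * β + α * β := by
  rw [Q_add, Q_smul, Q_smul, hQa, hQb, B_smul_left', B_smul_right', hab]; ring

/-- **`O₄⁺(2) wr S_t` is not maximal in `Ω`.** -/
theorem q2k4_not_maximal (hQ : (QuadraticMap.polarBilin Q).Nondegenerate)
    (hq : Fintype.card F = 2) (hn : 8 ≤ Fintype.card ι) (ht : 2 ≤ t)
    (hD : Cfsg.Geo.IsOrthogonalMDecomposition ⇑Q 4 D)
    (hplus : ∀ i, Cfsg.Geo.IsPlusTypeOn ⇑Q (D i)) :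
    ∃ K : Subgroup (GL ι F), Cfsg.Geo.decompositionStabilizer D ⊓ Cfsg.Geo.omegaGL ⇑Q < K ∧
      K < Cfsg.Geo.omegaGL ⇑Q := by
  classical
  have h2 := two_eq_zero_of_card2 hq
  have hneg : ∀ x : F, -x = x := fun x => by linear_combination (-x) * h2
  have horth : ∀ i j, i ≠ j → ∀ u ∈ D i, ∀ v ∈ D j, B Q u v = 0 :=
    fun i j hij u hu v hv => hD.decomp.orthogonal i j hij u hu v hv
  have hblocks := fun i => exists_abcd Q hq (D i) (hD.decomp.decomp.finrank_eq i)
    (hD.decomp.nondegenerate i) (hplus i)
  choose a b c d e f ha hb hc hd he hf hQe hQf hef hQa hQb hQc hQd hab hcd hac had hbc hbd hcls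
    using hblocks
  set i0 : Fin t := ⟨0, by omega⟩ with hi0
  set i1 : Fin t := ⟨1, by omega⟩ with hi1
  have h01 : i0 ≠ i1 := by
    intro h; rw [hi0, hi1, Fin.mk.injEq] at h; omega
  let N : F → Prop := fun c => c = 1
  let P : (ι → F) → Prop := fun v => N (Q v) ∧ ∃ i, v ∈ D i
  -- Gram facts
  have gaa : ∀ i l, B Q (a i) (a l) = 0 := fun i l => by
    rw [cross Q D horth a a ha ha 0 (fun i => by rw [B_self, hQa]; linear_combination h2)]; simp
  have gbb : ∀ i l, B Q (b i) (b l) = 0 := fun i l => by
    rw [cross Q D horth b b hb hb 0 (fun i => by rw [B_self, hQb]; linear_combination h2)]; simp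
  have gab : ∀ i l, B Q (a i) (b l) = if i = l then 1 else 0 := cross Q D horth a b ha hb 1 hab
  have gba : ∀ i l, B Q (b i) (a l) = if i = l then 1 else 0 :=
    cross Q D horth b a hb ha 1 (fun i => by rw [B_comm]; exact hab i)
  have gac : ∀ i l, B Q (a i) (c l) = 0 := fun i l => by
    rw [cross Q D horth a c ha hc 0 hac]; simp
  have gad : ∀ i l, B Q (a i) (d l) = 0 := fun i l => by
    rw [cross Q D horth a d ha hd 0 had]; simp
  have gbc : ∀ i l, B Q (b i) (c l) = 0 := fun i l => by
    rw [cross Q D horth b c hb hc 0 hbc]; simp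
  have gbd : ∀ i l, B Q (b i) (d l) = 0 := fun i l => by
    rw [cross Q D horth b d hb hd 0 hbd]; simp
  have gcd : ∀ i l, B Q (c i) (d l) = if i = l then 1 else 0 := cross Q D horth c d hc hd 1 hcd
  -- the first Siegel element
  have hu : Q (a i0 + a i1) = 0 := by
    rw [Q_add, hQa, hQa, gaa]; linear_combination h2
  have huw : B Q (a i0 + a i1) (b i0 + b i1) = 0 := by
    simp only [B_add_left', B_add_right', gab, h01, h01.symm, ↓reduceIte]
    linear_combination h2
  have hQw : Q (b i0 + b i1) = 0 := by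
    rw [Q_add, hQb, hQb, gbb]; linear_combination h2
  have hee0 : B Q (e i1) (e i0) = 0 := horth i1 i0 h01.symm _ (he i1) _ (he i0)
  have hT : ∀ z : ι → F, mt Q (siegO Q _ _ hu huw) *ᵥ z =
      z + B Q (a i0 + a i1) z • (b i0 + b i1) - B Q (b i0 + b i1) z • (a i0 + a i1) := by
    intro z
    rw [siegO_mulVec, hQw, zero_mul, zero_smul, sub_zero]
  refine not_maximal_of Q D P (stab_le_stabP Q D N)
    ((siegO Q _ _ hu huw : ↥(Cfsg.isometryGroup F ⇑Q)) : GL ι F)
    (sieg_mem Q hQ hn _ _ hu huw) ?_ ?_
    ((siegO Q (e i1) (e i0) (hQe i1) hee0 : ↥(Cfsg.isometryGroup F ⇑Q)) : GL ι F)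
    (sieg_mem Q hQ hn _ _ (hQe i1) hee0)
    (T2_not_mem Q D horth e f he hf hQe hQf hef N rfl h01 hee0)
  · -- the Siegel element maps `P` to itself
    apply stabP_of_maps
    rintro v ⟨hNv, l, hl⟩
    have hNv' : Q v = 1 := hNv
    show P (mt Q (siegO Q _ _ hu huw) *ᵥ v)
    rw [hT]
    by_cases hl0 : l = i0
    · subst hl0
      rcases hcls _ v hl hNv' with ⟨α, β, rfl⟩ | ⟨γ, δ, rfl⟩
      · have e1 : B Q (a i0 + a i1) (α • a i0 + β • b i0) = β := by
          simp only [B_add_left', B_add_right', B_smul_right', gaa, gab, h01, h01.symm,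
            ↓reduceIte]
          ring
        have e2 : B Q (b i0 + b i1) (α • a i0 + β • b i0) = α := by
          simp only [B_add_left', B_add_right', B_smul_right', gbb, gba, h01, h01.symm,
            ↓reduceIte]
          ring
        rw [e1, e2]
        have e3 : α • a i0 + β • b i0 + β • (b i0 + b i1) - α • (a i0 + a i1) =
            α • a i1 + β • b i1 := by
          ext k
          simp only [Pi.add_apply, Pi.sub_apply, Pi.smul_apply, smul_eq_mul]
          linear_combination (β * b i0 k - α * a i1 k) * h2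
        rw [e3]
        refine ⟨?_, i1, (D i1).add_mem ((D i1).smul_mem _ (ha i1)) ((D i1).smul_mem _ (hb i1))⟩
        show Q _ = 1
        rw [Q_pair Q _ _ (hQa i1) (hQb i1) (hab i1)]
        rw [Q_pair Q _ _ (hQa i0) (hQb i0) (hab i0)] at hNv'
        exact hNv'
      · have e1 : B Q (a i0 + a i1) (γ • c i0 + δ • d i0) = 0 := by
          simp only [B_add_left', B_add_right', B_smul_right', gac, gad]; ring
        have e2 : B Q (b i0 + b i1) (γ • c i0 + δ • d i0) = 0 := by
          simp only [B_add_left', B_add_right', B_smul_right', gbc, gbd]; ring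
        rw [e1, e2, zero_smul, zero_smul, add_zero, sub_zero]
        exact ⟨hNv, i0, hl⟩
    · by_cases hl1 : l = i1
      · subst hl1
        rcases hcls _ v hl hNv' with ⟨α, β, rfl⟩ | ⟨γ, δ, rfl⟩
        · have e1 : B Q (a i0 + a i1) (α • a i1 + β • b i1) = β := by
            simp only [B_add_left', B_add_right', B_smul_right', gaa, gab, h01, h01.symm,
              ↓reduceIte]
            ring
          have e2 : B Q (b i0 + b i1) (α • a i1 + β • b i1) = α := by
            simp only [B_add_left', B_add_right', B_smul_right', gbb, gba, h01, h01.symm,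
              ↓reduceIte]
            ring
          rw [e1, e2]
          have e3 : α • a i1 + β • b i1 + β • (b i0 + b i1) - α • (a i0 + a i1) =
              α • a i0 + β • b i0 := by
            ext k
            simp only [Pi.add_apply, Pi.sub_apply, Pi.smul_apply, smul_eq_mul]
            linear_combination (β * b i1 k - α * a i0 k) * h2
          rw [e3]
          refine ⟨?_, i0, (D i0).add_mem ((D i0).smul_mem _ (ha i0)) ((D i0).smul_mem _ (hb i0))⟩
          show Q _ = 1
          rw [Q_pair Q _ _ (hQa i0) (hQb i0) (hab i0)]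
          rw [Q_pair Q _ _ (hQa i1) (hQb i1) (hab i1)] at hNv'
          exact hNv'
        · have e1 : B Q (a i0 + a i1) (γ • c i1 + δ • d i1) = 0 := by
            simp only [B_add_left', B_add_right', B_smul_right', gac, gad]; ring
          have e2 : B Q (b i0 + b i1) (γ • c i1 + δ • d i1) = 0 := by
            simp only [B_add_left', B_add_right', B_smul_right', gbc, gbd]; ring
          rw [e1, e2, zero_smul, zero_smul, add_zero, sub_zero]
          exact ⟨hNv, i1, hl⟩
      · have e1 : B Q (a i0 + a i1) v = 0 := by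
          rw [B_add_left', horth i0 l (Ne.symm hl0) _ (ha i0) _ hl,
            horth i1 l (Ne.symm hl1) _ (ha i1) _ hl]; ring
        have e2 : B Q (b i0 + b i1) v = 0 := by
          rw [B_add_left', horth i0 l (Ne.symm hl0) _ (hb i0) _ hl,
            horth i1 l (Ne.symm hl1) _ (hb i1) _ hl]; ring
        rw [e1, e2, zero_smul, zero_smul, add_zero, sub_zero]
        exact ⟨hNv, l, hl⟩
  · -- it does not stabilise the decomposition
    refine not_mem_stab Q D horth _ h01.symm (a i0) (c i0) (b i1) (d i0) (ha i0) (hc i0) (hb i1)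
      (hd i0) ?_ ?_
    · show B Q (mt Q (siegO Q _ _ hu huw) *ᵥ a i0) (b i1) ≠ 0
      rw [hT]
      simp only [B_add_left', B_add_right', B_sub_left', B_smul_left', gaa, gab, gba, gbb,
        h01, h01.symm, ↓reduceIte]
      intro h
      apply one_ne_zero (α := F)
      linear_combination -h
    · show B Q (mt Q (siegO Q _ _ hu huw) *ᵥ c i0) (d i0) ≠ 0
      rw [hT]
      have e1 : B Q (a i0 + a i1) (c i0) = 0 := by
        simp only [B_add_left', gac]; ring
      have e2 : B Q (b i0 + b i1) (c i0) = 0 := by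
        simp only [B_add_left', gbc]; ring
      rw [e1, e2, zero_smul, zero_smul, add_zero, sub_zero, gcd, if_pos rfl]
      exact one_ne_zero

end Cfsg.Agent.Helper28.PDN
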