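import Mathlib
import Cfsg.Prelude.Def_GeometricClasses
import Cfsg.Agent.Helper28.QPlus5
import Cfsg.Agent.Helper28.Dickson
import Cfsg.Agent.Helper13.OrthEmbed
import Cfsg.Agent.Helper28.OrthMax3

set_option autoImplicit false

/-! Parity of maximal totally singular subspaces for a general nondegenerate quadratic form of plus
type: elements of `Ω` preserve the two families. Obtained by transport to `quadFormPlus`. -/

namespace Cfsg.Agent.Helper28.PP

open Matrix Module Cfsg.Agent.Helper28.Sg Cfsg.Agent.Helper28.QPlus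

section plus

variable {F : Type*} [Field F] {m : ℕ}

theorem even_of_chi_eq_zero {g : OQ m F} {U : Submodule F (Vm m F)} (hU : IsMax m U)
    (h0 : chi g = 0) : Even (m - finrank F ↥(U ⊓ act g U)) := by
  have hE := isMax_E (F := F) (m := m)
  have hgU := isMax_act g hU
  have hgE := isMax_act g hE
  have h1 : finrank F ↥(act g (E m F) ⊓ act g U) = finrank F ↥(E m F ⊓ U) := by
    rw [← act_inf, finrank_act]
  have t1 := parity_aux _ U (act g U) hU hgU rfl (E m F) hE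
  have t2 := parity_aux _ (act g U) (act g (E m F)) hgU hgE rfl (E m F) hE
  rw [inf_comm (act g U) (act g (E m F)), h1] at t2
  unfold chi at h0
  rw [zmod2_even] at h0
  rw [Nat.even_iff] at t1 t2 h0 ⊢
  omega

end plus

variable {F : Type*} [Field F] [Fintype F] {ι : Type} [Fintype ι] [DecidableEq ι]
  (Q : QuadraticForm F (ι → F))

/-- the natural action of the isometry group -/
noncomputable def rho : ↥(Cfsg.isometryGroup F ⇑Q) →* Module.End F (ι → F) :=
  ((Matrix.toLinAlgEquiv' : Matrix ι ι F ≃ₐ[F] Module.End F (ι → F)) : Matrix ι ι F →* _).comp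
    ((Units.coeHom (Matrix ι ι F)).comp (Cfsg.isometryGroup F ⇑Q).subtype)

theorem rho_apply (g : ↥(Cfsg.isometryGroup F ⇑Q)) (v : ι → F) : rho Q g v = mt Q g *ᵥ v := by
  show Matrix.toLinAlgEquiv' (mt Q g) v = _
  rw [Matrix.toLinAlgEquiv'_apply]

theorem Q_rho (g : ↥(Cfsg.isometryGroup F ⇑Q)) (v : ι → F) : Q (rho Q g v) = Q v := by
  rw [rho_apply]
  exact (IsoTransport.mem_isometryGroup_iff _ g.1).mp g.2 v

/-- **Family preservation**: for `g ∈ Ω(Q)` and `U` a maximal totally singular subspace (plus type),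
the codimension of `U ∩ gU` in `U` is even. -/
theorem even_codim_of_mem_Omega (hQ : (QuadraticMap.polarBilin Q).Nondegenerate) {m : ℕ}
    (hcard : Fintype.card ι = 2 * m) (U : Submodule F (ι → F)) (hU : ∀ u ∈ U, Q u = 0)
    (hUm : finrank F U = m) (g : ↥(Cfsg.isometryGroup F ⇑Q)) (hg : g ∈ Cfsg.Omega F ⇑Q) :
    Even (m - finrank F ↥(U ⊓ U.map (Matrix.mulVecLin (mt Q g)))) := by
  classical
  have hV : finrank F (ι → F) = 2 * m := by rw [Module.finrank_fintype_fun_eq_card, hcard]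
  obtain ⟨g₀, hg₀⟩ := Cfsg.Agent.Helper13.exists_isometry_plus hV Q hQ U hU hUm
  obtain ⟨φ, hφ⟩ := Cfsg.Agent.Helper28.Dickson.exists_transport (rho Q) (⇑Q) (Q_rho Q)
    (Cfsg.quadFormPlus m F) g₀ hg₀
  have hchi : chi (φ g) = 0 := by
    have := Cfsg.Agent.Helper28.Spin.hom_eq_one_of_mem_Omega Q ((chiHom (F := F) (m := m)).comp φ) hg
    exact this
  set U' : Submodule F (Vm m F) := U.map g₀.toLinearMap with hU'
  have hU'max : IsMax m U' := by
    constructor
    · rw [hU', LinearEquiv.finrank_map_eq, hUm]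
    · rintro _ ⟨u, hu, rfl⟩
      show Cfsg.quadFormPlus m F (g₀ u) = 0
      rw [hg₀]; exact hU u hu
  have hact : act (φ g) U' = (U.map (Matrix.mulVecLin (mt Q g))).map g₀.toLinearMap := by
    ext x
    constructor
    · rintro ⟨_, ⟨u, hu, rfl⟩, rfl⟩
      refine ⟨mt Q g *ᵥ u, ⟨u, hu, rfl⟩, ?_⟩
      show g₀ (mt Q g *ᵥ u) = mat (φ g) *ᵥ (g₀ u)
      rw [hφ g (g₀ u), LinearEquiv.symm_apply_apply, rho_apply]
    · rintro ⟨_, ⟨u, hu, rfl⟩, rfl⟩
      refine ⟨g₀ u, ⟨u, hu, rfl⟩, ?_⟩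
      show mat (φ g) *ᵥ (g₀ u) = g₀ (mt Q g *ᵥ u)
      rw [hφ g (g₀ u), LinearEquiv.symm_apply_apply, rho_apply]
  have hinf : U' ⊓ act (φ g) U' = (U ⊓ U.map (Matrix.mulVecLin (mt Q g))).map g₀.toLinearMap := by
    rw [hact, hU', Submodule.map_inf _ g₀.injective]
  have := even_of_chi_eq_zero hU'max hchi
  rwa [hinf, LinearEquiv.finrank_map_eq] at this

/-- the two maximal totally singular subspaces through a totally singular subspace of dimension
`m - 1` (plus type). -/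
theorem two_maximal_gen (hQ : (QuadraticMap.polarBilin Q).Nondegenerate) {m : ℕ}
    (hcard : Fintype.card ι = 2 * m) (E₀ : Submodule F (ι → F)) (hE₀ : ∀ u ∈ E₀, Q u = 0)
    (hE₀m : finrank F E₀ = m) (W : Submodule F (ι → F)) (hW : ∀ u ∈ W, Q u = 0)
    (hWm : finrank F W + 1 = m) :
    ∃ U₁ U₂ : Submodule F (ι → F), U₁ ≠ U₂ ∧
      (finrank F U₁ = m ∧ (∀ w ∈ U₁, Q w = 0) ∧ W ≤ U₁) ∧
      (finrank F U₂ = m ∧ (∀ w ∈ U₂, Q w = 0) ∧ W ≤ U₂) ∧
      ∀ U : Submodule F (ι → F), (finrank F U = m ∧ (∀ w ∈ U, Q w = 0) ∧ W ≤ U) →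
        U = U₁ ∨ U = U₂ := by
  classical
  have hV : finrank F (ι → F) = 2 * m := by rw [Module.finrank_fintype_fun_eq_card, hcard]
  obtain ⟨g₀, hg₀⟩ := Cfsg.Agent.Helper13.exists_isometry_plus hV Q hQ E₀ hE₀ hE₀m
  have hts : ∀ X : Submodule F (ι → F), (∀ u ∈ X, Q u = 0) →
      ∀ w ∈ X.map g₀.toLinearMap, Cfsg.quadFormPlus m F w = 0 := by
    rintro X hX _ ⟨u, hu, rfl⟩
    show Cfsg.quadFormPlus m F (g₀ u) = 0
    rw [hg₀]; exact hX u hu
  have hts' : ∀ X : Submodule F (Vm m F), (∀ u ∈ X, Cfsg.quadFormPlus m F u = 0) →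
      ∀ w ∈ X.map g₀.symm.toLinearMap, Q w = 0 := by
    rintro X hX _ ⟨u, hu, rfl⟩
    show Q (g₀.symm u) = 0
    rw [← hg₀, LinearEquiv.apply_symm_apply]; exact hX u hu
  have hback : ∀ X : Submodule F (ι → F), (X.map g₀.toLinearMap).map g₀.symm.toLinearMap = X := by
    intro X
    rw [← Submodule.map_comp]
    have : g₀.symm.toLinearMap ∘ₗ g₀.toLinearMap = LinearMap.id := by
      ext v; simp
    rw [this, Submodule.map_id]
  obtain ⟨W₁, W₂, hne, ⟨h1a, h1b, h1c⟩, ⟨h2a, h2b, h2c⟩, hall⟩ :=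
    two_maximal (W.map g₀.toLinearMap) (by rw [LinearEquiv.finrank_map_eq]; exact hWm) (hts W hW)
  refine ⟨W₁.map g₀.symm.toLinearMap, W₂.map g₀.symm.toLinearMap, ?_, ⟨?_, hts' W₁ h1b, ?_⟩,
    ⟨?_, hts' W₂ h2b, ?_⟩, ?_⟩
  · intro h
    apply hne
    have := congrArg (fun X => X.map g₀.toLinearMap) h
    simp only [← Submodule.map_comp] at this
    have e : g₀.toLinearMap ∘ₗ g₀.symm.toLinearMap = LinearMap.id := by
      ext v; simp
    rwa [e, Submodule.map_id, Submodule.map_id] at this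
  · rw [LinearEquiv.finrank_map_eq, h1a]
  · rw [← hback W]; exact Submodule.map_mono h1c
  · rw [LinearEquiv.finrank_map_eq, h2a]
  · rw [← hback W]; exact Submodule.map_mono h2c
  · rintro U ⟨hUm, hUts, hWU⟩
    rcases hall (U.map g₀.toLinearMap) ⟨by rw [LinearEquiv.finrank_map_eq, hUm], hts U hUts,
      Submodule.map_mono hWU⟩ with h | h
    · left; rw [← h, hback]
    · right; rw [← h, hback]

end Cfsg.Agent.Helper28.PP
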