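import Mathlib
import Cfsg.Prelude.Def_GeometricClasses
import Cfsg.Agent.Helper28.PlusParity
import Cfsg.Agent.Helper28.NonMax

set_option autoImplicit false

/-! Non-maximality in `Ω⁺_{2k}(q)`, `k` odd, of the stabiliser of a pair of complementary maximal
totally singular subspaces: it fixes both (they lie in different families). -/

namespace Cfsg.Agent.Helper28.PP

open Matrix Module Cfsg.Agent.Helper28.Sg Cfsg.Agent.Helper28.OM

variable {F : Type*} [Field F] [Fintype F] {ι : Type} [Fintype ι] [DecidableEq ι]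
  (Q : QuadraticForm F (ι → F))

/-- two independent vectors in a subspace of dimension at least two -/
theorem exists_two_indep (W : Submodule F (ι → F)) (hW : 2 ≤ finrank F W) :
    ∃ u ∈ W, ∃ w ∈ W, u ≠ 0 ∧ ∀ a b : F, a • u + b • w = 0 → a = 0 ∧ b = 0 := by
  obtain ⟨u, hu⟩ := Module.finrank_pos_iff_exists_ne_zero.mp (by omega : 0 < finrank F W)
  have hu0 : (u : ι → F) ≠ 0 := fun h => hu (Subtype.ext h)
  have hlt : ¬ (W ≤ Submodule.span F {(u : ι → F)}) := by
    intro hle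
    have h1 := Submodule.finrank_mono hle
    have h2 : finrank F (Submodule.span F {(u : ι → F)}) = 1 := finrank_span_singleton hu0
    omega
  obtain ⟨w, hwW, hwu⟩ := SetLike.not_le_iff_exists.mp hlt
  refine ⟨u, u.2, w, hwW, hu0, ?_⟩
  intro a b hab
  have hb : b = 0 := by
    by_contra hb
    apply hwu
    rw [Submodule.mem_span_singleton]
    refine ⟨-(b⁻¹ * a), ?_⟩
    have : b • w = -(a • (u : ι → F)) := by
      rw [eq_neg_iff_add_eq_zero, add_comm]; exact hab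
    have h3 : w = b⁻¹ • (b • w) := by rw [smul_smul, inv_mul_cancel₀ hb, one_smul]
    rw [h3, this, smul_neg, smul_smul, neg_smul]
  subst hb
  rw [zero_smul, add_zero] at hab
  rcases smul_eq_zero.mp hab with h | h
  · exact ⟨h, rfl⟩
  · exact absurd h hu0

theorem pair_not_maximal (hQ : (QuadraticMap.polarBilin Q).Nondegenerate)
    (hn : 8 ≤ Fintype.card ι) (k : ℕ) (hk : 2 * k = Fintype.card ι) (hko : Odd k)
    (D : Fin 2 → Submodule F (ι → F)) (hD : Cfsg.Geo.IsMDecomposition k D)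
    (hts : ∀ i, ∀ w ∈ D i, Q w = 0) :
    ∃ K : Subgroup (GL ι F), Cfsg.Geo.decompositionStabilizer D ⊓ Cfsg.Geo.omegaGL ⇑Q < K ∧
      K < Cfsg.Geo.omegaGL ⇑Q := by
  classical
  obtain ⟨fr⟩ := exists_frame3 hQ hn
  have hdisj : ∀ i j, i ≠ j → ∀ x, x ∈ D i → x ∈ D j → x = 0 := by
    intro i j hij x hxi hxj
    have := hD.indep.pairwiseDisjoint hij
    exact (Submodule.disjoint_def.mp this) x hxi hxj
  have hBts : ∀ i, ∀ a ∈ D i, ∀ b ∈ D i, B Q a b = 0 := fun i => B_zero_of_ts (D i) (hts i)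
  have hdec : ∀ v : ι → F, ∃ a ∈ D 0, ∃ b ∈ D 1, v = a + b := by
    intro v
    have hv : v ∈ iSup D := by rw [hD.iSup_eq_top]; trivial
    obtain ⟨c, hc, hcv⟩ := (Submodule.mem_iSup_iff_exists_finsupp D v).mp hv
    refine ⟨c 0, hc 0, c 1, hc 1, ?_⟩
    rw [← hcv, Finsupp.sum_fintype _ _ (fun i => rfl), Fin.sum_univ_two]
  have h01 : (0 : Fin 2) ≠ 1 := by decide
  have hcases : ∀ i j : Fin 2, i ≠ j → (i = 0 ∧ j = 1 ∨ i = 1 ∧ j = 0) := by decide
  -- partner vectors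
  have hpart : ∀ i j : Fin 2, i ≠ j → ∀ u ∈ D i, u ≠ 0 → ∃ x ∈ D j, B Q u x ≠ 0 := by
    intro i j hij u hu hu0
    by_contra hcon
    push Not at hcon
    apply hu0
    apply hQ.1 u
    intro v
    show B Q u v = 0
    obtain ⟨a, ha, b, hb, rfl⟩ := hdec v
    have hi : i = 0 ∧ j = 1 ∨ i = 1 ∧ j = 0 := hcases i j hij
    rcases hi with ⟨rfl, rfl⟩ | ⟨rfl, rfl⟩
    · exact B_add_right_zero Q (hBts 0 u hu a ha) (hcon b hb)
    · exact B_add_right_zero Q (hcon a ha) (hBts 1 u hu b hb)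
  have hfr : ∀ i, 2 ≤ finrank F (D i) := by
    intro i; rw [hD.finrank_eq i]; omega
  -- the Siegel element attached to independent u, w in D i moves every partner x
  have hmove : ∀ i j : Fin 2, i ≠ j → ∀ (u : ι → F) (hu : u ∈ D i) (w : ι → F) (hw : w ∈ D i),
      (∀ a b : F, a • u + b • w = 0 → a = 0 ∧ b = 0) → ∀ x, B Q u x ≠ 0 →
      ∃ y ∈ D i, y ≠ 0 ∧ mt Q (siegO Q u w (hts i u hu) (hBts i u hu w hw)) *ᵥ x = x + y := by
    intro i j _ u hu w hw hind x hx
    refine ⟨B Q u x • w - B Q w x • u, (D i).sub_mem ((D i).smul_mem _ hw) ((D i).smul_mem _ hu), ?_, ?_⟩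
    · intro h0
      have := hind (-(B Q w x)) (B Q u x) (by rw [neg_smul, ← h0]; abel)
      exact hx this.2
    · rw [siegO_mulVec, hts i w hw, zero_mul, zero_smul, sub_zero]
      abel
  let K : Subgroup (GL ι F) := Cfsg.Geo.subspaceStabilizer (D 0) ⊓ Cfsg.Geo.omegaGL ⇑Q
  have hΩ : ∀ (u w : ι → F) (hu : Q u = 0) (huw : B Q u w = 0),
      ((siegO Q u w hu huw : ↥(Cfsg.isometryGroup F ⇑Q)) : GL ι F) ∈ Cfsg.Geo.omegaGL ⇑Q := by
    intro u w hu huw
    exact (Cfsg.Agent.Helper28.NM.mem_omegaGL_iff Q _).mpr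
      ⟨_, S_le_Omega hQ fr (siegO_mem_S Q u w hu huw), rfl⟩
  have hle : Cfsg.Geo.decompositionStabilizer D ⊓ Cfsg.Geo.omegaGL ⇑Q ≤ K := by
    rintro g ⟨⟨σ, hσ⟩, hgΩ⟩
    refine ⟨?_, hgΩ⟩
    by_cases hs : σ 0 = 0
    · apply Cfsg.Agent.Helper28.NM.mem_subspaceStabilizer_of_le
      intro w hw
      have := hσ 0
      rw [hs] at this
      rw [← this]
      exact ⟨w, hw, Matrix.toLin'_apply _ _⟩
    · exfalso
      have hs1 : σ 0 = 1 := by
        have : ∀ a : Fin 2, a ≠ 0 → a = 1 := by decide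
        exact this _ hs
      obtain ⟨h, hh, rfl⟩ := (Cfsg.Agent.Helper28.NM.mem_omegaGL_iff Q g).mp hgΩ
      have hev := even_codim_of_mem_Omega Q hQ hk.symm (D 0) (hts 0) (hD.finrank_eq 0) h hh
      have hmap : (D 0).map (Matrix.mulVecLin (mt Q h)) = D 1 := by
        rw [← hs1, ← hσ 0, Matrix.toLin'_apply']
      rw [hmap] at hev
      have hbot : D 0 ⊓ D 1 = ⊥ := by
        rw [eq_bot_iff]
        rintro x ⟨hx0, hx1⟩
        exact hdisj 0 1 h01 x hx0 hx1
      rw [hbot, finrank_bot, Nat.sub_zero] at hev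
      exact (Nat.not_even_iff_odd.mpr hko) hev
  refine ⟨K, lt_of_le_of_ne hle ?_, lt_of_le_of_ne inf_le_right ?_⟩
  · -- an element of K not stabilising the pair
    intro heq
    obtain ⟨u, hu, w, hw, hu0, hind⟩ := exists_two_indep (D 0) (hfr 0)
    obtain ⟨x, hx, hux⟩ := hpart 0 1 h01 u hu hu0
    obtain ⟨y, hy, hy0, hgx⟩ := hmove 0 1 h01 u hu w hw hind x hux
    have hgK : ((siegO Q u w (hts 0 u hu) (hBts 0 u hu w hw) : ↥(Cfsg.isometryGroup F ⇑Q)) :
        GL ι F) ∈ K := by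
      refine ⟨?_, hΩ _ _ _ _⟩
      apply Cfsg.Agent.Helper28.NM.mem_subspaceStabilizer_of_le
      intro z hz
      have : mt Q (siegO Q u w (hts 0 u hu) (hBts 0 u hu w hw)) *ᵥ z = z := by
        rw [siegO_mulVec, hBts 0 u hu z hz, hBts 0 w hw z hz]
        simp
      rw [show (((siegO Q u w (hts 0 u hu) (hBts 0 u hu w hw) : ↥(Cfsg.isometryGroup F ⇑Q)) :
        GL ι F) : Matrix ι ι F) = mt Q (siegO Q u w (hts 0 u hu) (hBts 0 u hu w hw)) from rfl, this]
      exact hz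
    rw [← heq] at hgK
    obtain ⟨⟨σ, hσ⟩, -⟩ := hgK
    have hmem : x + y ∈ D (σ 1) := by
      rw [← hσ 1]
      refine ⟨x, hx, ?_⟩
      rw [Matrix.toLin'_apply]
      exact hgx
    by_cases hs : σ 1 = 1
    · rw [hs] at hmem
      have : y ∈ D 1 := by
        have := (D 1).sub_mem hmem hx
        rwa [add_sub_cancel_left] at this
      exact hy0 (hdisj 0 1 h01 y hy this)
    · have hs0 : σ 1 = 0 := by
        have : ∀ a : Fin 2, a ≠ 1 → a = 0 := by decide
        exact this _ hs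
      rw [hs0] at hmem
      have : x ∈ D 0 := by
        have := (D 0).sub_mem hmem hy
        rwa [add_sub_cancel_right] at this
      have hx0 := hdisj 0 1 h01 x this hx
      rw [hx0] at hux
      exact hux (by simp [B])
  · -- an element of Ω moving D 0
    intro heq
    obtain ⟨u, hu, w, hw, hu0, hind⟩ := exists_two_indep (D 1) (hfr 1)
    obtain ⟨x, hx, hux⟩ := hpart 1 0 h01.symm u hu hu0
    obtain ⟨y, hy, hy0, hgx⟩ := hmove 1 0 h01.symm u hu w hw hind x hux
    have hgK : ((siegO Q u w (hts 1 u hu) (hBts 1 u hu w hw) : ↥(Cfsg.isometryGroup F ⇑Q)) :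
        GL ι F) ∈ K := by
      rw [heq]; exact hΩ _ _ _ _
    have h1 : mt Q (siegO Q u w (hts 1 u hu) (hBts 1 u hu w hw)) *ᵥ x ∈ D 0 :=
      ((Cfsg.Agent.Helper28.NM.mem_subspaceStabilizer_iff (D 0) _).mp hgK.1 x).mp hx
    rw [hgx] at h1
    have : y ∈ D 0 := by
      have := (D 0).sub_mem h1 hx
      rwa [add_sub_cancel_left] at this
    exact hy0 (hdisj 0 1 h01 y this hy)

end Cfsg.Agent.Helper28.PP
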