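import Mathlib
import Cfsg.Prelude.Def_GeometricClasses
import Cfsg.Agent.Helper28.PlusPairNM

set_option autoImplicit false

/-! Non-maximality in `Ω⁺_{2m}(q)` of the stabiliser of a totally singular subspace of dimension
`m - 1`: it fixes both maximal totally singular subspaces through it. -/

namespace Cfsg.Agent.Helper28.PP

open Matrix Module Cfsg.Agent.Helper28.Sg Cfsg.Agent.Helper28.OM

variable {F : Type*} [Field F] [Fintype F] {ι : Type} [Fintype ι] [DecidableEq ι]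
  (Q : QuadraticForm F (ι → F))

theorem submax_not_maximal (hQ : (QuadraticMap.polarBilin Q).Nondegenerate)
    (hn : 8 ≤ Fintype.card ι) {m : ℕ} (hcard : Fintype.card ι = 2 * m)
    (E₀ : Submodule F (ι → F)) (hE₀ : ∀ u ∈ E₀, Q u = 0) (hE₀m : finrank F E₀ = m)
    (W : Submodule F (ι → F)) (hW : ∀ u ∈ W, Q u = 0) (hWm : finrank F W + 1 = m) :
    ∃ K : Subgroup (GL ι F), Cfsg.Geo.subspaceStabilizer W ⊓ Cfsg.Geo.omegaGL ⇑Q < K ∧
      K < Cfsg.Geo.omegaGL ⇑Q := by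
  classical
  obtain ⟨fr⟩ := exists_frame3 hQ hn
  obtain ⟨U₁, U₂, hne, ⟨h1a, h1b, h1c⟩, ⟨h2a, h2b, h2c⟩, hall⟩ :=
    two_maximal_gen Q hQ hcard E₀ hE₀ hE₀m W hW hWm
  have hΩ : ∀ (u w : ι → F) (hu : Q u = 0) (huw : B Q u w = 0),
      ((siegO Q u w hu huw : ↥(Cfsg.isometryGroup F ⇑Q)) : GL ι F) ∈ Cfsg.Geo.omegaGL ⇑Q := by
    intro u w hu huw
    exact (Cfsg.Agent.Helper28.NM.mem_omegaGL_iff Q _).mpr
      ⟨_, S_le_Omega hQ fr (siegO_mem_S Q u w hu huw), rfl⟩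
  have hU₁0 : U₁ ≠ ⊥ := by
    intro h
    rw [h, finrank_bot] at h1a
    omega
  have hmax := stab_maximal hQ fr (hgen_all hQ (by omega)) U₁ hU₁0 h1b (by
    intro h; rw [h1a] at h; omega)
  let K : Subgroup (GL ι F) := Cfsg.Geo.subspaceStabilizer U₁ ⊓ Cfsg.Geo.omegaGL ⇑Q
  have hinf : finrank F ↥(U₁ ⊓ U₂) + 1 = m := by
    have h1 : finrank F W ≤ finrank F ↥(U₁ ⊓ U₂) := Submodule.finrank_mono (le_inf h1c h2c)
    have h2 : finrank F ↥(U₁ ⊓ U₂) < finrank F U₁ := by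
      apply Submodule.finrank_lt_finrank_of_lt
      refine lt_of_le_of_ne inf_le_left ?_
      intro h
      apply hne
      exact Submodule.eq_of_le_of_finrank_eq (inf_eq_left.mp h) (by rw [h1a, h2a])
    omega
  have hle : Cfsg.Geo.subspaceStabilizer W ⊓ Cfsg.Geo.omegaGL ⇑Q ≤ K := by
    rintro g ⟨hgW, hgΩ⟩
    refine ⟨?_, hgΩ⟩
    obtain ⟨h, hh, rfl⟩ := (Cfsg.Agent.Helper28.NM.mem_omegaGL_iff Q g).mp hgΩ
    replace hgW := (Cfsg.Agent.Helper28.NM.mem_subspaceStabilizer_iff W _).mp hgW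
    set gU : Submodule F (ι → F) := U₁.map (Matrix.mulVecLin (mt Q h)) with hgU
    have hinj : Function.Injective (Matrix.mulVecLin (mt Q h)) := by
      intro x y hxy
      have h2 : ∀ v : ι → F, mt Q h⁻¹ *ᵥ (mt Q h *ᵥ v) = v := by
        intro v
        rw [Matrix.mulVec_mulVec, ← mt_mul, inv_mul_cancel, mt_one, Matrix.one_mulVec]
      rw [← h2 x, ← h2 y]
      congr 1
    have hgUm : finrank F gU = m := by
      rw [hgU, ← h1a]
      exact LinearEquiv.finrank_eq (Submodule.equivMapOfInjective _ hinj U₁).symm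
    have hgUts : ∀ w ∈ gU, Q w = 0 := by
      rintro _ ⟨v, hv, rfl⟩
      rw [Matrix.mulVecLin_apply]
      have : Q (mt Q h *ᵥ v) = Q v := (IsoTransport.mem_isometryGroup_iff _ h.1).mp h.2 v
      rw [this]; exact h1b v hv
    have hWgU : W ≤ gU := by
      intro w hw
      have h2 : mt Q h *ᵥ (mt Q h⁻¹ *ᵥ w) = w := by
        rw [Matrix.mulVec_mulVec, ← mt_mul, mul_inv_cancel, mt_one, Matrix.one_mulVec]
      refine ⟨mt Q h⁻¹ *ᵥ w, h1c ?_, h2⟩
      rw [hgW]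
      show mt Q h *ᵥ (mt Q h⁻¹ *ᵥ w) ∈ W
      rw [h2]; exact hw
    rcases hall gU ⟨hgUm, hgUts, hWgU⟩ with h' | h'
    · apply Cfsg.Agent.Helper28.NM.mem_subspaceStabilizer_of_le
      intro w hw
      rw [← h']
      exact ⟨w, hw, rfl⟩
    · exfalso
      have hev := even_codim_of_mem_Omega Q hQ hcard U₁ h1b h1a h hh
      rw [← hgU, h'] at hev
      have : m - finrank F ↥(U₁ ⊓ U₂) = 1 := by omega
      rw [this] at hev
      exact absurd hev (by decide)
  refine ⟨K, lt_of_le_of_ne hle ?_, hmax.1⟩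
  -- an element of K moving W
  intro heq
  obtain ⟨u, huU, huW⟩ : ∃ u, u ∈ U₁ ∧ u ∉ W := by
    by_contra hcon
    push Not at hcon
    have : U₁ ≤ W := hcon
    have := Submodule.finrank_mono this
    omega
  have hu0 : u ≠ 0 := by
    rintro rfl
    exact huW W.zero_mem
  obtain ⟨x₀, hx₀W, hx₀0⟩ : ∃ x₀, x₀ ∈ W ∧ x₀ ≠ 0 := by
    have hpos : 0 < finrank F W := by omega
    obtain ⟨x, hx⟩ := Module.finrank_pos_iff_exists_ne_zero.mp hpos
    exact ⟨x, x.2, fun h => hx (Subtype.ext h)⟩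
  obtain ⟨w, huw, hwx₀⟩ : ∃ w, B Q u w = 0 ∧ B Q w x₀ ≠ 0 := by
    by_contra hcon
    push Not at hcon
    obtain ⟨z, hz⟩ := exists_pair_one hQ hu0
    -- x₀ = c u
    obtain ⟨c, hcdef⟩ : ∃ c : F, c = B Q z x₀ := ⟨_, rfl⟩
    have hall' : ∀ v, B Q (x₀ - c • u) v = 0 := by
      intro v
      have h1 : B Q u (v - B Q u v • z) = 0 := by
        simp only [B, QuadraticMap.polar_sub_right, QuadraticMap.polar_smul_right, smul_eq_mul]
        have : QuadraticMap.polar ⇑Q u z = 1 := hz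
        rw [this, mul_one, sub_self]
      have h2 := hcon _ h1
      have e2 : B Q (x₀ - c • u) v = B Q x₀ v - c * B Q u v := by
        simp only [B, QuadraticMap.polar_sub_left, QuadraticMap.polar_smul_left, smul_eq_mul]
      have e3 : B Q (v - B Q u v • z) x₀ = B Q v x₀ - B Q u v * B Q z x₀ := by
        simp only [B, QuadraticMap.polar_sub_left, QuadraticMap.polar_smul_left, smul_eq_mul]
      have e1 : B Q x₀ v = B Q v x₀ := B_comm Q x₀ v
      rw [e2]
      rw [e3] at h2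
      rw [hcdef]
      linear_combination h2 + e1
    have h3 := hQ.1 _ hall'
    apply huW
    have hx₀ : x₀ = c • u := sub_eq_zero.mp h3
    have hc : c ≠ 0 := by
      intro h0
      rw [h0, zero_smul] at hx₀
      exact hx₀0 hx₀
    have : u = c⁻¹ • x₀ := by
      rw [hx₀, smul_smul, inv_mul_cancel₀ hc, one_smul]
    rw [this]
    exact W.smul_mem _ hx₀W
  have hQu : Q u = 0 := h1b u huU
  have hBU : ∀ a ∈ U₁, ∀ b ∈ U₁, B Q a b = 0 := B_zero_of_ts U₁ h1b
  have hgK : ((siegO Q u w hQu huw : ↥(Cfsg.isometryGroup F ⇑Q)) : GL ι F) ∈ K := by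
    refine ⟨?_, hΩ _ _ _ _⟩
    apply Cfsg.Agent.Helper28.NM.mem_subspaceStabilizer_of_le
    intro z hz
    have : mt Q (siegO Q u w hQu huw) *ᵥ z = z - B Q w z • u := by
      rw [siegO_mulVec, hBU u huU z hz]
      simp
    rw [show (((siegO Q u w hQu huw : ↥(Cfsg.isometryGroup F ⇑Q)) : GL ι F) : Matrix ι ι F) =
      mt Q (siegO Q u w hQu huw) from rfl, this]
    exact U₁.sub_mem hz (U₁.smul_mem _ huU)
  rw [← heq] at hgK
  have h1 : mt Q (siegO Q u w hQu huw) *ᵥ x₀ ∈ W :=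
    ((Cfsg.Agent.Helper28.NM.mem_subspaceStabilizer_iff W _).mp hgK.1 x₀).mp hx₀W
  rw [siegO_mulVec, hBU u huU x₀ (h1c hx₀W)] at h1
  simp only [zero_smul, add_zero, mul_zero, sub_zero] at h1
  have h2 : B Q w x₀ • u ∈ W := by
    have := W.sub_mem hx₀W h1
    rwa [sub_sub_cancel] at this
  apply huW
  have := W.smul_mem (B Q w x₀)⁻¹ h2
  rwa [smul_smul, inv_mul_cancel₀ hwx₀, one_smul] at this

end Cfsg.Agent.Helper28.PP
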