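import Mathlib
import Cfsg.Agent.Helper21.S5949Basic

/-! (helper28) For a square matrix `g` over a field: `deg (minpoly g) ≤ rank (g - 1) + 1`, and
`rank (g - 1) < n` when `X - 1` divides the minimal polynomial.  Hence a matrix whose minimal polynomial
has full degree `n` and is divisible by `X - 1` has `rank (g - 1) = n - 1`. -/

set_option autoImplicit false

namespace Cfsg.Agent.Helper28.RankMinpoly

open Polynomial Module

variable {F : Type*} [Field F]

theorem natDegree_minpoly_le_end {V : Type*} [AddCommGroup V] [Module F V] [FiniteDimensional F V]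
    (f : Module.End F V) :
    (minpoly F f).natDegree ≤ finrank F (LinearMap.range (f - 1)) + 1 := by
  set U := LinearMap.range (f - 1) with hUdef
  have hU : ∀ u ∈ U, f u ∈ U := by
    rintro _ ⟨w, rfl⟩
    refine ⟨f w, ?_⟩
    simp only [LinearMap.sub_apply, Module.End.one_apply, map_sub]
  set p := (f.restrict hU).charpoly with hp
  have hpdeg : p.natDegree = finrank F U := LinearMap.charpoly_natDegree _
  have hpmonic : p.Monic := LinearMap.charpoly_monic _
  have hp0 : aeval (f.restrict hU) p = 0 := LinearMap.aeval_self_charpoly _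
  have hann : aeval f (p * (X - 1)) = 0 := by
    apply LinearMap.ext
    intro v
    rw [map_mul, Module.End.mul_apply, map_sub, aeval_X, map_one]
    have hv : (f - 1) v ∈ U := ⟨v, rfl⟩
    have h := Cfsg.Agent.S5949P.Basic.aeval_restrict_apply f U hU p ⟨(f - 1) v, hv⟩
    rw [hp0] at h
    simp only [LinearMap.zero_apply, Submodule.coe_zero] at h
    rw [← h]
    rfl
  have hdvd : minpoly F f ∣ p * (X - 1) := minpoly.dvd F f hann
  have hx1 : (X - 1 : F[X]) ≠ 0 := by
    have := X_sub_C_ne_zero (1 : F)
    simpa using this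
  have hne : p * (X - 1 : F[X]) ≠ 0 := mul_ne_zero hpmonic.ne_zero hx1
  have hle := natDegree_le_of_dvd hdvd hne
  have hdeg : (p * (X - 1 : F[X])).natDegree = p.natDegree + 1 := by
    have h1 : (X - 1 : F[X]) = X - C 1 := by simp
    rw [h1, natDegree_mul hpmonic.ne_zero (X_sub_C_ne_zero 1), natDegree_X_sub_C]
  rw [hdeg, hpdeg] at hle
  exact hle

theorem finrank_range_lt_end {V : Type*} [AddCommGroup V] [Module F V] [FiniteDimensional F V]
    (f : Module.End F V) (h : (X - 1 : F[X]) ∣ minpoly F f) :
    finrank F (LinearMap.range (f - 1)) < finrank F V := by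
  have hroot : (minpoly F f).IsRoot 1 := by
    obtain ⟨c, hc⟩ := h
    rw [IsRoot, hc]
    simp
  have hev : f.HasEigenvalue 1 := Module.End.hasEigenvalue_iff_isRoot.mpr hroot
  obtain ⟨v, hv⟩ := hev.exists_hasEigenvector
  have hker : LinearMap.ker (f - 1) ≠ ⊥ := by
    intro hbot
    have hmem : v ∈ LinearMap.ker (f - 1) := by
      rw [LinearMap.mem_ker, LinearMap.sub_apply, Module.End.one_apply, hv.apply_eq_smul, one_smul,
        sub_self]
    rw [hbot, Submodule.mem_bot] at hmem
    exact hv.2 hmem
  have hpos : 0 < finrank F (LinearMap.ker (f - 1)) := by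
    rw [Module.finrank_pos_iff_exists_ne_zero]
    obtain ⟨w, hw, hw0⟩ := Submodule.exists_mem_ne_zero_of_ne_bot hker
    exact ⟨⟨w, hw⟩, fun h => hw0 (congrArg Subtype.val h)⟩
  have := LinearMap.finrank_range_add_finrank_ker (f - 1)
  omega

variable {n : Type*} [Fintype n] [DecidableEq n]

theorem rank_eq_finrank (g : Matrix n n F) :
    (g - 1).rank = finrank F (LinearMap.range (Matrix.toLin' g - 1)) := by
  have : Matrix.toLin' g - 1 = (g - 1).mulVecLin := by
    apply LinearMap.ext
    intro v
    simp
  rw [this]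
  rfl

/-- `deg (minpoly g) ≤ rank (g - 1) + 1` -/
theorem natDegree_minpoly_le (g : Matrix n n F) :
    (minpoly F g).natDegree ≤ (g - 1).rank + 1 := by
  rw [rank_eq_finrank, ← Matrix.minpoly_toLin']
  exact natDegree_minpoly_le_end _

/-- `rank (g - 1) < n` when `1` is an eigenvalue -/
theorem rank_lt (g : Matrix n n F) (h : (X - 1 : F[X]) ∣ minpoly F g) :
    (g - 1).rank < Fintype.card n := by
  rw [rank_eq_finrank]
  have := finrank_range_lt_end (Matrix.toLin' g) (by rwa [Matrix.minpoly_toLin'])
  rwa [Module.finrank_fintype_fun_eq_card] at this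

/-- a matrix with `X - 1 ∣ minpoly` and `deg minpoly = n` has `rank (g - 1) = n - 1` -/
theorem rank_eq_of_natDegree_eq (g : Matrix n n F) (h : (X - 1 : F[X]) ∣ minpoly F g)
    (hdeg : (minpoly F g).natDegree = Fintype.card n) : (g - 1).rank + 1 = Fintype.card n := by
  have h1 := natDegree_minpoly_le g
  have h2 := rank_lt g h
  omega

end Cfsg.Agent.Helper28.RankMinpoly
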