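import Cfsg.Agent.Helper5.S0518Defs
import Cfsg.Agent.Helper7.S2951FINd

/-!
# S0518 board, piece LIB48: the facts about `S₄ × C₂`

The elementwise facts are checked in the model `Perm (Fin 4) × Multiplicative (ZMod 2)` by `decide`
(on top of helper7's `FIN_aux_DF2_*`), and carried to `P` along the embedding of the model in `G`.
-/

set_option autoImplicit false

universe u

namespace Cfsg.Agent.S0518P

open Cfsg Subgroup Cfsg.Agent.S2951P

/-- the model group -/
abbrev LIB48_aux_X : Type := Equiv.Perm (Fin 4) × Multiplicative (ZMod 2)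

/-- the central involution of the model -/
def LIB48_aux_c : LIB48_aux_X := (1, Multiplicative.ofAdd 1)

section model

set_option maxRecDepth 100000
set_option maxHeartbeats 4000000
set_option synthInstance.maxSize 4000
set_option synthInstance.maxHeartbeats 400000

theorem LIB48_aux_c_ne : LIB48_aux_c ≠ 1 := by decide

theorem LIB48_aux_c_sq : LIB48_aux_c * LIB48_aux_c = 1 := by decide

theorem LIB48_aux_c_central : ∀ y : LIB48_aux_X, y * LIB48_aux_c = LIB48_aux_c * y := by decide

theorem LIB48_aux_center : ∀ x : LIB48_aux_X, FIN_aux_PZX x → x = 1 ∨ x = LIB48_aux_c := by decide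

theorem LIB48_aux_c_memQ : FIN_aux_PU2 LIB48_aux_c := by decide

theorem LIB48_aux_c_notK : ¬ FIN_aux_PO2 LIB48_aux_c := by decide

theorem LIB48_aux_one_memK : FIN_aux_PO2 1 := by decide

/-- a conjugate `x'` of `x` with `x x'` of order 3 -/
def LIB48_aux_P3 (x : LIB48_aux_X) : Prop :=
  ∃ y : LIB48_aux_X, x * (y * x * y⁻¹) ≠ 1 ∧
    x * (y * x * y⁻¹) * (x * (y * x * y⁻¹)) * (x * (y * x * y⁻¹)) = 1

instance LIB48_aux_P3_dec : DecidablePred LIB48_aux_P3 :=
  fun x => inferInstanceAs (Decidable (∃ y : LIB48_aux_X, x * (y * x * y⁻¹) ≠ 1 ∧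
    x * (y * x * y⁻¹) * (x * (y * x * y⁻¹)) * (x * (y * x * y⁻¹)) = 1))

theorem LIB48_aux_core : ∀ x : LIB48_aux_X, ¬ FIN_aux_PU2 x → LIB48_aux_P3 x := by decide

theorem LIB48_aux_K_conj : ∀ y : LIB48_aux_X, FIN_aux_PO2 y → ∀ h : LIB48_aux_X,
    FIN_aux_PO2 (h * y * h⁻¹) := by decide

theorem LIB48_aux_cover : ∀ q : LIB48_aux_X, FIN_aux_PU2 q →
    FIN_aux_PO2 q ∨ FIN_aux_PO2 (LIB48_aux_c * q) := by decide

/-- a nontrivial element of the four-group -/
def LIB48_aux_PV (v : LIB48_aux_X) : Prop := FIN_aux_PU2 v ∧ FIN_aux_PO2 v ∧ v ≠ 1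

instance LIB48_aux_PV_dec : DecidablePred LIB48_aux_PV :=
  fun v => inferInstanceAs (Decidable (FIN_aux_PU2 v ∧ FIN_aux_PO2 v ∧ v ≠ 1))

/-- conjugate under the alternating group -/
def LIB48_aux_PT (v w : LIB48_aux_X) : Prop := ∃ k : LIB48_aux_X, FIN_aux_PO2 k ∧ k * v * k⁻¹ = w

instance LIB48_aux_PT_dec (v w : LIB48_aux_X) : Decidable (LIB48_aux_PT v w) :=
  inferInstanceAs (Decidable (∃ k : LIB48_aux_X, FIN_aux_PO2 k ∧ k * v * k⁻¹ = w))

theorem LIB48_aux_trans : ∀ v : LIB48_aux_X, LIB48_aux_PV v → ∀ w : LIB48_aux_X, LIB48_aux_PV w →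
    LIB48_aux_PT v w := by decide

theorem LIB48_aux_sq : ∀ y : LIB48_aux_X, y * y * (y * y) = 1 →
    FIN_aux_PU2 (y * y) ∧ FIN_aux_PO2 (y * y) := by decide

theorem LIB48_aux_sqK : ∀ y : LIB48_aux_X, FIN_aux_PO2 (y * y) := by decide

theorem LIB48_aux_centV : ∀ v : LIB48_aux_X, LIB48_aux_PV v → ∀ x : LIB48_aux_X, x * v = v * x →
    x * x * (x * x) = 1 := by decide

theorem LIB48_aux_fst : ∀ x : LIB48_aux_X, x.1 = 1 → x = 1 ∨ x = LIB48_aux_c := by decide

theorem LIB48_aux_cardX : Fintype.card LIB48_aux_X = 48 := by decide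

end model

/-- `O₂` of the model: the four-group times the centre -/
def LIB48_aux_QX : Subgroup LIB48_aux_X where
  carrier := {y | FIN_aux_PU2 y}
  mul_mem' := fun {a b} ha hb => FIN_aux_DF2_u_mul a ha b hb
  one_mem' := FIN_aux_DF2_u_one
  inv_mem' := fun {a} ha => by
    have h : a⁻¹ = a := inv_eq_of_mul_eq_one_left (FIN_aux_DF2_u_sq a ha)
    change FIN_aux_PU2 a⁻¹
    rw [h]; exact ha

/-- the alternating group in the model -/
def LIB48_aux_KX : Subgroup LIB48_aux_X where
  carrier := {y | FIN_aux_PO2 y}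
  mul_mem' := fun {a b} ha hb => FIN_aux_DF2_o_mul a ha b hb
  one_mem' := LIB48_aux_one_memK
  inv_mem' := fun {a} ha => FIN_aux_DF2_o_inv a ha

theorem LIB48_aux_mem_QX {y : LIB48_aux_X} : y ∈ LIB48_aux_QX ↔ FIN_aux_PU2 y := Iff.rfl

theorem LIB48_aux_mem_KX {y : LIB48_aux_X} : y ∈ LIB48_aux_KX ↔ FIN_aux_PO2 y := Iff.rfl

theorem LIB48_aux_card_QX : Nat.card ↥LIB48_aux_QX = 8 := by
  have h := FIN_aux_DF2_card_U
  rw [LIB48_aux_cardX] at h
  have h2 : Nat.card ↥LIB48_aux_QX = Nat.card {y : LIB48_aux_X // FIN_aux_PU2 y} := rfl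
  rw [h2, Nat.card_eq_fintype_card]
  have h' : Fintype.card {y : LIB48_aux_X // FIN_aux_PU2 y} * 6 = 48 := by convert h
  omega

theorem LIB48_aux_card_KX : Nat.card ↥LIB48_aux_KX = 12 := by
  have h := FIN_aux_DF2_card_O
  have h2 : Nat.card ↥LIB48_aux_KX = Nat.card {y : LIB48_aux_X // FIN_aux_PO2 y} := rfl
  rw [h2, Nat.card_eq_fintype_card]
  convert h

theorem LIB48_aux_card_VX : Nat.card ↥(LIB48_aux_QX ⊓ LIB48_aux_KX) = 4 := by
  have h := FIN_aux_DF2_card_W
  have h2 : Nat.card ↥(LIB48_aux_QX ⊓ LIB48_aux_KX) =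
      Nat.card {y : LIB48_aux_X // FIN_aux_PO2 y ∧ FIN_aux_PU2 y} :=
    Nat.card_congr (Equiv.subtypeEquivRight (fun y => by
      rw [Subgroup.mem_inf, LIB48_aux_mem_QX, LIB48_aux_mem_KX]; exact and_comm))
  rw [h2, Nat.card_eq_fintype_card]
  exact h

section transport

variable {G : Type u} [Group G] {P : Subgroup G} (e : ↥P ≃* LIB48_aux_X)

/-- the embedding of the model -/
def LIB48_aux_phi : LIB48_aux_X →* G := P.subtype.comp e.symm.toMonoidHom

theorem LIB48_aux_phi_inj : Function.Injective (LIB48_aux_phi e) :=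
  fun _ _ h => e.symm.injective (Subtype.ext h)

theorem LIB48_aux_phi_mem (y : LIB48_aux_X) : LIB48_aux_phi e y ∈ P := (e.symm y).2

theorem LIB48_aux_phi_surj {x : G} (hx : x ∈ P) : ∃ y : LIB48_aux_X, LIB48_aux_phi e y = x :=
  ⟨e ⟨x, hx⟩, by simp [LIB48_aux_phi]⟩

theorem LIB48_aux_phi_eq_one {y : LIB48_aux_X} : LIB48_aux_phi e y = 1 ↔ y = 1 := by
  rw [← (LIB48_aux_phi e).map_one]
  exact (LIB48_aux_phi_inj e).eq_iff

theorem LIB48_aux_mem_map {A : Subgroup LIB48_aux_X} {y : LIB48_aux_X} :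
    LIB48_aux_phi e y ∈ A.map (LIB48_aux_phi e) ↔ y ∈ A :=
  Subgroup.mem_map_iff_mem (LIB48_aux_phi_inj e)

theorem LIB48_aux_map_le (A : Subgroup LIB48_aux_X) : A.map (LIB48_aux_phi e) ≤ P := by
  rintro x ⟨y, -, rfl⟩
  exact LIB48_aux_phi_mem e y

theorem LIB48_aux_map_normal (A : Subgroup LIB48_aux_X)
    (hA : ∀ y : LIB48_aux_X, y ∈ A → ∀ h : LIB48_aux_X, h * y * h⁻¹ ∈ A) :
    P ≤ normalizer ((A.map (LIB48_aux_phi e) : Subgroup G) : Set G) := by
  intro g hg
  obtain ⟨h, rfl⟩ := LIB48_aux_phi_surj e hg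
  have key : ∀ k : LIB48_aux_X, ∀ x : G, x ∈ A.map (LIB48_aux_phi e) →
      LIB48_aux_phi e k * x * (LIB48_aux_phi e k)⁻¹ ∈ A.map (LIB48_aux_phi e) := by
    rintro k x ⟨y, hy, rfl⟩
    rw [← map_inv, ← map_mul, ← map_mul, LIB48_aux_mem_map]
    exact hA y hy k
  rw [Subgroup.mem_normalizer_iff]
  intro x
  refine ⟨key h x, fun hx => ?_⟩
  have := key h⁻¹ _ hx
  rw [map_inv] at this
  simpa [mul_assoc] using this

end transport

theorem LIB48 {G : Type u} [Group G] [Finite G] {P T : Subgroup G} (hT : IsSylowTwoIn T P)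
    (e : Nonempty (↥P ≃* Equiv.Perm (Fin 4) × Multiplicative (ZMod 2))) :
    ∃ (c : G) (Q K V : Subgroup G), B48 P T c Q K V := by
  obtain ⟨e⟩ := e
  set φ := LIB48_aux_phi e with hφ
  have hinj := LIB48_aux_phi_inj e
  have hsurj : ∀ {x : G}, x ∈ P → ∃ y : LIB48_aux_X, φ y = x := fun hx => LIB48_aux_phi_surj e hx
  have hmemP : ∀ y : LIB48_aux_X, φ y ∈ P := LIB48_aux_phi_mem e
  have hmap : ∀ {A : Subgroup LIB48_aux_X} {y : LIB48_aux_X}, φ y ∈ A.map φ ↔ y ∈ A :=
    fun {A y} => LIB48_aux_mem_map e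
  have hone : ∀ {y : LIB48_aux_X}, φ y = 1 ↔ y = 1 := fun {y} => LIB48_aux_phi_eq_one e
  have hcomm : ∀ a b : LIB48_aux_X, φ a * φ b = φ b * φ a ↔ a * b = b * a := by
    intro a b
    rw [← map_mul, ← map_mul]
    exact hinj.eq_iff
  -- the order of `P`
  have hcardP : Nat.card ↥P = 48 := by
    rw [Nat.card_congr e.toEquiv, Nat.card_eq_fintype_card, LIB48_aux_cardX]
  -- the Sylow subgroup
  have : Fact (Nat.Prime 2) := ⟨Nat.prime_two⟩
  have hT2 : IsPGroup 2 ↥(T.subgroupOf P) := hT.2.1.comap_subtype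
  have hidx : ¬ 2 ∣ (T.subgroupOf P).index := by
    have h := hT.2.2
    intro h2
    exact (Nat.not_even_iff_odd.2 h) (even_iff_two_dvd.2 h2)
  let S : Sylow 2 ↥P := hT2.toSylow hidx
  have hS : ∀ x : ↥P, x ∈ S ↔ (x : G) ∈ T := fun x => Iff.rfl
  have hcardT : Nat.card ↥T = 16 := by
    have h1 : Nat.card ↥T = Nat.card ↥(T.subgroupOf P) :=
      (Nat.card_congr (Subgroup.subgroupOfEquivOfLe hT.1).toEquiv).symm
    have h2 := (T.subgroupOf P).index_mul_card
    rw [hcardP] at h2
    obtain ⟨k, hk⟩ := (IsPGroup.iff_card (p := 2)).1 hT2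
    have hodd : Odd (T.subgroupOf P).index := hT.2.2
    obtain ⟨j, hj⟩ := hodd
    rw [h1, hk]
    rw [hk, hj] at h2
    have hk6 : k < 6 := by
      by_contra hcon
      have : 2 ^ 6 ≤ 2 ^ k := Nat.pow_le_pow_right (by norm_num) (by omega)
      nlinarith
    interval_cases k <;> omega
  refine ⟨φ LIB48_aux_c, LIB48_aux_QX.map φ, LIB48_aux_KX.map φ,
    (LIB48_aux_QX ⊓ LIB48_aux_KX).map φ, ?_⟩
  have hQnormal : P ≤ normalizer ((LIB48_aux_QX.map φ : Subgroup G) : Set G) :=
    LIB48_aux_map_normal e _ (fun y hy h => FIN_aux_DF2_u_conj y hy h)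
  have hKnormal : P ≤ normalizer ((LIB48_aux_KX.map φ : Subgroup G) : Set G) :=
    LIB48_aux_map_normal e _ (fun y hy h => LIB48_aux_K_conj y hy h)
  have hVnormal : P ≤ normalizer (((LIB48_aux_QX ⊓ LIB48_aux_KX).map φ : Subgroup G) : Set G) :=
    LIB48_aux_map_normal e _ (fun y hy h =>
      ⟨FIN_aux_DF2_u_conj y hy.1 h, LIB48_aux_K_conj y hy.2 h⟩)
  -- `Q ≤ T`
  have hQT : LIB48_aux_QX.map φ ≤ T := by
    have hQ2 : IsPGroup 2 ↥((LIB48_aux_QX.map φ).subgroupOf P) := by
      have : IsPGroup 2 ↥(LIB48_aux_QX.map φ) := by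
        refine IsPGroup.of_card (n := 3) ?_
        rw [Subgroup.card_map_of_injective hinj, LIB48_aux_card_QX]; norm_num
      exact this.comap_subtype
    have : ((LIB48_aux_QX.map φ).subgroupOf P).Normal :=
      (Subgroup.normal_subgroupOf_iff_le_normalizer (LIB48_aux_map_le e _)).2 hQnormal
    have hle := hQ2.le_sylow_of_normal S
    intro x hx
    have hxP : x ∈ P := LIB48_aux_map_le e _ hx
    exact (hS ⟨x, hxP⟩).1 (hle (Subgroup.mem_subgroupOf.2 hx))
  exact
    { card_P := hcardP
      card_T := hcardT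
      T_le := hT.1
      c_ne := fun h => LIB48_aux_c_ne (hone.1 h)
      c_sq := by rw [← map_mul, LIB48_aux_c_sq, map_one]
      c_central := by
        intro x hx
        obtain ⟨y, rfl⟩ := hsurj hx
        exact (hcomm _ _).2 (LIB48_aux_c_central y)
      center := by
        intro x hx hcen
        obtain ⟨y, rfl⟩ := hsurj hx
        have : FIN_aux_PZX y := fun z => (hcomm _ _).1 (hcen _ (hmemP z))
        rcases LIB48_aux_center y this with h | h
        · left; rw [h, map_one]
        · right; rw [h]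
      Q_le := hQT
      card_Q := by rw [Subgroup.card_map_of_injective hinj, LIB48_aux_card_QX]
      Q_sq := by
        rintro q ⟨y, hy, rfl⟩
        rw [← map_mul, FIN_aux_DF2_u_sq y hy, map_one]
      Q_normal := hQnormal
      Q_cent := by
        intro x hx hcen
        obtain ⟨y, rfl⟩ := hsurj hx
        refine hmap.2 (FIN_aux_DF2_cent_U y ?_)
        intro u hu
        exact (hcomm _ _).1 (hcen _ (hmap.2 hu))
      Q_core := by
        intro D hDP hDn hD2 d hd
        obtain ⟨x, rfl⟩ := hsurj (hDP hd)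
        refine hmap.2 ?_
        by_contra hx
        obtain ⟨y, hy1, hy2⟩ := LIB48_aux_core x hx
        have hw : φ (x * (y * x * y⁻¹)) ∈ D := by
          rw [map_mul]
          refine D.mul_mem hd ?_
          have := (Subgroup.mem_normalizer_iff.1 (hDn (hmemP y)) (φ x)).1 hd
          rwa [← map_inv, ← map_mul, ← map_mul] at this
        obtain ⟨k, hk⟩ := hD2 ⟨_, hw⟩
        have hk' : (x * (y * x * y⁻¹)) ^ 2 ^ k = 1 := by
          have := congrArg Subtype.val hk
          simp only [Subgroup.coe_pow, Subgroup.coe_one] at this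
          rw [← map_pow] at this
          exact hone.1 this
        have h3 : (x * (y * x * y⁻¹)) ^ 3 = 1 := by
          rw [pow_succ, pow_two]; exact hy2
        have hord : orderOf (x * (y * x * y⁻¹)) ∣ Nat.gcd (2 ^ k) 3 :=
          Nat.dvd_gcd (orderOf_dvd_of_pow_eq_one hk') (orderOf_dvd_of_pow_eq_one h3)
        have hg : Nat.gcd (2 ^ k) 3 = 1 := by
          apply Nat.Coprime.pow_left; norm_num
        rw [hg, Nat.dvd_one, orderOf_eq_one_iff] at hord
        exact hy1 hord
      c_mem := hmap.2 LIB48_aux_c_memQ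
      K_eq := by
        apply le_antisymm
        · rintro x ⟨y, hy, rfl⟩
          obtain ⟨a, ha1, ha2⟩ := FIN_aux_DF2_o_gen y hy
          have hodd : ∀ b : LIB48_aux_X, b * b * b = 1 → φ b ∈ oddGen P := by
            intro b hb
            refine Subgroup.subset_closure ⟨hmemP b, ?_⟩
            have h3 : (φ b) ^ 3 = 1 := by
              rw [← map_pow, pow_succ, pow_two, hb, map_one]
            have hdvd := orderOf_dvd_of_pow_eq_one h3
            rcases (Nat.dvd_prime Nat.prime_three).1 hdvd with h | h <;> rw [h] <;> decide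
          have : φ y = φ a * φ (a⁻¹ * y) := by rw [← map_mul]; congr 1; group
          rw [this]
          exact (oddGen P).mul_mem (hodd a ha1) (hodd _ ha2)
        · rw [oddGen, Subgroup.closure_le]
          rintro g ⟨hgP, hgodd⟩
          obtain ⟨y, rfl⟩ := hsurj hgP
          refine hmap.2 ?_
          obtain ⟨m, hm⟩ := hgodd
          have hy : y = y ^ (m + 1) * y ^ (m + 1) := by
            have h1 : y ^ (2 * m + 1) = 1 := by
              have : φ (y ^ (2 * m + 1)) = 1 := by
                rw [map_pow, ← hm, pow_orderOf_eq_one]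
              exact hone.1 this
            calc y = y ^ (2 * m + 1) * y := by rw [h1, one_mul]
              _ = y ^ (m + 1) * y ^ (m + 1) := by rw [← pow_succ, ← pow_add]; congr 1; omega
          rw [LIB48_aux_mem_KX, hy]
          exact LIB48_aux_sqK _
      K_le := LIB48_aux_map_le e _
      card_K := by rw [Subgroup.card_map_of_injective hinj, LIB48_aux_card_KX]
      K_normal := hKnormal
      c_not_mem := fun h => LIB48_aux_c_notK (hmap.1 h)
      V_eq := Subgroup.map_inf _ _ _ hinj
      card_V := by rw [Subgroup.card_map_of_injective hinj, LIB48_aux_card_VX]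
      V_normal := hVnormal
      Q_cover := by
        rintro q ⟨y, hy, rfl⟩
        rcases LIB48_aux_cover y hy with h | h
        · left; exact hmap.2 ⟨hy, h⟩
        · right
          rw [← map_mul]
          exact hmap.2 ⟨FIN_aux_DF2_u_mul _ LIB48_aux_c_memQ _ hy, h⟩
      K_trans := by
        rintro v ⟨a, ha, rfl⟩ w ⟨b, hb, rfl⟩ hv hw
        obtain ⟨k, hk1, hk2⟩ := LIB48_aux_trans a ⟨ha.1, ha.2, fun h => hv (by rw [h, map_one])⟩ b
          ⟨hb.1, hb.2, fun h => hw (by rw [h, map_one])⟩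
        exact ⟨φ k, hmap.2 hk1, by rw [← map_inv, ← map_mul, ← map_mul, hk2]⟩
      sq_mem := by
        intro y hy h4
        obtain ⟨x, rfl⟩ := hsurj hy
        have hx4 : x * x * (x * x) = 1 := by
          have : φ (x ^ 4) = 1 := by rw [map_pow]; exact h4
          have := hone.1 this
          rw [← this]; simp only [pow_succ, pow_zero, one_mul, mul_assoc]
        have := LIB48_aux_sq x hx4
        rw [← map_pow, pow_two]
        exact hmap.2 ⟨this.1, this.2⟩
      cent_V := by
        rintro v ⟨a, ha, rfl⟩ hv hTv x hx hxv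
        -- `C_P(v)` is a 2-group containing `T`
        let C : Subgroup ↥P := (centralizer ({φ a} : Set G)).subgroupOf P
        have hC2 : IsPGroup 2 ↥C := by
          rintro ⟨⟨g, hgP⟩, hg⟩
          obtain ⟨y, rfl⟩ := hsurj hgP
          have hgc : φ a * φ y = φ y * φ a := by
            have := Subgroup.mem_centralizer_iff.1 (Subgroup.mem_subgroupOf.1 hg) (φ a) rfl
            exact this
          have hyv : y * a = a * y := ((hcomm _ _).1 hgc).symm
          have h4 := LIB48_aux_centV a ⟨ha.1, ha.2, fun h => hv (by rw [h, map_one])⟩ y hyv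
          refine ⟨2, ?_⟩
          apply Subtype.ext
          apply Subtype.ext
          simp only [Subgroup.coe_pow, Subgroup.coe_one]
          rw [← map_pow]
          refine hone.2 ?_
          rw [show (2 : ℕ) ^ 2 = 2 + 2 from rfl, pow_add, pow_two]; exact h4
        have hSC : (S : Subgroup ↥P) ≤ C := by
          intro t ht
          refine Subgroup.mem_subgroupOf.2 (Subgroup.mem_centralizer_iff.2 ?_)
          rintro _ rfl
          exact (hTv _ ((hS t).1 ht)).symm
        have hCS : C = S := S.is_maximal' hC2 hSC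
        have hxC : (⟨x, hx⟩ : ↥P) ∈ C := by
          refine Subgroup.mem_subgroupOf.2 (Subgroup.mem_centralizer_iff.2 ?_)
          rintro _ rfl
          exact hxv.symm
        rw [hCS] at hxC
        exact (hS _).1 hxC
      compl := by
        intro R hRP hcR hcardR
        -- the projection of `R` to `Perm (Fin 4)`
        let ψ : ↥R →* Equiv.Perm (Fin 4) :=
          (MonoidHom.fst _ _).comp (e.toMonoidHom.comp (Subgroup.inclusion hRP))
        have hψinj : Function.Injective ψ := by
          rw [injective_iff_map_eq_one]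
          intro r hr
          have h1 : (e (Subgroup.inclusion hRP r)).1 = 1 := hr
          rcases LIB48_aux_fst _ h1 with h | h
          · have : Subgroup.inclusion hRP r = 1 := by
              rw [← e.map_one] at h; exact e.injective h
            exact Subgroup.inclusion_injective hRP (by rw [this, map_one])
          · exfalso
            apply hcR
            have : (Subgroup.inclusion hRP r : ↥P) = e.symm LIB48_aux_c := by
              rw [← h, MulEquiv.symm_apply_apply]
            have h2 : (r : G) = φ LIB48_aux_c := by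
              have := congrArg Subtype.val this
              exact this
            rw [← h2]; exact r.2
        have hcard : Nat.card ↥R = Nat.card (Equiv.Perm (Fin 4)) := by
          rw [hcardR, Nat.card_eq_fintype_card, Fintype.card_perm, Fintype.card_fin]; rfl
        have hbij : Function.Bijective ψ :=
          (Nat.bijective_iff_injective_and_card ψ).2 ⟨hψinj, hcard⟩
        exact ⟨MulEquiv.ofBijective ψ hbij⟩ }

end Cfsg.Agent.S0518P
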