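import Mathlib

/-! S1666 piece PARAM: a strongly regular graph with `n = 100`, `k = 22` has `ℓ = 0`, `μ = 6`
(integrality of the eigenvalue multiplicities). -/

set_option autoImplicit false

namespace Cfsg.Agent.S1666P

namespace PARAM

open Matrix

variable {V : Type*} [Fintype V] [DecidableEq V]

/-- `α • 1 + β • A + γ • J` -/
def comb (A J : Matrix V V ℝ) (α β γ : ℝ) : Matrix V V ℝ := α • (1 : Matrix V V ℝ) + β • A + γ • J

theorem comb_mul (A J : Matrix V V ℝ) (a b c k n : ℝ)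
    (hAA : A * A = b • (1 : Matrix V V ℝ) + a • A + c • J)
    (hAJ : A * J = k • J) (hJA : J * A = k • J) (hJJ : J * J = n • J)
    (α β γ α' β' γ' : ℝ) :
    comb A J α β γ * comb A J α' β' γ' =
      comb A J (α * α' + β * β' * b) (α * β' + β * α' + β * β' * a)
        (α * γ' + γ * α' + (β * γ' + γ * β') * k + γ * γ' * n + β * β' * c) := by
  unfold comb
  simp only [add_mul, mul_add, smul_mul_assoc, mul_smul_comm, Matrix.one_mul, Matrix.mul_one,
    hAA, hAJ, hJA, hJJ, smul_add, smul_smul]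
  module

theorem trace_comb (A J : Matrix V V ℝ) (n : ℝ) (hA : A.trace = 0) (hJ : J.trace = n)
    (h1 : (1 : Matrix V V ℝ).trace = n) (α β γ : ℝ) :
    (comb A J α β γ).trace = α * n + γ * n := by
  unfold comb
  rw [Matrix.trace_add, Matrix.trace_add, Matrix.trace_smul, Matrix.trace_smul, Matrix.trace_smul,
    hA, hJ, h1]
  simp

/-- the trace of an idempotent real matrix is a natural number -/
theorem trace_idem (E : Matrix V V ℝ) (hE : E * E = E) : ∃ f : ℕ, E.trace = f := by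
  have hidem : IsIdempotentElem (Matrix.toLin' E) := by
    unfold IsIdempotentElem
    rw [Module.End.mul_eq_comp, ← Matrix.toLin'_mul, hE]
  have hproj := LinearMap.IsIdempotentElem.isProj_range _ hidem
  refine ⟨Module.finrank ℝ (LinearMap.range (Matrix.toLin' E)), ?_⟩
  rw [← Matrix.trace_toLin'_eq]
  exact hproj.trace

/-- an idempotent combination has a natural trace -/
theorem trace_of_idem (A J : Matrix V V ℝ) (a b c k n : ℝ)
    (hAA : A * A = b • (1 : Matrix V V ℝ) + a • A + c • J)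
    (hAJ : A * J = k • J) (hJA : J * A = k • J) (hJJ : J * J = n • J)
    (hA : A.trace = 0) (hJ : J.trace = n) (h1 : (1 : Matrix V V ℝ).trace = n)
    (α β γ : ℝ) (h₁ : α * α + β * β * b = α) (h₂ : α * β + β * α + β * β * a = β)
    (h₃ : α * γ + γ * α + (β * γ + γ * β) * k + γ * γ * n + β * β * c = γ) :
    ∃ f : ℕ, α * n + γ * n = f := by
  have hE : comb A J α β γ * comb A J α β γ = comb A J α β γ := by
    rw [comb_mul A J a b c k n hAA hAJ hJA hJJ, h₁, h₂, h₃]
  obtain ⟨f, hf⟩ := trace_idem _ hE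
  exact ⟨f, by rw [← hf, trace_comb A J n hA hJ h1]⟩

end PARAM

open PARAM in
theorem srg_100_22_params {V : Type*} [Fintype V] (Γ : SimpleGraph V) [DecidableRel Γ.Adj]
    (ℓ μ : ℕ) (h : Γ.IsSRGWith 100 22 ℓ μ) : ℓ = 0 ∧ μ = 6 := by
  classical
  obtain ⟨A, hAdef⟩ : ∃ A : Matrix V V ℝ, A = Γ.adjMatrix ℝ := ⟨_, rfl⟩
  obtain ⟨J, hJdef⟩ : ∃ J : Matrix V V ℝ, J = Matrix.of 1 := ⟨_, rfl⟩
  have hcard : Fintype.card V = 100 := h.card
  have hne : Nonempty V := by
    rw [← Fintype.card_pos_iff, hcard]; norm_num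
  obtain ⟨x₀⟩ := hne
  have hJ_apply : ∀ x y, J x y = 1 := by
    intro x y; rw [hJdef]; rfl
  -- the basic relations
  have hAJ : A * J = (22 : ℝ) • J := by
    ext x y
    rw [hAdef, SimpleGraph.adjMatrix_mul_apply, Matrix.smul_apply, hJ_apply, smul_eq_mul, mul_one]
    simp only [hJ_apply, Finset.sum_const, nsmul_eq_mul, mul_one]
    rw [SimpleGraph.card_neighborFinset_eq_degree, h.regular x]
    norm_num
  have hJA : J * A = (22 : ℝ) • J := by
    ext x y
    rw [hAdef, SimpleGraph.mul_adjMatrix_apply, Matrix.smul_apply, hJ_apply, smul_eq_mul, mul_one]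
    simp only [hJ_apply, Finset.sum_const, nsmul_eq_mul, mul_one]
    rw [SimpleGraph.card_neighborFinset_eq_degree, h.regular y]
    norm_num
  have hJJ : J * J = (100 : ℝ) • J := by
    ext x y
    rw [Matrix.mul_apply, Matrix.smul_apply, hJ_apply, smul_eq_mul, mul_one]
    simp only [hJ_apply, mul_one, Finset.sum_const, Finset.card_univ, hcard, nsmul_eq_mul]
    norm_num
  have hAtr : A.trace = 0 := by rw [hAdef]; exact SimpleGraph.trace_adjMatrix ℝ Γ
  have h1tr : (1 : Matrix V V ℝ).trace = 100 := by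
    rw [Matrix.trace_one, hcard]; norm_num
  have hJtr : J.trace = 100 := by
    rw [Matrix.trace]
    simp only [Matrix.diag_apply, hJ_apply, Finset.sum_const, Finset.card_univ, hcard,
      nsmul_eq_mul, mul_one]
    norm_num
  have hcompl : Γᶜ.adjMatrix ℝ = J - 1 - A := by
    have h1 := SimpleGraph.one_add_adjMatrix_add_compl_adjMatrix_eq_of_one (G := Γ) (α := ℝ)
    rw [SimpleGraph.compl_adjMatrix_eq_adjMatrix_compl] at h1
    rw [hJdef, hAdef, ← h1]
    abel
  have hAA : A * A = ((22 : ℝ) - μ) • (1 : Matrix V V ℝ) + ((ℓ : ℝ) - μ) • A + (μ : ℝ) • J := by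
    have h2 := h.matrix_eq (α := ℝ)
    rw [hcompl, ← hAdef, pow_two] at h2
    rw [h2, ← Nat.cast_smul_eq_nsmul ℝ 22, ← Nat.cast_smul_eq_nsmul ℝ ℓ,
      ← Nat.cast_smul_eq_nsmul ℝ μ]
    push_cast
    module
  -- the parameter equation
  have hparam : 2 * ℓ + 7 * μ = 42 := by
    have h3 : A * A * J = (484 : ℝ) • J := by
      rw [Matrix.mul_assoc, hAJ, Matrix.mul_smul, hAJ, smul_smul]
      norm_num
    rw [hAA] at h3
    simp only [add_mul, smul_mul_assoc, Matrix.one_mul, hAJ, hJJ, smul_smul] at h3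
    have h4 := congrFun (congrFun h3 x₀) x₀
    simp only [Matrix.add_apply, Matrix.smul_apply, hJ_apply, smul_eq_mul, mul_one] at h4
    have h5 : (2 * ℓ + 7 * μ : ℝ) = 42 := by linarith
    exact_mod_cast h5
  have key := fun (α β γ : ℝ) => trace_of_idem A J ((ℓ : ℝ) - μ) ((22 : ℝ) - μ) (μ : ℝ) 22 100
    hAA hAJ hJA hJJ hAtr hJtr h1tr α β γ
  have hcases : (ℓ = 21 ∧ μ = 0) ∨ (ℓ = 14 ∧ μ = 2) ∨ (ℓ = 7 ∧ μ = 4) ∨ (ℓ = 0 ∧ μ = 6) := by
    omega
  rcases hcases with ⟨hl, hm⟩ | ⟨hl, hm⟩ | ⟨hl, hm⟩ | ⟨hl, hm⟩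
  · exfalso
    subst hl hm
    obtain ⟨f, hf⟩ := key (1 / 23) (1 / 23) 0 (by norm_num) (by norm_num) (by norm_num)
    have h6 : (23 * f : ℝ) = 100 := by linarith
    have h7 : 23 * f = 100 := by exact_mod_cast h6
    omega
  · exfalso
    subst hl hm
    obtain ⟨s, hs⟩ : ∃ s : ℝ, s * s = 56 := ⟨Real.sqrt 56, Real.mul_self_sqrt (by norm_num)⟩
    obtain ⟨f, hf⟩ := key (1 / 2 - 3 * s / 56) (s / 112) (-(7 + 2 * s) / 1400)
      (by push_cast; linear_combination (1 / 224 : ℝ) * hs)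
      (by push_cast; linear_combination (0 : ℝ) * hs)
      (by push_cast; linear_combination (-1 / 22400 : ℝ) * hs)
    have h6 : (99 - 2 * (f : ℝ)) = 11 * s := by linarith
    have h7 : (99 - 2 * (f : ℝ)) ^ 2 = 6776 := by
      rw [h6]
      linear_combination (121 : ℝ) * hs
    have h8 : (99 - 2 * (f : ℤ)) ^ 2 = 6776 := by exact_mod_cast h7
    obtain ⟨z, hz⟩ : ∃ z : ℤ, z = 99 - 2 * (f : ℤ) := ⟨_, rfl⟩
    rw [← hz] at h8
    rcases le_or_gt z 82 with h9 | h9
    · rcases le_or_gt (-82) z with h10 | h10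
      · nlinarith
      · nlinarith
    · nlinarith
  · exfalso
    subst hl hm
    obtain ⟨f, hf⟩ := key (1 / 3) (1 / 9) (-1 / 36) (by norm_num) (by norm_num) (by norm_num)
    have h6 : (9 * f : ℝ) = 275 := by linarith
    have h7 : 9 * f = 275 := by exact_mod_cast h6
    omega
  · exact ⟨hl, hm⟩

end Cfsg.Agent.S1666P
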