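import Cfsg.Agent.Helper28.S2258Defs

/-! S2258 piece CONJINV (driver helper28): `solCount` is a class function. -/

set_option autoImplicit false

namespace Cfsg.Agent.S2258P

variable {F : Type*} [Field F]

local notation "SF" => Matrix.SpecialLinearGroup (Fin 2) F
local notation "PF" => Matrix.ProjectiveSpecialLinearGroup (Fin 2) F

namespace CONJINV

/-- conjugating both generators gives an isomorphic subgroup -/
theorem closure_conj {G : Type*} [Group G] (g x y : G) :
    Subgroup.closure ({g * x * g⁻¹, g * y * g⁻¹} : Set G)
      = (Subgroup.closure ({x, y} : Set G)).map (MulAut.conj g).toMonoidHom := by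
  rw [MonoidHom.map_closure]
  congr 1
  ext z
  simp only [Set.mem_insert_iff, Set.mem_singleton_iff, Set.mem_image]
  constructor
  · rintro (rfl | rfl)
    · exact ⟨x, Or.inl rfl, by simp [MulAut.conj_apply]⟩
    · exact ⟨y, Or.inr rfl, by simp [MulAut.conj_apply]⟩
  · rintro ⟨w, rfl | rfl, rfl⟩
    · left; simp [MulAut.conj_apply]
    · right; simp [MulAut.conj_apply]

theorem solvable_conj_iff {G : Type*} [Group G] (g x y : G) :
    Group.IsSolvable ↥(Subgroup.closure ({g * x * g⁻¹, g * y * g⁻¹} : Set G)) ↔
      Group.IsSolvable ↥(Subgroup.closure ({x, y} : Set G)) := by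
  rw [closure_conj]
  have e : ↥(Subgroup.closure ({x, y} : Set G)) ≃*
      ↥((Subgroup.closure ({x, y} : Set G)).map (MulAut.conj g).toMonoidHom) :=
    (Subgroup.closure ({x, y} : Set G)).equivMapOfInjective _ (MulAut.conj g).injective
  constructor
  · intro hs
    exact Group.isSolvable_of_isSolvable_injective (f := e.toMonoidHom) e.injective
  · intro hs
    exact Group.isSolvable_of_isSolvable_injective (f := e.symm.toMonoidHom) e.symm.injective

end CONJINV

/-- CONJINV (S–M). -/
theorem solCount_conj (g x : PF) : solCount (g * x * g⁻¹) = solCount x := by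
  unfold solCount
  apply Nat.card_congr
  refine
    { toFun := fun y => ⟨g⁻¹ * y.1 * g, ?_⟩
      invFun := fun y => ⟨g * y.1 * g⁻¹, ?_⟩
      left_inv := fun y => Subtype.ext (by simp only; group)
      right_inv := fun y => Subtype.ext (by simp only; group) }
  · have := y.2
    have h1 : y.1 = g * (g⁻¹ * y.1 * g) * g⁻¹ := by group
    rw [h1] at this
    exact (CONJINV.solvable_conj_iff g x (g⁻¹ * y.1 * g)).1 this
  · exact (CONJINV.solvable_conj_iff g x y.1).2 y.2

end Cfsg.Agent.S2258P
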