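import Cfsg.Agent.Helper28.S2258Defs

/-! S2258 piece DISJ1 (driver helper28): the two parts of `P1` are disjoint. -/

set_option autoImplicit false

namespace Cfsg.Agent.S2258P

open Cfsg.Agent.Helper18.Dickson

variable {F : Type*} [Field F] [Fintype F] {p : ℕ}

local notation "SF" => Matrix.SpecialLinearGroup (Fin 2) F
local notation "MF" => Matrix (Fin 2) (Fin 2) F

/-- DISJ1 (S). -/
theorem disj1 (h : Hyp F p) (Y : SF) : ¬ (P1a Y ∧ P1b Y) := by
  rintro ⟨ha, hb1, hb2⟩
  have h2 := h.two_ne_zero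
  have hdet := det_eq Y
  rcases ha with ⟨h1, h1'⟩ | h1 | h1
  · rw [h1'] at hb1 hdet
    rw [h1] at hb2 hdet
    apply h2
    linear_combination hb1 + hb2 - 4 * hdet
  · rw [h1] at hb1
    simp at hb1
  · rw [h1] at hb2
    simp at hb2

end Cfsg.Agent.S2258P
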