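import Cfsg.Agent.Helper28.S2258Defs
import Cfsg.Agent.Helper18.Dickson45
import Cfsg.Agent.Helper20.S2258DIH
import Cfsg.Agent.Helper20.S2258DICT
import Cfsg.Agent.Helper20.S2258TYPES
import Cfsg.Agent.Helper19.S2258A4L

/-! S2258 piece STRUCT1 (driver helper28): `⟨π (cM 0), π Y⟩` proper ⇒ `P1 Y`. -/

set_option autoImplicit false

namespace Cfsg.Agent.S2258P

open Cfsg.Agent.Helper18.Dickson

variable {F : Type*} [Field F] [Fintype F] {p : ℕ}

local notation "SF" => Matrix.SpecialLinearGroup (Fin 2) F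
local notation "MF" => Matrix (Fin 2) (Fin 2) F
local notation "PF" => Matrix.ProjectiveSpecialLinearGroup (Fin 2) F
local notation "π" => QuotientGroup.mk' (Subgroup.center SF)

namespace STRUCT1

omit [Fintype F] in
theorem cM_zero_mul (Y : SF) :
    ((cM 0 * Y : SF) : MF) = !![-(Y : MF) 1 0, -(Y : MF) 1 1; (Y : MF) 0 0, (Y : MF) 0 1] := by
  rw [Matrix.SpecialLinearGroup.coe_mul, cM_coe]
  ext i j
  fin_cases i <;> fin_cases j <;> simp [Matrix.mul_apply, Fin.sum_univ_two]

omit [Fintype F] in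
theorem mul_cM_zero (Y : SF) :
    ((Y * cM 0 : SF) : MF) = !![(Y : MF) 0 1, -(Y : MF) 0 0; (Y : MF) 1 1, -(Y : MF) 1 0] := by
  rw [Matrix.SpecialLinearGroup.coe_mul, cM_coe]
  ext i j
  fin_cases i <;> fin_cases j <;> simp [Matrix.mul_apply, Fin.sum_univ_two]

omit [Fintype F] in
theorem cM_zero_sq : (cM 0 * cM 0 : SF) = -1 := by
  apply Subtype.ext
  rw [cM_zero_mul, cM_coe]
  ext i j
  fin_cases i <;> fin_cases j <;> simp


omit [Fintype F] in
theorem l00 (Y : SF) : ((cM 0 * Y : SF) : MF) 0 0 = -(Y : MF) 1 0 := by rw [cM_zero_mul]; rfl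
omit [Fintype F] in
theorem l01 (Y : SF) : ((cM 0 * Y : SF) : MF) 0 1 = -(Y : MF) 1 1 := by rw [cM_zero_mul]; rfl
omit [Fintype F] in
theorem l10 (Y : SF) : ((cM 0 * Y : SF) : MF) 1 0 = (Y : MF) 0 0 := by rw [cM_zero_mul]; rfl
omit [Fintype F] in
theorem l11 (Y : SF) : ((cM 0 * Y : SF) : MF) 1 1 = (Y : MF) 0 1 := by rw [cM_zero_mul]; rfl
omit [Fintype F] in
theorem r00 (Y : SF) : ((Y * cM 0 : SF) : MF) 0 0 = (Y : MF) 0 1 := by rw [mul_cM_zero]; rfl
omit [Fintype F] in
theorem r01 (Y : SF) : ((Y * cM 0 : SF) : MF) 0 1 = -(Y : MF) 0 0 := by rw [mul_cM_zero]; rfl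
omit [Fintype F] in
theorem one00 : ((1 : SF) : MF) 0 0 = 1 := by simp
omit [Fintype F] in
theorem one01 : ((1 : SF) : MF) 0 1 = 0 := by simp
omit [Fintype F] in
theorem one10 : ((1 : SF) : MF) 1 0 = 0 := by simp
omit [Fintype F] in
theorem one11 : ((1 : SF) : MF) 1 1 = 1 := by simp

omit [Fintype F] in
/-- entries of an equation in `SL₂` -/
theorem entries {A B : SF} (hAB : A = B) (i j : Fin 2) : (A : MF) i j = (B : MF) i j := by
  rw [hAB]

omit [Fintype F] in
theorem neg_apply' (A : SF) (i j : Fin 2) : ((-A : SF) : MF) i j = -(A : MF) i j := by simp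

/-- pull back a relation through an isomorphism out of a subgroup -/
theorem pull {G X : Type*} [Group G] [Group X] (H : Subgroup G) (e : H ≃* X) {u v : H}
    (huv : e u = e v) : (u : G) = v := by
  exact congrArg Subtype.val (e.injective huv)

end STRUCT1

open STRUCT1 in
/-- STRUCT1 (L; TYPES, DIH, A4L, DICT). -/
theorem struct1 (h : Hyp F p) (Y : SF)
    (hne : Subgroup.closure ({π (cM 0), π Y} : Set PF) ≠ ⊤) : P1 Y := by
  have h2 := h.two_ne_zero
  have h3 := h.three_eq_zero
  set x : PF := π (cM 0) with hx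
  set y : PF := π Y with hy
  set H := Subgroup.closure ({x, y} : Set PF) with hH
  have hxH : x ∈ H := Subgroup.subset_closure (by simp)
  have hyH : y ∈ H := Subgroup.subset_closure (by simp)
  have hxy : x * y = π (cM 0 * Y) := by rw [hx, hy, map_mul]
  have hx2 : x ^ 2 = 1 := by
    rw [hx, ← map_pow, pow_two, cM_zero_sq, mk_neg, map_one]
  -- translations
  have key_comm : x * y = y * x → P1 Y := by
    intro hc
    rcases (mk_comm_iff (cM 0) Y).1 hc with hc | hc
    · have e00 := entries hc 0 0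
      have e01 := entries hc 0 1
      rw [l00, r00] at e00
      rw [l01, r01] at e01
      exact Or.inl (Or.inl ⟨by linear_combination -e00, by linear_combination -e01⟩)
    · have e00 := entries hc 0 0
      rw [neg_apply', l00, r00] at e00
      exact Or.inl (Or.inr (Or.inr (by linear_combination e00)))
  have key_ysq : y ^ 2 = 1 → P1 Y := by
    intro hc
    rcases (mk_sq_eq_one_iff h2 Y).1 hc with hc | hc | hc
    · rw [hc]
      exact Or.inl (Or.inl ⟨by rw [one10, one01, neg_zero], by rw [one11, one00]⟩)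
    · rw [hc]
      exact Or.inl (Or.inl ⟨by rw [neg_apply', neg_apply', one10, one01]; simp, by
        rw [neg_apply', neg_apply', one11, one00]⟩)
    · exact Or.inl (Or.inr (Or.inl (by unfold tr at hc; linear_combination hc)))
  have key_xysq : (x * y) ^ 2 = 1 → P1 Y := by
    intro hc
    rw [hxy] at hc
    rcases (mk_sq_eq_one_iff h2 (cM 0 * Y)).1 hc with hc | hc | hc
    · have e00 := entries hc 0 0
      have e01 := entries hc 0 1
      have e10 := entries hc 1 0
      have e11 := entries hc 1 1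
      rw [l00, one00] at e00
      rw [l01, one01] at e01
      rw [l10, one10] at e10
      rw [l11, one11] at e11
      exact Or.inl (Or.inl ⟨by linear_combination -e00 + e11, by linear_combination -e01 - e10⟩)
    · have e00 := entries hc 0 0
      have e01 := entries hc 0 1
      have e10 := entries hc 1 0
      have e11 := entries hc 1 1
      rw [neg_apply', l00, one00] at e00
      rw [neg_apply', l01, one01] at e01
      rw [neg_apply', l10, one10] at e10
      rw [neg_apply', l11, one11] at e11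
      exact Or.inl (Or.inl ⟨by linear_combination -e00 + e11, by linear_combination -e01 - e10⟩)
    · unfold tr at hc
      rw [l00, l11] at hc
      exact Or.inl (Or.inr (Or.inr (by linear_combination hc)))
  have key_cube : y ^ 3 = 1 → (x * y) ^ 3 = 1 → P1 Y := by
    intro hc1 hc2
    rw [hxy] at hc2
    have t1 := (mk_cube_eq_one_iff h3 Y).1 hc1
    have t2 := (mk_cube_eq_one_iff h3 (cM 0 * Y)).1 hc2
    unfold tr at t1 t2
    rw [l00, l11] at t2
    exact Or.inr ⟨t1, by linear_combination t2⟩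
  rcases types h H hne with ⟨hc, -⟩ | ⟨k, -, ⟨e⟩⟩ | ⟨⟨e⟩⟩ | ⟨g0, hg0⟩
  · -- cyclic
    apply key_comm
    obtain ⟨g, hg⟩ := hc.exists_generator
    obtain ⟨i, hi⟩ := Subgroup.mem_zpowers_iff.1 (hg ⟨x, hxH⟩)
    obtain ⟨j, hj⟩ := Subgroup.mem_zpowers_iff.1 (hg ⟨y, hyH⟩)
    have : (⟨x, hxH⟩ : H) * ⟨y, hyH⟩ = ⟨y, hyH⟩ * ⟨x, hxH⟩ := by
      rw [← hi, ← hj, ← zpow_add, ← zpow_add, add_comm]
    exact congrArg Subtype.val this
  · -- dihedral
    set a := e ⟨x, hxH⟩ with ha
    set b := e ⟨y, hyH⟩ with hb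
    have ha2 : a ^ 2 = 1 := by
      rw [ha, ← map_pow]
      have : (⟨x, hxH⟩ : H) ^ 2 = 1 := Subtype.ext (by simpa using hx2)
      rw [this, map_one]
    rcases dih_invol k a b ha2 with hc | hc | hc
    · apply key_comm
      have : e (⟨x, hxH⟩ * ⟨y, hyH⟩) = e (⟨y, hyH⟩ * ⟨x, hxH⟩) := by
        rw [map_mul, map_mul]; exact hc
      exact pull H e this
    · apply key_ysq
      have : e (⟨y, hyH⟩ ^ 2) = e 1 := by rw [map_pow, map_one]; exact hc
      have := pull H e this
      simpa using this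
    · apply key_xysq
      have : e ((⟨x, hxH⟩ * ⟨y, hyH⟩) ^ 2) = e 1 := by rw [map_pow, map_mul, map_one]; exact hc
      have := pull H e this
      simpa using this
  · -- A4
    set a := e ⟨x, hxH⟩ with ha
    set b := e ⟨y, hyH⟩ with hb
    have ha2 : a ^ 2 = 1 := by
      rw [ha, ← map_pow]
      have : (⟨x, hxH⟩ : H) ^ 2 = 1 := Subtype.ext (by simpa using hx2)
      rw [this, map_one]
    rcases a4_invol a b ha2 with hc | ⟨hc1, hc2⟩
    · apply key_comm
      have : e (⟨x, hxH⟩ * ⟨y, hyH⟩) = e (⟨y, hyH⟩ * ⟨x, hxH⟩) := by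
        rw [map_mul, map_mul]; exact hc
      exact pull H e this
    · apply key_cube
      · have : e (⟨y, hyH⟩ ^ 3) = e 1 := by rw [map_pow, map_one]; exact hc1
        have := pull H e this
        simpa using this
      · have : e ((⟨x, hxH⟩ * ⟨y, hyH⟩) ^ 3) = e 1 := by
          rw [map_pow, map_mul, map_one]; exact hc2
        have := pull H e this
        simpa using this
  · -- Borel: impossible
    exfalso
    have hmem : cM 0 ∈ H.comap π := by
      rw [Subgroup.mem_comap]; exact hxH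
    have hz := hg0 (cM 0) hmem
    set Z : SF := g0 * cM 0 * g0⁻¹ with hZ
    have hZZ : Z * Z = -1 := by
      rw [hZ]
      have : g0 * cM 0 * g0⁻¹ * (g0 * cM 0 * g0⁻¹) = g0 * (cM 0 * cM 0) * g0⁻¹ := by group
      rw [this, cM_zero_sq]
      simp
    have e00 := entries hZZ 0 0
    rw [Matrix.SpecialLinearGroup.coe_mul, Matrix.mul_apply, Fin.sum_univ_two, hz] at e00
    simp at e00
    exact h.not_isSquare_neg_one ⟨(Z : MF) 0 0, by rw [← e00]⟩
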