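import Cfsg.Agent.Helper28.S2258STRUCT4

/-! S2258 piece STRUCT3 (driver helper28): `⟨π (dM t), π Y⟩` proper ⇒ `P3 Y`. -/

set_option autoImplicit false

namespace Cfsg.Agent.S2258P

open Cfsg.Agent.Helper18.Dickson

variable {F : Type*} [Field F] [Fintype F] {p : ℕ}

local notation "SF" => Matrix.SpecialLinearGroup (Fin 2) F
local notation "MF" => Matrix (Fin 2) (Fin 2) F
local notation "PF" => Matrix.ProjectiveSpecialLinearGroup (Fin 2) F
local notation "π" => QuotientGroup.mk' (Subgroup.center SF)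

namespace STRUCT3

omit [Fintype F] in
/-- the lower-left entry of a conjugate -/
theorem conj10 (g A : SF) : ((g * A * g⁻¹ : SF) : MF) 1 0 =
    (g : MF) 1 0 * (g : MF) 1 1 * ((A : MF) 0 0 - (A : MF) 1 1) - (g : MF) 1 0 ^ 2 * (A : MF) 0 1 +
      (g : MF) 1 1 ^ 2 * (A : MF) 1 0 := by
  rw [mul_inv_entries, Matrix.eta_fin_two (g : MF), Matrix.eta_fin_two (A : MF)]
  simp only [Matrix.mul_fin_two, Matrix.of_apply, Matrix.cons_val', Matrix.cons_val_zero,
    Matrix.cons_val_one, Matrix.empty_val', Matrix.cons_val_fin_one]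
  ring

omit [Fintype F] in
theorem mul_dM (Y : SF) (t : F) (ht : t ≠ 0) :
    ((Y * dM t ht : SF) : MF) =
      !![(Y : MF) 0 0 * t, (Y : MF) 0 1 * t⁻¹; (Y : MF) 1 0 * t, (Y : MF) 1 1 * t⁻¹] := by
  rw [Matrix.SpecialLinearGroup.coe_mul, dM_coe]
  ext i j
  fin_cases i <;> fin_cases j <;> simp [Matrix.mul_apply, Fin.sum_univ_two]

omit [Fintype F] in
theorem dM_mul (Y : SF) (t : F) (ht : t ≠ 0) :
    ((dM t ht * Y : SF) : MF) =
      !![t * (Y : MF) 0 0, t * (Y : MF) 0 1; t⁻¹ * (Y : MF) 1 0, t⁻¹ * (Y : MF) 1 1] := by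
  rw [Matrix.SpecialLinearGroup.coe_mul, dM_coe]
  ext i j
  fin_cases i <;> fin_cases j <;> simp [Matrix.mul_apply, Fin.sum_univ_two]

omit [Fintype F] in
theorem dM_inv (t : F) (ht : t ≠ 0) : (dM t ht)⁻¹ = dM t⁻¹ (inv_ne_zero ht) := by
  apply Subtype.ext
  rw [Matrix.SpecialLinearGroup.coe_inv, Matrix.adjugate_fin_two, dM_coe, dM_coe]
  ext i j
  fin_cases i <;> fin_cases j <;> simp

omit [Fintype F] in
theorem tr_dM (t : F) (ht : t ≠ 0) : tr (dM t ht) = t + t⁻¹ := by
  unfold tr
  rw [dM_coe]; simp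

omit [Fintype F] in
/-- entries of an equation in `SL₂` -/
theorem entries {A B : SF} (hAB : A = B) (i j : Fin 2) : (A : MF) i j = (B : MF) i j := by
  rw [hAB]

omit [Fintype F] in
theorem neg_apply' (A : SF) (i j : Fin 2) : ((-A : SF) : MF) i j = -(A : MF) i j := by simp

end STRUCT3

open STRUCT3 STRUCT4 in
/-- STRUCT3 (L; TYPES, DIH, DICT). -/
theorem struct3 (h : Hyp F p) (t : F) (ht : t ≠ 0) (ht4 : t ^ 4 ≠ 1) (Y : SF)
    (hne : Subgroup.closure ({π (dM t ht), π Y} : Set PF) ≠ ⊤) : P3 Y := by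
  have h2 := h.two_ne_zero
  have h3 := h.three_eq_zero
  set x : PF := π (dM t ht) with hx
  set y : PF := π Y with hy
  set H := Subgroup.closure ({x, y} : Set PF) with hH
  have hxH : x ∈ H := Subgroup.subset_closure (by simp)
  have hyH : y ∈ H := Subgroup.subset_closure (by simp)
  have hti : t * t⁻¹ = 1 := mul_inv_cancel₀ ht
  have ht2 : t ^ 2 ≠ 1 := by
    intro hc
    apply ht4
    calc t ^ 4 = (t ^ 2) ^ 2 := by ring
      _ = 1 := by rw [hc]; ring
  have hdiff : t - t⁻¹ ≠ 0 := by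
    intro hc
    apply ht2
    have : t = t⁻¹ := sub_eq_zero.1 hc
    calc t ^ 2 = t * t := by ring
      _ = t * t⁻¹ := by rw [← this]
      _ = 1 := hti
  have htinv : t⁻¹ ≠ 0 := inv_ne_zero ht
  have hx2 : x ^ 2 ≠ 1 := by
    intro hc
    rcases (mk_sq_eq_one_iff h2 (dM t ht)).1 hc with hc | hc | hc
    · have := entries hc 0 0
      rw [dM_coe] at this
      simp at this
      apply ht2; rw [this]; ring
    · have := entries hc 0 0
      rw [neg_apply', dM_coe] at this
      simp at this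
      apply ht2; rw [this]; ring
    · rw [tr_dM] at hc
      apply ht4
      have h5 : t ^ 2 = -1 := by linear_combination t * hc - hti
      calc t ^ 4 = (t ^ 2) ^ 2 := by ring
        _ = 1 := by rw [h5]; ring
  have hx3 : x ^ 3 ≠ 1 := by
    intro hc
    have h5 := (mk_cube_eq_one_iff h3 (dM t ht)).1 hc
    rw [tr_dM] at h5
    apply ht2
    have h6 : (t ^ 2 - 1) ^ 2 = 0 := by
      linear_combination t ^ 2 * h5 - (2 * t ^ 2 + t * t⁻¹ + 1) * hti - t ^ 2 * h3
    have := pow_eq_zero_iff (two_ne_zero) |>.1 h6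
    linear_combination this
  -- translations
  have keyP : ∀ Z : SF, (Y * dM t ht = dM t ht * Y ∨ Y * dM t ht = -(dM t ht * Y) ∨
      Y * dM t ht = (dM t ht)⁻¹ * Y ∨ Y * dM t ht = -((dM t ht)⁻¹ * Y)) → P3 Y := by
    intro _ hc
    rcases hc with hc | hc | hc | hc
    · have e := entries hc 0 1
      rw [mul_dM, dM_mul] at e
      simp at e
      refine Or.inr (Or.inl ?_)
      have : (Y : MF) 0 1 * (t - t⁻¹) = 0 := by linear_combination -e
      exact (mul_eq_zero.1 this).resolve_right hdiff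
    · have e0 := entries hc 0 0
      have e1 := entries hc 1 1
      rw [neg_apply', mul_dM, dM_mul] at e0 e1
      simp at e0 e1
      refine Or.inr (Or.inr ⟨?_, ?_⟩)
      · have : (2 * t) * (Y : MF) 0 0 = 0 := by linear_combination e0
        exact (mul_eq_zero.1 this).resolve_left (mul_ne_zero h2 ht)
      · have : (2 * t⁻¹) * (Y : MF) 1 1 = 0 := by linear_combination e1
        exact (mul_eq_zero.1 this).resolve_left (mul_ne_zero h2 htinv)
    · have e0 := entries hc 0 0
      have e1 := entries hc 1 1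
      rw [dM_inv, mul_dM, dM_mul] at e0 e1
      simp at e0 e1
      refine Or.inr (Or.inr ⟨?_, ?_⟩)
      · have : (Y : MF) 0 0 * (t - t⁻¹) = 0 := by linear_combination e0
        exact (mul_eq_zero.1 this).resolve_right hdiff
      · have : (Y : MF) 1 1 * (t - t⁻¹) = 0 := by linear_combination -e1
        exact (mul_eq_zero.1 this).resolve_right hdiff
    · have e := entries hc 0 1
      rw [neg_apply', dM_inv, mul_dM, dM_mul] at e
      simp at e
      refine Or.inr (Or.inl ?_)
      have : (2 * t⁻¹) * (Y : MF) 0 1 = 0 := by linear_combination e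
      exact (mul_eq_zero.1 this).resolve_left (mul_ne_zero h2 htinv)
  have key_comm : x * y = y * x → P3 Y := by
    intro hc
    apply keyP 1
    rcases (mk_comm_iff (dM t ht) Y).1 hc with hc | hc
    · exact Or.inl hc.symm
    · refine Or.inr (Or.inl ?_)
      rw [hc]; simp
  have key_conj : y * x * y⁻¹ = x → P3 Y := by
    intro hc
    apply keyP 1
    rcases (mk_conj_eq_iff Y (dM t ht) (dM t ht)).1 hc with hc | hc
    · exact Or.inl hc
    · exact Or.inr (Or.inl hc)
  have key_inv : y * x * y⁻¹ = x⁻¹ → P3 Y := by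
    intro hc
    apply keyP 1
    have hxi : x⁻¹ = π (dM t ht)⁻¹ := by rw [hx, map_inv]
    rw [hxi] at hc
    rcases (mk_conj_eq_iff Y (dM t ht) (dM t ht)⁻¹).1 hc with hc | hc
    · exact Or.inr (Or.inr (Or.inl hc))
    · exact Or.inr (Or.inr (Or.inr hc))
  rcases types h H hne with ⟨hc, -⟩ | ⟨k, -, ⟨e⟩⟩ | ⟨⟨e⟩⟩ | ⟨g0, hg0⟩
  · -- cyclic
    apply key_comm
    obtain ⟨g, hg⟩ := hc.exists_generator
    obtain ⟨i, hi⟩ := Subgroup.mem_zpowers_iff.1 (hg ⟨x, hxH⟩)
    obtain ⟨j, hj⟩ := Subgroup.mem_zpowers_iff.1 (hg ⟨y, hyH⟩)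
    have : (⟨x, hxH⟩ : H) * ⟨y, hyH⟩ = ⟨y, hyH⟩ * ⟨x, hxH⟩ := by
      rw [← hi, ← hj, ← zpow_add, ← zpow_add, add_comm]
    exact congrArg Subtype.val this
  · -- dihedral
    set a := e ⟨x, hxH⟩ with ha
    set b := e ⟨y, hyH⟩ with hb
    have ha2 : a ^ 2 ≠ 1 := by
      intro hc
      apply hx2
      have : e (⟨x, hxH⟩ ^ 2) = e 1 := by rw [map_pow, map_one]; exact hc
      have := pull H e this
      simpa using this
    rcases dih_rot k a b ha2 with hc | hc
    · apply key_conj
      have : e (⟨y, hyH⟩ * ⟨x, hxH⟩ * ⟨y, hyH⟩⁻¹) = e ⟨x, hxH⟩ := by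
        rw [map_mul, map_mul, map_inv]; exact hc
      have := pull H e this
      simpa using this
    · apply key_inv
      have : e (⟨y, hyH⟩ * ⟨x, hxH⟩ * ⟨y, hyH⟩⁻¹) = e (⟨x, hxH⟩⁻¹) := by
        rw [map_mul, map_mul, map_inv, map_inv]; exact hc
      have := pull H e this
      simpa using this
  · -- A4: impossible
    exfalso
    rcases a4_sq_or_cube (e ⟨x, hxH⟩) with hc | hc
    · apply hx2
      have : e (⟨x, hxH⟩ ^ 2) = e 1 := by rw [map_pow, map_one]; exact hc
      have := pull H e this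
      simpa using this
    · apply hx3
      have : e (⟨x, hxH⟩ ^ 3) = e 1 := by rw [map_pow, map_one]; exact hc
      have := pull H e this
      simpa using this
  · -- Borel
    have hmx : dM t ht ∈ H.comap π := by
      rw [Subgroup.mem_comap]; exact hxH
    have hmy : Y ∈ H.comap π := by
      rw [Subgroup.mem_comap]; exact hyH
    have hzx := hg0 _ hmx
    have hzy := hg0 _ hmy
    rw [conj10] at hzx hzy
    rw [dM_coe] at hzx
    simp only [Matrix.of_apply, Matrix.cons_val', Matrix.cons_val_zero, Matrix.cons_val_one,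
      Matrix.empty_val', Matrix.cons_val_fin_one, mul_zero, sub_zero, add_zero] at hzx
    have hdet := det_eq g0
    have hgd : (g0 : MF) 1 0 * (g0 : MF) 1 1 = 0 := by
      have : ((g0 : MF) 1 0 * (g0 : MF) 1 1) * (t - t⁻¹) = 0 := by linear_combination hzx
      exact (mul_eq_zero.1 this).resolve_right hdiff
    rcases mul_eq_zero.1 hgd with h0 | h0
    · -- γ = 0
      rw [h0] at hzy hdet
      have hd : (g0 : MF) 1 1 ≠ 0 := by
        intro hd
        rw [hd] at hdet
        simp at hdet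
      refine Or.inl ?_
      have : (g0 : MF) 1 1 ^ 2 * (Y : MF) 1 0 = 0 := by linear_combination hzy
      exact (mul_eq_zero.1 this).resolve_left (pow_ne_zero 2 hd)
    · rw [h0] at hzy hdet
      have hd : (g0 : MF) 1 0 ≠ 0 := by
        intro hd
        rw [hd] at hdet
        simp at hdet
      refine Or.inr (Or.inl ?_)
      have : (g0 : MF) 1 0 ^ 2 * (Y : MF) 0 1 = 0 := by linear_combination -hzy
      exact (mul_eq_zero.1 this).resolve_left (pow_ne_zero 2 hd)

end Cfsg.Agent.S2258P
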