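import Cfsg.Agent.Helper28.S2258Defs
import Cfsg.Agent.Helper18.Dickson45
import Cfsg.Agent.Helper20.S2258DIH
import Cfsg.Agent.Helper20.S2258DICT
import Cfsg.Agent.Helper20.S2258TYPES

/-! S2258 piece STRUCT4 (driver helper28): `⟨π (cM τ), π Y⟩` proper ⇒ `P4 τ Y`. -/

set_option autoImplicit false

namespace Cfsg.Agent.S2258P

open Cfsg.Agent.Helper18.Dickson

variable {F : Type*} [Field F] [Fintype F] {p : ℕ}

local notation "SF" => Matrix.SpecialLinearGroup (Fin 2) F
local notation "MF" => Matrix (Fin 2) (Fin 2) F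
local notation "PF" => Matrix.ProjectiveSpecialLinearGroup (Fin 2) F
local notation "π" => QuotientGroup.mk' (Subgroup.center SF)

namespace STRUCT4

omit [Fintype F] in
theorem tr_cM' (τ : F) : tr (cM τ) = τ := by
  unfold tr
  rw [cM_coe]; simp

omit [Fintype F] in
theorem tr_neg' (A : SF) : tr (-A) = -tr A := by
  unfold tr
  simp
  ring

omit [Fintype F] in
theorem tr_inv' (A : SF) : tr A⁻¹ = tr A := by
  unfold tr
  rw [Matrix.SpecialLinearGroup.coe_inv, Matrix.adjugate_fin_two]
  simp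
  ring

omit [Fintype F] in
/-- `Y X = -(X' Y)` forces `tr X = - tr X'` -/
theorem tr_of_anti (Y X X' : SF) (hYX : Y * X = -(X' * Y)) : tr X = -tr X' := by
  have h1 : Y * X * Y⁻¹ = -X' := by
    rw [hYX]
    have : -(X' * Y) = (-X') * Y := by simp
    rw [this, mul_assoc, mul_inv_cancel, mul_one]
  rw [← tr_conj Y X, h1, tr_neg']

/-- every element of `A₄` has order dividing `2` or `3` -/
theorem a4_sq_or_cube (a : alternatingGroup (Fin 4)) : a ^ 2 = 1 ∨ a ^ 3 = 1 := by
  revert a
  decide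

/-- pull back a relation through an isomorphism out of a subgroup -/
theorem pull {G X : Type*} [Group G] [Group X] (H : Subgroup G) (e : H ≃* X) {u v : H}
    (huv : e u = e v) : (u : G) = v := by
  exact congrArg Subtype.val (e.injective huv)

end STRUCT4

open STRUCT4 in
/-- STRUCT4 (L; TYPES, DIH, DICT). -/
theorem struct4 (h : Hyp F p) (τ : F) (hτ : τ ≠ 0) (hsq : ¬ IsSquare (τ ^ 2 - 4)) (Y : SF)
    (hne : Subgroup.closure ({π (cM τ), π Y} : Set PF) ≠ ⊤) : P4 τ Y := by
  have h2 := h.two_ne_zero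
  have h3 := h.three_eq_zero
  set x : PF := π (cM τ) with hx
  set y : PF := π Y with hy
  set H := Subgroup.closure ({x, y} : Set PF) with hH
  have hxH : x ∈ H := Subgroup.subset_closure (by simp)
  have hyH : y ∈ H := Subgroup.subset_closure (by simp)
  -- `τ = -τ` is impossible
  have hanti : ∀ X' : SF, tr X' = τ → Y * cM τ = -(X' * Y) → False := by
    intro X' hX' hc
    have := tr_of_anti Y (cM τ) X' hc
    rw [tr_cM', hX'] at this
    have h4 : (2 : F) * τ = 0 := by linear_combination this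
    rcases mul_eq_zero.1 h4 with h5 | h5
    · exact h2 h5
    · exact hτ h5
  have hx2 : x ^ 2 ≠ 1 := by
    intro hc
    rcases (mk_sq_eq_one_iff h2 (cM τ)).1 hc with hc | hc | hc
    · have := congrArg (fun A : SF => (A : MF) 1 0) hc
      simp [cM_coe] at this
    · have := congrArg (fun A : SF => (A : MF) 1 0) hc
      simp [cM_coe] at this
    · rw [tr_cM'] at hc
      exact hτ hc
  have hx3 : x ^ 3 ≠ 1 := by
    intro hc
    have := (mk_cube_eq_one_iff h3 (cM τ)).1 hc
    rw [tr_cM'] at this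
    apply hsq
    refine ⟨0, ?_⟩
    linear_combination this - h3
  -- translations
  have key_comm : x * y = y * x → P4 τ Y := by
    intro hc
    rcases (mk_comm_iff (cM τ) Y).1 hc with hc | hc
    · exact Or.inl hc.symm
    · exfalso
      apply hanti (cM τ) (tr_cM' τ)
      rw [hc]; simp
  have key_conj : y * x * y⁻¹ = x → P4 τ Y := by
    intro hc
    rcases (mk_conj_eq_iff Y (cM τ) (cM τ)).1 hc with hc | hc
    · exact Or.inl hc
    · exact (hanti (cM τ) (tr_cM' τ) hc).elim
  have key_inv : y * x * y⁻¹ = x⁻¹ → P4 τ Y := by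
    intro hc
    have hxi : x⁻¹ = π (cM τ)⁻¹ := by rw [hx, map_inv]
    rw [hxi] at hc
    rcases (mk_conj_eq_iff Y (cM τ) (cM τ)⁻¹).1 hc with hc | hc
    · exact Or.inr hc
    · exact (hanti (cM τ)⁻¹ (by rw [tr_inv', tr_cM']) hc).elim
  rcases types h H hne with ⟨hc, -⟩ | ⟨k, -, ⟨e⟩⟩ | ⟨⟨e⟩⟩ | ⟨g0, hg0⟩
  · -- cyclic
    apply key_comm
    obtain ⟨g, hg⟩ := hc.exists_generator
    obtain ⟨i, hi⟩ := Subgroup.mem_zpowers_iff.1 (hg ⟨x, hxH⟩)
    obtain ⟨j, hj⟩ := Subgroup.mem_zpowers_iff.1 (hg ⟨y, hyH⟩)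
    have : (⟨x, hxH⟩ : H) * ⟨y, hyH⟩ = ⟨y, hyH⟩ * ⟨x, hxH⟩ := by
      rw [← hi, ← hj, ← zpow_add, ← zpow_add, add_comm]
    exact congrArg Subtype.val this
  · -- dihedral
    set a := e ⟨x, hxH⟩ with ha
    set b := e ⟨y, hyH⟩ with hb
    have ha2 : a ^ 2 ≠ 1 := by
      intro hc
      apply hx2
      have : e (⟨x, hxH⟩ ^ 2) = e 1 := by rw [map_pow, map_one]; exact hc
      have := pull H e this
      simpa using this
    rcases dih_rot k a b ha2 with hc | hc
    · apply key_conj
      have : e (⟨y, hyH⟩ * ⟨x, hxH⟩ * ⟨y, hyH⟩⁻¹) = e ⟨x, hxH⟩ := by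
        rw [map_mul, map_mul, map_inv]; exact hc
      have := pull H e this
      simpa using this
    · apply key_inv
      have : e (⟨y, hyH⟩ * ⟨x, hxH⟩ * ⟨y, hyH⟩⁻¹) = e (⟨x, hxH⟩⁻¹) := by
        rw [map_mul, map_mul, map_inv, map_inv]; exact hc
      have := pull H e this
      simpa using this
  · -- A4: impossible
    exfalso
    rcases a4_sq_or_cube (e ⟨x, hxH⟩) with hc | hc
    · apply hx2
      have : e (⟨x, hxH⟩ ^ 2) = e 1 := by rw [map_pow, map_one]; exact hc
      have := pull H e this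
      simpa using this
    · apply hx3
      have : e (⟨x, hxH⟩ ^ 3) = e 1 := by rw [map_pow, map_one]; exact hc
      have := pull H e this
      simpa using this
  · -- Borel: impossible
    exfalso
    have hmem : cM τ ∈ H.comap π := by
      rw [Subgroup.mem_comap]; exact hxH
    have hz := hg0 (cM τ) hmem
    set Z : SF := g0 * cM τ * g0⁻¹ with hZ
    have htr : tr Z = τ := by rw [hZ, tr_conj, tr_cM']
    have hdet := det_eq Z
    rw [hz] at hdet
    unfold tr at htr
    apply hsq
    refine ⟨(Z : MF) 0 0 - (Z : MF) 1 1, ?_⟩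
    rw [← htr]
    linear_combination (4 : F) * hdet

end Cfsg.Agent.S2258P
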