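import Cfsg.Agent.Helper28.S2258Defs
import Cfsg.Agent.Helper28.S2258CONJINV
import Cfsg.Agent.Helper28.S2258DISJ1
import Cfsg.Agent.Helper28.S2258STRUCT1
import Cfsg.Agent.Helper9.S2258CNT2
import Cfsg.Agent.Lead.S2258CONV
import Cfsg.Agent.Helper26.S2258COUNT1A
import Cfsg.Agent.Helper26.S2258COUNT1B
import Cfsg.Agent.Helper26.S2258COUNT4
import Cfsg.Agent.Helper11.S2258COUNT23
import Cfsg.Agent.Helper28.S2258STRUCT3
import Cfsg.Agent.Helper28.S2258STRUCT4
import Cfsg.Agent.Helper19.S2258NF1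
import Cfsg.Agent.Helper4.S2258NF2
import Cfsg.Agent.Helper8.S2258NF3
import Cfsg.Agent.Helper18.S2258NF4
import Cfsg.Agent.Helper1.S2258STRUCT2

/-! S2258 (driver helper28): assembly of the four cases. -/

set_option autoImplicit false

namespace Cfsg.Agent.S2258P

open Cfsg.Agent.Helper18.Dickson

variable {F : Type*} [Field F] [Fintype F] {p : ℕ}

local notation "SF" => Matrix.SpecialLinearGroup (Fin 2) F
local notation "MF" => Matrix (Fin 2) (Fin 2) F
local notation "PF" => Matrix.ProjectiveSpecialLinearGroup (Fin 2) F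
local notation "π" => QuotientGroup.mk' (Subgroup.center SF)
local notation "q" => Fintype.card F

namespace ASM

/-- a solvable two-generator subgroup is proper -/
theorem ne_top_of_solvable (h : Hyp F p) (x y : PF)
    (hs : Group.IsSolvable ↥(Subgroup.closure ({x, y} : Set PF))) :
    Subgroup.closure ({x, y} : Set PF) ≠ ⊤ := by
  intro htop
  apply h.not_isSolvable
  rw [htop] at hs
  exact Group.isSolvable_of_isSolvable_injective (f := (Subgroup.topEquiv.symm :
    PF ≃* (⊤ : Subgroup PF)).toMonoidHom) Subgroup.topEquiv.symm.injective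

/-- the general counting step -/
theorem solCount_eq (h : Hyp F p) (X0 : SF) (P : SF → Prop) (hP : ∀ Y, P (-Y) ↔ P Y)
    (hstruct : ∀ Y : SF, Subgroup.closure ({π X0, π Y} : Set PF) ≠ ⊤ → P Y)
    (hconv : ∀ Y : SF, P Y → Group.IsSolvable ↥(Subgroup.closure ({π X0, π Y} : Set PF))) :
    2 * solCount (π X0 : PF) = Nat.card {Y : SF // P Y} := by
  rw [← card_image_pi h.two_ne_zero P hP]
  congr 1
  unfold solCount
  apply Nat.card_congr
  apply Equiv.subtypeEquivRight
  intro y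
  constructor
  · intro hs
    obtain ⟨Y, rfl⟩ := QuotientGroup.mk'_surjective (Subgroup.center SF) y
    exact ⟨Y, rfl, hstruct Y (ne_top_of_solvable h _ _ hs)⟩
  · rintro ⟨Y, rfl, hY⟩
    exact hconv Y hY

omit [Fintype F] in
theorem neg_coe (Y : SF) (i j : Fin 2) : ((-Y : SF) : MF) i j = -(Y : MF) i j := by
  simp

omit [Fintype F] in
theorem P1_neg (Y : SF) : P1 (-Y) ↔ P1 Y := by
  unfold P1 P1a P1b
  simp only [neg_coe]
  constructor
  · rintro ((⟨h1, h2⟩ | h1 | h1) | ⟨h1, h2⟩)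
    · exact Or.inl (Or.inl ⟨by linear_combination -h1, by linear_combination -h2⟩)
    · exact Or.inl (Or.inr (Or.inl (by linear_combination -h1)))
    · exact Or.inl (Or.inr (Or.inr (by linear_combination -h1)))
    · exact Or.inr ⟨by linear_combination h1, by linear_combination h2⟩
  · rintro ((⟨h1, h2⟩ | h1 | h1) | ⟨h1, h2⟩)
    · exact Or.inl (Or.inl ⟨by linear_combination -h1, by linear_combination -h2⟩)
    · exact Or.inl (Or.inr (Or.inl (by linear_combination -h1)))
    · exact Or.inl (Or.inr (Or.inr (by linear_combination -h1)))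
    · exact Or.inr ⟨by linear_combination h1, by linear_combination h2⟩

omit [Fintype F] in
theorem P2_neg (s : F) (Y : SF) : P2 s (-Y) ↔ P2 s Y := by
  unfold P2
  simp only [neg_coe]
  constructor
  · rintro (h1 | ⟨h1, h2⟩ | ⟨h1, h2 | h2⟩)
    · exact Or.inl (by linear_combination -h1)
    · exact Or.inr (Or.inl ⟨by linear_combination -h1, by linear_combination h2⟩)
    · exact Or.inr (Or.inr ⟨by linear_combination h1, Or.inl (by linear_combination -h2)⟩)
    · exact Or.inr (Or.inr ⟨by linear_combination h1, Or.inr (by linear_combination -h2)⟩)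
  · rintro (h1 | ⟨h1, h2⟩ | ⟨h1, h2 | h2⟩)
    · exact Or.inl (by linear_combination -h1)
    · exact Or.inr (Or.inl ⟨by linear_combination -h1, by linear_combination h2⟩)
    · exact Or.inr (Or.inr ⟨by linear_combination h1, Or.inl (by linear_combination -h2)⟩)
    · exact Or.inr (Or.inr ⟨by linear_combination h1, Or.inr (by linear_combination -h2)⟩)

omit [Fintype F] in
theorem P3_neg (Y : SF) : P3 (-Y) ↔ P3 Y := by
  unfold P3
  simp only [neg_coe, neg_eq_zero]

omit [Fintype F] in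
theorem P4_neg (τ : F) (Y : SF) : P4 τ (-Y) ↔ P4 τ Y := by
  unfold P4
  simp only [neg_mul, mul_neg, neg_inj]

/-- disjoint union count -/
theorem card_P1 (h : Hyp F p) : Nat.card {Y : SF // P1 Y} = 2 * q * (q + 1) := by
  classical
  have hq := h.card_ge
  have e : {Y : SF // P1 Y} ≃ {Y : SF // P1a Y} ⊕ {Y : SF // P1b Y} :=
    { toFun := fun Y => if hY : P1a Y.1 then Sum.inl ⟨Y.1, hY⟩
        else Sum.inr ⟨Y.1, Y.2.resolve_left hY⟩
      invFun := fun Z => Sum.elim (fun Y => ⟨Y.1, Or.inl Y.2⟩) (fun Y => ⟨Y.1, Or.inr Y.2⟩) Z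
      left_inv := by
        intro Y
        by_cases hY : P1a Y.1 <;> simp [hY]
      right_inv := by
        rintro (Y | Y)
        · simp [Y.2]
        · have : ¬ P1a Y.1 := fun hY => disj1 h Y.1 ⟨hY, Y.2⟩
          simp [this] }
  rw [Nat.card_congr e, Nat.card_sum, count1a h, count1b h]
  obtain ⟨k, hk⟩ : ∃ k, q = k + 2 := ⟨q - 2, by omega⟩
  rw [hk]
  simp only [Nat.add_sub_cancel]
  ring

end ASM

/-- CASE1 -/
theorem case1 (h : Hyp F p) : solCount (π (cM 0) : PF) = q * (q + 1) := by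
  have h1 := ASM.solCount_eq h (cM 0) P1 ASM.P1_neg (struct1 h) (conv1 h)
  rw [ASM.card_P1 h] at h1
  have : 2 * solCount (π (cM 0) : PF) = 2 * (q * (q + 1)) := by rw [h1]; ring
  exact Nat.eq_of_mul_eq_mul_left (by norm_num) this

/-- CASE2 -/
theorem case2 (h : Hyp F p) (s : F) (hs : s ≠ 0) :
    2 * solCount (π (uM s) : PF) = q * (q + 5) := by
  rw [ASM.solCount_eq h (uM s) (P2 s) (ASM.P2_neg s) (struct2 h s hs) (conv2 h s hs),
    count2 h s hs]

/-- CASE3 -/
theorem case3 (h : Hyp F p) (t : F) (ht : t ≠ 0) (ht4 : t ^ 4 ≠ 1) :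
    solCount (π (dM t ht) : PF) = q * (q - 1) := by
  have h1 := ASM.solCount_eq h (dM t ht) P3 ASM.P3_neg (struct3 h t ht ht4) (conv3 h t ht)
  rw [count3 h] at h1
  have : 2 * solCount (π (dM t ht) : PF) = 2 * (q * (q - 1)) := by rw [h1]; ring
  exact Nat.eq_of_mul_eq_mul_left (by norm_num) this

/-- CASE4 -/
theorem case4 (h : Hyp F p) (τ : F) (hτ : τ ≠ 0) (hsq : ¬ IsSquare (τ ^ 2 - 4)) :
    solCount (π (cM τ) : PF) = q + 1 := by
  have h1 := ASM.solCount_eq h (cM τ) (P4 τ) (ASM.P4_neg τ) (struct4 h τ hτ hsq) (conv4 h τ)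
  rw [count4 h τ hτ hsq] at h1
  exact Nat.eq_of_mul_eq_mul_left (by norm_num) h1

/-- the four counts -/
theorem main (h : Hyp F p) (x : PF) :
    (orderOf x = 2 → solCount x = 3 ^ p * (3 ^ p + 1)) ∧
    (orderOf x = 3 → 2 * solCount x = 3 ^ p * (3 ^ p + 5)) ∧
    (x ≠ 1 → orderOf x ≠ 2 → orderOf x ∣ 3 ^ p - 1 → solCount x = 3 ^ p * (3 ^ p - 1)) ∧
    (x ≠ 1 → orderOf x ≠ 2 → orderOf x ∣ 3 ^ p + 1 → solCount x = 3 ^ p + 1) := by
  refine ⟨fun hx => ?_, fun hx => ?_, fun h1 h2 hd => ?_, fun h1 h2 hd => ?_⟩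
  · obtain ⟨g, hg⟩ := nf_invol h x hx
    rw [← solCount_conj g x, hg, case1 h, h.card]
  · obtain ⟨g, s, hs, hg⟩ := nf_three h x hx
    rw [← solCount_conj g x, hg, case2 h s hs, h.card]
  · obtain ⟨g, t, ht, ht4, hg⟩ := nf_split h x h1 h2 hd
    rw [← solCount_conj g x, hg, case3 h t ht ht4, h.card]
  · obtain ⟨g, τ, hτ, hsq, hg⟩ := nf_nonsplit h x h1 h2 hd
    rw [← solCount_conj g x, hg, case4 h τ hτ hsq, h.card]

end Cfsg.Agent.S2258P
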