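import Cfsg.Agent.Helper18.Dickson21
import Cfsg.Agent.Helper18.MinSimple1

/-! S2258 (driver helper28): shared definitions.

`G = PSL₂(F)`, `|F| = q = 3^p`, `p` an odd prime.  For `x ∈ G` we count the `y` with `⟨x, y⟩`
solvable.  Every proper subgroup is solvable (Dickson), so `⟨x, y⟩` is solvable iff it is proper,
and for the four normal forms of `x` the set of such `y = π Y` is cut out by explicit equations
`P1 … P4` in the entries of `Y ∈ SL₂(F)`. -/

set_option autoImplicit false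

namespace Cfsg.Agent.S2258P

open Cfsg.Agent.Helper18.Dickson

variable {F : Type*} [Field F]

local notation "SF" => Matrix.SpecialLinearGroup (Fin 2) F
local notation "MF" => Matrix (Fin 2) (Fin 2) F
local notation "PF" => Matrix.ProjectiveSpecialLinearGroup (Fin 2) F
local notation "π" => QuotientGroup.mk' (Subgroup.center SF)

/-- the standing hypotheses: `|F| = 3 ^ p`, `p` an odd prime -/
structure Hyp (F : Type*) [Field F] [Fintype F] (p : ℕ) : Prop where
  prime : p.Prime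
  odd : Odd p
  card : Fintype.card F = 3 ^ p

/-- the companion matrix `[[0,-1],[1,τ]]` of `T² - τ T + 1` -/
def cM (τ : F) : SF := ⟨!![0, -1; 1, τ], by simp [Matrix.det_fin_two_of]⟩

theorem cM_coe (τ : F) : ((cM τ : SF) : MF) = !![0, -1; 1, τ] := rfl

/-- the number of `y` generating a solvable subgroup together with `x` -/
noncomputable def solCount (x : PF) : ℕ :=
  Nat.card {y : PF // Group.IsSolvable ↥(Subgroup.closure ({x, y} : Set PF))}

/-- case 1, `x = π (cM 0)` (an involution): commuting / `y² = 1` / `(xy)² = 1` -/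
def P1a (Y : SF) : Prop :=
  ((Y : MF) 1 0 = -(Y : MF) 0 1 ∧ (Y : MF) 1 1 = (Y : MF) 0 0) ∨ (Y : MF) 1 1 = -(Y : MF) 0 0 ∨
    (Y : MF) 0 1 = (Y : MF) 1 0

/-- case 1: `y³ = 1` and `(xy)³ = 1` -/
def P1b (Y : SF) : Prop :=
  ((Y : MF) 0 0 + (Y : MF) 1 1) ^ 2 = 1 ∧ ((Y : MF) 1 0 - (Y : MF) 0 1) ^ 2 = 1

/-- case 1: `⟨π (cM 0), π Y⟩` is proper -/
def P1 (Y : SF) : Prop := P1a Y ∨ P1b Y

/-- case 2, `x = π (uM s)` (order `3`) -/
def P2 (s : F) (Y : SF) : Prop :=
  (Y : MF) 1 0 = 0 ∨ ((Y : MF) 0 0 + (Y : MF) 1 1 = 0 ∧ (s * (Y : MF) 1 0) ^ 2 = 1) ∨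
    (((Y : MF) 0 0 + (Y : MF) 1 1) ^ 2 = 1 ∧
      (s * (Y : MF) 1 0 = (Y : MF) 0 0 + (Y : MF) 1 1 ∨
        s * (Y : MF) 1 0 = -((Y : MF) 0 0 + (Y : MF) 1 1)))

/-- case 3, `x = π (dM t)` (split torus): the two Borel subgroups and the monomial group -/
def P3 (Y : SF) : Prop :=
  (Y : MF) 1 0 = 0 ∨ (Y : MF) 0 1 = 0 ∨ ((Y : MF) 0 0 = 0 ∧ (Y : MF) 1 1 = 0)

/-- case 4, `x = π (cM τ)` (non-split torus): centralizing or inverting -/
def P4 (τ : F) (Y : SF) : Prop := Y * cM τ = cM τ * Y ∨ Y * cM τ = (cM τ)⁻¹ * Y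

/-- no eigenvector over `F` -/
def NoEig (X : SF) : Prop :=
  ∀ v : Fin 2 → F, v ≠ 0 → ∀ a : F, (X : MF).mulVec v ≠ a • v

section basic

variable [Fintype F] {p : ℕ}

theorem Hyp.three_le (h : Hyp F p) : 3 ≤ p := by
  have h2 := h.prime.two_le
  rcases h.odd with ⟨k, hk⟩
  omega

theorem Hyp.card_ge (h : Hyp F p) : 27 ≤ Fintype.card F := by
  rw [h.card]
  calc 27 = 3 ^ 3 := by norm_num
    _ ≤ 3 ^ p := Nat.pow_le_pow_right (by norm_num) h.three_le

theorem Hyp.card_mod_eight (h : Hyp F p) : Fintype.card F % 8 = 3 := by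
  rw [h.card]
  rcases h.odd with ⟨k, hk⟩
  rw [hk, pow_succ, pow_mul, Nat.mul_mod, Nat.pow_mod]
  norm_num

theorem Hyp.charP (h : Hyp F p) : CharP F 3 := by
  obtain ⟨r, hr⟩ := CharP.exists F
  have := hr
  have hrp : Fact r.Prime := ⟨CharP.char_is_prime F r⟩
  obtain ⟨n, hn, hc⟩ := FiniteField.card F r
  rw [h.card] at hc
  have h3 : r ∣ 3 ^ p := by rw [hc]; exact dvd_pow_self _ (by exact_mod_cast n.ne_zero)
  have : r = 3 := (Nat.prime_dvd_prime_iff_eq hrp.out Nat.prime_three).1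
    (hrp.out.dvd_of_dvd_pow h3)
  subst this
  exact hr

theorem Hyp.two_ne_zero (h : Hyp F p) : (2 : F) ≠ 0 := by
  have := h.charP
  intro h2
  have : ((2 : ℕ) : F) = 0 := by exact_mod_cast h2
  rw [CharP.cast_eq_zero_iff F 3] at this
  omega

theorem Hyp.three_eq_zero (h : Hyp F p) : (3 : F) = 0 := by
  have := h.charP
  have : ((3 : ℕ) : F) = 0 := CharP.cast_eq_zero F 3
  exact_mod_cast this

theorem Hyp.not_isSquare_neg_one (h : Hyp F p) : ¬ IsSquare (-1 : F) := by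
  rw [FiniteField.isSquare_neg_one_iff]
  have := h.card_mod_eight
  omega

theorem Hyp.not_isSolvable (h : Hyp F p) : ¬ Group.IsSolvable PF := by
  apply Cfsg.Agent.Helper18.MinSimple.not_isSolvable_psl2
  rw [Nat.card_eq_fintype_card]
  have := h.card_ge
  omega

end basic

end Cfsg.Agent.S2258P
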