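import Cfsg.Agent.Helper28.S2510Defs

/-! S2510 pieces SINGER, GOODORD (driver helper28). -/

set_option autoImplicit false

namespace Cfsg.Agent.S2510P

open Polynomial

variable {F : Type*} [Field F] [Fintype F] {n : ℕ} {p : ℕ}

local notation "SLn" => Matrix.SpecialLinearGroup (Fin n) F
local notation "PSLn" => Matrix.ProjectiveSpecialLinearGroup (Fin n) F
local notation "Mn" => Matrix (Fin n) (Fin n) F
local notation "π" => QuotientGroup.mk' (Subgroup.center SLn)
local notation "q" => Fintype.card F

/-- SINGER (S; `S2495.exists_orderOf`). -/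
theorem exists_singer (hn : 1 ≤ n) : ∃ g : PSLn, orderOf g = singerNum q n :=
  Cfsg.Agent.S2495.exists_orderOf hn

omit [Fintype F] in
/-- GOODORD (S): commuting elements of coprime orders. -/
theorem orderOf_mk_twist_mul (r : ℕ) (hr : r.Prime) (A t : SLn) (hc : Commute t A) (ht : t ^ r = 1)
    (htc : t ∉ Subgroup.center SLn) (hrA : ¬ r ∣ orderOf (π A : PSLn)) :
    orderOf (π (t * A) : PSLn) = r * orderOf (π A : PSLn) := by
  have := Fact.mk hr
  have h1 : orderOf (π t : PSLn) = r := by
    apply orderOf_eq_prime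
    · rw [← map_pow, ht, map_one]
    · intro h
      apply htc
      rwa [QuotientGroup.mk'_apply, QuotientGroup.eq_one_iff] at h
  have h2 : Commute (π t : PSLn) (π A) := by
    unfold Commute SemiconjBy
    rw [← map_mul, ← map_mul, hc.eq]
  have h3 : Nat.Coprime (orderOf (π t : PSLn)) (orderOf (π A : PSLn)) := by
    rw [h1]
    exact (Nat.Prime.coprime_iff_not_dvd hr).2 hrA
  rw [map_mul, h2.orderOf_mul_eq_mul_orderOf_of_coprime h3, h1]

end Cfsg.Agent.S2510P
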