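import Cfsg.Agent.Helper23.S2510GSMUL
import Cfsg.Agent.Helper15.S2510UNIPORD
import Cfsg.Agent.Helper15.S2510DIAGORD

/-! S2510 piece UR (driver helper28): an element of order `p ^ k * r` in `PSL_n(F)`. -/

set_option autoImplicit false

namespace Cfsg.Agent.S2510P

open Polynomial

variable {F : Type*} [Field F] [Fintype F] {n : ℕ} {p : ℕ}

local notation "SLn" => Matrix.SpecialLinearGroup (Fin n) F
local notation "PSLn" => Matrix.ProjectiveSpecialLinearGroup (Fin n) F
local notation "Mn" => Matrix (Fin n) (Fin n) F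
local notation "π" => QuotientGroup.mk' (Subgroup.center SLn)
local notation "q" => Fintype.card F

/-- UR (S–M; UNIPORD, DIAGORD, URCOMM). -/
theorem exists_orderOf_pow_mul [CharP F p] (hp : p.Prime) (r : ℕ) (hr : r.Prime) (hrq : r ∣ q - 1)
    (hrn : ¬ r ∣ n) (hpr : p ≠ r) (k b : ℕ) (hb1 : 1 ≤ b) (hbn : b + 1 ≤ n) (hk : b ≤ p ^ k)
    (hk' : k = 0 ∨ p ^ (k - 1) < b) : ∃ y : PSLn, orderOf y = p ^ k * r := by
  obtain ⟨U, hU, hoU⟩ := exists_unip (F := F) (n := n) hp (by omega) k b (by omega) hk hk'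
  obtain ⟨D, lam, mu, hD, hoD⟩ := exists_diag (F := F) (n := n) r hr hrq hrn b hb1 hbn
  have hc : Commute U D := by
    apply Subtype.ext
    rw [Matrix.SpecialLinearGroup.coe_mul, Matrix.SpecialLinearGroup.coe_mul, hU, hD]
    have h1 := (commute_diagD_nilN (F := F) (n := n) b lam mu).eq
    rw [add_mul, mul_add, one_mul, mul_one, h1]
  have h2 : Commute (π U : PSLn) (π D) := by
    unfold Commute SemiconjBy
    rw [← map_mul, ← map_mul, hc.eq]
  have h3 : Nat.Coprime (orderOf (π U : PSLn)) (orderOf (π D : PSLn)) := by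
    rw [hoU, hoD]
    exact Nat.Coprime.pow_left _ ((Nat.coprime_primes hp hr).2 hpr)
  refine ⟨π U * π D, ?_⟩
  rw [h2.orderOf_mul_eq_mul_orderOf_of_coprime h3, hoU, hoD]

end Cfsg.Agent.S2510P
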