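import Cfsg.Agent.Helper28.S2510Defs
import Cfsg.Agent.Helper28.S2510SINGER
import Cfsg.Agent.Helper28.S2510UR
import Cfsg.Agent.Helper10.S2510BADLOW
import Cfsg.Agent.Helper10.S2510BADUP
import Cfsg.Agent.Helper10.S2510IDEM
import Cfsg.Agent.Helper10.S2510TWIST
import Cfsg.Agent.Helper18.S2510CHARP
import Cfsg.Agent.Helper18.S2510UFD
import Cfsg.Agent.Helper19.S2510MKPOW
import Cfsg.Agent.Helper10.S2510SINGDVD

/-! S2510 (driver helper28): assembly. -/

set_option autoImplicit false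

namespace Cfsg.Agent.S2510P

open Polynomial

variable {F : Type*} [Field F] [Fintype F] {n : ℕ} {p : ℕ}

local notation "SLn" => Matrix.SpecialLinearGroup (Fin n) F
local notation "PSLn" => Matrix.ProjectiveSpecialLinearGroup (Fin n) F
local notation "Mn" => Matrix (Fin n) (Fin n) F
local notation "π" => QuotientGroup.mk' (Subgroup.center SLn)
local notation "q" => Fintype.card F

namespace ASM

/-- `PSL_n(F)` is finite -/
instance : Finite PSLn := by
  unfold Matrix.ProjectiveSpecialLinearGroup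
  infer_instance

omit [Fintype F] in
theorem natDegree_minpoly_le (A : Mn) : (minpoly F A).natDegree ≤ n := by
  have h1 := Matrix.minpoly_dvd_charpoly A
  have h2 := Polynomial.natDegree_le_of_dvd h1 (Matrix.charpoly_monic A).ne_zero
  rwa [Matrix.charpoly_natDegree_eq_dim, Fintype.card_fin] at h2

/-- the dichotomy: `x` is good or bad -/
theorem good_or_bad [CharP F p] (hp : p.Prime) (hn : 1 ≤ n) (r : ℕ) (hr : r.Prime) (hrq : r ∣ q - 1)
    (hrn : ¬ r ∣ n) (x : PSLn) (hrx : ¬ r ∣ orderOf x) :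
    (∃ x' : PSLn, orderOf x' = r * orderOf x) ∨
    (∃ k : ℕ, (k = 0 ∨ p ^ (k - 1) < n) ∧ p ^ k ∣ orderOf x ∧ orderOf x ∣ p ^ k * singerNum q n) := by
  obtain ⟨A, rfl⟩ := QuotientGroup.mk'_surjective (Subgroup.center SLn) x
  have : Nonempty (Fin n) := ⟨⟨0, by omega⟩⟩
  have hint : IsIntegral F (A : Mn) := Matrix.isIntegral _
  have hmonic := minpoly.monic hint
  have hne1 : minpoly F (A : Mn) ≠ 1 := minpoly.ne_one F _
  rcases prime_pow_or_coprime (minpoly F (A : Mn)) hmonic hne1 with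
    ⟨f, e, hf, hirr, he, hμ⟩ | ⟨g, h, hg, hh, hgh, hμ⟩
  · -- bad
    right
    refine ⟨Nat.clog p e, ?_, ?_, ?_⟩
    · rcases Nat.lt_or_ge 1 e with he1 | he1
      · right
        have h1 := Nat.pow_pred_clog_lt_self hp.one_lt he1
        have h2 : e ≤ n := by
          have h3 := natDegree_minpoly_le (A : Mn)
          rw [hμ, Polynomial.natDegree_pow] at h3
          have h4 : 1 ≤ f.natDegree := hirr.natDegree_pos
          calc e = e * 1 := (mul_one e).symm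
            _ ≤ e * f.natDegree := Nat.mul_le_mul_left e h4
            _ ≤ n := h3
        rw [Nat.pred_eq_sub_one] at h1
        omega
      · left
        have : e = 1 := by omega
        rw [this, Nat.clog_one_right]
    · obtain ⟨c, hc, hdvd⟩ := (mk_pow_eq_one_iff_dvd hn A _).1 (pow_orderOf_eq_one (π A : PSLn))
      rw [hμ] at hdvd
      exact clog_dvd_of_pow_dvd hp f hirr e _ he c hc hdvd
    · apply orderOf_dvd_of_pow_eq_one
      rw [mk_pow_eq_one_iff_dvd hn]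
      obtain ⟨c, hc, hdvd⟩ := dvd_X_pow_singer hn A f hf hirr e he hμ
      refine ⟨c ^ p ^ Nat.clog p e, pow_ne_zero _ hc, ?_⟩
      rw [hμ]
      exact pow_dvd_of_dvd hp f e _ _ c (Nat.le_pow_clog hp.one_lt e) hdvd
  · -- good
    left
    obtain ⟨P, Q, h1, h2, h3, h4, h5, h6, h7⟩ := exists_idem (A : Mn) g h hg hh hgh hμ
    obtain ⟨t, ht1, ht2, ht3⟩ := exists_twist r hr hrq hrn (A : Mn) P Q h1 h2 h3 h4 h5 h6 h7
    refine ⟨π (t * A), ?_⟩
    apply orderOf_mk_twist_mul r hr A t _ ht2 ht3 hrx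
    apply Subtype.ext
    rw [Matrix.SpecialLinearGroup.coe_mul, Matrix.SpecialLinearGroup.coe_mul]
    exact ht1

/-- `p` is prime to the Singer number -/
theorem coprime_singerNum (hp : p.Prime) (a : ℕ) (ha : 1 ≤ a) (Q : ℕ) (hQ : Q = p ^ a) (hn : 1 ≤ n) :
    Nat.Coprime p (singerNum Q n) := by
  have hQ1 : 1 ≤ Q := by rw [hQ]; exact Nat.one_le_pow _ _ hp.pos
  have h1 : singerNum Q n ∣ Q ^ n - 1 := by
    unfold singerNum
    refine dvd_trans (Nat.div_dvd_of_dvd (Nat.gcd_dvd_left _ _)) ?_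
    rw [← Cfsg.Agent.S2495.gs_mul Q n hQ1]
    exact dvd_mul_left _ _
  have hpQ : p ∣ Q ^ n := by
    rw [hQ, ← pow_mul]
    exact dvd_pow_self p (by positivity)
  have h2 : Nat.Coprime p (Q ^ n - 1) := by
    rw [Nat.Prime.coprime_iff_not_dvd hp]
    intro h3
    have h4 : 1 ≤ Q ^ n := Nat.one_le_pow _ _ hQ1
    have h5 : p ∣ Q ^ n - (Q ^ n - 1) := Nat.dvd_sub hpQ h3
    have h6 : Q ^ n - (Q ^ n - 1) = 1 := by omega
    rw [h6] at h5
    exact hp.one_lt.ne' (Nat.dvd_one.1 h5)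
  exact Nat.Coprime.coprime_dvd_right h1 h2

/-- the data of a bad element -/
def Bad (p : ℕ) (x : PSLn) : Prop :=
  ∃ k A : ℕ, orderOf x = p ^ k * A ∧ A ∣ singerNum q n ∧ (k = 0 ∨ p ^ (k - 1) < n) ∧
    ∃ u : PSLn, orderOf u = p ^ k

theorem good_or_bad' [CharP F p] (hp : p.Prime) (hn : 1 ≤ n) (r : ℕ) (hr : r.Prime) (hrq : r ∣ q - 1)
    (hrn : ¬ r ∣ n) (x : PSLn) (hrx : ¬ r ∣ orderOf x) :
    (∃ x' : PSLn, orderOf x' = r * orderOf x) ∨ Bad p x := by
  rcases good_or_bad hp hn r hr hrq hrn x hrx with h | ⟨k, hk, h1, h2⟩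
  · exact Or.inl h
  · right
    obtain ⟨A, hA⟩ := h1
    have hpk : 0 < p ^ k := pow_pos hp.pos k
    refine ⟨k, A, hA, ?_, hk, x ^ A, ?_⟩
    · rw [hA] at h2
      exact Nat.dvd_of_mul_dvd_mul_left hpk h2
    · have hA0 : A ≠ 0 := by
        rintro rfl
        rw [mul_zero] at hA
        exact (orderOf_pos x).ne' hA
      rw [orderOf_pow_of_dvd hA0 ⟨p ^ k, by rw [hA, mul_comm]⟩, hA, Nat.mul_div_cancel _ (Nat.pos_of_ne_zero hA0)]

/-- number theory: a good element absorbs `r` -/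
theorem lcm_good (r a N : ℕ) (hr : r.Prime) (hra : ¬ r ∣ a) :
    Nat.lcm (r * a) N = Nat.lcm (Nat.lcm a N) r := by
  have hc : Nat.Coprime r a := (Nat.Prime.coprime_iff_not_dvd hr).2 hra
  rw [← hc.lcm_eq_mul, Nat.lcm_comm r a, Nat.lcm_assoc, Nat.lcm_comm r N, ← Nat.lcm_assoc]

/-- an element of order `r` -/
theorem exists_orderOf_r [CharP F p] (hp : p.Prime) (hn : 2 ≤ n) (r : ℕ) (hr : r.Prime)
    (hrq : r ∣ q - 1) (hrn : ¬ r ∣ n) (hpr : p ≠ r) : ∃ t : PSLn, orderOf t = r := by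
  obtain ⟨y, hy⟩ := exists_orderOf_pow_mul (n := n) hp r hr hrq hrn hpr 0 1 le_rfl (by omega)
    (by simp) (Or.inl rfl)
  exact ⟨y, by rw [hy, pow_zero, one_mul]⟩

/-- every divisor of the Singer number is an element order -/
theorem exists_orderOf_of_dvd (hn : 1 ≤ n) (A : ℕ) (hA : A ∣ singerNum q n) :
    ∃ c : PSLn, orderOf c = A := by
  obtain ⟨g, hg⟩ := exists_singer (F := F) hn
  obtain ⟨B, hB⟩ := hA
  have hS : 0 < singerNum q n := by rw [← hg]; exact orderOf_pos g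
  have hB0 : B ≠ 0 := by
    rintro rfl
    rw [mul_zero] at hB
    omega
  refine ⟨g ^ B, ?_⟩
  rw [orderOf_pow_of_dvd hB0 ⟨A, by rw [hg, hB, mul_comm]⟩, hg, hB]
  exact Nat.mul_div_cancel _ (Nat.pos_of_ne_zero hB0)

theorem lcm_pow_pow (p k1 k2 : ℕ) : Nat.lcm (p ^ k1) (p ^ k2) = p ^ max k1 k2 := by
  rcases le_total k1 k2 with h | h
  · rw [max_eq_right h]
    exact Nat.lcm_eq_right (pow_dvd_pow p h)
  · rw [max_eq_left h]
    exact Nat.lcm_eq_left (pow_dvd_pow p h)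

/-- merging two bad orders -/
theorem merge2 (p k1 k2 A1 A2 : ℕ) (h1 : Nat.Coprime p A1) (h2 : Nat.Coprime p A2) :
    Nat.lcm (p ^ k1 * A1) (p ^ k2 * A2) = p ^ max k1 k2 * Nat.lcm A1 A2 := by
  have c1 : Nat.Coprime (p ^ k1) A1 := Nat.Coprime.pow_left _ h1
  have c2 : Nat.Coprime (p ^ k2) A2 := Nat.Coprime.pow_left _ h2
  have c3 : Nat.Coprime (p ^ max k1 k2) (Nat.lcm A1 A2) :=
    Nat.Coprime.pow_left _ (Nat.Coprime.coprime_dvd_right (Nat.lcm_dvd_mul A1 A2) (h1.mul_right h2))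
  rw [← c1.lcm_eq_mul, ← c2.lcm_eq_mul, ← c3.lcm_eq_mul, ← lcm_pow_pow]
  rw [Nat.lcm_assoc, Nat.lcm_assoc]
  congr 1
  rw [← Nat.lcm_assoc, ← Nat.lcm_assoc, Nat.lcm_comm A1 (p ^ k2)]

/-- an element of order `p ^ max k1 k2` from elements of orders `p ^ k1`, `p ^ k2` -/
theorem exists_max {G : Type*} [Group G] (p k1 k2 : ℕ) (h1 : ∃ u : G, orderOf u = p ^ k1)
    (h2 : ∃ u : G, orderOf u = p ^ k2) : ∃ u : G, orderOf u = p ^ max k1 k2 := by
  rcases le_total k1 k2 with h | h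
  · rw [max_eq_right h]; exact h2
  · rw [max_eq_left h]; exact h1

/-- LEMMA A: three slots absorb `r` -/
theorem lemmaA [CharP F p] (hp : p.Prime) (a : ℕ) (ha : 1 ≤ a) (hF : q = p ^ a) (hn : 2 ≤ n) (r : ℕ)
    (hr : r.Prime) (hrq : r ∣ q - 1) (hrn : ¬ r ∣ n) (x y z : PSLn) :
    ∃ x' y' z' : PSLn, Nat.lcm (orderOf x') (Nat.lcm (orderOf y') (orderOf z')) =
      Nat.lcm (Nat.lcm (orderOf x) (Nat.lcm (orderOf y) (orderOf z))) r := by
  have hn1 : 1 ≤ n := by omega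
  have hpr : p ≠ r := by
    rintro rfl
    have h1 : p ∣ q := by rw [hF]; exact dvd_pow_self p (by omega)
    have h2 : 2 ≤ q := Fintype.one_lt_card
    have h3 : p ∣ q - (q - 1) := Nat.dvd_sub h1 hrq
    have h4 : q - (q - 1) = 1 := by omega
    rw [h4] at h3
    exact hp.one_lt.ne' (Nat.dvd_one.1 h3)
  have hcop := coprime_singerNum (n := n) hp a ha q hF hn1
  by_cases hx : r ∣ orderOf x
  · refine ⟨x, y, z, ?_⟩
    exact (Nat.lcm_eq_left (dvd_trans hx (Nat.dvd_lcm_left _ _))).symm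
  by_cases hy : r ∣ orderOf y
  · refine ⟨x, y, z, ?_⟩
    exact (Nat.lcm_eq_left (dvd_trans hy (dvd_trans (Nat.dvd_lcm_left _ _) (Nat.dvd_lcm_right _ _)))).symm
  by_cases hz : r ∣ orderOf z
  · refine ⟨x, y, z, ?_⟩
    exact (Nat.lcm_eq_left (dvd_trans hz (dvd_trans (Nat.dvd_lcm_right _ _) (Nat.dvd_lcm_right _ _)))).symm
  rcases good_or_bad' hp hn1 r hr hrq hrn x hx with ⟨x', hx'⟩ | ⟨k1, A1, ho1, hA1, -, hu1⟩
  · refine ⟨x', y, z, ?_⟩
    rw [hx']
    exact lcm_good r _ _ hr hx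
  rcases good_or_bad' hp hn1 r hr hrq hrn y hy with ⟨y', hy'⟩ | ⟨k2, A2, ho2, hA2, -, hu2⟩
  · refine ⟨y', x, z, ?_⟩
    rw [hy', lcm_good r _ _ hr hy]
    congr 1
    rw [← Nat.lcm_assoc, ← Nat.lcm_assoc, Nat.lcm_comm (orderOf y)]
  rcases good_or_bad' hp hn1 r hr hrq hrn z hz with ⟨z', hz'⟩ | ⟨k3, A3, ho3, hA3, -, hu3⟩
  · refine ⟨z', x, y, ?_⟩
    rw [hz', lcm_good r _ _ hr hz]
    congr 1
    rw [Nat.lcm_comm, Nat.lcm_assoc]
  -- all bad: merge
  have c1 : Nat.Coprime p A1 := Nat.Coprime.coprime_dvd_right hA1 hcop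
  have c2 : Nat.Coprime p A2 := Nat.Coprime.coprime_dvd_right hA2 hcop
  have c3 : Nat.Coprime p A3 := Nat.Coprime.coprime_dvd_right hA3 hcop
  have c23 : Nat.Coprime p (Nat.lcm A2 A3) :=
    Nat.Coprime.coprime_dvd_right (Nat.lcm_dvd_mul A2 A3) (c2.mul_right c3)
  set k := max k1 (max k2 k3) with hk
  set A := Nat.lcm A1 (Nat.lcm A2 A3) with hA
  have hN : Nat.lcm (orderOf x) (Nat.lcm (orderOf y) (orderOf z)) = p ^ k * A := by
    rw [ho1, ho2, ho3, merge2 p k2 k3 A2 A3 c2 c3, merge2 p k1 _ A1 _ c1 c23]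
  have hAS : A ∣ singerNum q n := Nat.lcm_dvd hA1 (Nat.lcm_dvd hA2 hA3)
  have cA : Nat.Coprime (p ^ k) A := Nat.Coprime.pow_left _ (Nat.Coprime.coprime_dvd_right hAS hcop)
  obtain ⟨c, hc⟩ := exists_orderOf_of_dvd (F := F) hn1 A hAS
  obtain ⟨u, hu⟩ := exists_max p k1 (max k2 k3) hu1 (exists_max p k2 k3 hu2 hu3)
  obtain ⟨t, ht⟩ := exists_orderOf_r (n := n) hp hn r hr hrq hrn hpr
  refine ⟨c, u, t, ?_⟩
  rw [hc, hu, ht, hN, ← Nat.lcm_assoc, Nat.lcm_comm A, cA.lcm_eq_mul]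

/-- LEMMA B: two slots absorb `r` when `n - 1` is not a power of `p` -/
theorem lemmaB [CharP F p] (hp : p.Prime) (a : ℕ) (ha : 1 ≤ a) (hF : q = p ^ a) (hn : 2 ≤ n) (r : ℕ)
    (hr : r.Prime) (hrq : r ∣ q - 1) (hrn : ¬ r ∣ n) (hnp : ¬ ∃ j : ℕ, n - 1 = p ^ j)
    (x y : PSLn) :
    ∃ x' y' : PSLn, Nat.lcm (orderOf x') (orderOf y') =
      Nat.lcm (Nat.lcm (orderOf x) (orderOf y)) r := by
  have hn1 : 1 ≤ n := by omega
  have hpr : p ≠ r := by
    rintro rfl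
    have h1 : p ∣ q := by rw [hF]; exact dvd_pow_self p (by omega)
    have h2 : 2 ≤ q := Fintype.one_lt_card
    have h3 : p ∣ q - (q - 1) := Nat.dvd_sub h1 hrq
    have h4 : q - (q - 1) = 1 := by omega
    rw [h4] at h3
    exact hp.one_lt.ne' (Nat.dvd_one.1 h3)
  have hcop := coprime_singerNum (n := n) hp a ha q hF hn1
  by_cases hx : r ∣ orderOf x
  · refine ⟨x, y, ?_⟩
    exact (Nat.lcm_eq_left (dvd_trans hx (Nat.dvd_lcm_left _ _))).symm
  by_cases hy : r ∣ orderOf y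
  · refine ⟨x, y, ?_⟩
    exact (Nat.lcm_eq_left (dvd_trans hy (Nat.dvd_lcm_right _ _))).symm
  rcases good_or_bad' hp hn1 r hr hrq hrn x hx with ⟨x', hx'⟩ | ⟨k1, A1, ho1, hA1, hk1, hu1⟩
  · refine ⟨x', y, ?_⟩
    rw [hx']
    exact lcm_good r _ _ hr hx
  rcases good_or_bad' hp hn1 r hr hrq hrn y hy with ⟨y', hy'⟩ | ⟨k2, A2, ho2, hA2, hk2, hu2⟩
  · refine ⟨y', x, ?_⟩
    rw [hy', lcm_good r _ _ hr hy, Nat.lcm_comm (orderOf y)]
  -- both bad
  have c1 : Nat.Coprime p A1 := Nat.Coprime.coprime_dvd_right hA1 hcop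
  have c2 : Nat.Coprime p A2 := Nat.Coprime.coprime_dvd_right hA2 hcop
  set k := max k1 k2 with hk
  set A := Nat.lcm A1 A2 with hA
  have hN : Nat.lcm (orderOf x) (orderOf y) = p ^ k * A := by
    rw [ho1, ho2, merge2 p k1 k2 A1 A2 c1 c2]
  have hAS : A ∣ singerNum q n := Nat.lcm_dvd hA1 hA2
  have cA : Nat.Coprime (p ^ k) A := Nat.Coprime.pow_left _ (Nat.Coprime.coprime_dvd_right hAS hcop)
  have hkk : k = 0 ∨ p ^ (k - 1) < n := by
    rcases le_total k1 k2 with h | h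
    · rw [hk, max_eq_right h]; exact hk2
    · rw [hk, max_eq_left h]; exact hk1
  obtain ⟨c, hc⟩ := exists_orderOf_of_dvd (F := F) hn1 A hAS
  -- an element of order `p ^ k * r`
  obtain ⟨w, hw⟩ : ∃ w : PSLn, orderOf w = p ^ k * r := by
    rcases Nat.eq_zero_or_pos k with h0 | hkpos
    · rw [h0]
      exact exists_orderOf_pow_mul (n := n) hp r hr hrq hrn hpr 0 1 le_rfl (by omega) (by simp)
        (Or.inl rfl)
    · have hlt : p ^ (k - 1) < n := by
        rcases hkk with h | h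
        · omega
        · exact h
      have hne : p ^ (k - 1) ≠ n - 1 := fun h => hnp ⟨k - 1, h.symm⟩
      have hpk : p ^ k = p ^ (k - 1) * p := by
        rw [← pow_succ]
        congr 1
        omega
      have h2 : 2 ≤ p := hp.two_le
      have hpos : 0 < p ^ (k - 1) := pow_pos hp.pos _
      refine exists_orderOf_pow_mul (n := n) hp r hr hrq hrn hpr k (p ^ (k - 1) + 1) (by omega)
        (by omega) ?_ (Or.inr (by omega))
      rw [hpk]
      nlinarith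
  refine ⟨c, w, ?_⟩
  have cr : Nat.Coprime (p ^ k) r :=
    Nat.Coprime.pow_left _ ((Nat.coprime_primes hp hr).2 hpr)
  rw [hc, hw, hN, ← cr.lcm_eq_mul, ← Nat.lcm_assoc, Nat.lcm_comm A, cA.lcm_eq_mul]

/-- elements of `(ℤ/r)^m` have order `1` or `r` -/
theorem orderOf_vec (r m : ℕ) (hr : r.Prime) (v : Multiplicative (Fin m → ZMod r)) :
    orderOf v = 1 ∨ orderOf v = r := by
  have h : v ^ r = 1 := by
    apply Multiplicative.toAdd.injective
    rw [toAdd_pow, toAdd_one]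
    ext i
    simp
  exact (Nat.dvd_prime hr).1 (orderOf_dvd_of_pow_eq_one h)

end ASM

open ASM in
/-- the statement of S2510 -/
theorem main (a r m : ℕ) (hp : p.Prime) (ha : 1 ≤ a) (hF : q = p ^ a) (hn : 2 ≤ n) (hr : r.Prime)
    (hrq : r ∣ q - 1) (hrn : ¬ r ∣ n) :
    Set.range (orderOf : PSLn × PSLn × PSLn × Multiplicative (Fin m → ZMod r) → ℕ) =
      Set.range (orderOf : PSLn × PSLn × PSLn → ℕ) ∧
    ((¬ ∃ j : ℕ, n - 1 = p ^ j) →
      Set.range (orderOf : PSLn × PSLn × Multiplicative (Fin m → ZMod r) → ℕ) =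
        Set.range (orderOf : PSLn × PSLn → ℕ)) := by
  have hchar : CharP F p := charP_of_card hp a hF
  constructor
  · apply Set.eq_of_subset_of_subset
    · rintro N ⟨⟨x, y, z, v⟩, rfl⟩
      rw [Prod.orderOf, Prod.orderOf, Prod.orderOf]
      rcases orderOf_vec r m hr v with hv | hv
      · refine ⟨(x, y, z), ?_⟩
        rw [Prod.orderOf, Prod.orderOf, hv, Nat.lcm_one_right]
      · obtain ⟨x', y', z', h⟩ := lemmaA hp a ha hF hn r hr hrq hrn x y z
        refine ⟨(x', y', z'), ?_⟩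
        rw [Prod.orderOf, Prod.orderOf, h, hv, Nat.lcm_assoc, Nat.lcm_assoc]
    · rintro N ⟨⟨x, y, z⟩, rfl⟩
      refine ⟨(x, y, z, 1), ?_⟩
      rw [Prod.orderOf, Prod.orderOf, Prod.orderOf, Prod.orderOf, Prod.orderOf, orderOf_one,
        Nat.lcm_one_right]
  · intro hnp
    apply Set.eq_of_subset_of_subset
    · rintro N ⟨⟨x, y, v⟩, rfl⟩
      rw [Prod.orderOf, Prod.orderOf]
      rcases orderOf_vec r m hr v with hv | hv
      · refine ⟨(x, y), ?_⟩
        rw [Prod.orderOf, hv, Nat.lcm_one_right]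
      · obtain ⟨x', y', h⟩ := lemmaB hp a ha hF hn r hr hrq hrn hnp x y
        refine ⟨(x', y'), ?_⟩
        rw [Prod.orderOf, h, hv, Nat.lcm_assoc]
    · rintro N ⟨⟨x, y⟩, rfl⟩
      refine ⟨(x, y, 1), ?_⟩
      rw [Prod.orderOf, Prod.orderOf, Prod.orderOf, orderOf_one, Nat.lcm_one_right]

end Cfsg.Agent.S2510P
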