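import Mathlib

/-! Generic "absorbing an elementary abelian factor" lemma (helper28), the group-theoretic skeleton of
S2510 / S2511.

`L` a group, `p ≠ r` primes, `S` prime to `p`.  Inputs:
* (I1) every `x : L` of order prime to `r` is *good* (`r * o(x)` is an element order) or *bad*
  (`o(x) = p ^ k * A`, `A ∣ S`, `k = 0 ∨ p ^ (k - 1) < n`);
* (I2) `S` is an element order;
* (I3) `p ^ k * r` is an element order whenever some `1 ≤ b`, `b + 1 ≤ n`, `b ≤ p ^ k`,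
  `k = 0 ∨ p ^ (k - 1) < b`.
Then `L × L × L × (ℤ/r)^m` and `L × L × L` have the same element orders, and so do `L × L × (ℤ/r)^m`
and `L × L` when `n - 1` is not a power of `p`. -/

set_option autoImplicit false

namespace Cfsg.Agent.SpecAbsorb

variable {L : Type*} [Group L]

/-- the data of a bad element -/
def Bad (p n S : ℕ) (x : L) : Prop :=
  ∃ k A : ℕ, orderOf x = p ^ k * A ∧ A ∣ S ∧ (k = 0 ∨ p ^ (k - 1) < n) ∧
    ∃ u : L, orderOf u = p ^ k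

theorem good_or_bad' (p r n S : ℕ) (hp : p.Prime)
    (I1 : ∀ x : L, 0 < orderOf x → ¬ r ∣ orderOf x → (∃ x' : L, orderOf x' = r * orderOf x) ∨
      (∃ k : ℕ, (k = 0 ∨ p ^ (k - 1) < n) ∧ p ^ k ∣ orderOf x ∧ orderOf x ∣ p ^ k * S))
    (x : L) (hx0 : 0 < orderOf x) (hrx : ¬ r ∣ orderOf x) :
    (∃ x' : L, orderOf x' = r * orderOf x) ∨ Bad p n S x := by
  rcases I1 x hx0 hrx with h | ⟨k, hk, h1, h2⟩
  · exact Or.inl h
  · right
    obtain ⟨A, hA⟩ := h1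
    have hpk : 0 < p ^ k := pow_pos hp.pos k
    refine ⟨k, A, hA, ?_, hk, x ^ A, ?_⟩
    · rw [hA] at h2
      exact Nat.dvd_of_mul_dvd_mul_left hpk h2
    · have hA0 : A ≠ 0 := by
        rintro rfl
        rw [mul_zero] at hA
        exact hx0.ne' hA
      rw [orderOf_pow_of_dvd hA0 ⟨p ^ k, by rw [hA, mul_comm]⟩, hA, Nat.mul_div_cancel _ (Nat.pos_of_ne_zero hA0)]

/-- number theory: a good element absorbs `r` -/
theorem lcm_good (r a N : ℕ) (hr : r.Prime) (hra : ¬ r ∣ a) :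
    Nat.lcm (r * a) N = Nat.lcm (Nat.lcm a N) r := by
  have hc : Nat.Coprime r a := (Nat.Prime.coprime_iff_not_dvd hr).2 hra
  rw [← hc.lcm_eq_mul, Nat.lcm_comm r a, Nat.lcm_assoc, Nat.lcm_comm r N, ← Nat.lcm_assoc]

/-- every divisor of an element order is an element order -/
theorem exists_orderOf_of_dvd (S : ℕ) (hS : 0 < S) (I2 : ∃ g : L, orderOf g = S) (A : ℕ) (hA : A ∣ S) :
    ∃ c : L, orderOf c = A := by
  obtain ⟨g, hg⟩ := I2
  obtain ⟨B, hB⟩ := hA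
  have hB0 : B ≠ 0 := by
    rintro rfl
    rw [mul_zero] at hB
    omega
  refine ⟨g ^ B, ?_⟩
  rw [orderOf_pow_of_dvd hB0 ⟨A, by rw [hg, hB, mul_comm]⟩, hg, hB]
  exact Nat.mul_div_cancel _ (Nat.pos_of_ne_zero hB0)

theorem lcm_pow_pow (p k1 k2 : ℕ) : Nat.lcm (p ^ k1) (p ^ k2) = p ^ max k1 k2 := by
  rcases le_total k1 k2 with h | h
  · rw [max_eq_right h]
    exact Nat.lcm_eq_right (pow_dvd_pow p h)
  · rw [max_eq_left h]
    exact Nat.lcm_eq_left (pow_dvd_pow p h)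

/-- merging two bad orders -/
theorem merge2 (p k1 k2 A1 A2 : ℕ) (h1 : Nat.Coprime p A1) (h2 : Nat.Coprime p A2) :
    Nat.lcm (p ^ k1 * A1) (p ^ k2 * A2) = p ^ max k1 k2 * Nat.lcm A1 A2 := by
  have c1 : Nat.Coprime (p ^ k1) A1 := Nat.Coprime.pow_left _ h1
  have c2 : Nat.Coprime (p ^ k2) A2 := Nat.Coprime.pow_left _ h2
  have c3 : Nat.Coprime (p ^ max k1 k2) (Nat.lcm A1 A2) :=
    Nat.Coprime.pow_left _ (Nat.Coprime.coprime_dvd_right (Nat.lcm_dvd_mul A1 A2) (h1.mul_right h2))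
  rw [← c1.lcm_eq_mul, ← c2.lcm_eq_mul, ← c3.lcm_eq_mul, ← lcm_pow_pow]
  rw [Nat.lcm_assoc, Nat.lcm_assoc]
  congr 1
  rw [← Nat.lcm_assoc, ← Nat.lcm_assoc, Nat.lcm_comm A1 (p ^ k2)]

/-- an element of order `p ^ max k1 k2` from elements of orders `p ^ k1`, `p ^ k2` -/
theorem exists_max {G : Type*} [Group G] (p k1 k2 : ℕ) (h1 : ∃ u : G, orderOf u = p ^ k1)
    (h2 : ∃ u : G, orderOf u = p ^ k2) : ∃ u : G, orderOf u = p ^ max k1 k2 := by
  rcases le_total k1 k2 with h | h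
  · rw [max_eq_right h]; exact h2
  · rw [max_eq_left h]; exact h1

section

variable (p r n S : ℕ) (hp : p.Prime) (hr : r.Prime) (hpr : p ≠ r) (hS : 0 < S)
  (hcop : Nat.Coprime p S) (hn : 2 ≤ n)
  (I1 : ∀ x : L, 0 < orderOf x → ¬ r ∣ orderOf x → (∃ x' : L, orderOf x' = r * orderOf x) ∨
    (∃ k : ℕ, (k = 0 ∨ p ^ (k - 1) < n) ∧ p ^ k ∣ orderOf x ∧ orderOf x ∣ p ^ k * S))
  (I2 : ∃ g : L, orderOf g = S)
  (I3 : ∀ k b : ℕ, 1 ≤ b → b + 1 ≤ n → b ≤ p ^ k → (k = 0 ∨ p ^ (k - 1) < b) →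
    ∃ y : L, orderOf y = p ^ k * r)

include hp hr hpr hS hcop hn I1 I2 I3

/-- LEMMA A: three slots absorb `r` -/
theorem lemmaA (x y z : L) (hx0 : 0 < orderOf x) (hy0 : 0 < orderOf y) (hz0 : 0 < orderOf z) :
    ∃ x' y' z' : L, Nat.lcm (orderOf x') (Nat.lcm (orderOf y') (orderOf z')) =
      Nat.lcm (Nat.lcm (orderOf x) (Nat.lcm (orderOf y) (orderOf z))) r := by
  by_cases hx : r ∣ orderOf x
  · refine ⟨x, y, z, ?_⟩
    exact (Nat.lcm_eq_left (dvd_trans hx (Nat.dvd_lcm_left _ _))).symm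
  by_cases hy : r ∣ orderOf y
  · refine ⟨x, y, z, ?_⟩
    exact (Nat.lcm_eq_left (dvd_trans hy (dvd_trans (Nat.dvd_lcm_left _ _) (Nat.dvd_lcm_right _ _)))).symm
  by_cases hz : r ∣ orderOf z
  · refine ⟨x, y, z, ?_⟩
    exact (Nat.lcm_eq_left (dvd_trans hz (dvd_trans (Nat.dvd_lcm_right _ _) (Nat.dvd_lcm_right _ _)))).symm
  rcases good_or_bad' p r n S hp I1 x hx0 hx with ⟨x', hx'⟩ | ⟨k1, A1, ho1, hA1, -, hu1⟩
  · refine ⟨x', y, z, ?_⟩
    rw [hx']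
    exact lcm_good r _ _ hr hx
  rcases good_or_bad' p r n S hp I1 y hy0 hy with ⟨y', hy'⟩ | ⟨k2, A2, ho2, hA2, -, hu2⟩
  · refine ⟨y', x, z, ?_⟩
    rw [hy', lcm_good r _ _ hr hy]
    congr 1
    rw [← Nat.lcm_assoc, ← Nat.lcm_assoc, Nat.lcm_comm (orderOf y)]
  rcases good_or_bad' p r n S hp I1 z hz0 hz with ⟨z', hz'⟩ | ⟨k3, A3, ho3, hA3, -, hu3⟩
  · refine ⟨z', x, y, ?_⟩
    rw [hz', lcm_good r _ _ hr hz]
    congr 1
    rw [Nat.lcm_comm, Nat.lcm_assoc]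
  -- all bad: merge
  have c1 : Nat.Coprime p A1 := Nat.Coprime.coprime_dvd_right hA1 hcop
  have c2 : Nat.Coprime p A2 := Nat.Coprime.coprime_dvd_right hA2 hcop
  have c3 : Nat.Coprime p A3 := Nat.Coprime.coprime_dvd_right hA3 hcop
  have c23 : Nat.Coprime p (Nat.lcm A2 A3) :=
    Nat.Coprime.coprime_dvd_right (Nat.lcm_dvd_mul A2 A3) (c2.mul_right c3)
  set k := max k1 (max k2 k3) with hk
  set A := Nat.lcm A1 (Nat.lcm A2 A3) with hA
  have hN : Nat.lcm (orderOf x) (Nat.lcm (orderOf y) (orderOf z)) = p ^ k * A := by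
    rw [ho1, ho2, ho3, merge2 p k2 k3 A2 A3 c2 c3, merge2 p k1 _ A1 _ c1 c23]
  have hAS : A ∣ S := Nat.lcm_dvd hA1 (Nat.lcm_dvd hA2 hA3)
  have cA : Nat.Coprime (p ^ k) A := Nat.Coprime.pow_left _ (Nat.Coprime.coprime_dvd_right hAS hcop)
  obtain ⟨c, hc⟩ := exists_orderOf_of_dvd (L := L) S hS I2 A hAS
  obtain ⟨u, hu⟩ := exists_max p k1 (max k2 k3) hu1 (exists_max p k2 k3 hu2 hu3)
  obtain ⟨t, ht⟩ : ∃ t : L, orderOf t = r := by
    obtain ⟨y, hy⟩ := I3 0 1 le_rfl (by omega) (by simp) (Or.inl rfl)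
    exact ⟨y, by rw [hy, pow_zero, one_mul]⟩
  refine ⟨c, u, t, ?_⟩
  rw [hc, hu, ht, hN, ← Nat.lcm_assoc, Nat.lcm_comm A, cA.lcm_eq_mul]

/-- LEMMA B: two slots absorb `r` when `n - 1` is not a power of `p` -/
theorem lemmaB (hnp : ¬ ∃ j : ℕ, n - 1 = p ^ j) (x y : L) (hx0 : 0 < orderOf x)
    (hy0 : 0 < orderOf y) :
    ∃ x' y' : L, Nat.lcm (orderOf x') (orderOf y') =
      Nat.lcm (Nat.lcm (orderOf x) (orderOf y)) r := by
  by_cases hx : r ∣ orderOf x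
  · refine ⟨x, y, ?_⟩
    exact (Nat.lcm_eq_left (dvd_trans hx (Nat.dvd_lcm_left _ _))).symm
  by_cases hy : r ∣ orderOf y
  · refine ⟨x, y, ?_⟩
    exact (Nat.lcm_eq_left (dvd_trans hy (Nat.dvd_lcm_right _ _))).symm
  rcases good_or_bad' p r n S hp I1 x hx0 hx with ⟨x', hx'⟩ | ⟨k1, A1, ho1, hA1, hk1, hu1⟩
  · refine ⟨x', y, ?_⟩
    rw [hx']
    exact lcm_good r _ _ hr hx
  rcases good_or_bad' p r n S hp I1 y hy0 hy with ⟨y', hy'⟩ | ⟨k2, A2, ho2, hA2, hk2, hu2⟩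
  · refine ⟨y', x, ?_⟩
    rw [hy', lcm_good r _ _ hr hy, Nat.lcm_comm (orderOf y)]
  -- both bad
  have c1 : Nat.Coprime p A1 := Nat.Coprime.coprime_dvd_right hA1 hcop
  have c2 : Nat.Coprime p A2 := Nat.Coprime.coprime_dvd_right hA2 hcop
  set k := max k1 k2 with hk
  set A := Nat.lcm A1 A2 with hA
  have hN : Nat.lcm (orderOf x) (orderOf y) = p ^ k * A := by
    rw [ho1, ho2, merge2 p k1 k2 A1 A2 c1 c2]
  have hAS : A ∣ S := Nat.lcm_dvd hA1 hA2
  have cA : Nat.Coprime (p ^ k) A := Nat.Coprime.pow_left _ (Nat.Coprime.coprime_dvd_right hAS hcop)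
  have hkk : k = 0 ∨ p ^ (k - 1) < n := by
    rcases le_total k1 k2 with h | h
    · rw [hk, max_eq_right h]; exact hk2
    · rw [hk, max_eq_left h]; exact hk1
  obtain ⟨c, hc⟩ := exists_orderOf_of_dvd (L := L) S hS I2 A hAS
  -- an element of order `p ^ k * r`
  obtain ⟨w, hw⟩ : ∃ w : L, orderOf w = p ^ k * r := by
    rcases Nat.eq_zero_or_pos k with h0 | hkpos
    · rw [h0]
      exact I3 0 1 le_rfl (by omega) (by simp) (Or.inl rfl)
    · have hlt : p ^ (k - 1) < n := by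
        rcases hkk with h | h
        · omega
        · exact h
      have hne : p ^ (k - 1) ≠ n - 1 := fun h => hnp ⟨k - 1, h.symm⟩
      have hpk : p ^ k = p ^ (k - 1) * p := by
        rw [← pow_succ]
        congr 1
        omega
      have h2 : 2 ≤ p := hp.two_le
      have hpos : 0 < p ^ (k - 1) := pow_pos hp.pos _
      refine I3 k (p ^ (k - 1) + 1) (by omega) (by omega) ?_ (Or.inr (by omega))
      rw [hpk]
      nlinarith
  refine ⟨c, w, ?_⟩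
  have cr : Nat.Coprime (p ^ k) r :=
    Nat.Coprime.pow_left _ ((Nat.coprime_primes hp hr).2 hpr)
  rw [hc, hw, hN, ← cr.lcm_eq_mul, ← Nat.lcm_assoc, Nat.lcm_comm A, cA.lcm_eq_mul]

end

/-- elements of `(ℤ/r)^m` have order `1` or `r` -/
theorem orderOf_vec (r m : ℕ) (hr : r.Prime) (v : Multiplicative (Fin m → ZMod r)) :
    orderOf v = 1 ∨ orderOf v = r := by
  have h : v ^ r = 1 := by
    apply Multiplicative.toAdd.injective
    rw [toAdd_pow, toAdd_one]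
    ext i
    simp
  exact (Nat.dvd_prime hr).1 (orderOf_dvd_of_pow_eq_one h)

/-- from the two lemmas to the statement on sets of element orders -/
theorem ranges_of_lemmas [Finite L] (r m : ℕ) (hr : r.Prime) (C : Prop)
    (hA : ∀ x y z : L, ∃ x' y' z' : L, Nat.lcm (orderOf x') (Nat.lcm (orderOf y') (orderOf z')) =
      Nat.lcm (Nat.lcm (orderOf x) (Nat.lcm (orderOf y) (orderOf z))) r)
    (hB : C → ∀ x y : L, ∃ x' y' : L, Nat.lcm (orderOf x') (orderOf y') =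
      Nat.lcm (Nat.lcm (orderOf x) (orderOf y)) r) :
    Set.range (orderOf : L × L × L × Multiplicative (Fin m → ZMod r) → ℕ) =
      Set.range (orderOf : L × L × L → ℕ) ∧
    (C → Set.range (orderOf : L × L × Multiplicative (Fin m → ZMod r) → ℕ) =
        Set.range (orderOf : L × L → ℕ)) := by
  constructor
  · apply Set.eq_of_subset_of_subset
    · rintro N ⟨⟨x, y, z, v⟩, rfl⟩
      rw [Prod.orderOf, Prod.orderOf, Prod.orderOf]
      rcases orderOf_vec r m hr v with hv | hv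
      · refine ⟨(x, y, z), ?_⟩
        rw [Prod.orderOf, Prod.orderOf, hv, Nat.lcm_one_right]
      · obtain ⟨x', y', z', h⟩ := hA x y z
        refine ⟨(x', y', z'), ?_⟩
        rw [Prod.orderOf, Prod.orderOf, h, hv, Nat.lcm_assoc, Nat.lcm_assoc]
    · rintro N ⟨⟨x, y, z⟩, rfl⟩
      refine ⟨(x, y, z, 1), ?_⟩
      rw [Prod.orderOf, Prod.orderOf, Prod.orderOf, Prod.orderOf, Prod.orderOf, orderOf_one,
        Nat.lcm_one_right]
  · intro hnp
    apply Set.eq_of_subset_of_subset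
    · rintro N ⟨⟨x, y, v⟩, rfl⟩
      rw [Prod.orderOf, Prod.orderOf]
      rcases orderOf_vec r m hr v with hv | hv
      · refine ⟨(x, y), ?_⟩
        rw [Prod.orderOf, hv, Nat.lcm_one_right]
      · obtain ⟨x', y', h⟩ := hB hnp x y
        refine ⟨(x', y'), ?_⟩
        rw [Prod.orderOf, h, hv, Nat.lcm_assoc]
    · rintro N ⟨⟨x, y⟩, rfl⟩
      refine ⟨(x, y, 1), ?_⟩
      rw [Prod.orderOf, Prod.orderOf, Prod.orderOf, orderOf_one, Nat.lcm_one_right]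

/-- the generic theorem -/
theorem main [Finite L] (p r n S m : ℕ) (hp : p.Prime) (hr : r.Prime) (hpr : p ≠ r) (hS : 0 < S)
    (hcop : Nat.Coprime p S) (hn : 2 ≤ n)
    (I1 : ∀ x : L, 0 < orderOf x → ¬ r ∣ orderOf x → (∃ x' : L, orderOf x' = r * orderOf x) ∨
      (∃ k : ℕ, (k = 0 ∨ p ^ (k - 1) < n) ∧ p ^ k ∣ orderOf x ∧ orderOf x ∣ p ^ k * S))
    (I2 : ∃ g : L, orderOf g = S)
    (I3 : ∀ k b : ℕ, 1 ≤ b → b + 1 ≤ n → b ≤ p ^ k → (k = 0 ∨ p ^ (k - 1) < b) →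
      ∃ y : L, orderOf y = p ^ k * r) :
    Set.range (orderOf : L × L × L × Multiplicative (Fin m → ZMod r) → ℕ) =
      Set.range (orderOf : L × L × L → ℕ) ∧
    ((¬ ∃ j : ℕ, n - 1 = p ^ j) →
      Set.range (orderOf : L × L × Multiplicative (Fin m → ZMod r) → ℕ) =
        Set.range (orderOf : L × L → ℕ)) :=
  ranges_of_lemmas r m hr _
    (fun x y z => lemmaA p r n S hp hr hpr hS hcop hn I1 I2 I3 x y z (orderOf_pos x) (orderOf_pos y)
      (orderOf_pos z))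
    (fun hnp x y => lemmaB p r n S hp hr hpr hS hcop hn I1 I2 I3 hnp x y (orderOf_pos x)
      (orderOf_pos y))

end Cfsg.Agent.SpecAbsorb
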