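import Cfsg.Agent.Helper29.S2263Defs
import Cfsg.Agent.Helper13.S2263Defs
import Cfsg.Agent.Helper28.SpecAbsorb

/-! S2511 (driver helper28): shared definitions.

`L = PSU_n(q)` over `F`, `|F| = q²`, `q = p^f`, `r` a prime with `r ∣ q + 1`, `r ∤ n`.  The set of element
orders of `L × L × L` is closed under `lcm (·) r` (`Cfsg.Agent.SpecAbsorb.main`).  For `x = π A`
(`A ∈ SU_n(q)`): the minimal polynomial `μ` of `A` is `dag σ`-self-dual (`σ c = c ^ q`).  If `μ` has two
`dag`-orbits of irreducible factors, `μ = G H` with `G`, `H` coprime and `dag`-stable, the idempotents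
of `F[A]` attached to `G`, `H` have orthogonal images and `t = ρ P + Q` (rescaled to determinant one) is
a non-central `r`-element of `SU_n(q)` commuting with `A`: `x` is *good*.  Otherwise (`Single σ μ`)
`o(x) = p ^ k * a` with `a` dividing the order `singerU q n` of a Singer cycle of `L`: `x` is *bad*. -/

set_option autoImplicit false

namespace Cfsg.Agent.S2511P

open Cfsg.Agent.S2263P

/-- the order `(q^n - (-1)^n) / ((q + 1) gcd(n, q + 1))` of a Singer cycle of `PSU_n(q)`
(`wq q n = (q^n - (-1)^n)/(q + 1)`, and `gcd (wq q n) (q + 1) = gcd n (q + 1)`) -/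
def singerU (q n : ℕ) : ℕ := wq q n / Nat.gcd (wq q n) (q + 1)

variable {F : Type*} [Field F] {n q : ℕ}

/-- an element of `SU_n(q)` from a matrix of determinant one preserving the standard Hermitian form -/
def mkSU (M : Matrix (Fin n) (Fin n) F) (hdet : M.det = 1)
    (hM : ∀ x y : Fin n → F,
      Cfsg.hermForm n F q (M.mulVec x) (M.mulVec y) = Cfsg.hermForm n F q x y) :
    Cfsg.SU n F q :=
  ⟨⟨M, hdet⟩, hM⟩

theorem mkSU_coe (M : Matrix (Fin n) (Fin n) F) (hdet : M.det = 1)
    (hM : ∀ x y : Fin n → F,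
      Cfsg.hermForm n F q (M.mulVec x) (M.mulVec y) = Cfsg.hermForm n F q x y) :
    (((mkSU M hdet hM : Cfsg.SU n F q) : Matrix.SpecialLinearGroup (Fin n) F) :
      Matrix (Fin n) (Fin n) F) = M := rfl

theorem mem_SU_iff (g : Matrix.SpecialLinearGroup (Fin n) F) :
    g ∈ Cfsg.SU n F q ↔ ∀ u v : Fin n → F,
      Cfsg.hermForm n F q ((g : Matrix (Fin n) (Fin n) F).mulVec u)
        ((g : Matrix (Fin n) (Fin n) F).mulVec v) = Cfsg.hermForm n F q u v := Iff.rfl

theorem coe_pow_SU (g : Cfsg.SU n F q) (k : ℕ) :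
    (((g ^ k : Cfsg.SU n F q) : Matrix.SpecialLinearGroup (Fin n) F) :
      Matrix (Fin n) (Fin n) F) =
    ((g : Matrix.SpecialLinearGroup (Fin n) F) : Matrix (Fin n) (Fin n) F) ^ k := by
  rw [Subgroup.coe_pow, Matrix.SpecialLinearGroup.coe_pow]

theorem coe_mul_SU (g h : Cfsg.SU n F q) :
    (((g * h : Cfsg.SU n F q) : Matrix.SpecialLinearGroup (Fin n) F) :
      Matrix (Fin n) (Fin n) F) =
    ((g : Matrix.SpecialLinearGroup (Fin n) F) : Matrix (Fin n) (Fin n) F) *
      ((h : Matrix.SpecialLinearGroup (Fin n) F) : Matrix (Fin n) (Fin n) F) := by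
  rw [Subgroup.coe_mul, Matrix.SpecialLinearGroup.coe_mul]

end Cfsg.Agent.S2511P
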