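import Cfsg.Agent.Helper28.S2511Defs
import Cfsg.Agent.Helper13.S2496ASM
import Cfsg.Agent.Helper29.S2263Upper

/-! S2511 piece SINGEVEN (driver helper28). -/

set_option autoImplicit false

namespace Cfsg.Agent.S2511P

open Cfsg.Agent.S2263P Cfsg.Agent.S2264P Cfsg.Agent.S2496P

section herm

variable {F : Type*} [Field F] [Fintype F] {p : ℕ} [Fact p.Prime] [CharP F p] {f q : ℕ}

/-- SINGEVEN -/
theorem exists_singerU_even (hq : q = p ^ f) (hF : Fintype.card F = q ^ 2) {n : ℕ} (hn : 2 ≤ n)
    (heven : Even n) : ∃ g : Cfsg.PSU n F q, orderOf g = singerU q n := by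
  obtain ⟨h, hh⟩ := id heven
  have hn2 : n = 2 * h := by omega
  subst hn2
  have : NeZero h := ⟨by omega⟩
  let K := FiniteField.Extension F p h
  have hK : Module.finrank F K = h := FiniteField.finrank_extension F p h
  have : CharP K p := charP_of_injective_algebraMap (algebraMap F K).injective p
  have hq2 : 2 ≤ q := two_le_q hF
  apply Cfsg.Agent.S2496P.ASM.exists_orderOf_of_dvd (K := K) hq hF hK rfl (by omega) hq2
  unfold singerU wq
  rw [if_pos heven]

end herm

end Cfsg.Agent.S2511P
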