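import Cfsg.Agent.Helper28.S2511Defs
import Cfsg.Agent.Helper9.S2263BASIS
import Cfsg.Agent.Helper14.S2496CENTER

/-! S2511 pieces TRANSPORTSU, PROJORDSU, ISOMORD (driver helper28). -/

set_option autoImplicit false

namespace Cfsg.Agent.S2511P

open Polynomial
open Cfsg.Agent.S2263P Cfsg.Agent.S2264P Cfsg.Agent.S2496P

section herm

variable {F : Type*} [Field F] [Fintype F] {p : ℕ} [Fact p.Prime] [CharP F p] {f q : ℕ}

/-- TRANSPORTSU -/
theorem exists_algEquiv_herm (hq : q = p ^ f) (hF : Fintype.card F = q ^ 2) {V : Type*}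
    [AddCommGroup V] [Module F V] [FiniteDimensional F V] {n : ℕ} (hd : Module.finrank F V = n)
    {H : V → V → F} (hH : IsHerm (frob F p f) H) :
    ∃ e : Module.End F V ≃ₐ[F] Matrix (Fin n) (Fin n) F,
      (∀ X : Module.End F V, (e X).det = LinearMap.det X) ∧
      ∀ X : Module.End F V, (∀ u v, H (X u) (X v) = H u v) →
        ∀ x y : Fin n → F, Cfsg.hermForm n F q ((e X).mulVec x) ((e X).mulVec y) =
          Cfsg.hermForm n F q x y := by
  obtain ⟨b, hb⟩ := exists_herm_basis hq hF hd hH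
  have hcoe : ∀ X : Module.End F V, LinearMap.toMatrixAlgEquiv b X = LinearMap.toMatrix b b X :=
    fun X => rfl
  refine ⟨LinearMap.toMatrixAlgEquiv b, ?_, ?_⟩
  · intro X
    rw [hcoe]
    exact LinearMap.det_toMatrix b X
  · intro X hX x y
    rw [hcoe]
    have hx : ⇑(b.repr (b.equivFun.symm x)) = x := by
      rw [← Module.Basis.equivFun_apply, LinearEquiv.apply_symm_apply]
    have hy : ⇑(b.repr (b.equivFun.symm y)) = y := by
      rw [← Module.Basis.equivFun_apply, LinearEquiv.apply_symm_apply]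
    have h1 := LinearMap.toMatrix_mulVec_repr b b X (b.equivFun.symm x)
    have h2 := LinearMap.toMatrix_mulVec_repr b b X (b.equivFun.symm y)
    rw [hx] at h1
    rw [hy] at h2
    rw [h1, h2, ← hb, hX, hb, hx, hy]

/-- PROJORDSU -/
theorem mk_SU_pow_eq_one_iff (hF : Fintype.card F = q ^ 2) {n : ℕ} (hn : 2 ≤ n) (g : Cfsg.SU n F q)
    (k : ℕ) :
    (QuotientGroup.mk g : Cfsg.PSU n F q) ^ k = 1 ↔
      ∃ c : F, ((g : Matrix.SpecialLinearGroup (Fin n) F) : Matrix (Fin n) (Fin n) F) ^ k = c • 1 := by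
  rw [← QuotientGroup.mk_pow, QuotientGroup.eq_one_iff, mem_center_SU_iff hF hn, coe_pow_SU]

/-- ISOMORD -/
theorem exists_PSU_orderOf (hq : q = p ^ f) (hF : Fintype.card F = q ^ 2) {n : ℕ} (hn : 2 ≤ n)
    {V : Type*} [AddCommGroup V] [Module F V] [FiniteDimensional F V]
    (hd : Module.finrank F V = n) {H : V → V → F} (hH : IsHerm (frob F p f) H)
    (X : Module.End F V) (hX : ∀ u v, H (X u) (X v) = H u v) (hdet : LinearMap.det X = 1) {N : ℕ}
    (hN : ∀ k : ℕ, (∃ c : F, X ^ k = c • 1) ↔ N ∣ k) :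
    ∃ g : Cfsg.PSU n F q, orderOf g = N := by
  obtain ⟨e, he1, he2⟩ := exists_algEquiv_herm hq hF hd hH
  set g : Cfsg.SU n F q := mkSU (e X) (by rw [he1, hdet]) (he2 X hX) with hg
  have key : ∀ k : ℕ, (QuotientGroup.mk g : Cfsg.PSU n F q) ^ k = 1 ↔ N ∣ k := by
    intro k
    rw [mk_SU_pow_eq_one_iff hF hn, ← hN k, hg, mkSU_coe]
    constructor
    · rintro ⟨c, hc⟩
      refine ⟨c, e.injective ?_⟩
      rw [map_pow, hc, map_smul, map_one]
    · rintro ⟨c, hc⟩
      refine ⟨c, ?_⟩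
      rw [← map_pow, hc, map_smul, map_one]
  refine ⟨QuotientGroup.mk g, ?_⟩
  apply Nat.dvd_antisymm
  · exact orderOf_dvd_of_pow_eq_one ((key N).2 dvd_rfl)
  · exact (key _).1 (pow_orderOf_eq_one _)

end herm

end Cfsg.Agent.S2511P
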