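import Mathlib
import Cfsg.Prelude.Def_Classical
import Cfsg.Agent.Helper28.S2512Defs
import Cfsg.Agent.Helper26.S2512SHAPER
import Cfsg.Agent.Helper26.S2512CHARSP
import Cfsg.Agent.Helper28.S2512Lib
import Cfsg.Agent.Helper21.S2264SELFREC
import Cfsg.Agent.Helper14.S2264IRRDVD
import Cfsg.Agent.Helper14.S2264FROBPOW
import Cfsg.Agent.Helper19.S2264RECIP1
import Cfsg.Agent.Helper26.S2264RECIP2
import Cfsg.Agent.Helper14.S2264DEGONE

/-! S2512 piece BADSP (written by helper9, text from departures/helper9_s2512_BADSP.lean.txt; landed by helper28 as a hedge with the real imports): an element of odd order of `Sp_2n(F)` whose minimal polynomial has a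
single `recip`-orbit of irreducible factors has a "bad" order. -/

set_option autoImplicit false

universe u

namespace Cfsg.Agent.S2512P

open Polynomial Matrix
open Cfsg.Agent.S2264P

namespace BADSP

/-- splitting a divisor of `p ^ K * L`, `K = clog p e` -/
theorem split_order (p : ℕ) (hp : p.Prime) (o L e : ℕ)
    (h : o ∣ p ^ (Nat.clog p e) * L) :
    ∃ k a : ℕ, o = p ^ k * a ∧ a ∣ L ∧ (k = 0 ∨ p ^ (k - 1) < e) := by
  obtain ⟨y, z, hy, hz, rfl⟩ := (Nat.dvd_mul).1 h
  obtain ⟨k, hkK, rfl⟩ := (Nat.dvd_prime_pow hp).1 hy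
  refine ⟨k, z, rfl, hz, ?_⟩
  rcases Nat.eq_zero_or_pos k with hk | hk
  · left; exact hk
  · right
    apply Nat.pow_lt_of_lt_clog
    omega

end BADSP

/-- BADSP (L): see the plan in `departures/helper28_s2512_pieces.md`. -/
theorem badOrd_of_single {F : Type*} [Field F] [Fintype F] {p : ℕ} [Fact p.Prime] [CharP F p]
    {f q n : ℕ} (hp2 : p ≠ 2) (hf : 1 ≤ f) (hq : q = p ^ f) (hF : Fintype.card F = q) (hn : 1 ≤ n)
    (A : Matrix.symplecticGroup (Fin n) F) (hodd : Odd (orderOf A))
    (hs : SingleR (minpoly F (mat A))) :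
    Cfsg.Agent.SpecAbsorbSp.BadOrd p q n (orderOf A) := by
  classical
  have hp : p.Prime := Fact.out
  have h2 : (2 : F) ≠ 0 := by
    intro h
    have h' : ((2 : ℕ) : F) = 0 := by exact_mod_cast h
    have hdvd := (CharP.cast_eq_zero_iff F p 2).1 h'
    have := (Nat.prime_dvd_prime_iff_eq hp Nat.prime_two).1 hdvd
    exact hp2 this
  have : Nonempty (Fin n) := ⟨⟨0, hn⟩⟩
  have hgood := good_minpoly_sp A
  have hint : IsIntegral F (mat A) := Algebra.IsIntegral.isIntegral _
  have hdeg : 1 ≤ (minpoly F (mat A)).natDegree := minpoly.natDegree_pos hint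
  obtain ⟨φ, e, hm, hirr, h0, he, hcase⟩ := single_shape_r hgood hdeg hs
  have heK : e ≤ p ^ Nat.clog p e := Nat.le_pow_clog hp.one_lt e
  rcases hcase with ⟨hr, hμ⟩ | ⟨hr, hμ⟩
  · by_cases hu : IsUnip φ
    · rcases hu with hu | hu
      · -- φ = X - 1
        obtain ⟨m', hem, h2n⟩ := charpoly_self_sp A hm hirr e hμ
        have hd1 : φ.natDegree = 1 := natDegree_of_isUnip (Or.inl hu)
        have h1 : φ ∣ X ^ 1 - 1 := by rw [hu, pow_one]
        have h3 := pow_dvd_X_pow_sub_one p (L := 1) h1 heK
        rw [← hμ] at h3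
        have hdvd := orderOf_dvd_of_minpoly_dvd A _ h3
        obtain ⟨k, a, hka, ha, hk⟩ := BADSP.split_order p hp _ _ _ hdvd
        have ha1 : a = 1 := Nat.dvd_one.1 ha
        refine ⟨k, n, 1, a, hka, (mul_one n).symm, Or.inl (by rw [ha1]; exact one_dvd _), ?_⟩
        rcases hk with hk | hk
        · left; exact hk
        · right; right
          refine ⟨ha1, ?_⟩
          rw [hd1, mul_one] at h2n
          omega
      · exfalso
        apply X_add_one_not_dvd h2 A hodd
        rw [hμ, ← hu]
        exact dvd_pow_self φ (by omega)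
    · obtain ⟨h2d, hev, hdvd0⟩ := selfrec_even hirr hm hr hu
      obtain ⟨m', hem, h2n⟩ := charpoly_self_sp A hm hirr e hμ
      have h3 := pow_dvd_X_pow_sub_one p hdvd0 heK
      rw [← hμ] at h3
      have hdvd := orderOf_dvd_of_minpoly_dvd A _ h3
      obtain ⟨k, a, hka, ha, hk⟩ := BADSP.split_order p hp _ _ _ hdvd
      obtain ⟨d, hd⟩ := hev
      have hd' : φ.natDegree / 2 = d := by omega
      rw [hd', hF] at ha
      refine ⟨k, d, m', a, hka, ?_, Or.inr ha, ?_⟩
      · rw [hd] at h2n
        have : 2 * n = 2 * (d * m') := by rw [h2n]; ring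
        omega
      · rcases hk with hk | hk
        · left; exact hk
        · right; left; omega
  · -- pair case
    obtain ⟨m', hem, hnm⟩ := charpoly_pair_sp A hm hirr h0 hr e hμ
    have hirr' : Irreducible (recip φ) := recip_irreducible hirr h0
    have hm' : (recip φ).Monic := recip_monic h0
    have h0' : (recip φ).coeff 0 ≠ 0 := by
      rw [coeff_zero_recip hm]
      exact inv_ne_zero h0
    have hdeg' : (recip φ).natDegree = φ.natDegree := natDegree_recip h0
    have hd1 := dvd_X_pow_card_pow_sub_one hirr h0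
    have hd2 := dvd_X_pow_card_pow_sub_one hirr' h0'
    rw [hdeg'] at hd2
    have hcop : IsCoprime φ (recip φ) := by
      rw [hirr.coprime_iff_not_dvd]
      intro hdvd
      apply hr
      have hass : Associated φ (recip φ) := hirr.associated_of_dvd hirr' hdvd
      exact (eq_of_monic_of_associated hm hm' hass).symm
    have hd3 : φ * recip φ ∣ X ^ (Fintype.card F ^ φ.natDegree - 1) - 1 :=
      hcop.mul_dvd hd1 hd2
    have h3 := pow_dvd_X_pow_sub_one p hd3 heK
    rw [← hμ] at h3
    have hdvd := orderOf_dvd_of_minpoly_dvd A _ h3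
    obtain ⟨k, a, hka, ha, hk⟩ := BADSP.split_order p hp _ _ _ hdvd
    rw [hF] at ha
    refine ⟨k, φ.natDegree, m', a, hka, ?_, Or.inl ha, ?_⟩
    · rw [hnm]; ring
    · rcases hk with hk | hk
      · left; exact hk
      · right; left; omega

end Cfsg.Agent.S2512P
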