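import Mathlib
import Cfsg.Prelude.Def_Classical
import Cfsg.Agent.Helper28.S2512Lib
import Cfsg.Agent.Helper19.S2512SPLITR
import Cfsg.Agent.Helper8.S2512GOODINV
import Cfsg.Agent.Helper28.S2512BADSP

set_option autoImplicit false

universe u

namespace Cfsg.Agent.S2512P.ASM

open Polynomial Matrix
open Cfsg.Agent.S2264P Cfsg.Agent.S2512P

variable {F : Type u} [Field F] {p : ℕ} [Fact p.Prime] [CharP F p] {f q n : ℕ}

theorem two_ne_zero' (hp2 : p ≠ 2) : (2 : F) ≠ 0 := by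
  intro h
  have h' : ((2 : ℕ) : F) = 0 := by exact_mod_cast h
  rw [CharP.cast_eq_zero_iff F p 2] at h'
  exact hp2 ((Nat.prime_dvd_prime_iff_eq (Fact.out : p.Prime) Nat.prime_two).mp h')

theorem good_or_bad [Fintype F] (hp2 : p ≠ 2) (hf : 1 ≤ f) (hq : q = p ^ f) (hF : Fintype.card F = q)
    (hn : 1 ≤ n) (x : Cfsg.PSp n F) (hodd : Odd (orderOf x)) :
    (∃ x' : Cfsg.PSp n F, orderOf x' = 2 * orderOf x) ∨
      Cfsg.Agent.SpecAbsorbSp.BadOrd p q n (orderOf x) := by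
  have h2 : (2 : F) ≠ 0 := two_ne_zero' hp2
  obtain ⟨A, hAx, hAo⟩ := exists_lift_odd hn x hodd
  by_cases hs : SingleR (minpoly F (mat A))
  · right
    rw [← hAo]
    exact badOrd_of_single hp2 hf hq hF hn A (hAo ▸ hodd) hs
  · left
    obtain ⟨g, h, hg, hh, hgh, hμ, hrg, hrh⟩ := exists_split_r (good_minpoly_sp A) hs
    obtain ⟨t, hc, ht, ht1, htm⟩ := exists_invol_of_split h2 A g h hg hh hgh hμ hrg hrh
    refine ⟨(QuotientGroup.mk (t * A) : Cfsg.PSp n F), ?_⟩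
    rw [orderOf_mk_invol_mul hn A t hc ht ht1 htm (hAx ▸ hodd), hAx]

end Cfsg.Agent.S2512P.ASM
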