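import Mathlib
import Cfsg.Prelude.Def_Classical
import Cfsg.Agent.Helper28.S2512Lib
import Cfsg.Agent.Helper19.S2512TRANSPORTSP

/-! S2512 piece ISOMORDSP (helper28). -/

set_option autoImplicit false

namespace Cfsg.Agent.S2512P

open Polynomial Matrix

variable {F : Type*} [Field F]

/-- ISOMORDSP (M): TRANSPORTSP + CENTERSP. -/
theorem exists_PSp_orderOf (h2 : (2 : F) ≠ 0) {V : Type*} [AddCommGroup V] [Module F V]
    [FiniteDimensional F V] {n : ℕ} (hn : 1 ≤ n) (hd : Module.finrank F V = 2 * n)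
    {B : V → V → F} (hB : IsSymp B) (X : Module.End F V) (hX : ∀ u v, B (X u) (X v) = B u v)
    (N : ℕ) (hN : 0 < N) (hord : ∀ j : ℕ, (X ^ j = 1 ∨ X ^ j = -1) ↔ N ∣ j) :
    ∃ g : Cfsg.PSp n F, orderOf g = N := by
  obtain ⟨e, he⟩ := exists_algEquiv_symp h2 hd hB
  set A : Matrix.symplecticGroup (Fin n) F := ⟨e X, he X hX⟩ with hA
  refine ⟨(QuotientGroup.mk A : Cfsg.PSp n F), ?_⟩
  have key : ∀ j : ℕ, (QuotientGroup.mk A : Cfsg.PSp n F) ^ j = 1 ↔ N ∣ j := by
    intro j
    rw [mk_pow_eq_one_iff hn, ← hord j]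
    have h1 : (mat A) ^ j = e (X ^ j) := by
      rw [map_pow]
    rw [h1]
    constructor
    · rintro (h | h)
      · left
        apply e.injective
        rw [h, map_one]
      · right
        apply e.injective
        rw [h, map_neg, map_one]
    · rintro (h | h)
      · left; rw [h, map_one]
      · right; rw [h, map_neg, map_one]
  apply Nat.dvd_antisymm
  · exact orderOf_dvd_of_pow_eq_one ((key N).mpr dvd_rfl)
  · exact (key _).mp (pow_orderOf_eq_one _)

end Cfsg.Agent.S2512P
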