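import Mathlib
import Cfsg.Prelude.Def_Classical
import Cfsg.Agent.Helper28.S2512Lib
import Cfsg.Agent.Helper28.S2512ISOMORDSP
import Cfsg.Agent.Helper18.S2512BANTI
import Cfsg.Agent.Helper19.S2512TORMBLOCK
import Cfsg.Agent.Helper8.S2512TORPBLOCK
import Cfsg.Agent.Helper20.S2512UNIPBLOCK

/-! S2512 pieces EX1, EX3 (helper28). -/

set_option autoImplicit false

universe u

namespace Cfsg.Agent.S2512P

open Polynomial Matrix

namespace EX

theorem two_ne_zero_of_char {F : Type*} [Field F] {p : ℕ} [Fact p.Prime] [CharP F p]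
    (hp2 : p ≠ 2) : (2 : F) ≠ 0 := by
  intro h
  have h' : ((2 : ℕ) : F) = 0 := by exact_mod_cast h
  rw [CharP.cast_eq_zero_iff F p 2] at h'
  exact hp2 ((Nat.prime_dvd_prime_iff_eq (Fact.out : p.Prime) Nat.prime_two).mp h')

theorem odd_q {p f q : ℕ} (hp : p.Prime) (hp2 : p ≠ 2) (hq : q = p ^ f) : Odd q := by
  rw [hq]; exact (hp.odd_of_ne_two hp2).pow

theorem one_ne_neg_one {F : Type*} [Field F] (h2 : (2 : F) ≠ 0) {W : Type*} [AddCommGroup W]
    [Module F W] [Nontrivial W] : (1 : Module.End F W) ≠ -1 := by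
  intro h
  obtain ⟨v, hv⟩ := exists_ne (0 : W)
  have h1 := congrArg (fun g : Module.End F W => g v) h
  simp only [Module.End.one_apply, LinearMap.neg_apply] at h1
  have h3 : (2 : F) • v = 0 := by
    rw [two_smul]
    nth_rewrite 1 [h1]
    exact neg_add_cancel v
  rcases smul_eq_zero.mp h3 with h4 | h4
  · exact h2 h4
  · exact hv h4

theorem neg_isometry {F : Type*} [Field F] {W : Type*} [AddCommGroup W] [Module F W]
    {B : W → W → F} (hB : IsSymp B) (u : Module.End F W) (hu : ∀ x y, B (u x) (u y) = B x y)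
    (x y : W) : B ((-u) x) ((-u) y) = B x y := by
  have hneg : ∀ a b : W, B (-a) b = - B a b := by
    intro a b
    have := hB.smul_left (-1) a b
    rwa [neg_one_smul, neg_one_mul] at this
  rw [LinearMap.neg_apply, LinearMap.neg_apply, hneg, hB.skew, hneg, hB.skew, hu]
  ring

end EX

open EX

section exist

variable {F : Type u} [Field F] [Fintype F] {p : ℕ} [Fact p.Prime] [CharP F p] {f q n : ℕ}

/-- EX1 (M) -/
theorem exists_orderOf_torus (hp2 : p ≠ 2) (hf : 1 ≤ f) (hq : q = p ^ f) (hF : Fintype.card F = q)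
    (hn : 1 ≤ n) (A : ℕ) (hA : A ∣ (q ^ n - 1) / 2 ∨ A ∣ (q ^ n + 1) / 2) :
    ∃ g : Cfsg.PSp n F, orderOf g = A := by
  have hp : p.Prime := Fact.out
  have h2 : (2 : F) ≠ 0 := two_ne_zero_of_char hp2
  have hqo : Odd (q ^ n) := (odd_q hp hp2 hq).pow
  have hq3 : 3 ≤ q ^ n := by
    have h1 : 3 ≤ p := by
      have := hp.two_le
      omega
    have h2 : p ≤ q := by
      rw [hq]; exact Nat.le_self_pow (by omega) p
    have h3 : q ≤ q ^ n := Nat.le_self_pow (by omega) q
    omega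
  have hAp : 0 < A := by
    rcases hA with h | h
    · exact Nat.pos_of_dvd_of_pos h (by omega)
    · exact Nat.pos_of_dvd_of_pos h (by omega)
  have hfin : ∀ (V : Type u) (_ : AddCommGroup V) (_ : Module F V) (_ : FiniteDimensional F V)
      (B : V → V → F) (X : Module.End F V), IsSymp B → Module.finrank F V = 2 * n →
      (∀ u v, B (X u) (X v) = B u v) → (∀ j : ℕ, X ^ j = 1 ↔ 2 * A ∣ j) →
      (∀ j : ℕ, X ^ j = -1 ↔ (2 * A ∣ 2 * j ∧ ¬ 2 * A ∣ j)) →
      ∃ g : Cfsg.PSp n F, orderOf g = A := by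
    intro V _ _ _ B X hB hdim hiso h1 hm1
    refine exists_PSp_orderOf h2 hn hdim hB X hiso A hAp ?_
    intro j
    rw [h1, hm1, Nat.mul_dvd_mul_iff_left (by norm_num : 0 < 2)]
    constructor
    · rintro (h | h)
      · exact dvd_trans (dvd_mul_left A 2) h
      · exact h.1
    · intro h
      by_cases h' : 2 * A ∣ j
      · left; exact h'
      · right; exact ⟨h, h'⟩
  rcases hA with h | h
  · have h2A : 2 * A ∣ q ^ n - 1 := by
      apply Nat.mul_dvd_of_dvd_div _ h
      obtain ⟨t, ht⟩ := hqo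
      omega
    obtain ⟨V, i1, i2, i3, B, X, hB, hdim, hiso, h1, hm1⟩ :=
      exists_block_minus hp2 hq hF n (2 * A) hn h2A
    exact hfin V i1 i2 i3 B X hB hdim hiso h1 hm1
  · have h2A : 2 * A ∣ q ^ n + 1 := by
      apply Nat.mul_dvd_of_dvd_div _ h
      obtain ⟨t, ht⟩ := hqo
      omega
    obtain ⟨V, i1, i2, i3, B, X, hB, hdim, hiso, h1, hm1⟩ :=
      exists_block_plus hp2 hq hF n (2 * A) hn h2A
    exact hfin V i1 i2 i3 B X hB hdim hiso h1 hm1

/-- EX3 (M-L) -/
theorem exists_orderOf_mixed (hp2 : p ≠ 2) (hf : 1 ≤ f) (hq : q = p ^ f) (hF : Fintype.card F = q)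
    (d c k a : ℕ) (hdc : d + c = n) (hd : 1 ≤ d) (hc : 1 ≤ c) (ha : Odd a)
    (hadvd : a ∣ q ^ d - 1 ∨ a ∣ q ^ d + 1) (hk : k = 0 ∨ p ^ (k - 1) < 2 * c) :
    ∃ g : Cfsg.PSp n F, orderOf g = 2 * a * p ^ k := by
  have hp : p.Prime := Fact.out
  have h2 : (2 : F) ≠ 0 := two_ne_zero_of_char hp2
  have hpo : Odd p := hp.odd_of_ne_two hp2
  have hpa : Nat.Coprime p a := Cfsg.Agent.SpecAbsorbSp.coprime_of_dvd_pm p f q d a hp hf hq hd hadvd
  have hap : 0 < a := ha.pos
  have hn : 1 ≤ n := by omega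
  obtain ⟨u, hu_iso, hu⟩ := exists_unip_block (F := F) hp2 c k hc hk
  have hfin : ∀ (V : Type u) (_ : AddCommGroup V) (_ : Module F V) (_ : FiniteDimensional F V)
      (B : V → V → F) (X : Module.End F V), IsSymp B → Module.finrank F V = 2 * d →
      (∀ u v, B (X u) (X v) = B u v) → (∀ j : ℕ, X ^ j = 1 ↔ a ∣ j) →
      (∀ j : ℕ, X ^ j = -1 ↔ (a ∣ 2 * j ∧ ¬ a ∣ j)) →
      ∃ g : Cfsg.PSp n F, orderOf g = 2 * a * p ^ k := by
    intro V _ _ _ B₁ X₁ hB₁ hdim hiso h1 hm1
    have hBs : IsSymp (Bsum B₁ (Banti F (2 * c))) := isSymp_Bsum hB₁ (isSymp_Banti c)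
    have hdim' : Module.finrank F (V × (Fin (2 * c) → F)) = 2 * n := by
      rw [Module.finrank_prod, hdim, Module.finrank_fin_fun]; omega
    have hisoX : ∀ x y, Bsum B₁ (Banti F (2 * c)) (X₁.prodMap (-u) x) (X₁.prodMap (-u) y) =
        Bsum B₁ (Banti F (2 * c)) x y :=
      Bsum_prodMap X₁ (-u) hiso (neg_isometry (isSymp_Banti c) u hu_iso)
    have : Nontrivial (Fin (2 * c) → F) := by
      have : Nonempty (Fin (2 * c)) := ⟨⟨0, by omega⟩⟩
      infer_instance
    have hne : (1 : Module.End F (Fin (2 * c) → F)) ≠ -1 := one_ne_neg_one h2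
    -- powers of `-u`
    have hnu1 : ∀ j : ℕ, (-u) ^ j = 1 ↔ (2 ∣ j ∧ p ^ k ∣ j) := by
      intro j
      rcases Nat.even_or_odd j with hj | hj
      · have hnp : (-u) ^ j = u ^ j := Even.neg_pow hj u
        rw [hnp, hu]
        constructor
        · intro h; exact ⟨even_iff_two_dvd.mp hj, h⟩
        · intro h; exact h.2
      · have hnp : (-u) ^ j = -u ^ j := Odd.neg_pow hj u
        rw [hnp]
        constructor
        · intro h
          exfalso
          have h3 : u ^ j = -1 := by rw [← h, neg_neg]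
          have h4 : u ^ (2 * j) = 1 := by
            rw [pow_mul', h3]; exact neg_one_sq (R := Module.End F (Fin (2 * c) → F))
          have h5 : p ^ k ∣ 2 * j := (hu _).mp h4
          have h6 : p ^ k ∣ j := by
            refine Nat.Coprime.dvd_of_dvd_mul_left ?_ h5
            exact Nat.Coprime.pow_left k ((Nat.coprime_two_right).mpr hpo)
          have h7 : u ^ j = 1 := (hu _).mpr h6
          exact hne (h7.symm.trans h3)
        · intro h
          exfalso
          exact (Nat.not_even_iff_odd.mpr hj) (even_iff_two_dvd.mpr h.1)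
    refine exists_PSp_orderOf h2 hn hdim' hBs (X₁.prodMap (-u)) hisoX (2 * a * p ^ k)
      (Nat.mul_pos (Nat.mul_pos (by norm_num) hap) (pow_pos hp.pos k)) ?_
    intro j
    rw [prodMap_pow_eq_one_iff, prodMap_pow_eq_neg_one_iff, h1, hm1, hnu1]
    have hcop1 : Nat.Coprime a 2 := (Nat.coprime_two_right).mpr ha
    have hcop2 : Nat.Coprime (2 * a) (p ^ k) := by
      apply Nat.Coprime.pow_right
      apply Nat.Coprime.mul_left
      · exact (Nat.coprime_two_left).mpr hpo
      · exact hpa.symm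
    constructor
    · rintro (⟨h3, h4, h5⟩ | ⟨⟨h3, h4⟩, -⟩)
      · exact hcop2.mul_dvd_of_dvd_of_dvd (hcop1.symm.mul_dvd_of_dvd_of_dvd h4 h3) h5
      · exfalso
        apply h4
        rw [mul_comm] at h3
        exact hcop1.dvd_of_dvd_mul_right h3
    · intro h
      left
      refine ⟨?_, ?_, ?_⟩
      · exact dvd_trans (Dvd.intro_left _ rfl) (dvd_trans (Dvd.intro _ rfl) h)
      · exact dvd_trans (Dvd.intro _ rfl) (dvd_trans (Dvd.intro _ rfl) h)
      · exact dvd_trans (Dvd.intro_left _ rfl) h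
  rcases hadvd with h | h
  · obtain ⟨V, i1, i2, i3, B, X, hB, hdim, hiso, h1, hm1⟩ :=
      exists_block_minus hp2 hq hF d a hd h
    exact hfin V i1 i2 i3 B X hB hdim hiso h1 hm1
  · obtain ⟨V, i1, i2, i3, B, X, hB, hdim, hiso, h1, hm1⟩ :=
      exists_block_plus hp2 hq hF d a hd h
    exact hfin V i1 i2 i3 B X hB hdim hiso h1 hm1

end exist

end Cfsg.Agent.S2512P
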