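import Mathlib
import Cfsg.Prelude.Def_Solvable
import Cfsg.Agent.Lead.S2553Defs
import Cfsg.Agent.Helper11.SimpleTools
import Cfsg.Agent.S0495
import Cfsg.Agent.Helper2.L27
import Cfsg.Agent.Lead.S2553SYLAMB
import Cfsg.Agent.Helper24.S2553N7

set_option autoImplicit false

/-! S2553, piece CASE168: a subgroup `K ≤ A₈` with a normal simple subgroup of order 168 is that
subgroup, and is isomorphic to `GL₃(2)` (Frattini argument with a Sylow 7-subgroup). -/

namespace Cfsg.Agent.S2553P

/-- CASE168 -/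
theorem case_168 (K : Subgroup Γ8) (hKA : K ≤ A8) (N : Subgroup ↥K) (hN : N.Normal)
    (hs : IsSimpleGroup ↥N) (hcard : Nat.card ↥N = 168) :
    Nonempty (↥K ≃* GL (Fin 3) (ZMod 2)) := by
  classical
  have : Fact (Nat.Prime 7) := ⟨by norm_num⟩
  have hna : ¬ IsMulCommutative ↥N :=
    Cfsg.Agent.Helper11.simple_noncomm_of_card (by rw [hcard]; norm_num)
  obtain ⟨P⟩ : Nonempty (Sylow 7 ↥N) := inferInstance
  have hP : Nat.card ↥(P : Subgroup ↥N) = 7 := by
    rw [Sylow.card_eq_multiplicity, hcard]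
    have h1 : (168 : ℕ).factorization 7 = 1 := by
      have hk : 7 ^ (168 : ℕ).factorization 7 ∣ 168 := Nat.ordProj_dvd 168 7
      have hk1 : 1 ≤ (168 : ℕ).factorization 7 :=
        (Nat.Prime.dvd_iff_one_le_factorization (by norm_num) (by norm_num)).mp (by norm_num)
      by_contra hne
      have hk2 : 2 ≤ (168 : ℕ).factorization 7 := by omega
      have : (7 : ℕ) ^ 2 ∣ 168 := (pow_dvd_pow 7 hk2).trans hk
      norm_num at this
    rw [h1, pow_one]
  obtain ⟨r, hr1, hr6, hra⟩ := Cfsg.Agent.Helper11.simple_automizer_prime (G := ↥N) hna 7 P hP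
  -- the images of `P`
  obtain ⟨P', hP'⟩ : ∃ P' : Subgroup ↥K, P' = (P : Subgroup ↥N).map N.subtype := ⟨_, rfl⟩
  have hP'card : Nat.card ↥P' = 7 := by
    rw [hP']
    exact (Nat.card_congr
      ((P : Subgroup ↥N).equivMapOfInjective N.subtype N.subtype_injective).toEquiv.symm).trans hP
  have hP''card : Nat.card ↥(P'.map K.subtype) = 7 :=
    (Nat.card_congr (P'.equivMapOfInjective K.subtype K.subtype_injective).toEquiv.symm).trans
      hP'card
  have h21 := card_normalizer_dvd K hKA P'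
  rw [card_alt_inf_normalizer_seven _ hP''card] at h21
  -- the normalizer in `N` maps into the normalizer in `K`
  obtain ⟨Y, hY⟩ : ∃ Y : Subgroup ↥K,
      Y = (Subgroup.normalizer ((P : Subgroup ↥N) : Set ↥N)).map N.subtype := ⟨_, rfl⟩
  have hYcard : Nat.card ↥Y = Nat.card ↥(Subgroup.normalizer ((P : Subgroup ↥N) : Set ↥N)) := by
    rw [hY]
    exact Nat.card_congr ((Subgroup.normalizer ((P : Subgroup ↥N) : Set ↥N)).equivMapOfInjective
      N.subtype N.subtype_injective).toEquiv.symm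
  have hYX : Y ≤ Subgroup.normalizer (P' : Set ↥K) := by
    rw [hY, hP']
    exact Subgroup.le_normalizer_map N.subtype
  have hYN : Y ≤ N := by
    rw [hY]
    exact Subgroup.map_subtype_le _
  have hd1 : Nat.card ↥Y ∣ Nat.card ↥(Subgroup.normalizer (P' : Set ↥K)) :=
    Subgroup.card_dvd_of_le hYX
  rw [← hYcard] at hra
  have hY21 : Nat.card ↥Y ∣ 21 := hd1.trans h21
  have hYeq : Nat.card ↥Y = 21 := by
    have hr7 : r * 7 ∣ 21 := hra.trans hY21
    have hr3 : r ∣ 3 := by
      have : r * 7 ∣ 3 * 7 := hr7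
      exact Nat.dvd_of_mul_dvd_mul_right (by norm_num) this
    have hr : r = 3 := by
      have hle : r ≤ 3 := Nat.le_of_dvd (by norm_num) hr3
      interval_cases r
      · simp at hr3
      · exact absurd rfl hr1
      · norm_num at hr3
      · rfl
    subst hr
    exact Nat.dvd_antisymm hY21 hra
  have hXeq : Nat.card ↥(Subgroup.normalizer (P' : Set ↥K)) = 21 := by
    apply Nat.dvd_antisymm h21
    rw [← hYeq]
    exact hd1
  have hXY : Subgroup.normalizer (P' : Set ↥K) = Y := by
    symm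
    apply Subgroup.eq_of_le_of_card_ge hYX
    rw [hXeq, hYeq]
  -- Frattini
  have := hN
  have hfr := Sylow.normalizer_sup_eq_top P
  rw [← hP', hXY, sup_eq_right.mpr hYN] at hfr
  -- conclusion
  obtain ⟨e1⟩ := Cfsg.Agent.S0495.result (G := ↥N) hcard (F := ZMod 7) (by rw [ZMod.card])
  have e0 : ↥K ≃* ↥N :=
    (Subgroup.topEquiv (G := ↥K)).symm.trans (MulEquiv.subgroupCongr hfr.symm)
  exact ⟨e0.trans (e1.trans Cfsg.Agent.Helper2.L27.psiEquiv)⟩

end Cfsg.Agent.S2553P
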