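import Mathlib
import Cfsg.Agent.Helper28.D4Final
import Cfsg.Agent.S1077
import Cfsg.Agent.S1054

set_option autoImplicit false
set_option linter.unusedSectionVars false

/-! The isomorphism `D₄(F) ≃* PΩ₈⁺(F)` of S1082, with its values on the root elements. -/

namespace Cfsg.Agent.Helper28.N4

open Matrix Cfsg.Lie Cfsg.Agent.Helper28.D4T Cfsg.Agent.Helper28.D4M Cfsg.Agent.Helper28.D4H
open Cfsg.Agent.Helper28.Spin Cfsg.Agent.Helper28.Sg

/-- Pure group theory: if `θ : St ↠ G` with `G` simple and `ker θ = Z(St)`, and `ψ : St ↠ P` with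
`P` centreless and nontrivial, then there is an isomorphism `G ≃* P` compatible with `θ`, `ψ`. -/
theorem equiv_of_two_quotients_compat {St G P : Type*} [Group St] [Group G] [Group P]
    (θ : St →* G) (hθ : Function.Surjective θ) (hker : θ.ker = Subgroup.center St)
    (hG : IsSimpleGroup G)
    (ψ : St →* P) (hψ : Function.Surjective ψ) (hP : Subgroup.center P = ⊥) (hnt : Nontrivial P) :
    ∃ e : G ≃* P, ∀ s : St, e (θ s) = ψ s := by
  have hZ : Subgroup.center St ≤ ψ.ker := by
    intro z hz
    rw [MonoidHom.mem_ker]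
    have : ψ z ∈ Subgroup.center P := by
      rw [Subgroup.mem_center_iff]
      intro p
      obtain ⟨s, rfl⟩ := hψ p
      rw [← map_mul, ← map_mul, (Subgroup.mem_center_iff.mp hz s)]
    rw [hP] at this
    exact Subgroup.mem_bot.mp this
  have hN : (ψ.ker.map θ).Normal := Subgroup.Normal.map inferInstance θ hθ
  have hcase := hN.eq_bot_or_eq_top
  have hkk : θ.ker = ψ.ker := by
    rcases hcase with h | h
    · apply le_antisymm
      · rw [hker]; exact hZ
      · intro x hx
        rw [MonoidHom.mem_ker]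
        have : θ x ∈ ψ.ker.map θ := Subgroup.mem_map_of_mem θ hx
        rw [h] at this
        exact Subgroup.mem_bot.mp this
    · exfalso
      have hall : ∀ s : St, ψ s = 1 := by
        intro s
        have : θ s ∈ ψ.ker.map θ := by rw [h]; exact Subgroup.mem_top _
        obtain ⟨n, hn, hns⟩ := Subgroup.mem_map.mp this
        have hz : n⁻¹ * s ∈ θ.ker := by
          rw [MonoidHom.mem_ker, map_mul, map_inv, hns, inv_mul_cancel]
        rw [hker] at hz
        have hz' : ψ (n⁻¹ * s) = 1 := MonoidHom.mem_ker.mp (hZ hz)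
        have hn' : ψ n = 1 := MonoidHom.mem_ker.mp hn
        rw [map_mul, map_inv, hn', inv_one, one_mul] at hz'
        exact hz'
      obtain ⟨p, hp⟩ := exists_ne (1 : P)
      obtain ⟨s, rfl⟩ := hψ p
      exact hp (hall s)
  refine ⟨(QuotientGroup.quotientKerEquivOfSurjective θ hθ).symm.trans
    ((QuotientGroup.quotientMulEquivOfEq hkk).trans
      (QuotientGroup.quotientKerEquivOfSurjective ψ hψ)), fun s => ?_⟩
  have h1 : (QuotientGroup.quotientKerEquivOfSurjective θ hθ).symm (θ s) =
      (QuotientGroup.mk s : St ⧸ θ.ker) := by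
    rw [MulEquiv.symm_apply_eq]
    rfl
  rw [MulEquiv.trans_apply, h1, MulEquiv.trans_apply]
  rfl

variable {F : Type*} [Field F]

/-- the class in `PΩ₈⁺(F)` of the root element `X_r(t)` -/
noncomputable def xP (r : ℕ) (t : F) : Cfsg.POmega F ⇑(QfPlus 4 F) :=
  stHomP (chevD4.stGen F r t)

theorem xP_eq (r : ℕ) (t : F) :
    xP r t = (QuotientGroup.mk (img r t) : Cfsg.POmega F ⇑(QfPlus 4 F)) := rfl

/-- the isomorphism of S1082 with its values on the root elements -/
theorem exists_equiv :
    ∃ Φ : ↥(chevD4.group F) ≃* Cfsg.POmega F ⇑(QfPlus 4 F),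
      ∀ (r : ℕ) (t : F) (y : ↥(chevD4.group F)), r < chevD4.nroots →
        ((y : GL chevD4.Idx F) : Matrix chevD4.Idx chevD4.Idx F) = chevD4.x F r t →
        Φ y = xP r t := by
  obtain ⟨θ, hθs, hθk, hθx⟩ := Cfsg.Agent.S1077.result (K := F) Cfsg.Lie.chevD4 (by simp)
  have hG := (Cfsg.Agent.S1054.result (F := F) Cfsg.Lie.chevD4 (by simp)).1
  have hsimple := POmega8_simple (F := F)
  obtain ⟨e, he⟩ := equiv_of_two_quotients_compat θ hθs hθk hG
    (stHomP (F := F)) stHomP_surjective center_POmega8 hsimple.toNontrivial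
  refine ⟨e, fun r t y hr hy => ?_⟩
  have : y = θ (chevD4.stGen F r t) := by
    apply Subtype.ext
    apply Units.ext
    rw [hy, hθx r t hr]
  rw [this, he]
  rfl

end Cfsg.Agent.Helper28.N4
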