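import Mathlib
import Cfsg.Agent.Helper28.S2715N4a
import Cfsg.Agent.Helper28.PgoAut4
import Cfsg.Agent.Helper2.Aut.RootChar

set_option autoImplicit false
set_option linter.unusedSectionVars false

/-! The diagonal similarities of `quadFormPlus 4 F` realising the root characters of `D₄`. -/

namespace Cfsg.Agent.Helper28.N4

open Matrix Cfsg.Lie Cfsg.Agent.Helper28.D4T Cfsg.Agent.Helper28.D4M Cfsg.Agent.Helper28.D4H
open Cfsg.Agent.Helper28.Spin Cfsg.Agent.Helper28.Sg Cfsg.Agent.Helper28.PG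
open Cfsg.Agent.Helper2.Aut

/-- the exponents of the diagonal entries -/
def ExT : List (List ℤ) :=
  [[1, 1, 1, 0], [0, 1, 1, 0], [0, 0, 1, 0], [0, 0, 0, 0],
   [-1, -1, 0, -1], [0, -1, 0, -1], [0, 0, 0, -1], [0, 0, 1, -1]]

/-- exponent of `a k` in the `i`-th diagonal entry -/
def Ex (i k : ℕ) : ℤ := (ExT.getD i []).getD k 0

/-- exponent of `a k` in the multiplier -/
def Mx (k : ℕ) : ℤ := ([0, 0, 1, -1] : List ℤ).getD k 0

set_option maxRecDepth 100000 in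
theorem Ex_chk : ∀ r < 24, ∀ i < 8, ∀ j < 8, ent r i j ≠ 0 →
    ∀ k < 4, Ex i k - Ex j k = mC chevD4 k r := by
  decide +kernel

theorem Mx_chk : ∀ i < 4, ∀ k < 4, Ex i k + Ex (i + 4) k = Mx k := by
  decide +kernel

variable {F : Type*} [Field F]

/-- the diagonal entries -/
noncomputable def dl (a : ℕ → Fˣ) (i : ℕ) : Fˣ := ∏ k ∈ Finset.range 4, a k ^ Ex i k

/-- the multiplier -/
noncomputable def dmu (a : ℕ → Fˣ) : Fˣ := ∏ k ∈ Finset.range 4, a k ^ Mx k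

theorem dl_mul (a : ℕ → Fˣ) {i : ℕ} (hi : i < 4) : dl a i * dl a (i + 4) = dmu a := by
  unfold dl dmu
  rw [← Finset.prod_mul_distrib]
  apply Finset.prod_congr rfl
  intro k hk
  rw [← _root_.zpow_add, Mx_chk i hi k (Finset.mem_range.1 hk)]

theorem dl_div (a : ℕ → Fˣ) {r i j : ℕ} (hr : r < 24) (hi : i < 8) (hj : j < 8)
    (h : ent r i j ≠ 0) : dl a i * (dl a j)⁻¹ = rootChar chevD4 a r := by
  unfold dl rootChar
  rw [← Finset.prod_inv_distrib, ← Finset.prod_mul_distrib]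
  apply Finset.prod_congr rfl
  intro k hk
  rw [← _root_.zpow_neg, ← _root_.zpow_add, ← sub_eq_add_neg, Ex_chk r hr i hi j hj h k (Finset.mem_range.1 hk)]

/-- the diagonal matrix -/
noncomputable def dM (a : ℕ → Fˣ) : Matrix I8 I8 F :=
  Matrix.diagonal fun i => ((dl a (code i) : Fˣ) : F)

/-- its inverse -/
noncomputable def dMi (a : ℕ → Fˣ) : Matrix I8 I8 F :=
  Matrix.diagonal fun i => (((dl a (code i))⁻¹ : Fˣ) : F)

theorem dM_mul_dMi (a : ℕ → Fˣ) : dM (F := F) a * dMi a = 1 := by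
  unfold dM dMi
  rw [Matrix.diagonal_mul_diagonal, ← Matrix.diagonal_one]
  congr 1
  funext i
  rw [← Units.val_mul, mul_inv_cancel, Units.val_one]

theorem dM_conj_A (a : ℕ → Fˣ) {r : ℕ} (hr : r < 24) :
    dM a * A F r * dMi a = ((rootChar chevD4 a r : Fˣ) : F) • A F r := by
  ext i j
  unfold dM dMi
  rw [Matrix.mul_diagonal, Matrix.diagonal_mul, Matrix.smul_apply, smul_eq_mul]
  unfold A
  rw [MF_apply]
  by_cases h : ent r (code i) (code j) = 0
  · rw [h]; simp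
  · rw [← dl_div a hr (code_lt i) (code_lt j) h, Units.val_mul]
    ring

theorem dM_conj_X (a : ℕ → Fˣ) {r : ℕ} (hr : r < 24) (t : F) :
    dM a * X F r t * dMi a = X F r (((rootChar chevD4 a r : Fˣ) : F) * t) := by
  unfold X
  rw [mul_add, add_mul, mul_one, dM_mul_dMi, Matrix.mul_smul, Matrix.smul_mul, dM_conj_A a hr,
    smul_smul, mul_comm]

theorem dM_sim (a : ℕ → Fˣ) (w : I8 → F) :
    QfPlus 4 F (dM a *ᵥ w) = ((dmu a : Fˣ) : F) * QfPlus 4 F w := by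
  rw [QfPlus_coe]
  unfold Cfsg.quadFormPlus dM
  rw [Finset.mul_sum]
  apply Finset.sum_congr rfl
  intro i _
  rw [Matrix.mulVec_diagonal, Matrix.mulVec_diagonal]
  have := dl_mul a i.isLt
  have h2 : ((dl a (code (Sum.inl i)) : Fˣ) : F) * ((dl a (code (Sum.inr i)) : Fˣ) : F) =
      ((dmu a : Fˣ) : F) := by
    rw [← Units.val_mul]
    exact congrArg _ this
  rw [← h2]
  ring

/-- the diagonal similarity -/
theorem exists_dGO (a : ℕ → Fˣ) :
    ∃ d : ↥(GO (QfPlus 4 F)), ((d : GL I8 F) : Matrix I8 I8 F) = dM a ∧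
      ∀ r < 24, ∀ t : F, cG (QfPlus 4 F) d (xP r t) =
        xP r (((rootChar chevD4 a r : Fˣ) : F) * t) := by
  obtain ⟨d, hd⟩ := exists_GO_of_sim (QfPlus 4 F) (QfPlus_nondeg 4) (dM a) (dmu a) (dM_sim a)
  refine ⟨d, hd, fun r hr t => ?_⟩
  rw [xP_eq, xP_eq, cG_mk]
  congr 1
  apply μ_injective
  rw [μ_img, μ_apply]
  show ((((conjΩ (QfPlus 4 F) d (img r t) : ↥(Cfsg.Omega F ⇑(QfPlus 4 F))) :
    ↥(Cfsg.isometryGroup F ⇑(QfPlus 4 F))) : GL I8 F) : Matrix I8 I8 F) = _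
  rw [conjΩ_val, hd]
  have hinv : (((d : GL I8 F)⁻¹ : GL I8 F) : Matrix I8 I8 F) = dMi a := by
    apply Units.inv_eq_of_mul_eq_one_right
    rw [hd]
    exact dM_mul_dMi a
  rw [hinv]
  have h1 : ((((img r t : ↥(Cfsg.Omega F ⇑(QfPlus 4 F))) :
      ↥(Cfsg.isometryGroup F ⇑(QfPlus 4 F))) : GL I8 F) : Matrix I8 I8 F) = X F r t := by
    rw [← μ_img]
    rfl
  rw [h1, dM_conj_X a hr]

end Cfsg.Agent.Helper28.N4
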