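import Mathlib
import Cfsg.Agent.Helper28.S2715N4b
import Cfsg.Agent.Helper7.PlusG7
import Cfsg.Agent.Helper2.OutD4.Main
import Cfsg.Agent.S2723
import Cfsg.Agent.Helper28.InndiagPlus7

set_option autoImplicit false
set_option linter.unusedSectionVars false

/-! `Inndiag(PΩ₈⁺(F))` is normal in the full automorphism group (triality included): transport of
the normality of the group of inner-diagonal automorphisms of the Chevalley group `D₄(F)` along the
explicit isomorphism of S1082. -/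

namespace Cfsg.Agent.Helper28.N4

open Matrix Cfsg.Lie Cfsg.Agent.Helper28.D4T Cfsg.Agent.Helper28.D4M Cfsg.Agent.Helper28.D4H
open Cfsg.Agent.Helper28.Spin Cfsg.Agent.Helper28.Sg Cfsg.Agent.Helper28.PG
open Cfsg.Agent.Helper28.QPlus Cfsg.Agent.Helper28.IDP
open Cfsg.Agent.Helper2.Aut Cfsg.Agent.Helper6 Cfsg.Agent.Helper7.PlusF Cfsg.Agent.Helper7.PlusG

variable {F : Type*} [Field F]

/-- diagonal similarities preserve the two classes of maximal totally singular subspaces -/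
theorem cls_of_diagonal (d : ↥(GO (QfPlus 4 F))) (δ : I8 → F) (hδ : ∀ i, δ i ≠ 0)
    (hd : ((d : GL I8 F) : Matrix I8 I8 F) = Matrix.diagonal δ) : cls d = 0 := by
  have hE : Cfsg.imageSubmodule (gm d) (E 4 F) = E 4 F := by
    ext v
    rw [mem_image]
    show (∃ u ∈ E 4 F, ((d : GL I8 F) : Matrix I8 I8 F) *ᵥ u = v) ↔ _
    rw [hd]
    constructor
    · rintro ⟨u, hu, rfl⟩
      rw [mem_E_iff] at hu ⊢
      intro i
      rw [Matrix.mulVec_diagonal, hu i, mul_zero]
    · intro hv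
      refine ⟨fun i => (δ i)⁻¹ * v i, ?_, ?_⟩
      · rw [mem_E_iff] at hv ⊢
        intro i
        show (δ (Sum.inr i))⁻¹ * v (Sum.inr i) = 0
        rw [hv i, mul_zero]
      · funext i
        rw [Matrix.mulVec_diagonal, ← mul_assoc, mul_inv_cancel₀ (hδ i), one_mul]
  unfold cls
  rw [hE]
  exact par_self isMax_E

theorem cls_dGO (a : ℕ → Fˣ) (d : ↥(GO (QfPlus 4 F)))
    (hd : ((d : GL I8 F) : Matrix I8 I8 F) = dM a) : cls d = 0 :=
  cls_of_diagonal d _ (fun _ => Units.ne_zero _) hd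

/-- the transport of automorphisms along an isomorphism, on elements -/
theorem congr_apply {G T : Type*} [Group G] [Group T] (Φ : G ≃* T) (α : MulAut G) (g : G) :
    MulAut.congr Φ α (Φ g) = Φ (α g) := by
  show Φ (α (Φ.symm (Φ g))) = Φ (α g)
  rw [MulEquiv.symm_apply_apply]

theorem congr_conj {G T : Type*} [Group G] [Group T] (Φ : G ≃* T) (x : G) :
    MulAut.congr Φ (MulAut.conj x) = MulAut.conj (Φ x) := by
  ext y
  obtain ⟨g, rfl⟩ := Φ.surjective y
  rw [congr_apply, MulAut.conj_apply, MulAut.conj_apply, map_mul, map_mul, map_inv]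

theorem map_congr_Inn {G T : Type*} [Group G] [Group T] (Φ : G ≃* T) :
    (Cfsg.Inn G).map (MulAut.congr Φ).toMonoidHom = Cfsg.Inn T := by
  ext β
  constructor
  · rintro ⟨_, ⟨x, rfl⟩, rfl⟩
    exact ⟨Φ x, (congr_conj Φ x).symm⟩
  · rintro ⟨y, rfl⟩
    obtain ⟨x, rfl⟩ := Φ.surjective y
    exact ⟨MulAut.conj x, ⟨x, rfl⟩, congr_conj Φ x⟩

/-- the transport of a diagonal automorphism of `D₄(F)` is induced by a diagonal similarity -/
theorem congr_diagA (Δ : BNData chevD4 F)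
    (Φ : ↥(chevD4.group F) ≃* Cfsg.POmega F ⇑(QfPlus 4 F))
    (hΦ : ∀ (r : ℕ) (t : F) (y : ↥(chevD4.group F)), r < chevD4.nroots →
      ((y : GL chevD4.Idx F) : Matrix chevD4.Idx chevD4.Idx F) = chevD4.x F r t → Φ y = xP r t)
    (a : ℕ → Fˣ) :
    ∃ d : ↥(GO (QfPlus 4 F)), cls d = 0 ∧
      MulAut.congr Φ (diagA isTab_D4 Δ a) = cG (QfPlus 4 F) d := by
  obtain ⟨d, hd, hdx⟩ := exists_dGO (F := F) a
  refine ⟨d, cls_dGO a d hd, ?_⟩
  have hx : ∀ (r : ℕ) (t : F), r < chevD4.nroots → Φ (xG Δ.hB r t) = xP r t :=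
    fun r t hr => hΦ r t _ hr rfl
  have key : diagA isTab_D4 Δ a = (MulAut.congr Φ).symm (cG (QfPlus 4 F) d) := by
    apply mulEquiv_ext_xG Δ.hB
    intro r t hr
    rw [diagA_xG isTab_D4 Δ a hr]
    show _ = Φ.symm (cG (QfPlus 4 F) d (Φ (xG Δ.hB r t)))
    rw [hx r t hr, hdx r hr t, ← hx r _ hr, MulEquiv.symm_apply_apply]
  rw [key, MulEquiv.apply_symm_apply]

/-- the group of inner automorphisms is the kernel of `MulAut → Out` -/
theorem Inn_eq_comap_bot (G : Type*) [Group G] :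
    Cfsg.Inn G = (⊥ : Subgroup (Cfsg.Out G)).comap (outMk G) := by
  ext α
  rw [Subgroup.mem_comap, Subgroup.mem_bot]
  unfold outMk
  rw [QuotientGroup.mk'_apply, QuotientGroup.eq_one_iff]

theorem relIndex_Inn_inndiag4 [Fintype F] (hodd : Odd (Fintype.card F)) (h2 : (2 : F) ≠ 0) :
    (Cfsg.Inn (Cfsg.POmega F (Cfsg.quadFormPlus 4 F))).relIndex (Cfsg.inndiagPOmegaPlus 4 F) =
      4 := by
  classical
  have hno : ¬ (Odd 4 ∧ Fintype.card F % 4 = 3) := by
    rintro ⟨h, _⟩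
    exact absurd h (by decide)
  have hrel := (Cfsg.Agent.S2723.result hodd (le_refl 4)).2 hno
  exact index_NN h2 (by norm_num) 2 hrel

set_option maxHeartbeats 1600000 in
theorem inndiag_normal4_odd [Fintype F] (hodd : Odd (Fintype.card F)) :
    (Cfsg.inndiagPOmegaPlus 4 F).Normal := by
  classical
  have h2 : (2 : F) ≠ 0 := by
    apply Ring.two_ne_zero
    intro h
    rw [FiniteField.even_card_iff_char_two] at h
    rcases hodd with ⟨k, hk⟩
    omega
  have Δ := bnData_of_tabulated F isTab_D4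
  obtain ⟨Φ, hΦ⟩ := exists_equiv (F := F)
  obtain ⟨tr, htr⟩ : ∃ tr : MulAut ↥(chevD4.group F) →* MulAut (Cfsg.POmega F ⇑(QfPlus 4 F)),
      tr = (MulAut.congr Φ).toMonoidHom := ⟨_, rfl⟩
  have htr_inj : Function.Injective tr := by rw [htr]; exact (MulAut.congr Φ).injective
  have htr_surj : Function.Surjective tr := by rw [htr]; exact (MulAut.congr Φ).surjective
  have htr_apply : ∀ α, tr α = MulAut.congr Φ α := by intro α; rw [htr]; rfl
  have hInnmap : (Cfsg.Inn ↥(chevD4.group F)).map tr = Cfsg.Inn (Cfsg.POmega F ⇑(QfPlus 4 F)) := by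
    rw [htr]; exact map_congr_Inn Φ
  obtain ⟨R, hR⟩ : ∃ R : Subgroup (Cfsg.Out ↥(chevD4.group F)),
      R = (dbarHom isTab_D4 Δ).range := ⟨_, rfl⟩
  have hRn : R.Normal := by rw [hR]; exact dbar_normal isTab_D4 Δ
  have hDn : (R.comap (outMk ↥(chevD4.group F))).Normal := hRn.comap _
  have hNn : ((R.comap (outMk ↥(chevD4.group F))).map tr).Normal := hDn.map tr htr_surj
  have hInnD : Cfsg.Inn ↥(chevD4.group F) ≤ R.comap (outMk ↥(chevD4.group F)) := by
    refine le_of_eq_of_le (Inn_eq_comap_bot _) ?_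
    exact Subgroup.comap_mono bot_le
  have hInnN : Cfsg.Inn (Cfsg.POmega F ⇑(QfPlus 4 F)) ≤
      (R.comap (outMk ↥(chevD4.group F))).map tr := by
    rw [← hInnmap]
    exact Subgroup.map_mono hInnD
  have hInn_le : Cfsg.Inn (Cfsg.POmega F ⇑(QfPlus 4 F)) ≤ Cfsg.inndiagPOmegaPlus 4 F :=
    Inn_le_innD
  have hNle : (R.comap (outMk ↥(chevD4.group F))).map tr ≤ Cfsg.inndiagPOmegaPlus 4 F := by
    rintro _ ⟨α, hα, rfl⟩
    rw [SetLike.mem_coe, Subgroup.mem_comap, hR] at hα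
    obtain ⟨a, ha⟩ := hα
    rw [dbarHom_apply, eq_comm, outMk_eq_iff] at ha
    obtain ⟨x, hx⟩ := ha
    have hα' : α = MulAut.conj x * diagA isTab_D4 Δ a := by
      ext y
      rw [hx y]
      rfl
    obtain ⟨d, hcls, hd⟩ := congr_diagA Δ Φ hΦ a
    rw [htr_apply, hα', map_mul, congr_conj, hd]
    exact Subgroup.mul_mem _ (hInn_le ⟨Φ x, rfl⟩) (cG_mem_inndiag d hcls)
  have hrelN : (Cfsg.Inn (Cfsg.POmega F ⇑(QfPlus 4 F))).relIndex
      ((R.comap (outMk ↥(chevD4.group F))).map tr) = 4 := by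
    rw [← hInnmap, Subgroup.relIndex_map_map_of_injective _ _ htr_inj]
    have hI : (Cfsg.Inn ↥(chevD4.group F)).relIndex (R.comap (outMk ↥(chevD4.group F))) =
        ((⊥ : Subgroup (Cfsg.Out ↥(chevD4.group F))).comap (outMk ↥(chevD4.group F))).relIndex
          (R.comap (outMk ↥(chevD4.group F))) :=
      congrArg (fun K : Subgroup (MulAut ↥(chevD4.group F)) =>
        K.relIndex (R.comap (outMk ↥(chevD4.group F)))) (Inn_eq_comap_bot ↥(chevD4.group F))
    rw [hI, Subgroup.relIndex_comap, Subgroup.map_comap_eq_self_of_surjective outMk_surjective,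
      Subgroup.relIndex_bot_left, hR, Cfsg.Agent.Helper2.Aut.card_range_dbarHom_D4,
      Nat.card_eq_fintype_card]
    obtain ⟨k, hk⟩ := hodd
    have : Nat.gcd 2 (Fintype.card F - 1) = 2 := by
      rw [hk, Nat.add_sub_cancel]
      exact Nat.gcd_eq_left (dvd_mul_right 2 k)
    rw [this]
    norm_num
  have hrelI : (Cfsg.Inn (Cfsg.POmega F ⇑(QfPlus 4 F))).relIndex (Cfsg.inndiagPOmegaPlus 4 F) =
      4 := relIndex_Inn_inndiag4 hodd h2
  have hmul := Subgroup.relIndex_mul_relIndex _ _ _ hInnN hNle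
  rw [hrelN, hrelI] at hmul
  have h1 : ((R.comap (outMk ↥(chevD4.group F))).map tr).relIndex
      (Cfsg.inndiagPOmegaPlus 4 F) = 1 := by omega
  have hle := Subgroup.relIndex_eq_one.1 h1
  have heq : Cfsg.inndiagPOmegaPlus 4 F = (R.comap (outMk ↥(chevD4.group F))).map tr :=
    le_antisymm hle hNle
  rw [heq]
  exact hNn

/-- `Inndiag(PΩ₈⁺(F))` is normal in `Aut(PΩ₈⁺(F))` -/
theorem inndiag_normal4 [Fintype F] : (Cfsg.inndiagPOmegaPlus 4 F).Normal := by
  by_cases h2 : (2 : F) = 0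
  · have h := innD_eq_Inn_char_two (F := F) (m := 4) h2 (by norm_num)
    have h' : Cfsg.inndiagPOmegaPlus 4 F = Cfsg.Inn (Cfsg.POmega F ⇑(QfPlus 4 F)) := h
    rw [h']
    exact Cfsg.innNormal _
  · apply inndiag_normal4_odd
    by_contra hne
    rw [Nat.not_odd_iff_even, Nat.even_iff, ← FiniteField.even_card_iff_char_two] at hne
    apply h2
    have := ringChar.Nat.cast_ringChar (R := F)
    rw [hne] at this
    exact_mod_cast this

end Cfsg.Agent.Helper28.N4
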