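import Mathlib
import Cfsg.Prelude.Def_PLocal
import Cfsg.Agent.Helper28.S2768Defs
import Cfsg.Agent.Helper3.SylowSubnormal
import Cfsg.Agent.Helper14.PCore
import Cfsg.Agent.Helper28.S2768AF
import Cfsg.Agent.Helper28.S2768DWV
import Cfsg.Agent.Helper3.S2768CENTB
import Cfsg.Agent.Helper2.S2768TRANSR

/-! S2768 piece BAUM (blueprint 5.14): Baumann's lemma in the main case, `L ∩ S = B`. -/

set_option autoImplicit false
set_option linter.style.haveILetI false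

namespace Cfsg.Agent.S2768P

open Subgroup

variable {G : Type*} [Group G]

/-- an element of `↥Lg` normalising `T.subgroupOf Lg` conjugates `T` into itself -/
theorem BAUM_aux_cj {Lg T : Subgroup G} (hT : T ≤ Lg) (n : ↥Lg)
    (hn : n ∈ normalizer ((T.subgroupOf Lg : Subgroup ↥Lg) : Set ↥Lg)) : cj (n : G) T = T := by
  have key : ∀ m : ↥Lg, m ∈ normalizer ((T.subgroupOf Lg : Subgroup ↥Lg) : Set ↥Lg) →
      cj (m : G) T ≤ T := by
    intro m hm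
    rintro _ ⟨t, ht, rfl⟩
    have h1 := (mem_normalizer_iff.mp hm ⟨t, hT ht⟩).mp (mem_subgroupOf.mpr ht)
    have h2 := mem_subgroupOf.mp h1
    simpa [MulAut.conj_apply] using h2
  apply le_antisymm (key n hn)
  intro t ht
  have h1 := key n⁻¹ (inv_mem hn) ⟨t, ht, rfl⟩
  refine ⟨(n : G)⁻¹ * t * (n : G), ?_, ?_⟩
  · simpa [MulAut.conj_apply] using h1
  · simp [MulAut.conj_apply, mul_assoc]

/-- conversely, `cj n B = B` gives membership in the normaliser of `B.subgroupOf Lg` -/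
theorem BAUM_aux_norm {Lg T : Subgroup G} (n : ↥Lg) (h : cj (n : G) T = T) :
    n ∈ normalizer ((T.subgroupOf Lg : Subgroup ↥Lg) : Set ↥Lg) := by
  rw [mem_normalizer_iff]
  intro y
  constructor
  · intro hy
    rw [mem_subgroupOf] at hy ⊢
    have : (n : G) * (y : G) * (n : G)⁻¹ ∈ cj (n : G) T := ⟨(y : G), hy, by simp [MulAut.conj_apply]⟩
    rw [h] at this
    simpa using this
  · intro hy
    rw [mem_subgroupOf] at hy ⊢
    have h2 : ((n * y * n⁻¹ : ↥Lg) : G) ∈ cj (n : G) T := by rw [h]; exact hy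
    obtain ⟨t, ht, hte⟩ := h2
    have : t = (y : G) := by
      have h3 : (n : G) * t * (n : G)⁻¹ = (n : G) * (y : G) * (n : G)⁻¹ := by
        simpa [MulAut.conj_apply] using hte
      have h4 := mul_left_cancel (mul_right_cancel h3)
      exact h4
    rw [← this]; exact ht

variable [Finite G] {p : ℕ} [Fact p.Prime]

theorem BAUM (S : Sylow p G) (M : Subgroup G) (hc : Ctx p S M) :
    L (S : Subgroup G) ⊓ (S : Subgroup G) = B (S : Subgroup G) := by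
  classical
  obtain ⟨hL1, hL2, hL3, hL4, hL5⟩ := CENTB S M hc
  obtain ⟨-, -, hRn, -, -, -⟩ := DWV S M hc
  obtain ⟨-, -, -, -, hJS, hJB, -⟩ := AF2 (S : Subgroup G)
  set Lg := L (S : Subgroup G) with hLg
  set Sg := (S : Subgroup G) with hSg
  set Qg := Cfsg.pCore p G with hQg
  set Rg := R p Sg with hRg
  set Bg := B Sg with hBg
  -- basic inclusions
  have hBL : Bg ≤ Lg := by
    rw [hLg]; unfold L; exact Subgroup.subset_normalClosure
  have hBS : Bg ≤ Sg := by rw [hBg]; unfold B; exact inf_le_left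
  have hLn : Lg.Normal := by rw [hLg]; unfold L; exact Subgroup.normalClosure_normal
  have hQS : Qg ≤ Sg := by
    -- `O_p(G)` lies in every Sylow subgroup: from `L ⊓ S = B ⊔ (L ⊓ Q)` we only get part; use lemmaA
    obtain ⟨g, hg⟩ : ∃ g : G, g ∉ M := by
      by_contra hcon
      push Not at hcon
      exact hc.basic.M_ne_top (eq_top_iff.mpr fun x _ => hcon x)
    have h0 : Sg ⊓ cj g M = Qg := hc.basic.lemmaA g hg
    rw [← h0]; exact inf_le_left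
  have hRB : Rg ≤ Bg := by
    rw [hRg, hBg]; unfold R B
    exact inf_le_inf_right _ hQS
  have hRQ : Rg ≤ Qg := by rw [hRg]; unfold R; exact inf_le_left
  have hRL : Rg ≤ Lg := hRB.trans hBL
  have hBQ : Bg ⊓ Qg = Rg := by
    rw [hRg, hBg]; unfold R B
    ext x
    simp only [mem_inf]
    constructor
    · rintro ⟨⟨_, h2⟩, h3⟩; exact ⟨h3, h2⟩
    · rintro ⟨h1, h2⟩; exact ⟨⟨hQS h1, h2⟩, h1⟩
  -- the Sylow subgroup of `↥Lg`
  have hcard : Nat.card ((Lg ⊓ Sg).subgroupOf Lg) = p ^ (Nat.card Lg).factorization p := by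
    rw [Cfsg.Agent.Helper3.card_subgroupOf_eq_card_inf, inf_eq_left.mpr (inf_le_left : Lg ⊓ Sg ≤ Lg),
      inf_comm]
    haveI := hLn
    exact Cfsg.Agent.Helper3.card_sylow_inf_normal S Lg
  let P : Sylow p ↥Lg := Sylow.ofCard _ hcard
  have hP : (P : Subgroup ↥Lg) = (Lg ⊓ Sg).subgroupOf Lg := Sylow.coe_ofCard _ hcard
  -- the subgroups of `↥Lg`
  haveI hRhn : (Rg.subgroupOf Lg).Normal := by
    haveI := hRn
    exact Subgroup.Normal.subgroupOf hRn Lg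
  have h_sup : Bg.subgroupOf Lg ⊔ (Lg ⊓ Qg).subgroupOf Lg = (P : Subgroup ↥Lg) := by
    rw [hP, hL3, subgroupOf_sup hBL inf_le_left]
  have h_inf : Bg.subgroupOf Lg ⊓ (Lg ⊓ Qg).subgroupOf Lg = Rg.subgroupOf Lg := by
    ext x
    simp only [mem_inf, mem_subgroupOf]
    constructor
    · rintro ⟨h1, _, h3⟩
      have : (x : G) ∈ Bg ⊓ Qg := ⟨h1, h3⟩
      rw [hBQ] at this; exact this
    · intro h
      exact ⟨hRB h, x.2, hRQ h⟩
  -- commutators of `B` lie in `R`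
  have hBB : ∀ a ∈ Bg, ∀ b ∈ Bg, a⁻¹ * b⁻¹ * a * b ∈ Rg := by
    intro a ha b hb
    rw [← hBQ]
    refine ⟨Bg.mul_mem (Bg.mul_mem (Bg.mul_mem (Bg.inv_mem ha) (Bg.inv_mem hb)) ha) hb, ?_⟩
    have := hc.basic.quot_comm a⁻¹ (Sg.inv_mem (hBS ha)) b⁻¹ (Sg.inv_mem (hBS hb))
    simpa using this
  -- abelian modulo `R`
  have h_Pc : ∀ a ∈ (P : Subgroup ↥Lg), ∀ b ∈ (P : Subgroup ↥Lg),
      a⁻¹ * b⁻¹ * a * b ∈ Rg.subgroupOf Lg := by
    haveI := hRn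
    intro a ha b hb
    rw [hP, mem_subgroupOf] at ha hb
    rw [mem_subgroupOf]
    haveI hLQn : (Lg ⊓ Qg).Normal := by
      haveI := hLn
      haveI : Qg.Normal := by
        rw [hQg]; exact Cfsg.Agent.Helper14.pCore_normal p
      exact Subgroup.normal_inf_normal Lg Qg
    have hdec : ∀ x ∈ Lg ⊓ Sg, ∃ b₁ ∈ Bg, ∃ y₁ ∈ Lg ⊓ Qg, x = b₁ * y₁ := by
      intro x hx
      rw [hL3] at hx
      have hx' : x ∈ ((Bg ⊔ (Lg ⊓ Qg) : Subgroup G) : Set G) := hx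
      rw [Subgroup.mul_normal] at hx'
      obtain ⟨b₁, hb₁, y₁, hy₁, rfl⟩ := hx'
      exact ⟨b₁, hb₁, y₁, hy₁, rfl⟩
    obtain ⟨b₁, hb₁, y₁, hy₁, ha'⟩ := hdec _ ha
    obtain ⟨b₂, hb₂, y₂, hy₂, hb'⟩ := hdec _ hb
    -- work in `G ⧸ Rg`
    let φ := QuotientGroup.mk' Rg
    have hker : ∀ x : G, φ x = 1 ↔ x ∈ Rg := fun x => QuotientGroup.eq_one_iff x
    have hcomm_of : ∀ u v : G, u⁻¹ * v⁻¹ * u * v ∈ Rg → φ u * φ v = φ v * φ u := by
      intro u v h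
      have h1 := (hker _).mpr h
      simp only [map_mul, map_inv] at h1
      calc φ u * φ v = φ v * φ u * ((φ u)⁻¹ * (φ v)⁻¹ * φ u * φ v) := by group
        _ = φ v * φ u := by rw [h1, mul_one]
    have c_bb := hcomm_of b₁ b₂ (hBB b₁ hb₁ b₂ hb₂)
    have c_y1b2 := hcomm_of y₁ b₂ (hL4 y₁ hy₁ b₂ (hBL hb₂))
    have c_y1y2 := hcomm_of y₁ y₂ (hL4 y₁ hy₁ y₂ hy₂.1)
    have c_y2b1 := hcomm_of y₂ b₁ (hL4 y₂ hy₂ b₁ (hBL hb₁))
    have hfin : φ ((a : G)⁻¹ * (b : G)⁻¹ * (a : G) * (b : G)) = 1 := by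
      rw [ha', hb']
      simp only [map_mul, map_inv]
      have e1 : φ b₁ * φ y₁ * (φ b₂ * φ y₂) = φ b₂ * φ y₂ * (φ b₁ * φ y₁) := by
        calc φ b₁ * φ y₁ * (φ b₂ * φ y₂) = φ b₁ * (φ y₁ * φ b₂) * φ y₂ := by group
          _ = φ b₁ * (φ b₂ * φ y₁) * φ y₂ := by rw [c_y1b2]
          _ = (φ b₁ * φ b₂) * (φ y₁ * φ y₂) := by group
          _ = (φ b₂ * φ b₁) * (φ y₂ * φ y₁) := by rw [c_bb, c_y1y2]
          _ = φ b₂ * (φ b₁ * φ y₂) * φ y₁ := by group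
          _ = φ b₂ * (φ y₂ * φ b₁) * φ y₁ := by rw [c_y2b1]
          _ = φ b₂ * φ y₂ * (φ b₁ * φ y₁) := by group
      calc (φ b₁ * φ y₁)⁻¹ * (φ b₂ * φ y₂)⁻¹ * (φ b₁ * φ y₁) * (φ b₂ * φ y₂)
          = (φ b₁ * φ y₁)⁻¹ * (φ b₂ * φ y₂)⁻¹ * ((φ b₁ * φ y₁) * (φ b₂ * φ y₂)) := by group
        _ = (φ b₁ * φ y₁)⁻¹ * (φ b₂ * φ y₂)⁻¹ * ((φ b₂ * φ y₂) * (φ b₁ * φ y₁)) := by rw [e1]
        _ = 1 := by group
    have := (hker _).mp hfin
    simpa using this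
  -- central modulo `R`
  have h_Zc : ∀ z ∈ (Lg ⊓ Qg).subgroupOf Lg, ∀ h : ↥Lg, z⁻¹ * h⁻¹ * z * h ∈ Rg.subgroupOf Lg := by
    intro z hz h
    rw [mem_subgroupOf] at hz ⊢
    have := hL4 (z : G) hz (h : G) h.2
    simpa using this
  -- `N(P) ≤ N(B)`
  have h_N : normalizer ((P : Subgroup ↥Lg) : Set ↥Lg) ≤
      normalizer ((Bg.subgroupOf Lg : Subgroup ↥Lg) : Set ↥Lg) := by
    intro n hn
    rw [hP] at hn
    have h1 : cj (n : G) (Lg ⊓ Sg) = Lg ⊓ Sg := BAUM_aux_cj inf_le_left n hn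
    have hJT : J Sg ≤ Lg ⊓ Sg := le_inf (hJB.trans hBL) hJS
    obtain ⟨-, -, h3⟩ := AF3 Sg (Lg ⊓ Sg) hJT inf_le_right (n : G) h1
    have h4 : Lg ⊓ Sg ⊓ centralizer (W Sg : Set G) = Bg := by
      rw [hBg]; unfold B
      rw [inf_assoc]
      apply le_antisymm inf_le_right
      exact le_inf hBL le_rfl
    rw [h4] at h3
    exact BAUM_aux_norm n h3
  have hfinal := TRANSR P (Rg.subgroupOf Lg) (Bg.subgroupOf Lg) ((Lg ⊓ Qg).subgroupOf Lg)
    (fun x hx => by rw [mem_subgroupOf] at hx ⊢; exact hRB hx)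
    (fun x hx => by rw [mem_subgroupOf] at hx ⊢; exact ⟨x.2, hRQ hx⟩)
    h_sup h_inf h_Pc h_Zc h_N hL5
  -- conclusion
  have h5 : Lg ⊓ Qg = Rg := by
    have := subgroupOf_inj.mp hfinal
    rw [inf_eq_left.mpr (inf_le_left : Lg ⊓ Qg ≤ Lg), inf_eq_left.mpr hRL] at this
    exact this
  rw [hL3, h5]
  exact sup_eq_left.mpr hRB

end Cfsg.Agent.S2768P
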