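import Mathlib
import Cfsg.Prelude.Def_PLocal
import Cfsg.Agent.Helper28.S2768Defs
import Cfsg.Agent.Helper28.S2768ASM
import Cfsg.Agent.Helper23.S2768IRR
import Cfsg.Agent.Helper16.S2768CASE1A
import Cfsg.Agent.Helper28.S2768BAUM
import Cfsg.Agent.Helper6.S2768SYLFIN

/-! S2768 assembly (blueprint `departures/helper28_KS12_blueprint.md`, §6). -/

set_option autoImplicit false

namespace Cfsg.Agent.S2768P

open Subgroup

variable {G : Type*} [Group G] [Finite G] {p : ℕ} [Fact p.Prime]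

theorem ASM2768 (S : Sylow p G)
    (hE₁ : Subgroup.centralizer (Cfsg.pCore p G : Set G) ≤ Cfsg.pCore p G)
    (hE₂ : ∃! M : Subgroup G, IsCoatom M ∧ (S : Subgroup G) ≤ M) (K : Subgroup G) [K.Normal]
    (F : Type) [Field F] [Fintype F] (n : ℕ) (hn : 1 ≤ n) (hF : Fintype.card F = p ^ n)
    (hE₃ : Nonempty (G ⧸ K ≃* Matrix.ProjectiveSpecialLinearGroup (Fin 2) F))
    (hZ : ¬ ((S : Subgroup G) ⊓ Subgroup.centralizer ((S : Subgroup G) : Set G)).Normal) :
    L (S : Subgroup G) ⊓ (S : Subgroup G) = B (S : Subgroup G) := by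
  obtain ⟨M, hyp⟩ := ASM_aux_hyp S hE₁ hE₂ K F n hn hF hE₃
  by_cases hJ : J (S : Subgroup G) ≤ Cfsg.pCore p G
  · exact CASE1A S hJ
  · exact BAUM S M ⟨ASM_aux_basic S M K hyp, IRR S M K hyp, hJ, hZ⟩

end Cfsg.Agent.S2768P
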