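import Cfsg.Prelude.Def_LocalStructure
import Cfsg.Agent.Helper14.Amalgam6
import Cfsg.Agent.Helper14.Irreducible2

/-!
S2856 + S2857 piece project, piece FRAT.
-/

set_option autoImplicit false

namespace Cfsg.Agent.S2856P

open Cfsg Cfsg.Agent.Helper14

variable {X : Type*} [Group X] {p : ℕ} [Fact p.Prime] (M₁ M₂ : Subgroup X)

/-- piece FRAT: `G_λ = O^p(L_λ) (G_λ ∩ G_μ)` for adjacent `λ`, `μ`. -/
theorem stab_le_res_sup_edge (h : IsSpeAmalgamPair p M₁ M₂) (lam μ : CosetVertex M₁ M₂)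
    (hadj : (cosetGraph M₁ M₂).Adj lam μ) :
    MulAction.stabilizer X lam ≤
      ((pResidual p ↥(pElementClosure p (MulAction.stabilizer X lam))).map
        (pElementClosure p (MulAction.stabilizer X lam)).subtype) ⊔ edgeStabilizer lam μ := by
  have hc := h.1
  obtain ⟨T, hT⟩ := exists_isSylowIn (p := p) (edgeStabilizer lam μ)
  obtain ⟨hTl, hTm⟩ := isSylowIn_stab_of_edge M₁ M₂ hc lam μ hadj T hT
  have hBeq : MulAction.stabilizer X lam ⊓ Subgroup.normalizer (T : Set X) =
      MulAction.stabilizer X μ ⊓ Subgroup.normalizer (T : Set X) :=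
    spe_normalizer_eq M₁ M₂ h lam μ hadj T hT
  set Gν := MulAction.stabilizer X lam with hGν
  set Lν := pElementClosure p Gν with hLν
  have hLG : Lν ≤ Gν := pElementClosure_le p Gν
  have hGL : Gν ≤ Subgroup.normalizer (Lν : Set X) := le_normalizer_pElementClosure p Gν
  have hTL : T ≤ Lν := le_pElementClosure_of_isPGroup p hTl.1 hTl.2.1
  have hTL' : IsSylowIn p T Lν := isSylowIn_of_le_of_isSylowIn hTL hLG hTl
  have := finite_stab M₁ M₂ hc lam
  have : Finite ↥Lν := Finite.of_injective (fun v : ↥Lν => (⟨v.1, hLG v.2⟩ : ↥Gν))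
    (fun a b hab => Subtype.ext (by simpa using congrArg Subtype.val hab))
  have hfr := frattini_ambient hLG hGL hTL'
  -- `G_λ ∩ N(T)` lies in the edge stabiliser
  have hB : Gν ⊓ Subgroup.normalizer (T : Set X) ≤ edgeStabilizer lam μ := by
    intro x hx
    have hx' : x ∈ MulAction.stabilizer X μ ⊓ Subgroup.normalizer (T : Set X) := hBeq ▸ hx
    exact ⟨hx.1, hx'.1⟩
  -- `L_λ = O^p(L_λ) T`
  have hL : Lν ≤ (pResidual p ↥Lν).map Lν.subtype ⊔ T := by
    have h1 := pResidual_sup_sylow (p := p) (H := ↥Lν) hTL'.toSylow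
    have h2 := congrArg (Subgroup.map Lν.subtype) h1
    rw [Subgroup.map_sup, hTL'.toSylow_map, ← MonoidHom.range_eq_map, Subgroup.range_subtype] at h2
    exact h2.ge
  refine hfr.trans (sup_le (hL.trans (sup_le le_sup_left (hT.1.trans le_sup_right)))
    (hB.trans le_sup_right))

end Cfsg.Agent.S2856P
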