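import Cfsg.Prelude.Def_LocalStructure
import Cfsg.Agent.Helper14.Amalgam6
import Cfsg.Agent.Helper14.Irreducible2

/-!
S2856 + S2857 piece project, piece NIL.
-/

set_option autoImplicit false

namespace Cfsg.Agent.S2856P

open Cfsg Cfsg.Agent.Helper14

namespace NIL

/-- In a nilpotent group, `N ≤ W [N, G]` with `W` normal forces `N ≤ W`. -/
theorem le_of_le_sup_commutator_top {G : Type*} [Group G] [Group.IsNilpotent G] (N W : Subgroup G)
    [W.Normal] (h : N ≤ W ⊔ ⁅N, (⊤ : Subgroup G)⁆) : N ≤ W := by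
  have hW : W.map (QuotientGroup.mk' W) = ⊥ := by
    rw [Subgroup.map_eq_bot_iff, QuotientGroup.ker_mk']
  have h1 : N.map (QuotientGroup.mk' W) ≤ ⁅N.map (QuotientGroup.mk' W), (⊤ : Subgroup (G ⧸ W))⁆ := by
    calc N.map (QuotientGroup.mk' W) ≤ (W ⊔ ⁅N, (⊤ : Subgroup G)⁆).map (QuotientGroup.mk' W) :=
          Subgroup.map_mono h
      _ = ⁅N.map (QuotientGroup.mk' W), (⊤ : Subgroup (G ⧸ W))⁆ := by
        rw [Subgroup.map_sup, Subgroup.map_commutator,
          Subgroup.map_top_of_surjective _ (QuotientGroup.mk'_surjective W), hW, bot_sup_eq]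
  have h2 : ∀ k, N.map (QuotientGroup.mk' W) ≤ (⊤ : Subgroup (G ⧸ W)).lowerCentralSeries k := by
    intro k
    induction k with
    | zero => exact le_top
    | succ k ih => exact h1.trans (Subgroup.commutator_mono ih le_rfl)
  obtain ⟨n, hn⟩ := Subgroup.nilpotent_iff_lowerCentralSeries.1
    (inferInstance : Group.IsNilpotent (G ⧸ W))
  have h3 : N.map (QuotientGroup.mk' W) = ⊥ := le_bot_iff.1 (hn ▸ h2 n)
  rw [Subgroup.map_eq_bot_iff, QuotientGroup.ker_mk'] at h3
  exact h3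

end NIL

variable {X : Type*} [Group X] {p : ℕ} [Fact p.Prime] (M₁ M₂ : Subgroup X)

/-- piece NIL: a `p`-group `Q` acting on `V ≤ Q`: if `V = W₀ [V, Q]` with `W₀ ≤ V` `Q`-invariant then
`V = W₀`. -/
theorem le_of_le_sup_commutator (Q V W₀ : Subgroup X) [Finite ↥Q] (hQ : IsPGroup p ↥Q)
    (hVQ : V ≤ Q) (hWV : W₀ ≤ V) (hQV : Q ≤ Subgroup.normalizer (V : Set X))
    (hQW : Q ≤ Subgroup.normalizer (W₀ : Set X)) (h : V ≤ W₀ ⊔ ⁅V, Q⁆) : V ≤ W₀ := by
  have : Group.IsNilpotent ↥Q := hQ.isNilpotent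
  have : (W₀.subgroupOf Q).Normal := Subgroup.normal_subgroupOf_of_le_normalizer hQW
  have hWQ : W₀ ≤ Q := hWV.trans hVQ
  have key : V.subgroupOf Q ≤ W₀.subgroupOf Q := by
    apply NIL.le_of_le_sup_commutator_top
    rw [← Subgroup.map_le_map_iff_of_injective Q.subtype_injective, Subgroup.map_sup,
      Subgroup.map_commutator, Subgroup.map_subgroupOf_eq_of_le hVQ,
      Subgroup.map_subgroupOf_eq_of_le hWQ, ← MonoidHom.range_eq_map, Subgroup.range_subtype]
    exact h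
  intro v hv
  have := @key ⟨v, hVQ hv⟩ (by rw [Subgroup.mem_subgroupOf]; exact hv)
  rw [Subgroup.mem_subgroupOf] at this
  exact this

end Cfsg.Agent.S2856P
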