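import Mathlib
import Cfsg.Agent.Helper28.S2981OFFNTcore
import Cfsg.Agent.Helper15.S2981ALLQ
import Cfsg.Agent.Helper1.S2981OFFSTEP

/-! S2981, pieces OFFNT and OFFN of the board `s2981pieces`: exact offenders lie in `N`. -/

set_option autoImplicit false

namespace Cfsg.Agent.S2981P

open Cfsg.Agent.S2789P Cfsg.Agent.S2999P Cfsg.Agent.S3000P
open scoped commutatorElement

variable {G : Type*} [Group G] [Finite G] {p : ℕ} [Fact p.Prime] {V P : Subgroup G} {T : Sylow p ↥P} {M : Subgroup ↥P} {q : ℕ}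

variable {A E : Subgroup G}

/-- OFFNT (M): exact offenders inside `T` lie in `N` (induction on `|B|`: OFFQ_aux_strict_le, ALLQ, OFFSTEP). -/
theorem OFFNT (Hy : Hyp p V P T M) (hq : MinQ p V P q) (hq2 : 2 < q) (X : PkgT p V P T M q A E)
    {B : Subgroup G} (hB : Off p V P B) (hBT : B ≤ TT T) : B ≤ Ncomp (TT T) E :=
  OFFNT_core Hy X (fun _ h1 h2 => ALLQ Hy hq hq2 X h1 h2)
    (fun _ ht _ h1 h2 h3 => OFFSTEP Hy hq hq2 (PkgT.conj Hy X ht) h1 h2 h3) hB hBT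

/-- OFFN (S/M): (B2). -/
theorem OFFN (Hy : Hyp p V P T M) (hq : MinQ p V P q) (hq2 : 2 < q) (X : PkgT p V P T M q A E)
    {B : Subgroup G} (hB : Off p V P B) : B ≤ Ncomp (TT T) E :=
  OFFN_core Hy X (fun _ h1 h2 => OFFNT Hy hq hq2 X h1 h2) hB

end Cfsg.Agent.S2981P
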