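import Mathlib

set_option autoImplicit false
set_option linter.style.haveILetI false
set_option linter.unusedSectionVars false
set_option linter.unusedVariables false

/-! # S3206, piece REDUCE: reduction of part 1 to central subgroups of order 2.

If a perfect central extension `L` of `G` by a nontrivial `2`-group `Z` existed, then `Z` has a subgroup
`Z0` of index `2`, and `L ⧸ Z0` is a perfect central extension of `G` by `Z ⧸ Z0` of order `2`. -/

namespace Cfsg.Agent.S3206P

/-- REDUCE: reduction of part 1 to central subgroups of order 2. -/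
theorem REDUCE {G : Type*} [Group G]
    (h2 : ∀ (L : Type) (_ : Group L) (_ : Finite L) (Z : Subgroup L) (_ : Z.Normal), commutator L = ⊤ →
      Z ≤ Subgroup.center L → Nat.card ↥Z = 2 → Nonempty (L ⧸ Z ≃* G) → False) :
    ∀ (L : Type) (_ : Group L) (_ : Finite L) (Z : Subgroup L) (_ : Z.Normal), commutator L = ⊤ →
      Z ≤ Subgroup.center L → IsPGroup 2 ↥Z → Nonempty (L ⧸ Z ≃* G) → Z = ⊥ := by
  intro L instL finL Z hZn hperf hZc hZ2 ⟨φ⟩
  by_contra hZne
  haveI : Fact (Nat.Prime 2) := ⟨Nat.prime_two⟩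
  -- `|Z| = 2 ^ (n + 1)`
  obtain ⟨n, hn⟩ := IsPGroup.iff_card.mp hZ2
  have hn0 : n ≠ 0 := by
    rintro rfl
    rw [pow_zero] at hn
    exact hZne (Subgroup.card_eq_one.mp hn)
  obtain ⟨k, rfl⟩ := Nat.exists_eq_succ_of_ne_zero hn0
  -- a subgroup of `Z` of order `2 ^ k`
  obtain ⟨W, hW⟩ := Sylow.exists_subgroup_card_pow_prime (G := Z) 2
    (show 2 ^ k ∣ Nat.card Z by rw [hn]; exact pow_dvd_pow 2 (Nat.le_succ k))
  let Z0 : Subgroup L := W.map Z.subtype
  have hZ0Z : Z0 ≤ Z := by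
    rintro x ⟨y, _, rfl⟩
    exact y.2
  have hZ0card : Nat.card Z0 = 2 ^ k := by
    rw [← hW]
    exact Subgroup.card_map_of_injective Z.subtype_injective
  have hZ0c : Z0 ≤ Subgroup.center L := hZ0Z.trans hZc
  haveI hZ0n : Z0.Normal := by
    refine ⟨fun x hx g => ?_⟩
    have := Subgroup.mem_center_iff.mp (hZ0c hx) g
    have e : g * x * g⁻¹ = x := by rw [this, mul_inv_cancel_right]
    rwa [e]
  -- the quotient
  let Z' : Subgroup (L ⧸ Z0) := Z.map (QuotientGroup.mk' Z0)
  haveI hZ'n : Z'.Normal := Subgroup.Normal.map hZn _ (QuotientGroup.mk'_surjective Z0)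
  have hperf' : commutator (L ⧸ Z0) = ⊤ := by
    rw [commutator_def, ← Subgroup.map_top_of_surjective (QuotientGroup.mk' Z0)
      (QuotientGroup.mk'_surjective Z0), ← Subgroup.map_commutator, ← commutator_def, hperf]
  have hZ'c : Z' ≤ Subgroup.center (L ⧸ Z0) := by
    rintro x ⟨z, hz, rfl⟩
    rw [Subgroup.mem_center_iff]
    intro y
    obtain ⟨y, rfl⟩ := QuotientGroup.mk'_surjective Z0 y
    rw [← map_mul, ← map_mul, Subgroup.mem_center_iff.mp (hZc hz) y]
  have hZ'card : Nat.card Z' = 2 := by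
    -- `|Z| = |Z0| * |Z / Z0|`
    have h1 : Nat.card Z = Nat.card (Z0.subgroupOf Z) * Nat.card (Z ⧸ Z0.subgroupOf Z) :=
      Subgroup.card_eq_card_quotient_mul_card_subgroup (Z0.subgroupOf Z) |>.trans (mul_comm _ _)
    have h2' : Nat.card (Z0.subgroupOf Z) = Nat.card Z0 :=
      Nat.card_congr (Subgroup.subgroupOfEquivOfLe hZ0Z).toEquiv
    -- `Z' ≃ Z / Z0`
    have h3 : Nat.card Z' = Nat.card (Z ⧸ Z0.subgroupOf Z) := by
      have e := QuotientGroup.quotientKerEquivRange ((QuotientGroup.mk' Z0).comp Z.subtype)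
      have hker : ((QuotientGroup.mk' Z0).comp Z.subtype).ker = Z0.subgroupOf Z := by
        ext z
        simp [MonoidHom.mem_ker, Subgroup.mem_subgroupOf]
      have hrange : ((QuotientGroup.mk' Z0).comp Z.subtype).range = Z' := by
        rw [MonoidHom.range_comp, Subgroup.range_subtype]
      rw [← hrange, ← Nat.card_congr e.toEquiv, hker]
    rw [h3]
    rw [hn, h2', hZ0card, pow_succ] at h1
    have hpos : 0 < 2 ^ k := by positivity
    have : 2 ^ k * 2 = 2 ^ k * Nat.card (Z ⧸ Z0.subgroupOf Z) := h1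
    exact (Nat.eq_of_mul_eq_mul_left hpos this).symm
  have ψ : (L ⧸ Z0) ⧸ Z' ≃* G :=
    (QuotientGroup.quotientQuotientEquivQuotient Z0 Z hZ0Z).trans φ
  exact h2 (L ⧸ Z0) inferInstance inferInstance Z' hZ'n hperf' hZ'c hZ'card ⟨ψ⟩

end Cfsg.Agent.S3206P
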