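import Mathlib
import Cfsg.Agent.Helper28.S3493BLOCKFIX

set_option autoImplicit false
set_option linter.style.haveILetI false

/-! # S3493 (extremely primitive groups), piece `H28.DOUBLE`

`N ≅ T^m` a transitive normal subgroup with `N_a ≠ 1` and `m ≥ 2`, `N_a` of product shape or of
block-diagonal shape (the two shapes of the O'Nan–Scott core).  If `G` is extremely primitive then
`m = 2` and `N_a` is the full diagonal.

Proof: `X = {n ∈ N : n agrees with some element of N_a outside the coordinate 0} = T_0 N_a` is a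
subgroup; it is normalised by `G_a` because `h n h⁻¹ ∈ N_a n N_a` (`H28.BLOCKFIX'`); so `X G_a` is a
subgroup containing the maximal subgroup `G_a`, hence `T_0 ≤ N_a` or `T_0 N_a = N`. -/

namespace Cfsg.Agent.S3493P

open MulAction

/-- A fibre of `c` of cardinality at least `2` contains a second element. -/
theorem H28.DOUBLE.aux_second {m k : ℕ} (c : Fin m → Fin m) (hk : 2 ≤ k)
    (hc : ∀ j : Fin m, Nat.card {i : Fin m // c i = j} = k ∨ Nat.card {i : Fin m // c i = j} = 0)
    (i : Fin m) : ∃ j : Fin m, j ≠ i ∧ c j = c i := by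
  by_contra hcon
  push Not at hcon
  haveI : Subsingleton {l : Fin m // c l = c i} := by
    refine ⟨fun x y => ?_⟩
    have hx : (x : Fin m) = i := by
      by_contra h
      exact hcon x h x.2
    have hy : (y : Fin m) = i := by
      by_contra h
      exact hcon y h y.2
    exact Subtype.ext (hx.trans hy.symm)
  have h1 : Nat.card {l : Fin m // c l = c i} = 1 := by
    haveI : Nonempty {l : Fin m // c l = c i} := ⟨⟨i, rfl⟩⟩
    rw [Nat.card_eq_one_iff_unique]
    exact ⟨inferInstance, inferInstance⟩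
  rcases hc (c i) with h | h <;> omega

theorem H28.DOUBLE {G Ω : Type*} [Group G] [Finite G] [MulAction G Ω] [FaithfulSMul G Ω]
    [Nontrivial Ω] (hprim : IsPreprimitive G Ω)
    (hep : ∀ (α ω : Ω), IsPreprimitive (stabilizer G α) (orbit (stabilizer G α) ω))
    (N : Subgroup G) [N.Normal] [IsPretransitive N Ω] (a : Ω)
    (hNa : N ⊓ stabilizer G a ≠ ⊥)
    {T : Type} [Group T] [Nontrivial T] {m : ℕ} (e : N ≃* (Fin m → T)) (hm : 2 ≤ m)
    (hcase : (∃ K : Fin m → Subgroup T, (∀ i, K i ≠ ⊤) ∧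
          ∀ n : N, (n : G) ∈ stabilizer G a ↔ ∀ i, e n i ∈ K i) ∨
        (∃ (k : ℕ) (c : Fin m → Fin m), 2 ≤ k ∧
          (∀ j : Fin m, Nat.card {i : Fin m // c i = j} = k ∨
            Nat.card {i : Fin m // c i = j} = 0) ∧
          ∀ n : N, (n : G) ∈ stabilizer G a ↔ ∀ i j : Fin m, c i = c j → e n i = e n j)) :
    m = 2 ∧ ∀ n : N, (n : G) ∈ stabilizer G a ↔ ∀ i j : Fin m, e n i = e n j := by
  classical
  let i₀ : Fin m := ⟨0, by omega⟩
  let i₁ : Fin m := ⟨1, by omega⟩
  have h01 : i₁ ≠ i₀ := by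
    intro h
    have := congrArg Fin.val h
    simp [i₀, i₁] at this
  -- the subgroup `X = T_0 N_a`
  let X : Subgroup G :=
    { carrier := {g | ∃ (hg : g ∈ N) (k : N), (k : G) ∈ stabilizer G a ∧
        ∀ i, i ≠ i₀ → e ⟨g, hg⟩ i = e k i}
      mul_mem' := by
        rintro g g' ⟨hg, k, hk, hki⟩ ⟨hg', k', hk', hki'⟩
        refine ⟨N.mul_mem hg hg', k * k', ?_, fun i hi => ?_⟩
        · rw [Subgroup.coe_mul]; exact (stabilizer G a).mul_mem hk hk'
        · have : (⟨g * g', N.mul_mem hg hg'⟩ : N) = ⟨g, hg⟩ * ⟨g', hg'⟩ := rfl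
          rw [this, map_mul, map_mul, Pi.mul_apply, Pi.mul_apply, hki i hi, hki' i hi]
      one_mem' := by
        refine ⟨N.one_mem, 1, ?_, fun i _ => ?_⟩
        · rw [Subgroup.coe_one]; exact (stabilizer G a).one_mem
        · have : (⟨1, N.one_mem⟩ : N) = 1 := rfl
          rw [this]
      inv_mem' := by
        rintro g ⟨hg, k, hk, hki⟩
        refine ⟨N.inv_mem hg, k⁻¹, ?_, fun i hi => ?_⟩
        · rw [Subgroup.coe_inv]; exact (stabilizer G a).inv_mem hk
        · have : (⟨g⁻¹, N.inv_mem hg⟩ : N) = (⟨g, hg⟩ : N)⁻¹ := rfl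
          rw [this, map_inv, map_inv, Pi.inv_apply, Pi.inv_apply, hki i hi] }
  have hXmem : ∀ g : G, g ∈ X ↔ ∃ (hg : g ∈ N) (k : N), (k : G) ∈ stabilizer G a ∧
      ∀ i, i ≠ i₀ → e ⟨g, hg⟩ i = e k i := fun g => Iff.rfl
  have hXN : X ≤ N := fun g hg => hg.1
  have hNaX : N ⊓ stabilizer G a ≤ X := by
    intro g hg
    exact ⟨hg.1, ⟨g, hg.1⟩, hg.2, fun i _ => rfl⟩
  -- `X` is normalised by `G_a`
  have hXnorm : ∀ h ∈ stabilizer G a, ∀ g ∈ X, h * g * h⁻¹ ∈ X := by
    intro h hh g hg
    obtain ⟨k₁, hk₁, k₂, hk₂, heq⟩ := H28.BLOCKFIX' hprim hep N a hNa h hh g (hXN hg)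
    rw [heq]
    exact X.mul_mem (X.mul_mem (hNaX hk₁) hg) (hNaX hk₂)
  -- the subgroup `L = X G_a`
  let L : Subgroup G :=
    { carrier := {g | ∃ x ∈ X, ∃ h ∈ stabilizer G a, g = x * h}
      mul_mem' := by
        rintro g g' ⟨x, hx, h, hh, rfl⟩ ⟨x', hx', h', hh', rfl⟩
        refine ⟨x * (h * x' * h⁻¹), X.mul_mem hx (hXnorm h hh x' hx'), h * h',
          (stabilizer G a).mul_mem hh hh', by group⟩
      one_mem' := ⟨1, X.one_mem, 1, (stabilizer G a).one_mem, by group⟩
      inv_mem' := by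
        rintro g ⟨x, hx, h, hh, rfl⟩
        refine ⟨h⁻¹ * x⁻¹ * h⁻¹⁻¹, hXnorm h⁻¹ ((stabilizer G a).inv_mem hh) x⁻¹ (X.inv_mem hx),
          h⁻¹, (stabilizer G a).inv_mem hh, by group⟩ }
  have hHL : stabilizer G a ≤ L := fun h hh => ⟨1, X.one_mem, h, hh, by group⟩
  have hXL : X ≤ L := fun x hx => ⟨x, hx, 1, (stabilizer G a).one_mem, by group⟩
  haveI := hprim
  have hco : IsCoatom (stabilizer G a) := IsPreprimitive.isCoatom_stabilizer_of_isPreprimitive G a
  -- the two alternatives
  have halt : (∀ t : T, ((e.symm (Pi.mulSingle i₀ t) : N) : G) ∈ stabilizer G a) ∨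
      (∀ n : N, ∃ k : N, (k : G) ∈ stabilizer G a ∧ ∀ i, i ≠ i₀ → e n i = e k i) := by
    rcases hco.le_iff.mp hHL with hL | hL
    · right
      intro n
      have hn : (n : G) ∈ L := by rw [hL]; exact Subgroup.mem_top _
      obtain ⟨x, hx, h, hh, hxh⟩ := hn
      have hhN : h ∈ N := by
        have : h = x⁻¹ * (n : G) := by rw [hxh]; group
        rw [this]
        exact N.mul_mem (N.inv_mem (hXN hx)) n.2
      have hnX : (n : G) ∈ X := by
        rw [hxh]
        exact X.mul_mem hx (hNaX ⟨hhN, hh⟩)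
      obtain ⟨hg, k, hk, hki⟩ := hnX
      exact ⟨k, hk, hki⟩
    · left
      intro t
      have hmem : ((e.symm (Pi.mulSingle i₀ t) : N) : G) ∈ X := by
        refine ⟨(e.symm (Pi.mulSingle i₀ t) : N).2, 1, ?_, fun i hi => ?_⟩
        · rw [Subgroup.coe_one]; exact (stabilizer G a).one_mem
        · have : (⟨((e.symm (Pi.mulSingle i₀ t) : N) : G), (e.symm (Pi.mulSingle i₀ t) : N).2⟩ : N)
              = e.symm (Pi.mulSingle i₀ t) := rfl
          rw [this, MulEquiv.apply_symm_apply, map_one, Pi.one_apply, Pi.mulSingle_eq_of_ne hi]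
      have : X ≤ stabilizer G a := by rw [← hL]; exact hXL
      exact this hmem
  obtain ⟨t₀, ht₀⟩ := exists_ne (1 : T)
  rcases hcase with ⟨K, hK, hKs⟩ | ⟨k, c, hk, hc, hcs⟩
  · -- product shape: impossible
    exfalso
    rcases halt with h1 | h2
    · apply hK i₀
      rw [Subgroup.eq_top_iff']
      intro t
      have := (hKs _).mp (h1 t) i₀
      rwa [MulEquiv.apply_symm_apply, Pi.mulSingle_eq_same] at this
    · apply hK i₁
      rw [Subgroup.eq_top_iff']
      intro t
      obtain ⟨k, hk, hki⟩ := h2 (e.symm (Pi.mulSingle i₁ t))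
      have h3 := hki i₁ h01
      rw [MulEquiv.apply_symm_apply, Pi.mulSingle_eq_same] at h3
      rw [h3]
      exact (hKs k).mp hk i₁
  · -- diagonal shape
    rcases halt with h1 | h2
    · exfalso
      obtain ⟨j, hj, hcj⟩ := H28.DOUBLE.aux_second c hk hc i₀
      have := (hcs _).mp (h1 t₀) i₀ j hcj.symm
      rw [MulEquiv.apply_symm_apply, Pi.mulSingle_eq_same, Pi.mulSingle_eq_of_ne hj] at this
      exact ht₀ this
    · -- Step A
      have hA : ∀ i j : Fin m, i ≠ i₀ → j ≠ i₀ → c i = c j → i = j := by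
        intro i j hi hj hcij
        by_contra hij
        obtain ⟨k', hk', hki⟩ := h2 (e.symm (Pi.mulSingle i t₀))
        have h3 := hki i hi
        have h4 := hki j hj
        rw [MulEquiv.apply_symm_apply, Pi.mulSingle_eq_same] at h3
        rw [MulEquiv.apply_symm_apply, Pi.mulSingle_eq_of_ne (Ne.symm hij)] at h4
        have h5 := (hcs k').mp hk' i j hcij
        apply ht₀
        rw [h3, h5, ← h4]
      -- Step B
      have hB : ∀ i : Fin m, c i = c i₀ := by
        intro i
        by_contra hne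
        have hi : i ≠ i₀ := fun h => hne (by rw [h])
        obtain ⟨j, hj, hcj⟩ := H28.DOUBLE.aux_second c hk hc i
        have hj0 : j ≠ i₀ := fun h => hne (by rw [← hcj, h])
        exact hj (hA j i hj0 hi hcj)
      -- Step C
      have hC : m = 2 := by
        by_contra hm2
        have hm3 : 3 ≤ m := by omega
        let i₂ : Fin m := ⟨2, by omega⟩
        have h20 : i₂ ≠ i₀ := by
          intro h
          have := congrArg Fin.val h
          simp [i₀, i₂] at this
        have h21 : i₂ ≠ i₁ := by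
          intro h
          have := congrArg Fin.val h
          simp [i₁, i₂] at this
        exact h21 (hA i₂ i₁ h20 h01 ((hB i₂).trans (hB i₁).symm))
      refine ⟨hC, fun n => ?_⟩
      rw [hcs n]
      constructor
      · intro h i j
        exact h i j ((hB i).trans (hB j).symm)
      · intro h i j _
        exact h i j

end Cfsg.Agent.S3493P
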