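import Mathlib

set_option autoImplicit false

/-! # S3501, piece ONECLASS: the frozen counting hypothesis (exactly one conjugacy class of
derangements) says that any two derangements are conjugate. -/

namespace Cfsg.Agent.S3501P

open MulAction

/-- ONECLASS: the frozen counting hypothesis says any two derangements are conjugate. -/
theorem ONECLASS {G : Type*} [Group G] {Ω : Type*} [MulAction G Ω]
    (h1 : Nat.card {c : ConjClasses G // ∃ g : G, ConjClasses.mk g = c ∧ ∀ ω : Ω, g • ω ≠ ω} = 1)
    (x y : G) (hx : ∀ ω : Ω, x • ω ≠ ω) (hy : ∀ ω : Ω, y • ω ≠ ω) : IsConj x y := by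
  have hsub : Subsingleton
      {c : ConjClasses G // ∃ g : G, ConjClasses.mk g = c ∧ ∀ ω : Ω, g • ω ≠ ω} :=
    (Nat.card_eq_one_iff_unique.mp h1).1
  have h := hsub.elim ⟨ConjClasses.mk x, x, rfl, hx⟩ ⟨ConjClasses.mk y, y, rfl, hy⟩
  exact ConjClasses.mk_eq_mk_iff_isConj.mp (congrArg Subtype.val h)

end Cfsg.Agent.S3501P
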