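import Mathlib
import Cfsg.Agent.Helper9.S3501SHARP

set_option autoImplicit false
set_option linter.unusedSectionVars false
set_option linter.unusedVariables false

/-! # S3520, piece A.FIX1 (= `S3501P.SHARP` in the shape of the S3520 stubs) -/

namespace Cfsg.Agent.S3520P

open MulAction

variable {G : Type*} [Group G] [Finite G] {Ω : Type*} [Fintype Ω] [MulAction G Ω]

/-- A.FIX1: `N` regular abelian normal containing all derangements: a non-identity element fixes at
most one point. -/
theorem A.FIX1 [FaithfulSMul G Ω] (N : Subgroup G) [N.Normal] (hab : IsMulCommutative N)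
    (htr : IsPretransitive N Ω)
    (hall : ∀ g : G, (∀ ω : Ω, g • ω ≠ ω) → g ∈ N) :
    ∀ g : G, g ≠ 1 → ∀ a b : Ω, a ≠ b → g • a = a → g • b ≠ b := by
  have hab' : ∀ x ∈ N, ∀ y ∈ N, x * y = y * x := by
    intro x hx y hy
    have := hab.is_comm.comm (⟨x, hx⟩ : N) ⟨y, hy⟩
    exact congrArg Subtype.val this
  exact Cfsg.Agent.S3501P.SHARP N hab' hall

end Cfsg.Agent.S3520P
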