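import Mathlib
import Cfsg.Agent.Helper28.S3589Defs
import Cfsg.Agent.Helper28.S3589SHAPE
import Cfsg.Agent.Helper28.S3589SPSIDE
import Cfsg.Agent.Helper9.S3589ARITH
import Cfsg.Agent.Helper29.S2264POLY

/-! S3589/S3590 (helper28): the polynomial form of SPSIDE: a self-reciprocal (`Good`) polynomial of
degree between 1 and 8 over a finite field of characteristic 2 divides `X ^ M - 1` for one of the twelve
numbers `M ∈ ords q`; also `(X - 1) * μ` is `Good` when `μ` is. -/

set_option autoImplicit false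

namespace Cfsg.Agent.S3589P

open Module Polynomial
open Cfsg.Agent.S2264P
open scoped Classical

/-- GOODDVD -/
theorem good_dvd {F : Type*} [Field F] [Fintype F] [CharP F 2] {μ : F[X]} (hμ : Good μ)
    (hd1 : 1 ≤ μ.natDegree) (hdeg : μ.natDegree ≤ 8) :
    ∃ M ∈ ords (Fintype.card F), μ ∣ X ^ M - 1 := by
  have : Fact (Nat.Prime 2) := ⟨Nat.prime_two⟩
  have h2 : (2 : F) = 0 := by
    have := CharP.cast_eq_zero F 2
    exact_mod_cast this
  obtain ⟨hE1, hE8, h4, h2', h3, h5, hDm, hDp⟩ := shape hμ hd1 hdeg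
  have hq : 2 ≤ Fintype.card F := Fintype.one_lt_card
  have hev : Even (Fintype.card F) := by
    rw [Nat.even_iff]
    exact FiniteField.even_card_iff_char_two.mp (ringChar.eq F 2)
  obtain ⟨M, hM, hdvd⟩ := arith (Fintype.card F) hq hev (Dm μ) (Dp μ) hDm hDp (Emax μ) hE1 hE8 h4
    h2' h3 h5
  refine ⟨M, hM, ?_⟩
  have h1 := dvd_X_pow_sub_one 2 hμ
  have hN : 2 ^ Nat.clog 2 (Emax μ) * Lexp μ ∣ M :=
    dvd_trans (Nat.mul_dvd_mul_left _ (SPSIDE.Lexp_dvd h2 μ)) hdvd
  generalize 2 ^ Nat.clog 2 (Emax μ) * Lexp μ = N at h1 hN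
  obtain ⟨c, hc⟩ := hN
  have h3' : (X : F[X]) ^ N - 1 ∣ X ^ M - 1 := by
    rw [hc, pow_mul]
    have := sub_dvd_pow_sub_pow ((X : F[X]) ^ N) 1 c
    rwa [one_pow] at this
  exact dvd_trans h1 h3'

/-- `(X - 1) * μ` is again self-reciprocal -/
theorem good_X_sub_one_mul {F : Type*} [Field F] {μ : F[X]} (hμ : Good μ) :
    Good ((X - 1) * μ) := by
  have h1 : recip (X - 1 : F[X]) = X - 1 := by
    have := recip_X_sub_C (F := F) (a := 1) one_ne_zero
    simpa using this
  have hm : (X - 1 : F[X]).Monic := by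
    have := monic_X_sub_C (1 : F)
    simpa using this
  refine ⟨hm.mul hμ.monic, ?_, ?_⟩
  · rw [mul_coeff_zero]
    have : (X - 1 : F[X]).coeff 0 = -1 := by simp
    rw [this]
    exact mul_ne_zero (neg_ne_zero.mpr one_ne_zero) hμ.coeff0
  · rw [recip_mul, h1, hμ.selfrec]

end Cfsg.Agent.S3589P
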