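import Mathlib
import Cfsg.Agent.Helper27.S4700Defs
import Cfsg.Agent.Helper15.S0996GS4
import Cfsg.Agent.Helper28.S4701CS2

set_option autoImplicit false

/-! # S4700 piece GS4F (backup, helper28): `5 ≤ p` -/

namespace Cfsg.Agent.Helper28.S4700GS4Fb

universe u

variable {G : Type u} [Group G] [Finite G]

/-- a perfect group does not have order `2 · odd` -/
theorem not_perfect_of_card_two_mul_odd (hperf : commutator G = ⊤) (k : ℕ) (hk : Odd k)
    (hcard : Nat.card G = 2 * k) : False := by
  have : Fact (Nat.Prime 2) := ⟨Nat.prime_two⟩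
  obtain ⟨S⟩ : Nonempty (Sylow 2 G) := inferInstance
  have hG0 : Nat.card G ≠ 0 := Nat.card_pos.ne'
  -- `|S| = 2`
  have hS : Nat.card S = 2 := by
    rw [S.card_eq_multiplicity, hcard]
    have hk0 : k ≠ 0 := by
      rintro rfl
      exact (Nat.not_odd_iff_even.mpr (by decide : Even 0)) hk
    rw [Nat.factorization_mul (by norm_num) hk0]
    have h1 : (2 : ℕ).factorization 2 = 1 := Nat.Prime.factorization_self Nat.prime_two
    have h2 : k.factorization 2 = 0 := by
      apply Nat.factorization_eq_zero_of_not_dvd
      intro h
      obtain ⟨j, hj⟩ := hk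
      omega
    simp [h1, h2]
  -- elements of `S`
  have hS2 : ∀ s : (S : Subgroup G), s = 1 ∨ ∀ t : (S : Subgroup G), t = 1 ∨ t = s := by
    intro s
    by_cases hs : s = 1
    · exact Or.inl hs
    · right
      intro t
      by_contra hcon
      push Not at hcon
      have h3 : 3 ≤ Nat.card (S : Subgroup G) := by
        classical
        have : Fintype (S : Subgroup G) := Fintype.ofFinite _
        rw [Nat.card_eq_fintype_card]
        have hsub : ({1, s, t} : Finset (S : Subgroup G)) ⊆ Finset.univ := Finset.subset_univ _
        have hc3 : ({1, s, t} : Finset (S : Subgroup G)).card = 3 := by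
          rw [Finset.card_insert_of_notMem, Finset.card_insert_of_notMem, Finset.card_singleton]
          · rw [Finset.mem_singleton]; exact fun h => hcon.2 h.symm
          · rw [Finset.mem_insert, Finset.mem_singleton]
            rintro (h | h)
            · exact hs h.symm
            · exact hcon.1 h.symm
        calc 3 = ({1, s, t} : Finset (S : Subgroup G)).card := hc3.symm
          _ ≤ Finset.univ.card := Finset.card_le_card hsub
      have : Nat.card (S : Subgroup G) = 2 := hS
      omega
  have hP : Subgroup.normalizer (S : Set G) ≤ Subgroup.centralizer (S : Set G) := by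
    intro g hg
    rw [Subgroup.mem_centralizer_iff]
    intro s hs
    have hg' : g ∈ Subgroup.normalizer ((S : Subgroup G) : Set G) := hg
    rw [Subgroup.mem_normalizer_iff] at hg'
    have hgs : g * s * g⁻¹ ∈ (S : Subgroup G) := (hg' s).mp hs
    rcases hS2 ⟨s, hs⟩ with h1 | h1
    · have : s = 1 := congrArg Subtype.val h1
      rw [this]; simp
    · rcases h1 ⟨g * s * g⁻¹, hgs⟩ with h2 | h2
      · have h3 : g * s * g⁻¹ = 1 := congrArg Subtype.val h2
        have : s = 1 := by
          have : s = g⁻¹ * (g * s * g⁻¹) * g := by group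
          rw [this, h3]; group
        rw [this]; simp
      · have h3 : g * s * g⁻¹ = s := congrArg Subtype.val h2
        have : g * s = s * g := by
          have : g * s = (g * s * g⁻¹) * g := by group
          rw [this, h3]
        exact this.symm
  have hcomm : ∀ a b : (S : Subgroup G), a * b = b * a := by
    intro a b
    rcases hS2 a with ha | ha
    · rw [ha]; simp
    · rcases ha b with hb | hb
      · rw [hb]; simp
      · rw [hb]
  have hker : (MonoidHom.transferSylow S hP).ker = ⊤ :=
    Cfsg.Agent.Helper28.S4701CS2.ker_eq_top_of_perfect hcomm hperf _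
  have hc := MonoidHom.ker_transferSylow_isComplement' S hP
  rw [hker] at hc
  have hb : (S : Subgroup G) = ⊥ := Subgroup.isComplement'_top_left.1 hc
  have : Nat.card (S : Subgroup G) = 1 := by rw [hb]; exact Subgroup.card_bot
  have h2 : Nat.card (S : Subgroup G) = 2 := hS
  omega

end Cfsg.Agent.Helper28.S4700GS4Fb

namespace Cfsg.Agent.Helper28.S4700GS4Fb

open Cfsg Cfsg.Agent.Helper24 Cfsg.Agent.Helper1.W2p Cfsg.Agent.S0996P Cfsg.Agent.S4503P
  Cfsg.Agent.S4700P

universe u

variable {G : Type u} [Group G]

section L1
variable [Finite G] {p : ℕ} [Fact p.Prime] {P : Subgroup G} {n : ℕ}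

/-- GS4F (backup; same signature as the stub `Cfsg.Agent.S4700P.five_le_p`) -/
theorem five_le_p (H : HypF p P n) (hcard : Nat.card G = p * eN P * (1 + n * p))
    (hdvd : eN P ∣ p - 1) (he : 2 ≤ eN P) (hn : 1 ≤ n) : 5 ≤ p := by
  have hp : p.Prime := Fact.out
  by_contra hlt
  have hp5 : p < 5 := by omega
  have hcases : p = 2 ∨ p = 3 := by
    interval_cases p
    · exact absurd hp (by norm_num)
    · exact absurd hp (by norm_num)
    · left; rfl
    · right; rfl
    · exact absurd hp (by norm_num)
  rcases hcases with rfl | rfl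
  · have : eN P ∣ 1 := hdvd
    have := Nat.le_of_dvd one_pos this
    omega
  · have h2 : eN P ∣ 2 := hdvd
    have hle := Nat.le_of_dvd (by norm_num) h2
    have heq : eN P = 2 := by omega
    rw [heq] at hcard
    rcases Nat.even_or_odd n with hev | hodd
    · -- `|G| = 2 · odd`
      obtain ⟨j, hj⟩ := hev
      exact not_perfect_of_card_two_mul_odd H.perf (3 * (1 + n * 3)) ⟨9 * j + 1, by omega⟩
        (by rw [hcard]; ring)
    · rcases Nat.lt_or_ge n 3 with hn3 | hn3
      · have hn1 : n = 1 := by
          obtain ⟨j, hj⟩ := hodd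
          omega
        subst hn1
        have hsolv : Group.IsSolvable G :=
          Cfsg.Agent.Helper24.isSolvable_of_card_eq_prime_pow_mul 2 3 3 1 (by norm_num)
            (by norm_num) (by rw [hcard]; norm_num)
        have h1 := Cfsg.Agent.Helper15.S0996GS4.card_eq_one_of_perfect_of_solvable H.perf hsolv
        rw [hcard] at h1
        omega
      · -- `n = 2 h + 1`, `h ≥ 1`: F-form with `u = 1`
        obtain ⟨j, hj⟩ := hodd
        apply H.notF
        refine ⟨j, 1, by omega, by norm_num, ?_⟩
        rw [hj]; ring

end L1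

end Cfsg.Agent.Helper28.S4700GS4Fb
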