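import Mathlib
import Cfsg.Prelude.Def_Characters
import Cfsg.Agent.Helper24.Integrality
import Cfsg.Agent.Helper24.Abelian
import Cfsg.Agent.Helper24.Span
import Cfsg.Agent.Helper24.BrauerCong

/-!
# S4700: an integrality lemma for the degrees in a block with cyclic Sylow subgroup

For an irreducible character `χ` of `G` and a Sylow `p`-subgroup `P`, the central character of `χ`
evaluated at the class function `a(g) = #{Q ∈ Syl_p(G) : g ∈ Q, g ≠ 1}` is
`|Syl_p(G)| · (∑_{y ∈ P, y ≠ 1} χ(y)) / χ(1)`. Hence, if `∑_{y ∈ P} χ(y) = χ(1) + S` with `S ∈ ℤ`,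
then `χ(1) ∣ |Syl_p(G)| · S`.
-/

set_option autoImplicit false

namespace Cfsg.Agent.Helper28.S4700INT

open Cfsg Cfsg.Agent.Helper24

universe u

variable {G : Type u} [Group G] [Finite G]

omit [Finite G] in
/-- the sum of a class function over `Q ∖ 1` does not depend on the Sylow subgroup `Q` -/
theorem sum_sylow_eq (p : ℕ) [Fact p.Prime] [Fintype G] [DecidableEq G] (P Q : Sylow p G)
    [DecidablePred (· ∈ P)] [DecidablePred (· ∈ Q)]
    (f : G → ℂ) (hf : IsClassFunction G f) :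
    ∑ g : G, (if g ∈ Q ∧ g ≠ 1 then f g else 0) = ∑ g : G, (if g ∈ P ∧ g ≠ 1 then f g else 0) := by
  obtain ⟨x, hx⟩ := MulAction.exists_smul_eq G P Q
  subst hx
  symm
  refine Fintype.sum_equiv (MulAut.conj x).toEquiv _ _ ?_
  intro g
  have h1 : (MulAut.conj x).toEquiv g = x * g * x⁻¹ := rfl
  rw [h1, hf g x]
  have h2 : x * g * x⁻¹ ∈ x • P ↔ g ∈ P := by
    show x * g * x⁻¹ ∈ ((x • P : Sylow p G) : Subgroup G) ↔ _
    rw [Sylow.coe_subgroup_smul]
    rw [Subgroup.mem_pointwise_smul_iff_inv_smul_mem, MulAut.smul_def, ← map_inv,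
      MulAut.conj_apply]
    have : x⁻¹ * (x * g * x⁻¹) * x⁻¹⁻¹ = g := by group
    rw [this]
    rfl
  have h3 : x * g * x⁻¹ ≠ 1 ↔ g ≠ 1 := by
    rw [not_iff_not]
    constructor
    · intro h
      have : g = x⁻¹ * (x * g * x⁻¹) * x := by group
      rw [this, h]; group
    · rintro rfl; group
  simp only [h2, h3]

/-- INT: `χ(1) ∣ |Syl_p(G)| · S` when `∑_{y ∈ P} χ(y) = χ(1) + S`. -/
theorem irrDeg_dvd_card_sylow_mul (p : ℕ) [Fact p.Prime] (P : Sylow p G) (χ : IrrCharacter G)
    (S : ℤ) (hS : ∑ᶠ y : ↥(P : Subgroup G), (χ : G → ℂ) (y : G) = (irrDeg χ : ℂ) + (S : ℂ)) :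
    (irrDeg χ : ℤ) ∣ (Nat.card (Sylow p G) : ℤ) * S := by
  classical
  let _ : Fintype G := Fintype.ofFinite G
  let _ : Fintype (Sylow p G) := Fintype.ofFinite _
  obtain ⟨n, ρ, hirr, hχ⟩ := χ.2
  have := hirr
  have hdeg : irrDeg χ = Module.finrank ℂ (Fin n → ℂ) := by
    have h1 : (χ : G → ℂ) 1 = (Module.finrank ℂ (Fin n → ℂ) : ℂ) := by
      rw [← hχ, Representation.char_one]
    rw [irrDeg_spec] at h1
    exact_mod_cast h1
  have hcf : IsClassFunction G (χ : G → ℂ) := isClassFunction_irr χ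
  -- the class function `a`
  let a : G → ℂ := fun g =>
    ((Finset.univ.filter (fun Q : Sylow p G => g ∈ Q ∧ g ≠ 1)).card : ℂ)
  have ha_sum : ∀ g, a g = ∑ Q : Sylow p G, (if g ∈ Q ∧ g ≠ 1 then (1 : ℂ) else 0) := by
    intro g
    show ((Finset.univ.filter (fun Q : Sylow p G => g ∈ Q ∧ g ≠ 1)).card : ℂ) = _
    rw [Finset.sum_boole]
  have hai : ∀ g, IsIntegral ℤ (a g) := by
    intro g
    have h := isIntegral_algebraMap (R := ℤ) (A := ℂ)
      (x := ((Finset.univ.filter (fun Q : Sylow p G => g ∈ Q ∧ g ≠ 1)).card : ℤ))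
    simpa using h
  -- total sum
  have htot : ∑ g, a g * (χ : G → ℂ) g = (Nat.card (Sylow p G) : ℂ) * (S : ℂ) := by
    have h1 : ∑ g, a g * (χ : G → ℂ) g =
        ∑ Q : Sylow p G, ∑ g : G, (if g ∈ Q ∧ g ≠ 1 then (χ : G → ℂ) g else 0) := by
      rw [Finset.sum_comm]
      refine Finset.sum_congr rfl fun g _ => ?_
      rw [ha_sum, Finset.sum_mul]
      refine Finset.sum_congr rfl fun Q _ => ?_
      split_ifs <;> simp
    have h2 : ∑ g : G, (if g ∈ P ∧ g ≠ 1 then (χ : G → ℂ) g else 0) = (S : ℂ) := by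
      rw [finsum_eq_sum_of_fintype] at hS
      have h3 : ∑ y : ↥(P : Subgroup G), (χ : G → ℂ) (y : G) =
          ∑ g : G, (if g ∈ P then (χ : G → ℂ) g else 0) := by
        rw [← Finset.sum_filter]
        symm
        refine Finset.sum_subtype (Finset.univ.filter (fun g : G => g ∈ P)) ?_ _
        intro g
        simp only [Finset.mem_filter, Finset.mem_univ, true_and]
        rfl
      have h4 : ∑ g : G, (if g ∈ P then (χ : G → ℂ) g else 0) =
          ∑ g : G, (if g ∈ P ∧ g ≠ 1 then (χ : G → ℂ) g else 0) + (χ : G → ℂ) 1 := by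
        have h5 : ∀ g : G, (if g ∈ P then (χ : G → ℂ) g else 0) =
            (if g ∈ P ∧ g ≠ 1 then (χ : G → ℂ) g else 0) + (if g = 1 then (χ : G → ℂ) 1 else 0) := by
          intro g
          by_cases hg1 : g = 1
          · subst hg1
            simp
          · by_cases hgP : g ∈ P <;> simp [hg1, hgP]
        rw [Finset.sum_congr rfl (fun g _ => h5 g), Finset.sum_add_distrib, Finset.sum_ite_eq']
        simp
      rw [h3, h4, irrDeg_spec] at hS
      linear_combination hS
    rw [h1, Finset.sum_congr rfl (fun Q _ => sum_sylow_eq p P Q _ hcf), Finset.sum_const, h2,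
      Finset.card_univ, Nat.card_eq_fintype_card]
    simp
  have hacl : IsClassFunction G a := by
    intro g h
    show ((Finset.univ.filter (fun Q : Sylow p G => h * g * h⁻¹ ∈ Q ∧ h * g * h⁻¹ ≠ 1)).card : ℂ) =
      ((Finset.univ.filter (fun Q : Sylow p G => g ∈ Q ∧ g ≠ 1)).card : ℂ)
    congr 1
    refine Finset.card_bij (fun Q _ => h⁻¹ • Q) ?_ ?_ ?_
    · intro Q hQ
      rw [Finset.mem_filter] at hQ ⊢
      refine ⟨Finset.mem_univ _, ?_, ?_⟩
      · show g ∈ ((h⁻¹ • Q : Sylow p G) : Subgroup G)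
        rw [Sylow.coe_subgroup_smul,
          Subgroup.mem_pointwise_smul_iff_inv_smul_mem, MulAut.smul_def, ← map_inv,
          MulAut.conj_apply, inv_inv]
        exact hQ.2.1
      · intro hg
        apply hQ.2.2
        rw [hg]; group
    · intro Q₁ _ Q₂ _ h12
      exact smul_left_cancel _ h12
    · intro Q hQ
      rw [Finset.mem_filter] at hQ
      refine ⟨h • Q, ?_, by rw [inv_smul_smul]⟩
      rw [Finset.mem_filter]
      refine ⟨Finset.mem_univ _, ?_, ?_⟩
      · show h * g * h⁻¹ ∈ ((h • Q : Sylow p G) : Subgroup G)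
        rw [Sylow.coe_subgroup_smul,
          Subgroup.mem_pointwise_smul_iff_inv_smul_mem, MulAut.smul_def, ← map_inv,
          MulAut.conj_apply]
        have : h⁻¹ * (h * g * h⁻¹) * h⁻¹⁻¹ = g := by group
        rw [this]
        exact hQ.2.1
      · intro hg
        apply hQ.2.2
        have : g = h⁻¹ * (h * g * h⁻¹) * h := by group
        rw [this, hg]; group
  obtain ⟨c, hc, hcs⟩ := isIntegral_class_sum_div ρ a hacl hai
  rw [hχ, htot, ← hdeg] at hcs
  have hne : irrDeg χ ≠ 0 := (irrDeg_pos χ).ne'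
  have := int_dvd_of_eq_mul_isIntegral (a := (Nat.card (Sylow p G) : ℤ) * S) hne hc (by
    push_cast
    rw [← hcs]; ring)
  exact this

end Cfsg.Agent.Helper28.S4700INT
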