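import Mathlib
import Cfsg.Agent.Helper7.S5655.Defs4
import Cfsg.Agent.Helper7.S5655.MonoLib
import Cfsg.Agent.Helper17.S5655EMBMUL

set_option autoImplicit false

namespace Cfsg.Agent.S5655K1

open Matrix
open Cfsg.Agent.S2644 Cfsg.Agent.Helper2.SUGen Cfsg.Agent.Helper28.SimMax Cfsg.Agent.MonoP

variable {K : Type*} [Field K] {q n : ℕ}

local notation "h" => Cfsg.hermForm n K q
local notation "T" => Cfsg.unitaryTransvection n q
local notation "h₂" => Cfsg.hermForm 2 K q
local notation "T₂" => Cfsg.unitaryTransvection 2 q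

namespace EMBSURJ

/-- the vector with coordinates `u` in the plane `⟨e, e'⟩` -/
def iota (e e' : Fin n → K) (u : Fin 2 → K) : Fin n → K := u 0 • e + u 1 • e'

theorem h_iota (D : Frob K q) (e e' : Fin n → K) (he : h e e = 1) (he' : h e' e' = 1)
    (hee' : h e e' = 0) (u v : Fin 2 → K) : h (iota e e' u) (iota e e' v) = h₂ u v := by
  have he'e : h e' e = 0 := h_symm_zero D hee'
  unfold iota
  simp only [h_add_left, h_smul_left, h_add_right D, h_smul_right D, he, he', hee', he'e]
  simp only [Cfsg.hermForm, Fin.sum_univ_two]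
  rw [← D.pow, ← D.pow]
  ring

/-- the component of `z` orthogonal to the plane -/
def perpPart (e e' : Fin n → K) (z : Fin n → K) : Fin n → K :=
  z - Cfsg.hermForm n K q z e • e - Cfsg.hermForm n K q z e' • e'

theorem h_perpPart_e (D : Frob K q) (e e' : Fin n → K) (he : h e e = 1) (hee' : h e e' = 0)
    (z : Fin n → K) : h (perpPart (q := q) e e' z) e = 0 := by
  have he'e : h e' e = 0 := h_symm_zero D hee'
  unfold perpPart
  simp only [h_sub_left, h_smul_left, he, he'e]
  ring

theorem h_perpPart_e' (e e' : Fin n → K) (he' : h e' e' = 1) (hee' : h e e' = 0)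
    (z : Fin n → K) : h (perpPart (q := q) e e' z) e' = 0 := by
  unfold perpPart
  simp only [h_sub_left, h_smul_left, he', hee']
  ring

theorem decomp (e e' : Fin n → K) (z : Fin n → K) :
    z = perpPart (q := q) e e' z + (h z e • e + h z e' • e') := by
  unfold perpPart; abel

/-- the image of a vector of the plane lies in the plane -/
theorem B_plane (D : Frob K q) (e e' : Fin n → K) (he : h e e = 1) (he' : h e' e' = 1)
    (hee' : h e e' = 0) (B : Matrix (Fin n) (Fin n) K) (hB : Pres (q := q) B)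
    (hfix : ∀ x, h x e = 0 → h x e' = 0 → B *ᵥ x = x) (b : Fin n → K)
    (hb : ∀ x, h x e = 0 → h x e' = 0 → h b x = 0) :
    B *ᵥ b = h (B *ᵥ b) e • e + h (B *ᵥ b) e' • e' := by
  have hz : perpPart (q := q) e e' (B *ᵥ b) = 0 := by
    apply h_nondeg D
    intro y
    have hy := decomp (q := q) e e' y
    set y₀ := perpPart (q := q) e e' y with hy₀
    have hy₀e : h y₀ e = 0 := h_perpPart_e D e e' he hee' y
    have hy₀e' : h y₀ e' = 0 := h_perpPart_e' e e' he' hee' y
    have h1 : h (perpPart (q := q) e e' (B *ᵥ b)) e = 0 := h_perpPart_e D e e' he hee' _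
    have h2 : h (perpPart (q := q) e e' (B *ᵥ b)) e' = 0 := h_perpPart_e' e e' he' hee' _
    rw [hy, h_add_right D, h_add_right D, h_smul_right D, h_smul_right D, h1, h2, mul_zero, mul_zero,
      add_zero, add_zero]
    -- against `y₀`
    unfold perpPart
    rw [h_sub_left, h_sub_left, h_smul_left, h_smul_left, h_symm_zero D hy₀e, h_symm_zero D hy₀e',
      mul_zero, mul_zero, sub_zero, sub_zero]
    have : h (B *ᵥ b) y₀ = h (B *ᵥ b) (B *ᵥ y₀) := by rw [hfix y₀ hy₀e hy₀e']
    rw [this, hB]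
    exact hb y₀ hy₀e hy₀e'
  have := decomp (q := q) e e' (B *ᵥ b)
  rw [hz, zero_add] at this
  exact this

end EMBSURJ

open EMBSURJ in
theorem EMBSURJ.exists (D : Frob K q) (e e' : Fin n → K) (he : h e e = 1) (he' : h e' e' = 1) (hee' : h e e' = 0)
    (B : Matrix (Fin n) (Fin n) K) (hB : Pres (q := q) B)
    (hfix : ∀ x, h x e = 0 → h x e' = 0 → B *ᵥ x = x) :
    ∃ A : Matrix (Fin 2) (Fin 2) K, Pres (q := q) A ∧ B = emb2 q e e' A := by
  have he'e : h e' e = 0 := h_symm_zero D hee'
  have hBe := B_plane D e e' he he' hee' B hB hfix e (fun x hx _ => h_symm_zero D hx)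
  have hBe' := B_plane D e e' he he' hee' B hB hfix e' (fun x _ hx => h_symm_zero D hx)
  set A : Matrix (Fin 2) (Fin 2) K :=
    !![h (B *ᵥ e) e, h (B *ᵥ e') e; h (B *ᵥ e) e', h (B *ᵥ e') e'] with hA
  -- `B` on the plane
  have hBι : ∀ u : Fin 2 → K, B *ᵥ iota e e' u = iota e e' (A *ᵥ u) := by
    intro u
    unfold iota
    rw [Matrix.mulVec_add, Matrix.mulVec_smul, Matrix.mulVec_smul]
    have e0 : (A *ᵥ u) 0 = h (B *ᵥ e) e * u 0 + h (B *ᵥ e') e * u 1 := by
      simp [hA, Matrix.mulVec, dotProduct, Fin.sum_univ_two]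
    have e1 : (A *ᵥ u) 1 = h (B *ᵥ e) e' * u 0 + h (B *ᵥ e') e' * u 1 := by
      simp [hA, Matrix.mulVec, dotProduct, Fin.sum_univ_two]
    rw [e0, e1]
    nth_rewrite 1 [hBe]
    nth_rewrite 1 [hBe']
    module
  refine ⟨A, ?_, ?_⟩
  · intro u v
    rw [← h_iota D e e' he he' hee', ← hBι, ← hBι, hB, h_iota D e e' he he' hee']
  · apply mat_ext
    intro z
    rw [EMBMUL.mulVec]
    nth_rewrite 1 [decomp (q := q) e e' z]
    rw [Matrix.mulVec_add, hfix _ (h_perpPart_e D e e' he hee' z) (h_perpPart_e' e e' he' hee' z),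
      Matrix.mulVec_add, Matrix.mulVec_smul, Matrix.mulVec_smul]
    nth_rewrite 1 [hBe]
    nth_rewrite 1 [hBe']
    simp only [Fin.sum_univ_two, hA, Matrix.cons_val_zero, Matrix.cons_val_one, Matrix.of_apply,
      Matrix.cons_val', Matrix.cons_val_fin_one, Matrix.one_apply_eq, ne_eq, zero_ne_one, one_ne_zero,
      not_false_eq_true, Matrix.one_apply_ne, sub_zero]
    unfold perpPart
    module

end Cfsg.Agent.S5655K1
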