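import Mathlib
import Cfsg.Prelude.Def_GeometricClasses
import Cfsg.Agent.Helper7.S5655.Defs
import Cfsg.Agent.Helper28.S5655GDefs
import Cfsg.Agent.Helper28.S5655QR
import Cfsg.Agent.Helper4.S5655RED1
import Cfsg.Agent.Helper25.S5655RED2
import Cfsg.Agent.Helper25.S5655LAM
import Cfsg.Agent.Helper4.S5655PAIRS

set_option autoImplicit false

namespace Cfsg.Agent.S5655K1

open Matrix
open Cfsg.Agent.S2644 Cfsg.Agent.Helper2.SUGen Cfsg.Agent.Helper28.SimMax Cfsg.Agent.MonoP

variable {K : Type*} [Field K] {q n : ℕ}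

local notation "h" => Cfsg.hermForm n K q
local notation "T" => Cfsg.unitaryTransvection n q

namespace GENALL

open Cfsg.Agent.Helper28.UPair Cfsg.Agent.S5658P

/-- pull back membership in `SS` along an element of `M` -/
theorem mem_SS_of_map (D : Frob K q) {M : Subgroup (Matrix.GeneralLinearGroup (Fin n) K)}
    (hM : M ≤ SUG n K q) {A : Matrix (Fin n) (Fin n) K} (hA : A ∈ MS M) {v : Fin n → K}
    (hv : A *ᵥ v ∈ SS D M) : v ∈ SS D M := by
  obtain ⟨g, hg, rfl⟩ := hA
  have hA' : ((g⁻¹ : Matrix.GeneralLinearGroup (Fin n) K) : Matrix (Fin n) (Fin n) K) ∈ MS M :=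
    ⟨g⁻¹, M.inv_mem hg, rfl⟩
  have hP' : Pres (q := q) ((g⁻¹ : Matrix.GeneralLinearGroup (Fin n) K) : Matrix (Fin n) (Fin n) K) :=
    pres_of_MS hM hA'
  have := SS_map D M hv hA' hP'
  rwa [Matrix.mulVec_mulVec, inv_mul_coe, Matrix.one_mulVec] at this

/-- isotropic vectors supported on two coordinates -/
theorem pair_mem_SS (D : Frob K q) (hq : q ≠ 0) {M : Subgroup (Matrix.GeneralLinearGroup (Fin n) K)}
    (a b : Fin n) (h2 : HasSU2 q M a b) (v : Fin n → K)
    (hv : ∀ i, i ∉ ({a, b} : Finset (Fin n)) → v i = 0) (hvv : h v v = 0) : v ∈ SS D M := by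
  refine ⟨hvv, fun c hc => ?_⟩
  exact h2 _ (pres_T D hvv hc) (det_T D hvv c) (SUPPT.suppOn_T hq _ v hv c)

theorem wt_update_lt {v : Fin n → K} {a b : Fin n} (hab : a ≠ b) (hb : v b ≠ 0) {z : K} (_hz : z ≠ 0)
    (ha : v a ≠ 0) : wt (Function.update (Function.update v a z) b 0) < wt v := by
  classical
  unfold wt
  apply Finset.card_lt_card
  rw [Finset.ssubset_iff_of_subset]
  · refine ⟨b, ?_, ?_⟩
    · simp [supp, hb]
    · simp [supp]
  · intro i hi
    simp only [supp, Finset.mem_filter, Finset.mem_univ, true_and] at hi ⊢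
    by_cases hib : i = b
    · subst hib; simp at hi
    · rw [Function.update_of_ne hib] at hi
      by_cases hia : i = a
      · subst hia; exact ha
      · rwa [Function.update_of_ne hia] at hi

theorem wt_update_eq {v : Fin n → K} {a b : Fin n} (hab : a ≠ b) (ha : v a ≠ 0) (hb : v b ≠ 0)
    {lam : K} (hl : lam ≠ 0) :
    wt (Function.update (Function.update v a (lam * v a)) b (lam * v b)) = wt v := by
  classical
  unfold wt
  congr 1
  ext i
  simp only [supp, Finset.mem_filter, Finset.mem_univ, true_and]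
  by_cases hib : i = b
  · subst hib; simp [hl, hb]
  · rw [Function.update_of_ne hib]
    by_cases hia : i = a
    · subst hia; simp [hl, ha]
    · rw [Function.update_of_ne hia]

/-- one reduction step -/
theorem step [Finite K] (D : Frob K q) (hq : q ≠ 0) {M : Subgroup (Matrix.GeneralLinearGroup (Fin n) K)}
    (hM : M ≤ SUG n K q) (hall : ∀ a b : Fin n, a ≠ b → HasSU2 q M a b) (v : Fin n → K)
    (IH : ∀ u : Fin n → K, wt u < wt v → h u u = 0 → u ∈ SS D M) (hvv : h v v = 0)
    (a b : Fin n) (hab : a ≠ b) (ha : v a ≠ 0) (hb : v b ≠ 0)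
    (hs : v a * D.σ (v a) + v b * D.σ (v b) ≠ 0) : v ∈ SS D M := by
  obtain ⟨A, z, hP, hdet, hsupp, hz, hAv⟩ := RED1.exists D hq a b hab v hs
  have hA : A ∈ MS M := hall a b hab A hP hdet hsupp
  apply mem_SS_of_map D hM hA
  apply IH
  · rw [hAv]; exact wt_update_lt hab hb hz ha
  · rw [hP, hvv]

theorem all_mem_SS [Fintype K] (hK : Fintype.card K = q ^ 2) (hq : 3 ≤ q) (hn : 3 ≤ n) (D : Frob K q)
    {M : Subgroup (Matrix.GeneralLinearGroup (Fin n) K)} (hM : M ≤ SUG n K q)
    (hall : ∀ a b : Fin n, a ≠ b → HasSU2 q M a b) :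
    ∀ (m : ℕ) (v : Fin n → K), wt v = m → h v v = 0 → v ∈ SS D M := by
  classical
  have hq0 : q ≠ 0 := by omega
  intro m
  induction m using Nat.strong_induction_on with
  | _ m IHm =>
    intro v hwt hvv
    have IH : ∀ u : Fin n → K, wt u < wt v → h u u = 0 → u ∈ SS D M := by
      intro u hu huu
      exact IHm (wt u) (hwt ▸ hu) u rfl huu
    by_cases hm : m ≤ 2
    · -- support inside a pair
      have hcard : (supp v).card ≤ 2 := by rw [← hwt] at hm; exact hm
      obtain ⟨a, b, hab, hsub⟩ : ∃ a b : Fin n, a ≠ b ∧ supp v ⊆ {a, b} := by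
        have h0 : (⟨0, by omega⟩ : Fin n) ≠ ⟨1, by omega⟩ := by
          intro hh; rw [Fin.mk.injEq] at hh; omega
        rcases Nat.lt_or_ge (supp v).card 2 with h1 | h1
        · rcases Nat.lt_or_ge (supp v).card 1 with h2 | h2
          · have : supp v = ∅ := Finset.card_eq_zero.mp (by omega)
            exact ⟨_, _, h0, by rw [this]; exact Finset.empty_subset _⟩
          · obtain ⟨a, ha⟩ := Finset.card_eq_one.mp (by omega : (supp v).card = 1)
            by_cases ha0 : a = ⟨0, by omega⟩
            · refine ⟨a, ⟨1, by omega⟩, by rw [ha0]; exact h0, ?_⟩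
              rw [ha]; simp
            · refine ⟨a, ⟨0, by omega⟩, ha0, ?_⟩
              rw [ha]; simp
        · obtain ⟨a, b, hab, hs⟩ := Finset.card_eq_two.mp (by omega : (supp v).card = 2)
          exact ⟨a, b, hab, by rw [hs]⟩
      apply pair_mem_SS D hq0 a b (hall a b hab) v _ hvv
      intro i hi
      by_contra hvi
      exact hi (hsub (by simp [supp, hvi]))
    · -- three points of the support
      have h3 : 2 < (supp v).card := by rw [← hwt] at hm; unfold wt at hm; omega
      obtain ⟨a, b, c, ha, hb, hc, hab, hac, hbc⟩ := Finset.two_lt_card_iff.mp h3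
      have ha' : v a ≠ 0 := by simpa [supp] using ha
      have hb' : v b ≠ 0 := by simpa [supp] using hb
      have hc' : v c ≠ 0 := by simpa [supp] using hc
      by_cases h1 : v a * D.σ (v a) + v b * D.σ (v b) ≠ 0
      · exact step D hq0 hM hall v IH hvv a b hab ha' hb' h1
      by_cases h2 : v a * D.σ (v a) + v c * D.σ (v c) ≠ 0
      · exact step D hq0 hM hall v IH hvv a c hac ha' hc' h2
      by_cases h3' : v b * D.σ (v b) + v c * D.σ (v c) ≠ 0
      · exact step D hq0 hM hall v IH hvv b c hbc hb' hc' h3'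
      push Not at h1 h2 h3'
      -- characteristic two
      have hNa : v a * D.σ (v a) ≠ 0 := mul_ne_zero ha' (σ_ne_zero D ha')
      have h2K : (2 : K) = 0 := by
        have : 2 * (v a * D.σ (v a)) = 0 := by linear_combination h1 + h2 - h3'
        rcases mul_eq_zero.mp this with hh | hh
        · exact hh
        · exact absurd hh hNa
      obtain ⟨lam, hlf, hl0, hl1⟩ := LAM.exists hK hq D
      have hl2 : lam * lam ≠ 1 := by
        intro hll
        apply hl1
        have : (lam - 1) * (lam - 1) = 0 := by linear_combination hll - (lam - 1) * h2K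
        rcases mul_eq_zero.mp this with hh | hh <;> exact sub_eq_zero.mp hh
      obtain ⟨A₁, hP₁, hdet₁, hsupp₁, hA₁v⟩ := RED2.exists D hq0 a b hab v ha' h1 lam hlf hl0
      have hA₁ : A₁ ∈ MS M := hall a b hab A₁ hP₁ hdet₁ hsupp₁
      apply mem_SS_of_map D hM hA₁
      obtain ⟨v', hv'⟩ : ∃ v' : Fin n → K, v' = A₁ *ᵥ v := ⟨_, rfl⟩
      rw [← hv']
      have hwt' : wt v' = wt v := by rw [hv', hA₁v]; exact wt_update_eq hab ha' hb' hl0
      have hv'a : v' a = lam * v a := by
        rw [hv', hA₁v, Function.update_of_ne hab, Function.update_self]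
      have hv'c : v' c = v c := by
        rw [hv', hA₁v, Function.update_of_ne (Ne.symm hbc), Function.update_of_ne (Ne.symm hac)]
      apply step D hq0 hM hall v' (fun u hu huu => IH u (hwt' ▸ hu) huu) (by rw [hv', hP₁, hvv])
        a c hac (by rw [hv'a]; exact mul_ne_zero hl0 ha') (by rw [hv'c]; exact hc')
      rw [hv'a, hv'c, map_mul, hlf]
      intro hcon
      apply hl2
      have : (lam * lam - 1) * (v a * D.σ (v a)) = 0 := by linear_combination hcon - h2
      rcases mul_eq_zero.mp this with hh | hh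
      · exact sub_eq_zero.mp hh
      · exact absurd hh hNa

end GENALL

theorem GENALL.le [Fintype K] (hK : Fintype.card K = q ^ 2) (hq : 3 ≤ q) (hn : 3 ≤ n) (D : Frob K q)
    (M : Subgroup (Matrix.GeneralLinearGroup (Fin n) K)) (hM : M ≤ SUG n K q)
    (hall : ∀ a b : Fin n, a ≠ b → HasSU2 q M a b) : SUG n K q ≤ M := by
  intro g hg
  obtain ⟨hP, hdet⟩ := (Cfsg.Agent.S5658P.mem_G_iff g).1 hg
  have hTT := SU_le_TT D hK hn (by omega) hP hdet
  have key : ∀ A ∈ TT D (⊤ : Submodule K (Fin n → K)), A ∈ MS M := by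
    intro A hA
    induction hA using Submonoid.closure_induction with
    | mem A hA =>
      obtain ⟨x, c, -, hxx, hc, rfl⟩ := hA
      exact (GENALL.all_mem_SS hK hq hn D hM hall _ x rfl hxx).2 c hc
    | one => exact one_mem_MS M
    | mul A B _ _ ihA ihB => exact MS_mul ihA ihB
  obtain ⟨g', hg', hgg'⟩ := key _ hTT
  have : g' = g := Units.ext hgg'
  rw [← this]; exact hg'

/-- GEN.main (interface of helper7) -/
theorem GEN.main (D : Frob K q) [Fintype K] (hK : Fintype.card K = q ^ 2) (hq : 3 ≤ q) (hn : 13 ≤ n)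
    (M : Subgroup (Matrix.GeneralLinearGroup (Fin n) K)) (hM : M ≤ SUG n K q) (hN : HasN q M)
    (a b : Fin n) (hab : a ≠ b) (h2 : HasSU2 q M a b) : SUG n K q ≤ M :=
  GENALL.le hK hq (by omega) D M hM
    (fun a' b' hab' => PAIRS.all D (by omega) M hN a b hab h2 a' b' hab')

end Cfsg.Agent.S5655K1
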