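import Mathlib
import Cfsg.Agent.Helper7.S5655.Defs4
import Cfsg.Agent.Helper7.S5655.MonoLib
import Cfsg.Agent.Helper28.S5655QR
import Cfsg.Agent.Helper7.S5655U2TRANS
import Cfsg.Agent.Helper6.S5655U2SOLVE
import Cfsg.Agent.Helper6.S5655U2G
import Cfsg.Agent.Helper7.S5655U2POW
import Cfsg.Agent.Helper7.S5655U2UNIP
import Cfsg.Agent.Helper25.S5655U2TORUS
import Cfsg.Agent.Helper25.S5655SQ

set_option autoImplicit false

namespace Cfsg.Agent.S5655K1

open Matrix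
open Cfsg.Agent.S2644 Cfsg.Agent.Helper2.SUGen Cfsg.Agent.Helper28.SimMax Cfsg.Agent.MonoP

variable {K : Type*} [Field K] {q n : ℕ}

local notation "h" => Cfsg.hermForm n K q
local notation "T" => Cfsg.unitaryTransvection n q
local notation "h₂" => Cfsg.hermForm 2 K q
local notation "T₂" => Cfsg.unitaryTransvection 2 q

namespace U2ROOT

open Cfsg.Agent.S5658P

theorem MS_pow {m : ℕ} {S : Subgroup (Matrix.GeneralLinearGroup (Fin m) K)}
    {A : Matrix (Fin m) (Fin m) K} (hA : A ∈ MS S) (k : ℕ) : A ^ k ∈ MS S := by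
  induction k with
  | zero => rw [pow_zero]; exact one_mem_MS S
  | succ k ih => rw [pow_succ]; exact MS_mul ih hA

theorem pres_pow {m : ℕ} {A : Matrix (Fin m) (Fin m) K} (hA : Pres (q := q) A) (k : ℕ) :
    Pres (q := q) (A ^ k) := by
  induction k with
  | zero =>
    rw [pow_zero]
    intro x y
    rw [Matrix.one_mulVec, Matrix.one_mulVec]
  | succ k ih => rw [pow_succ]; exact ih.mul hA

theorem pres_qr {m : ℕ} (D : Frob K q) {w : Fin m → K} (hw : Cfsg.hermForm m K q w w = 1) {c : K}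
    (hc : IsU D (1 + c)) : Pres (q := q) (Cfsg.unitaryTransvection m q w c) := by
  apply QR.pres D
  unfold IsU at hc
  rw [map_add, map_one] at hc
  rw [hw]
  linear_combination hc

/-- conjugating a root element by an element of `S` -/
theorem conj_mem {m : ℕ} (D : Frob K q) {S : Subgroup (Matrix.GeneralLinearGroup (Fin m) K)}
    {A : Matrix (Fin m) (Fin m) K} (hA : A ∈ MS S) (hP : Pres (q := q) A) (p : Fin m → K) (c : K) :
    Cfsg.unitaryTransvection m q p c ∈ MS S ↔ Cfsg.unitaryTransvection m q (A *ᵥ p) c ∈ MS S := by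
  obtain ⟨g, hg, rfl⟩ := hA
  constructor
  · rintro ⟨t, ht, htT⟩
    refine ⟨g * t * g⁻¹, S.mul_mem (S.mul_mem hg ht) (S.inv_mem hg), ?_⟩
    rw [Units.val_mul, Units.val_mul, htT, Cfsg.Agent.Helper28.UPair.T_conj D hP, mul_assoc,
      ← Units.val_mul, mul_inv_cancel]
    simp
  · rintro ⟨t, ht, htT⟩
    refine ⟨g⁻¹ * t * g, S.mul_mem (S.mul_mem (S.inv_mem hg) ht) hg, ?_⟩
    rw [Units.val_mul, Units.val_mul, htT, mul_assoc, ← Cfsg.Agent.Helper28.UPair.T_conj D hP,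
      ← mul_assoc, ← Units.val_mul, inv_mul_cancel]
    simp

theorem nm_fix (D : Frob K q) (l : K) : D.σ (l * D.σ l) = l * D.σ l := by
  rw [map_mul, D.invol]; ring

end U2ROOT

open U2ROOT Cfsg.Agent.S5658P in
theorem U2ROOT.all (D : Frob K q) [Fintype K] (hK : Fintype.card K = q ^ 2) (hq : 3 ≤ q)
    (S : Subgroup (Matrix.GeneralLinearGroup (Fin 2) K)) (α β : K) (hα : α ≠ 0) (hβ : β ≠ 0)
    (hαβ : α * D.σ α + β * D.σ β = 1) (hRe : HasR D S ![1, 0]) (hRw : HasR D S ![α, β]) :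
    ∀ (p : Fin 2 → K) (c : K), h₂ p p = 0 → D.σ c = -c → T₂ p c ∈ MS S := by
  have h10 : h₂ (![1, 0] : Fin 2 → K) ![1, 0] = 1 := by
    simp [Cfsg.hermForm, Fin.sum_univ_two]
  have hafix : D.σ (α * D.σ α) = α * D.σ α := nm_fix D α
  have hbfix : D.σ (β * D.σ β) = β * D.σ β := nm_fix D β
  have ha0 : α * D.σ α ≠ 0 := mul_ne_zero hα (σ_ne_zero D hα)
  have hb0 : β * D.σ β ≠ 0 := mul_ne_zero hβ (σ_ne_zero D hβ)
  -- the elements `g2 α β x y` lie in `S`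
  have hg2 : ∀ x y : K, IsU D x → IsU D y → g2 q α β x y ∈ MS S := by
    intro x y hx hy
    unfold g2
    apply MS_mul
    · apply hRe
      have : (1 : K) + (x * y - 1) = x * y := by ring
      rw [this]; exact IsU.mul D hx hy
    · apply hRw
      have : (1 : K) + (x * y⁻¹ - 1) = x * y⁻¹ := by ring
      rw [this]; exact IsU.mul D hx (IsU.inv D hy)
  -- transfer between isotropic points
  have htr : ∀ p p' : Fin 2 → K, p ≠ 0 → p' ≠ 0 → h₂ p p = 0 → h₂ p' p' = 0 →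
      ∃ ν : K, D.σ ν = ν ∧ ν ≠ 0 ∧ ∀ c, T₂ p c ∈ MS S ↔ T₂ p' (ν * c) ∈ MS S := by
    intro p p' hp hp' hpp hpp'
    obtain ⟨ε, l, hε, hl, hd⟩ := U2TRANS.exists D p p' hp hp' hpp hpp'
    have hc : IsU D (1 + (ε - 1)) := by rw [add_sub_cancel]; exact hε
    have hdM : T₂ ![1, 0] (ε - 1) ∈ MS S := hRe _ hc
    have hdP : Pres (q := q) (T₂ ![1, 0] (ε - 1)) := pres_qr D h10 hc
    refine ⟨l * D.σ l, nm_fix D l, mul_ne_zero hl (σ_ne_zero D hl), fun c => ?_⟩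
    rw [conj_mem D hdM hdP p c, hd, Cfsg.Agent.Helper28.UPair.T_smul D]
  -- one non-trivial root element
  obtain ⟨p₀, c₀, hp₀, hp₀p₀, hc₀s, hc₀0, hT₀⟩ : ∃ (p₀ : Fin 2 → K) (c₀ : K), p₀ ≠ 0 ∧ h₂ p₀ p₀ = 0 ∧
      D.σ c₀ = -c₀ ∧ c₀ ≠ 0 ∧ T₂ p₀ c₀ ∈ MS S := by
    obtain ⟨x, y, hx, hy, hx1, hxy⟩ := U2SOLVE.exists D hK _ _ hafix hbfix ha0 hb0 2 (by
      rw [map_ofNat])
    obtain ⟨hgP, hgdet, hgtr, hgsc⟩ := U2G.facts D α β hα hβ hαβ x y hx hy
    have hx0 : x ≠ 0 := IsU.ne_zero D hx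
    have htr2 : (g2 q α β x y).trace = 2 * x := by rw [hgtr, hxy]; ring
    have hpow := U2POW.eq D hK (g2 q α β x y) x hx hgdet htr2
    have hBM : x⁻¹ • g2 q α β x y ∈ MS S := by
      rw [← hpow]; exact MS_pow (hg2 x y hx hy) _
    have hBP : Pres (q := q) (x⁻¹ • g2 q α β x y) := by
      rw [← hpow]; exact pres_pow hgP _
    have hBdet : (x⁻¹ • g2 q α β x y).det = 1 := by
      rw [Matrix.det_smul, hgdet, Fintype.card_fin]
      field_simp
    have hBtr : (x⁻¹ • g2 q α β x y).trace = 2 := by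
      rw [Matrix.trace_smul, htr2, smul_eq_mul]
      field_simp
    have hBne : x⁻¹ • g2 q α β x y ≠ 1 := by
      intro hh
      apply hx1
      apply hgsc
      have := congrArg (fun M => x • M) hh
      simp only [smul_smul, mul_inv_cancel₀ hx0, one_smul] at this
      exact this
    obtain ⟨p, c, hp, hpp, hcs, hc0, hBT⟩ := U2UNIP.form D _ hBP hBdet hBtr hBne
    exact ⟨p, c, hp, hpp, hcs, hc0, by rw [← hBT]; exact hBM⟩
  -- the parameter sets are stable under multiplication by squares of the fixed field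
  have hsq : ∀ (p : Fin 2 → K), p ≠ 0 → h₂ p p = 0 → ∀ κ : K, D.σ κ = κ → ∀ c,
      T₂ p c ∈ MS S → T₂ p (κ ^ 2 * c) ∈ MS S := by
    intro p hp hpp κ hκ c hc
    by_cases hκ0 : κ = 0
    · rw [hκ0]
      have : (0 : K) ^ 2 * c = 0 := by ring
      rw [this, T_zero]; exact one_mem_MS S
    by_cases hκ1 : κ ^ 2 = 1
    · rw [hκ1, one_mul]; exact hc
    have hcfix : D.σ (κ + κ⁻¹) = κ + κ⁻¹ := by rw [map_add, map_inv₀, hκ]
    obtain ⟨x, y, hx, hy, -, hxy⟩ := U2SOLVE.exists D hK _ _ hafix hbfix ha0 hb0 (κ + κ⁻¹) hcfix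
    obtain ⟨hgP, hgdet, hgtr, -⟩ := U2G.facts D α β hα hβ hαβ x y hx hy
    have htrκ : (g2 q α β x y).trace = x * (κ + κ⁻¹) := by rw [hgtr, hxy]
    obtain ⟨pκ, hpκ, hpκpκ, hgp⟩ := U2TORUS.exists D _ hgP x κ hx hκ hκ0 hκ1 hgdet htrκ
    obtain ⟨ν, hνf, hν0, hν⟩ := htr p pκ hp hpκ hpp hpκpκ
    rw [hν] at hc ⊢
    rw [conj_mem D (hg2 x y hx hy) hgP pκ (ν * c), hgp, Cfsg.Agent.Helper28.UPair.T_smul D] at hc
    have e : x * κ * D.σ (x * κ) * (ν * c) = ν * (κ ^ 2 * c) := by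
      rw [map_mul, hκ]
      unfold IsU at hx
      linear_combination (κ ^ 2 * ν * c) * hx
    rw [e] at hc
    exact hc
  intro p c hpp hcs
  by_cases hp : p = 0
  · rw [hp, T_zero_vec]; exact one_mem_MS S
  -- a non-zero parameter at `p`
  obtain ⟨ν, hνf, hν0, hν⟩ := htr p₀ p hp₀ hp hp₀p₀ hpp
  have hc₁ : T₂ p (ν * c₀) ∈ MS S := (hν c₀).1 hT₀
  have hc₁0 : ν * c₀ ≠ 0 := mul_ne_zero hν0 hc₀0
  have hc₁s : D.σ (ν * c₀) = -(ν * c₀) := by rw [map_mul, hνf, hc₀s]; ring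
  -- `c / c₁` is fixed, a sum of two squares
  have hffix : D.σ (c / (ν * c₀)) = c / (ν * c₀) := by
    rw [map_div₀, hcs, hc₁s, neg_div_neg_eq]
  obtain ⟨s₁, s₂, hs₁, hs₂, hsum⟩ := SQ.exists D hK _ hffix
  have e : c = s₁ ^ 2 * (ν * c₀) + s₂ ^ 2 * (ν * c₀) := by
    rw [← add_mul, hsum, div_mul_cancel₀ _ hc₁0]
  rw [e, T_add_param hpp]
  exact MS_mul (hsq p hp hpp s₁ hs₁ _ hc₁) (hsq p hp hpp s₂ hs₂ _ hc₁)

end Cfsg.Agent.S5655K1
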