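import Mathlib
import Cfsg.Agent.Helper7.S5655.Defs4
import Cfsg.Agent.Helper7.S5655.MonoLib
import Cfsg.Agent.Helper21.S5655P2FRAME
import Cfsg.Agent.Helper17.S5655EMBMUL
import Cfsg.Agent.Helper21.S5655EMBT
import Cfsg.Agent.Helper28.S5655EMBSURJ
import Cfsg.Agent.Helper28.S5655U2ROOT
import Cfsg.Agent.Helper7.S5655U2GEN

set_option autoImplicit false

namespace Cfsg.Agent.S5655K1

open Matrix
open Cfsg.Agent.S2644 Cfsg.Agent.Helper2.SUGen Cfsg.Agent.Helper28.SimMax Cfsg.Agent.MonoP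

variable {K : Type*} [Field K] {q n : ℕ}

local notation "h" => Cfsg.hermForm n K q
local notation "T" => Cfsg.unitaryTransvection n q
local notation "h₂" => Cfsg.hermForm 2 K q
local notation "T₂" => Cfsg.unitaryTransvection 2 q

namespace P2MAIN

open Cfsg.Agent.S5658P

/-- the pull-back of `H` along `emb2` -/
def pull (D : Frob K q) (H : Subgroup (Matrix.GeneralLinearGroup (Fin n) K)) (e e' : Fin n → K)
    (he : h e e = 1) (he' : h e' e' = 1) (hee' : h e e' = 0) :
    Subgroup (Matrix.GeneralLinearGroup (Fin 2) K) where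
  carrier := {A | emb2 q e e' (A : Matrix (Fin 2) (Fin 2) K) ∈ MS H}
  mul_mem' := by
    intro A B hA hB
    show emb2 q e e' ((A * B : Matrix.GeneralLinearGroup (Fin 2) K) : Matrix (Fin 2) (Fin 2) K) ∈ MS H
    rw [Units.val_mul, EMBMUL.mul D e e' he he' hee']
    exact MS_mul hA hB
  one_mem' := by
    show emb2 q e e' ((1 : Matrix.GeneralLinearGroup (Fin 2) K) : Matrix (Fin 2) (Fin 2) K) ∈ MS H
    rw [Units.val_one, EMBMUL.one]
    exact one_mem_MS H
  inv_mem' := by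
    intro A hA
    show emb2 q e e' ((A⁻¹ : Matrix.GeneralLinearGroup (Fin 2) K) : Matrix (Fin 2) (Fin 2) K) ∈ MS H
    have h1 : emb2 q e e' (A : Matrix (Fin 2) (Fin 2) K) *
        emb2 q e e' ((A⁻¹ : Matrix.GeneralLinearGroup (Fin 2) K) : Matrix (Fin 2) (Fin 2) K) = 1 := by
      rw [← EMBMUL.mul D e e' he he' hee', ← Units.val_mul, mul_inv_cancel, Units.val_one, EMBMUL.one]
    exact Cfsg.Agent.Helper28.UPair.InM.inv hA h1

theorem mem_pull (D : Frob K q) (H : Subgroup (Matrix.GeneralLinearGroup (Fin n) K)) (e e' : Fin n → K)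
    (he : h e e = 1) (he' : h e' e' = 1) (hee' : h e e' = 0) (A : Matrix.GeneralLinearGroup (Fin 2) K) :
    A ∈ pull D H e e' he he' hee' ↔ emb2 q e e' (A : Matrix (Fin 2) (Fin 2) K) ∈ MS H := Iff.rfl

/-- a matrix of non-zero determinant as an element of `GL` -/
noncomputable def glOf {m : ℕ} (A : Matrix (Fin m) (Fin m) K) (hdet : A.det ≠ 0) :
    Matrix.GeneralLinearGroup (Fin m) K :=
  ⟨A, A⁻¹, Matrix.mul_nonsing_inv A (isUnit_iff_ne_zero.mpr hdet),
    Matrix.nonsing_inv_mul A (isUnit_iff_ne_zero.mpr hdet)⟩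

theorem hasR_pull (D : Frob K q) (H : Subgroup (Matrix.GeneralLinearGroup (Fin n) K)) (e e' : Fin n → K)
    (he : h e e = 1) (he' : h e' e' = 1) (hee' : h e e' = 0) (v : Fin 2 → K) (hv : h₂ v v = 1)
    (hR : HasR D H (v 0 • e + v 1 • e')) : HasR D (pull D H e e' he he' hee') v := by
  intro c hc
  have hdet : (T₂ v c).det ≠ 0 := by
    rw [det_T', hv, mul_one]
    exact IsU.ne_zero D hc
  refine ⟨glOf (T₂ v c) hdet, ?_, rfl⟩
  rw [mem_pull]
  show emb2 q e e' (T₂ v c) ∈ MS H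
  rw [EMBT.eq D]
  exact hR c hc

end P2MAIN

open P2MAIN in
theorem P2.main (D : Frob K q) [Fintype K] (hK : Fintype.card K = q ^ 2) (hq : 3 ≤ q)
    (H : Subgroup (Matrix.GeneralLinearGroup (Fin n) K)) (e w : Fin n → K) (he : h e e = 1) (hw : h w w = 1)
    (ha0 : h w e ≠ 0) (ha1 : h w e * D.σ (h w e) ≠ 1) (hRe : HasR D H e) (hRw : HasR D H w) :
    ∀ B : Matrix (Fin n) (Fin n) K, Pres (q := q) B → (∀ x, h x e = 0 → h x w = 0 → B *ᵥ x = x) → B ∈ MS H := by
  obtain ⟨e', β, he', hee', hβ0, hwdec, hnorm⟩ := P2FRAME.exists D e w he hw ha1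
  have h10 : h₂ (![1, 0] : Fin 2 → K) ![1, 0] = 1 := by
    simp [Cfsg.hermForm, Fin.sum_univ_two]
  have hθβ : h₂ (![h w e, β] : Fin 2 → K) ![h w e, β] = 1 := by
    simp only [Cfsg.hermForm, Fin.sum_univ_two, Matrix.cons_val_zero, Matrix.cons_val_one]
    rw [← D.pow, ← D.pow]
    exact hnorm
  have hRe' : HasR D (pull D H e e' he he' hee') ![1, 0] := by
    apply hasR_pull D H e e' he he' hee' _ h10
    simpa using hRe
  have hRw' : HasR D (pull D H e e' he he' hee') ![h w e, β] := by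
    apply hasR_pull D H e e' he he' hee' _ hθβ
    simp only [Matrix.cons_val_zero, Matrix.cons_val_one]
    rw [← hwdec]
    exact hRw
  have hroot := U2ROOT.all D hK hq (pull D H e e' he he' hee') (h w e) β ha0 hβ0 hnorm hRe' hRw'
  have hall := U2GEN.main D hK (pull D H e e' he he' hee') hroot hRe'
  intro B hB hfix
  obtain ⟨A, hA, rfl⟩ := EMBSURJ.exists D e e' he he' hee' B hB (by
    intro x hx1 hx2
    apply hfix x hx1
    rw [hwdec, h_add_right D, h_smul_right D, h_smul_right D, hx1, hx2, mul_zero, mul_zero, add_zero])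
  obtain ⟨g, hg, hgA⟩ := hall A hA
  rw [mem_pull, hgA] at hg
  exact hg

end Cfsg.Agent.S5655K1
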