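import Mathlib
import Cfsg.Agent.Helper7.S5655.Defs3
import Cfsg.Agent.Helper7.S5655.MonoLib
import Cfsg.Agent.Helper28.S5655QR
import Cfsg.Agent.Helper5.S5655MU
import Cfsg.Agent.Helper4.S5655RED1
import Cfsg.Agent.Helper25.S5655RED2

/-! S5655 (k = 1), chapter (B): SHRINK.main from P2.main (P2 as a hypothesis here). -/

set_option autoImplicit false

namespace Cfsg.Agent.S5655K1

open Matrix
open Cfsg.Agent.S2644 Cfsg.Agent.Helper2.SUGen Cfsg.Agent.Helper28.SimMax Cfsg.Agent.MonoP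

variable {K : Type*} [Field K] {q n : ℕ}

local notation "h" => Cfsg.hermForm n K q
local notation "T" => Cfsg.unitaryTransvection n q

namespace SHRINK

open Cfsg.Agent.S5658P

/-- the conclusion of `P2.main` for the group `H`, as a hypothesis -/
def P2Hyp (D : Frob K q) (H : Subgroup (Matrix.GeneralLinearGroup (Fin n) K)) : Prop :=
  ∀ e w : Fin n → K, h e e = 1 → h w w = 1 → h w e ≠ 0 → h w e * D.σ (h w e) ≠ 1 →
    HasR D H e → HasR D H w →
    ∀ B : Matrix (Fin n) (Fin n) K, Pres (q := q) B →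
      (∀ x, h x e = 0 → h x w = 0 → B *ᵥ x = x) → B ∈ MS H

theorem pres_R (D : Frob K q) {w : Fin n → K} (hw : h w w = 1) {c : K} (hc : IsU D (1 + c)) :
    Pres (q := q) (T w c) := by
  apply QR.pres D
  unfold IsU at hc
  rw [map_add, map_one] at hc
  rw [hw]
  linear_combination hc

theorem h_single_self (D : Frob K q) (s : Fin n) :
    h (Pi.single s (1 : K) : Fin n → K) (Pi.single s 1) = 1 := by
  rw [h_single_right D, Pi.single_eq_same]

theorem hasR_single (D : Frob K q) (hq : q ≠ 0) {H : Subgroup (Matrix.GeneralLinearGroup (Fin n) K)}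
    {A : Finset (Fin n)} (hfull : FullOn q H A) {s : Fin n} (hs : s ∈ A) :
    HasR D H (Pi.single s 1) := by
  intro c hc
  apply hfull
  · refine ⟨1, fun i j hij => ?_⟩
    rw [Equiv.Perm.coe_one, id] at hij
    unfold Cfsg.unitaryTransvection
    rw [Matrix.add_apply, Matrix.smul_apply, Matrix.vecMulVec_apply, Matrix.one_apply_ne hij]
    by_cases his : i = s
    · have hjs : j ≠ s := fun hh => hij (his.trans hh.symm)
      rw [Pi.single_eq_of_ne hjs, zero_pow hq]; simp
    · rw [Pi.single_eq_of_ne his]; simp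
  · exact pres_R D (h_single_self D s) hc
  · apply SUPPT.suppOn_T hq
    intro i hi
    exact Pi.single_eq_of_ne (fun hh => hi (by rw [hh]; exact hs)) _

/-- a good multiplier -/
theorem exists_eps (D : Frob K q) [Fintype K] (hK : Fintype.card K = q ^ 2) (hq : 3 ≤ q) :
    ∃ ε : K, IsU D ε ∧ ε ≠ 1 ∧ ε * ε - ε + 1 ≠ 0 := by
  classical
  by_contra hcon
  push Not at hcon
  have hcard := MU.card D hK
  set R : Finset K := Finset.univ.filter (fun t : K => t * t - t + 1 = 0) with hR
  have hR2 : R.card ≤ 2 := by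
    by_contra hlt
    push Not at hlt
    obtain ⟨a, b, c, ha, hb, hc, hab, hac, hbc⟩ := Finset.two_lt_card_iff.mp hlt
    simp only [hR, Finset.mem_filter, Finset.mem_univ, true_and] at ha hb hc
    have h1 : (a - b) * (a + b - 1) = 0 := by linear_combination ha - hb
    have h2 : (a - c) * (a + c - 1) = 0 := by linear_combination ha - hc
    have h3 : a + b - 1 = 0 := (mul_eq_zero.mp h1).resolve_left (sub_ne_zero.mpr hab)
    have h4 : a + c - 1 = 0 := (mul_eq_zero.mp h2).resolve_left (sub_ne_zero.mpr hac)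
    exact hbc (by linear_combination h3 - h4)
  have hsub : Finset.univ.filter (fun t : K => IsU D t) ⊆ insert 1 R := by
    intro t ht
    rw [Finset.mem_filter] at ht
    by_cases h1 : t = 1
    · rw [h1]; exact Finset.mem_insert_self _ _
    · apply Finset.mem_insert_of_mem
      rw [hR, Finset.mem_filter]
      exact ⟨Finset.mem_univ _, hcon t ht.2 h1⟩
  have := Finset.card_le_card hsub
  have h5 := Finset.card_insert_le (1 : K) R
  have hcard' : (Finset.univ.filter (fun t : K => IsU D t)).card = q + 1 := by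
    convert hcard
  omega

/-- `w` with its `s`-coordinate removed -/
def cut (w : Fin n → K) (s : Fin n) : Fin n → K := w - (w s) • (Pi.single s (1 : K) : Fin n → K)

theorem cut_self (w : Fin n → K) (s : Fin n) : cut w s s = 0 := by
  simp [cut]

theorem cut_of_ne (w : Fin n → K) (s : Fin n) {k : Fin n} (hk : k ≠ s) : cut w s k = w k := by
  simp [cut, Pi.single_eq_of_ne hk]

theorem h_cut_right (D : Frob K q) (w : Fin n → K) (s : Fin n) (x : Fin n → K)
    (h1 : h x (Pi.single s 1) = 0) (h2 : h x w = 0) : h x (cut w s) = 0 := by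
  unfold cut
  rw [h_sub_right D, h_smul_right D, h1, h2, mul_zero, sub_zero]

theorem h_cut_cut (D : Frob K q) (w : Fin n → K) (s : Fin n) :
    h (cut w s) (cut w s) = h w w - w s * D.σ (w s) := by
  unfold cut
  simp only [h_sub_left, h_smul_left, h_sub_right D, h_smul_right D,
    h_single_right D, h_single_left D]
  have e : (w - w s • (Pi.single s (1 : K) : Fin n → K)) s = 0 := by simp
  rw [e]
  ring

theorem wt_pos_of_ne {w : Fin n → K} {s : Fin n} (hs : w s ≠ 0) : s ∈ supp w := by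
  classical
  simp [supp, hs]

theorem mem_supp_iff (w : Fin n → K) (s : Fin n) : s ∈ supp w ↔ w s ≠ 0 := by
  classical
  simp [supp]

/-- scaling the cut: support and weight -/
theorem supp_smul_cut {w : Fin n → K} {s : Fin n} (hs : w s ≠ 0) {a : K} (ha : a ≠ 0) :
    supp (a • cut w s) = (supp w).erase s := by
  classical
  ext k
  rw [Finset.mem_erase, mem_supp_iff, mem_supp_iff, Pi.smul_apply, smul_eq_mul]
  by_cases hk : k = s
  · subst hk; simp [cut_self]
  · rw [cut_of_ne w s hk]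
    constructor
    · intro hh; exact ⟨hk, (mul_ne_zero_iff.mp hh).2⟩
    · intro hh; exact mul_ne_zero ha hh.2

/-- step A: a coordinate of norm `≠ 1` allows to shrink -/
theorem stepA (D : Frob K q) [Fintype K] (hq : q ≠ 0)
    {H : Subgroup (Matrix.GeneralLinearGroup (Fin n) K)} (hP2 : P2Hyp D H) {A : Finset (Fin n)}
    (hfull : FullOn q H A) {w : Fin n → K} (hw1 : h w w = 1) (hwA : ∀ i, i ∉ A → w i = 0)
    (hR : HasR D H w) {s : Fin n} (hs : w s ≠ 0) (hN : w s * D.σ (w s) ≠ 1) :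
    ∃ w'' : Fin n → K, h w'' w'' = 1 ∧ (∀ i, i ∉ A → w'' i = 0) ∧ HasR D H w'' ∧
      supp w'' = (supp w).erase s := by
  have hsA : s ∈ A := by
    by_contra hh; exact hs (hwA s hh)
  have hν : h (cut w s) (cut w s) = 1 - w s * D.σ (w s) := by rw [h_cut_cut D, hw1]
  have hν0 : (1 - w s * D.σ (w s)) ≠ 0 := sub_ne_zero.mpr (Ne.symm hN)
  have hνfix : D.σ (1 - w s * D.σ (w s)) = 1 - w s * D.σ (w s) := by
    rw [map_sub, map_one, map_mul, D.invol]; ring
  obtain ⟨a, ha⟩ := exists_norm D _ hν0 hνfix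
  have ha0 : a ≠ 0 := by
    rintro rfl
    rw [zero_mul] at ha
    exact hν0 ha.symm
  have hσa0 : D.σ a ≠ 0 := σ_ne_zero D ha0
  refine ⟨a⁻¹ • cut w s, ?_, ?_, ?_, supp_smul_cut hs (inv_ne_zero ha0)⟩
  · rw [h_smul_left, h_smul_right D, hν, ← ha, map_inv₀]
    field_simp
  · intro i hi
    have his : i ≠ s := fun hh => hi (by rw [hh]; exact hsA)
    rw [Pi.smul_apply, cut_of_ne w s his, hwA i hi, smul_zero]
  · intro c hc
    have hunit : h (a⁻¹ • cut w s) (a⁻¹ • cut w s) = 1 := by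
      rw [h_smul_left, h_smul_right D, hν, ← ha, map_inv₀]
      field_simp
    apply hP2 (Pi.single s 1) w (h_single_self D s) hw1 (by rw [h_single_right D]; exact hs)
      (by rw [h_single_right D]; exact hN) (hasR_single D hq hfull hsA) hR _ (pres_R D hunit hc)
    intro x hx1 hx2
    rw [T_mulVec, h_smul_right D, h_cut_right D w s x hx1 hx2, mul_zero, mul_zero, zero_smul,
      add_zero]

/-- base case: weight two -/
theorem base (D : Frob K q) [Fintype K] (hq : q ≠ 0)
    {H : Subgroup (Matrix.GeneralLinearGroup (Fin n) K)} (hP2 : P2Hyp D H) {A : Finset (Fin n)}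
    (hfull : FullOn q H A) {w : Fin n → K} (hw1 : h w w = 1) (hwA : ∀ i, i ∉ A → w i = 0)
    (hw2 : wt w = 2) (hR : HasR D H w) : ∃ a b, a ∈ A ∧ b ∈ A ∧ a ≠ b ∧ HasSU2 q H a b := by
  classical
  obtain ⟨s, r, hsr, hsupp⟩ := Finset.card_eq_two.mp hw2
  have hs : w s ≠ 0 := (mem_supp_iff w s).1 (by rw [hsupp]; simp)
  have hr : w r ≠ 0 := (mem_supp_iff w r).1 (by rw [hsupp]; simp)
  have hoff : ∀ i, i ≠ s → i ≠ r → w i = 0 := by
    intro i h1 h2
    by_contra hh
    have := (mem_supp_iff w i).2 hh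
    rw [hsupp] at this
    simp at this
    rcases this with rfl | rfl
    · exact h1 rfl
    · exact h2 rfl
  have hsA : s ∈ A := by by_contra hh; exact hs (hwA s hh)
  have hrA : r ∈ A := by by_contra hh; exact hr (hwA r hh)
  have hN : w s * D.σ (w s) ≠ 1 := by
    intro hh
    have e := RED1.h_pair_right D hsr w w hoff
    rw [hw1, hh] at e
    have : w r * D.σ (w r) = 0 := by linear_combination -e
    rcases mul_eq_zero.mp this with h0 | h0
    · exact hr h0
    · exact σ_ne_zero D hr h0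
  refine ⟨s, r, hsA, hrA, hsr, ?_⟩
  intro B hB _ hsupB
  apply hP2 (Pi.single s 1) w (h_single_self D s) hw1 (by rw [h_single_right D]; exact hs)
    (by rw [h_single_right D]; exact hN) (hasR_single D hq hfull hsA) hR B hB
  intro x hx1 hx2
  rw [h_single_right D] at hx1
  have e := RED1.h_pair_right D hsr x w hoff
  rw [hx2, hx1, zero_mul, zero_add] at e
  have hxr : x r = 0 := by
    rcases mul_eq_zero.mp e.symm with h0 | h0
    · exact h0
    · exact absurd h0 (σ_ne_zero D hr)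
  apply RED2.mulVec_of_suppOn hsupB
  intro j hj
  simp only [Finset.mem_insert, Finset.mem_singleton] at hj
  rcases hj with rfl | rfl
  · exact hx1
  · exact hxr

/-- step B: perturbing a vector all of whose coordinates have norm one -/
theorem stepB (D : Frob K q) [Fintype K] (hK : Fintype.card K = q ^ 2) (hq : 3 ≤ q)
    {H : Subgroup (Matrix.GeneralLinearGroup (Fin n) K)} {A : Finset (Fin n)}
    (hfull : FullOn q H A) {w : Fin n → K} (hw1 : h w w = 1) (hwA : ∀ i, i ∉ A → w i = 0)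
    (hR : HasR D H w) {s k : Fin n} (hks : k ≠ s) (hNs : w s * D.σ (w s) = 1)
    (hNk : w k * D.σ (w k) = 1) :
    ∃ w' : Fin n → K, h w' w' = 1 ∧ (∀ i, i ∉ A → w' i = 0) ∧ HasR D H w' ∧ supp w' = supp w ∧
      w' k ≠ 0 ∧ w' k * D.σ (w' k) ≠ 1 := by
  classical
  have hq0 : q ≠ 0 := by omega
  obtain ⟨ε, hε, hε1, hεbad⟩ := exists_eps D hK hq
  have hs : w s ≠ 0 := by
    rintro hh; rw [hh, zero_mul] at hNs; exact zero_ne_one hNs
  have hk : w k ≠ 0 := by
    rintro hh; rw [hh, zero_mul] at hNk; exact zero_ne_one hNk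
  have hsA : s ∈ A := by by_contra hh; exact hs (hwA s hh)
  have hε0 : ε ≠ 0 := IsU.ne_zero D hε
  have hεm : ε - 1 ≠ 0 := sub_ne_zero.mpr hε1
  have hσs : D.σ (w s) ≠ 0 := σ_ne_zero D hs
  have hc : IsU D (1 + (ε - 1)) := by rw [add_sub_cancel]; exact hε
  have hrM : T w (ε - 1) ∈ MS H := hR _ hc
  have hrP : Pres (q := q) (T w (ε - 1)) := pres_R D hw1 hc
  have hw' : T w (ε - 1) *ᵥ (Pi.single s 1) =
      (Pi.single s (1 : K) : Fin n → K) + ((ε - 1) * D.σ (w s)) • w := by
    rw [T_mulVec, h_single_left D]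
  have hcoef : (ε - 1) * D.σ (w s) ≠ 0 := mul_ne_zero hεm hσs
  refine ⟨T w (ε - 1) *ᵥ (Pi.single s 1), ?_, ?_, ?_, ?_, ?_, ?_⟩
  · rw [hrP, h_single_self D]
  · intro i hi
    have his : i ≠ s := fun hh => hi (by rw [hh]; exact hsA)
    rw [hw', Pi.add_apply, Pi.smul_apply, Pi.single_eq_of_ne his, hwA i hi, smul_zero, add_zero]
  · intro c hc'
    obtain ⟨g, hg, hgr⟩ := hrM
    obtain ⟨t, ht, htT⟩ := hasR_single D hq0 hfull hsA c hc'
    refine ⟨g * t * g⁻¹, H.mul_mem (H.mul_mem hg ht) (H.inv_mem hg), ?_⟩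
    rw [Units.val_mul, Units.val_mul, htT, hgr, Cfsg.Agent.Helper28.UPair.T_conj D hrP, mul_assoc,
      ← hgr, ← Units.val_mul, mul_inv_cancel]
    simp
  · ext i
    rw [mem_supp_iff, mem_supp_iff, hw', Pi.add_apply, Pi.smul_apply, smul_eq_mul]
    by_cases his : i = s
    · subst his
      rw [Pi.single_eq_same]
      have : 1 + (ε - 1) * D.σ (w i) * w i = ε := by linear_combination (ε - 1) * hNs
      rw [this]
      exact ⟨fun _ => hs, fun _ => hε0⟩
    · rw [Pi.single_eq_of_ne his, zero_add]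
      exact ⟨fun hh => (mul_ne_zero_iff.mp hh).2, fun hh => mul_ne_zero hcoef hh⟩
  · rw [hw', Pi.add_apply, Pi.smul_apply, smul_eq_mul, Pi.single_eq_of_ne hks, zero_add]
    exact mul_ne_zero hcoef hk
  · rw [hw', Pi.add_apply, Pi.smul_apply, smul_eq_mul, Pi.single_eq_of_ne hks, zero_add]
    rw [map_mul, map_mul, map_sub, map_one, D.invol, IsU.sigma D hε]
    intro hh
    apply hεbad
    have e1 : (ε - 1) * (ε⁻¹ - 1) * ((w s * D.σ (w s)) * (w k * D.σ (w k))) = 1 := by
      linear_combination hh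
    rw [hNs, hNk, mul_one, mul_one] at e1
    have e2 : ε * ((ε - 1) * (ε⁻¹ - 1)) = ε * 1 := by rw [e1]
    have e3 : ε * ((ε - 1) * (ε⁻¹ - 1)) = -(ε * ε) + 2 * ε - 1 := by
      field_simp
      ring
    rw [e3] at e2
    linear_combination -e2

end SHRINK

/-- `SHRINK.main` with `P2.main` as a hypothesis -/
theorem SHRINK.main_of_P2 (D : Frob K q) [Fintype K] (hK : Fintype.card K = q ^ 2) (hq : 3 ≤ q)
    (H : Subgroup (Matrix.GeneralLinearGroup (Fin n) K)) (hP2 : SHRINK.P2Hyp D H)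
    (A : Finset (Fin n)) (hfull : FullOn q H A) :
    ∀ (m : ℕ) (w : Fin n → K), wt w = m → h w w = 1 → (∀ i, i ∉ A → w i = 0) → 2 ≤ wt w →
      HasR D H w → ∃ a b, a ∈ A ∧ b ∈ A ∧ a ≠ b ∧ HasSU2 q H a b := by
  classical
  have hq0 : q ≠ 0 := by omega
  intro m
  induction m using Nat.strong_induction_on with
  | _ m IH =>
    intro w hwt hw1 hwA hw2 hR
    by_cases hm2 : wt w = 2
    · exact SHRINK.base D hq0 hP2 hfull hw1 hwA hm2 hR
    have hm3 : 3 ≤ wt w := by omega
    -- a reduction from a coordinate of norm `≠ 1`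
    have red : ∀ w₀ : Fin n → K, wt w₀ = wt w → h w₀ w₀ = 1 → (∀ i, i ∉ A → w₀ i = 0) →
        HasR D H w₀ → ∀ s, w₀ s ≠ 0 → w₀ s * D.σ (w₀ s) ≠ 1 →
        ∃ a b, a ∈ A ∧ b ∈ A ∧ a ≠ b ∧ HasSU2 q H a b := by
      intro w₀ hwt₀ hw₀1 hw₀A hR₀ s hs hN
      obtain ⟨w'', h1, h2, h3, h4⟩ := SHRINK.stepA D hq0 hP2 hfull hw₀1 hw₀A hR₀ hs hN
      have hwt'' : wt w'' = wt w - 1 := by
        unfold wt
        rw [h4, Finset.card_erase_of_mem ((SHRINK.mem_supp_iff w₀ s).2 hs)]
        have : (supp w₀).card = wt w := hwt₀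
        rw [this]
        rfl
      exact IH (wt w'') (by rw [hwt'', ← hwt]; omega) w'' rfl h1 h2 (by rw [hwt'']; omega) h3
    by_cases hex : ∃ s, w s ≠ 0 ∧ w s * D.σ (w s) ≠ 1
    · obtain ⟨s, hs, hN⟩ := hex
      exact red w rfl hw1 hwA hR s hs hN
    · push Not at hex
      -- two points of the support
      have h1 : 1 < (supp w).card := by unfold wt at hm3; omega
      obtain ⟨s, hs, k, hk, hks⟩ := Finset.one_lt_card.mp h1
      have hs' := (SHRINK.mem_supp_iff w s).1 hs
      have hk' := (SHRINK.mem_supp_iff w k).1 hk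
      obtain ⟨w', h1', h2', h3', h4', h5', h6'⟩ :=
        SHRINK.stepB D hK hq hfull hw1 hwA hR (Ne.symm hks) (hex s hs') (hex k hk')
      exact red w' (by unfold wt; rw [h4']) h1' h2' h3' k h5' h6'

end Cfsg.Agent.S5655K1
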