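import Mathlib
import Cfsg.Agent.Helper28.S5655SHRINK0
import Cfsg.Agent.Helper28.S5655P2MAIN

/-! # S5655 `k = 1`, chapter (B): `SHRINK.main` (exact statement of helper7's interface), from `SHRINK.main_of_P2`
and the rank-two lemma `P2.main`. -/

set_option autoImplicit false

namespace Cfsg.Agent.S5655K1

open Matrix
open Cfsg.Agent.S2644 Cfsg.Agent.Helper2.SUGen Cfsg.Agent.Helper28.SimMax Cfsg.Agent.MonoP

variable {K : Type*} [Field K] {q n : ℕ}

local notation "h" => Cfsg.hermForm n K q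
local notation "T" => Cfsg.unitaryTransvection n q

/-- helper15's interface (chapter P2 + shrinking) -/
theorem SHRINK.main (D : Frob K q) [Fintype K] (hK : Fintype.card K = q ^ 2) (hq : 3 ≤ q)
    (H : Subgroup (Matrix.GeneralLinearGroup (Fin n) K)) (hH : H ≤ Cfsg.GU n K q) (A : Finset (Fin n))
    (hfull : FullOn q H A) (w : Fin n → K) (hw1 : h w w = 1) (hwA : ∀ i, i ∉ A → w i = 0)
    (hw2 : 2 ≤ wt w) (hR : HasR D H w) : ∃ a b, a ∈ A ∧ b ∈ A ∧ a ≠ b ∧ HasSU2 q H a b :=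
  SHRINK.main_of_P2 D hK hq H
    (fun e w he hw ha0 ha1 hRe hRw B hB hfix => P2.main D hK hq H e w he hw ha0 ha1 hRe hRw B hB hfix)
    A hfull (wt w) w rfl hw1 hwA hw2 hR

end Cfsg.Agent.S5655K1
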