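import Mathlib
import Cfsg.Agent.Helper28.S5655SHRINK0
import Cfsg.Agent.Helper15.S5655BDefs

/-! S5655 (k = 1), chapter (B): adapter from helper15's form of the rank-two lemma (`P2.gu`, plane data `PD`)
to `SHRINK.P2Hyp`. -/

set_option autoImplicit false

namespace Cfsg.Agent.S5655K1

open Matrix
open Cfsg.Agent.S2644 Cfsg.Agent.Helper2.SUGen Cfsg.Agent.Helper28.SimMax Cfsg.Agent.MonoP

variable {K : Type*} [Field K] {q n : ℕ}

local notation "h" => Cfsg.hermForm n K q
local notation "T" => Cfsg.unitaryTransvection n q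

namespace SHRINK

/-- the conclusion of helper15's `P2.gu` for the group `H`, as a hypothesis -/
def P2guHyp (D : Frob K q) (H : Subgroup (Matrix.GeneralLinearGroup (Fin n) K)) : Prop :=
  ∀ (e f : Fin n → K) (d ζ : K), PD D e f d ζ → HasR D H e → HasR D H (ζ • e + f) →
    ∀ B : Matrix (Fin n) (Fin n) K, Pres (q := q) B →
      (∀ z, h z e = 0 → h z f = 0 → B *ᵥ z = z) → B ∈ MS H

theorem p2Hyp_of_gu (D : Frob K q) {H : Subgroup (Matrix.GeneralLinearGroup (Fin n) K)}
    (hgu : P2guHyp D H) : P2Hyp D H := by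
  intro e w he hw ha0 ha1 hRe hRw B hB hfix
  have hew : h e w = D.σ (h w e) := (h_conj D e w).symm
  have hP : PD D e (w - h w e • e) (1 - h w e * D.σ (h w e)) (h w e) := by
    refine ⟨he, ?_, ?_, ?_, sub_ne_zero.mpr (Ne.symm ha1), ha0, by ring⟩
    · simp only [h_sub_left, h_smul_left, h_sub_right D, h_smul_right D, he, hw, hew]
      ring
    · rw [h_sub_right D, h_smul_right D, he, hew]; ring
    · rw [h_sub_left, h_smul_left, he]; ring
  have hwe : h w e • e + (w - h w e • e) = w := by abel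
  apply hgu e (w - h w e • e) _ _ hP hRe (by rw [hwe]; exact hRw) B hB
  intro z hz1 hz2
  apply hfix z hz1
  rw [h_sub_right D, h_smul_right D, hz1, mul_zero, sub_zero] at hz2
  exact hz2

end SHRINK

end Cfsg.Agent.S5655K1
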