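import Mathlib
import Cfsg.Prelude.Def_GeometricClasses
import Cfsg.Agent.Helper7.S5655.Defs
import Cfsg.Agent.Helper28.S5655GDefs
import Cfsg.Agent.Helper17.S5655FRAME
import Cfsg.Agent.Helper17.S5655CONJSTAB
import Cfsg.Agent.Helper9.S5655STDSTAB
import Cfsg.Agent.Helper9.S5655PROPERSTD

set_option autoImplicit false

namespace Cfsg.Agent.S5655K1

open Matrix
open Cfsg.Agent.S2644 Cfsg.Agent.Helper2.SUGen Cfsg.Agent.Helper28.SimMax Cfsg.Agent.MonoP

variable {K : Type*} [Field K] {q n : ℕ}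

local notation "h" => Cfsg.hermForm n K q
local notation "T" => Cfsg.unitaryTransvection n q

namespace TRANSPORT

open Cfsg.Agent.S5658P

/-- maximality is transported by an automorphism -/
theorem isMaximalIn_map_aut {G : Type*} [Group G] (φ : G ≃* G) {A H : Subgroup G}
    (hm : Cfsg.Geo.IsMaximalIn A H) :
    Cfsg.Geo.IsMaximalIn (A.map φ.toMonoidHom) (H.map φ.toMonoidHom) := by
  have hinj : Function.Injective φ.toMonoidHom := φ.injective
  refine ⟨(Subgroup.map_lt_map_iff_of_injective hinj).2 hm.1, ?_⟩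
  intro M hHM hMK
  have h1 : H ≤ M.comap φ.toMonoidHom := Subgroup.map_le_iff_le_comap.1 hHM
  have h2 : M.comap φ.toMonoidHom ≤ A := by
    intro x hx
    have : φ.toMonoidHom x ∈ A.map φ.toMonoidHom := hMK hx
    obtain ⟨y, hy, hxy⟩ := this
    rw [← hinj hxy]; exact hy
  have hsurj : Function.Surjective φ.toMonoidHom := φ.surjective
  have hM : (M.comap φ.toMonoidHom).map φ.toMonoidHom = M :=
    Subgroup.map_comap_eq_self_of_surjective hsurj M
  rcases hm.2 _ h1 h2 with h3 | h3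
  · left; rw [← hM, h3]
  · right; rw [← hM, h3]

theorem conj_mem_SUG {g x : Matrix.GeneralLinearGroup (Fin n) K} (hg : g ∈ Cfsg.GU n K q)
    (hx : x ∈ SUG n K q) : g * x * g⁻¹ ∈ SUG n K q := by
  refine ⟨(Cfsg.GU n K q).mul_mem ((Cfsg.GU n K q).mul_mem hg hx.1) ((Cfsg.GU n K q).inv_mem hg), ?_⟩
  have hN : (Matrix.GeneralLinearGroup.det :
      Matrix.GeneralLinearGroup (Fin n) K →* Kˣ).ker.Normal := MonoidHom.normal_ker _
  exact hN.conj_mem x hx.2 g

theorem map_conj_SUG {g : Matrix.GeneralLinearGroup (Fin n) K} (hg : g ∈ Cfsg.GU n K q) :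
    (SUG n K q).map (MulAut.conj g).toMonoidHom = SUG n K q := by
  apply le_antisymm
  · rintro _ ⟨x, hx, rfl⟩
    exact conj_mem_SUG hg hx
  · intro x hx
    refine ⟨g⁻¹ * x * g, ?_, ?_⟩
    · have := conj_mem_SUG ((Cfsg.GU n K q).inv_mem hg) hx
      simpa using this
    · show g * (g⁻¹ * x * g) * g⁻¹ = x
      group

/-- a matrix of determinant one as an element of `GL` -/
noncomputable def ofDetOne (A : Matrix (Fin n) (Fin n) K) (hdet : A.det = 1) :
    Matrix.GeneralLinearGroup (Fin n) K :=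
  toGL A A⁻¹ (Matrix.mul_nonsing_inv A (by rw [hdet]; exact isUnit_one))
    (Matrix.nonsing_inv_mul A (by rw [hdet]; exact isUnit_one))

theorem std_maximal (D : Frob K q) [Fintype K] (hn : 13 ≤ n)
    (hstd : ∀ M : Subgroup (Matrix.GeneralLinearGroup (Fin n) K), M ≤ SUG n K q → HasN q M →
      AllMono M ∨ SUG n K q ≤ M) :
    Cfsg.Geo.IsMaximalIn (SUG n K q)
      (Cfsg.Geo.decompositionStabilizer (gStdFrame n K) ⊓ SUG n K q) := by
  refine ⟨lt_of_le_of_ne inf_le_right ?_, ?_⟩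
  · intro heq
    obtain ⟨A, hP, hdet, hnm⟩ := PROPERSTD.exists (q := q) D (by omega : 4 ≤ n)
    have hg : ofDetOne A hdet ∈ SUG n K q := (mem_G_iff _).2 ⟨hP, hdet⟩
    rw [← heq] at hg
    exact hnm ((STDSTAB.mem_iff _).1 hg.1)
  · intro M hHM hMG
    have hN : HasN q M := by
      intro A hmono hP hdet
      refine ⟨ofDetOne A hdet, hHM ⟨(STDSTAB.mem_iff _).2 hmono, (mem_G_iff _).2 ⟨hP, hdet⟩⟩, rfl⟩
    rcases hstd M hMG hN with h1 | h1
    · left
      apply le_antisymm _ hHM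
      intro x hx
      exact ⟨(STDSTAB.mem_iff x).2 (h1 _ ⟨x, hx, rfl⟩), hMG hx⟩
    · right
      exact le_antisymm hMG h1

end TRANSPORT

theorem TRANSPORT.maximal (D : Frob K q) [Fintype K] (hK : Fintype.card K = q ^ 2) (hn : 13 ≤ n)
    (hstd : ∀ M : Subgroup (Matrix.GeneralLinearGroup (Fin n) K), M ≤ SUG n K q → HasN q M →
      AllMono M ∨ SUG n K q ≤ M)
    {t : ℕ} (Dd : Fin t → Submodule K (Fin n → K))
    (hD : Cfsg.Geo.IsNondegenerateMDecomposition (Cfsg.hermForm n K q) 1 Dd) :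
    Cfsg.Geo.IsMaximalIn (SUG n K q) (Cfsg.Geo.decompositionStabilizer Dd ⊓ SUG n K q) := by
  obtain ⟨e, P, P', hP, h1, h2, hDd⟩ := FRAME.exists D Dd hD
  have hgGU : Cfsg.Agent.S5658P.toGL P P' h1 h2 ∈ Cfsg.GU n K q := fun x y => hP x y
  have hg : ∀ i, Dd (e i) = (gStdFrame n K i).map
      (Matrix.toLin' ((Cfsg.Agent.S5658P.toGL P P' h1 h2 : Matrix.GeneralLinearGroup (Fin n) K) :
        Matrix (Fin n) (Fin n) K)) := by
    intro i
    rw [hDd i]
    unfold gStdFrame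
    rw [Submodule.map_span, Set.image_singleton, Matrix.toLin'_apply]
    rfl
  have hc := CONJSTAB.map_eq e Dd _ hg
  have hm := TRANSPORT.isMaximalIn_map_aut (MulAut.conj (Cfsg.Agent.S5658P.toGL P P' h1 h2))
    (TRANSPORT.std_maximal D hn hstd)
  have e1 : (Cfsg.Geo.decompositionStabilizer (gStdFrame n K) ⊓ SUG n K q).map
      (MulAut.conj (Cfsg.Agent.S5658P.toGL P P' h1 h2)).toMonoidHom =
      (Cfsg.Geo.decompositionStabilizer (gStdFrame n K)).map
        (MulAut.conj (Cfsg.Agent.S5658P.toGL P P' h1 h2)).toMonoidHom ⊓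
      (SUG n K q).map (MulAut.conj (Cfsg.Agent.S5658P.toGL P P' h1 h2)).toMonoidHom :=
    Subgroup.map_inf _ _ _ (MulAut.conj (Cfsg.Agent.S5658P.toGL P P' h1 h2)).injective
  rw [e1, hc, TRANSPORT.map_conj_SUG hgGU] at hm
  exact hm

end Cfsg.Agent.S5655K1
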