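import Cfsg.Agent.Helper1.S5665.Lib
import Cfsg.Agent.Helper5.S5700EXK
import Cfsg.Agent.Helper25.S5700DUAL
import Cfsg.Agent.Helper2.FieldBasics

set_option autoImplicit false
set_option linter.unusedSectionVars false
set_option linter.unusedVariables false

/-! # S5665, piece ISO2: isotropic vector with four prescribed pairings (bridge to the S5700 pieces) -/

namespace Cfsg.Agent.S5665P

open Matrix Module Cfsg.Agent.Helper2.Sp Cfsg.Agent.Helper28.Sg Cfsg.Agent.S5700P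

variable {F : Type*} [Field F] [Fintype F] {m : ℕ}
  {δ : Matrix (Fin m ⊕ Fin m) (Fin m ⊕ Fin m) F} {d : F}

local notation "V" => (Fin m ⊕ Fin m → F)
local notation "Mat" => Matrix (Fin m ⊕ Fin m) (Fin m ⊕ Fin m) F
local notation "Sp" => Matrix.symplecticGroup (Fin m) F

namespace ISO2

/-- `om (δ x) u = p` from `B (QF δ) x u = 2 * p`. -/
theorem om_delta_of_B (U : SData δ d) (h2 : (2 : F) ≠ 0) {x u : V} {p : F}
    (h : B (QF δ) x u = 2 * p) : om (δ *ᵥ x) u = p := by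
  rw [U.B_QF] at h
  exact mul_left_cancel₀ h2 h

/-- `om x u = p` from `B (QF δ) (δ x) u = 2 * d * p`. -/
theorem om_of_B_delta (U : SData δ d) (h2 : (2 : F) ≠ 0) {x u : V} {p : F}
    (h : B (QF δ) (δ *ᵥ x) u = 2 * d * p) : om x u = p := by
  rw [U.B_QF, U.dd, om_smul_left] at h
  have h' : (2 * d) * om x u = (2 * d) * p := by linear_combination h
  exact mul_left_cancel₀ (mul_ne_zero h2 U.d_ne_zero) h'

end ISO2

theorem ISO2.exists_iso (U : SData δ d) (h2 : (2 : F) ≠ 0) (hm : 7 ≤ m) {x y : V} (hx : x ≠ 0)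
    (hy : ¬ InK δ x y) (p1 p2 p3 p4 : F) :
    ∃ u : V, Qs δ u = 0 ∧ om (δ *ᵥ x) u = p1 ∧ om x u = p2 ∧ om (δ *ᵥ y) u = p3 ∧ om y u = p4 := by
  have hQ := U.QF_nondeg h2
  have hn := card_idx F m hm
  obtain ⟨u, hu1, hu2, hu3, hu4⟩ :=
    DUAL.exists_dual4 U.udata hQ hx hy (2 * p1) (2 * d * p2) (2 * p3) (2 * d * p4)
  obtain ⟨w₁, w₂, hw1, hw2, hw12, hx1, hx2, hy1, hy2⟩ := EXK.K2 hQ hn δ x y
  obtain ⟨c₁, c₂, hc⟩ := exists_singular_add hw1 hw2 hw12 u
  rw [U.hperp_iff h2] at hx1 hx2 hy1 hy2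
  have e1 := ISO2.om_delta_of_B U h2 hu1
  have e2 := ISO2.om_of_B_delta U h2 hu2
  have e3 := ISO2.om_delta_of_B U h2 hu3
  have e4 := ISO2.om_of_B_delta U h2 hu4
  refine ⟨u + c₁ • w₁ + c₂ • w₂, ?_, ?_, ?_, ?_, ?_⟩
  · rw [← QF_apply]; exact hc
  · rw [om_add_right, om_add_right, om_smul_right, om_smul_right, hx1.1, hx2.1, e1]; ring
  · rw [om_add_right, om_add_right, om_smul_right, om_smul_right, hx1.2, hx2.2, e2]; ring
  · rw [om_add_right, om_add_right, om_smul_right, om_smul_right, hy1.1, hy2.1, e3]; ring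
  · rw [om_add_right, om_add_right, om_smul_right, om_smul_right, hy1.2, hy2.2, e4]; ring

end Cfsg.Agent.S5665P
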