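import Cfsg.Agent.Helper28.S5700.Lib
import Cfsg.Agent.Helper5.S5700EXK

set_option autoImplicit false
set_option linter.unusedSectionVars false
set_option linter.unusedVariables false

namespace Cfsg.Agent.S5700P

open Matrix Module Cfsg.Agent.Helper28.Sg Cfsg.Agent.Helper28.Spin Cfsg.Agent.Helper12.OrthGen

variable {F : Type*} [Field F] [Fintype F] {ι : Type} [Fintype ι] [DecidableEq ι]
  {Q : QuadraticForm F (ι → F)} {J : Matrix ι ι F} {t p : F}

namespace LOCA

/-- the vector `u' = B u v • J u - B (J u) v • u` -/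
def up (Q : QuadraticForm F (ι → F)) (J : Matrix ι ι F) (u v : ι → F) : ι → F :=
  B Q u v • J *ᵥ u - B Q (J *ᵥ u) v • u

theorem up_eq (u v : ι → F) : up Q J u v = (-(B Q (J *ᵥ u) v)) • u + B Q u v • J *ᵥ u := by
  unfold up; module

theorem Q_up (U : UData Q J t p) {u : ι → F} (hu : Q u = 0) (v : ι → F) : Q (up Q J u v) = 0 := by
  rw [up_eq]; exact U.Q_comb hu _ _

theorem hperp_up (U : UData Q J t p) {u b : ι → F} (hub : hperp Q J u b) (v : ι → F) :
    hperp Q J (up Q J u v) b := by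
  unfold up
  exact ((hub.J_left U).smul_left _).sub_left (hub.smul_left _)

theorem B_v_up (U : UData Q J t p) (u v : ι → F) : B Q v (up Q J u v) = 0 := by
  unfold up
  rw [B_sub_right, B_smul_right, B_smul_right, B_comm Q v (J *ᵥ u), B_comm Q v u]
  ring

/-- `D = B (J u') v` -/
theorem B_J_up (U : UData Q J t p) (u v : ι → F) :
    B Q (J *ᵥ up Q J u v) v =
      p * B Q u v * B Q u v + t * B Q u v * B Q (J *ᵥ u) v - B Q (J *ᵥ u) v * B Q (J *ᵥ u) v := by
  unfold up
  rw [Matrix.mulVec_sub, Matrix.mulVec_smul, Matrix.mulVec_smul, U.JJ, B_sub_left, B_smul_left,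
    B_smul_left, B_add_left, B_smul_left, B_smul_left]
  ring

theorem D_ne_zero (U : UData Q J t p) {u v : ι → F} (hvu : ¬ hperp Q J v u) :
    B Q (J *ᵥ up Q J u v) v ≠ 0 := by
  rw [B_J_up U]
  have hne : ¬ (B Q (J *ᵥ u) v = 0 ∧ -(B Q u v) = 0) := by
    rintro ⟨h1, h2⟩
    apply hvu
    have h2' : B Q u v = 0 := by simpa using h2
    exact hperp.symm U ⟨h2', h1⟩
  have := U.norm_ne_zero hne
  intro h0
  apply this
  linear_combination -h0

end LOCA

open LOCA in
theorem LOCA.J_mem (U : UData Q J t p) (hQ : (QuadraticMap.polarBilin Q).Nondegenerate)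
    (hn : 14 ≤ Fintype.card ι) (M : Subgroup ↥(Cfsg.isometryGroup F ⇑Q)) (hM : KPt J M)
    {b : ι → F} (hb : Q b = 0) {v u : ι → F} (hv : Q v = 0) (hvb : hperp Q J v b)
    (hvR : v ∈ RR M b hb) (hu : Q u = 0) (hub : hperp Q J u b) (hvu : ¬ hperp Q J v u) :
    J *ᵥ v ∈ RR M b hb := by
  set u' := up Q J u v with hu'
  have hu'R : u' ∈ RR M b hb := RR_tau U hM hvR hu hub
  have hQu' : Q u' = 0 := Q_up U hu v
  have hu'b : hperp Q J u' b := hperp_up U hub v
  have hvu' : B Q v u' = 0 := B_v_up U u v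
  set D := B Q (J *ᵥ u') v with hD
  have hD0 : D ≠ 0 := D_ne_zero U hvu
  have hJvu' : B Q (J *ᵥ v) u' = -D := by
    rw [B_comm, U.B_J_right, B_comm Q u' v, hvu']; ring
  obtain ⟨w₁, w₂, hw₁, hw₂, h12, hbw₁, hbw₂, hvw₁, hvw₂, huw₁, huw₂⟩ := EXK.K3 hQ hn J b v u hvu
  -- the key: for `w` `h`-orthogonal to `b, v, u`, the vector `y = (Q w / D) • J v + u' + w` is in `RR`
  have key : ∀ w : ι → F, hperp Q J b w → hperp Q J v w → hperp Q J u w →
      (Q w / D) • J *ᵥ v + u' + w ∈ RR M b hb := by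
    intro w hbw hvw huw
    set c := Q w / D with hc
    set y := c • J *ᵥ v + u' + w with hy
    have hu'w : hperp Q J u' w := by
      rw [hu']; unfold up
      exact ((huw.J_left U).smul_left _).sub_left (huw.smul_left _)
    have hJvw : hperp Q J (J *ᵥ v) w := hvw.J_left U
    have hQy : Q y = 0 := by
      rw [hy, Cfsg.Agent.Helper28.Sg.Q_add, Cfsg.Agent.Helper28.Sg.Q_add, Q_smul, U.Q_J, hv, hQu',
        B_add_left, B_smul_left, B_smul_left, hJvw.1, hu'w.1, hJvu', hc]
      field_simp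
      ring
    have hyb : hperp Q J y b := by
      rw [hy]
      exact (((hvb.J_left U).smul_left c).add_left hu'b).add_left (hbw.symm U)
    have hyv : B Q y v = 0 := by
      rw [hy, B_add_left, B_add_left, B_smul_left, U.B_J_self, hv, B_comm Q u' v, hvu',
        B_comm Q w v, hvw.1]
      ring
    have hJyv : B Q (J *ᵥ y) v = D := by
      rw [hy, Matrix.mulVec_add, Matrix.mulVec_add, Matrix.mulVec_smul, B_add_left, B_add_left,
        B_smul_left, U.JJ, B_add_left, B_smul_left, B_smul_left, U.B_J_self, hv,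
        B_self_of_singular Q hv, ← hD, (hperp.symm U hvw).2]
      ring
    have h1 := RR_tau U hM hvR hQy hyb
    rw [hyv, hJyv, zero_smul, zero_sub] at h1
    have h2 := (RR M b hb).smul_mem (-D⁻¹) h1
    rw [smul_neg, neg_smul, neg_neg, smul_smul, inv_mul_cancel₀ hD0, one_smul] at h2
    exact h2
  have k1 := key w₁ hbw₁ hvw₁ huw₁
  have k2 := key w₂ hbw₂ hvw₂ huw₂
  rw [hw₁, zero_div, zero_smul, zero_add] at k1
  rw [hw₂, zero_div, zero_smul, zero_add] at k2
  have hw₁R : w₁ ∈ RR M b hb := by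
    have := (RR M b hb).sub_mem k1 hu'R
    rwa [add_sub_cancel_left] at this
  have hw₂R : w₂ ∈ RR M b hb := by
    have := (RR M b hb).sub_mem k2 hu'R
    rwa [add_sub_cancel_left] at this
  have k3 := key (w₁ + w₂) (hperp.add_right U hbw₁ hbw₂) (hperp.add_right U hvw₁ hvw₂)
    (hperp.add_right U huw₁ huw₂)
  have hQ12 : Q (w₁ + w₂) = 1 := by
    rw [Cfsg.Agent.Helper28.Sg.Q_add, hw₁, hw₂, h12]; ring
  rw [hQ12] at k3
  have h3 : (1 / D) • J *ᵥ v ∈ RR M b hb := by
    have := (RR M b hb).sub_mem ((RR M b hb).sub_mem k3 hu'R) ((RR M b hb).add_mem hw₁R hw₂R)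
    have e : (1 / D) • J *ᵥ v + u' + (w₁ + w₂) - u' - (w₁ + w₂) = (1 / D) • J *ᵥ v := by abel
    rwa [e] at this
  have h4 := (RR M b hb).smul_mem D h3
  rwa [smul_smul, mul_one_div, div_self hD0, one_smul] at h4

end Cfsg.Agent.S5700P
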