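import Mathlib
import Cfsg.Agent.Helper28.S5751Defs
import Cfsg.Agent.Helper28.S5751TabS
import Cfsg.Agent.Helper7.S5751SLB
import Cfsg.Agent.Helper8.S5751KEY
import Cfsg.Agent.Helper6.Chev.BruhatNF

set_option autoImplicit false
set_option linter.unusedSectionVars false
set_option linter.unusedVariables false
set_option linter.constructorNameAsVariable false
set_option maxRecDepth 4000

/-!
# S5751, piece UK: a normal subgroup of `P` inside `Q_m ∩ g Q_m g⁻¹` lies in `Q_{m+1}` (`m ≥ 2`)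
-/

namespace Cfsg.Agent.Helper28.S5751UK

open Cfsg.Lie Cfsg.Agent.Helper6 Cfsg.Agent.Helper28.BT Cfsg.Agent.Helper2.Levi Cfsg.Agent.S5751P

/-- own copy of the `LOWA` fact `nU_mem_PE` -/
theorem uk_nU_mem_PE (i : Fin chevE8.rank) (hi : i.val ≠ 3) :
    nU hBE (chevE8.simple i.val) (one_ne_zero (α := F2)) ∈ PE := by
  unfold PE ChevalleyDatum.parabolicSubgroup
  apply Subgroup.mem_sup_right
  apply Subgroup.subset_closure
  exact ⟨i.val, mem_JE.mpr ⟨i.isLt, hi⟩, i.isLt, rfl⟩

theorem lev_simple_muE (i : Fin chevE8.rank) :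
    lev chevE8 muE (chevE8.simple i.val) = if i.val = 3 then 1 else 0 := by
  rw [lev_muE, levZ_simple]
  split_ifs <;> simp

theorem lev_simple_j : lev chevE8 muE (chevE8.simple jE.val) = 1 := by
  rw [lev_simple_muE, if_pos (show jE.val = 3 from rfl)]

/-- reflections in the nodes of `J` preserve the level -/
theorem lev_wR_J (i : Fin chevE8.rank) (hi : i.val ≠ 3) {r : ℕ} (hr : r < chevE8.nroots) :
    lev chevE8 muE (wR chevE8 (chevE8.simple i.val) r) = lev chevE8 muE r := by
  rw [lev_wR (bnE F2) i muE hr, lev_simple_muE, if_neg hi, mul_zero, sub_zero]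

/-- the reflection in the node `j` lowers the level by the Cartan integer -/
theorem lev_wR_j {r : ℕ} (hr : r < chevE8.nroots) :
    lev chevE8 muE (wR chevE8 (chevE8.simple jE.val) r) =
      lev chevE8 muE r - ((chevE8.cartan 3 r : ℤ) : ℝ) := by
  rw [lev_wR (bnE F2) jE muE hr, lev_simple_j, mul_one]
  rfl

theorem key_claim (m : ℕ) (hm : 2 ≤ m) (N : Subgroup (GL chevE8.Idx F2)) (h1 : N ≤ QE m)
    (hnorm : ∀ p ∈ PE, ∀ y ∈ N, p * y * p⁻¹ ∈ N) (hg : ∀ y ∈ N, gE * y * gE⁻¹ ∈ QE m) :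
    ∀ n : ℕ, ∀ r (hr : chevE8.IsPosRoot r), rk r = n → levZ r = (m : ℤ) → ∀ y ∈ N,
      ∀ a : Fin chevE8.rank,
        (y : Matrix chevE8.Idx chevE8.Idx F2) (Sum.inr ⟨r, hr.1⟩) (Sum.inl a) = 0 := by
  have Δ := bnE F2
  have hm0 : (0 : ℝ) < (m : ℝ) := by
    have : 0 < m := by omega
    exact_mod_cast this
  have hm1 : (1 : ℝ) < (m : ℝ) := by
    have : 1 < m := by omega
    exact_mod_cast this
  intro n
  induction n using Nat.strong_induction_on with
  | _ n ih =>
    intro r hr hrk hlev y hy a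
    have hl1 : 1 ≤ levZ r := by rw [hlev]; exact_mod_cast (by omega : 1 ≤ m)
    have hlr : lev chevE8 muE r = (m : ℝ) := by rw [lev_muE, hlev]; simp
    rcases path_spec hr hl1 with ⟨_, hgood⟩ | ⟨i, hi3, hlt⟩
    · -- good root: descent with the node `j`
      have hne1 : levZ r ≠ 1 := by
        rw [hlev]; intro h
        have : m = 1 := by exact_mod_cast h
        omega
      rw [if_neg hne1] at hgood
      have hstep : ∀ r', chevE8.IsPosRoot r' → (m : ℝ) ≤ lev chevE8 muE r' →
          chevE8.IsPosRoot (wR chevE8 (chevE8.simple jE.val) r') ∧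
            (m : ℝ) - 1 ≤ lev chevE8 muE (wR chevE8 (chevE8.simple jE.val) r') := by
        intro r' hr' hle
        have hne : r' ≠ chevE8.simple jE.val := by
          intro h
          rw [h, lev_simple_j] at hle
          linarith
        refine ⟨(Δ.wpos jE.isLt hr' hne).1, ?_⟩
        rw [lev_wR_j hr'.1]
        have h2 : chevE8.cartan 3 r' ≤ 1 := cartan_le_one hr'.1 jE hne
        have h3 : ((chevE8.cartan 3 r' : ℤ) : ℝ) ≤ 1 := by exact_mod_cast h2
        linarith
      have hz : nU (basicOK_of_tabulated tabE8) (chevE8.simple jE.val) (one_ne_zero (α := F2)) * y *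
          (nU (basicOK_of_tabulated tabE8) (chevE8.simple jE.val) (one_ne_zero (α := F2)))⁻¹ ∈
            GrFil (degI chevE8 muE) (m : ℝ) := (Subgroup.mem_inf.1 (hg y hy)).1
      have hdrop : lev chevE8 muE (wR chevE8 (chevE8.simple jE.val) r) = (m : ℝ) - 1 := by
        rw [lev_wR_j hr.1, hlr, hgood]; simp
      exact descent tabE8 hoddE dominant_muE jE hm1 hstep (h1 hy) hz hr hlr hdrop a
    · -- move along the path
      have hne : r ≠ chevE8.simple i.val := by
        intro h
        have h2 := lev_simple_muE i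
        rw [← h, hlr, if_neg hi3] at h2
        linarith
      have hr' := (Δ.wpos i.isLt hr hne).1
      have hlev' : levZ (wR chevE8 (chevE8.simple i.val) r) = (m : ℤ) := by
        have h2 := lev_wR_J i hi3 hr.1
        rw [lev_muE, lev_muE, hlev] at h2
        exact_mod_cast h2
      have hnP := uk_nU_mem_PE i hi3
      have hy' := hnorm _ hnP y hy
      have h0 := ih _ (hrk ▸ hlt) _ hr' rfl hlev' _ hy'
      have hi0 : lev chevE8 muE (chevE8.simple i.val) = 0 := by
        rw [lev_simple_muE, if_neg hi3]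
      exact move tabE8 hoddE dominant_muE i hi0 hm0 (h1 hy) hr hlr hr' h0 a

end Cfsg.Agent.Helper28.S5751UK

namespace Cfsg.Agent.S5751P

open Cfsg.Lie Cfsg.Agent.Helper6 Cfsg.Agent.Helper28.BT Cfsg.Agent.Helper2.Levi

theorem le_QE_succ (m : ℕ) (hm : 2 ≤ m) (N : Subgroup (GL chevE8.Idx F2)) (h1 : N ≤ QE m)
    (hnorm : ∀ p ∈ PE, ∀ y ∈ N, p * y * p⁻¹ ∈ N) (hg : ∀ y ∈ N, gE * y * gE⁻¹ ∈ QE m) :
    N ≤ QE (m + 1) := by
  intro y hy
  have hm0 : (0 : ℝ) < (m : ℝ) := by
    have : 0 < m := by omega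
    exact_mod_cast this
  have hgap : ∀ r, chevE8.IsPosRoot r → lev chevE8 muE r ≤ (m : ℝ) ∨
      ((m + 1 : ℕ) : ℝ) ≤ lev chevE8 muE r := by
    intro r _
    rw [lev_muE]
    rcases le_or_gt (levZ r) (m : ℤ) with h | h
    · left; exact_mod_cast h
    · right
      have : ((m + 1 : ℕ) : ℤ) ≤ levZ r := by push_cast; omega
      exact_mod_cast this
  have hmm : (m : ℝ) ≤ ((m + 1 : ℕ) : ℝ) := by push_cast; linarith
  apply mem_QF_of_entries tabE8 hoddE dominant_muE hm0 hmm hgap (h1 hy)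
  intro r hr hlr a
  have hlev : levZ r = (m : ℤ) := by
    rw [lev_muE] at hlr
    exact_mod_cast hlr
  exact Cfsg.Agent.Helper28.S5751UK.key_claim m hm N h1 hnorm hg (rk r) r hr rfl hlev y hy a

end Cfsg.Agent.S5751P
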