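import Mathlib
import Cfsg.Agent.Helper28.S5751Defs
import Cfsg.Agent.Helper28.S5751TabS
import Cfsg.Agent.Helper3.S5751LOWA2
import Cfsg.Agent.Helper28.S5751UK
import Cfsg.Agent.S0316
import Cfsg.Agent.S1054
import Cfsg.Agent.Helper6.Chev.BNPairDef
import Cfsg.Agent.Helper20.BTSTAB2
import Cfsg.Agent.Helper8.BTWACT

set_option autoImplicit false
set_option linter.unusedSectionVars false
set_option linter.unusedVariables false
set_option maxRecDepth 4000

/-!
# S5751, piece COAT: the parabolic `P` is a core-free maximal subgroup of `E₈(2)`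
-/

namespace Cfsg.Agent.Helper28.S5751COAT

open Cfsg.Lie Cfsg.Agent.Helper6 Cfsg.Agent.Helper28.BT Cfsg.Agent.Helper2.Levi Cfsg.Agent.S5751P

/-- the `(B, N)`-pair of `E₈(2)` -/
noncomputable def bnP : Cfsg.BNPair ↥GE := (bnE F2).bnPair

theorem gE_not_mem_PE : gE ∉ PE := by
  intro h
  have Δ := bnE F2
  have h1 : gE ∈ GrPar (Cfsg.Agent.Helper28.BT.degI chevE8 muE) := PE_le_GrPar h
  have hTr := Cfsg.Agent.Helper8.BT.simple_Tr (F := F2) Δ jE muE
  have heq := Cfsg.Agent.Helper20.BT.Tr_eq_of_mem_GrPar hTr h1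
  have h2 := congrFun heq (Sum.inr ⟨130, by decide⟩)
  simp only [Cfsg.Agent.Helper28.BT.degI] at h2
  rw [Cfsg.Agent.Helper8.BT.lev_refl Δ jE muE (by decide : (130 : ℕ) < chevE8.nroots)] at h2
  have h3 := Cfsg.Agent.Helper28.S5751UK.lev_wR_j (r := 130) (by decide)
  rw [h3] at h2
  have h4 : chevE8.cartan 3 130 = 2 := by decide
  rw [h4] at h2
  norm_num at h2

/-- the reflection `s_j` as an element of `S` -/
noncomputable def s3 : bnP.S := ⟨⟨gE, gE_mem⟩, ⟨3, by decide, rfl⟩⟩

theorem B_eq : bnP.B = (chevE8.borelSubgroup F2).subgroupOf GE := rfl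

theorem mem_S_iff (x : ↥GE) : x ∈ bnP.S ↔ ∃ i < chevE8.rank,
    ((x : GL chevE8.Idx F2) : Matrix chevE8.Idx chevE8.Idx F2) =
      chevE8.nMat F2 (chevE8.simple i) 1 := Iff.rfl

theorem parabolic_eq :
    bnP.parabolic (Subtype.val '' ({s3}ᶜ : Set bnP.S)) = PE.subgroupOf GE := by
  apply le_antisymm
  · unfold Cfsg.BNPair.parabolic
    apply sup_le
    · rw [B_eq]
      intro x hx
      rw [Subgroup.mem_subgroupOf] at hx ⊢
      unfold PE ChevalleyDatum.parabolicSubgroup
      exact Subgroup.mem_sup_left hx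
    · rw [Subgroup.closure_le]
      rintro x ⟨s, hs, rfl⟩
      obtain ⟨i, hi, hx⟩ := (mem_S_iff s.1).1 s.2
      rw [SetLike.mem_coe, Subgroup.mem_subgroupOf]
      have hi3 : i ≠ 3 := by
        rintro rfl
        apply hs
        rw [Set.mem_singleton_iff]
        apply Subtype.ext
        apply Subtype.ext
        apply Units.ext
        rw [hx]
        rfl
      have hmem := nU_mem_PE ⟨i, hi⟩ hi3
      have e : ((s : ↥GE) : GL chevE8.Idx F2) =
          nU hBE (chevE8.simple i) (one_ne_zero (α := F2)) := Units.ext hx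
      rw [e]
      exact hmem
  · intro x hx
    rw [Subgroup.mem_subgroupOf] at hx
    have key : PE ≤ (bnP.parabolic (Subtype.val '' ({s3}ᶜ : Set bnP.S))).map GE.subtype := by
      unfold PE ChevalleyDatum.parabolicSubgroup
      apply sup_le
      · intro b hb
        have hbG : b ∈ GE := (bnE F2).borel_le_group hb
        refine Subgroup.mem_map.2 ⟨⟨b, hbG⟩, ?_, rfl⟩
        unfold Cfsg.BNPair.parabolic
        apply Subgroup.mem_sup_left
        rw [B_eq, Subgroup.mem_subgroupOf]
        exact hb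
      · rw [Subgroup.closure_le]
        rintro g ⟨j, hjJ, hj, hg⟩
        have hj3 : j ≠ 3 := (mem_JE.1 hjJ).2
        have e : g = nU hBE (chevE8.simple j) (one_ne_zero (α := F2)) := Units.ext hg
        have hgP : g ∈ PE := by
          rw [e]; exact nU_mem_PE ⟨j, hj⟩ hj3
        have hgG : g ∈ GE := PE_le hgP
        refine Subgroup.mem_map.2 ⟨⟨g, hgG⟩, ?_, rfl⟩
        unfold Cfsg.BNPair.parabolic
        apply Subgroup.mem_sup_right
        apply Subgroup.subset_closure
        refine ⟨⟨⟨g, hgG⟩, ⟨j, hj, hg⟩⟩, ?_, rfl⟩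
        intro hs
        rw [Set.mem_singleton_iff] at hs
        have h1 := congrArg (fun s : bnP.S => ((s : ↥GE) : GL chevE8.Idx F2)) hs
        have h2 : g = gE := h1
        exact gE_not_mem_PE (h2 ▸ hgP)
    obtain ⟨y, hy, hyx⟩ := Subgroup.mem_map.1 (key hx)
    have : y = x := Subtype.ext hyx
    rw [← this]
    exact hy

theorem coatom_aux {G : Type*} [Group G] (P : Cfsg.BNPair G) (s : P.S) :
    IsCoatom (P.parabolic (Subtype.val '' ({s}ᶜ : Set P.S))) := by
  obtain ⟨e, he⟩ := Cfsg.Agent.S0316.result P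
  have hco := Set.isCoatom_singleton_compl s
  rw [← he]
  constructor
  · intro htop
    have h1 : e Set.univ ≤ e ({s}ᶜ : Set P.S) := by
      show (e Set.univ).1 ≤ (e ({s}ᶜ : Set P.S)).1
      rw [htop]
      exact le_top
    have h2 := e.le_iff_le.1 h1
    exact h2 (Set.mem_univ s) rfl
  · intro K hK
    have hBK : P.B ≤ K := (e ({s}ᶜ : Set P.S)).2.trans hK.le
    set K' : {M : Subgroup G // P.B ≤ M} := ⟨K, hBK⟩ with hK'
    have h1 : ({s}ᶜ : Set P.S) < e.symm K' := by
      rw [lt_iff_le_and_ne]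
      constructor
      · rw [← e.le_iff_le, e.apply_symm_apply]
        exact hK.le
      · intro h
        have h2 := congrArg e h
        rw [e.apply_symm_apply] at h2
        have h3 : (e ({s}ᶜ : Set P.S)).1 = K := congrArg Subtype.val h2
        exact hK.ne h3
    have h2 := hco.2 _ h1
    have h3 : (⟨⊤, le_top⟩ : {M : Subgroup G // P.B ≤ M}) ≤ K' := by
      rw [← e.apply_symm_apply K', ← e.apply_symm_apply (⟨⊤, le_top⟩ : {M : Subgroup G // P.B ≤ M})]
      rw [e.le_iff_le, h2]
      exact le_top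
    exact top_le_iff.1 h3

end Cfsg.Agent.Helper28.S5751COAT

namespace Cfsg.Agent.S5751P

open Cfsg.Lie Cfsg.Agent.Helper6 Cfsg.Agent.Helper28.BT Cfsg.Agent.Helper2.Levi
open Cfsg.Agent.Helper28.S5751COAT

theorem PE_coatom : IsCoatom (PE.subgroupOf GE) := by
  rw [← parabolic_eq]
  exact coatom_aux bnP s3

theorem PE_core : (PE.subgroupOf GE).normalCore = ⊥ := by
  have : IsSimpleGroup ↥GE := (Cfsg.Agent.S1054.result (F := F2) chevE8 (by simp)).1
  rcases (Subgroup.normalCore_normal (PE.subgroupOf GE)).eq_bot_or_eq_top with h | h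
  · exact h
  · exfalso
    apply PE_coatom.1
    rw [eq_top_iff, ← h]
    exact Subgroup.normalCore_le _

end Cfsg.Agent.S5751P
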