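import Mathlib
import Cfsg.Agent.Helper28.S5751Defs
import Cfsg.Agent.Helper28.S5751TabS
import Cfsg.Agent.Helper7.S5751SLB
import Cfsg.Agent.Helper8.S5751KEY
import Cfsg.Agent.Helper8.BTWACT
import Cfsg.Agent.Helper20.BTSTAB1
import Cfsg.Agent.Helper28.S5751UK
import Cfsg.Agent.Helper6.Chev.BruhatNF

set_option autoImplicit false
set_option linter.unusedSectionVars false
set_option linter.unusedVariables false
set_option linter.constructorNameAsVariable false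
set_option maxRecDepth 4000

/-!
# S5751, piece U0C: a normal subgroup of `P` inside `Q_1 ∩ g P g⁻¹` lies in `Q_2`
-/

namespace Cfsg.Agent.Helper28.S5751U0C

open Cfsg.Lie Cfsg.Agent.Helper6 Cfsg.Agent.Helper28.BT Cfsg.Agent.Helper2.Levi Cfsg.Agent.S5751P
open Cfsg.Agent.Helper28.S5751UK

/-- own copy of the `LOWA` fact `PE_le_GrPar` -/
theorem u0c_PE_le_GrPar : PE ≤ GrPar (degI chevE8 muE) := by
  have Δ := bnE F2
  unfold PE ChevalleyDatum.parabolicSubgroup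
  apply sup_le (Cfsg.Agent.Helper20.BT.borel_le_GrPar tabE8 dominant_muE)
  rw [Subgroup.closure_le]
  rintro g ⟨j, hjJ, hj, hg⟩
  obtain ⟨hj', hlev⟩ := hjJ
  have hgn : g = nU Δ.hB (chevE8.simple (⟨j, hj⟩ : Fin chevE8.rank).val) (one_ne_zero (α := F2)) :=
    Units.ext hg
  have hTr := Cfsg.Agent.Helper8.BT.simple_Tr Δ ⟨j, hj⟩ muE
  have hrefl : Cfsg.Agent.Helper28.BT.refl chevE8 ⟨j, hj⟩ muE = muE := by
    funext k
    unfold Cfsg.Agent.Helper28.BT.refl
    rw [hlev]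
    simp
  rw [hrefl] at hTr
  rw [hgn]
  exact Gr0_le_GrPar _ hTr.mem_Gr0

/-- the coordinate at `α_j` of an element `y` with `g y g⁻¹ ∈ P` vanishes -/
theorem entry_simple_j {y : GL chevE8.Idx F2} (hy : gE * y * gE⁻¹ ∈ PE) (a : Fin chevE8.rank) :
    (y : Matrix chevE8.Idx chevE8.Idx F2) (Sum.inr ⟨130, by decide⟩) (Sum.inl a) = 0 := by
  have Δ := bnE F2
  have hz : gE * y * gE⁻¹ ∈ GrPar (degI chevE8 muE) := u0c_PE_le_GrPar hy
  have hTr : Tr gE⁻¹ (degI chevE8 muE) (degI chevE8 (Cfsg.Agent.Helper28.BT.refl chevE8 jE muE)) :=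
    Cfsg.Agent.Helper8.BT.simple_inv_Tr Δ jE muE
  have hy' := hTr.conj_mem_GrPar hz
  have e : gE⁻¹ * (gE * y * gE⁻¹) * gE⁻¹⁻¹ = y := by group
  rw [e] at hy'
  by_contra hne
  have h := hy'.1 _ _ hne
  simp only [Cfsg.Agent.Helper28.BT.degI] at h
  rw [Cfsg.Agent.Helper8.BT.lev_refl Δ jE muE (by decide : (130 : ℕ) < chevE8.nroots)] at h
  have h130 : (130 : ℕ) = chevE8.simple jE.val := simple3.symm
  have h2 := lev_wR_j (r := 130) (by decide)
  rw [h2] at h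
  have h3 : lev chevE8 muE 130 = 1 := by rw [h130]; exact lev_simple_j
  have h4 : chevE8.cartan 3 130 = 2 := by decide
  rw [h3, h4] at h
  norm_num at h

theorem key_claim1 (N : Subgroup (GL chevE8.Idx F2)) (h1 : N ≤ QE 1)
    (hnorm : ∀ p ∈ PE, ∀ y ∈ N, p * y * p⁻¹ ∈ N) (hg : ∀ y ∈ N, gE * y * gE⁻¹ ∈ PE) :
    ∀ n : ℕ, ∀ r (hr : chevE8.IsPosRoot r), rk r = n → levZ r = 1 → ∀ y ∈ N,
      ∀ a : Fin chevE8.rank,
        (y : Matrix chevE8.Idx chevE8.Idx F2) (Sum.inr ⟨r, hr.1⟩) (Sum.inl a) = 0 := by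
  have Δ := bnE F2
  intro n
  induction n using Nat.strong_induction_on with
  | _ n ih =>
    intro r hr hrk hlev y hy a
    have hl1 : 1 ≤ levZ r := by rw [hlev]
    have hlr : lev chevE8 muE r = ((1 : ℕ) : ℝ) := by rw [lev_muE, hlev]; simp
    rcases path_spec hr hl1 with ⟨_, hgood⟩ | ⟨i, hi3, hlt⟩
    · rw [if_pos hlev] at hgood
      subst hgood
      exact entry_simple_j (hg y hy) a
    · have hne : r ≠ chevE8.simple i.val := by
        intro h
        have h2 := lev_simple_muE i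
        rw [← h, hlr, if_neg hi3] at h2
        norm_num at h2
      have hr' := (Δ.wpos i.isLt hr hne).1
      have hlev' : levZ (wR chevE8 (chevE8.simple i.val) r) = 1 := by
        have h2 := lev_wR_J i hi3 hr.1
        rw [lev_muE, lev_muE, hlev] at h2
        exact_mod_cast h2
      have hnP := uk_nU_mem_PE i hi3
      have hy' := hnorm _ hnP y hy
      have h0 := ih _ (hrk ▸ hlt) _ hr' rfl hlev' _ hy'
      have hi0 : lev chevE8 muE (chevE8.simple i.val) = 0 := by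
        rw [lev_simple_muE, if_neg hi3]
      exact move tabE8 hoddE dominant_muE i hi0 (by norm_num : (0 : ℝ) < ((1 : ℕ) : ℝ)) (h1 hy) hr hlr
        hr' h0 a

end Cfsg.Agent.Helper28.S5751U0C

namespace Cfsg.Agent.S5751P

open Cfsg.Lie Cfsg.Agent.Helper6 Cfsg.Agent.Helper28.BT Cfsg.Agent.Helper2.Levi

theorem le_QE_two (N : Subgroup (GL chevE8.Idx F2)) (h1 : N ≤ QE 1)
    (hnorm : ∀ p ∈ PE, ∀ y ∈ N, p * y * p⁻¹ ∈ N) (hg : ∀ y ∈ N, gE * y * gE⁻¹ ∈ PE) :
    N ≤ QE 2 := by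
  intro y hy
  have hgap : ∀ r, chevE8.IsPosRoot r → lev chevE8 muE r ≤ ((1 : ℕ) : ℝ) ∨
      ((2 : ℕ) : ℝ) ≤ lev chevE8 muE r := by
    intro r _
    rw [lev_muE]
    rcases le_or_gt (levZ r) 1 with h | h
    · left; exact_mod_cast h
    · right
      have : (2 : ℤ) ≤ levZ r := by omega
      exact_mod_cast this
  apply mem_QF_of_entries tabE8 hoddE dominant_muE (by norm_num : (0 : ℝ) < ((1 : ℕ) : ℝ))
    (by norm_num : ((1 : ℕ) : ℝ) ≤ ((2 : ℕ) : ℝ)) hgap (h1 hy)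
  intro r hr hlr a
  have hlev : levZ r = 1 := by
    rw [lev_muE] at hlr
    exact_mod_cast hlr
  exact Cfsg.Agent.Helper28.S5751U0C.key_claim1 N h1 hnorm hg (rk r) r hr rfl hlev y hy a

end Cfsg.Agent.S5751P
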