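import Mathlib
import Cfsg.Agent.Helper28.S5751Defs
import Cfsg.Agent.Helper28.S5751TabS
import Cfsg.Agent.Helper28.S5751ADD
import Cfsg.Agent.Helper8.BTWACT
import Cfsg.Agent.Helper20.BTSTAB1
import Cfsg.Agent.Helper20.BTSTAB2
import Cfsg.Agent.Helper28.S5751UK
import Cfsg.Agent.Helper28.S5751U0C

set_option autoImplicit false
set_option linter.unusedSectionVars false
set_option linter.unusedVariables false
set_option maxRecDepth 4000

/-!
# S5751, piece U0A: a normal subgroup of `P` inside `P ∩ g P g⁻¹` lies in `U`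
-/

namespace Cfsg.Agent.Helper28.S5751U0A

open Cfsg.Lie Cfsg.Agent.Helper6 Cfsg.Agent.Helper28.BT Cfsg.Agent.Helper2.Levi Cfsg.Agent.S5751P
open Cfsg.Agent.Helper28.S5751UK Cfsg.Agent.Helper28.S5751U0C

/-- the weight vectors whose parabolic contains `N` -/
def Lam (N : Subgroup (GL chevE8.Idx F2)) : Set (Fin chevE8.rank → ℝ) :=
  {lam | N ≤ GrPar (Cfsg.Agent.Helper28.BT.degI chevE8 lam)}

theorem degI_comb (c c' : ℝ) (lam lam' : Fin chevE8.rank → ℝ) :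
    (fun a => c * Cfsg.Agent.Helper28.BT.degI chevE8 lam a +
      c' * Cfsg.Agent.Helper28.BT.degI chevE8 lam' a) =
      Cfsg.Agent.Helper28.BT.degI chevE8 (c • lam + c' • lam') := by
  funext a
  cases a with
  | inl i => simp [Cfsg.Agent.Helper28.BT.degI]
  | inr s => simp only [Cfsg.Agent.Helper28.BT.degI]; rw [lev_add, lev_smul, lev_smul]

theorem cone {N : Subgroup (GL chevE8.Idx F2)} {lam lam' : Fin chevE8.rank → ℝ} (h : lam ∈ Lam N)
    (h' : lam' ∈ Lam N) {c c' : ℝ} (hc : 0 ≤ c) (hc' : 0 ≤ c') : c • lam + c' • lam' ∈ Lam N := by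
  intro y hy
  have := GrPar_inf_le_add (F := F2) (Cfsg.Agent.Helper28.BT.degI chevE8 lam)
    (Cfsg.Agent.Helper28.BT.degI chevE8 lam') hc hc' (Subgroup.mem_inf.2 ⟨h hy, h' hy⟩)
  rw [degI_comb] at this
  exact this

theorem refl_mem {N : Subgroup (GL chevE8.Idx F2)}
    (hnorm : ∀ p ∈ PE, ∀ y ∈ N, p * y * p⁻¹ ∈ N) (i : Fin chevE8.rank) (hi : i.val ≠ 3)
    {lam : Fin chevE8.rank → ℝ} (h : lam ∈ Lam N) :
    Cfsg.Agent.Helper28.BT.refl chevE8 i lam ∈ Lam N := by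
  have Δ := bnE F2
  intro y hy
  have hnP := uk_nU_mem_PE i hi
  have hy' := hnorm _ (Subgroup.inv_mem _ hnP) y hy
  have hTr := Cfsg.Agent.Helper8.BT.simple_Tr Δ i lam
  have := hTr.conj_mem_GrPar (h hy')
  have e : nU Δ.hB (chevE8.simple i.val) (one_ne_zero (α := F2)) *
      ((nU hBE (chevE8.simple i.val) (one_ne_zero (α := F2)))⁻¹ * y *
        ((nU hBE (chevE8.simple i.val) (one_ne_zero (α := F2)))⁻¹)⁻¹) *
      (nU Δ.hB (chevE8.simple i.val) (one_ne_zero (α := F2)))⁻¹ = y := by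
    group
  rw [e] at this
  exact this

theorem mu_mem {N : Subgroup (GL chevE8.Idx F2)} (hNP : N ≤ PE) : muE ∈ Lam N :=
  fun y hy => u0c_PE_le_GrPar (hNP hy)

theorem mu'_mem {N : Subgroup (GL chevE8.Idx F2)} (hg : ∀ y ∈ N, gE * y * gE⁻¹ ∈ PE) :
    Cfsg.Agent.Helper28.BT.refl chevE8 jE muE ∈ Lam N := by
  have Δ := bnE F2
  intro y hy
  have hz : gE * y * gE⁻¹ ∈ GrPar (Cfsg.Agent.Helper28.BT.degI chevE8 muE) :=
    u0c_PE_le_GrPar (hg y hy)
  have hTr : Tr gE⁻¹ (Cfsg.Agent.Helper28.BT.degI chevE8 muE)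
      (Cfsg.Agent.Helper28.BT.degI chevE8 (Cfsg.Agent.Helper28.BT.refl chevE8 jE muE)) :=
    Cfsg.Agent.Helper8.BT.simple_inv_Tr Δ jE muE
  have hy' := hTr.conj_mem_GrPar hz
  have e : gE⁻¹ * (gE * y * gE⁻¹) * gE⁻¹⁻¹ = y := by group
  rw [e] at hy'
  exact hy'

/-- the Cartan matrix of `E₈` -/
def cmE (i k : ℕ) : ℤ :=
  if i = k then 2
  else if (i, k) ∈ [(0, 2), (2, 0), (2, 3), (3, 2), (1, 3), (3, 1), (3, 4), (4, 3), (4, 5), (5, 4),
    (5, 6), (6, 5), (6, 7), (7, 6)] then -1 else 0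

theorem cartan_simple_E8 : ∀ i < 8, ∀ k < 8, chevE8.cartan i (chevE8.simple k) = cmE i k := by
  decide

/-- the level of a simple root for the reflected weight -/
theorem sl_refl (i k : Fin chevE8.rank) (lam : Fin chevE8.rank → ℝ) :
    lev chevE8 (Cfsg.Agent.Helper28.BT.refl chevE8 i lam) (chevE8.simple k.val) =
      lev chevE8 lam (chevE8.simple k.val) -
        ((cmE i.val k.val : ℤ) : ℝ) * lev chevE8 lam (chevE8.simple i.val) := by
  have Δ := bnE F2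
  have hk : chevE8.simple k.val < chevE8.nroots := (Δ.hAll k.val k.isLt).hS.1
  rw [Cfsg.Agent.Helper8.BT.lev_refl Δ i lam hk, lev_wR Δ i lam hk,
    cartan_simple_E8 i.val i.isLt k.val k.isLt]

/-- one step: `2 λ + s_i λ` -/
theorem sl_step (i k : Fin chevE8.rank) (lam : Fin chevE8.rank → ℝ) :
    lev chevE8 ((2 : ℝ) • lam + (1 : ℝ) • Cfsg.Agent.Helper28.BT.refl chevE8 i lam)
        (chevE8.simple k.val) =
      3 * lev chevE8 lam (chevE8.simple k.val) -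
        ((cmE i.val k.val : ℤ) : ℝ) * lev chevE8 lam (chevE8.simple i.val) := by
  rw [lev_add, lev_smul, lev_smul, sl_refl]
  ring

theorem step_mem {N : Subgroup (GL chevE8.Idx F2)}
    (hnorm : ∀ p ∈ PE, ∀ y ∈ N, p * y * p⁻¹ ∈ N) (i : Fin chevE8.rank) (hi : i.val ≠ 3)
    {lam : Fin chevE8.rank → ℝ} (h : lam ∈ Lam N) :
    (2 : ℝ) • lam + (1 : ℝ) • Cfsg.Agent.Helper28.BT.refl chevE8 i lam ∈ Lam N :=
  cone h (refl_mem hnorm i hi h) (by norm_num) (by norm_num)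

/-- the simple levels as a list -/
def HasSL (lam : Fin chevE8.rank → ℝ) (v : ℕ → ℝ) : Prop :=
  ∀ k : Fin chevE8.rank, lev chevE8 lam (chevE8.simple k.val) = v k.val

/-- the list of values -/
def vl (l : List ℝ) : ℕ → ℝ := fun k => l.getD k 0

theorem hasSL_step (i : Fin chevE8.rank) {lam : Fin chevE8.rank → ℝ} {v : ℕ → ℝ}
    (h : HasSL lam v) :
    HasSL ((2 : ℝ) • lam + (1 : ℝ) • Cfsg.Agent.Helper28.BT.refl chevE8 i lam)
      (fun k => 3 * v k - ((cmE i.val k : ℤ) : ℝ) * v i.val) := by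
  intro k
  rw [sl_step, h k, h i]

theorem hasSL_mu : HasSL muE (vl [0, 0, 0, 1, 0, 0, 0, 0]) := by
  intro k
  rw [lev_simple_muE]
  fin_cases k <;> simp [vl]

theorem hasSL_lam0 : HasSL ((2 : ℝ) • muE + (1 : ℝ) • Cfsg.Agent.Helper28.BT.refl chevE8 jE muE)
    (vl [0, 1, 1, 1, 1, 0, 0, 0]) := by
  intro k
  have := hasSL_step jE hasSL_mu k
  rw [this]
  fin_cases k <;> norm_num [vl, cmE, jE]

/-- the step `λ ↦ 2λ + s_i λ` -/
noncomputable def stp (i : Fin chevE8.rank) (lam : Fin chevE8.rank → ℝ) : Fin chevE8.rank → ℝ :=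
  (2 : ℝ) • lam + (1 : ℝ) • Cfsg.Agent.Helper28.BT.refl chevE8 i lam

noncomputable def lam0 : Fin chevE8.rank → ℝ := stp jE muE
noncomputable def lam1 : Fin chevE8.rank → ℝ := stp ⟨2, by decide⟩ lam0
noncomputable def lam2 : Fin chevE8.rank → ℝ := stp ⟨4, by decide⟩ lam1
noncomputable def lam3 : Fin chevE8.rank → ℝ := stp ⟨5, by decide⟩ lam2
noncomputable def lam4 : Fin chevE8.rank → ℝ := stp ⟨6, by decide⟩ lam3

theorem hasSL_lam1 : HasSL lam1 (vl [1, 3, 1, 4, 3, 0, 0, 0]) := by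
  intro k
  have := hasSL_step ⟨2, by decide⟩ hasSL_lam0 k
  unfold lam1 stp lam0 stp
  rw [this]
  fin_cases k <;> norm_num [vl, cmE]

theorem hasSL_lam2 : HasSL lam2 (vl [3, 9, 3, 15, 3, 3, 0, 0]) := by
  intro k
  have := hasSL_step ⟨4, by decide⟩ hasSL_lam1 k
  unfold lam2 stp
  rw [this]
  fin_cases k <;> norm_num [vl, cmE]

theorem hasSL_lam3 : HasSL lam3 (vl [9, 27, 9, 45, 12, 3, 3, 0]) := by
  intro k
  have := hasSL_step ⟨5, by decide⟩ hasSL_lam2 k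
  unfold lam3 stp
  rw [this]
  fin_cases k <;> norm_num [vl, cmE]

theorem hasSL_lam4 : HasSL lam4 (vl [27, 81, 27, 135, 36, 12, 3, 3]) := by
  intro k
  have := hasSL_step ⟨6, by decide⟩ hasSL_lam3 k
  unfold lam4 stp
  rw [this]
  fin_cases k <;> norm_num [vl, cmE]

theorem lam4_pos (k : Fin chevE8.rank) : 0 < lev chevE8 lam4 (chevE8.simple k.val) := by
  rw [hasSL_lam4 k]
  fin_cases k <;> norm_num [vl]

theorem lam4_mem {N : Subgroup (GL chevE8.Idx F2)} (hNP : N ≤ PE)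
    (hnorm : ∀ p ∈ PE, ∀ y ∈ N, p * y * p⁻¹ ∈ N) (hg : ∀ y ∈ N, gE * y * gE⁻¹ ∈ PE) :
    lam4 ∈ Lam N := by
  have h0 : lam0 ∈ Lam N := cone (mu_mem hNP) (mu'_mem hg) (by norm_num) (by norm_num)
  have h1 : lam1 ∈ Lam N := step_mem hnorm _ (by decide) h0
  have h2 : lam2 ∈ Lam N := step_mem hnorm _ (by decide) h1
  have h3 : lam3 ∈ Lam N := step_mem hnorm _ (by decide) h2
  exact step_mem hnorm _ (by decide) h3

theorem diagonal_F2 : chevE8.diagonalSubgroup F2 = ⊥ := by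
  have Δ := bnE F2
  rw [eq_bot_iff]
  intro g hg
  obtain ⟨c, hc, hv⟩ := exists_torMat_of_mem_diagonal Δ.hB Δ.hH hg
  rw [Subgroup.mem_bot]
  apply Units.ext
  rw [hv, Units.val_one]
  have hc1 : ∀ i, c i = 1 := by
    intro i
    have := hc i
    generalize c i = x at this
    revert x
    decide
  unfold torMat dMat
  have : torChar chevE8 c = fun _ => 1 := by
    funext u
    unfold torChar
    apply Finset.prod_eq_one
    intro i _
    rw [hc1 i, one_zpow]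
  rw [this]
  ext a b
  rw [Matrix.diagonal_apply, Matrix.one_apply]
  cases a <;> rfl

end Cfsg.Agent.Helper28.S5751U0A

namespace Cfsg.Agent.S5751P

open Cfsg.Lie Cfsg.Agent.Helper6 Cfsg.Agent.Helper28.BT Cfsg.Agent.Helper2.Levi
open Cfsg.Agent.Helper28.S5751U0A

theorem le_posUnipotent (N : Subgroup (GL chevE8.Idx F2)) (hNP : N ≤ PE)
    (hnorm : ∀ p ∈ PE, ∀ y ∈ N, p * y * p⁻¹ ∈ N) (hg : ∀ y ∈ N, gE * y * gE⁻¹ ∈ PE) :
    N ≤ chevE8.posUnipotent F2 := by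
  have hmem := lam4_mem hNP hnorm hg
  have hdom : Dominant chevE8 lam4 := fun i => (lam4_pos i).le
  have hPG : PE ≤ GE := by
    unfold PE GE
    exact Cfsg.Agent.Helper2.Levi.parabolic_le_group (bnE F2) _
  intro y hy
  have h1 : y ∈ GrPar (Cfsg.Agent.Helper28.BT.degI chevE8 lam4) ⊓ chevE8.group F2 :=
    Subgroup.mem_inf.2 ⟨hmem hy, hPG (hNP hy)⟩
  have h2 := Cfsg.Agent.Helper20.BT.GrPar_inf_group_le tabE8 hdom h1
  have hzero : zeroSet chevE8 lam4 = ∅ := by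
    ext i
    simp only [zeroSet, Set.mem_ofPred_eq, Set.mem_empty_iff_false, iff_false]
    rintro ⟨hi, h0⟩
    have := lam4_pos ⟨i, hi⟩
    rw [h0] at this
    exact lt_irrefl _ this
  rw [hzero] at h2
  unfold ChevalleyDatum.parabolicSubgroup ChevalleyDatum.borelSubgroup at h2
  have e : Subgroup.closure {g : GL chevE8.Idx F2 | ∃ j ∈ (∅ : Set ℕ), j < chevE8.rank ∧
      (g : Matrix chevE8.Idx chevE8.Idx F2) = chevE8.nMat F2 (chevE8.simple j) 1} = ⊥ := by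
    rw [Subgroup.closure_eq_bot_iff]
    rintro g ⟨j, hj, _⟩
    exact absurd hj (Set.notMem_empty j)
  rw [e, diagonal_F2, sup_bot_eq, sup_bot_eq] at h2
  exact h2

end Cfsg.Agent.S5751P
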