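import Mathlib
import Cfsg.Agent.Helper28.S5751Defs
import Cfsg.Agent.Helper28.S5751TabS
import Cfsg.Agent.Helper21.S5751ABS
import Cfsg.Agent.Helper3.S5751LOWA2
import Cfsg.Agent.Helper20.S5751LOWB
import Cfsg.Agent.Helper28.S5751U0A
import Cfsg.Agent.Helper23.S5751U0B
import Cfsg.Agent.Helper28.S5751U0C
import Cfsg.Agent.Helper28.S5751UK
import Cfsg.Agent.Helper28.S5751COAT

set_option autoImplicit false
set_option linter.unusedSectionVars false
set_option linter.unusedVariables false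

/-!
# S5751: the assembly
-/

namespace Cfsg.Agent.S5751P

open Cfsg.Lie Cfsg.Agent.Helper6 Cfsg.Agent.Helper28.BT Cfsg.Agent.Helper2.Levi

/-- the two sequences of iterated cores -/
noncomputable def coreSeq {G : Type*} [Group G] (M₁ M₂ : Subgroup G) : ℕ → Subgroup G × Subgroup G
  | 0 => (M₁, M₂)
  | i + 1 => ((((coreSeq M₁ M₂ i).1 ⊓ (coreSeq M₁ M₂ i).2).subgroupOf M₁).normalCore.map M₁.subtype,
      (((coreSeq M₁ M₂ i).1 ⊓ (coreSeq M₁ M₂ i).2).subgroupOf M₂).normalCore.map M₂.subtype)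

/-- the element `n_j` of `E₈(2)` -/
def g0 : ↥GE := ⟨gE, gE_mem⟩

/-- transfer of the hypotheses on a subgroup of `↥GE` to its image in `GL` -/
theorem transfer (N : Subgroup ↥GE)
    (hnorm : ∀ p ∈ PE.subgroupOf GE, ∀ y ∈ N, p * y * p⁻¹ ∈ N) :
    ∀ p ∈ PE, ∀ y ∈ N.map GE.subtype, p * y * p⁻¹ ∈ N.map GE.subtype := by
  intro p hp y hy
  obtain ⟨y0, hy0, rfl⟩ := Subgroup.mem_map.1 hy
  have hpG : p ∈ GE := PE_le hp
  have := hnorm ⟨p, hpG⟩ (Subgroup.mem_subgroupOf.2 hp) y0 hy0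
  exact Subgroup.mem_map.2 ⟨_, this, rfl⟩

theorem le_subgroupOf_of_map_le {N : Subgroup ↥GE} {K : Subgroup (GL chevE8.Idx F2)}
    (h : N.map GE.subtype ≤ K) : N ≤ K.subgroupOf GE := by
  intro y hy
  exact Subgroup.mem_subgroupOf.2 (h (Subgroup.mem_map.2 ⟨y, hy, rfl⟩))

theorem map_le_of_le_subgroupOf {N : Subgroup ↥GE} {K : Subgroup (GL chevE8.Idx F2)}
    (h : N ≤ K.subgroupOf GE) : N.map GE.subtype ≤ K := by
  intro y hy
  obtain ⟨y0, hy0, rfl⟩ := Subgroup.mem_map.1 hy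
  exact Subgroup.mem_subgroupOf.1 (h hy0)

theorem main :
    ∃ (G : Type) (_ : Group G) (_ : Finite G) (M₁ M₂ : Subgroup G) (g : G) (A B : ℕ → Subgroup G),
      IsCoatom M₁ ∧ M₂ = M₁.map (MulAut.conj g).toMonoidHom ∧ M₁ ≠ M₂ ∧ M₁.normalCore = ⊥ ∧ A 0 = M₁ ∧ B 0 = M₂ ∧
      (∀ i, A (i + 1) = ((A i ⊓ B i).subgroupOf M₁).normalCore.map M₁.subtype) ∧
      (∀ i, B (i + 1) = ((A i ⊓ B i).subgroupOf M₂).normalCore.map M₂.subtype) ∧ A 6 = ⊥ ∧ A 5 ≠ ⊥ := by
  let M₁ : Subgroup ↥GE := PE.subgroupOf GE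
  let M₂ : Subgroup ↥GE := M₁.map (MulAut.conj g0).toMonoidHom
  let A : ℕ → Subgroup ↥GE := fun i => (coreSeq M₁ M₂ i).1
  let B : ℕ → Subgroup ↥GE := fun i => (coreSeq M₁ M₂ i).2
  let Q : ℕ → Subgroup ↥GE := fun k => (QE k).subgroupOf GE
  have hg0 : g0 * g0 = 1 := Subtype.ext gE_mul_self
  have hconj : ∀ y : ↥GE, ((g0 * y * g0⁻¹ : ↥GE) : GL chevE8.Idx F2) = gE * (y : GL chevE8.Idx F2) * gE⁻¹ :=
    fun y => rfl
  have key : ∀ i, 1 ≤ i → A i = Q (i + 1) := by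
    apply core_sequence M₁ g0 hg0 A B rfl rfl (fun i => rfl) (fun i => rfl) Q
    · -- q1
      intro y hy
      exact Subgroup.mem_subgroupOf.2 (QE_one_le (Subgroup.mem_subgroupOf.1 hy))
    · intro k y hy
      exact Subgroup.mem_subgroupOf.2 (QE_mono k (Subgroup.mem_subgroupOf.1 hy))
    · intro k p hp y hy
      exact Subgroup.mem_subgroupOf.2
        (QE_norm k _ (Subgroup.mem_subgroupOf.1 hp) _ (Subgroup.mem_subgroupOf.1 hy))
    · intro k hk y hy
      apply Subgroup.mem_subgroupOf.2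
      rw [hconj]
      exact gE_conj_QE k hk _ (Subgroup.mem_subgroupOf.1 hy)
    · -- u0
      intro N hNM hnorm hg
      apply le_subgroupOf_of_map_le
      have hnorm' := transfer N hnorm
      have hNP : N.map GE.subtype ≤ PE := map_le_of_le_subgroupOf hNM
      have hg' : ∀ y ∈ N.map GE.subtype, gE * y * gE⁻¹ ∈ PE := by
        intro y hy
        obtain ⟨y0, hy0, rfl⟩ := Subgroup.mem_map.1 hy
        have := Subgroup.mem_subgroupOf.1 (hg y0 hy0)
        rwa [hconj] at this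
      have h1 := le_posUnipotent _ hNP hnorm' hg'
      have h2 := le_QE_one _ h1 hnorm'
      exact le_QE_two _ h2 hnorm' hg'
    · -- uk
      intro k hk N hNQ hnorm hg
      apply le_subgroupOf_of_map_le
      have hnorm' := transfer N hnorm
      have h1 : N.map GE.subtype ≤ QE k := map_le_of_le_subgroupOf hNQ
      have hg' : ∀ y ∈ N.map GE.subtype, gE * y * gE⁻¹ ∈ QE k := by
        intro y hy
        obtain ⟨y0, hy0, rfl⟩ := Subgroup.mem_map.1 hy
        have := Subgroup.mem_subgroupOf.1 (hg y0 hy0)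
        rwa [hconj] at this
      exact le_QE_succ k hk _ h1 hnorm' hg'
  have hQle : ∀ k, 1 ≤ k → QE k ≤ GE := fun k hk y hy => (Subgroup.mem_inf.1 hy).2
  refine ⟨↥GE, inferInstance, inferInstance, M₁, M₂, g0, A, B, PE_coatom, rfl, ?_, PE_core, rfl, rfl,
    fun i => rfl, fun i => rfl, ?_, ?_⟩
  · -- M₁ ≠ M₂
    intro h
    apply PE_ne_conj
    have e : ∀ x : ↥GE, ((MulAut.conj g0 x : ↥GE) : GL chevE8.Idx F2) =
        (MulAut.conj gE).toMonoidHom (x : GL chevE8.Idx F2) := by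
      intro x
      rw [MulAut.conj_apply, MulEquiv.coe_toMonoidHom, MulAut.conj_apply]
      exact hconj x
    ext y
    constructor
    · intro hy
      obtain ⟨x, hx, rfl⟩ := Subgroup.mem_map.1 hy
      have hxG : x ∈ GE := PE_le hx
      have h1 : (MulAut.conj g0) ⟨x, hxG⟩ ∈ M₂ :=
        Subgroup.mem_map.2 ⟨⟨x, hxG⟩, Subgroup.mem_subgroupOf.2 hx, rfl⟩
      rw [← h] at h1
      have h2 := Subgroup.mem_subgroupOf.1 h1
      rw [e] at h2
      exact h2
    · intro hy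
      have hyG : y ∈ GE := PE_le hy
      have h1 : (⟨y, hyG⟩ : ↥GE) ∈ M₁ := Subgroup.mem_subgroupOf.2 hy
      rw [h] at h1
      obtain ⟨x, hx, hxy⟩ := Subgroup.mem_map.1 h1
      refine Subgroup.mem_map.2 ⟨x.1, Subgroup.mem_subgroupOf.1 hx, ?_⟩
      have h3 := congrArg Subtype.val hxy
      rw [MulEquiv.coe_toMonoidHom] at h3
      rw [← e x]
      exact h3
  · -- A 6 = ⊥
    have h6 : A 6 = Q 7 := key 6 (by norm_num)
    have h7 : Q 7 = ⊥ := by
      show (QE 7).subgroupOf GE = ⊥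
      rw [QE_seven]
      exact Subgroup.bot_subgroupOf GE
    exact h6.trans h7
  · -- A 5 ≠ ⊥
    have h5 : A 5 = Q 6 := key 5 (by norm_num)
    intro h
    have h' : Q 6 = ⊥ := h5.symm.trans h
    apply QE_six_ne_bot
    rw [eq_bot_iff]
    intro y hy
    have hyG : y ∈ GE := hQle 6 (by norm_num) hy
    have h1 : (⟨y, hyG⟩ : ↥GE) ∈ Q 6 := Subgroup.mem_subgroupOf.2 hy
    rw [h'] at h1
    have := Subgroup.mem_bot.1 h1
    exact Subgroup.mem_bot.2 (congrArg Subtype.val this)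

end Cfsg.Agent.S5751P
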