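import Mathlib
import Cfsg.Prelude.Def_Classical
import Cfsg.Agent.Helper23.S5953Defs
import Cfsg.Agent.Helper28.HermCount
import Cfsg.Agent.S0755

/-! S5953, piece COUNTISO: a nondegenerate Hermitian space of dimension `d` has `isoN F q d`
isotropic vectors. -/

set_option autoImplicit false
open scoped MatrixGroups Matrix

universe u

namespace Cfsg.Agent.S5953P

open Polynomial Cfsg.Agent.S5955P Cfsg.Agent.Helper28.HW Cfsg.Agent.Helper28.HermFrame

/-- COUNTISO: a nondegenerate Hermitian space of dimension `d` has `isoN F q d` isotropic vectors -/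
theorem card_isotropic_abs {F V : Type*} [Field F] [Fintype F] [AddCommGroup V] [Module F V]
    [FiniteDimensional F V] {q : ℕ} {σ : F →+* F} (B : V →ₛₗ[σ] V →ₗ[F] F) (hB : IsHerm q B)
    (hnd : NondegU B ⊤) :
    Nat.card {v : V // B v v = 0} =
      Cfsg.Agent.Helper28.HermCount.isoN F q (Module.finrank F V) := by
  classical
  have hsep : B.SeparatingRight := by
    intro y hy
    by_contra hy0
    obtain ⟨v, _, hv⟩ := hnd y Submodule.mem_top hy0
    apply hv
    rw [← hB.symm, hy v, map_zero]
  obtain ⟨b, hb⟩ := Cfsg.Agent.S0755.aux σ hB.ne_id hB.invol (Module.finrank F V) B hB.isSymm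
    hsep rfl
  have hli : LinearIndependent F b := by
    rw [Fintype.linearIndependent_iff]
    intro g hg i
    have h1 : B (b i) (∑ j, g j • b j) = g i := by
      rw [map_sum]
      simp only [map_smul, smul_eq_mul, hb]
      rw [Finset.sum_eq_single i]
      · rw [if_pos rfl, mul_one]
      · intro j _ hj
        rw [if_neg (fun h => hj h.symm), mul_zero]
      · intro h0
        exact absurd (Finset.mem_univ _) h0
    rw [hg, map_zero] at h1
    exact h1.symm
  have hspan : Submodule.span F (Set.range b) = ⊤ :=
    hli.span_eq_top_of_card_eq_finrank' (by rw [Fintype.card_fin])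
  let bs : Module.Basis (Fin (Module.finrank F V)) F V := Module.Basis.mk hli (by rw [hspan])
  have hbs : ∀ i, bs i = b i := fun i => Module.Basis.mk_apply hli _ i
  have hform : ∀ v : V, B v v =
      Cfsg.hermForm (Module.finrank F V) F q (bs.equivFun v) (bs.equivFun v) := by
    intro v
    conv_lhs => rw [← bs.sum_equivFun v]
    rw [B_sum_left]
    unfold Cfsg.hermForm
    apply Finset.sum_congr rfl
    intro i _
    rw [map_sum]
    simp only [map_smul, smul_eq_mul, hbs, hb]
    rw [Finset.sum_eq_single i]
    · rw [if_pos rfl, mul_one, hB.frob, mul_comm]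
    · intro j _ hj
      rw [if_neg (fun h => hj h.symm), mul_zero]
    · intro h0
      exact absurd (Finset.mem_univ _) h0
  unfold Cfsg.Agent.Helper28.HermCount.isoN
  rw [← Fintype.card_subtype, ← Nat.card_eq_fintype_card]
  refine Nat.card_congr (Equiv.subtypeEquiv bs.equivFun.toEquiv (fun v => ?_))
  rw [hform v]
  rfl

end Cfsg.Agent.S5953P
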