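import Mathlib
import Cfsg.Prelude.Def_Classical
import Cfsg.Agent.Helper23.S5953Defs
import Cfsg.Agent.Helper28.HermCount
import Cfsg.Agent.Helper28.S5953COUNTISO

/-! S5953, piece COUNTSTEP: the number of isotropic vectors of `W^⊥` outside the totally isotropic
subspace `W` of the standard Hermitian space. -/

set_option autoImplicit false
open scoped MatrixGroups Matrix

universe u

namespace Cfsg.Agent.S5953P

open Polynomial Cfsg.Agent.S5955P Cfsg.Agent.Helper28.HW Cfsg.Agent.Helper28.HermFrame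

namespace COUNTSTEP

variable {F V : Type*} [Field F] [Fintype F] [AddCommGroup V] [Module F V]
  [FiniteDimensional F V] {q : ℕ} {σ : F →+* F}

/-- the abstract count: isotropic vectors of `W^⊥` for a totally isotropic `W` -/
theorem card_iso_perp (B : V →ₛₗ[σ] V →ₗ[F] F) (hB : IsHerm q B) (hnd : B.Nondegenerate)
    (W : Submodule F V) (hW : OrthU B W W) :
    Nat.card {v : V // B v v = 0 ∧ v ∈ perp B W} =
      Nat.card W * Cfsg.Agent.Helper28.HermCount.isoN F q
        (Module.finrank F V - 2 * Module.finrank F W) := by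
  classical
  set P := perp B W with hP
  have hWP : W ≤ P := fun w hw x hx => hW x hx w hw
  -- a complement of `W` in `P`
  obtain ⟨R₀, hR₀⟩ := Submodule.exists_isCompl W
  set R := R₀ ⊓ P with hR
  have hWR : W ⊓ R = ⊥ := by
    rw [hR, ← inf_assoc, hR₀.inf_eq_bot, bot_inf_eq]
  have hWRsup : W ⊔ R = P := by
    rw [hR, ← sup_inf_assoc_of_le R₀ hWP, hR₀.sup_eq_top, top_inf_eq]
  have hRP : R ≤ P := inf_le_right
  -- dimensions
  have hfP : Module.finrank F P + Module.finrank F W = Module.finrank F V :=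
    finrank_perp hB.invol hnd W
  have hfR : Module.finrank F R = Module.finrank F V - 2 * Module.finrank F W := by
    have h1 := Submodule.finrank_sup_add_finrank_inf_eq W R
    rw [hWR, hWRsup, finrank_bot] at h1
    omega
  -- the form on `R`
  set BR : ↥R →ₛₗ[σ] ↥R →ₗ[F] F := B.domRestrict₁₂ R R with hBR
  have hBRapply : ∀ x y : ↥R, BR x y = B x y := fun x y => rfl
  have hBRherm : IsHerm q BR := ⟨hB.card, hB.frob, fun u v => hB.symm u v⟩
  have hBRnd : NondegU BR ⊤ := by
    intro ρ _ hρ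
    by_contra hcon
    apply hρ
    -- `ρ` is orthogonal to `P`, hence in `W`
    have h1 : (ρ : V) ∈ perp B P := by
      intro x hx
      rw [← hWRsup] at hx
      obtain ⟨w, hw, ρ', hρ', rfl⟩ := Submodule.mem_sup.mp hx
      rw [map_add, LinearMap.add_apply]
      have e1 : B w ρ = 0 := hRP ρ.2 w hw
      have e2 : B ρ' ρ = 0 := by
        by_contra hne
        apply hcon
        refine ⟨⟨ρ', hρ'⟩, Submodule.mem_top, ?_⟩
        rw [hBRapply]
        intro h0
        exact hne (hB.eq_zero_comm h0)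
      rw [e1, e2, add_zero]
    rw [hP, perp_perp hB.invol hB.isSymm hnd] at h1
    have h2 : (ρ : V) ∈ W ⊓ R := ⟨h1, ρ.2⟩
    rw [hWR, Submodule.mem_bot] at h2
    exact Subtype.ext h2
  have hcount := card_isotropic_abs BR hBRherm hBRnd
  rw [hfR] at hcount
  rw [← hcount, ← Nat.card_prod]
  -- the bijection
  let f : ↥W × {ρ : ↥R // BR ρ ρ = 0} → {v : V // B v v = 0 ∧ v ∈ P} := fun x =>
    ⟨(x.1 : V) + (x.2.1 : V), by
      constructor
      · have e1 : B (x.1 : V) (x.1 : V) = 0 := hW _ x.1.2 _ x.1.2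
        have e2 : B (x.1 : V) (x.2.1 : V) = 0 := hRP x.2.1.2 _ x.1.2
        have e3 : B (x.2.1 : V) (x.1 : V) = 0 := hB.eq_zero_comm e2
        have e4 : B (x.2.1 : V) (x.2.1 : V) = 0 := x.2.2
        simp only [map_add, LinearMap.add_apply, e1, e2, e3, e4, add_zero]
      · exact P.add_mem (hWP x.1.2) (hRP x.2.1.2)⟩
  have hf : Function.Bijective f := by
    constructor
    · intro x x' hxx'
      have h1 : (x.1 : V) + (x.2.1 : V) = (x'.1 : V) + (x'.2.1 : V) := congrArg Subtype.val hxx'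
      have h2 : (x.1 : V) - (x'.1 : V) = (x'.2.1 : V) - (x.2.1 : V) := by
        rw [sub_eq_sub_iff_add_eq_add, h1, add_comm]
      have h3 : (x.1 : V) - (x'.1 : V) ∈ W ⊓ R :=
        ⟨W.sub_mem x.1.2 x'.1.2, by rw [h2]; exact R.sub_mem x'.2.1.2 x.2.1.2⟩
      rw [hWR, Submodule.mem_bot] at h3
      have h4 : (x.1 : V) = (x'.1 : V) := sub_eq_zero.mp h3
      have h5 : (x.2.1 : V) = (x'.2.1 : V) := by
        rw [h4] at h1
        exact add_left_cancel h1
      exact Prod.ext (Subtype.ext h4) (Subtype.ext (Subtype.ext h5))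
    · rintro ⟨v, hv0, hvP⟩
      rw [← hWRsup] at hvP
      obtain ⟨w, hw, ρ, hρ, rfl⟩ := Submodule.mem_sup.mp hvP
      have e1 : B w w = 0 := hW _ hw _ hw
      have e2 : B w ρ = 0 := hRP hρ _ hw
      have e3 : B ρ w = 0 := hB.eq_zero_comm e2
      have e4 : B ρ ρ = 0 := by
        simp only [map_add, LinearMap.add_apply, e1, e2, e3, zero_add] at hv0
        exact hv0
      exact ⟨(⟨w, hw⟩, ⟨⟨ρ, hρ⟩, e4⟩), rfl⟩
  exact (Nat.card_congr (Equiv.ofBijective f hf)).symm

end COUNTSTEP

/-- COUNTSTEP: the number of isotropic vectors of `W^⊥` outside the totally isotropic `W` -/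
theorem card_next_isotropic {F : Type*} [Field F] [Fintype F] {q : ℕ}
    (hF : Fintype.card F = q ^ 2) (n k : ℕ) (W : Submodule F (Fin n → F))
    (hWk : Module.finrank F W = k) (hk : 2 * k ≤ n)
    (hW : ∀ u ∈ W, ∀ v ∈ W, Cfsg.hermForm n F q u v = 0) :
    Nat.card {v : Fin n → F // Cfsg.hermForm n F q v v = 0 ∧
      (∀ w ∈ W, Cfsg.hermForm n F q v w = 0) ∧ v ∉ W} =
    q ^ (2 * k) * (Cfsg.Agent.Helper28.HermCount.isoN F q (n - 2 * k) - 1) := by
  classical
  obtain ⟨σ, hσ, hσ2⟩ := Cfsg.Agent.Helper28.exists_frob hF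
  set B := hB σ n with hBdef
  have hBh : IsHerm q B := hB_isHerm σ hF hσ n
  have hnd : B.Nondegenerate := hB_nondeg σ hσ2 n
  have hBapp : ∀ u v : Fin n → F, B u v = Cfsg.hermForm n F q v u := fun u v =>
    hB_herm σ hσ n u v
  have hWo : OrthU B W W := fun u hu v hv => by rw [hBapp]; exact hW v hv u hu
  have hmain := COUNTSTEP.card_iso_perp B hBh hnd W hWo
  rw [Module.finrank_fintype_fun_eq_card, Fintype.card_fin, hWk] at hmain
  have hcW : Nat.card W = q ^ (2 * k) := by
    rw [Module.natCard_eq_pow_finrank (K := F), hWk, Nat.card_eq_fintype_card, hF, ← pow_mul]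
  rw [hcW] at hmain
  -- the set in the statement is the difference
  have hset : Nat.card {v : Fin n → F // Cfsg.hermForm n F q v v = 0 ∧
      (∀ w ∈ W, Cfsg.hermForm n F q v w = 0) ∧ v ∉ W} =
      (({v : Fin n → F | B v v = 0 ∧ v ∈ perp B W} : Set (Fin n → F)) \
        (W : Set (Fin n → F))).ncard := by
    rw [← Nat.card_coe_set_eq]
    apply Nat.card_congr
    apply Equiv.subtypeEquivRight
    intro v
    simp only [Set.mem_sdiff, Set.mem_ofPred_eq, SetLike.mem_coe, mem_perp, hBapp]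
    tauto
  have hsub : (W : Set (Fin n → F)) ⊆ {v : Fin n → F | B v v = 0 ∧ v ∈ perp B W} := by
    intro w hw
    exact ⟨hWo w hw w hw, fun x hx => hWo x hx w hw⟩
  rw [hset, Set.ncard_sdiff hsub, ← Nat.card_coe_set_eq, ← Nat.card_coe_set_eq]
  have e1 : Nat.card ↥({v : Fin n → F | B v v = 0 ∧ v ∈ perp B W} : Set (Fin n → F)) =
      q ^ (2 * k) * Cfsg.Agent.Helper28.HermCount.isoN F q (n - 2 * k) := hmain
  have e2 : Nat.card ↥(W : Set (Fin n → F)) = q ^ (2 * k) := hcW
  rw [e1, e2, Nat.mul_sub_one]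

end Cfsg.Agent.S5953P
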