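import Mathlib
import Cfsg.Prelude.Def_Classical
import Cfsg.Agent.Helper23.S5953Defs
import Cfsg.Agent.Helper28.HermCount
import Cfsg.Agent.Helper28.S5953COUNTSTEP

/-! S5953, piece COUNTU: the number of totally isotropic `m`-spaces of the standard Hermitian space,
via isotropic frames. -/

set_option autoImplicit false
open scoped MatrixGroups Matrix

universe u

namespace Cfsg.Agent.S5953P

open Polynomial Cfsg.Agent.S5955P Cfsg.Agent.Helper28.HW Cfsg.Agent.Helper28.HermFrame

namespace COUNTU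

open Module Submodule

variable {F : Type*} [Field F]

/-- isotropic frames: linearly independent `k`-tuples spanning a totally isotropic subspace -/
def Fr (F : Type*) [Field F] (q n k : ℕ) :=
  {x : Fin k → (Fin n → F) // LinearIndependent F x ∧
    ∀ i j, Cfsg.hermForm n F q (x i) (x j) = 0}

theorem herm_add_left (q n : ℕ) (u u' v : Fin n → F) :
    Cfsg.hermForm n F q (u + u') v = Cfsg.hermForm n F q u v + Cfsg.hermForm n F q u' v := by
  unfold Cfsg.hermForm
  rw [← Finset.sum_add_distrib]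
  apply Finset.sum_congr rfl
  intro i _
  rw [Pi.add_apply, add_mul]

theorem herm_smul_left (q n : ℕ) (c : F) (u v : Fin n → F) :
    Cfsg.hermForm n F q (c • u) v = c * Cfsg.hermForm n F q u v := by
  unfold Cfsg.hermForm
  rw [Finset.mul_sum]
  apply Finset.sum_congr rfl
  intro i _
  rw [Pi.smul_apply, smul_eq_mul, mul_assoc]

theorem herm_zero_left (q n : ℕ) (v : Fin n → F) : Cfsg.hermForm n F q 0 v = 0 := by
  unfold Cfsg.hermForm
  apply Finset.sum_eq_zero
  intro i _
  rw [Pi.zero_apply, zero_mul]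

variable [Fintype F] {q : ℕ}

/-- the second argument, via the symmetry -/
theorem herm_swap (hF : Fintype.card F = q ^ 2) (n : ℕ) {u v : Fin n → F}
    (h : Cfsg.hermForm n F q u v = 0) : Cfsg.hermForm n F q v u = 0 := by
  obtain ⟨σ, hσ, hσ2⟩ := Cfsg.Agent.Helper28.exists_frob hF
  rw [← Cfsg.Agent.Helper28.hermForm_conj σ hσ hσ2 v u, h, zero_pow]
  intro hq
  rw [hq] at hF
  have := Fintype.card_pos (α := F)
  omega

/-- orthogonality to a spanning set -/
theorem herm_span_right (hF : Fintype.card F = q ^ 2) {n k : ℕ} (x : Fin k → (Fin n → F))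
    (v : Fin n → F) (h : ∀ i, Cfsg.hermForm n F q v (x i) = 0) :
    ∀ w ∈ span F (Set.range x), Cfsg.hermForm n F q v w = 0 := by
  intro w hw
  apply herm_swap hF
  induction hw using Submodule.span_induction with
  | mem u hu =>
    obtain ⟨i, rfl⟩ := hu
    exact herm_swap hF n (h i)
  | zero => exact herm_zero_left q n v
  | add a b _ _ ha hb => rw [herm_add_left, ha, hb, add_zero]
  | smul c a _ ha => rw [herm_smul_left, ha, mul_zero]

theorem span_TI (hF : Fintype.card F = q ^ 2) {n k : ℕ} (x : Fr F q n k) :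
    ∀ u ∈ span F (Set.range x.1), ∀ v ∈ span F (Set.range x.1),
      Cfsg.hermForm n F q u v = 0 := by
  intro u hu v hv
  induction hu using Submodule.span_induction with
  | mem u hu =>
    obtain ⟨i, rfl⟩ := hu
    exact herm_span_right hF x.1 (x.1 i) (fun j => x.2.2 i j) v hv
  | zero => exact herm_zero_left q n v
  | add a b _ _ ha hb => rw [herm_add_left, ha, hb, add_zero]
  | smul c a _ ha => rw [herm_smul_left, ha, mul_zero]

/-- the fibre of `Fr (k+1) → Fr k` -/
abbrev Fib {n k : ℕ} (x : Fr F q n k) :=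
  {v : Fin n → F // Cfsg.hermForm n F q v v = 0 ∧
    (∀ w ∈ span F (Set.range x.1), Cfsg.hermForm n F q v w = 0) ∧ v ∉ span F (Set.range x.1)}

/-- Splitting off the first vector of a frame. -/
def frEquiv (hF : Fintype.card F = q ^ 2) (n k : ℕ) :
    Fr F q n (k + 1) ≃ Σ x : Fr F q n k, Fib x where
  toFun s := ⟨⟨Fin.tail s.1, (linearIndependent_finSucc.mp s.2.1).1,
      fun i j => s.2.2 i.succ j.succ⟩,
    ⟨s.1 0, s.2.2 0 0,
      herm_span_right hF (Fin.tail s.1) (s.1 0) (fun i => s.2.2 0 i.succ),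
      (linearIndependent_finSucc.mp s.2.1).2⟩⟩
  invFun p := ⟨Fin.cons p.2.1 p.1.1, linearIndependent_finCons.mpr ⟨p.1.2.1, p.2.2.2.2⟩, by
    have hp : ∀ j, Cfsg.hermForm n F q p.2.1 (p.1.1 j) = 0 := fun j =>
      p.2.2.2.1 _ (Submodule.subset_span ⟨j, rfl⟩)
    intro i j
    refine Fin.cases ?_ (fun i' => ?_) i <;> refine Fin.cases ?_ (fun j' => ?_) j
    · simp only [Fin.cons_zero]
      exact p.2.2.1
    · simp only [Fin.cons_zero, Fin.cons_succ]
      exact hp j'
    · simp only [Fin.cons_zero, Fin.cons_succ]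
      exact herm_swap hF n (hp i')
    · simp only [Fin.cons_succ]
      exact p.1.2.2 i' j'⟩
  left_inv s := by
    apply Subtype.ext
    simp only [Fin.cons_self_tail]
  right_inv := fun ⟨⟨x, hx⟩, ⟨v, hv⟩⟩ => by
    apply Sigma.subtype_ext
    · apply Subtype.ext
      show Fin.tail (Fin.cons v x : Fin (k + 1) → (Fin n → F)) = x
      exact Fin.tail_cons _ _
    · show (Fin.cons v x : Fin (k + 1) → (Fin n → F)) 0 = v
      exact Fin.cons_zero _ _

instance (n k : ℕ) : Finite (Fr F q n k) := Subtype.finite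

instance {n k : ℕ} (x : Fr F q n k) : Finite (Fib x) := Subtype.finite

theorem card_Fib (hF : Fintype.card F = q ^ 2) {n k : ℕ} (hk : 2 * k ≤ n) (x : Fr F q n k) :
    Nat.card (Fib x) =
      q ^ (2 * k) * (Cfsg.Agent.Helper28.HermCount.isoN F q (n - 2 * k) - 1) := by
  have hfS : finrank F (span F (Set.range x.1)) = k := by
    rw [finrank_span_eq_card x.2.1, Fintype.card_fin]
  exact card_next_isotropic hF n k (span F (Set.range x.1)) hfS hk (span_TI hF x)

theorem card_Fr (hF : Fintype.card F = q ^ 2) (n k : ℕ) (hk : 2 * k ≤ n) :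
    Nat.card (Fr F q n k) = ∏ j ∈ Finset.range k,
      (q ^ (2 * j) * (Cfsg.Agent.Helper28.HermCount.isoN F q (n - 2 * j) - 1)) := by
  classical
  induction k with
  | zero =>
    rw [Finset.range_zero, Finset.prod_empty]
    haveI : Subsingleton (Fr F q n 0) := ⟨fun a b => Subtype.ext (Subsingleton.elim _ _)⟩
    haveI : Nonempty (Fr F q n 0) := ⟨⟨fun i => i.elim0, linearIndependent_empty_type,
      fun i => i.elim0⟩⟩
    exact Nat.card_unique
  | succ k ih =>
    haveI : Fintype (Fr F q n k) := Fintype.ofFinite _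
    rw [Nat.card_congr (frEquiv hF n k), Nat.card_sigma, Finset.prod_range_succ,
      ← ih (by omega)]
    simp only [card_Fib hF (show 2 * k ≤ n by omega), Finset.sum_const, Finset.card_univ,
      smul_eq_mul, Nat.card_eq_fintype_card]

theorem span_eq_of_mem {n k : ℕ} (W : Submodule F (Fin n → F)) (hWk : finrank F W = k)
    (y : Fr F q n k) (hy : ∀ i, y.1 i ∈ W) : span F (Set.range y.1) = W := by
  apply Submodule.eq_of_le_of_finrank_eq
  · rw [Submodule.span_le]
    rintro _ ⟨i, rfl⟩
    exact hy i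
  · rw [finrank_span_eq_card y.2.1, Fintype.card_fin, hWk]

/-- frames inside `W` correspond to linearly independent tuples of `W` -/
def frameEquiv {n k : ℕ} (W : Submodule F (Fin n → F))
    (hW : ∀ u ∈ W, ∀ v ∈ W, Cfsg.hermForm n F q u v = 0) :
    {y : Fr F q n k // ∀ i, y.1 i ∈ W} ≃ {s : Fin k → W // LinearIndependent F s} where
  toFun y := ⟨fun i => ⟨y.1.1 i, y.2 i⟩, by
    apply LinearIndependent.of_comp W.subtype
    exact y.1.2.1⟩
  invFun s := ⟨⟨fun i => (s.1 i : Fin n → F), s.2.map' W.subtype (Submodule.ker_subtype W),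
    fun i j => hW _ (s.1 i).2 _ (s.1 j).2⟩, fun i => (s.1 i).2⟩
  left_inv y := by
    apply Subtype.ext
    apply Subtype.ext
    rfl
  right_inv s := by
    apply Subtype.ext
    rfl

/-- the totally isotropic `m`-spaces -/
abbrev Om (F : Type*) [Field F] (q n m : ℕ) :=
  {W : Submodule F (Fin n → F) // Module.finrank F ↥W = m ∧
      (∀ u ∈ W, ∀ v ∈ W, Cfsg.hermForm n F q u v = 0)}

/-- the span of an isotropic frame -/
def spanMap (hF : Fintype.card F = q ^ 2) (n m : ℕ) (x : Fr F q n m) : Om F q n m :=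
  ⟨Submodule.span F (Set.range x.1), by
    rw [finrank_span_eq_card x.2.1, Fintype.card_fin], span_TI hF x⟩

theorem spanMap_eq_iff (hF : Fintype.card F = q ^ 2) (n m : ℕ) (x : Fr F q n m)
    (W : Om F q n m) : spanMap hF n m x = W ↔ ∀ i, x.1 i ∈ W.1 := by
  constructor
  · intro h i
    rw [← h]
    exact Submodule.subset_span ⟨i, rfl⟩
  · intro h
    apply Subtype.ext
    exact span_eq_of_mem W.1 W.2.1 x h

end COUNTU

open COUNTU in
/-- COUNTU -/
theorem card_ti_mul_u {F : Type*} [Field F] [Fintype F] {q : ℕ} (hF : Fintype.card F = q ^ 2)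
    (n m : ℕ) (hmn : 2 * m ≤ n) :
    Nat.card {W : Submodule F (Fin n → F) // Module.finrank F ↥W = m ∧
      (∀ u ∈ W, ∀ v ∈ W, Cfsg.hermForm n F q u v = 0)} *
      ∏ j ∈ Finset.range m, ((q ^ 2) ^ m - (q ^ 2) ^ j) =
    ∏ j ∈ Finset.range m, (q ^ (2 * j) *
      (Cfsg.Agent.Helper28.HermCount.isoN F q (n - 2 * j) - 1)) := by
  classical
  have hFr := card_Fr hF n m hmn
  rw [← hFr]
  have : Fintype (Om F q n m) := Fintype.ofFinite _
  rw [← Nat.card_congr (Equiv.sigmaFiberEquiv (spanMap hF n m)), Nat.card_sigma]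
  have hfib : ∀ W : Om F q n m,
      Nat.card {x : Fr F q n m // spanMap hF n m x = W} =
        ∏ j ∈ Finset.range m, ((q ^ 2) ^ m - (q ^ 2) ^ j) := by
    intro W
    rw [Nat.card_congr (Equiv.subtypeEquivRight (fun x => spanMap_eq_iff hF n m x W)),
      Nat.card_congr (frameEquiv W.1 W.2.2)]
    have := card_linearIndependent (K := F) (V := W.1) (k := m) (by rw [W.2.1])
    rw [W.2.1, hF] at this
    rw [this, Finset.prod_range]
  rw [Finset.sum_congr rfl (fun W _ => hfib W), Finset.sum_const, Finset.card_univ,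
    smul_eq_mul, Nat.card_eq_fintype_card]

end Cfsg.Agent.S5953P
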