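import Mathlib
import Cfsg.Prelude.Def_Classical
import Cfsg.Agent.Helper23.S5953Defs
import Cfsg.Agent.Helper20.S5954Defs
import Cfsg.Agent.Helper2.UnitaryCount
import Cfsg.Agent.Helper7.S5953PRODBU
import Cfsg.Agent.Helper20.S5954UJORDANU
import Cfsg.Agent.Helper24.S5954PRODKU

/-! S5954, piece MODELAU: a unipotent isometry of a non-degenerate Hermitian space of Jordan type
`μ` (all parts at most `p`): the orthogonal sum of unitary Jordan blocks. -/

set_option autoImplicit false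
open scoped MatrixGroups Matrix

universe u

namespace Cfsg.Agent.S5954P

open Polynomial Cfsg.Agent.S5953P Cfsg.Agent.Helper28.HW Cfsg.Agent.Helper28.HermFrame
open Cfsg.Agent.S2644 Cfsg.Agent.Helper2.SUGen Cfsg.Agent.Helper28.UPair Cfsg.Agent.S5984P

/-- MODELAU (uses UJORDANU, PRODKU, S5953 PRODBU): a unipotent isometry of Jordan type `μ` -/
theorem exists_model_a_u {F : Type u} [Field F] [Fintype F] {p : ℕ} [Fact p.Prime]
    [CharP F p] {q : ℕ} (hF : Fintype.card F = q ^ 2) (σ : F →+* F) (hσ : ∀ a, σ a = a ^ q)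
    (μ : Multiset ℕ) (hμ : ∀ a ∈ μ, 0 < a ∧ a ≤ p) :
    ∃ (V : Type u) (_ : AddCommGroup V) (_ : Module F V) (_ : FiniteDimensional F V)
      (B : V →ₛₗ[σ] V →ₗ[F] F) (y : Module.End F V),
      IsYU q B y p ∧ Module.finrank F V = μ.sum ∧
      ∀ a : ℕ, Module.finrank F (LinearMap.ker ((y - 1) ^ a)) = (μ.map (min a)).sum := by
  induction μ using Multiset.induction with
  | empty =>
    have hσ2 : ∀ a, σ (σ a) = a := fun a => by
      rw [hσ, hσ, ← pow_mul, ← pow_two, ← hF, FiniteField.pow_card]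
    refine ⟨Fin 0 → F, inferInstance, inferInstance, inferInstance, hB σ 0, 1,
      ⟨hB_isHerm σ hF hσ 0, hB_nondegU σ hσ2 0, fun u v => rfl, one_pow _⟩, ?_, ?_⟩
    · rw [Multiset.sum_zero, Module.finrank_fin_fun]
    · intro a
      rw [Multiset.map_zero, Multiset.sum_zero]
      have h1 := Submodule.finrank_le (LinearMap.ker (((1 : Module.End F (Fin 0 → F)) - 1) ^ a))
      rw [Module.finrank_fin_fun] at h1
      omega
  | cons k μ ih =>
    obtain ⟨V₂, i1, i2, i3, B₂, y₂, hy₂, hfr₂, hker₂⟩ :=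
      ih (fun a ha => hμ a (Multiset.mem_cons_of_mem ha))
    obtain ⟨hk0, hkp⟩ := hμ k (Multiset.mem_cons_self k μ)
    obtain ⟨V₁, j1, j2, j3, B₁, y₁, hy₁, hfr₁, hker₁⟩ :=
      exists_unitary_jordan_u hF σ hσ k hk0 hkp
    refine ⟨V₁ × V₂, inferInstance, inferInstance, inferInstance, prodU B₁ B₂, y₁.prodMap y₂,
      (prod_isYU B₁ B₂ y₁ y₂ p hy₁ hy₂).1, ?_, ?_⟩
    · rw [Module.finrank_prod, hfr₁, hfr₂, Multiset.sum_cons]
    · intro a
      rw [finrank_ker_prodMap_pow, hker₁, hker₂, Multiset.map_cons, Multiset.sum_cons]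

end Cfsg.Agent.S5954P
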