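import Mathlib
import Cfsg.Prelude.Def_GeometricClasses
import Cfsg.Prelude.Def_Classical
import Cfsg.Prelude.Def_LieClassical

set_option autoImplicit false
open scoped MatrixGroups Matrix

namespace Cfsg.Agent.S5982P

namespace CENT2

/-- a diagonal (w.r.t. the basis `b`) endomorphism with `π`-invariant entries commutes with
`T`, and has determinant `∏ c j`. -/
theorem diag_commute_det {F : Type*} [Field F] (n : ℕ)
    (T : Module.End F (Fin n → F)) (μ : F) (b : Module.Basis (Fin n) F (Fin n → F))
    (π : Equiv.Perm (Fin n)) (hb : ∀ j, T (b j) = μ • b (π j)) (c : Fin n → F)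
    (hc : ∀ j, c (π j) = c j) :
    ∃ C : Module.End F (Fin n → F), C * T = T * C ∧ LinearMap.det C = ∏ j, c j := by
  refine ⟨b.constr F (fun j => c j • b j), ?_, ?_⟩
  · apply b.ext
    intro j
    rw [Module.End.mul_apply, Module.End.mul_apply, hb, map_smul, Module.Basis.constr_basis,
      Module.Basis.constr_basis, map_smul, hb, hc, smul_comm]
  · rw [← LinearMap.det_toMatrix b]
    have : LinearMap.toMatrix b b (b.constr F (fun j => c j • b j)) = Matrix.diagonal c := by
      ext i j
      rw [LinearMap.toMatrix_apply, Module.Basis.constr_basis, map_smul, Finsupp.smul_apply,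
        Module.Basis.repr_self, Matrix.diagonal_apply, Finsupp.single_apply, smul_eq_mul]
      by_cases h : i = j
      · subst h; simp
      · rw [if_neg h, if_neg (fun h' => h h'.symm), mul_zero]
    rw [this, Matrix.det_diagonal]

end CENT2

/-- CENT2: centralizer elements of every determinant for a scalar multiple of a permutation of a basis (char 2) -/
theorem exists_commute_det_of_perm {F : Type*} [Field F] [Fintype F] [CharP F 2] (n : ℕ) (hn : 1 ≤ n)
    (T : Module.End F (Fin n → F)) (μ : F) (b : Module.Basis (Fin n) F (Fin n → F))
    (π : Equiv.Perm (Fin n)) (hπ2 : ∀ j, π (π j) = j) (hb : ∀ j, T (b j) = μ • b (π j)) (δ : F)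
    (hδ : δ ≠ 0) : ∃ C : Module.End F (Fin n → F), C * T = T * C ∧ LinearMap.det C = δ := by
  classical
  set j0 : Fin n := ⟨0, hn⟩ with hj0
  by_cases hfix : π j0 = j0
  · obtain ⟨C, hC1, hC2⟩ := CENT2.diag_commute_det n T μ b π hb
      (fun j => if j = j0 then δ else 1) (by
        intro j
        by_cases h : j = j0
        · subst h; rw [hfix]
        · have : π j ≠ j0 := by
            intro h'
            apply h
            rw [← hπ2 j, h', hfix]
          rw [if_neg h, if_neg this])
    refine ⟨C, hC1, ?_⟩
    rw [hC2, Finset.prod_eq_single j0]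
    · rw [if_pos rfl]
    · intro j _ hj
      rw [if_neg hj]
    · intro h; exact absurd (Finset.mem_univ _) h
  · obtain ⟨a, ha⟩ := FiniteField.isSquare_of_char_two (ringChar.eq F 2) δ
    obtain ⟨C, hC1, hC2⟩ := CENT2.diag_commute_det n T μ b π hb
      (fun j => if j = j0 ∨ j = π j0 then a else 1) (by
        intro j
        by_cases h : j = j0 ∨ j = π j0
        · have : π j = j0 ∨ π j = π j0 := by
            rcases h with h | h
            · right; rw [h]
            · left; rw [h, hπ2]
          rw [if_pos h, if_pos this]
        · have : ¬ (π j = j0 ∨ π j = π j0) := by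
            rintro (h' | h')
            · apply h; right; rw [← h', hπ2]
            · apply h; left; exact π.injective h'
          rw [if_neg h, if_neg this])
    refine ⟨C, hC1, ?_⟩
    rw [hC2, Finset.prod_eq_mul j0 (π j0) (fun h => hfix h.symm)]
    · rw [if_pos (Or.inl rfl), if_pos (Or.inr rfl), ha]
    · intro j _ hj
      rw [if_neg]
      rintro (h | h)
      · exact hj.1 h
      · exact hj.2 h
    · intro h; exact absurd (Finset.mem_univ _) h
    · intro h; exact absurd (Finset.mem_univ _) h

end Cfsg.Agent.S5982P
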