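import Mathlib
import Cfsg.Prelude.Def_GeometricClasses
import Cfsg.Prelude.Def_Classical
import Cfsg.Prelude.Def_LieClassical
import Cfsg.Agent.Helper27.S5989Defs
import Cfsg.Agent.Helper27.S5991Defs
import Cfsg.Agent.Helper28.Spin6
import Cfsg.Agent.Helper23.S5991UNIDER2
import Cfsg.Agent.Helper7.S5991MINUSTOP
import Cfsg.Agent.Helper19.S5991LEVIM
import Cfsg.Agent.Helper7.S5991STDUNIP
import Cfsg.Agent.Helper19.S5991MODELJ33
import Cfsg.Agent.Helper28.S5991MODELJ31
import Cfsg.Agent.Helper9.S5989UNIMAT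
import Cfsg.Agent.Helper26.S5989UNIDER

/-! S5991 piece UNIMODELM (driver helper27): unipotent derangements of `Ω⁻_{2d}(q)` on
nondegenerate subspaces of odd dimension `m < d`. -/

set_option autoImplicit false
open scoped MatrixGroups
universe u

namespace Cfsg.Agent.S5989P

open Cfsg.Agent.Helper2.SympInvol Cfsg.Agent.Helper2.SympUnits Cfsg.Agent.S5961P
  Cfsg.Agent.S5992P Cfsg.Agent.Helper28.Spin

namespace UNIMODELM

variable {F : Type*} [Field F]

theorem card_idx (d : ℕ) (hd : 1 ≤ d) :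
    Fintype.card ((Fin (d - 1) ⊕ Fin (d - 1)) ⊕ Fin 2) = 2 * d := by
  simp; omega

theorem finrank_idx (d : ℕ) (hd : 1 ≤ d) :
    Module.finrank F ((Fin (d - 1) ⊕ Fin (d - 1)) ⊕ Fin 2 → F) = 2 * d := by
  rw [Module.finrank_pi, card_idx d hd]

theorem isom_of_mem {ι : Type} [Fintype ι] [DecidableEq ι] (Q : QuadraticForm F (ι → F))
    (x : GL ι F) (hx : x ∈ Cfsg.Geo.omegaGL ⇑Q) (v : ι → F) :
    Q (Matrix.toLin' (x : Matrix ι ι F) v) = Q v := by
  obtain ⟨g, -, hg⟩ := hx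
  have hgm : (g : GL ι F) ∈ Cfsg.isometryGroup F ⇑Q := g.2
  rw [Cfsg.Agent.Helper28.IsoTransport.mem_isometryGroup_iff] at hgm
  have := hgm v
  rw [← hg, Matrix.toLin'_apply]
  exact this

theorem pow_eq_zero_of_finrank_ker {V : Type*} [AddCommGroup V] [Module F V]
    [FiniteDimensional F V] (N : Module.End F V) (j : ℕ)
    (h : Module.finrank F (LinearMap.ker (N ^ j)) = Module.finrank F V) : N ^ j = 0 :=
  LinearMap.ker_eq_top.mp (Submodule.eq_top_of_finrank_eq h)

theorem finrank_ker_of_pow_eq_zero {V : Type*} [AddCommGroup V] [Module F V]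
    (N : Module.End F V) (j : ℕ) (h : N ^ j = 0) :
    Module.finrank F (LinearMap.ker (N ^ j)) = Module.finrank F V := by
  rw [h]
  have : LinearMap.ker (0 : Module.End F V) = ⊤ := LinearMap.ker_zero
  rw [this, finrank_top]

theorem ne_one_of_finrank_ker {ι : Type} [Fintype ι] [DecidableEq ι] (x : GL ι F)
    (h : Module.finrank F (LinearMap.ker (Matrix.toLin' (x : Matrix ι ι F) - 1)) <
      Fintype.card ι) : x ≠ 1 := by
  rintro rfl
  rw [Units.val_one, Matrix.toLin'_one] at h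
  have h0 : (LinearMap.id : (ι → F) →ₗ[F] (ι → F)) - 1 = 0 := sub_self _
  rw [h0] at h
  have : LinearMap.ker (0 : Module.End F (ι → F)) = ⊤ := LinearMap.ker_zero
  rw [this, finrank_top, Module.finrank_pi] at h
  exact lt_irrefl _ h

end UNIMODELM

open UNIMODELM in
/-- UNIMODELM -/
theorem exists_unip_derangement_minus {F : Type u} [Field F] [Fintype F] {p : ℕ} [Fact p.Prime]
    [CharP F p] (h2 : (2 : F) ≠ 0) (d m : ℕ) (hd : 4 ≤ d) (hm : Odd m) (hmd : m < d) (a b : F)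
    (hab : ∀ x y : F, x ^ 2 + a * x * y + b * y ^ 2 = 0 → x = 0 ∧ y = 0)
    (W₀ : Submodule F ((Fin (d - 1) ⊕ Fin (d - 1)) ⊕ Fin 2 → F))
    (hW₀ : Module.finrank F W₀ = m ∧ Nondeg (PB (QfMinus (d - 1) F a b)) W₀) :
    ∃ x : GL ((Fin (d - 1) ⊕ Fin (d - 1)) ⊕ Fin 2) F,
      x ∈ Cfsg.Geo.omegaGL (Cfsg.quadFormMinus (d - 1) F a b) ∧ x ^ p = 1 ∧ x ≠ 1 ∧
      ∀ W : Submodule F ((Fin (d - 1) ⊕ Fin (d - 1)) ⊕ Fin 2 → F),
        OmSet (QfMinus (d - 1) F a b) m W₀ W →
        ¬ W.map (Matrix.toLin' (x : Matrix ((Fin (d - 1) ⊕ Fin (d - 1)) ⊕ Fin 2)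
          ((Fin (d - 1) ⊕ Fin (d - 1)) ⊕ Fin 2) F)) ≤ W := by
  classical
  have hp2 : p ≠ 2 := by
    intro hp
    apply h2
    have : ((p : ℕ) : F) = 0 := CharP.cast_eq_zero F p
    rw [hp] at this
    exact_mod_cast this
  have hpodd : Odd p := (Fact.out : p.Prime).odd_of_ne_two hp2
  have hcard := card_idx d (by omega)
  have hfinV := finrank_idx (F := F) d (by omega)
  obtain ⟨hQ₀nd, hQ₀minus⟩ := minus_top_QfMinus h2 (d - 1) a b hab
  have hnd : Nondeg (PB (QfMinus (d - 1) F a b)) ⊤ := nondeg_top_of_nondegenerate _ hQ₀nd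
  rcases Nat.even_or_odd d with hde | hdo
  · -- d even: J₃ ⊕ J₁ ⊕ J₂^(d-2)
    obtain ⟨V, iA, iM, iF, Q, x, c₂, hQnd, hxQ, hxp, hx3, hV, hQm, hk1, hk2, hc₂, hc₂δ, hker⟩ :=
      exists_j31_space (F := F) (p := p) h2 (d - 2)
        (by obtain ⟨t, ht⟩ := hde; exact ⟨t - 1, by omega⟩) (by omega)
        (if m % 4 = 1 then ¬ DiscSq (QfMinus (d - 1) F a b) W₀
          else (IsSquare (-1 : F) ↔ DiscSq (QfMinus (d - 1) F a b) W₀))
    obtain ⟨g, e, hgΩ, hgp, heQ, hex, hgk⟩ := exists_std_unip h2 Q hQnd x hxQ p hpodd hxp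
      (QfMinus (d - 1) F a b) hQ₀nd (by rw [hV, hcard]; omega) (by rw [hcard]; exact ⟨d, by ring⟩)
      (by rw [hcard]; omega) (iff_of_false hQm hQ₀minus)
    have hg3 : (Matrix.toLin' g.val - 1) ^ 3 = 0 := by
      apply pow_eq_zero_of_finrank_ker
      rw [hgk 3, finrank_ker_of_pow_eq_zero _ 3 hx3, hV, hfinV]; omega
    have hgk1 : Module.finrank F (LinearMap.ker (Matrix.toLin' g.val - 1)) = d := by
      have := hgk 1
      rw [pow_one, pow_one] at this
      rw [this, hk1]; omega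
    have hgk2 : Module.finrank F (LinearMap.ker ((Matrix.toLin' g.val - 1) ^ 2)) + 1
        = 2 * d := by
      rw [hgk 2, hk2]; omega
    refine ⟨g, hgΩ, hgp, ne_one_of_finrank_ker g (by rw [hgk1, hcard]; omega), ?_⟩
    intro W hW hWx
    have hker' : ∀ u ∈ LinearMap.ker (Matrix.toLin' g.val - 1),
        ∃ t : F, QfMinus (d - 1) F a b u = c₂ * t * t := by
      intro u hu
      have hu' : Matrix.toLin' g.val u = u := by
        have := LinearMap.mem_ker.mp hu
        rw [LinearMap.sub_apply, Module.End.one_apply, sub_eq_zero] at this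
        exact this
      have hxe : x (e.symm u) = e.symm u := by
        apply e.injective
        rw [hex, LinearEquiv.apply_symm_apply, hu']
      have hmem : e.symm u ∈ LinearMap.ker (x - 1) := by
        rw [LinearMap.mem_ker, LinearMap.sub_apply, Module.End.one_apply, hxe, sub_self]
      obtain ⟨t, ht⟩ := hker _ hmem
      refine ⟨t, ?_⟩
      rw [← ht, ← heQ, LinearEquiv.apply_symm_apply]
    refine no_odd_invariant_of_unip_disc h2 (QfMinus (d - 1) F a b) hnd
      (Matrix.toLin' g.val) (isom_of_mem _ g hgΩ) hg3 d m hde hfinV hm hgk1 hgk2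
      hQ₀minus c₂ hc₂ hker' W₀ hW₀ ?_ W hW hWx
    by_cases h4 : m % 4 = 1
    · rw [if_pos h4] at hc₂δ ⊢
      rw [hc₂δ, not_not]
    · rw [if_neg h4] at hc₂δ ⊢
      rw [hc₂δ]
      by_cases hs : IsSquare (-1 : F) <;> by_cases hD : DiscSq (QfMinus (d - 1) F a b) W₀ <;>
        simp [hs, hD]
  · -- d odd
    have h4 : m % 4 = 1 ∨ m % 4 = 3 := by
      obtain ⟨t, ht⟩ := hm
      omega
    rcases h4 with h4 | h4
    · -- J₃² ⊕ J₂^(d-3)
      have hd5 : 5 ≤ d := by
        obtain ⟨t, ht⟩ := hdo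
        omega
      obtain ⟨V, iA, iM, iF, Q, x, hQnd, hxQ, hxp, hx3, hV, hQm, hk1, hk2⟩ :=
        exists_j33_space (F := F) (p := p) h2 (d - 3)
          (by obtain ⟨t, ht⟩ := hdo; exact ⟨t - 1, by omega⟩) (by omega)
      obtain ⟨g, e, hgΩ, hgp, heQ, hex, hgk⟩ := exists_std_unip h2 Q hQnd x hxQ p hpodd hxp
        (QfMinus (d - 1) F a b) hQ₀nd (by rw [hV, hcard]; omega)
        (by rw [hcard]; exact ⟨d, by ring⟩) (by rw [hcard]; omega) (iff_of_false hQm hQ₀minus)
      have hg3 : (Matrix.toLin' g.val - 1) ^ 3 = 0 := by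
        apply pow_eq_zero_of_finrank_ker
        rw [hgk 3, finrank_ker_of_pow_eq_zero _ 3 hx3, hV, hfinV]; omega
      have hgk1 : Module.finrank F (LinearMap.ker (Matrix.toLin' g.val - 1)) + 1
          = d := by
        have := hgk 1
        rw [pow_one, pow_one] at this
        rw [this, hk1]; omega
      have hgk2 : Module.finrank F (LinearMap.ker ((Matrix.toLin' g.val - 1) ^ 2))
          + 2 = 2 * d := by
        rw [hgk 2, hk2]; omega
      have hgk3 : Module.finrank F (LinearMap.ker ((Matrix.toLin' g.val - 1) ^ 3))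
          = 2 * d := by
        rw [finrank_ker_of_pow_eq_zero _ 3 hg3, hfinV]
      refine ⟨g, hgΩ, hgp, ne_one_of_finrank_ker g (by rw [hcard]; omega), ?_⟩
      intro W hW hWx
      exact no_odd_invariant_of_unip h2 (QfMinus (d - 1) F a b) hnd
        (Matrix.toLin' g.val) (isom_of_mem _ g hgΩ) 3 hg3 d m hfinV hm
        (Or.inr (Or.inr ⟨hgk1, hgk2, hgk3, h4⟩)) W hWx hW.2.1 hW.1
    · -- J₂^(d-1) ⊕ J₁²
      obtain ⟨t, ht⟩ := hdo
      obtain ⟨A, hAp, hA1, hA2, hA3⟩ := exists_unip_matrix (F := F) (p := p) hp2 0 t 0 (d - 1)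
        (by omega)
      obtain ⟨x, hxΩ, hxp, hxk⟩ := levi_minus h2 (d - 1) (by omega) a b hab A p hpodd hAp
      have hfinA : Module.finrank F (Fin (d - 1) → F) = d - 1 := by
        rw [Module.finrank_pi]; simp
      have hg3 : (Matrix.toLin' x.val - 1) ^ 3 = 0 := by
        apply pow_eq_zero_of_finrank_ker
        rw [hxk 3 (by norm_num), finrank_ker_of_pow_eq_zero _ 3 hA3, hfinA, hfinV]; omega
      have hgk1 : Module.finrank F (LinearMap.ker (Matrix.toLin' x.val - 1))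
          = d + 1 := by
        have := hxk 1 le_rfl
        rw [pow_one, pow_one] at this
        rw [this, hA1]; omega
      have hgk2 : Module.finrank F (LinearMap.ker ((Matrix.toLin' x.val - 1) ^ 2))
          = 2 * d := by
        rw [hxk 2 (by norm_num), hA2]; omega
      refine ⟨x, hxΩ, hxp, ne_one_of_finrank_ker x (by rw [hgk1, hcard]; omega), ?_⟩
      intro W hW hWx
      exact no_odd_invariant_of_unip h2 (QfMinus (d - 1) F a b) hnd
        (Matrix.toLin' x.val) (isom_of_mem _ x hxΩ) 3 hg3 d m hfinV hm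
        (Or.inr (Or.inl ⟨hgk1, hgk2, h4⟩)) W hWx hW.2.1 hW.1

end Cfsg.Agent.S5989P
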