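import Mathlib
import Cfsg.Prelude.Def_GeometricClasses
import Cfsg.Prelude.Def_Classical
import Cfsg.Prelude.Def_LieClassical
import Cfsg.Agent.Helper6.S5992Defs
import Cfsg.Agent.Helper7.S5992CARDSINGD

/-! S5992, piece CARDSING: the number of non-zero singular vectors of a non-degenerate subspace of
even dimension, by type (wrapper around helper7's direct proof `CARDSINGD.card_singular_of_ty'`). -/

set_option autoImplicit false
open scoped MatrixGroups
universe u

namespace Cfsg.Agent.S5992P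

open Cfsg.Agent.Helper2.SympInvol Cfsg.Agent.Helper2.SympUnits Cfsg.Agent.S5961P Cfsg.Agent.S2614
  Cfsg.Agent.S5955P

/-- CARDSING -/
theorem card_singular_of_ty {F V : Type*} [Field F] [Fintype F] [AddCommGroup V] [Module F V]
    [FiniteDimensional F V] {q : ℕ} (hq : Fintype.card F = q) (h2 : (2 : F) ≠ 0)
    (Q : QuadraticForm F V) (W : Submodule F V) (hW : Nondeg (PB Q) W) (a : ℕ) (ha : 1 ≤ a)
    (hdim : Module.finrank F W = 2 * a) :
    (Plus Q W → Nat.card {w : W // w ≠ 0 ∧ Q (w : V) = 0} = (q ^ a - 1) * (q ^ (a - 1) + 1)) ∧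
    (¬ Plus Q W → Nat.card {w : W // w ≠ 0 ∧ Q (w : V) = 0} = (q ^ a + 1) * (q ^ (a - 1) - 1)) :=
  CARDSINGD.card_singular_of_ty' hq h2 Q W hW a ha hdim

end Cfsg.Agent.S5992P
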