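import Mathlib
import Cfsg.Prelude.Def_GeometricClasses
import Cfsg.Prelude.Def_Classical
import Cfsg.Prelude.Def_LieClassical
import Cfsg.Agent.Helper6.S5992Defs
import Cfsg.Agent.Helper28.WittOmega
import Cfsg.Agent.Helper7.S5992ISOTY

/-! S5992, piece TRANS: the isometry group is transitive on the non-degenerate subspaces of a given
dimension and type (ISOTY + Witt's extension theorem). -/

set_option autoImplicit false
open scoped MatrixGroups
universe u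

namespace Cfsg.Agent.S5992P

open Cfsg.Agent.Helper2.SympInvol Cfsg.Agent.Helper2.SympUnits Cfsg.Agent.S5961P Cfsg.Agent.S2614
  Cfsg.Agent.S5955P

/-- TRANS -/
theorem isometry_trans_ty {F : Type*} [Field F] [Fintype F] (h2 : (2 : F) ≠ 0) {ι : Type}
    [Fintype ι] [DecidableEq ι] (Q : QuadraticForm F (ι → F))
    (hQ : (QuadraticMap.polarBilin Q).Nondegenerate) (ε : Bool) (m : ℕ) (hme : Even m)
    (W W' : Submodule F (ι → F)) (hW : IsTy Q ε m W) (hW' : IsTy Q ε m W') :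
    ∃ g : GL ι F, g ∈ Cfsg.isometryGroup F ⇑Q ∧
      W.map (Matrix.toLin' (g : Matrix ι ι F)) = W' := by
  obtain ⟨e, he⟩ := exists_isometry_of_ty h2 Q Q W W' hW.2.1 hW'.2.1 (hW.1.trans hW'.1.symm)
    (by rw [hW.1]; exact hme) (hW.2.2.trans hW'.2.2.symm)
  obtain ⟨g₀, hg₀Q, hg₀⟩ := Cfsg.Agent.Helper28.QWitt.witt_extension Q hQ W W' e he
  obtain ⟨M, hM⟩ := Cfsg.Agent.Helper28.WO.exists_isom Q g₀ hg₀Q
  refine ⟨(M : GL ι F), M.2, ?_⟩
  ext x
  constructor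
  · rintro ⟨u, hu, rfl⟩
    rw [Matrix.toLin'_apply, hM, hg₀ ⟨u, hu⟩]
    exact (e ⟨u, hu⟩).2
  · intro hx
    refine ⟨(e.symm ⟨x, hx⟩ : ι → F), (e.symm ⟨x, hx⟩).2, ?_⟩
    rw [Matrix.toLin'_apply, hM, hg₀, LinearEquiv.apply_symm_apply]

end Cfsg.Agent.S5992P
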