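import Mathlib
import Cfsg.Prelude.Def_GeometricClasses
import Cfsg.Prelude.Def_Classical
import Cfsg.Prelude.Def_LieClassical
import Cfsg.Agent.Helper20.S6000Defs
import Cfsg.Agent.Helper28.S6001Defs

set_option autoImplicit false
open scoped MatrixGroups Matrix

/-! S6001 piece CAUCHYU (driver helper28): port of `Cfsg.Agent.Helper4.S6000CAUCHY64`. -/

namespace Cfsg.Agent.S6001P

open Cfsg.Agent.S6000P

/-- CAUCHYU -/
theorem exists_elt_of_dvd_u {F : Type*} [Field F] [Fintype F] {p : ℕ}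
    (R : Subgroup (GL (Fin 4) F)) (r : ℕ) [Fact r.Prime] (hr2 : r ≠ 2)
    (hΩ : r ∣ (Cfsg.Geo.subgroupNormalizer R).relIndex
      (Cfsg.GU 4 F p ⊓ Cfsg.Geo.specialLinear (Fin 4) F)) :
    ∃ x ∈ Cfsg.GU 4 F p ⊓ Cfsg.Geo.specialLinear (Fin 4) F,
      ((x ^ r : GL (Fin 4) F) : M4 F) = 1 ∧ ∀ z : F, (x : M4 F) ≠ z • (1 : M4 F) := by
  classical
  have hrP : r.Prime := Fact.out
  have : Finite (GL (Fin 4) F) := inferInstance
  have hdvd : r ∣ Nat.card ↥(Cfsg.GU 4 F p ⊓ Cfsg.Geo.specialLinear (Fin 4) F) :=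
    dvd_trans hΩ (Subgroup.relIndex_dvd_card _ _)
  obtain ⟨x, hx⟩ := exists_prime_orderOf_dvd_card' r hdvd
  refine ⟨x.1, x.2, ?_, ?_⟩
  · have h1 : x ^ r = 1 := by rw [← hx]; exact pow_orderOf_eq_one x
    have h2 : x.1 ^ r = 1 := by
      have := congrArg Subtype.val h1
      simpa using this
    rw [h2, Units.val_one]
  · intro z hz
    have hdet : (x.1 : M4 F).det = 1 := (mem_specialLinear_iff x.1).mp x.2.2
    have hz4 : z ^ 4 = 1 := by
      rw [hz, Matrix.det_smul, Matrix.det_one, mul_one, Fintype.card_fin] at hdet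
      exact hdet
    have h1 : x.1 ^ 4 = 1 := by
      apply Units.ext
      rw [Units.val_pow_eq_pow_val, hz, smul_pow, one_pow, hz4, one_smul, Units.val_one]
    have h2 : x ^ 4 = 1 := Subtype.ext (by simpa using h1)
    have h3 : orderOf x ∣ 4 := orderOf_dvd_of_pow_eq_one h2
    rw [hx] at h3
    have h4 : r ∣ 2 ^ 2 := by
      have e : (4 : ℕ) = 2 ^ 2 := by norm_num
      rwa [e] at h3
    have h5 := hrP.dvd_of_dvd_pow h4
    exact hr2 ((Nat.prime_dvd_prime_iff_eq hrP Nat.prime_two).mp h5)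

end Cfsg.Agent.S6001P
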