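import Mathlib
import Cfsg.Prelude.Def_GeometricClasses
import Cfsg.Prelude.Def_Classical
import Cfsg.Prelude.Def_LieClassical
import Cfsg.Agent.Helper20.S6000Defs
import Cfsg.Agent.Helper28.S6001Defs

set_option autoImplicit false
open scoped MatrixGroups Matrix

/-! S6001 (driver helper28): small library for the assemblies: scalar units, norms. -/

namespace Cfsg.Agent.S6001P

open Cfsg.Agent.S6000P

namespace Lib

variable {F : Type*} [Field F]

/-- the scalar unit `c • 1` -/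
noncomputable def scal (c : F) (hc : c ≠ 0) : GL (Fin 4) F :=
  ⟨c • (1 : M4 F), c⁻¹ • (1 : M4 F),
    by rw [Matrix.smul_mul, Matrix.one_mul, smul_smul, mul_inv_cancel₀ hc, one_smul],
    by rw [Matrix.smul_mul, Matrix.one_mul, smul_smul, inv_mul_cancel₀ hc, one_smul]⟩

theorem scal_val (c : F) (hc : c ≠ 0) : ((scal c hc : GL (Fin 4) F) : M4 F) = c • (1 : M4 F) := rfl

theorem scal_comm (c : F) (hc : c ≠ 0) (g : GL (Fin 4) F) : scal c hc * g = g * scal c hc :=
  gl_comm_of_scalar (scal_val c hc) g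

theorem scal_mem_N (R : Subgroup (GL (Fin 4) F)) (c : F) (hc : c ≠ 0) :
    scal c hc ∈ Cfsg.Geo.subgroupNormalizer R :=
  scalar_mem_normalizer R (scal_val c hc)

theorem scal_mul_val (c : F) (hc : c ≠ 0) (g : GL (Fin 4) F) :
    ((scal c hc * g : GL (Fin 4) F) : M4 F) = c • (g : M4 F) := by
  rw [Units.val_mul, scal_val, Matrix.smul_mul, Matrix.one_mul]

theorem scal_mul_scal_inv (c : F) (hc : c ≠ 0) : scal c hc * scal c⁻¹ (inv_ne_zero hc) = 1 := by
  apply Units.ext
  rw [scal_mul_val, scal_val, smul_smul, mul_inv_cancel₀ hc, one_smul, Units.val_one]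

theorem scal_det (c : F) (hc : c ≠ 0) : ((scal c hc : GL (Fin 4) F) : M4 F).det = c ^ 4 := by
  rw [scal_val, Matrix.det_smul, Matrix.det_one, mul_one, Fintype.card_fin]

theorem scal_mem_GU {p : ℕ} [Fact p.Prime] [CharP F p] (c : F) (hc : c ≠ 0)
    (hc1 : c ^ (p + 1) = 1) : scal c hc ∈ Cfsg.GU 4 F p := by
  rw [mem_GU_iff_dag, scal_val]
  exact scalar_unitary p c hc1

/-- `g ∈ SL` iff `det = 1` (restated) -/
theorem det_of_mem {p : ℕ} {x : GL (Fin 4) F}
    (hx : x ∈ Cfsg.GU 4 F p ⊓ Cfsg.Geo.specialLinear (Fin 4) F) : (x : M4 F).det = 1 :=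
  (mem_specialLinear_iff x).mp hx.2

/-- a fourth root of unity has norm one when `p ≡ 3 mod 4` -/
theorem norm_of_pow_four {p : ℕ} (hp4 : p % 4 = 3) (z : F) (hz : z ^ 4 = 1) : z ^ (p + 1) = 1 := by
  have : p + 1 = 4 * ((p + 1) / 4) := by omega
  rw [this, pow_mul, hz, one_pow]

/-- the determinant of a unitary matrix has norm one -/
theorem det_norm {p : ℕ} [Fact p.Prime] [CharP F p] {g : GL (Fin 4) F}
    (hg : g ∈ Cfsg.GU 4 F p) : (g : M4 F).det ^ (p + 1) = 1 := by
  have h := (mem_GU_iff_dag p g).mp hg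
  have := congrArg Matrix.det h
  rw [Matrix.det_mul, det_dag, Matrix.det_one] at this
  rw [pow_succ]
  exact this

/-- a nonscalar element is not `1` -/
theorem ne_one_of_nonscalar {x : GL (Fin 4) F} (hns : ∀ z : F, (x : M4 F) ≠ z • (1 : M4 F)) :
    x ≠ 1 := by
  rintro rfl
  exact hns 1 (by rw [Units.val_one, one_smul])

/-- scalar multiples of nonscalar matrices are nonscalar -/
theorem nonscalar_scal_mul (c : F) (hc : c ≠ 0) {x : GL (Fin 4) F}
    (hns : ∀ z : F, (x : M4 F) ≠ z • (1 : M4 F)) :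
    ∀ z : F, ((scal c hc * x : GL (Fin 4) F) : M4 F) ≠ z • (1 : M4 F) := by
  intro z hz
  apply hns (c⁻¹ * z)
  rw [scal_mul_val] at hz
  rw [← smul_smul, ← hz, smul_smul, inv_mul_cancel₀ hc, one_smul]

/-- conjugates of scalar multiples -/
theorem conj_scal_mul (c : F) (hc : c ≠ 0) (g x : GL (Fin 4) F) :
    g⁻¹ * (scal c hc * x) * g = scal c hc * (g⁻¹ * x * g) := by
  rw [← mul_assoc, ← scal_comm c hc g⁻¹]
  group

/-- a scalar unitary matrix has a scalar of norm one -/
theorem norm_of_scalar_unitary {p : ℕ} [Fact p.Prime] [CharP F p] {g : GL (Fin 4) F}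
    (hg : g ∈ Cfsg.GU 4 F p) (c : F) (hgc : (g : M4 F) = c • (1 : M4 F)) : c ^ (p + 1) = 1 := by
  have h := (mem_GU_iff_dag p g).mp hg
  rw [hgc, dag_smul, dag_one, Matrix.smul_mul, Matrix.one_mul, smul_smul, ← pow_succ] at h
  have := congrFun (congrFun h 0) 0
  simpa using this

end Lib

end Cfsg.Agent.S6001P
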