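import Mathlib
import Cfsg.Agent.Helper1.S6001HILB90
import Cfsg.Agent.Helper1.S6001NT5T
import Cfsg.Agent.Helper1.S6001SQRT2U
import Cfsg.Agent.Helper1.S6001STRUCT5
import Cfsg.Agent.Helper14.S6001DIAG3
import Cfsg.Agent.Helper15.S6001INJ5
import Cfsg.Agent.Helper15.S6001INVDET
import Cfsg.Agent.Helper15.S6001USPU
import Cfsg.Agent.Helper17.S6001CONJ3S
import Cfsg.Agent.Helper17.S6001Y3U
import Cfsg.Agent.Helper18.S6001DETCENT1
import Cfsg.Agent.Helper18.S6001UCONJ
import Cfsg.Agent.Helper20.S6001REFLU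
import Cfsg.Agent.Helper20.S6001SIMIL
import Cfsg.Agent.Helper20.S6001SIMILU
import Cfsg.Agent.Helper21.S6001CYC5U
import Cfsg.Agent.Helper21.S6001TRU3
import Cfsg.Agent.Helper23.S6001D5U
import Cfsg.Agent.Helper25.S6001D3U
import Cfsg.Agent.Helper28.S6001CAUCHYU
import Cfsg.Agent.Helper3.S6001D3T
import Cfsg.Agent.Helper3.S6001NT3
import Cfsg.Agent.Helper3.S6001NT5
import Cfsg.Agent.Helper4.S6001DETCENT2
import Cfsg.Agent.Helper4.S6001SUCONJ

/-! S6001 (driver helper28): the landed pieces, collected. -/
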