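import Mathlib
import Cfsg.Prelude.Def_GeometricClasses
import Cfsg.Prelude.Def_Classical
import Cfsg.Prelude.Def_LieClassical
import Cfsg.Agent.Helper20.S6000Defs
import Cfsg.Agent.Helper28.S6001Defs
import Cfsg.Agent.Helper28.S6001Pieces
import Cfsg.Agent.Helper4.S6000CENTCARD64
import Cfsg.Agent.Helper4.S6000NOSEVEN64
import Cfsg.Agent.Helper20.S6000ORB
import Cfsg.Agent.Helper17.S6000PDIM
import Cfsg.Agent.Helper1.S6000CDIMCONJ

set_option autoImplicit false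
open scoped MatrixGroups Matrix

/-! S6001 assembly NECU (driver helper28): necessity. -/

namespace Cfsg.Agent.S6001P

open Cfsg.Agent.S6000P

namespace NECU

theorem arith (r k : ℕ) (hr : r.Prime) (hr2 : r ≠ 2) (hk2 : 2 ≤ k) (hk5 : k ≤ 5)
    (hmod : 64 ≡ 2 ^ k [MOD r]) :
    (r = 3 ∧ (k = 2 ∨ k = 4)) ∨ (r = 5 ∧ k = 2) ∨ (r = 7 ∧ k = 3) := by
  have hdvd : r ∣ 64 - 2 ^ k := by
    have hle : 2 ^ k ≤ 64 := by
      calc 2 ^ k ≤ 2 ^ 5 := Nat.pow_le_pow_right (by norm_num) hk5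
        _ ≤ 64 := by norm_num
    exact (Nat.modEq_iff_dvd' hle).mp hmod.symm
  interval_cases k
  · have h60 : r ∣ 60 := by simpa using hdvd
    have : r ∣ 2 ^ 2 * 3 * 5 := by simpa using h60
    rcases (Nat.Prime.dvd_mul hr).mp this with h | h
    · rcases (Nat.Prime.dvd_mul hr).mp h with h | h
      · exact absurd ((Nat.prime_dvd_prime_iff_eq hr Nat.prime_two).mp (hr.dvd_of_dvd_pow h)) hr2
      · left; exact ⟨(Nat.prime_dvd_prime_iff_eq hr Nat.prime_three).mp h, Or.inl rfl⟩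
    · right; left; exact ⟨(Nat.prime_dvd_prime_iff_eq hr Nat.prime_five).mp h, rfl⟩
  · have h56 : r ∣ 2 ^ 3 * 7 := by simpa using hdvd
    rcases (Nat.Prime.dvd_mul hr).mp h56 with h | h
    · exact absurd ((Nat.prime_dvd_prime_iff_eq hr Nat.prime_two).mp (hr.dvd_of_dvd_pow h)) hr2
    · right; right; exact ⟨(Nat.prime_dvd_prime_iff_eq hr (by norm_num)).mp h, rfl⟩
  · have h48 : r ∣ 2 ^ 4 * 3 := by simpa using hdvd
    rcases (Nat.Prime.dvd_mul hr).mp h48 with h | h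
    · exact absurd ((Nat.prime_dvd_prime_iff_eq hr Nat.prime_two).mp (hr.dvd_of_dvd_pow h)) hr2
    · left; exact ⟨(Nat.prime_dvd_prime_iff_eq hr Nat.prime_three).mp h, Or.inr rfl⟩
  · have h32 : r ∣ 2 ^ 5 := by simpa using hdvd
    exact absurd ((Nat.prime_dvd_prime_iff_eq hr Nat.prime_two).mp (hr.dvd_of_dvd_pow h32)) hr2

/-- an element of order `r` of `SU_4` that is conjugate into `N(R)` has a small commutant -/
theorem key {F : Type*} [Field F] {p : ℕ} {R : Subgroup (GL (Fin 4) F)} {ι : F} (h : Hyp64 R ι)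
    (r : ℕ) [Fact r.Prime] (hr2 : r ≠ 2)
    (hall : ∀ x ∈ Cfsg.GU 4 F p ⊓ Cfsg.Geo.specialLinear (Fin 4) F,
      (∃ z : F, ((x ^ r : GL (Fin 4) F) : M4 F) = z • (1 : M4 F)) →
      (∀ z : F, (x : M4 F) ≠ z • (1 : M4 F)) →
      ∃ g ∈ Cfsg.GU 4 F p ⊓ Cfsg.Geo.specialLinear (Fin 4) F,
        g⁻¹ * x * g ∈ Cfsg.Geo.subgroupNormalizer R)
    (x : GL (Fin 4) F) (hx : x ∈ Cfsg.GU 4 F p ⊓ Cfsg.Geo.specialLinear (Fin 4) F)
    (hxr : ((x ^ r : GL (Fin 4) F) : M4 F) = 1) (hns : ∀ z : F, (x : M4 F) ≠ z • (1 : M4 F)) :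
    ∃ k n0 : ℕ, 2 ≤ k ∧ k ≤ 5 ∧ 64 ≡ 2 ^ k [MOD r] ∧ r * n0 = 16 + (r - 1) * 2 ^ (k - 2) ∧
      cdim (x : M4 F) ≤ n0 ∧ (r = 7 → k ≠ 3) := by
  obtain ⟨g, -, hg⟩ := hall x hx ⟨1, by rw [hxr, one_smul]⟩ hns
  set y : GL (Fin 4) F := g⁻¹ * x * g with hy
  have hxr' : x ^ r = 1 := Units.ext (by rw [hxr, Units.val_one])
  have hyr : y ^ r = 1 := by
    rw [hy, show g⁻¹ * x * g = g⁻¹ * x * g⁻¹⁻¹ by rw [inv_inv], conj_pow, hxr', mul_one,
      inv_inv, inv_mul_cancel]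
  have hyr' : ∃ z : F, ((y ^ r : GL (Fin 4) F) : M4 F) = z • (1 : M4 F) :=
    ⟨1, by rw [hyr, one_smul, Units.val_one]⟩
  have hyns : ∀ z : F, (y : M4 F) ≠ z • (1 : M4 F) := by
    intro z hz
    apply hns z
    have hxy : x = g * y * g⁻¹ := by rw [hy]; group
    rw [hxy, Units.val_mul, Units.val_mul, hz, Matrix.mul_smul, Matrix.mul_one, Matrix.smul_mul,
      ← Units.val_mul, mul_inv_cancel, Units.val_one]
  obtain ⟨k, hk2, hk5, hcard, hmod⟩ := card_cent h y hg r hyr' hyns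
  obtain ⟨n0, b, hn0, -, hcov⟩ := exists_orbit_reps h y hg r hr2 hyr' k hk2 hcard
  have hc1 := cdim_le_of_reps h y n0 b hcov
  have hc2 := cdim_conj g x
  refine ⟨k, n0, hk2, hk5, hmod, hn0, ?_, ?_⟩
  · rw [← hc2]; exact hc1
  · rintro rfl rfl
    exact not_card_cent_eight h y hg hyr' (by rw [hcard]; norm_num)

end NECU

open NECU in
/-- NECU: necessity -/
theorem nec_u {F : Type*} [Field F] [Fintype F] {p : ℕ} [Fact p.Prime] [CharP F p]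
    (hF : Fintype.card F = p ^ 2) (hp4 : p % 4 = 3) {R : Subgroup (GL (Fin 4) F)} {ι : F}
    (h : Hyp64 R ι) (r : ℕ) [Fact r.Prime] (hr2 : r ≠ 2)
    (hΩ : r ∣ (Cfsg.Geo.subgroupNormalizer R).relIndex
      (Cfsg.GU 4 F p ⊓ Cfsg.Geo.specialLinear (Fin 4) F))
    (hall : ∀ x ∈ Cfsg.GU 4 F p ⊓ Cfsg.Geo.specialLinear (Fin 4) F,
      (∃ z : F, ((x ^ r : GL (Fin 4) F) : M4 F) = z • (1 : M4 F)) →
      (∀ z : F, (x : M4 F) ≠ z • (1 : M4 F)) →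
      ∃ g ∈ Cfsg.GU 4 F p ⊓ Cfsg.Geo.specialLinear (Fin 4) F,
        g⁻¹ * x * g ∈ Cfsg.Geo.subgroupNormalizer R) :
    (r = 3 ∧ p % 3 = 1) ∨ (r = 5 ∧ orderOf (p : ZMod 5) = 4) := by
  have hrP : r.Prime := Fact.out
  have hpP : p.Prime := Fact.out
  obtain ⟨x, hx, hxr, hns⟩ := exists_elt_of_dvd_u (p := p) R r hr2 hΩ
  obtain ⟨k, n0, hk2, hk5, hmod, -, -, h7⟩ := key h r hr2 hall x hx hxr hns
  rcases arith r k hrP hr2 hk2 hk5 hmod with ⟨rfl, -⟩ | ⟨rfl, -⟩ | ⟨rfl, rfl⟩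
  · -- r = 3
    left
    refine ⟨rfl, ?_⟩
    by_contra hp3
    have hx' : ∃ x' ∈ Cfsg.GU 4 F p ⊓ Cfsg.Geo.specialLinear (Fin 4) F,
        ((x' ^ 3 : GL (Fin 4) F) : M4 F) = 1 ∧ (∀ z : F, (x' : M4 F) ≠ z • (1 : M4 F)) ∧
        9 ≤ cdim (x' : M4 F) := by
      have h3 : p % 3 = 0 ∨ p % 3 = 2 := by omega
      rcases h3 with h3 | h3
      · have hp3' : p = 3 :=
          ((Nat.prime_dvd_prime_iff_eq Nat.prime_three hpP).mp (Nat.dvd_of_mod_eq_zero h3)).symm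
        subst hp3'
        exact exists_x3_t hF
      · obtain ⟨h3F, ω, hω, hωu⟩ := exists_omega_u hF h3
        exact exists_x3_u ω hω hωu h3F
    obtain ⟨x', hx'S, hx'3, hx'ns, hx'c⟩ := hx'
    obtain ⟨k', n0', hk2', hk5', hmod', hn0', hc', -⟩ := key h 3 hr2 hall x' hx'S hx'3 hx'ns
    rcases arith 3 k' hrP hr2 hk2' hk5' hmod' with ⟨-, rfl | rfl⟩ | ⟨h35, -⟩ | ⟨h37, -⟩
    · norm_num at hn0'; omega
    · norm_num at hn0'; omega
    · omega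
    · omega
  · -- r = 5
    right
    refine ⟨rfl, ?_⟩
    by_contra hord
    have h2F : (2 : F) ≠ 0 := by
      intro h2
      have h2' : ((2 : ℕ) : F) = 0 := by exact_mod_cast h2
      rw [CharP.cast_eq_zero_iff F p] at h2'
      have := (Nat.prime_dvd_prime_iff_eq hpP Nat.prime_two).mp h2'
      omega
    obtain ⟨h5F, t, ht, htp⟩ := exists_t_u hF hp4 hord
    obtain ⟨x', hx'S, hx'5, hx'ns, hx'c⟩ := exists_x5_u hF h2F h5F t ht htp
    obtain ⟨k', n0', hk2', hk5', hmod', hn0', hc', -⟩ := key h 5 hr2 hall x' hx'S hx'5 hx'ns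
    rcases arith 5 k' hrP hr2 hk2' hk5' hmod' with ⟨h53, -⟩ | ⟨-, rfl⟩ | ⟨h57, -⟩
    · omega
    · norm_num at hn0'; omega
    · omega
  · exact absurd rfl (h7 rfl)

end Cfsg.Agent.S6001P
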