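import Mathlib
import Cfsg.Prelude.Def_GeometricClasses
import Cfsg.Prelude.Def_Classical
import Cfsg.Prelude.Def_LieClassical
import Cfsg.Agent.Helper20.S6000Defs
import Cfsg.Agent.Helper28.S6001Defs
import Cfsg.Agent.Helper28.S6001Lib
import Cfsg.Agent.Helper28.S6001Pieces
import Cfsg.Agent.Helper4.S6000INVCONJ
import Cfsg.Agent.Helper26.S6000FIVE
import Cfsg.Agent.Helper14.S6000TR0

set_option autoImplicit false
open scoped MatrixGroups Matrix

/-! S6001 assembly R2U (driver helper28): sufficiency for `r = 2`. -/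

namespace Cfsg.Agent.S6001P

open Cfsg.Agent.S6000P Lib

namespace R2U

variable {F : Type*} [Field F] [Fintype F] {p : ℕ} [Fact p.Prime] [CharP F p]

omit [Fintype F] in
theorem natCast_pow_p' (n : ℕ) : ((n : F)) ^ p = (n : F) := by
  rw [← frobenius_def, map_natCast]

/-- common end of the two cases: a unitary involution `τ = w⁻¹ x` with a model `m ∈ N ∩ GU` of
the same trace -/
theorem finish (hF : Fintype.card F = p ^ 2) (h2 : (2 : F) ≠ 0) {R : Subgroup (GL (Fin 4) F)}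
    (x : GL (Fin 4) F) (w : F) (hw0 : w ≠ 0)
    (hτU : scal w⁻¹ (inv_ne_zero hw0) * x ∈ Cfsg.GU 4 F p)
    (hτ2 : (scal w⁻¹ (inv_ne_zero hw0) * x) * (scal w⁻¹ (inv_ne_zero hw0) * x) = 1)
    (hτns : ∀ z : F, ((scal w⁻¹ (inv_ne_zero hw0) * x : GL (Fin 4) F) : M4 F) ≠ z • (1 : M4 F))
    (m : GL (Fin 4) F) (hmN : m ∈ Cfsg.Geo.subgroupNormalizer R) (hmU : m ∈ Cfsg.GU 4 F p)
    (hm2 : m * m = 1) (hmns : ∀ z : F, (m : M4 F) ≠ z • (1 : M4 F))
    (htr : Matrix.trace ((scal w⁻¹ (inv_ne_zero hw0) * x : GL (Fin 4) F) : M4 F) =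
      Matrix.trace (m : M4 F)) :
    ∃ g ∈ Cfsg.GU 4 F p ⊓ Cfsg.Geo.specialLinear (Fin 4) F,
      g⁻¹ * x * g ∈ Cfsg.Geo.subgroupNormalizer R := by
  set τ : GL (Fin 4) F := scal w⁻¹ (inv_ne_zero hw0) * x with hτ
  obtain ⟨g₀, -, hg₀⟩ := invol_conj_sl h2 τ m hτ2 hm2 hτns hmns htr
  have hdc : ∀ δ : F, δ ^ (p + 1) = 1 →
      ∃ k ∈ Cfsg.GU 4 F p, k * τ = τ * k ∧ (k : M4 F).det = δ := by
    set T : M4 F := (τ : M4 F) with hT
    have hTT : T * T = 1 := by
      rw [hT, ← Units.val_mul, hτ2, Units.val_one]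
    have hdT : dag p T = T := by
      rw [hT, dag_eq_inv p hτU]
      have : τ⁻¹ = τ := inv_eq_of_mul_eq_one_left hτ2
      rw [this]
    have h2i : ((2 : F)⁻¹) ^ p = (2 : F)⁻¹ := by
      have := natCast_pow_p' (F := F) (p := p) 2
      rw [inv_pow]
      congr 1
    apply exists_cent_det_of_idem hF h2 τ hτU ((2 : F)⁻¹ • (1 + T)) 1
    · intro h0
      have h1 : 1 + T = 0 := by
        have := congrArg (fun M => (2 : F) • M) h0
        simpa [smul_smul, mul_inv_cancel₀ h2] using this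
      apply hτns (-1)
      rw [neg_smul, one_smul]
      exact eq_neg_of_add_eq_zero_right h1
    · rw [Matrix.smul_mul, Matrix.mul_smul, smul_smul]
      have : (1 + T) * (1 + T) = (2 : F) • (1 + T) := by
        rw [add_mul, mul_add, mul_add, one_mul, mul_one, one_mul, hTT, two_smul]
        abel
      rw [this, smul_smul]
      congr 1
      rw [mul_assoc, inv_mul_cancel₀ h2, mul_one]
    · rw [dag_smul, dag_add, dag_one, hdT, h2i]
    · rw [← hT, Matrix.mul_smul, mul_add, mul_one, hTT, one_smul, add_comm]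
  obtain ⟨g, hg, hgτ⟩ := su_conj_of_gl_conj hF τ m g₀ hτU hmU hg₀ hdc
  refine ⟨g, hg, ?_⟩
  have hxτ : x = scal w hw0 * τ := by
    rw [hτ, ← mul_assoc, scal_mul_scal_inv, one_mul]
  rw [hxτ, conj_scal_mul, hgτ]
  exact (Cfsg.Geo.subgroupNormalizer R).mul_mem (scal_mem_N R _ _) hmN

end R2U

open R2U in
/-- R2U -/
theorem suff2_u {F : Type*} [Field F] [Fintype F] {p : ℕ} [Fact p.Prime] [CharP F p]
    (hF : Fintype.card F = p ^ 2) (hp4 : p % 4 = 3) {R : Subgroup (GL (Fin 4) F)} {ι : F}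
    (h : Hyp64 R ι) (hRU : R ≤ Cfsg.GU 4 F p)
    (x : GL (Fin 4) F) (hx : x ∈ Cfsg.GU 4 F p ⊓ Cfsg.Geo.specialLinear (Fin 4) F) (z : F)
    (hxz : ((x ^ 2 : GL (Fin 4) F) : M4 F) = z • (1 : M4 F))
    (hns : ∀ z : F, (x : M4 F) ≠ z • (1 : M4 F)) :
    ∃ g ∈ Cfsg.GU 4 F p ⊓ Cfsg.Geo.specialLinear (Fin 4) F,
      g⁻¹ * x * g ∈ Cfsg.Geo.subgroupNormalizer R := by
  have h2 : (2 : F) ≠ 0 := h.two_ne
  have hdet := det_of_mem hx
  have hz4 : z ^ 4 = 1 := by
    have := congrArg Matrix.det hxz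
    rw [Units.val_pow_eq_pow_val, Matrix.det_pow, hdet, one_pow, Matrix.det_smul, Matrix.det_one,
      mul_one, Fintype.card_fin] at this
    exact this.symm
  obtain ⟨w₀, hw₀w, -⟩ := exists_sqrt_of_pow_four hF hp4 z hz4
  -- facts valid for every square root `w` of `z`
  have hz0 : z ≠ 0 := by
    rintro rfl
    rw [zero_pow (by norm_num)] at hz4
    exact zero_ne_one hz4
  have key : ∀ w : F, w * w = z → ∀ hw0 : w ≠ 0,
      (scal w⁻¹ (inv_ne_zero hw0) * x) * (scal w⁻¹ (inv_ne_zero hw0) * x) = 1 ∧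
      (∀ c : F, ((scal w⁻¹ (inv_ne_zero hw0) * x : GL (Fin 4) F) : M4 F) ≠ c • (1 : M4 F)) ∧
      ((scal w⁻¹ (inv_ne_zero hw0) * x : GL (Fin 4) F) : M4 F).det = (w ^ 4)⁻¹ ∧
      (w ^ (p + 1) = 1 ∨ w ^ (p + 1) = -1) := by
    intro w hww hw0
    refine ⟨?_, nonscalar_scal_mul _ _ hns, ?_, ?_⟩
    · apply Units.ext
      have hx2 : (x : M4 F) * (x : M4 F) = z • (1 : M4 F) := by
        rw [← hxz, Units.val_pow_eq_pow_val, pow_two]
      rw [Units.val_mul, scal_mul_val, Matrix.smul_mul, Matrix.mul_smul, hx2, smul_smul,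
        smul_smul, Units.val_one, ← hww]
      have : w⁻¹ * w⁻¹ * (w * w) = 1 := by field_simp
      rw [this, one_smul]
    · rw [Units.val_mul, Matrix.det_mul, scal_det, hdet, mul_one, inv_pow]
    · have h1 : (w ^ (p + 1)) ^ 2 = 1 := by
        rw [← pow_mul, mul_comm, pow_mul, pow_two, hww]
        exact norm_of_pow_four hp4 z hz4
      have h3 : (w ^ (p + 1) - 1) * (w ^ (p + 1) + 1) = 0 := by
        linear_combination h1
      rcases mul_eq_zero.mp h3 with h4 | h4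
      · left; exact sub_eq_zero.mp h4
      · right; exact eq_neg_of_add_eq_zero_left h4
  have hw₀0 : w₀ ≠ 0 := by
    rintro rfl
    rw [mul_zero] at hw₀w
    exact hz0 hw₀w.symm
  -- the reflection case, for a root `w` with `trace τ = 2`
  have caseB : ∀ w : F, w * w = z → ∀ hw0 : w ≠ 0,
      Matrix.trace ((scal w⁻¹ (inv_ne_zero hw0) * x : GL (Fin 4) F) : M4 F) = 2 →
      ∃ g ∈ Cfsg.GU 4 F p ⊓ Cfsg.Geo.specialLinear (Fin 4) F,
        g⁻¹ * x * g ∈ Cfsg.Geo.subgroupNormalizer R := by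
    intro w hww hw0 htr
    obtain ⟨hτ2, hτns, -, hwn⟩ := key w hww hw0
    have hwn1 : w ^ (p + 1) = 1 := by
      rcases hwn with hwn | hwn
      · exact hwn
      · exfalso
        set τ : GL (Fin 4) F := scal w⁻¹ (inv_ne_zero hw0) * x with hτ
        have hxd := (mem_GU_iff_dag p x).mp hx.1
        have h1 : dag p (τ : M4 F) * (τ : M4 F) = -1 := by
          rw [hτ, scal_mul_val, dag_smul, Matrix.smul_mul, Matrix.mul_smul, hxd, smul_smul,
            ← pow_succ, inv_pow, hwn]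
          rw [show ((-1 : F))⁻¹ = -1 by norm_num, neg_smul, one_smul]
        have hTT : (τ : M4 F) * (τ : M4 F) = 1 := by
          rw [← Units.val_mul, hτ2, Units.val_one]
        have h3 : dag p (τ : M4 F) = -(τ : M4 F) := by
          calc dag p (τ : M4 F) = dag p (τ : M4 F) * ((τ : M4 F) * (τ : M4 F)) := by
                rw [hTT, mul_one]
            _ = -(τ : M4 F) := by rw [← mul_assoc, h1, neg_mul, one_mul]
        have h4 := congrArg Matrix.trace h3
        rw [trace_dag, Matrix.trace_neg, htr] at h4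
        have h5 : ((2 : F)) ^ p = 2 := by
          have := natCast_pow_p' (F := F) (p := p) 2
          exact_mod_cast this
        rw [h5] at h4
        have h6 : (2 : F) * 2 = 0 := by linear_combination h4
        rcases mul_eq_zero.mp h6 with h7 | h7 <;> exact h2 h7
    have hτU : scal w⁻¹ (inv_ne_zero hw0) * x ∈ Cfsg.GU 4 F p :=
      (Cfsg.GU 4 F p).mul_mem (scal_mem_GU _ _ (by rw [inv_pow, hwn1, inv_one])) hx.1
    obtain ⟨ρ, hρN, hρU, hρ2, hρtr, hρns⟩ := exists_refl_u hF h hRU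
    exact finish hF h2 x w hw0 hτU hτ2 hτns ρ hρN hρU hρ2 hρns (by rw [htr, hρtr])
  obtain ⟨hτ2, hτns, hτdet, -⟩ := key w₀ hw₀w hw₀0
  rcases det_of_invol h2 _ hτ2 hτns with ⟨htr, hdet1⟩ | ⟨htr, -⟩
  · -- trace 0
    have hw4 : w₀ ^ 4 = 1 := by
      rw [hτdet] at hdet1
      exact inv_eq_one.mp hdet1
    have hwn1 : w₀ ^ (p + 1) = 1 := norm_of_pow_four hp4 w₀ hw4
    have hτU : scal w₀⁻¹ (inv_ne_zero hw₀0) * x ∈ Cfsg.GU 4 F p :=
      (Cfsg.GU 4 F p).mul_mem (scal_mem_GU _ _ (by rw [inv_pow, hwn1, inv_one])) hx.1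
    obtain ⟨a, -, haR, -, ha2, -, -, hans, -, -⟩ := exists_comm_invol h
    exact finish hF h2 x w₀ hw₀0 hτU hτ2 hτns a (le_normalizer' R haR) (hRU haR) ha2 hans
      (by rw [htr, trace_eq_zero h a haR hans])
  · rcases htr with htr | htr
    · exact caseB w₀ hw₀w hw₀0 htr
    · have hnw0 : -w₀ ≠ 0 := neg_ne_zero.mpr hw₀0
      apply caseB (-w₀) (by rw [neg_mul_neg, hw₀w]) hnw0
      have h1 : ((scal (-w₀)⁻¹ (inv_ne_zero hnw0) * x : GL (Fin 4) F) : M4 F) =
          -((scal w₀⁻¹ (inv_ne_zero hw₀0) * x : GL (Fin 4) F) : M4 F) := by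
        rw [scal_mul_val, scal_mul_val, inv_neg, neg_smul]
      rw [h1, Matrix.trace_neg, htr, neg_neg]

end Cfsg.Agent.S6001P
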