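import Mathlib
import Cfsg.Prelude.Def_GeometricClasses
import Cfsg.Prelude.Def_Classical
import Cfsg.Prelude.Def_LieClassical
import Cfsg.Agent.Helper20.S6000Defs
import Cfsg.Agent.Helper28.S6001Defs
import Cfsg.Agent.Helper28.S6001Lib
import Cfsg.Agent.Helper28.S6001Pieces

set_option autoImplicit false
open scoped MatrixGroups Matrix

/-! S6001 assembly R3U (driver helper28): sufficiency for `r = 3`, `p ≡ 1 mod 3`. -/

namespace Cfsg.Agent.S6001P

open Cfsg.Agent.S6000P Lib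

namespace R3U

variable {F : Type*} [Field F] {p : ℕ} [Fact p.Prime] [CharP F p]

/-- for a unitary element of order 3, `g² = dag g` -/
theorem sq_eq_dag {g : GL (Fin 4) F} (hg : g ∈ Cfsg.GU 4 F p) (hg3 : g ^ 3 = 1) :
    (g : M4 F) * (g : M4 F) = dag p (g : M4 F) := by
  rw [dag_eq_inv p hg]
  have : g⁻¹ = g * g := by
    rw [inv_eq_iff_eq_inv, eq_inv_iff_mul_eq_one, ← pow_two, ← pow_succ']
    exact hg3
  rw [this, Units.val_mul]

theorem natCast_pow_p (n : ℕ) : ((n : F)) ^ p = (n : F) := by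
  rw [← frobenius_def, map_natCast]

end R3U

open R3U in
/-- R3U -/
theorem suff3_u {F : Type*} [Field F] [Fintype F] {p : ℕ} [Fact p.Prime] [CharP F p]
    (hF : Fintype.card F = p ^ 2) (hp4 : p % 4 = 3) {R : Subgroup (GL (Fin 4) F)} {ι : F}
    (h : Hyp64 R ι) (hRU : R ≤ Cfsg.GU 4 F p) (hp3 : p % 3 = 1)
    (x : GL (Fin 4) F) (hx : x ∈ Cfsg.GU 4 F p ⊓ Cfsg.Geo.specialLinear (Fin 4) F) (z : F)
    (hxz : ((x ^ 3 : GL (Fin 4) F) : M4 F) = z • (1 : M4 F))
    (hns : ∀ z : F, (x : M4 F) ≠ z • (1 : M4 F)) :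
    ∃ g ∈ Cfsg.GU 4 F p ⊓ Cfsg.Geo.specialLinear (Fin 4) F,
      g⁻¹ * x * g ∈ Cfsg.Geo.subgroupNormalizer R := by
  have hpP : p.Prime := Fact.out
  have hp7 : 7 ≤ p := by omega
  have hdet := det_of_mem hx
  have hz4 : z ^ 4 = 1 := by
    have := congrArg Matrix.det hxz
    rw [Units.val_pow_eq_pow_val, Matrix.det_pow, hdet, one_pow, Matrix.det_smul, Matrix.det_one,
      mul_one, Fintype.card_fin] at this
    exact this.symm
  have hz0 : z ≠ 0 := by
    rintro rfl
    rw [zero_pow (by norm_num)] at hz4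
    exact zero_ne_one hz4
  have hch : ∀ n : ℕ, 0 < n → n ≤ 4 → (n : F) ≠ 0 := by
    intro n hn0 hn4 hn
    rw [CharP.cast_eq_zero_iff F p] at hn
    have := Nat.le_of_dvd hn0 hn
    omega
  have h2F : (2 : F) ≠ 0 := by
    have := hch 2 (by norm_num) (by norm_num)
    exact_mod_cast this
  obtain ⟨h3F, ω, hω, hωp⟩ := exists_omega_s hF hp3
  -- the normalised element
  set x₀ : GL (Fin 4) F := scal z hz0 * x with hx₀
  have hx₀U : x₀ ∈ Cfsg.GU 4 F p :=
    (Cfsg.GU 4 F p).mul_mem (scal_mem_GU _ _ (norm_of_pow_four hp4 _ hz4)) hx.1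
  have hx₀3 : x₀ ^ 3 = 1 := by
    apply Units.ext
    rw [hx₀, (show Commute (scal z hz0) x from scal_comm _ _ x).mul_pow, Units.val_mul, hxz,
      Units.val_pow_eq_pow_val, scal_val, smul_pow, one_pow, Matrix.smul_mul, Matrix.one_mul,
      smul_smul, Units.val_one]
    have : z ^ 3 * z = 1 := by rw [← pow_succ]; exact hz4
    rw [this, one_smul]
  have hx₀1 : x₀ ≠ 1 := ne_one_of_nonscalar (nonscalar_scal_mul _ _ hns)
  -- the model
  obtain ⟨yA, yB, hyAN, hyBN, hyAU, hyBU, hyA3, hyB3, htA, htB⟩ := exists_y3_u hF h hRU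
  have hmodel : ∃ y : GL (Fin 4) F, y ∈ Cfsg.Geo.subgroupNormalizer R ∧ y ∈ Cfsg.GU 4 F p ∧
      y ^ 3 = 1 ∧ Matrix.trace (x₀ : M4 F) = Matrix.trace (y : M4 F) := by
    rcases trace_of_cube_u hF hp4 hp3 x₀ hx₀U hx₀3 hx₀1 with ht | ht
    · exact ⟨yA, hyAN, hyAU, hyA3, by rw [ht, htA]⟩
    · exact ⟨yB, hyBN, hyBU, hyB3, by rw [ht, htB]⟩
  obtain ⟨y, hyN, hyU, hy3, htr⟩ := hmodel
  have htr2 : Matrix.trace ((x₀ : M4 F) * (x₀ : M4 F)) =
      Matrix.trace ((y : M4 F) * (y : M4 F)) := by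
    rw [sq_eq_dag hx₀U hx₀3, sq_eq_dag hyU hy3, trace_dag, trace_dag, htr]
  obtain ⟨g₀, hg₀⟩ := cube_conj_split ω hω h3F hch x₀ y hx₀3 hy3 htr htr2
  -- the centralizer has all determinants
  have hdc : ∀ δ : F, δ ^ (p + 1) = 1 →
      ∃ k ∈ Cfsg.GU 4 F p, k * x₀ = x₀ * k ∧ (k : M4 F).det = δ := by
    set X : M4 F := (x₀ : M4 F) with hX
    have hX3 : X * X * X = 1 := by
      have := congrArg Units.val hx₀3
      rw [Units.val_pow_eq_pow_val, Units.val_one, pow_succ, pow_two] at this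
      exact this
    set S : M4 F := 1 + X + X * X with hS
    have hXS : X * S = S := by
      rw [hS, mul_add, mul_add, mul_one, ← mul_assoc, hX3]
      abel
    have hSS : S * S = (3 : F) • S := by
      have : S * S = S + X * S + X * (X * S) := by
        conv_lhs => rw [hS]
        rw [add_mul, add_mul, one_mul, mul_assoc]
      rw [this, hXS, hXS]
      rw [show (3 : F) = 1 + 1 + 1 by norm_num, add_smul, add_smul, one_smul]
    have hdX : dag p X = X * X := (sq_eq_dag hx₀U hx₀3).symm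
    have hdS : dag p S = S := by
      rw [hS, dag_add, dag_add, dag_one, dag_mul, hdX]
      have : X * X * (X * X) = X := by
        rw [← mul_assoc, hX3, one_mul]
      rw [this]
      abel
    by_cases hS0 : S = 0
    · apply exists_cent_det_of_quadratic hF hp4 x₀ hx₀U ω hω hωp h3F
      rw [← hX]
      rw [hS] at hS0
      rw [← hS0]
      abel
    · have h3i : ((3 : F)⁻¹) ^ p = (3 : F)⁻¹ := by
        have := natCast_pow_p (F := F) (p := p) 3
        rw [inv_pow]
        congr 1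
      apply exists_cent_det_of_idem hF h2F x₀ hx₀U ((3 : F)⁻¹ • S) 1
      · intro h0
        apply hS0
        have := congrArg (fun M => (3 : F) • M) h0
        simpa [smul_smul, mul_inv_cancel₀ h3F] using this
      · rw [Matrix.smul_mul, Matrix.mul_smul, hSS, smul_smul, smul_smul]
        congr 1
        rw [mul_assoc, inv_mul_cancel₀ h3F, mul_one]
      · rw [dag_smul, hdS, h3i]
      · rw [← hX, Matrix.mul_smul, hXS, one_smul]
  obtain ⟨g, hg, hgxy⟩ := su_conj_of_gl_conj hF x₀ y g₀ hx₀U hyU hg₀ hdc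
  refine ⟨g, hg, ?_⟩
  have hxx₀ : x = scal z⁻¹ (inv_ne_zero hz0) * x₀ := by
    rw [hx₀, ← mul_assoc]
    have := scal_mul_scal_inv z⁻¹ (inv_ne_zero hz0)
    simp only [inv_inv] at this
    rw [this, one_mul]
  rw [hxx₀, conj_scal_mul, hgxy]
  exact (Cfsg.Geo.subgroupNormalizer R).mul_mem (scal_mem_N R _ _) hyN

end Cfsg.Agent.S6001P
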