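import Mathlib
import Cfsg.Prelude.Def_GeometricClasses
import Cfsg.Prelude.Def_Classical
import Cfsg.Prelude.Def_LieClassical
import Cfsg.Agent.Helper20.S6000Defs
import Cfsg.Agent.Helper28.S6001Defs
import Cfsg.Agent.Helper20.S6000SYL5
import Cfsg.Agent.Helper21.S6001CYC5U

set_option autoImplicit false
open scoped MatrixGroups Matrix

/-! S6001 piece SYL5U (driver helper28): elements of order 5 of `SU_4(p)`, `ord_5(p) = 4`, generate
conjugate subgroups (cyclic Sylow 5-subgroups, CYC5U).  Copy of `Cfsg.Agent.S6000P.SYL5.conj_generic`. -/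

namespace Cfsg.Agent.S6001P

open Cfsg.Agent.S6000P

namespace SYL5U

variable {F : Type*} [Field F]

/-- the generic statement: Sylow + cyclicity -/
theorem conj_generic' [Fintype F] (G : Subgroup (GL (Fin 4) F))
    (hcyc : ∀ P : Subgroup (GL (Fin 4) F), P ≤ G → IsPGroup 5 P → IsCyclic P)
    (x y : GL (Fin 4) F) (hx : x ∈ G) (hy : y ∈ G) (hx5 : x ^ 5 = 1) (hx1 : x ≠ 1)
    (hy5 : y ^ 5 = 1) (hy1 : y ≠ 1) :
    ∃ g ∈ G, ∃ k : ℕ, g⁻¹ * x * g = y ^ k := by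
  classical
  have : Fact (Nat.Prime 5) := ⟨by norm_num⟩
  set x' : G := ⟨x, hx⟩ with hx'
  set y' : G := ⟨y, hy⟩ with hy'
  have hx'5 : x' ^ 5 = 1 := Subtype.ext (by simpa using hx5)
  have hy'5 : y' ^ 5 = 1 := Subtype.ext (by simpa using hy5)
  have hx'1 : x' ≠ 1 := fun h => hx1 (congrArg Subtype.val h)
  have hy'1 : y' ≠ 1 := fun h => hy1 (congrArg Subtype.val h)
  have hPx : IsPGroup 5 (Subgroup.zpowers x') :=
    IsPGroup.of_card (n := 1) (by rw [Nat.card_zpowers, orderOf_eq_prime hx'5 hx'1, pow_one])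
  have hPy : IsPGroup 5 (Subgroup.zpowers y') :=
    IsPGroup.of_card (n := 1) (by rw [Nat.card_zpowers, orderOf_eq_prime hy'5 hy'1, pow_one])
  obtain ⟨P, hP⟩ := hPx.exists_le_sylow
  obtain ⟨Q, hQ⟩ := hPy.exists_le_sylow
  obtain ⟨h, hh⟩ := MulAction.exists_smul_eq G P Q
  have hxP : x' ∈ P := hP (Subgroup.mem_zpowers x')
  have hyQ : y' ∈ Q := hQ (Subgroup.mem_zpowers y')
  have hxQ : h * x' * h⁻¹ ∈ Q := by
    rw [← hh]
    show h * x' * h⁻¹ ∈ ((h • P : Sylow 5 G) : Subgroup G)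
    rw [Sylow.coe_subgroup_smul, Subgroup.mem_pointwise_smul_iff_inv_smul_mem]
    have : (MulAut.conj h)⁻¹ • (h * x' * h⁻¹) = x' := by
      rw [← map_inv, MulAut.smul_def, MulAut.conj_apply]
      group
    rw [this]
    exact hxP
  -- `Q` is cyclic
  have hQcyc : IsCyclic (Q : Subgroup G) := by
    have hQp : IsPGroup 5 (Q : Subgroup G) := Q.isPGroup'
    set Q' : Subgroup (GL (Fin 4) F) := (Q : Subgroup G).map G.subtype with hQ'
    have hQ'le : Q' ≤ G := by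
      rintro _ ⟨t, -, rfl⟩
      exact t.2
    have hQ'p : IsPGroup 5 Q' := hQp.map G.subtype
    have hc := hcyc Q' hQ'le hQ'p
    let e : (Q : Subgroup G) ≃* Q' :=
      (Q : Subgroup G).equivMapOfInjective G.subtype G.subtype_injective
    exact isCyclic_of_surjective e.symm e.symm.surjective
  have hmem := SYL5.mem_zpowers_of_cyclic (Q := (Q : Subgroup G)) 5 (by norm_num)
    ⟨h * x' * h⁻¹, hxQ⟩ ⟨y', hyQ⟩
    (by
      apply Subtype.ext
      show (h * x' * h⁻¹) ^ 5 = 1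
      rw [conj_pow, hx'5, mul_one, mul_inv_cancel])
    (by
      apply orderOf_eq_prime
      · apply Subtype.ext
        exact hy'5
      · intro h1
        exact hy'1 (congrArg Subtype.val h1))
  have hfin : IsOfFinOrder (⟨y', hyQ⟩ : (Q : Subgroup G)) := isOfFinOrder_of_finite _
  rw [← hfin.mem_powers_iff_mem_zpowers, Submonoid.mem_powers_iff] at hmem
  obtain ⟨k, hk⟩ := hmem
  refine ⟨((h⁻¹ : G) : GL (Fin 4) F), (h⁻¹).2, k, ?_⟩
  have h5 := congrArg (fun t : (Q : Subgroup G) => ((t : G) : GL (Fin 4) F)) hk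
  simp only [SubmonoidClass.coe_pow, Subgroup.coe_mul, Subgroup.coe_inv] at h5
  rw [Subgroup.coe_inv, inv_inv]
  exact h5.symm

end SYL5U

open SYL5U in
/-- SYL5U -/
theorem conj_pow_of_five_u {F : Type*} [Field F] [Fintype F] {p : ℕ} [Fact p.Prime] [CharP F p]
    (hF : Fintype.card F = p ^ 2) (hp4 : p % 4 = 3) (hord : orderOf (p : ZMod 5) = 4)
    (x y : GL (Fin 4) F) (hx : x ∈ Cfsg.GU 4 F p ⊓ Cfsg.Geo.specialLinear (Fin 4) F)
    (hy : y ∈ Cfsg.GU 4 F p ⊓ Cfsg.Geo.specialLinear (Fin 4) F) (hx5 : x ^ 5 = 1) (hx1 : x ≠ 1)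
    (hy5 : y ^ 5 = 1) (hy1 : y ≠ 1) :
    ∃ g ∈ Cfsg.GU 4 F p ⊓ Cfsg.Geo.specialLinear (Fin 4) F, ∃ k : ℕ, g⁻¹ * x * g = y ^ k := by
  apply conj_generic' (Cfsg.GU 4 F p ⊓ Cfsg.Geo.specialLinear (Fin 4) F) _ x y hx hy hx5 hx1 hy5 hy1
  intro P hPG hP
  exact isCyclic_of_five_group_u hF hp4 hord P (le_trans hPG inf_le_left) hP

end Cfsg.Agent.S6001P
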