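import Mathlib
import Cfsg.Prelude.Def_GeometricClasses
import Cfsg.Prelude.Def_Classical
import Cfsg.Prelude.Def_LieClassical
import Cfsg.Agent.Helper20.S6000Defs
import Cfsg.Agent.Helper28.S6001Defs
import Cfsg.Agent.Helper28.S6001Lib
import Cfsg.Agent.Helper28.S6001Pieces
import Cfsg.Agent.Helper28.S6001SYL5U
import Cfsg.Agent.Helper4.S6000Y5

set_option autoImplicit false
open scoped MatrixGroups Matrix

/-! S6001 assembly R5U (driver helper28): sufficiency for `r = 5`, `ord_5(p) = 4`. -/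

namespace Cfsg.Agent.S6001P

open Cfsg.Agent.S6000P Lib

/-- R5U -/
theorem suff5_u {F : Type*} [Field F] [Fintype F] {p : ℕ} [Fact p.Prime] [CharP F p]
    (hF : Fintype.card F = p ^ 2) (hp4 : p % 4 = 3) {R : Subgroup (GL (Fin 4) F)} {ι : F}
    (h : Hyp64 R ι) (hRU : R ≤ Cfsg.GU 4 F p) (hord : orderOf (p : ZMod 5) = 4)
    (x : GL (Fin 4) F) (hx : x ∈ Cfsg.GU 4 F p ⊓ Cfsg.Geo.specialLinear (Fin 4) F) (z : F)
    (hxz : ((x ^ 5 : GL (Fin 4) F) : M4 F) = z • (1 : M4 F))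
    (hns : ∀ z : F, (x : M4 F) ≠ z • (1 : M4 F)) :
    ∃ g ∈ Cfsg.GU 4 F p ⊓ Cfsg.Geo.specialLinear (Fin 4) F,
      g⁻¹ * x * g ∈ Cfsg.Geo.subgroupNormalizer R := by
  obtain ⟨hbij, htriv⟩ := fifth_bijective_u hF hord
  have hdet := det_of_mem hx
  -- z ^ 4 = 1
  have hz4 : z ^ 4 = 1 := by
    have := congrArg Matrix.det hxz
    rw [Units.val_pow_eq_pow_val, Matrix.det_pow, hdet, one_pow, Matrix.det_smul, Matrix.det_one,
      mul_one, Fintype.card_fin] at this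
    exact this.symm
  have hz0 : z ≠ 0 := by
    rintro rfl
    rw [zero_pow (by norm_num)] at hz4
    exact zero_ne_one hz4
  have hzi4 : z⁻¹ ^ 4 = 1 := by rw [inv_pow, hz4, inv_one]
  -- the normalised element
  set x₀ : GL (Fin 4) F := scal z⁻¹ (inv_ne_zero hz0) * x with hx₀
  have hx₀U : x₀ ∈ Cfsg.GU 4 F p :=
    (Cfsg.GU 4 F p).mul_mem (scal_mem_GU _ _ (norm_of_pow_four hp4 _ hzi4)) hx.1
  have hx₀S : x₀ ∈ Cfsg.Geo.specialLinear (Fin 4) F := by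
    rw [mem_specialLinear_iff, hx₀, Units.val_mul, Matrix.det_mul, scal_det, hzi4, hdet, one_mul]
  have hx₀5 : x₀ ^ 5 = 1 := by
    apply Units.ext
    rw [hx₀, (show Commute (scal z⁻¹ (inv_ne_zero hz0)) x from scal_comm _ _ x).mul_pow, Units.val_mul, hxz, Units.val_pow_eq_pow_val, scal_val,
      smul_pow, one_pow, Matrix.smul_mul, Matrix.one_mul, smul_smul, Units.val_one]
    have : z⁻¹ ^ 5 * z = 1 := by
      rw [show (5 : ℕ) = 4 + 1 from rfl, pow_succ, hzi4, one_mul, inv_mul_cancel₀ hz0]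
    rw [this, one_smul]
  have hx₀1 : x₀ ≠ 1 := ne_one_of_nonscalar (nonscalar_scal_mul _ _ hns)
  -- the model
  obtain ⟨y, hyN, ⟨ζ, hy5⟩, hyns⟩ := exists_y5 h
  obtain ⟨l, y₁, hl, hy₁U, hy₁N, hyy₁⟩ := exists_unitary_multiple hF h hRU y hyN
  have hy₁ns : ∀ c : F, (y₁ : M4 F) ≠ c • (1 : M4 F) := by
    intro c hc
    apply hyns (l * c)
    rw [hyy₁, hc, smul_smul]
  have hl5 : l ^ 5 ≠ 0 := pow_ne_zero _ hl
  have hy₁5 : ((y₁ ^ 5 : GL (Fin 4) F) : M4 F) = ((l ^ 5)⁻¹ * ζ) • (1 : M4 F) := by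
    have h1 : ((y ^ 5 : GL (Fin 4) F) : M4 F) = l ^ 5 • ((y₁ ^ 5 : GL (Fin 4) F) : M4 F) := by
      rw [Units.val_pow_eq_pow_val, Units.val_pow_eq_pow_val, hyy₁, smul_pow]
    rw [hy5] at h1
    rw [← smul_smul, h1, smul_smul, inv_mul_cancel₀ hl5, one_smul]
  set ζ₁ : F := (l ^ 5)⁻¹ * ζ with hζ₁
  have hζ₁n : ζ₁ ^ (p + 1) = 1 :=
    norm_of_scalar_unitary ((Cfsg.GU 4 F p).pow_mem hy₁U 5) ζ₁ hy₁5
  have hζ₁0 : ζ₁ ≠ 0 := by
    rintro h0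
    rw [h0, zero_pow (Nat.succ_ne_zero p)] at hζ₁n
    exact zero_ne_one hζ₁n
  obtain ⟨μ, hμn, hμ5⟩ := hbij ζ₁⁻¹ (by rw [inv_pow, hζ₁n, inv_one])
  have hμ0 : μ ≠ 0 := by
    rintro rfl
    rw [zero_pow (Nat.succ_ne_zero p)] at hμn
    exact zero_ne_one hμn
  set y₂ : GL (Fin 4) F := scal μ hμ0 * y₁ with hy₂
  have hy₂U : y₂ ∈ Cfsg.GU 4 F p := (Cfsg.GU 4 F p).mul_mem (scal_mem_GU _ _ hμn) hy₁U
  have hy₂N : y₂ ∈ Cfsg.Geo.subgroupNormalizer R :=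
    (Cfsg.Geo.subgroupNormalizer R).mul_mem (scal_mem_N R _ _) hy₁N
  have hy₂5 : y₂ ^ 5 = 1 := by
    apply Units.ext
    rw [hy₂, (show Commute (scal μ hμ0) y₁ from scal_comm _ _ y₁).mul_pow, Units.val_mul, hy₁5, Units.val_pow_eq_pow_val, scal_val,
      smul_pow, one_pow, Matrix.smul_mul, Matrix.one_mul, smul_smul, Units.val_one, hμ5,
      inv_mul_cancel₀ hζ₁0, one_smul]
  have hy₂1 : y₂ ≠ 1 := ne_one_of_nonscalar (nonscalar_scal_mul _ _ hy₁ns)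
  have hy₂S : y₂ ∈ Cfsg.Geo.specialLinear (Fin 4) F := by
    rw [mem_specialLinear_iff]
    apply htriv _ (det_norm hy₂U)
    rw [← Matrix.det_pow, ← Units.val_pow_eq_pow_val, hy₂5, Units.val_one, Matrix.det_one]
  obtain ⟨g, hg, k, hgk⟩ := conj_pow_of_five_u hF hp4 hord x₀ y₂ ⟨hx₀U, hx₀S⟩ ⟨hy₂U, hy₂S⟩
    hx₀5 hx₀1 hy₂5 hy₂1
  refine ⟨g, hg, ?_⟩
  have hxx₀ : x = scal z hz0 * x₀ := by
    rw [hx₀, ← mul_assoc, scal_mul_scal_inv, one_mul]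
  rw [hxx₀, conj_scal_mul, hgk]
  exact (Cfsg.Geo.subgroupNormalizer R).mul_mem (scal_mem_N R _ _)
    ((Cfsg.Geo.subgroupNormalizer R).pow_mem hy₂N k)

end Cfsg.Agent.S6001P
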