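import Mathlib

set_option autoImplicit false

/-! Second maximal subgroups: a maximal subgroup of a maximal subgroup of odd index `n`, when the
only primitive groups of degree `n` are the alternating and symmetric groups. -/

namespace Cfsg.Agent.Helper28.SecMax

open MulAction

variable {G : Type*} [Group G]

/-- unfolding of `IsCoatom (H.subgroupOf K)`, direction 1 -/
theorem eq_or_eq_of_coatom {H K : Subgroup G} (hmax : IsCoatom (H.subgroupOf K))
    {L : Subgroup G} (hHL : H ≤ L) (hLK : L ≤ K) : L = H ∨ L = K := by
  by_cases hLH : L ≤ H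
  · left; exact le_antisymm hLH hHL
  · right
    have h1 : H.subgroupOf K < L.subgroupOf K := by
      refine lt_of_le_of_ne (fun x hx => hHL hx) ?_
      intro heq
      apply hLH
      intro x hx
      have : (⟨x, hLK hx⟩ : K) ∈ L.subgroupOf K := hx
      rw [← heq] at this
      exact this
    have h2 := hmax.2 _ h1
    rw [Subgroup.subgroupOf_eq_top] at h2
    exact le_antisymm hLK h2

/-- unfolding of `IsCoatom (H.subgroupOf K)`, direction 2 -/
theorem coatom_of_forall {H K : Subgroup G} (hHK : H ≤ K) (hne : H ≠ K)
    (hall : ∀ L : Subgroup G, H ≤ L → L ≤ K → L = H ∨ L = K) : IsCoatom (H.subgroupOf K) := by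
  constructor
  · rw [Ne, Subgroup.subgroupOf_eq_top]
    intro hKH
    exact hne (le_antisymm hHK hKH)
  · intro X hX
    set L := X.map K.subtype with hL
    have hLK : L ≤ K := by
      rintro _ ⟨x, -, rfl⟩
      exact x.2
    have hHL : H ≤ L := by
      intro x hx
      exact ⟨⟨x, hHK hx⟩, hX.le (show (⟨x, hHK hx⟩ : K) ∈ H.subgroupOf K from hx), rfl⟩
    have hXL : X = L.subgroupOf K := by
      ext x
      constructor
      · intro hx
        exact ⟨x, hx, rfl⟩
      · rintro ⟨y, hy, hyx⟩
        have : y = x := Subtype.ext hyx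
        rw [← this]; exact hy
    rcases hall L hHL hLK with h1 | h1
    · exfalso
      rw [hXL, h1] at hX
      exact lt_irrefl _ hX
    · rw [hXL, h1]
      exact Subgroup.subgroupOf_self K

end Cfsg.Agent.Helper28.SecMax
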