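import Mathlib
import Cfsg.Agent.Helper28.SecMax1

set_option autoImplicit false

namespace Cfsg.Agent.Helper28.SecMax

open MulAction

variable {G : Type*} [Group G] [Finite G]

theorem isPreprimitive_quotient (M : Subgroup G) (hM : IsCoatom M) :
    IsPreprimitive G (G ⧸ M) := by
  have hnt : Nontrivial (G ⧸ M) := by
    rw [← Finite.one_lt_card_iff_nontrivial]
    have h1 : M.index ≠ 1 := by
      rw [Ne, Subgroup.index_eq_one]; exact hM.1
    have h0 : M.index ≠ 0 := Subgroup.index_ne_zero_of_finite
    show 1 < M.index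
    omega
  rw [← isCoatom_stabilizer_iff_preprimitive G ((1 : G) : G ⧸ M), stabilizer_quotient]
  exact hM

theorem alt_le_range (n : ℕ)
    (hA : ∀ P : Subgroup (Equiv.Perm (Fin n)), MulAction.IsPreprimitive P (Fin n) →
      alternatingGroup (Fin n) ≤ P)
    (M : Subgroup G) (hM : IsCoatom M) (hn : M.index = n)
    [Fintype (G ⧸ M)] [DecidableEq (G ⧸ M)] :
    alternatingGroup (G ⧸ M) ≤ (MulAction.toPermHom G (G ⧸ M)).range := by
  have hcard : Nat.card (G ⧸ M) = n := hn
  set e : (G ⧸ M) ≃ Fin n := Finite.equivFinOfCardEq hcard with he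
  set P' : Subgroup (Equiv.Perm (Fin n)) :=
    (MulAction.toPermHom G (G ⧸ M)).range.map (e.permCongrHom : _ →* _) with hP'
  have hprim := isPreprimitive_quotient M hM
  let φ : G → P' := fun g => ⟨e.permCongrHom (MulAction.toPermHom G (G ⧸ M) g),
    ⟨_, ⟨g, rfl⟩, rfl⟩⟩
  let f : (G ⧸ M) →ₑ[φ] Fin n :=
    { toFun := e
      map_smul' := by
        intro g x
        show e (g • x) = e.permCongrHom (MulAction.toPermHom G (G ⧸ M) g) (e x)
        simp [Equiv.permCongrHom] }
  have hprim' : IsPreprimitive P' (Fin n) := IsPreprimitive.of_surjective (f := f) e.surjective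
  have h1 := hA P' hprim'
  intro π hπ
  have h2 : e.permCongrHom π ∈ alternatingGroup (Fin n) := by
    rw [Equiv.Perm.mem_alternatingGroup] at hπ ⊢
    show Equiv.Perm.sign (e.permCongr π) = 1
    rw [Equiv.Perm.sign_permCongr]; exact hπ
  obtain ⟨ρ, hρ, hρπ⟩ := h1 h2
  have : ρ = π := e.permCongrHom.injective hρπ
  rw [← this]; exact hρ

omit [Finite G] in
open scoped Pointwise in
theorem isCoatom_set_stabilizer {Ω : Type*} [MulAction G Ω] [Fintype Ω] [DecidableEq Ω]
    (halt : alternatingGroup Ω ≤ (MulAction.toPermHom G Ω).range) {B : Set Ω} (hB : B.Nonempty)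
    (hBc : Bᶜ.Nonempty) (hcard : Nat.card Ω ≠ 2 * B.ncard) :
    IsCoatom (stabilizer G B) := by
  set φ := MulAction.toPermHom G Ω with hφ
  have hsm : ∀ g : G, φ g • B = g • B := by
    intro g
    ext x
    simp only [Set.mem_smul_set]
    constructor
    · rintro ⟨y, hy, rfl⟩
      exact ⟨y, hy, rfl⟩
    · rintro ⟨y, hy, rfl⟩
      exact ⟨y, hy, rfl⟩
  by_cases htop : φ.range = ⊤
  · have hsurj : Function.Surjective φ := MonoidHom.range_eq_top.mp htop
    have h1 : stabilizer G B = (stabilizer (Equiv.Perm Ω) B).comap φ := by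
      ext g
      rw [Subgroup.mem_comap, mem_stabilizer_iff, mem_stabilizer_iff, hsm]
    rw [h1]
    exact Subgroup.isCoatom_comap_of_surjective hsurj
      (Equiv.Perm.isCoatom_stabilizer hB hBc hcard)
  · have heven : ∀ g : G, φ g ∈ alternatingGroup Ω := by
      intro g
      by_contra hodd
      apply htop
      rw [eq_top_iff]
      intro τ _
      by_cases hτ : τ ∈ alternatingGroup Ω
      · exact halt hτ
      · have h2 : τ * (φ g)⁻¹ ∈ alternatingGroup Ω := by
          rw [Equiv.Perm.mem_alternatingGroup] at hτ hodd ⊢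
          rw [map_mul, map_inv]
          rcases Int.units_eq_one_or (Equiv.Perm.sign τ) with h3 | h3
          · exact absurd h3 hτ
          · rcases Int.units_eq_one_or (Equiv.Perm.sign (φ g)) with h4 | h4
            · exact absurd h4 hodd
            · rw [h3, h4]; rfl
        have h3 : τ = τ * (φ g)⁻¹ * φ g := by group
        rw [h3]
        exact Subgroup.mul_mem _ (halt h2) ⟨g, rfl⟩
    set φ' : G →* alternatingGroup Ω := φ.codRestrict _ heven with hφ'
    have hsurj : Function.Surjective φ' := by
      rintro ⟨π, hπ⟩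
      obtain ⟨g, hg⟩ := halt hπ
      exact ⟨g, Subtype.ext hg⟩
    have h1 : stabilizer G B = (stabilizer (alternatingGroup Ω) B).comap φ' := by
      ext g
      rw [Subgroup.mem_comap, mem_stabilizer_iff, mem_stabilizer_iff, ← hsm]
      rfl
    rw [h1]
    exact Subgroup.isCoatom_comap_of_surjective hsurj
      (alternatingGroup.isCoatom_stabilizer hB hBc hcard)

end Cfsg.Agent.Helper28.SecMax
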