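import Mathlib
import Cfsg.Agent.Helper28.SecMax2

set_option autoImplicit false

namespace Cfsg.Agent.Helper28.SecMax

open MulAction
open scoped Pointwise

variable {G : Type*} [Group G] [Finite G]

theorem second_max (n : ℕ) (hodd : Odd n)
    (hA : ∀ P : Subgroup (Equiv.Perm (Fin n)), MulAction.IsPreprimitive P (Fin n) →
      alternatingGroup (Fin n) ≤ P)
    (M : Subgroup G) (hM : IsCoatom M) (hn : M.index = n) (H : Subgroup G) (hHM : H ≤ M)
    (hmax : IsCoatom (H.subgroupOf M)) (K : Subgroup G) (hK : IsCoatom K) (hHK : H ≤ K) :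
    IsCoatom (H.subgroupOf K) := by
  classical
  by_cases hKM : K = M
  · rw [hKM]; exact hmax
  have hMK : ¬ M ≤ K := by
    intro hle
    rcases eq_or_lt_of_le hle with h | h
    · exact hKM h.symm
    · exact hK.1 (hM.2 K h)
  have hKM' : K ⊓ M = H := by
    rcases eq_or_eq_of_coatom hmax (le_inf hHK hHM) inf_le_right with h | h
    · exact h
    · exfalso
      apply hMK
      rw [← h]; exact inf_le_left
  have hne : H ≠ K := by
    intro h
    apply hKM
    have hle : K ≤ M := by rw [← h]; exact hHM
    rcases eq_or_lt_of_le hle with h' | h'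
    · exact h'
    · exact absurd (hK.2 M h') hM.1
  apply coatom_of_forall hHK hne
  intro L hHL hLK
  by_contra hcon
  push Not at hcon
  obtain ⟨hLH, hLK'⟩ := hcon
  have hLM : ¬ L ≤ M := by
    intro hle
    apply hLH
    apply le_antisymm _ hHL
    rw [← hKM']; exact le_inf hLK hle
  by_cases hNK : M.normalCore ≤ K
  · -- the action on cosets of `M`
    have hNH : M.normalCore ≤ H := by
      rw [← hKM']; exact le_inf hNK (Subgroup.normalCore_le M)
    let _ : Fintype (G ⧸ M) := Fintype.ofFinite _
    set a : G ⧸ M := ((1 : G) : G ⧸ M) with ha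
    have hstab : stabilizer G a = M := stabilizer_quotient M
    set B : Set (G ⧸ M) := {x | ∃ l ∈ L, l • a = x} with hB
    have haB : a ∈ B := ⟨1, L.one_mem, one_smul _ _⟩
    have hBne : B.Nonempty := ⟨a, haB⟩
    have hBc : Bᶜ.Nonempty := by
      obtain ⟨k, hkK, hkL⟩ := SetLike.not_le_iff_exists.mp
        (fun hle : K ≤ L => hLK' (le_antisymm hLK hle))
      refine ⟨k • a, ?_⟩
      rintro ⟨l, hl, hla⟩
      apply hkL
      have h1 : l⁻¹ * k ∈ stabilizer G a := by
        rw [mem_stabilizer_iff, mul_smul, ← hla, inv_smul_smul]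
      rw [hstab] at h1
      have h2 : l⁻¹ * k ∈ K ⊓ M := ⟨K.mul_mem (K.inv_mem (hLK hl)) hkK, h1⟩
      rw [hKM'] at h2
      have h3 := L.mul_mem hl (hHL h2)
      rwa [mul_inv_cancel_left] at h3
    have hcard : Nat.card (G ⧸ M) ≠ 2 * B.ncard := by
      have h1 : Nat.card (G ⧸ M) = n := hn
      rw [h1]
      obtain ⟨m, hm⟩ := hodd
      omega
    have halt := alt_le_range n hA M hM hn
    have hco := isCoatom_set_stabilizer halt hBne hBc hcard
    have hLst : L ≤ stabilizer G B := by
      intro l hl
      rw [mem_stabilizer_iff]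
      ext x
      constructor
      · rintro ⟨y, ⟨l', hl', rfl⟩, rfl⟩
        exact ⟨l * l', L.mul_mem hl hl', mul_smul _ _ _⟩
      · rintro ⟨l', hl', rfl⟩
        refine ⟨(l⁻¹ * l') • a, ⟨l⁻¹ * l', L.mul_mem (L.inv_mem hl) hl', rfl⟩, ?_⟩
        show l • ((l⁻¹ * l') • a) = l' • a
        rw [← mul_smul, mul_inv_cancel_left]
    have hJ : stabilizer G B ⊓ M = H := by
      have hHJ : H ≤ stabilizer G B ⊓ M := le_inf (hHL.trans hLst) hHM
      rcases eq_or_eq_of_coatom hmax hHJ inf_le_right with h | h
      · exact h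
      · exfalso
        have hle : M ≤ stabilizer G B := by
          intro x hx
          have : x ∈ stabilizer G B ⊓ M := by rw [h]; exact hx
          exact this.1
        rcases eq_or_lt_of_le hle with h' | h'
        · apply hLM
          intro x hx
          have : x ∈ stabilizer G B := hLst hx
          rw [← h'] at this
          exact this
        · exact hco.1 (hM.2 _ h')
    have hstL : stabilizer G B ≤ L := by
      intro g hg
      have h1 : g • a ∈ B := by
        have : g • a ∈ g • B := Set.smul_mem_smul_set haB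
        rwa [mem_stabilizer_iff.mp hg] at this
      obtain ⟨l, hl, hla⟩ := h1
      have h2 : l⁻¹ * g ∈ stabilizer G a := by
        rw [mem_stabilizer_iff, mul_smul, ← hla, inv_smul_smul]
      rw [hstab] at h2
      have h3 : l⁻¹ * g ∈ stabilizer G B ⊓ M :=
        ⟨Subgroup.mul_mem _ (Subgroup.inv_mem _ (hLst hl)) hg, h2⟩
      rw [hJ] at h3
      have h4 := L.mul_mem hl (hHL h3)
      rwa [mul_inv_cancel_left] at h4
    have hLeq : L = stabilizer G B := le_antisymm hLst hstL
    rw [← hLeq] at hco
    exact hK.1 (hco.2 K (lt_of_le_of_ne hLK hLK'))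
  · -- the normal core is not in `K`
    have hHN : H ⊔ M.normalCore = M := by
      rcases eq_or_eq_of_coatom hmax le_sup_left (sup_le hHM (Subgroup.normalCore_le M)) with h | h
      · exfalso
        apply hNK
        have : M.normalCore ≤ H := by rw [← h]; exact le_sup_right
        exact this.trans hHK
      · exact h
    have hLN : L ⊔ M.normalCore = ⊤ := by
      apply hM.2
      refine lt_of_le_of_ne ?_ ?_
      · calc M = H ⊔ M.normalCore := hHN.symm
          _ ≤ L ⊔ M.normalCore := sup_le_sup_right hHL _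
      · intro h
        apply hLM
        rw [h]; exact le_sup_left
    apply hLK'
    apply le_antisymm hLK
    intro k hk
    have h1 : k ∈ L ⊔ M.normalCore := by rw [hLN]; trivial
    rw [← SetLike.mem_coe, Subgroup.mul_normal, Set.mem_mul] at h1
    obtain ⟨l, hl, ν, hν, rfl⟩ := h1
    have h2 : ν ∈ K := by
      have := K.mul_mem (K.inv_mem (hLK hl)) hk
      rwa [inv_mul_cancel_left] at this
    have h3 : ν ∈ K ⊓ M := ⟨h2, Subgroup.normalCore_le M hν⟩
    rw [hKM'] at h3
    exact L.mul_mem hl (hHL h3)

end Cfsg.Agent.Helper28.SecMax
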