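import Mathlib
import Cfsg.Agent.Helper28.PgoAut4

set_option autoImplicit false
set_option linter.unusedSectionVars false
set_option linter.style.haveILetI false

/-! Semisimple elements of odd prime order: the norm equation in the cyclotomic quotient. -/

namespace Cfsg.Agent.Helper28.SSC

open Polynomial

/-- a nondegenerate binary form over a finite reduced ring (2 invertible) represents everything -/
theorem exists_binary_ring {S : Type*} [CommRing S] [Finite S] [IsReduced S]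
    (h2 : IsUnit (2 : S)) (δ : S) (hδ : IsUnit δ) (c : S) :
    ∃ x y : S, x ^ 2 - δ * y ^ 2 = c := by
  classical
  have key : ∀ m : MaximalSpectrum S, ∃ x y : S ⧸ m.asIdeal,
      x ^ 2 - (Ideal.Quotient.mk m.asIdeal δ) * y ^ 2 = Ideal.Quotient.mk m.asIdeal c := by
    intro m
    haveI := m.isMaximal
    letI : Field (S ⧸ m.asIdeal) := Ideal.Quotient.field m.asIdeal
    haveI : Finite (S ⧸ m.asIdeal) :=
      Finite.of_surjective (Ideal.Quotient.mk m.asIdeal) Ideal.Quotient.mk_surjective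
    haveI : Fintype (S ⧸ m.asIdeal) := Fintype.ofFinite _
    have h2' : (2 : S ⧸ m.asIdeal) ≠ 0 := by
      have := h2.map (Ideal.Quotient.mk m.asIdeal)
      rw [map_ofNat] at this
      exact this.ne_zero
    have hδ' : Ideal.Quotient.mk m.asIdeal δ ≠ 0 :=
      (hδ.map (Ideal.Quotient.mk m.asIdeal)).ne_zero
    have h4 : (4 : S ⧸ m.asIdeal) ≠ 0 := by
      have : (4 : S ⧸ m.asIdeal) = 2 * 2 := by norm_num
      rw [this]; exact mul_ne_zero h2' h2'
    obtain ⟨x, y, hxy⟩ := PG.exists_binary_eq (F := S ⧸ m.asIdeal) h2' 0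
      (-(Ideal.Quotient.mk m.asIdeal δ)) (by
        rw [zero_pow (by norm_num), sub_zero]
        exact mul_ne_zero h4 (neg_ne_zero.2 hδ')) (Ideal.Quotient.mk m.asIdeal c)
    exact ⟨x, y, by linear_combination hxy⟩
  choose xs ys hxy using key
  refine ⟨(IsArtinianRing.equivPi S).symm xs, (IsArtinianRing.equivPi S).symm ys, ?_⟩
  apply (IsArtinianRing.equivPi S).injective
  funext m
  rw [map_sub, map_mul, map_pow, map_pow, AlgEquiv.apply_symm_apply, AlgEquiv.apply_symm_apply]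
  simp only [Pi.sub_apply, Pi.mul_apply, Pi.pow_apply, IsArtinianRing.equivPi_apply]
  exact hxy m


section cyc

variable {F : Type*} [Field F]

/-- `1 + X + ... + X^(r-1)` -/
noncomputable def Phi (F : Type*) [Field F] (r : ℕ) : F[X] := ∑ i ∈ Finset.range r, X ^ i

theorem Phi_mul (r : ℕ) : (X - 1) * Phi F r = X ^ r - 1 := mul_geom_sum X r

theorem Phi_monic {r : ℕ} (hr : r ≠ 0) : (Phi F r).Monic := Polynomial.monic_geom_sum_X hr

theorem Phi_dvd (r : ℕ) : Phi F r ∣ X ^ r - 1 := ⟨X - 1, by rw [← Phi_mul]; ring⟩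

theorem Phi_squarefree {r : ℕ} (hrF : (r : F) ≠ 0) : Squarefree (Phi F r) := by
  have h1 : (X ^ r - C (1 : F)).Separable := separable_X_pow_sub_C 1 hrF one_ne_zero
  rw [map_one] at h1
  exact h1.squarefree.squarefree_of_dvd (Phi_dvd r)

theorem Phi_eval_one (r : ℕ) : (Phi F r).eval 1 = (r : F) := by
  unfold Phi
  rw [Polynomial.eval_finsetSum]
  simp

theorem Phi_eval_neg_one {r : ℕ} (hodd : Odd r) (h2 : (2 : F) ≠ 0) : (Phi F r).eval (-1) = 1 := by
  have h := congrArg (Polynomial.eval (-1 : F)) (Phi_mul (F := F) r)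
  simp only [Polynomial.eval_mul, Polynomial.eval_sub, Polynomial.eval_X, Polynomial.eval_one,
    Polynomial.eval_pow] at h
  rw [hodd.neg_one_pow] at h
  have h3 : (-2 : F) * ((Phi F r).eval (-1) - 1) = 0 := by linear_combination h
  rcases mul_eq_zero.1 h3 with h4 | h4
  · exact absurd (neg_eq_zero.1 h4) h2
  · exact sub_eq_zero.1 h4


theorem RR_finite [Finite F] {r : ℕ} (hr : r ≠ 0) : Finite (AdjoinRoot (Phi F r)) := by
  haveI := (Phi_monic (F := F) hr).finite_adjoinRoot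
  exact Module.finite_of_finite F

theorem RR_reduced {r : ℕ} (hrF : (r : F) ≠ 0) : IsReduced (AdjoinRoot (Phi F r)) := by
  constructor
  intro x hx
  obtain ⟨n, hn⟩ := hx
  induction x using AdjoinRoot.induction_on with
  | ih a =>
    rw [← map_pow, AdjoinRoot.mk_eq_zero] at hn
    rw [AdjoinRoot.mk_eq_zero]
    by_cases h0 : n = 0
    · subst h0
      rw [pow_zero] at hn
      exact dvd_trans hn (one_dvd _)
    · exact ((Phi_squarefree hrF).dvd_pow_iff_dvd h0).1 hn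

/-- the root -/
noncomputable abbrev zz (F : Type*) [Field F] (r : ℕ) : AdjoinRoot (Phi F r) := AdjoinRoot.root (Phi F r)

theorem zz_sum (r : ℕ) : ∑ i ∈ Finset.range r, (zz F r) ^ i = 0 := by
  have h : aeval (zz F r) (Phi F r) = 0 := by rw [AdjoinRoot.aeval_eq, AdjoinRoot.mk_self]
  have h' : aeval (zz F r) (∑ i ∈ Finset.range r, (X : F[X]) ^ i) = 0 := h
  rw [map_sum] at h'
  simp only [map_pow, Polynomial.aeval_X] at h'
  exact h'

theorem zz_pow (r : ℕ) : (zz F r) ^ r = 1 := by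
  have h := mul_geom_sum (zz F r) r
  rw [zz_sum, mul_zero] at h
  exact (sub_eq_zero.1 h.symm)


theorem zz_isUnit {r : ℕ} (hr : r ≠ 0) : IsUnit (zz F r) := by
  apply IsUnit.of_mul_eq_one (zz F r ^ (r - 1))
  rw [← pow_succ', Nat.sub_add_cancel (Nat.one_le_iff_ne_zero.2 hr), zz_pow]

theorem zz_sub_one_isUnit {r : ℕ} (hrF : (r : F) ≠ 0) : IsUnit (zz F r - 1) := by
  obtain ⟨u, hu⟩ := Polynomial.X_sub_C_dvd_sub_C_eval (a := (1 : F)) (p := Phi F r)
  rw [Phi_eval_one] at hu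
  have h := congrArg (AdjoinRoot.mk (Phi F r)) hu
  rw [map_sub, AdjoinRoot.mk_self, zero_sub, map_mul, map_sub, AdjoinRoot.mk_X, AdjoinRoot.mk_C,
    AdjoinRoot.mk_C, map_one] at h
  apply IsUnit.of_mul_eq_one (-(AdjoinRoot.of (Phi F r) ((r : F)⁻¹)) * AdjoinRoot.mk (Phi F r) u)
  have h1 : AdjoinRoot.of (Phi F r) ((r : F)⁻¹) * AdjoinRoot.of (Phi F r) (r : F) = 1 := by
    rw [← map_mul, inv_mul_cancel₀ hrF, map_one]
  linear_combination (AdjoinRoot.of (Phi F r) ((r : F)⁻¹)) * h + h1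

theorem zz_add_one_isUnit {r : ℕ} (hodd : Odd r) (h2 : (2 : F) ≠ 0) : IsUnit (zz F r + 1) := by
  obtain ⟨u, hu⟩ := Polynomial.X_sub_C_dvd_sub_C_eval (a := (-1 : F)) (p := Phi F r)
  rw [Phi_eval_neg_one hodd h2] at hu
  have h := congrArg (AdjoinRoot.mk (Phi F r)) hu
  rw [map_sub, AdjoinRoot.mk_self, zero_sub, map_mul, map_sub, AdjoinRoot.mk_X, AdjoinRoot.mk_C,
    AdjoinRoot.mk_C, map_one, map_neg, map_one] at h
  apply IsUnit.of_mul_eq_one (-(AdjoinRoot.mk (Phi F r) u))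
  linear_combination h


theorem zz_pow_pred_mul {r : ℕ} (hr : r ≠ 0) : zz F r ^ (r - 1) * zz F r = 1 := by
  rw [← pow_succ, Nat.sub_add_cancel (Nat.one_le_iff_ne_zero.2 hr), zz_pow]

theorem zz_inv_sum {r : ℕ} (hr : r ≠ 0) (hrF : (r : F) ≠ 0) :
    ∑ i ∈ Finset.range r, (zz F r ^ (r - 1)) ^ i = 0 := by
  have h := mul_geom_sum (zz F r ^ (r - 1)) r
  have h1 : (zz F r ^ (r - 1)) ^ r = 1 := by
    rw [← pow_mul, mul_comm, pow_mul, zz_pow, one_pow]
  rw [h1, sub_self] at h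
  have h2 : zz F r ^ (r - 1) - 1 = -(zz F r ^ (r - 1)) * (zz F r - 1) := by
    linear_combination zz_pow_pred_mul (F := F) hr
  have hu : IsUnit (zz F r ^ (r - 1) - 1) := by
    rw [h2]
    exact ((zz_isUnit hr).pow _).neg.mul (zz_sub_one_isUnit hrF)
  exact (hu.mul_right_eq_zero).1 h

/-- the involution `ζ ↦ ζ⁻¹` -/
noncomputable def sig {r : ℕ} (hr : r ≠ 0) (hrF : (r : F) ≠ 0) :
    AdjoinRoot (Phi F r) →ₐ[F] AdjoinRoot (Phi F r) :=
  AdjoinRoot.liftAlgHom (Phi F r) (Algebra.ofId F (AdjoinRoot (Phi F r))) (zz F r ^ (r - 1)) (by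
    have h := zz_inv_sum (F := F) hr hrF
    show Polynomial.eval₂ _ _ (∑ i ∈ Finset.range r, (X : F[X]) ^ i) = 0
    rw [Polynomial.eval₂_finsetSum]
    simpa using h)

theorem sig_zz {r : ℕ} (hr : r ≠ 0) (hrF : (r : F) ≠ 0) :
    sig hr hrF (zz F r) = zz F r ^ (r - 1) :=
  AdjoinRoot.liftAlgHom_root _ _ _ _

theorem sig_mk {r : ℕ} (hr : r ≠ 0) (hrF : (r : F) ≠ 0) (a : F[X]) :
    sig hr hrF (AdjoinRoot.mk (Phi F r) a) = AdjoinRoot.mk (Phi F r) (a.comp (X ^ (r - 1))) := by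
  have h2 : AdjoinRoot.mk (Phi F r) (a.comp (X ^ (r - 1))) = aeval (zz F r ^ (r - 1)) a := by
    rw [← AdjoinRoot.aeval_eq, Polynomial.aeval_comp, map_pow, Polynomial.aeval_X]
  rw [h2]
  rfl

theorem sig_sig {r : ℕ} (hr : 2 ≤ r) (hrF : (r : F) ≠ 0) (x : AdjoinRoot (Phi F r)) :
    sig (by omega) hrF (sig (by omega) hrF x) = x := by
  have h : (sig (by omega) hrF).comp (sig (by omega) hrF) =
      AlgHom.id F (AdjoinRoot (Phi F r)) := by
    apply AdjoinRoot.algHom_ext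
    rw [AlgHom.comp_apply, sig_zz, map_pow, sig_zz, AlgHom.id_apply, ← pow_mul]
    have h1 : (r - 1) * (r - 1) = r * (r - 2) + 1 := by
      obtain ⟨k, rfl⟩ : ∃ k, r = k + 2 := ⟨r - 2, by omega⟩
      simp only [Nat.add_sub_cancel]
      have : k + 2 - 1 = k + 1 := by omega
      rw [this]; ring
    rw [h1, pow_succ, pow_mul, zz_pow, one_pow, one_mul]
  exact congrArg (fun f => f x) h


/-- **the norm equation**: a polynomial `a` with `a(X) a(X⁻¹) ≡ μ` modulo `1 + X + ⋯ + X^(r-1)` -/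
theorem exists_norm_poly [Finite F] {r : ℕ} (hr : 2 ≤ r) (hodd : Odd r) (hrF : (r : F) ≠ 0)
    (h2 : (2 : F) ≠ 0) (μ : F) :
    ∃ a : F[X], Phi F r ∣ a * a.comp (X ^ (r - 1)) - C μ := by
  have hr0 : r ≠ 0 := by omega
  haveI : Finite (AdjoinRoot (Phi F r)) := RR_finite hr0
  haveI : IsReduced (AdjoinRoot (Phi F r)) := RR_reduced hrF
  set σ := sig hr0 hrF with hσ
  have hσσ : ∀ x, σ (σ x) = x := sig_sig hr hrF
  set ζ := zz F r with hζ
  set y := ζ ^ (r - 1) with hy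
  have hσζ : σ ζ = y := sig_zz hr0 hrF
  have hyζ : y * ζ = 1 := zz_pow_pred_mul hr0
  have hσy : σ y = ζ := by rw [← hσζ, hσσ]
  set S : Subring (AdjoinRoot (Phi F r)) :=
    (σ : AdjoinRoot (Phi F r) →+* AdjoinRoot (Phi F r)).eqLocus (RingHom.id _) with hS
  have hmem : ∀ x, x ∈ S ↔ σ x = x := fun x => Iff.rfl
  haveI : Finite S := Subtype.finite
  haveI : IsReduced S := isReduced_of_injective S.subtype Subtype.coe_injective
  set β := ζ - y with hβ
  have hσβ : σ β = -β := by rw [hβ, map_sub, hσζ, hσy]; ring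
  have hβu : IsUnit β := by
    have : β = y * ((ζ - 1) * (ζ + 1)) := by
      rw [hβ]; linear_combination (-ζ) * hyζ
    rw [this]
    exact ((zz_isUnit hr0).pow _).mul ((zz_sub_one_isUnit hrF).mul (zz_add_one_isUnit hodd h2))
  obtain ⟨β', hβ'⟩ := hβu.exists_right_inv
  have hσβ' : σ β' = -β' := by
    have h1 : σ β * σ β' = 1 := by rw [← map_mul, hβ', map_one]
    rw [hσβ] at h1
    have h3 : β' * β = 1 := by rw [mul_comm]; exact hβ'
    calc σ β' = (β' * β) * σ β' := by rw [h3, one_mul]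
      _ = -β' * (-β * σ β') := by ring
      _ = -β' := by rw [h1, mul_one]
  have hδS : β ^ 2 ∈ S := by rw [hmem, map_pow, hσβ]; ring
  have hδ'S : β' ^ 2 ∈ S := by rw [hmem, map_pow, hσβ']; ring
  have hδu : IsUnit (⟨β ^ 2, hδS⟩ : S) := by
    apply IsUnit.of_mul_eq_one (⟨β' ^ 2, hδ'S⟩ : S)
    apply Subtype.ext
    show β ^ 2 * β' ^ 2 = 1
    rw [← mul_pow, hβ', one_pow]
  have hofS : ∀ c : F, algebraMap F (AdjoinRoot (Phi F r)) c ∈ S := by
    intro c
    rw [hmem]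
    exact σ.commutes c
  have h2u : IsUnit (2 : S) := by
    apply IsUnit.of_mul_eq_one (⟨algebraMap F (AdjoinRoot (Phi F r)) (2⁻¹), hofS _⟩ : S)
    apply Subtype.ext
    show (2 : AdjoinRoot (Phi F r)) * algebraMap F (AdjoinRoot (Phi F r)) (2⁻¹) = 1
    have : (2 : AdjoinRoot (Phi F r)) = algebraMap F (AdjoinRoot (Phi F r)) 2 := by
      rw [map_ofNat]
    rw [this, ← map_mul, mul_inv_cancel₀ h2, map_one]
  obtain ⟨x, z, hxz⟩ := exists_binary_ring (S := S) h2u ⟨β ^ 2, hδS⟩ hδu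
    ⟨algebraMap F (AdjoinRoot (Phi F r)) μ, hofS μ⟩
  have hxz' : (x : AdjoinRoot (Phi F r)) ^ 2 - β ^ 2 * (z : AdjoinRoot (Phi F r)) ^ 2 =
      algebraMap F (AdjoinRoot (Phi F r)) μ := congrArg Subtype.val hxz
  have hσx : σ (x : AdjoinRoot (Phi F r)) = x := (hmem _).1 x.2
  have hσz : σ (z : AdjoinRoot (Phi F r)) = z := (hmem _).1 z.2
  obtain ⟨a, ha⟩ := AdjoinRoot.mk_surjective ((x : AdjoinRoot (Phi F r)) + (z : AdjoinRoot (Phi F r)) * β)
  refine ⟨a, ?_⟩
  rw [← AdjoinRoot.mk_eq_zero, map_sub, map_mul, ← sig_mk hr0 hrF, ha, AdjoinRoot.mk_C, ← hσ,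
    map_add, map_mul, hσx, hσz, hσβ]
  have : (AdjoinRoot.of (Phi F r)) μ = algebraMap F (AdjoinRoot (Phi F r)) μ := rfl
  rw [this, ← hxz']
  ring

end cyc

end Cfsg.Agent.Helper28.SSC
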