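import Mathlib
import Cfsg.Agent.Helper28.SemiCls1
import Cfsg.Agent.Helper28.NondegMax1

set_option autoImplicit false
set_option linter.unusedSectionVars false
set_option linter.style.haveILetI false

/-! Semisimple isometries of odd prime order: the fixed space and its complement. -/

namespace Cfsg.Agent.Helper28.SSC

open Matrix Module Polynomial Cfsg.Agent.Helper28.Spin Cfsg.Agent.Helper28.Sg
  Cfsg.Agent.Helper28.NDM

variable {F : Type*} [Field F] [Fintype F] {ι : Type} [Fintype ι] [DecidableEq ι]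

/-- an isometry with `M ^ r = 1`, `r` odd and invertible in `F` -/
structure SSData (Q : QuadraticForm F (ι → F)) (M : Matrix ι ι F) (r : ℕ) : Prop where
  isom : ∀ x, Q (M *ᵥ x) = Q x
  pow : M ^ r = 1
  two_le : 2 ≤ r
  odd : Odd r
  cast_ne : (r : F) ≠ 0

variable {Q : QuadraticForm F (ι → F)} {M : Matrix ι ι F} {r : ℕ}

namespace SSData

variable (D : SSData Q M r)
include D

theorem r_ne : r ≠ 0 := by have := D.two_le; omega

theorem B_M (x y : ι → F) : B Q (M *ᵥ x) (M *ᵥ y) = B Q x y := Spin.polar_isom Q D.isom x y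

theorem M_mul_inv : M * M ^ (r - 1) = 1 := by
  rw [← pow_succ', Nat.sub_add_cancel (by have := D.two_le; omega), D.pow]

theorem inv_mul_M : M ^ (r - 1) * M = 1 := by
  rw [← pow_succ, Nat.sub_add_cancel (by have := D.two_le; omega), D.pow]

theorem B_M_left (x y : ι → F) : B Q (M *ᵥ x) y = B Q x (M ^ (r - 1) *ᵥ y) := by
  have h := D.B_M x (M ^ (r - 1) *ᵥ y)
  rw [Matrix.mulVec_mulVec, D.M_mul_inv, Matrix.one_mulVec] at h
  exact h

theorem B_pow_left (n : ℕ) (x y : ι → F) :
    B Q (M ^ n *ᵥ x) y = B Q x ((M ^ (r - 1)) ^ n *ᵥ y) := by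
  induction n generalizing x y with
  | zero => simp
  | succ n ih =>
    rw [pow_succ, ← Matrix.mulVec_mulVec, ih, D.B_M_left, Matrix.mulVec_mulVec, ← pow_succ']

/-- the adjoint of a polynomial in `M` -/
theorem B_aeval (a : F[X]) (x y : ι → F) :
    B Q (aeval M a *ᵥ x) y = B Q x (aeval M (a.comp (X ^ (r - 1))) *ᵥ y) := by
  induction a using Polynomial.induction_on' with
  | add p q hp hq =>
    rw [map_add, Matrix.add_mulVec, Polynomial.add_comp, map_add, Matrix.add_mulVec]
    simp only [B] at hp hq ⊢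
    rw [QuadraticMap.polar_add_left, QuadraticMap.polar_add_right, hp, hq]
  | monomial n c =>
    rw [Polynomial.aeval_monomial, Polynomial.monomial_comp, map_mul, map_pow, map_pow,
      Polynomial.aeval_X, Polynomial.aeval_C]
    rw [Algebra.algebraMap_eq_smul_one, Matrix.smul_mul, Matrix.one_mul, Matrix.smul_mul,
      Matrix.one_mul, Matrix.smul_mulVec, Matrix.smul_mulVec]
    simp only [B]
    rw [QuadraticMap.polar_smul_left, QuadraticMap.polar_smul_right]
    congr 1
    exact D.B_pow_left n x y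


/-- the sum of the powers of `M` -/
theorem aeval_Phi : aeval M (Phi F r) = ∑ i ∈ Finset.range r, M ^ i := by
  unfold Phi
  rw [map_sum]
  simp

theorem M_mul_sum : M * ∑ i ∈ Finset.range r, M ^ i = ∑ i ∈ Finset.range r, M ^ i := by
  have h := mul_geom_sum M r
  rw [D.pow, sub_self, sub_mul, one_mul] at h
  exact sub_eq_zero.1 h

theorem sum_mul_M : (∑ i ∈ Finset.range r, M ^ i) * M = ∑ i ∈ Finset.range r, M ^ i := by
  have h := geom_sum_mul M r
  rw [D.pow, sub_self, mul_sub, mul_one] at h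
  exact sub_eq_zero.1 h

theorem pow_mul_sum (n : ℕ) :
    M ^ n * ∑ i ∈ Finset.range r, M ^ i = ∑ i ∈ Finset.range r, M ^ i := by
  induction n with
  | zero => rw [pow_zero, one_mul]
  | succ n ih => rw [pow_succ, mul_assoc, D.M_mul_sum, ih]

end SSData

/-- the projection onto the fixed space -/
noncomputable def ee (F : Type*) [Field F] {ι : Type} [Fintype ι] [DecidableEq ι]
    (M : Matrix ι ι F) (r : ℕ) : Matrix ι ι F := (r : F)⁻¹ • ∑ i ∈ Finset.range r, M ^ i

namespace SSData

variable (D : SSData Q M r)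
include D

theorem M_mul_ee : M * ee F M r = ee F M r := by
  unfold ee
  rw [Matrix.mul_smul, D.M_mul_sum]

theorem ee_mul_M : ee F M r * M = ee F M r := by
  unfold ee
  rw [Matrix.smul_mul, D.sum_mul_M]

theorem ee_mul_ee : ee F M r * ee F M r = ee F M r := by
  have h : (∑ i ∈ Finset.range r, M ^ i) * ∑ i ∈ Finset.range r, M ^ i =
      (r : F) • ∑ i ∈ Finset.range r, M ^ i := by
    rw [Finset.sum_mul]
    rw [Finset.sum_congr rfl (fun i _ => D.pow_mul_sum i)]
    rw [Finset.sum_const, Finset.card_range, Nat.cast_smul_eq_nsmul]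
  unfold ee
  rw [Matrix.smul_mul, Matrix.mul_smul, h, smul_smul, smul_smul, mul_assoc,
    inv_mul_cancel₀ D.cast_ne, mul_one]

theorem ee_fix {x : ι → F} (hx : M *ᵥ x = x) : ee F M r *ᵥ x = x := by
  have h : ∀ n : ℕ, M ^ n *ᵥ x = x := by
    intro n
    induction n with
    | zero => simp
    | succ n ih => rw [pow_succ, ← Matrix.mulVec_mulVec, hx, ih]
  unfold ee
  rw [Matrix.smul_mulVec, Matrix.sum_mulVec]
  rw [Finset.sum_congr rfl (fun i _ => h i), Finset.sum_const, Finset.card_range,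
    ← Nat.cast_smul_eq_nsmul F, smul_smul, inv_mul_cancel₀ D.cast_ne, one_smul]

theorem M_ee (z : ι → F) : M *ᵥ (ee F M r *ᵥ z) = ee F M r *ᵥ z := by
  rw [Matrix.mulVec_mulVec, D.M_mul_ee]

theorem ee_M (z : ι → F) : ee F M r *ᵥ (M *ᵥ z) = ee F M r *ᵥ z := by
  rw [Matrix.mulVec_mulVec, D.ee_mul_M]

theorem Phi_eq_ee : aeval M (Phi F r) = (r : F) • ee F M r := by
  rw [D.aeval_Phi]
  unfold ee
  rw [smul_smul, mul_inv_cancel₀ D.cast_ne, one_smul]

/-- `1 - e` is divisible by `M - 1` -/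
theorem exists_one_sub_ee : ∃ U : Matrix ι ι F, 1 - ee F M r = (M - 1) * U := by
  obtain ⟨u, hu⟩ := Polynomial.X_sub_C_dvd_sub_C_eval (a := (1 : F)) (p := Phi F r)
  rw [Phi_eval_one] at hu
  have h := congrArg (aeval M) hu
  rw [map_sub, map_mul, map_sub, Polynomial.aeval_X, Polynomial.aeval_C, Polynomial.aeval_C,
    map_one, D.Phi_eq_ee, Algebra.algebraMap_eq_smul_one] at h
  refine ⟨-(r : F)⁻¹ • aeval M u, ?_⟩
  have h1 : -(r : F)⁻¹ * (r : F) = -1 := by rw [neg_mul, inv_mul_cancel₀ D.cast_ne]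
  rw [Matrix.mul_smul, ← h, smul_sub, smul_smul, smul_smul, h1, neg_one_smul, neg_one_smul]
  abel

theorem B_fix_perp {u : ι → F} (hu : M *ᵥ u = u) (z : ι → F) :
    B Q u ((1 - ee F M r) *ᵥ z) = 0 := by
  obtain ⟨U, hU⟩ := D.exists_one_sub_ee
  rw [hU, ← Matrix.mulVec_mulVec, Matrix.sub_mulVec, Matrix.one_mulVec]
  simp only [B]
  rw [QuadraticMap.polar_sub_right]
  have h := D.B_M u (U *ᵥ z)
  rw [hu] at h
  simp only [B] at h
  rw [h, sub_self]

theorem ee_add (z : ι → F) : ee F M r *ᵥ z + (1 - ee F M r) *ᵥ z = z := by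
  rw [Matrix.sub_mulVec, Matrix.one_mulVec]; abel

theorem B_ee_ee (x y : ι → F) : B Q (ee F M r *ᵥ x) y = B Q (ee F M r *ᵥ x) (ee F M r *ᵥ y) := by
  conv_lhs => rw [← D.ee_add y]
  simp only [B]
  rw [QuadraticMap.polar_add_right]
  have := D.B_fix_perp (D.M_ee x) y
  simp only [B] at this
  rw [this, add_zero]

theorem B_ee (x y : ι → F) : B Q (ee F M r *ᵥ x) y = B Q x (ee F M r *ᵥ y) := by
  rw [D.B_ee_ee x y, B_comm Q x, D.B_ee_ee y x, B_comm]

theorem Q_split (z : ι → F) : Q z = Q (ee F M r *ᵥ z) + Q ((1 - ee F M r) *ᵥ z) := by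
  conv_lhs => rw [← D.ee_add z]
  rw [Sg.Q_add, D.B_fix_perp (D.M_ee z), add_zero]

theorem ee_one_sub : ee F M r * (1 - ee F M r) = 0 := by
  rw [mul_sub, mul_one, D.ee_mul_ee, sub_self]

theorem Phi_one_sub : aeval M (Phi F r) * (1 - ee F M r) = 0 := by
  rw [D.Phi_eq_ee, Matrix.smul_mul, D.ee_one_sub, smul_zero]

end SSData

/-- the fixed space -/
def V1 (M : Matrix ι ι F) : Submodule F (ι → F) where
  carrier := {x | M *ᵥ x = x}
  add_mem' := by
    intro x y hx hy
    show M *ᵥ (x + y) = x + y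
    rw [Matrix.mulVec_add, hx, hy]
  zero_mem' := Matrix.mulVec_zero M
  smul_mem' := by
    intro c x hx
    show M *ᵥ (c • x) = c • x
    rw [Matrix.mulVec_smul, hx]

theorem mem_V1 (x : ι → F) : x ∈ V1 M ↔ M *ᵥ x = x := Iff.rfl

namespace SSData

variable (D : SSData Q M r)
include D

theorem ee_mem (z : ι → F) : ee F M r *ᵥ z ∈ V1 M := D.M_ee z

theorem V1_ndon (hQ : (QuadraticMap.polarBilin Q).Nondegenerate) : NDon Q (V1 M) := by
  intro x hx hx0
  by_contra hcon
  push Not at hcon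
  apply hx0
  apply hQ.1
  intro y
  show B Q x y = 0
  have h1 : B Q x y = B Q x (ee F M r *ᵥ y) := by
    conv_lhs => rw [← D.ee_fix hx]
    exact D.B_ee x y
  rw [h1]
  exact hcon _ (D.ee_mem y)

theorem inv_fix {x : ι → F} (hx : M *ᵥ x = x) : M ^ (r - 1) *ᵥ x = x := by
  conv_lhs => rw [← hx]
  rw [Matrix.mulVec_mulVec, D.inv_mul_M, Matrix.one_mulVec]

/-- a vector fixed by `M ^ 2` is fixed by `M` -/
theorem fix_of_sq {y : ι → F} (hy : M *ᵥ (M *ᵥ y) = y) : M *ᵥ y = y := by
  obtain ⟨t, ht⟩ := D.odd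
  have h : ∀ n : ℕ, (M * M) ^ n *ᵥ y = y := by
    intro n
    induction n with
    | zero => simp
    | succ n ih => rw [pow_succ, ← Matrix.mulVec_mulVec, ← Matrix.mulVec_mulVec, hy, ih]
  have h1 : M = (M * M) ^ (t + 1) := by
    rw [← pow_two, ← pow_mul]
    have : 2 * (t + 1) = r + 1 := by omega
    rw [this, pow_succ, D.pow, one_mul]
  conv_lhs => rw [h1]
  exact h (t + 1)

/-- the skew form `B(x, (M - M⁻¹) y)` -/
theorem skew_aux (x y : ι → F) :
    B Q x ((M - M ^ (r - 1)) *ᵥ y) = - B Q y ((M - M ^ (r - 1)) *ᵥ x) := by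
  rw [Matrix.sub_mulVec, Matrix.sub_mulVec]
  simp only [B]
  rw [QuadraticMap.polar_sub_right, QuadraticMap.polar_sub_right]
  have h1 : QuadraticMap.polar ⇑Q x (M *ᵥ y) = QuadraticMap.polar ⇑Q y (M ^ (r - 1) *ᵥ x) := by
    rw [QuadraticMap.polar_comm]; exact D.B_M_left y x
  have h2 : QuadraticMap.polar ⇑Q x (M ^ (r - 1) *ᵥ y) = QuadraticMap.polar ⇑Q y (M *ᵥ x) := by
    rw [QuadraticMap.polar_comm ⇑Q y]; exact (D.B_M_left x y).symm
  rw [h1, h2]; ring

theorem finrank_V1_add :
    finrank F (V1 M) + finrank F (LinearMap.ker (Matrix.toLin' (ee F M r))) = Fintype.card ι := by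
  have h : V1 M = LinearMap.range (Matrix.toLin' (ee F M r)) := by
    ext x
    rw [mem_V1, LinearMap.mem_range]
    constructor
    · intro hx
      exact ⟨x, by rw [Matrix.toLin'_apply]; exact D.ee_fix hx⟩
    · rintro ⟨z, rfl⟩
      rw [Matrix.toLin'_apply]
      exact D.M_ee z
  rw [h, LinearMap.finrank_range_add_finrank_ker, Module.finrank_fintype_fun_eq_card]

theorem even_finrank_ker (hQ : (QuadraticMap.polarBilin Q).Nondegenerate) (h2 : (2 : F) ≠ 0) :
    Even (finrank F (LinearMap.ker (Matrix.toLin' (ee F M r)))) := by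
  set V' := LinearMap.ker (Matrix.toLin' (ee F M r)) with hV'
  set k := finrank F V' with hk
  have hmemV' : ∀ x, x ∈ V' ↔ ee F M r *ᵥ x = 0 := by
    intro x
    rw [hV', LinearMap.mem_ker, Matrix.toLin'_apply]
  let b : Basis (Fin k) F V' := Module.finBasis F V'
  set N : Matrix ι ι F := M - M ^ (r - 1) with hN
  set A : Matrix (Fin k) (Fin k) F := Matrix.of fun i j => B Q (b i : ι → F) (N *ᵥ (b j : ι → F))
    with hA
  have hskew : Aᵀ = -A := by
    ext i j
    simp only [hA, Matrix.transpose_apply, Matrix.of_apply, Matrix.neg_apply]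
    exact D.skew_aux _ _
  have hdet : A.det ≠ 0 := by
    intro h0
    obtain ⟨c, hc0, hc⟩ := Matrix.exists_mulVec_eq_zero_iff.2 h0
    apply hc0
    set y : ι → F := ∑ j, c j • (b j : ι → F) with hy
    have hyV' : y ∈ V' := Submodule.sum_mem _ (fun j _ => Submodule.smul_mem _ _ (b j).2)
    have hby : ∀ i, B Q (b i : ι → F) (N *ᵥ y) = 0 := by
      intro i
      have := congrFun hc i
      simp only [Matrix.mulVec, dotProduct, hA, Matrix.of_apply, Pi.zero_apply] at this
      rw [hy, Matrix.mulVec_sum]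
      simp only [Matrix.mulVec_smul]
      rw [OFN.B_sum_right, ← this]
      apply Finset.sum_congr rfl
      intro j _
      ring
    have hxy : ∀ x ∈ V', B Q x (N *ᵥ y) = 0 := by
      intro x hx
      have hrep := b.sum_repr ⟨x, hx⟩
      have hrep' : x = ∑ j, b.repr ⟨x, hx⟩ j • (b j : ι → F) := by
        have := congrArg Subtype.val hrep
        simp only [Submodule.coe_sum, Submodule.coe_smul] at this
        exact this.symm
      rw [hrep', B_comm, OFN.B_sum_right]
      apply Finset.sum_eq_zero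
      intro j _
      rw [B_comm, hby j, mul_zero]
    have hNy : N *ᵥ y = 0 := by
      apply hQ.2
      intro x
      show B Q x (N *ᵥ y) = 0
      rw [← D.ee_add x]
      simp only [B]
      rw [QuadraticMap.polar_add_left]
      have h1 : B Q (ee F M r *ᵥ x) (N *ᵥ y) = 0 := by
        rw [hN, Matrix.sub_mulVec]
        simp only [B]
        rw [QuadraticMap.polar_sub_right]
        have e1 : QuadraticMap.polar ⇑Q (ee F M r *ᵥ x) (M *ᵥ y) =
            QuadraticMap.polar ⇑Q (ee F M r *ᵥ x) y := by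
          have := D.B_M (ee F M r *ᵥ x) y
          rw [D.M_ee] at this
          exact this
        have e2 : QuadraticMap.polar ⇑Q (ee F M r *ᵥ x) (M ^ (r - 1) *ᵥ y) =
            QuadraticMap.polar ⇑Q (ee F M r *ᵥ x) y := by
          have := D.B_M_left (ee F M r *ᵥ x) y
          rw [D.M_ee] at this
          exact this.symm
        rw [e1, e2, sub_self]
      have h2 : B Q ((1 - ee F M r) *ᵥ x) (N *ᵥ y) = 0 := by
        apply hxy
        rw [hmemV', Matrix.mulVec_mulVec, D.ee_one_sub, Matrix.zero_mulVec]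
      simp only [B] at h1 h2
      rw [h1, h2, add_zero]
    have hMy : M *ᵥ y = y := by
      apply D.fix_of_sq
      have h3 : M *ᵥ y = M ^ (r - 1) *ᵥ y := by
        rw [hN, Matrix.sub_mulVec] at hNy
        exact sub_eq_zero.1 hNy
      rw [h3, Matrix.mulVec_mulVec, D.M_mul_inv, Matrix.one_mulVec]
    have hy0 : y = 0 := by
      rw [← D.ee_fix hMy]
      exact (hmemV' y).1 hyV'
    have hlin := b.linearIndependent
    rw [Fintype.linearIndependent_iff] at hlin
    funext j
    apply hlin c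
    apply Subtype.ext
    simp only [Submodule.coe_sum, Submodule.coe_smul, Submodule.coe_zero]
    exact hy0
  by_contra hodd
  rw [Nat.not_even_iff_odd] at hodd
  apply hdet
  have h1 : A.det = -A.det := by
    conv_lhs => rw [← Matrix.det_transpose, hskew, Matrix.det_neg, Fintype.card_fin,
      hodd.neg_one_pow]
    ring
  have h3 : (2 : F) * A.det = 0 := by linear_combination h1
  rcases mul_eq_zero.1 h3 with h4 | h4
  · exact absurd h4 h2
  · exact h4

theorem even_finrank_V1 (hQ : (QuadraticMap.polarBilin Q).Nondegenerate) (h2 : (2 : F) ≠ 0)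
    (hcard : Even (Fintype.card ι)) : Even (finrank F (V1 M)) := by
  have h1 := D.finrank_V1_add
  have h3 := D.even_finrank_ker hQ h2
  rw [← h1] at hcard
  exact (Nat.even_add.1 hcard).2 h3

end SSData

end Cfsg.Agent.Helper28.SSC
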