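import Mathlib
import Cfsg.Agent.Helper28.SemiCls2
import Cfsg.Agent.Helper28.OrthFrame

set_option autoImplicit false
set_option linter.unusedSectionVars false
set_option linter.style.haveILetI false

/-! Semisimple isometries of odd prime order: a commuting similarity with prescribed multiplier. -/

namespace Cfsg.Agent.Helper28.SSC

open Matrix Module Polynomial Cfsg.Agent.Helper28.Spin Cfsg.Agent.Helper28.Sg
  Cfsg.Agent.Helper28.NDM

variable {F : Type*} [Field F] [Fintype F] {ι : Type} [Fintype ι] [DecidableEq ι]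
  (Q : QuadraticForm F (ι → F))

/-- the value of `Q` on a combination of pairwise orthogonal vectors -/
theorem Q_sum_orth {L : Type} [Fintype L] [DecidableEq L] (x : L → (ι → F))
    (horth : ∀ l l', l ≠ l' → B Q (x l) (x l') = 0) (c : L → F) :
    Q (∑ l, c l • x l) = ∑ l, c l * c l * Q (x l) := by
  have key : ∀ s : Finset L, Q (∑ l ∈ s, c l • x l) = ∑ l ∈ s, c l * c l * Q (x l) := by
    intro s
    induction s using Finset.induction_on with
    | empty => simp
    | insert a s ha ih =>
      rw [Finset.sum_insert ha, Finset.sum_insert ha, Sg.Q_add, ih, Sg.Q_smul]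
      have h0 : B Q (c a • x a) (∑ l ∈ s, c l • x l) = 0 := by
        have : B Q (c a • x a) (∑ l ∈ s, c l • x l) =
            QuadraticMap.polarBilin Q (c a • x a) (∑ l ∈ s, c l • x l) := rfl
        rw [this, map_sum]
        apply Finset.sum_eq_zero
        intro l hl
        rw [map_smul, map_smul]
        have hne : a ≠ l := fun h => ha (h ▸ hl)
        have := horth a l hne
        simp only [B] at this
        simp [this]
      rw [h0, add_zero]
  exact key Finset.univ

theorem B_sum_gen {L : Type} [Fintype L] (z : ι → F) (c : L → F) (e : L → (ι → F)) :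
    B Q z (∑ l, c l • e l) = ∑ l, c l * B Q z (e l) := by
  have : B Q z (∑ l, c l • e l) = QuadraticMap.polarBilin Q z (∑ l, c l • e l) := rfl
  rw [this, map_sum]
  apply Finset.sum_congr rfl
  intro l _
  rw [map_smul]
  rfl

theorem B_comb (u w u' w' : ι → F) (s t s' t' : F) :
    B Q (s • u + t • w) (s' • u' + t' • w') =
      s * s' * B Q u u' + s * t' * B Q u w' + t * s' * B Q w u' + t * t' * B Q w w' := by
  simp only [B, QuadraticMap.polar_add_left, QuadraticMap.polar_add_right,
    QuadraticMap.polar_smul_left, QuadraticMap.polar_smul_right, smul_eq_mul]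
  ring

/-- the new orthogonal family with norms scaled by `μ` -/
theorem exists_scaled_family (h2 : (2 : F) ≠ 0) {j : ℕ} (x : Fin j ⊕ Fin j → (ι → F))
    (hx : ∀ l, Q (x l) ≠ 0) (horth : ∀ l l', l ≠ l' → B Q (x l) (x l') = 0) (μ : F)
    (W : Submodule F (ι → F)) (hW : ∀ l, x l ∈ W) :
    ∃ y : Fin j ⊕ Fin j → (ι → F), (∀ l, y l ∈ W) ∧
      (∀ l l', l ≠ l' → B Q (y l) (y l') = 0) ∧ ∀ l, Q (y l) = μ * Q (x l) := by
  classical
  have hsol : ∀ i : Fin j, ∃ s t : F,
      s ^ 2 + 0 * s * t + (Q (x (Sum.inr i)) / Q (x (Sum.inl i))) * t ^ 2 = μ := by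
    intro i
    apply PG.exists_binary_eq h2
    rw [zero_pow (by norm_num), sub_zero]
    have h4 : (4 : F) ≠ 0 := by
      have : (4 : F) = 2 * 2 := by norm_num
      rw [this]; exact mul_ne_zero h2 h2
    exact mul_ne_zero h4 (div_ne_zero (hx _) (hx _))
  choose s t hst using hsol
  set y : Fin j ⊕ Fin j → (ι → F) := fun l =>
    match l with
    | Sum.inl i => s i • x (Sum.inl i) + t i • x (Sum.inr i)
    | Sum.inr i => (-(Q (x (Sum.inr i)) / Q (x (Sum.inl i))) * t i) • x (Sum.inl i) +
        s i • x (Sum.inr i) with hy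
  have hself : ∀ l, B Q (x l) (x l) = 2 * Q (x l) := fun l => Sg.B_self Q (x l)
  have hlr : ∀ i i', B Q (x (Sum.inl i)) (x (Sum.inr i')) = 0 :=
    fun i i' => horth _ _ (by simp)
  have hrl : ∀ i i', B Q (x (Sum.inr i)) (x (Sum.inl i')) = 0 :=
    fun i i' => horth _ _ (by simp)
  refine ⟨y, ?_, ?_, ?_⟩
  · intro l
    rcases l with i | i
    · exact W.add_mem (W.smul_mem _ (hW _)) (W.smul_mem _ (hW _))
    · exact W.add_mem (W.smul_mem _ (hW _)) (W.smul_mem _ (hW _))
  · intro l l' hne
    rcases l with i | i <;> rcases l' with i' | i'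
    · have hii : i ≠ i' := fun h => hne (by rw [h])
      simp only [hy]
      rw [B_comb, horth _ _ (by simpa using hii), hlr, hrl, horth (Sum.inr i) (Sum.inr i')
        (by simpa using hii)]
      ring
    · simp only [hy]
      rw [B_comb, hlr, hrl]
      by_cases hii : i = i'
      · subst hii
        rw [hself, hself]
        have ha := hx (Sum.inl i)
        field_simp
        ring
      · rw [horth (Sum.inl i) (Sum.inl i') (by simpa using hii),
          horth (Sum.inr i) (Sum.inr i') (by simpa using hii)]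
        ring
    · simp only [hy]
      rw [B_comb, hlr, hrl]
      by_cases hii : i = i'
      · subst hii
        rw [hself, hself]
        have ha := hx (Sum.inl i)
        field_simp
        ring
      · rw [horth (Sum.inl i) (Sum.inl i') (by simpa using hii),
          horth (Sum.inr i) (Sum.inr i') (by simpa using hii)]
        ring
    · have hii : i ≠ i' := fun h => hne (by rw [h])
      simp only [hy]
      rw [B_comb, horth (Sum.inl i) (Sum.inl i') (by simpa using hii), hlr, hrl,
        horth (Sum.inr i) (Sum.inr i') (by simpa using hii)]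
      ring
  · intro l
    rcases l with i | i
    · simp only [hy]
      rw [Sg.Q_add, Sg.Q_smul, Sg.Q_smul]
      simp only [B]
      rw [QuadraticMap.polar_smul_left, QuadraticMap.polar_smul_right]
      have := hlr i i
      simp only [B] at this
      rw [this]
      have ha := hx (Sum.inl i)
      have h := hst i
      field_simp at h
      simp only [smul_eq_mul, mul_zero, add_zero]
      linear_combination h
    · simp only [hy]
      rw [Sg.Q_add, Sg.Q_smul, Sg.Q_smul]
      simp only [B]
      rw [QuadraticMap.polar_smul_left, QuadraticMap.polar_smul_right]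
      have := hlr i i
      simp only [B] at this
      rw [this]
      have ha := hx (Sum.inl i)
      have h := hst i
      field_simp at h
      simp only [smul_eq_mul, mul_zero, add_zero]
      field_simp
      linear_combination (Q (x (Sum.inr i))) * h


variable {Q} {M : Matrix ι ι F} {r : ℕ}

namespace SSData

variable (D : SSData Q M r)
include D

theorem aeval_comm_M (a : F[X]) : aeval M a * M = M * aeval M a := by
  have h : aeval M (a * X) = aeval M (X * a) := by rw [mul_comm]
  rw [map_mul, map_mul, Polynomial.aeval_X] at h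
  exact h

theorem aeval_comm_ee (a : F[X]) : aeval M a * ee F M r = ee F M r * aeval M a := by
  unfold ee
  rw [← D.aeval_Phi, Matrix.mul_smul, Matrix.smul_mul, ← map_mul, mul_comm, map_mul]

/-- a polynomial in `M` with `a a* ≡ μ` scales `Q` by `μ` on the complement of the fixed space -/
theorem Q_aeval_of_dvd (h2 : (2 : F) ≠ 0) (a : F[X]) (μ : F)
    (ha : Phi F r ∣ a * a.comp (X ^ (r - 1)) - C μ) (w : ι → F)
    (hw : aeval M (Phi F r) *ᵥ w = 0) : Q (aeval M a *ᵥ w) = μ * Q w := by
  obtain ⟨c, hc⟩ := ha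
  have h1 : aeval M (a.comp (X ^ (r - 1))) * aeval M a =
      μ • (1 : Matrix ι ι F) + aeval M c * aeval M (Phi F r) := by
    have : a.comp (X ^ (r - 1)) * a = C μ + c * Phi F r := by linear_combination hc
    rw [← map_mul, this, map_add, map_mul, Polynomial.aeval_C, Algebra.algebraMap_eq_smul_one]
  have h3 : B Q (aeval M a *ᵥ w) (aeval M a *ᵥ w) = μ * B Q w w := by
    rw [D.B_aeval, Matrix.mulVec_mulVec, h1, Matrix.add_mulVec, ← Matrix.mulVec_mulVec, hw,
      Matrix.mulVec_zero, add_zero, Matrix.smul_mulVec, Matrix.one_mulVec]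
    simp only [B]
    rw [QuadraticMap.polar_smul_right, smul_eq_mul]
  rw [Sg.B_self, Sg.B_self] at h3
  have h4 : (2 : F) * (Q (aeval M a *ᵥ w) - μ * Q w) = 0 := by linear_combination h3
  rcases mul_eq_zero.1 h4 with h5 | h5
  · exact absurd h5 h2
  · exact sub_eq_zero.1 h5

/-- **a similarity with multiplier `μ` commuting with `M`** -/
theorem exists_comm_sim (hQ : (QuadraticMap.polarBilin Q).Nondegenerate) (h2 : (2 : F) ≠ 0)
    (hcard : Even (Fintype.card ι)) (μ : F) :
    ∃ H : Matrix ι ι F, (∀ z, Q (H *ᵥ z) = μ * Q z) ∧ H * M = M * H := by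
  classical
  obtain ⟨j, hj⟩ := D.even_finrank_V1 hQ h2 hcard
  obtain ⟨v, hvW, hvQ, hvorth, hvspan⟩ :=
    OFN.exists_orth_basis' Q h2 (V1 M) (D.V1_ndon hQ).geo (j + j) hj
  set x : Fin j ⊕ Fin j → (ι → F) := fun l => v (finSumFinEquiv l) with hx
  have hxW : ∀ l, x l ∈ V1 M := fun l => hvW _
  have hxQ : ∀ l, Q (x l) ≠ 0 := fun l => hvQ _
  have hxorth : ∀ l l', l ≠ l' → B Q (x l) (x l') = 0 := by
    intro l l' hne
    exact hvorth _ _ (fun h => hne (finSumFinEquiv.injective h))
  have hxspan : ∀ z ∈ V1 M, ∃ c : Fin j ⊕ Fin j → F, z = ∑ l, c l • x l := by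
    intro z hz
    obtain ⟨c, hc⟩ := hvspan z hz
    refine ⟨fun l => c (finSumFinEquiv l), ?_⟩
    rw [hc]
    exact (Equiv.sum_comp finSumFinEquiv (fun i => c i • v i)).symm
  obtain ⟨y, hyW, hyorth, hyQ⟩ := exists_scaled_family Q h2 x hxQ hxorth μ (V1 M) hxW
  obtain ⟨a, ha⟩ := exists_norm_poly (F := F) D.two_le D.odd D.cast_ne h2 μ
  set α : Fin j ⊕ Fin j → (ι → F) → F := fun l z => (2 * Q (x l))⁻¹ * B Q (x l) z with hα
  set T : (ι → F) →ₗ[F] (ι → F) :=
    ∑ l, ((2 * Q (x l))⁻¹ • QuadraticMap.polarBilin Q (x l)).smulRight (y l) with hT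
  have hTz : ∀ z, T z = ∑ l, α l z • y l := by
    intro z
    rw [hT, LinearMap.sum_apply]
    rfl
  have h2Q : ∀ l, (2 * Q (x l)) ≠ 0 := fun l => mul_ne_zero h2 (hxQ l)
  have hez : ∀ z, ee F M r *ᵥ z = ∑ l, α l z • x l := by
    intro z
    obtain ⟨c, hc⟩ := hxspan _ (D.ee_mem z)
    rw [hc]
    apply Finset.sum_congr rfl
    intro l _
    congr 1
    have h1 : B Q (x l) (ee F M r *ᵥ z) = c l * (2 * Q (x l)) := by
      rw [hc, B_sum_gen, Finset.sum_eq_single l]
      · rw [Sg.B_self]
      · intro l' _ hne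
        rw [hxorth l l' (Ne.symm hne), mul_zero]
      · intro h; exact absurd (Finset.mem_univ l) h
    have h3 : B Q (x l) (ee F M r *ᵥ z) = B Q (x l) z := by
      rw [← D.B_ee, D.ee_fix (hxW l)]
    rw [hα]
    simp only
    rw [← h3, h1]
    have := hxQ l
    field_simp
  have hQT : ∀ z, Q (T z) = μ * Q (ee F M r *ᵥ z) := by
    intro z
    rw [hTz, hez, Q_sum_orth Q y hyorth, Q_sum_orth Q x hxorth, Finset.mul_sum]
    apply Finset.sum_congr rfl
    intro l _
    rw [hyQ]; ring
  have hMT : ∀ z, M *ᵥ (T z) = T z := by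
    intro z
    rw [hTz]
    exact Submodule.sum_mem _ (fun l _ => Submodule.smul_mem _ _ (hyW l))
  have hTM : ∀ z, T (M *ᵥ z) = T z := by
    intro z
    rw [hTz, hTz]
    apply Finset.sum_congr rfl
    intro l _
    congr 1
    rw [hα]
    simp only
    congr 1
    have := D.B_M (x l) z
    rw [(hxW l : M *ᵥ x l = x l)] at this
    exact this
  set aM := aeval M a with haM
  refine ⟨LinearMap.toMatrix' T + aM * (1 - ee F M r), ?_, ?_⟩
  · intro z
    rw [Matrix.add_mulVec, LinearMap.toMatrix'_mulVec, ← Matrix.mulVec_mulVec, Sg.Q_add, hQT]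
    have hw : aeval M (Phi F r) *ᵥ ((1 - ee F M r) *ᵥ z) = 0 := by
      rw [Matrix.mulVec_mulVec, D.Phi_one_sub, Matrix.zero_mulVec]
    rw [D.Q_aeval_of_dvd h2 a μ ha _ hw]
    have hperp : B Q (T z) (aM *ᵥ ((1 - ee F M r) *ᵥ z)) = 0 := by
      have hcomm : aM * (1 - ee F M r) = (1 - ee F M r) * aM := by
        rw [mul_sub, sub_mul, mul_one, one_mul, D.aeval_comm_ee]
      rw [Matrix.mulVec_mulVec, hcomm, ← Matrix.mulVec_mulVec]
      exact D.B_fix_perp (hMT z) _
    rw [hperp, add_zero, D.Q_split z]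
    ring
  · have hTmat : LinearMap.toMatrix' T * M = M * LinearMap.toMatrix' T := by
      apply Spin.matrix_ext_mulVec
      intro z
      rw [← Matrix.mulVec_mulVec, ← Matrix.mulVec_mulVec, LinearMap.toMatrix'_mulVec,
        LinearMap.toMatrix'_mulVec, hTM, hMT]
    have hA : aM * (1 - ee F M r) * M = M * (aM * (1 - ee F M r)) := by
      have e1 : (1 - ee F M r) * M = M * (1 - ee F M r) := by
        rw [sub_mul, mul_sub, one_mul, mul_one, D.ee_mul_M, D.M_mul_ee]
      rw [Matrix.mul_assoc, e1, ← Matrix.mul_assoc, D.aeval_comm_M, Matrix.mul_assoc]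
    rw [add_mul, mul_add, hTmat, hA]

end SSData

end Cfsg.Agent.Helper28.SSC
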