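import Mathlib
import Cfsg.Agent.Helper28.SemiCls3
import Cfsg.Agent.Helper28.GraphInv4

set_option autoImplicit false
set_option linter.unusedSectionVars false
set_option linter.style.haveILetI false

/-! Semisimple isometries of odd prime order: the sign of a commuting similarity. -/

namespace Cfsg.Agent.Helper28.SSC

open Matrix Module Polynomial Cfsg.Agent.Helper28.Spin Cfsg.Agent.Helper28.Sg
  Cfsg.Agent.Helper28.NDM Cfsg.Agent.Helper28.PG Cfsg.Agent.Helper28.PA

universe u

/-- a similarity of a nondegenerate alternating form has determinant `μ ^ n` -/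
theorem det_of_alt_sim {F : Type u} [Field F] [Finite F] {n : ℕ} {I : Type} [Fintype I]
    [DecidableEq I] (ε : I ≃ Fin n ⊕ Fin n)
    (h2 : (2 : F) ≠ 0) (Ω : Matrix I I F) (hΩu : IsUnit Ω) (hΩs : Ωᵀ = -Ω)
    (H : Matrix I I F) (μ : F) (hμ : μ ≠ 0) (hH : Hᵀ * Ω * H = μ • Ω) : H.det = μ ^ n := by
  classical
  obtain ⟨f, hf⟩ : ∃ f : F[X], f = X ^ 2 - C μ := ⟨_, rfl⟩
  have hsp : (f.map (algebraMap F f.SplittingField)).Splits := Polynomial.SplittingField.splits f
  have hdeg : (f.map (algebraMap F f.SplittingField)).degree ≠ 0 := by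
    rw [Polynomial.degree_map, hf, Polynomial.degree_X_pow_sub_C (by norm_num) μ]
    norm_num
  obtain ⟨c, hc⟩ := hsp.exists_eval_eq_zero hdeg
  set φ := algebraMap F f.SplittingField with hφ
  have hc2 : c * c = φ μ := by
    rw [Polynomial.eval_map] at hc
    have h3 : Polynomial.eval₂ φ c f = c ^ 2 - φ μ := by
      subst hf
      rw [Polynomial.eval₂_sub, Polynomial.eval₂_pow, Polynomial.eval₂_X, Polynomial.eval₂_C]
    rw [h3] at hc
    linear_combination hc
  haveI : Finite f.SplittingField := Module.finite_of_finite F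
  have hφinj : Function.Injective φ := φ.injective
  have hc0 : c ≠ 0 := by
    rintro rfl
    apply hμ
    apply hφinj
    rw [map_zero, ← hc2, mul_zero]
  have h2L : (2 : f.SplittingField) ≠ 0 := by
    intro h
    apply h2
    apply hφinj
    rw [map_ofNat, map_zero]
    exact h
  set ΩL := Ω.map φ with hΩL
  set HL := H.map φ with hHL
  have hΩLu : IsUnit ΩL := hΩu.map (RingHom.mapMatrix φ)
  have hΩLs : ΩLᵀ = -ΩL := by
    rw [hΩL, ← Matrix.transpose_map, hΩs]
    ext i j
    simp [Matrix.map_apply]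
  have hΩLa : ∀ u, u ⬝ᵥ (ΩL *ᵥ u) = 0 := by
    intro u
    have h1 : u ⬝ᵥ (ΩL *ᵥ u) = -(u ⬝ᵥ (ΩL *ᵥ u)) := by
      conv_lhs => rw [Matrix.dotProduct_mulVec, ← Matrix.mulVec_transpose, hΩLs, Matrix.neg_mulVec,
        neg_dotProduct, dotProduct_comm]
    have h3 : (2 : f.SplittingField) * (u ⬝ᵥ (ΩL *ᵥ u)) = 0 := by linear_combination h1
    rcases mul_eq_zero.1 h3 with h4 | h4
    · exact absurd h4 h2L
    · exact h4
  have hHL' : HLᵀ * ΩL * HL = φ μ • ΩL := by
    have := congrArg (fun A : Matrix I I F => A.map φ) hH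
    simp only [Matrix.map_mul, Matrix.transpose_map] at this
    rw [hHL, hΩL, this]
    ext i j
    simp [Matrix.map_apply, Matrix.smul_apply]
  set G' : Matrix I I f.SplittingField := c⁻¹ • HL with hG'
  have hG'iso : G'ᵀ * ΩL * G' = ΩL := by
    rw [hG', Matrix.transpose_smul, Matrix.smul_mul, Matrix.smul_mul, Matrix.mul_smul, hHL',
      smul_smul, smul_smul, ← hc2]
    have : c⁻¹ * c⁻¹ * (c * c) = 1 := by field_simp
    rw [this, one_smul]
  obtain ⟨Φ, hΦ⟩ := Cfsg.Agent.Helper12.SpSylow.exists_uniform_conj_reindex ε ΩL hΩLu hΩLa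
  have h1 := SymplecticGroup.det_eq_one (hΦ G' hG'iso)
  have hcard : Fintype.card I = 2 * n := by
    rw [Fintype.card_congr ε, Fintype.card_sum, Fintype.card_fin]; ring
  rw [Matrix.det_units_conj, Matrix.det_reindex_self, hG', Matrix.det_smul, hcard] at h1
  have hdetL : HL.det = φ H.det := by
    rw [hHL]
    exact (RingHom.map_det φ H).symm
  apply hφinj
  rw [← hdetL, map_pow, ← hc2]
  have h4 : (c⁻¹) ^ (2 * n) * c ^ (2 * n) = 1 := by
    rw [← mul_pow, inv_mul_cancel₀ hc0, one_pow]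
  calc HL.det = ((c⁻¹) ^ (2 * n) * HL.det) * c ^ (2 * n) := by
        rw [mul_comm ((c⁻¹) ^ (2 * n)), mul_assoc, h4, mul_one]
    _ = c ^ (2 * n) := by rw [h1, one_mul]
    _ = (c * c) ^ n := by rw [← pow_two, ← pow_mul]


variable {F : Type*} [Field F] [Fintype F] [DecidableEq F] {ι : Type} [Fintype ι] [DecidableEq ι]
  (Q : QuadraticForm F (ι → F))

theorem gram_symm :
    (LinearMap.BilinForm.toMatrix' (QuadraticMap.polarBilin Q))ᵀ =
      LinearMap.BilinForm.toMatrix' (QuadraticMap.polarBilin Q) := by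
  ext i j
  rw [Matrix.transpose_apply, LinearMap.BilinForm.toMatrix'_apply,
    LinearMap.BilinForm.toMatrix'_apply]
  exact QuadraticMap.polar_comm _ _ _

theorem exists_ne_of_nondeg (hQ : (QuadraticMap.polarBilin Q).Nondegenerate) (h2 : (2 : F) ≠ 0)
    (W : Submodule F (ι → F)) (hW : NDon Q W) (hW0 : W ≠ ⊥) : ∃ u ∈ W, Q u ≠ 0 := by
  by_contra hcon
  push Not at hcon
  apply hW0
  rw [Submodule.eq_bot_iff]
  intro x hx
  by_contra hx0
  obtain ⟨y, hy, hxy⟩ := hW x hx hx0
  apply hxy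
  show QuadraticMap.polar ⇑Q x y = 0
  rw [QuadraticMap.polar, hcon _ (W.add_mem hx hy), hcon _ hx, hcon _ hy]
  ring

/-- **a similarity with non-square multiplier and sign one commuting with a semisimple isometry
of odd order** -/
theorem exists_comm_GO (hQ : (QuadraticMap.polarBilin Q).Nondegenerate) (h2 : (2 : F) ≠ 0)
    {k : ℕ} (hk : Fintype.card ι = 2 * k) (hex : ∃ v : ι → F, Q v ≠ 0)
    (g : ↥(Cfsg.isometryGroup F ⇑Q)) {r : ℕ} (hr2 : 2 ≤ r) (hodd : Odd r) (hrF : (r : F) ≠ 0)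
    (hgr : g ^ r = 1) :
    ∃ h : ↥(GO Q), h * oGO Q g = oGO Q g * h ∧ PG.chi Q h = -1 ∧ PG.sgn Q k h = 1 := by
  set M : Matrix ι ι F := mt Q g with hM
  have D : SSData Q M r := by
    refine ⟨fun x => Spin.isom_apply Q g x, ?_, hr2, hodd, hrF⟩
    have := congrArg (fun s : ↥(Cfsg.isometryGroup F ⇑Q) => ((s : GL ι F) : Matrix ι ι F)) hgr
    simpa using this
  have hchar : ringChar F ≠ 2 := by
    intro h
    apply h2
    have := ringChar.Nat.cast_ringChar (R := F)
    rw [h] at this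
    exact_mod_cast this
  obtain ⟨ν, hν⟩ := FiniteField.exists_nonsquare hchar
  have hν0 : ν ≠ 0 := by
    rintro rfl
    exact hν ⟨0, by simp⟩
  obtain ⟨H, hHsim, hHM⟩ := D.exists_comm_sim hQ h2 ⟨k, by rw [hk]; ring⟩ ν
  obtain ⟨h, hh⟩ := exists_GO_of_sim Q hQ H (Units.mk0 ν hν0) hHsim
  have hsim' : ∀ v, Q (((h : GL ι F) : Matrix ι ι F) *ᵥ v) = ((Units.mk0 ν hν0 : Fˣ) : F) * Q v := by
    intro v; rw [hh]; exact hHsim v
  have hchi : PG.chi Q h = -1 := chi_of_nonsquare Q hex h (Units.mk0 ν hν0) hsim' hν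
  have hmu : mu Q h = Units.mk0 ν hν0 := mu_of_sim Q hex h _ hsim'
  have hcomm : h * oGO Q g = oGO Q g * h := by
    apply Subtype.ext
    apply Units.ext
    show ((h : GL ι F) : Matrix ι ι F) * ((oGO Q g : GL ι F) : Matrix ι ι F) =
      ((oGO Q g : GL ι F) : Matrix ι ι F) * ((h : GL ι F) : Matrix ι ι F)
    rw [hh]
    exact hHM
  rcases sgn_cases Q hQ hk h with h1 | h1
  · exact ⟨h, hcomm, hchi, h1⟩
  by_cases hV : V1 M = ⊥
  · exfalso
    -- the symplectic form
    set G := LinearMap.BilinForm.toMatrix' (QuadraticMap.polarBilin Q) with hG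
    set Mi := M ^ (r - 1) with hMi
    have e1 : Mᵀ * G * M = G := by
      have := GInv.gram_sim Q (oGO Q g)
      have hmu1 : mu Q (oGO Q g) = 1 := mu_of_sim Q hex (oGO Q g) 1 (fun v => by
        rw [Units.val_one, one_mul]; exact Spin.isom_apply Q g v)
      rw [hmu1, Units.val_one, one_smul] at this
      exact this
    have e2 : Mᵀ * G = G * Mi := by
      calc Mᵀ * G = Mᵀ * G * (M * Mi) := by rw [D.M_mul_inv, mul_one]
        _ = (Mᵀ * G * M) * Mi := by simp only [Matrix.mul_assoc]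
        _ = G * Mi := by rw [e1]
    have e3 : Miᵀ * G = G * M := by
      calc Miᵀ * G = Miᵀ * (Mᵀ * G * M) := by rw [e1]
        _ = (M * Mi)ᵀ * G * M := by rw [Matrix.transpose_mul]; simp only [Matrix.mul_assoc]
        _ = G * M := by rw [D.M_mul_inv, Matrix.transpose_one, one_mul]
    set Ω := G * (M - Mi) with hΩ
    have hΩs : Ωᵀ = -Ω := by
      rw [hΩ, Matrix.transpose_mul, gram_symm, Matrix.transpose_sub, sub_mul, e2, e3, mul_sub]
      abel
    have hNinj : Function.Injective (M - Mi).mulVec := by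
      intro x y hxy
      have h0 : (M - Mi) *ᵥ (x - y) = 0 := by rw [Matrix.mulVec_sub, hxy, sub_self]
      have h3 : M *ᵥ (x - y) = Mi *ᵥ (x - y) := by
        rw [Matrix.sub_mulVec] at h0
        exact sub_eq_zero.1 h0
      have h4 : M *ᵥ (x - y) = x - y := by
        apply D.fix_of_sq
        rw [h3, Matrix.mulVec_mulVec, D.M_mul_inv, Matrix.one_mulVec]
      have h5 : x - y ∈ V1 M := h4
      rw [hV, Submodule.mem_bot] at h5
      exact sub_eq_zero.1 h5
    have hΩu : IsUnit Ω := by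
      rw [hΩ]
      refine IsUnit.mul ?_ (Matrix.mulVec_injective_iff_isUnit.1 hNinj)
      rw [Matrix.isUnit_iff_isUnit_det, isUnit_iff_ne_zero]
      exact GInv.gram_det_ne Q hQ
    have hHΩ : Hᵀ * Ω * H = ν • Ω := by
      have hHG := GInv.gram_sim Q h
      rw [hmu, Units.val_mk0] at hHG
      have hHMi : H * Mi = Mi * H := by
        rw [hMi]
        exact (Commute.pow_right (show Commute H M from hHM) (r - 1)).eq
      have hHN : (M - Mi) * H = H * (M - Mi) := by
        rw [sub_mul, mul_sub, hHM, hHMi]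
      rw [hΩ, Matrix.mul_assoc, Matrix.mul_assoc, hHN, ← Matrix.mul_assoc G, ← Matrix.mul_assoc,
        ← Matrix.mul_assoc, ← hh]
      unfold GInv.mg at hHG
      rw [hHG, Matrix.smul_mul]
    have hcard : Fintype.card ι = Fintype.card (Fin k ⊕ Fin k) := by
      rw [Fintype.card_sum, Fintype.card_fin, hk]; ring
    obtain ⟨ε⟩ : Nonempty (ι ≃ Fin k ⊕ Fin k) := Fintype.card_eq.1 hcard
    have hdet := det_of_alt_sim ε h2 Ω hΩu hΩs H ν hν0 hHΩ
    unfold PG.sgn at h1
    rw [hh, hdet, hmu, Units.val_mk0, inv_pow, mul_inv_cancel₀ (pow_ne_zero _ hν0)] at h1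
    have : (2 : F) = 0 := by linear_combination h1
    exact h2 this
  · obtain ⟨u, huV, hu⟩ := exists_ne_of_nondeg Q hQ h2 (V1 M) (D.V1_ndon hQ) hV
    refine ⟨h * reflGO Q u hu, ?_, ?_, ?_⟩
    · have hr : reflGO Q u hu * oGO Q g = oGO Q g * reflGO Q u hu := by
        have hu' : Q (((g : GL ι F) : Matrix ι ι F) *ᵥ u) ≠ 0 := by
          rw [Spin.isom_apply]; exact hu
        have h3 := Spin.reflO_conj Q g u hu hu'
        have h4 : reflO Q (((g : GL ι F) : Matrix ι ι F) *ᵥ u) hu' = reflO Q u hu := by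
          congr 1
        rw [h4] at h3
        have h5 : reflO Q u hu * g = g * reflO Q u hu := by
          conv_lhs => rw [h3]
          group
        have h6 := congrArg (oGO Q) h5
        rw [map_mul, map_mul] at h6
        exact h6
      rw [mul_assoc, hr, ← mul_assoc, hcomm, mul_assoc]
    · rw [chi_mul Q hex, hchi, chi_reflGO Q hex]; ring
    · rw [PG.sgn_mul Q hex, h1, sgn_reflGO Q hex]; ring

end Cfsg.Agent.Helper28.SSC
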