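import Mathlib
import Cfsg.Agent.Helper28.SemiCls4
import Cfsg.Agent.Helper28.InndiagGen

set_option autoImplicit false
set_option linter.unusedSectionVars false
set_option linter.style.haveILetI false

/-! Class fusion of semisimple elements of odd prime order: the abstract covering argument. -/

namespace Cfsg.Agent.Helper28.SSC

open Matrix Module Cfsg.Agent.Helper28.Spin Cfsg.Agent.Helper28.Sg
  Cfsg.Agent.Helper28.PG Cfsg.Agent.Helper28.PA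

section abstract

variable {X : Type*} [Group X]

theorem isConjUnder_iff_of_cover (K H : Subgroup X) (hKH : K ≤ H) (x : X)
    (hcov : ∀ d ∈ H, ∃ n ∈ K, ∃ c : X, c * x = x * c ∧ d = n * c) (y : X) :
    Cfsg.IsConjUnder K x y ↔ Cfsg.IsConjUnder H x y := by
  constructor
  · rintro ⟨h, hh, rfl⟩
    exact ⟨h, hKH hh, rfl⟩
  · rintro ⟨d, hd, rfl⟩
    obtain ⟨n, hn, c, hc, rfl⟩ := hcov d hd
    refine ⟨n, hn, ?_⟩
    have h1 : c * x * c⁻¹ = x := by rw [hc, mul_inv_cancel_right]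
    calc n * c * x * (n * c)⁻¹ = n * (c * x * c⁻¹) * n⁻¹ := by group
      _ = n * x * n⁻¹ := by rw [h1]

theorem comm_pow_of_comm {c x : X} (hc : c * x = x * c) (j : ℕ) : c ^ j * x = x * c ^ j :=
  ((show Commute c x from hc).pow_left j).eq

/-- covering by the powers of an element whose image generates -/
theorem cover_of_gen {n : ℕ} (D N : Subgroup X) (φ : ↥D →* Multiplicative (ZMod n))
    (hker : φ.ker = N.subgroupOf D) (c : ↥D)
    (hgen : ∀ w : Multiplicative (ZMod n), ∃ j : ℕ, w = (φ c) ^ j) (d : ↥D) :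
    ∃ n' ∈ N, ∃ j : ℕ, (d : X) = n' * (c : X) ^ j := by
  obtain ⟨j, hj⟩ := hgen (φ d)
  have h1 : d * (c ^ j)⁻¹ ∈ φ.ker := by
    rw [MonoidHom.mem_ker, map_mul, map_inv, map_pow, hj, mul_inv_cancel]
  rw [hker, Subgroup.mem_subgroupOf] at h1
  refine ⟨_, h1, j, ?_⟩
  simp

theorem zmod2_gen (w z : Multiplicative (ZMod 2)) (hz : z ≠ 1) : ∃ j : ℕ, w = z ^ j := by
  have h2 : ∀ w z : ZMod 2, z ≠ 0 → ∃ j : ℕ, j < 2 ∧ w = j • z := by decide
  obtain ⟨j, -, hj⟩ := h2 (Multiplicative.toAdd w) (Multiplicative.toAdd z) (fun h => hz (by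
    apply Multiplicative.toAdd.injective
    rw [h]; rfl))
  exact ⟨j, by
    apply Multiplicative.toAdd.injective
    rw [hj, toAdd_pow]⟩

theorem zmod4_gen (w z : Multiplicative (ZMod 4)) (hz : z * z ≠ 1) : ∃ j : ℕ, w = z ^ j := by
  have h2 : ∀ w z : ZMod 4, z + z ≠ 0 → ∃ j : ℕ, j < 4 ∧ w = j • z := by decide
  obtain ⟨j, -, hj⟩ := h2 (Multiplicative.toAdd w) (Multiplicative.toAdd z) (fun h => hz (by
    apply Multiplicative.toAdd.injective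
    rw [toAdd_mul, h]; rfl))
  exact ⟨j, by
    apply Multiplicative.toAdd.injective
    rw [hj, toAdd_pow]⟩

theorem zmod4_sq_sq (z : Multiplicative (ZMod 4)) : (z * z) * (z * z) = 1 := by
  have h2 : ∀ z : ZMod 4, (z + z) + (z + z) = 0 := by decide
  apply Multiplicative.toAdd.injective
  rw [toAdd_mul, toAdd_mul]
  exact h2 _

theorem zmod4_eq_of_sq (z w : Multiplicative (ZMod 4)) (hz : z * z = 1) (hw : w * w = 1)
    (hz1 : z ≠ 1) (hw1 : w ≠ 1) : z = w := by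
  have h2 : ∀ z w : ZMod 4, z + z = 0 → w + w = 0 → z ≠ 0 → w ≠ 0 → z = w := by decide
  apply Multiplicative.toAdd.injective
  apply h2
  · have := congrArg Multiplicative.toAdd hz
    rwa [toAdd_mul] at this
  · have := congrArg Multiplicative.toAdd hw
    rwa [toAdd_mul] at this
  · intro h
    apply hz1
    apply Multiplicative.toAdd.injective
    rw [h]; rfl
  · intro h
    apply hw1
    apply Multiplicative.toAdd.injective
    rw [h]; rfl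

theorem cover_cyclic2 (D N : Subgroup X) (φ : ↥D →* Multiplicative (ZMod 2))
    (hker : φ.ker = N.subgroupOf D) (c : X) (hcD : c ∈ D) (hcN : c ∉ N) (d : X) (hd : d ∈ D) :
    ∃ n' ∈ N, ∃ j : ℕ, d = n' * c ^ j := by
  have h1 : φ ⟨c, hcD⟩ ≠ 1 := by
    intro h
    have : (⟨c, hcD⟩ : ↥D) ∈ φ.ker := h
    rw [hker, Subgroup.mem_subgroupOf] at this
    exact hcN this
  exact cover_of_gen D N φ hker ⟨c, hcD⟩ (fun w => zmod2_gen w _ h1) ⟨d, hd⟩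

theorem cover_cyclic4 (D N P : Subgroup X) (φ : ↥D →* Multiplicative (ZMod 4))
    (hker : φ.ker = N.subgroupOf D) (hNP : N ≤ P) (hPD : P ≤ D)
    (hex : ∃ p ∈ P, p ∉ N) (c : X) (hcD : c ∈ D) (hcP : c ∉ P) (d : X) (hd : d ∈ D) :
    ∃ n' ∈ N, ∃ j : ℕ, d = n' * c ^ j := by
  have hmemN : ∀ z : ↥D, φ z = 1 → (z : X) ∈ N := by
    intro z hz
    have : z ∈ φ.ker := hz
    rw [hker, Subgroup.mem_subgroupOf] at this
    exact this
  -- elements of `P` have image of order at most two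
  have hP : ∀ p (hp : p ∈ P), φ ⟨p, hPD hp⟩ * φ ⟨p, hPD hp⟩ = 1 := by
    intro p hp
    by_contra hne
    obtain ⟨n', hn', j, hj⟩ := cover_of_gen D N φ hker ⟨p, hPD hp⟩
      (fun w => zmod4_gen w _ hne) ⟨c, hcD⟩
    apply hcP
    have : c = n' * p ^ j := hj
    rw [this]
    exact P.mul_mem (hNP hn') (P.pow_mem hp j)
  have h1 : φ ⟨c, hcD⟩ * φ ⟨c, hcD⟩ ≠ 1 := by
    intro hc2
    obtain ⟨p, hp, hpN⟩ := hex
    have hp1 : φ ⟨p, hPD hp⟩ ≠ 1 := fun h => hpN (hmemN _ h)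
    have hc1 : φ ⟨c, hcD⟩ ≠ 1 := fun h => hcP (hNP (hmemN _ h))
    have heq := zmod4_eq_of_sq _ _ hc2 (hP p hp) hc1 hp1
    have h3 : φ (⟨c, hcD⟩ * (⟨p, hPD hp⟩ : ↥D)⁻¹) = 1 := by
      rw [map_mul, map_inv, heq, mul_inv_cancel]
    have h4 := hmemN _ h3
    apply hcP
    have h5 : c = (c * p⁻¹) * p := by group
    rw [h5]
    exact P.mul_mem (hNP h4) hp
  exact cover_of_gen D N φ hker ⟨c, hcD⟩ (fun w => zmod4_gen w _ h1) ⟨d, hd⟩

/-- the three fusion statements from the two coverings -/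
theorem fusion_abstract (Inn PSO DD PO PGO : Subgroup X) (h1 : Inn ≤ PSO) (h2 : PSO ≤ DD)
    (h3 : PO ≤ PGO) (x : X)
    (hcov1 : ∀ d ∈ DD, ∃ n ∈ Inn, ∃ c : X, c * x = x * c ∧ d = n * c)
    (hcov2 : ∀ d ∈ PGO, ∃ n ∈ PO, ∃ c : X, c * x = x * c ∧ d = n * c) :
    (∀ y : X, (Cfsg.IsConjUnder Inn x y ↔ Cfsg.IsConjUnder DD x y) ∧
      (Cfsg.IsConjUnder PSO x y ↔ Cfsg.IsConjUnder DD x y)) ∧
    (∀ y : X, Cfsg.IsConjUnder PO x y ↔ Cfsg.IsConjUnder PGO x y) := by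
  refine ⟨fun y => ⟨isConjUnder_iff_of_cover Inn DD (h1.trans h2) x hcov1 y, ?_⟩,
    fun y => isConjUnder_iff_of_cover PO PGO h3 x hcov2 y⟩
  constructor
  · rintro ⟨h, hh, rfl⟩
    exact ⟨h, h2 hh, rfl⟩
  · intro h
    obtain ⟨n, hn, rfl⟩ := (isConjUnder_iff_of_cover Inn DD (h1.trans h2) x hcov1 y).2 h
    exact ⟨n, h1 hn, rfl⟩

end abstract

section quad

open Cfsg.Agent.Helper28.IsoTransport

variable {F : Type*} [Field F] [Fintype F] [DecidableEq F] {ι : Type} [Fintype ι] [DecidableEq ι]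
  (Q : QuadraticForm F (ι → F))

theorem cAut_mem_poAut (s : ↥(Cfsg.isometryGroup F ⇑Q)) : cAut Q s ∈ Cfsg.poAut F ⇑Q := by
  unfold Cfsg.poAut Cfsg.autSubgroupOf
  apply Subgroup.subset_closure
  exact ⟨s.1, s.2, (PA.induced_iff Q s.1 s.2 _).2 rfl⟩

theorem poAut_le_pgoAut : Cfsg.poAut F ⇑Q ≤ Cfsg.pgoAut F ⇑Q := by
  unfold Cfsg.poAut Cfsg.pgoAut Cfsg.autSubgroupOf
  apply Subgroup.closure_mono
  rintro β ⟨g, hg, hβ⟩
  exact ⟨g, O_le_GO Q hg, hβ⟩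

/-- a similarity with square multiplier acts as an isometry -/
theorem exists_O_of_chi (hex : ∃ v : ι → F, Q v ≠ 0) (g : ↥(GO Q)) (h1 : PG.chi Q g = 1) :
    ∃ s : ↥(Cfsg.isometryGroup F ⇑Q), cG Q g = cAut Q s := by
  unfold PG.chi at h1
  rw [quadraticChar_one_iff_isSquare (Units.ne_zero _)] at h1
  obtain ⟨r, hr⟩ := h1
  have hr0 : r ≠ 0 := by
    rintro rfl
    rw [mul_zero] at hr
    exact Units.ne_zero _ hr
  set l : Fˣ := Units.mk0 r hr0 with hl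
  have hlr : (l : F) = r := rfl
  set s : ↥(GO Q) := (scal Q l)⁻¹ * g with hs
  have hmus : mu Q s = 1 := by
    have h4 : mu Q s = (mu Q (scal Q l))⁻¹ * mu Q g := by
      have := (muHom Q hex).map_mul (scal Q l)⁻¹ g
      rw [map_inv] at this
      exact this
    rw [h4, mu_scal Q hex]
    apply Units.ext
    rw [Units.val_mul, Units.val_inv_eq_inv_val, Units.val_mul, hlr, hr, Units.val_one]
    exact inv_mul_cancel₀ (mul_ne_zero hr0 hr0)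
  have hsO : (s : GL ι F) ∈ Cfsg.isometryGroup F ⇑Q := by
    rw [mem_isometryGroup_iff]
    intro v
    rw [mu_spec, hmus, Units.val_one, one_mul]
  refine ⟨⟨s.1, hsO⟩, ?_⟩
  have hg : g = scal Q l * s := by rw [hs]; group
  have hso : s = oGO Q ⟨s.1, hsO⟩ := Subtype.ext rfl
  rw [hg, map_mul, cG_scal, one_mul, ← cG_oGO, ← hso]

theorem negOne_comm (s : ↥(Cfsg.isometryGroup F ⇑Q)) : negOne Q * s = s * negOne Q := by
  apply Subtype.ext
  apply Units.ext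
  show ((negOne Q : GL ι F) : Matrix ι ι F) * ((s : GL ι F) : Matrix ι ι F) =
    ((s : GL ι F) : Matrix ι ι F) * ((negOne Q : GL ι F) : Matrix ι ι F)
  rw [negOne_val]
  simp

theorem chi_pow (hex : ∃ v : ι → F, Q v ≠ 0) (g : ↥(GO Q)) (n : ℕ) :
    PG.chi Q (g ^ n) = PG.chi Q g ^ n := by
  induction n with
  | zero =>
    rw [pow_zero, pow_zero]
    unfold PG.chi
    have h1 : mu Q 1 = 1 := (muHom Q hex).map_one
    rw [h1, Units.val_one, map_one]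
  | succ n ih => rw [pow_succ, pow_succ, PG.chi_mul Q hex, ih]

/-- **reduction**: an automorphism of odd order `r` induced by a similarity is induced by an
isometry of order dividing `r`. -/
theorem exists_isom_of_order (hQ : (QuadraticMap.polarBilin Q).Nondegenerate) (fr : Frame3 Q)
    (h2 : (2 : F) ≠ 0) (hex : ∃ v : ι → F, Q v ≠ 0)
    (hperf : commutator ↥(Cfsg.Omega F ⇑Q) = ⊤) {k : ℕ} (hk : Fintype.card ι = 2 * k)
    (h6 : 6 ≤ Fintype.card ι)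
    (x : MulAut (Cfsg.POmega F ⇑Q)) (hx : x ∈ Cfsg.pgoAut F ⇑Q) {r : ℕ} (hodd : Odd r)
    (hxr : x ^ r = 1) :
    ∃ g : ↥(Cfsg.isometryGroup F ⇑Q), x = cAut Q g ∧ g ^ r = 1 := by
  rw [PG.pgoAut_eq] at hx
  obtain ⟨δ, rfl⟩ := hx
  have h1 : cG Q (δ ^ r) = 1 := by rw [map_pow]; exact hxr
  have h3 := (ker_of_cG Q hQ fr hex hperf hk _ h1).1
  rw [chi_pow Q hex] at h3
  have hchi : PG.chi Q δ = 1 := by
    rcases PG.chi_cases Q δ with h | h
    · exact h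
    · rw [h, hodd.neg_one_pow] at h3
      norm_num at h3
  obtain ⟨s, hs⟩ := exists_O_of_chi Q hex δ hchi
  have h4 : s ^ r ∈ (cAut Q).ker := by
    rw [MonoidHom.mem_ker, map_pow, ← hs]
    exact hxr
  rcases PA.ker_cases Q hQ h2 h6 _ h4 with h5 | h5
  · refine ⟨s, hs, ?_⟩
    apply Subtype.ext
    apply Units.ext
    exact h5
  · refine ⟨negOne Q * s, ?_, ?_⟩
    · rw [map_mul, hs]
      have := negOne_mem_ker Q
      rw [MonoidHom.mem_ker] at this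
      rw [this, one_mul]
    · have h7 : s ^ r = negOne Q := by
        apply Subtype.ext
        apply Units.ext
        rw [negOne_val]
        exact h5
      have h8 : (negOne Q * s) ^ r = negOne Q ^ r * s ^ r :=
        (show Commute (negOne Q) s from negOne_comm Q s).mul_pow r
      rw [h8, h7, ← pow_succ]
      obtain ⟨t, ht⟩ := hodd
      have : r + 1 = 2 * (t + 1) := by omega
      rw [this, pow_mul, pow_two, negOne_mul_self, one_pow]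

/-- covering of `PGO` by `PO` and the centraliser -/
theorem cover_pgo (hex : ∃ v : ι → F, Q v ≠ 0) (x : MulAut (Cfsg.POmega F ⇑Q))
    (h : ↥(GO Q)) (hcomm : cG Q h * x = x * cG Q h) (hchi : PG.chi Q h = -1)
    (d : MulAut (Cfsg.POmega F ⇑Q)) (hd : d ∈ Cfsg.pgoAut F ⇑Q) :
    ∃ n ∈ Cfsg.poAut F ⇑Q, ∃ c : MulAut (Cfsg.POmega F ⇑Q), c * x = x * c ∧ d = n * c := by
  rw [PG.pgoAut_eq] at hd
  obtain ⟨δ, rfl⟩ := hd
  rcases PG.chi_cases Q δ with h1 | h1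
  · obtain ⟨s, hs⟩ := exists_O_of_chi Q hex δ h1
    refine ⟨cAut Q s, cAut_mem_poAut Q s, 1, by rw [one_mul, mul_one], ?_⟩
    rw [mul_one, hs]
  · have h3 : PG.chi Q (δ * h⁻¹) = 1 := by
      have h4 : PG.chi Q (δ * h⁻¹) * PG.chi Q h = PG.chi Q δ := by
        rw [← PG.chi_mul Q hex, inv_mul_cancel_right]
      rw [hchi, h1] at h4
      linarith
    obtain ⟨s, hs⟩ := exists_O_of_chi Q hex _ h3
    refine ⟨cAut Q s, cAut_mem_poAut Q s, cG Q h, hcomm, ?_⟩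
    rw [← hs, ← map_mul, inv_mul_cancel_right]

/-- the fusion statement, from a covering of the inner-diagonal group -/
theorem fusion_of_cover (hQ : (QuadraticMap.polarBilin Q).Nondegenerate) (fr : Frame3 Q)
    (h2 : (2 : F) ≠ 0) (hex : ∃ v : ι → F, Q v ≠ 0)
    (hperf : commutator ↥(Cfsg.Omega F ⇑Q) = ⊤) {k : ℕ} (hk : Fintype.card ι = 2 * k)
    (h6 : 6 ≤ Fintype.card ι)
    (D : Subgroup (MulAut (Cfsg.POmega F ⇑Q))) (hD : D = IDG.DD Q hex k)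
    (x : MulAut (Cfsg.POmega F ⇑Q)) (hx : x ∈ Cfsg.pgoAut F ⇑Q) {r : ℕ} (hr2 : 2 ≤ r)
    (hodd : Odd r) (hrF : (r : F) ≠ 0) (hxr : x ^ r = 1)
    (hcov : ∀ (g : ↥(Cfsg.isometryGroup F ⇑Q)), x = cAut Q g → g ^ r = 1 →
      ∀ h : ↥(GO Q), h * oGO Q g = oGO Q g * h → PG.chi Q h = -1 → PG.sgn Q k h = 1 →
      ∀ d ∈ D, ∃ n ∈ Cfsg.Inn (Cfsg.POmega F ⇑Q), ∃ c : MulAut (Cfsg.POmega F ⇑Q),
        c * x = x * c ∧ d = n * c) :
    (∀ y : MulAut (Cfsg.POmega F ⇑Q),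
      (Cfsg.IsConjUnder (Cfsg.Inn (Cfsg.POmega F ⇑Q)) x y ↔ Cfsg.IsConjUnder D x y) ∧
      (Cfsg.IsConjUnder (Cfsg.psoAut F ⇑Q) x y ↔ Cfsg.IsConjUnder D x y)) ∧
    (∀ y : MulAut (Cfsg.POmega F ⇑Q),
      Cfsg.IsConjUnder (Cfsg.poAut F ⇑Q) x y ↔ Cfsg.IsConjUnder (Cfsg.pgoAut F ⇑Q) x y) := by
  obtain ⟨g, hxg, hgr⟩ := exists_isom_of_order Q hQ fr h2 hex hperf hk h6 x hx hodd hxr
  obtain ⟨h, hcomm, hchi, hsgn⟩ := exists_comm_GO Q hQ h2 hk hex g hr2 hodd hrF hgr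
  have hcx : cG Q h * x = x * cG Q h := by
    rw [hxg, ← cG_oGO, ← map_mul, ← map_mul, hcomm]
  apply fusion_abstract (Cfsg.Inn (Cfsg.POmega F ⇑Q)) (Cfsg.psoAut F ⇑Q) D (Cfsg.poAut F ⇑Q)
    (Cfsg.pgoAut F ⇑Q) (Inn_le_psoAut Q) (by rw [hD]; exact IDG.psoAut_le_DD Q hex k)
    (poAut_le_pgoAut Q) x
  · exact hcov g hxg hgr h hcomm hchi hsgn
  · exact cover_pgo Q hex x h hcx hchi

/-- the fusion statement when the inner-diagonal group is cyclic over the inner automorphisms -/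
theorem fusion_cyclic (hQ : (QuadraticMap.polarBilin Q).Nondegenerate) (fr : Frame3 Q)
    (h2 : (2 : F) ≠ 0) (hex : ∃ v : ι → F, Q v ≠ 0)
    (hperf : commutator ↥(Cfsg.Omega F ⇑Q) = ⊤) {k : ℕ} (hk : Fintype.card ι = 2 * k)
    (h6 : 6 ≤ Fintype.card ι)
    (D : Subgroup (MulAut (Cfsg.POmega F ⇑Q))) (hD : D = IDG.DD Q hex k)
    (hstruct : (∃ φ : ↥D →* Multiplicative (ZMod 2),
        φ.ker = (Cfsg.Inn (Cfsg.POmega F ⇑Q)).subgroupOf D) ∨
      ((∃ φ : ↥D →* Multiplicative (ZMod 4),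
        φ.ker = (Cfsg.Inn (Cfsg.POmega F ⇑Q)).subgroupOf D) ∧
        (Cfsg.Inn (Cfsg.POmega F ⇑Q)).relIndex (Cfsg.psoAut F ⇑Q) = 2))
    (x : MulAut (Cfsg.POmega F ⇑Q)) (hx : x ∈ Cfsg.pgoAut F ⇑Q) {r : ℕ} (hr2 : 2 ≤ r)
    (hodd : Odd r) (hrF : (r : F) ≠ 0) (hxr : x ^ r = 1) :
    (∀ y : MulAut (Cfsg.POmega F ⇑Q),
      (Cfsg.IsConjUnder (Cfsg.Inn (Cfsg.POmega F ⇑Q)) x y ↔ Cfsg.IsConjUnder D x y) ∧
      (Cfsg.IsConjUnder (Cfsg.psoAut F ⇑Q) x y ↔ Cfsg.IsConjUnder D x y)) ∧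
    (∀ y : MulAut (Cfsg.POmega F ⇑Q),
      Cfsg.IsConjUnder (Cfsg.poAut F ⇑Q) x y ↔ Cfsg.IsConjUnder (Cfsg.pgoAut F ⇑Q) x y) := by
  apply fusion_of_cover Q hQ fr h2 hex hperf hk h6 D hD x hx hr2 hodd hrF hxr
  intro g hxg hgr h hcomm hchi hsgn d hd
  have hcx : cG Q h * x = x * cG Q h := by
    rw [hxg, ← cG_oGO, ← map_mul, ← map_mul, hcomm]
  have hcD : cG Q h ∈ D := by rw [hD]; exact IDG.cG_mem_DD Q hex k h hsgn
  have hcP : cG Q h ∉ Cfsg.psoAut F ⇑Q := IDG.cG_not_mem_psoAut Q hQ fr hex hperf hk h hchi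
  have hPD : Cfsg.psoAut F ⇑Q ≤ D := by rw [hD]; exact IDG.psoAut_le_DD Q hex k
  have key : ∃ n' ∈ Cfsg.Inn (Cfsg.POmega F ⇑Q), ∃ j : ℕ, d = n' * cG Q h ^ j := by
    rcases hstruct with ⟨φ, hker⟩ | ⟨⟨φ, hker⟩, hrel⟩
    · exact cover_cyclic2 D _ φ hker (cG Q h) hcD (fun hc => hcP (Inn_le_psoAut Q hc)) d hd
    · refine cover_cyclic4 D _ (Cfsg.psoAut F ⇑Q) φ hker (Inn_le_psoAut Q) hPD ?_ (cG Q h) hcD
        hcP d hd
      by_contra hcon
      push Not at hcon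
      have h1 : (Cfsg.Inn (Cfsg.POmega F ⇑Q)).relIndex (Cfsg.psoAut F ⇑Q) = 1 :=
        Subgroup.relIndex_eq_one.2 hcon
      omega
  obtain ⟨n', hn', j, hj⟩ := key
  exact ⟨n', hn', cG Q h ^ j, comm_pow_of_comm hcx j, hj⟩

/-- the same, stated for a function equal to the coercion of the quadratic form -/
theorem fusion_cyclic' (f : (ι → F) → F) (hf : f = ⇑Q)
    (hQ : (QuadraticMap.polarBilin Q).Nondegenerate) (fr : Frame3 Q)
    (h2 : (2 : F) ≠ 0) (hex : ∃ v : ι → F, Q v ≠ 0)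
    (hperf : commutator ↥(Cfsg.Omega F ⇑Q) = ⊤) {k : ℕ} (hk : Fintype.card ι = 2 * k)
    (h6 : 6 ≤ Fintype.card ι)
    (D : Subgroup (MulAut (Cfsg.POmega F f))) (hD : HEq D (IDG.DD Q hex k))
    (hstruct : (∃ φ : ↥D →* Multiplicative (ZMod 2),
        φ.ker = (Cfsg.Inn (Cfsg.POmega F f)).subgroupOf D) ∨
      ((∃ φ : ↥D →* Multiplicative (ZMod 4),
        φ.ker = (Cfsg.Inn (Cfsg.POmega F f)).subgroupOf D) ∧
        (Cfsg.Inn (Cfsg.POmega F f)).relIndex (Cfsg.psoAut F f) = 2))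
    (x : MulAut (Cfsg.POmega F f)) (hx : x ∈ Cfsg.pgoAut F f) {r : ℕ} (hr2 : 2 ≤ r)
    (hodd : Odd r) (hrF : (r : F) ≠ 0) (hxr : x ^ r = 1) :
    (∀ y : MulAut (Cfsg.POmega F f),
      (Cfsg.IsConjUnder (Cfsg.Inn (Cfsg.POmega F f)) x y ↔ Cfsg.IsConjUnder D x y) ∧
      (Cfsg.IsConjUnder (Cfsg.psoAut F f) x y ↔ Cfsg.IsConjUnder D x y)) ∧
    (∀ y : MulAut (Cfsg.POmega F f),
      Cfsg.IsConjUnder (Cfsg.poAut F f) x y ↔ Cfsg.IsConjUnder (Cfsg.pgoAut F f) x y) := by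
  subst hf
  exact fusion_cyclic Q hQ fr h2 hex hperf hk h6 D (eq_of_heq hD) hstruct x hx hr2 hodd hrF hxr

end quad

end Cfsg.Agent.Helper28.SSC
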