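import Mathlib
import Cfsg.Agent.Helper28.SemiCls5

set_option autoImplicit false
set_option linter.unusedSectionVars false
set_option linter.style.haveILetI false

/-! The sign of a "uniform" isometry on the vectors of norm one. -/

namespace Cfsg.Agent.Helper28.SSC

open Matrix Module Cfsg.Agent.Helper28.Spin Cfsg.Agent.Helper28.Sg

/-- a permutation all of whose non-trivial cycles have the same length -/
theorem cycleType_of_uniform {α : Type*} [Fintype α] [DecidableEq α] (σ : Equiv.Perm α) (N : ℕ)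
    (hσN : σ ^ N = 1) (h : ∀ x, ∀ j : ℕ, (σ ^ j) x = x → σ x = x ∨ N ∣ j) :
    σ.cycleType = Multiset.replicate (Multiset.card σ.cycleType) N := by
  rw [Multiset.eq_replicate_card]
  intro n hn
  rw [Equiv.Perm.cycleType_def] at hn
  obtain ⟨c, hc, rfl⟩ := Multiset.mem_map.1 hn
  have hc' := Equiv.Perm.mem_cycleFactorsFinset_iff.1 hc
  obtain ⟨x, hx⟩ := hc'.1.nonempty_support
  have hcx : c = σ.cycleOf x := Equiv.Perm.cycle_is_cycleOf hx hc
  rw [Function.comp_apply, ← hc'.1.orderOf]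
  apply Nat.dvd_antisymm
  · apply orderOf_dvd_of_pow_eq_one
    rw [hc'.1.pow_eq_one_iff]
    refine ⟨x, Equiv.Perm.mem_support.1 hx, ?_⟩
    rw [hcx, Equiv.Perm.cycleOf_pow_apply_self, hσN]
    rfl
  · have h1 : (σ ^ orderOf c) x = x := by
      rw [← Equiv.Perm.cycleOf_pow_apply_self, ← hcx, pow_orderOf_eq_one]
      rfl
    rcases h x _ h1 with h2 | h2
    · exfalso
      have := Equiv.Perm.mem_support.1 hx
      rw [hc'.2 x hx] at this
      exact this h2
    · exact h2

/-- a uniform permutation without fixed points: the cardinality is a multiple of the length -/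
theorem card_of_uniform {α : Type*} [Fintype α] [DecidableEq α] (σ : Equiv.Perm α) (N : ℕ)
    (hσN : σ ^ N = 1) (h : ∀ x, ∀ j : ℕ, (σ ^ j) x = x → N ∣ j) (hN : N ≠ 1) :
    Fintype.card α = Multiset.card σ.cycleType * N := by
  have h1 := cycleType_of_uniform σ N hσN (fun x j hj => Or.inr (h x j hj))
  have h3 : σ.support = Finset.univ := by
    rw [Finset.eq_univ_iff_forall]
    intro x
    rw [Equiv.Perm.mem_support]
    intro hx
    have := h x 1 (by rw [pow_one]; exact hx)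
    exact hN (Nat.dvd_one.1 this)
  have h4 := σ.sum_cycleType
  rw [h3, Finset.card_univ, h1, Multiset.sum_replicate, smul_eq_mul] at h4
  rw [← h4]

section sign

variable {F : Type*} [Field F] [Fintype F] [DecidableEq F] {κ : Type} [Fintype κ] [DecidableEq κ]
  (P : QuadraticForm F (κ → F))

/-- the permutation of the vectors given by an isometry -/
noncomputable def vecPerm (s : ↥(Cfsg.isometryGroup F ⇑P)) : Equiv.Perm (κ → F) where
  toFun x := mt P s *ᵥ x
  invFun x := mt P s⁻¹ *ᵥ x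
  left_inv x := mt_inv_mulVec P s x
  right_inv x := mt_mulVec_inv P s x

theorem vecPerm_apply (s : ↥(Cfsg.isometryGroup F ⇑P)) (x : κ → F) :
    vecPerm P s x = mt P s *ᵥ x := rfl

theorem vecPerm_pow (s : ↥(Cfsg.isometryGroup F ⇑P)) (j : ℕ) (x : κ → F) :
    (vecPerm P s ^ j) x = mt P s ^ j *ᵥ x := by
  induction j generalizing x with
  | zero => simp
  | succ j ih =>
    rw [pow_succ, Equiv.Perm.mul_apply, ih, vecPerm_apply, Matrix.mulVec_mulVec, ← pow_succ]

theorem mt_pow (s : ↥(Cfsg.isometryGroup F ⇑P)) (j : ℕ) : mt P (s ^ j) = mt P s ^ j := by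
  induction j with
  | zero => rfl
  | succ j ih => rw [pow_succ, pow_succ, mt_mul, ih]

theorem pow_one_sub {S Pr : Matrix κ κ F} (hs1 : S * (1 - Pr) = 1 - Pr) (j : ℕ) :
    S ^ j * (1 - Pr) = 1 - Pr := by
  induction j with
  | zero => simp
  | succ j ih => rw [pow_succ, Matrix.mul_assoc, hs1, ih]

theorem pow_comm_proj {S Pr : Matrix κ κ F} (hsPr : S * Pr = Pr * S) (j : ℕ) :
    S ^ j * Pr = Pr * S ^ j := ((show Commute S Pr from hsPr).pow_left j).eq

theorem proj_add (Pr : Matrix κ κ F) (x : κ → F) : Pr *ᵥ x + (1 - Pr) *ᵥ x = x := by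
  rw [Matrix.sub_mulVec, Matrix.one_mulVec]; abel

theorem proj_proj {Pr : Matrix κ κ F} (hPr : Pr * Pr = Pr) (x : κ → F) : Pr *ᵥ (Pr *ᵥ x) = Pr *ᵥ x := by
  rw [Matrix.mulVec_mulVec, hPr]

theorem proj_one_sub {Pr : Matrix κ κ F} (hPr : Pr * Pr = Pr) (x : κ → F) :
    Pr *ᵥ ((1 - Pr) *ᵥ x) = 0 := by
  rw [Matrix.mulVec_mulVec, mul_sub, mul_one, hPr, sub_self, Matrix.zero_mulVec]

theorem one_sub_of_proj_zero {Pr : Matrix κ κ F} {x : κ → F} (hx : Pr *ᵥ x = 0) :
    (1 - Pr) *ᵥ x = x := by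
  rw [Matrix.sub_mulVec, Matrix.one_mulVec, hx, sub_zero]

theorem one_sub_of_proj_fix {Pr : Matrix κ κ F} {x : κ → F} (hx : Pr *ᵥ x = x) :
    (1 - Pr) *ᵥ x = 0 := by
  rw [Matrix.sub_mulVec, Matrix.one_mulVec, hx, sub_self]

/-- the action of a power on a vector, in terms of the projection -/
theorem pow_mulVec_split {S Pr : Matrix κ κ F} (hs1 : S * (1 - Pr) = 1 - Pr) (j : ℕ) (x : κ → F) :
    S ^ j *ᵥ x = S ^ j *ᵥ (Pr *ᵥ x) + (1 - Pr) *ᵥ x := by
  conv_lhs => rw [← proj_add Pr x]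
  rw [Matrix.mulVec_add, Matrix.mulVec_mulVec (x) (S ^ j) (1 - Pr), pow_one_sub hs1]

theorem pow_fix_iff {S Pr : Matrix κ κ F} (hs1 : S * (1 - Pr) = 1 - Pr) (j : ℕ) (x : κ → F) :
    S ^ j *ᵥ x = x ↔ S ^ j *ᵥ (Pr *ᵥ x) = Pr *ᵥ x := by
  rw [pow_mulVec_split hs1]
  constructor
  · intro h
    have h1 := proj_add Pr x
    have : S ^ j *ᵥ (Pr *ᵥ x) + (1 - Pr) *ᵥ x = Pr *ᵥ x + (1 - Pr) *ᵥ x := by rw [h, h1]
    exact add_right_cancel this
  · intro h
    rw [h, proj_add]

variable (s : ↥(Cfsg.isometryGroup F ⇑P)) (Pr : Matrix κ κ F)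

/-- the non-zero vectors of the range of the projection, of a given norm -/
abbrev Ac (c : F) : Type _ := {w : κ → F // Pr *ᵥ w = w ∧ w ≠ 0 ∧ P w = c}

theorem card_Ac (hsPr : mt P s * Pr = Pr * mt P s) (N : ℕ) (hN1 : N ≠ 1)
    (hSN : mt P s ^ N = 1)
    (hunif : ∀ x, ∀ j : ℕ, mt P s ^ j *ᵥ (Pr *ᵥ x) = Pr *ᵥ x → Pr *ᵥ x = 0 ∨ N ∣ j) (c : F) :
    ∃ g : ℕ, Fintype.card (Ac P Pr c) = g * N := by
  classical
  have hp : ∀ x : κ → F, (Pr *ᵥ x = x ∧ x ≠ 0 ∧ P x = c) →
      (Pr *ᵥ (vecPerm P s x) = vecPerm P s x ∧ vecPerm P s x ≠ 0 ∧ P (vecPerm P s x) = c) := by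
    rintro x ⟨h1, h3, h4⟩
    refine ⟨?_, ?_, ?_⟩
    · rw [vecPerm_apply, Matrix.mulVec_mulVec, ← hsPr, ← Matrix.mulVec_mulVec, h1]
    · intro h
      apply h3
      have : vecPerm P s x = vecPerm P s 0 := by
        rw [h, vecPerm_apply, Matrix.mulVec_zero]
      exact (vecPerm P s).injective this
    · rw [vecPerm_apply, Spin.isom_apply, h4]
  set σ : Equiv.Perm (Ac P Pr c) := (vecPerm P s).subtypePermOfFintype hp with hσ
  have hσpow : ∀ (j : ℕ) (w : Ac P Pr c), ((σ ^ j) w).1 = mt P s ^ j *ᵥ w.1 := by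
    intro j
    induction j with
    | zero => intro w; simp
    | succ j ih =>
      intro w
      rw [pow_succ, Equiv.Perm.mul_apply, ih, hσ, Equiv.Perm.subtypePermOfFintype_apply]
      simp only
      rw [vecPerm_apply, Matrix.mulVec_mulVec, ← pow_succ]
  have hσN : σ ^ N = 1 := by
    apply Equiv.ext
    intro w
    apply Subtype.ext
    rw [hσpow, hSN, Matrix.one_mulVec]
    rfl
  refine ⟨_, card_of_uniform σ N hσN ?_ hN1⟩
  intro w j hj
  have h1 := congrArg Subtype.val hj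
  rw [hσpow] at h1
  have h3 := hunif w.1 j (by rw [w.2.1]; exact h1)
  rcases h3 with h3 | h3
  · exfalso
    apply w.2.2.1
    rw [← w.2.1]
    exact h3
  · exact h3

/-- **the sign of a uniform isometry** on the vectors of norm one -/
theorem sgn_of_uniform (h2 : (2 : F) ≠ 0) (hPr : Pr * Pr = Pr)
    (horth : ∀ x y, B P (Pr *ᵥ x) ((1 - Pr) *ᵥ y) = 0)
    (hsPr : mt P s * Pr = Pr * mt P s) (hs1 : mt P s * (1 - Pr) = 1 - Pr)
    (N : ℕ) (hNe : Even N) (hN0 : 0 < N) (hSN : mt P s ^ N = 1)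
    (hunif : ∀ x, ∀ j : ℕ, mt P s ^ j *ᵥ (Pr *ᵥ x) = Pr *ᵥ x → Pr *ᵥ x = 0 ∨ N ∣ j)
    (t : ℕ) (ht : Odd t)
    (hcount : Fintype.card {x : κ → F // Pr *ᵥ x = x ∧ P x = 1} = t * N) :
    Spin.sgn ⇑P s = -1 := by
  classical
  have hN1 : N ≠ 1 := by
    rintro rfl
    exact absurd hNe (by decide)
  set π : Equiv.Perm (N1 ⇑P) := MulAction.toPerm s with hπ
  have hπpow : ∀ (j : ℕ) (x : N1 ⇑P), ((π ^ j) x).1 = mt P s ^ j *ᵥ x.1 := by
    intro j x
    have h1 : π ^ j = MulAction.toPerm (s ^ j) := by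
      rw [hπ]
      exact ((MulAction.toPermHom ↥(Cfsg.isometryGroup F ⇑P) (N1 ⇑P)).map_pow s j).symm
    rw [h1, MulAction.toPerm_apply, Spin.smul_val, ← mt_pow]
  have hπN : π ^ N = 1 := by
    apply Equiv.ext
    intro x
    apply Subtype.ext
    rw [hπpow, hSN, Matrix.one_mulVec]
    rfl
  have hfix : ∀ x : N1 ⇑P, π x = x ↔ Pr *ᵥ x.1 = 0 := by
    intro x
    constructor
    · intro h
      have h1 := congrArg Subtype.val h
      have h3 := hπpow 1 x
      rw [pow_one] at h3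
      rw [h3, pow_fix_iff hs1] at h1
      rcases hunif x.1 1 h1 with h4 | h4
      · exact h4
      · exact absurd (Nat.dvd_one.1 h4) hN1
    · intro h
      apply Subtype.ext
      have h3 := hπpow 1 x
      rw [pow_one] at h3
      rw [h3, pow_fix_iff hs1, h, Matrix.mulVec_zero]
  have hunifπ : ∀ x, ∀ j : ℕ, (π ^ j) x = x → π x = x ∨ N ∣ j := by
    intro x j hj
    have h1 := congrArg Subtype.val hj
    rw [hπpow, pow_fix_iff hs1] at h1
    rcases hunif x.1 j h1 with h4 | h4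
    · exact Or.inl ((hfix x).2 h4)
    · exact Or.inr h4
  rw [Spin.sgn_apply, ← hπ,
    Equiv.Perm.sign_of_cycleType_eq_replicate hN0 (cycleType_of_uniform π N hπN hunifπ),
    if_neg (Nat.not_odd_iff_even.2 hNe)]
  -- the moved points
  have hK1 : Fintype.card (N1 ⇑P) - Fintype.card (Function.fixedPoints π) =
      Fintype.card {x : N1 ⇑P // ¬ Pr *ᵥ x.1 = 0} := by
    rw [Fintype.card_subtype_compl]
    congr 1
    apply Fintype.card_congr
    exact Equiv.subtypeEquivRight hfix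
  rw [hK1]
  -- the fibration over the kernel of the projection
  have hPsplit : ∀ w y : κ → F, Pr *ᵥ w = w → Pr *ᵥ y = 0 → P (w + y) = P w + P y := by
    intro w y hw hy
    rw [Sg.Q_add]
    have := horth w y
    rw [hw, one_sub_of_proj_zero hy] at this
    rw [this, add_zero]
  let e : {x : N1 ⇑P // ¬ Pr *ᵥ x.1 = 0} ≃
      Σ y : {y : κ → F // Pr *ᵥ y = 0}, Ac P Pr (1 - P y.1) :=
    { toFun := fun x => ⟨⟨(1 - Pr) *ᵥ x.1.1, proj_one_sub hPr _⟩,
        ⟨Pr *ᵥ x.1.1, proj_proj hPr _, x.2, by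
          have h1 := hPsplit (Pr *ᵥ x.1.1) ((1 - Pr) *ᵥ x.1.1) (proj_proj hPr _)
            (proj_one_sub hPr _)
          rw [proj_add, x.1.2] at h1
          simp only
          linear_combination -h1⟩⟩
      invFun := fun z => ⟨⟨z.2.1 + z.1.1, by
          rw [hPsplit _ _ z.2.2.1 z.1.2, z.2.2.2.2]; ring⟩, by
          simp only
          rw [Matrix.mulVec_add, z.2.2.1, z.1.2, add_zero]
          exact z.2.2.2.1⟩
      left_inv := by
        intro x
        apply Subtype.ext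
        apply Subtype.ext
        exact proj_add Pr x.1.1
      right_inv := by
        rintro ⟨⟨y, hy⟩, ⟨w, hw1, hw2, hw3⟩⟩
        apply Sigma.subtype_ext
        · apply Subtype.ext
          simp only
          rw [Matrix.mulVec_add, one_sub_of_proj_fix hw1, one_sub_of_proj_zero hy, zero_add]
        · simp only
          rw [Matrix.mulVec_add, hw1, hy, add_zero] }
  rw [Fintype.card_congr e, Fintype.card_sigma]
  choose g hg using card_Ac P s Pr hsPr N hN1 hSN hunif
  have hsum : ∑ y : {y : κ → F // Pr *ᵥ y = 0}, Fintype.card (Ac P Pr (1 - P y.1)) =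
      (∑ y : {y : κ → F // Pr *ᵥ y = 0}, g (1 - P y.1)) * N := by
    rw [Finset.sum_mul]
    exact Finset.sum_congr rfl (fun y _ => hg _)
  rw [hsum, Nat.mul_div_cancel _ hN0]
  -- parity
  have hg1 : g 1 = t := by
    have h1 : Fintype.card (Ac P Pr 1) = Fintype.card {x : κ → F // Pr *ᵥ x = x ∧ P x = 1} := by
      apply Fintype.card_congr
      apply Equiv.subtypeEquivRight
      intro x
      constructor
      · rintro ⟨h1, -, h3⟩
        exact ⟨h1, h3⟩
      · rintro ⟨h1, h3⟩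
        refine ⟨h1, ?_, h3⟩
        rintro rfl
        rw [map_zero] at h3
        exact zero_ne_one h3
    rw [hg, hcount] at h1
    exact Nat.eq_of_mul_eq_mul_right hN0 h1
  have hodd : Odd (∑ y : {y : κ → F // Pr *ᵥ y = 0}, g (1 - P y.1)) := by
    rw [← ZMod.natCast_eq_one_iff_odd, Nat.cast_sum]
    set z0 : {y : κ → F // Pr *ᵥ y = 0} := ⟨0, Matrix.mulVec_zero _⟩ with hz0
    rw [← Finset.add_sum_erase Finset.univ _ (Finset.mem_univ z0)]
    have h0 : ∑ y ∈ Finset.univ.erase z0, ((g (1 - P y.1) : ℕ) : ZMod 2) = 0 := by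
      apply Finset.sum_involution (fun y _ => (⟨-y.1, by rw [Matrix.mulVec_neg, y.2, neg_zero]⟩ :
        {y : κ → F // Pr *ᵥ y = 0}))
      · intro y _
        simp only
        rw [QuadraticMap.map_neg]
        exact CharTwo.add_self_eq_zero _
      · intro y hy _ hcon
        have hy0 : y ≠ z0 := (Finset.mem_erase.1 hy).1
        apply hy0
        apply Subtype.ext
        have h1 : -y.1 = y.1 := congrArg Subtype.val hcon
        have h4 : (2 : F) • y.1 = 0 := by
          rw [two_smul]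
          nth_rewrite 1 [← h1]
          simp
        rcases smul_eq_zero.1 h4 with h | h
        · exact absurd h h2
        · exact h
      · intro y _
        apply Subtype.ext
        simp
      · intro y hy
        rw [Finset.mem_erase] at hy ⊢
        refine ⟨?_, Finset.mem_univ _⟩
        intro hcon
        apply hy.1
        apply Subtype.ext
        have h1 : -y.1 = 0 := congrArg Subtype.val hcon
        exact neg_eq_zero.1 h1
    rw [h0, add_zero, hz0]
    simp only
    rw [map_zero, sub_zero, hg1, ZMod.natCast_eq_one_iff_odd]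
    exact ht
  exact hodd.neg_one_pow

end sign

end Cfsg.Agent.Helper28.SSC
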