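import Mathlib
import Cfsg.Agent.Helper28.SemiCls6

set_option autoImplicit false
set_option linter.unusedSectionVars false
set_option linter.style.haveILetI false

/-! The spinor sign of a uniform isometry. -/

namespace Cfsg.Agent.Helper28.SSC

open Matrix Module Cfsg.Agent.Helper28.Spin Cfsg.Agent.Helper28.Sg

variable {F : Type*} [Field F] [Fintype F] [DecidableEq F] {ι : Type} [Fintype ι] [DecidableEq ι]
  (Q : QuadraticForm F (ι → F))

theorem blk_mulVec (A : Matrix (Fin 2) (Fin 2) F) (S : Matrix ι ι F) (x : Fin 2 ⊕ ι → F) :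
    Matrix.fromBlocks A 0 0 S *ᵥ x = Sum.elim (A *ᵥ (x ∘ Sum.inl)) (S *ᵥ (x ∘ Sum.inr)) := by
  rw [Matrix.fromBlocks_mulVec]
  simp

theorem blk_pow (S : Matrix ι ι F) (j : ℕ) :
    (Matrix.fromBlocks (1 : Matrix (Fin 2) (Fin 2) F) 0 0 S) ^ j = Matrix.fromBlocks 1 0 0 (S ^ j) := by
  induction j with
  | zero => simp [Matrix.fromBlocks_one]
  | succ j ih =>
    rw [pow_succ, ih, Matrix.fromBlocks_multiply, pow_succ]
    simp

theorem elim_eq_iff (p p' : Fin 2 → F) (w w' : ι → F) :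
    (Sum.elim p w : Fin 2 ⊕ ι → F) = Sum.elim p' w' ↔ p = p' ∧ w = w' := by
  constructor
  · intro h
    constructor
    · funext i
      exact congrFun h (Sum.inl i)
    · funext i
      exact congrFun h (Sum.inr i)
  · rintro ⟨rfl, rfl⟩
    rfl

theorem elim_comp (x : Fin 2 ⊕ ι → F) : Sum.elim (x ∘ Sum.inl) (x ∘ Sum.inr) = x := by
  funext i
  rcases i with i | i <;> rfl

/-- **the spinor sign of a uniform isometry** -/
theorem theta_of_uniform (h2 : (2 : F) ≠ 0) (s : ↥(Cfsg.isometryGroup F ⇑Q)) (Pr : Matrix ι ι F)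
    (hPr : Pr * Pr = Pr)
    (horth : ∀ x y, B Q (Pr *ᵥ x) ((1 - Pr) *ᵥ y) = 0)
    (hsPr : mt Q s * Pr = Pr * mt Q s) (hs1 : mt Q s * (1 - Pr) = 1 - Pr)
    (N : ℕ) (hNe : Even N) (hN0 : 0 < N) (hSN : mt Q s ^ N = 1)
    (hunif : ∀ x, ∀ j : ℕ, mt Q s ^ j *ᵥ (Pr *ᵥ x) = Pr *ᵥ x → Pr *ᵥ x = 0 ∨ N ∣ j)
    (t : ℕ) (ht : Odd t)
    (hcount : Fintype.card {x : ι → F // Pr *ᵥ x = x ∧ Q x = 1} = t * N) :
    Spin.theta Q s = -1 := by
  classical
  show Spin.sgn ⇑(extQ Q) (extO Q s) = -1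
  obtain ⟨Pr', hPr'⟩ : ∃ Pr' : Matrix (Fin 2 ⊕ ι) (Fin 2 ⊕ ι) F, Pr' = Matrix.fromBlocks 0 0 0 Pr :=
    ⟨_, rfl⟩
  have hmul : ∀ z : Fin 2 ⊕ ι → F, Pr' *ᵥ z = Sum.elim (0 : Fin 2 → F) (Pr *ᵥ (z ∘ Sum.inr)) := by
    intro z
    rw [hPr', blk_mulVec, Matrix.zero_mulVec]
  have hmt : mt (extQ Q) (extO Q s) = Matrix.fromBlocks 1 0 0 (mt Q s) := extO_val Q s
  have h1Pr : (1 : Matrix (Fin 2 ⊕ ι) (Fin 2 ⊕ ι) F) - Pr' = Matrix.fromBlocks 1 0 0 (1 - Pr) := by
    rw [hPr', ← Matrix.fromBlocks_one]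
    ext i j
    rcases i with i | i <;> rcases j with j | j <;> simp [Matrix.sub_apply, Matrix.one_apply]
  apply sgn_of_uniform (extQ Q) (extO Q s) Pr' h2 ?_ ?_ ?_ ?_ N hNe hN0 ?_ ?_ t ht ?_
  · rw [hPr', Matrix.fromBlocks_multiply]
    simp [hPr]
  · intro x y
    rw [h1Pr, hPr', blk_mulVec, blk_mulVec]
    show QuadraticMap.polar ⇑(extQ Q) _ _ = 0
    rw [polar_extQ]
    have := horth (x ∘ Sum.inr) (y ∘ Sum.inr)
    simp only [B] at this
    rw [this]
    simp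
  · rw [hmt, hPr', Matrix.fromBlocks_multiply, Matrix.fromBlocks_multiply]
    simp [hsPr]
  · rw [hmt, h1Pr, Matrix.fromBlocks_multiply]
    simp [hs1]
  · rw [hmt, blk_pow, hSN, Matrix.fromBlocks_one]
  · intro x j hj
    rw [hmt, blk_pow, hPr', blk_mulVec, blk_mulVec, elim_eq_iff] at hj
    simp only [Function.comp_def, Sum.elim_inr] at hj
    rcases hunif (x ∘ Sum.inr) j hj.2 with h | h
    · left
      rw [hPr', blk_mulVec, h]
      funext i
      rcases i with i | i <;> simp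
    · exact Or.inr h
  · rw [← hcount]
    apply Fintype.card_congr
    refine ⟨fun x => ⟨x.1 ∘ Sum.inr, ?_, ?_⟩, fun x => ⟨Sum.elim (0 : Fin 2 → F) x.1, ?_, ?_⟩, ?_, ?_⟩
    · have h := x.2.1
      rw [hmul] at h
      conv_rhs at h => rw [← elim_comp x.1]
      rw [elim_eq_iff] at h
      exact h.2
    · have h := x.2.1
      rw [hmul] at h
      conv_rhs at h => rw [← elim_comp x.1]
      rw [elim_eq_iff] at h
      have h3 := x.2.2
      rw [extQ_apply] at h3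
      have h4 : x.1 (Sum.inl 0) = 0 := by
        have := congrFun h.1 0
        simp at this
        exact this.symm
      rw [h4, zero_mul, zero_add] at h3
      exact h3
    · rw [hmul]
      simp only [Function.comp_def, Sum.elim_inr]
      rw [elim_eq_iff]
      exact ⟨rfl, x.2.1⟩
    · rw [extQ_inr]
      exact x.2.2
    · intro x
      apply Subtype.ext
      simp only
      have h := x.2.1
      rw [hmul] at h
      conv_rhs at h => rw [← elim_comp x.1]
      rw [elim_eq_iff] at h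
      conv_rhs => rw [← elim_comp x.1]
      rw [elim_eq_iff]
      exact ⟨h.1, rfl⟩
    · intro x
      apply Subtype.ext
      rfl

end Cfsg.Agent.Helper28.SSC
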