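import Mathlib

set_option autoImplicit false
set_option linter.unusedSectionVars false
set_option linter.style.haveILetI false

/-! Finite reduced commutative rings with an involution: primitive invariant idempotents and the
norm-one group. -/

namespace Cfsg.Agent.Helper28.SSC

section ring

variable {R : Type*} [CommRing R] [Finite R] [IsReduced R]

/-- every element generates an idempotent -/
theorem exists_idem_pow (y : R) : ∃ k : ℕ, 1 ≤ k ∧ y ^ k * y ^ k = y ^ k ∧ y * y ^ k = y := by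
  obtain ⟨a, b, hab, h⟩ := Finite.exists_ne_map_eq_of_infinite (fun n : ℕ => y ^ n)
  wlog hlt : a < b generalizing a b
  · exact this b a (Ne.symm hab) h.symm (lt_of_le_of_ne (not_lt.1 hlt) (Ne.symm hab))
  obtain ⟨d, rfl⟩ : ∃ d, b = a + d := ⟨b - a, by omega⟩
  have hd : 1 ≤ d := by omega
  have h1 : y ^ a * (1 - y ^ d) = 0 := by
    rw [mul_sub, mul_one, ← pow_add, ← h, sub_self]
  have h3 : y * (1 - y ^ d) = 0 := by
    apply IsReduced.eq_zero
    refine ⟨a + 1, ?_⟩
    rw [mul_pow, pow_succ, pow_succ, mul_assoc, mul_comm y, ← mul_assoc, ← mul_assoc,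
      mul_assoc (y ^ a), mul_comm _ (1 - y ^ d), ← mul_assoc, h1]
    simp
  have h4 : y * y ^ d = y := by linear_combination -h3
  refine ⟨d, hd, ?_, h4⟩
  obtain ⟨d', rfl⟩ : ∃ d', d = d' + 1 := ⟨d - 1, by omega⟩
  calc y ^ (d' + 1) * y ^ (d' + 1) = y ^ d' * (y * y ^ (d' + 1)) := by ring
    _ = y ^ (d' + 1) := by rw [h4, pow_succ]

variable (σ : R →+* R)

/-- invariant idempotents without proper invariant sub-idempotents -/
structure IsSP (e : R) : Prop where
  idem : e * e = e
  fix : σ e = e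
  ne : e ≠ 0
  prim : ∀ w, w * w = w → σ w = w → w * e = w → w = 0 ∨ w = e

/-- a minimal invariant idempotent satisfying an "additive" property -/
theorem exists_sprim (p : R → Prop) (hp_add : ∀ a b, p (a + b) → p a ∨ p b) (h1 : p 1)
    (h0 : ¬ p 0) : ∃ e, IsSP σ e ∧ p e := by
  classical
  set 𝓘 : Set R := {e | e * e = e ∧ σ e = e ∧ p e} with h𝓘
  have hne : 𝓘.Nonempty := ⟨1, by rw [h𝓘]; exact ⟨one_mul 1, map_one σ, h1⟩⟩
  set f : R → ℕ := fun e => Set.ncard {x : R | x * e = x} with hf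
  set e := Function.argminOn f 𝓘 hne with he
  have heI : e ∈ 𝓘 := Function.argminOn_mem f 𝓘 hne
  obtain ⟨he1, he2, he3⟩ := heI
  have hmin : ∀ w ∈ 𝓘, w * e = w → e * w = e := by
    intro w hw hwe
    have hle : f e ≤ f w := Function.argminOn_le f 𝓘 hw
    have hsub : {x : R | x * w = x} ⊆ {x : R | x * e = x} := by
      intro x hx
      show x * e = x
      have hx' : x * w = x := hx
      rw [← hx', mul_assoc, hwe]
    have heq := Set.eq_of_subset_of_ncard_le hsub hle (Set.toFinite _)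
    have : e ∈ {x : R | x * w = x} := by
      rw [heq]
      exact he1
    exact this
  refine ⟨e, ⟨he1, he2, ?_, ?_⟩, he3⟩
  · rintro h
    rw [h] at he3
    exact h0 he3
  · intro w hw1 hw2 hwe
    have hsplit : e = w + (e - w) := by ring
    have hp := he3
    rw [hsplit] at hp
    rcases hp_add _ _ hp with hpw | hpw
    · right
      have := hmin w ⟨hw1, hw2, hpw⟩ hwe
      rw [mul_comm] at this
      rw [← hwe, this]
    · left
      have hew : (e - w) * (e - w) = e - w := by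
        have : w * e = w := hwe
        linear_combination he1 - 2 * this + hw1
      have hσ : σ (e - w) = e - w := by rw [map_sub, he2, hw2]
      have hle : (e - w) * e = e - w := by
        linear_combination he1 - hwe
      have := hmin (e - w) ⟨hew, hσ, hpw⟩ hle
      linear_combination he1 - this - hwe

variable {σ} (hσ : ∀ x, σ (σ x) = x) {e : R} (he : IsSP σ e)
include hσ he

/-- invariant elements are zero or invertible on the block -/
theorem IsSP.unit_or_zero (y : R) (hy : σ y = y) :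
    e * y = 0 ∨ ∃ z, σ z = z ∧ e * z = z ∧ y * z = e := by
  obtain ⟨k, hk, hidem, hyk⟩ := exists_idem_pow (e * y)
  have hσw : σ ((e * y) ^ k) = (e * y) ^ k := by rw [map_pow, map_mul, he.fix, hy]
  have hwe : (e * y) ^ k * e = (e * y) ^ k := by
    obtain ⟨k', rfl⟩ : ∃ k', k = k' + 1 := ⟨k - 1, by omega⟩
    rw [pow_succ]
    linear_combination (e * y) ^ k' * y * he.idem
  rcases he.prim _ hidem hσw hwe with h | h
  · left
    rw [← hyk, h, mul_zero]
  · right
    obtain ⟨k', rfl⟩ : ∃ k', k = k' + 1 := ⟨k - 1, by omega⟩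
    refine ⟨e * (e * y) ^ k', ?_, ?_, ?_⟩
    · rw [map_mul, map_pow, map_mul, he.fix, hy]
    · rw [← mul_assoc, he.idem]
    · rw [pow_succ] at h
      linear_combination h

/-- elements with non-zero norm on the block are invertible on the block -/
theorem IsSP.unit_of_norm (a : R) (ha : e * (a * σ a) ≠ 0) : ∃ z, e * z = z ∧ a * z = e := by
  have hfix : σ (a * σ a) = a * σ a := by rw [map_mul, hσ, mul_comm]
  rcases he.unit_or_zero hσ (a * σ a) hfix with h | ⟨z, -, hz2, hz3⟩
  · exact absurd h ha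
  · refine ⟨σ a * z, ?_, ?_⟩
    · linear_combination σ a * hz2
    · linear_combination hz3

/-- invariant proper ideals vanish on the block -/
theorem IsSP.ideal_zero (J : Ideal R) (hJσ : ∀ x ∈ J, σ x ∈ J) (heJ : e ∉ J) (x : R)
    (hx : x ∈ J) : e * x = 0 := by
  have key : ∀ y ∈ J, σ y = y → e * y = 0 := by
    intro y hyJ hy
    rcases he.unit_or_zero hσ y hy with h | ⟨z, -, -, hz⟩
    · exact h
    · exfalso
      apply heJ
      rw [← hz]
      exact J.mul_mem_right z hyJ
  have h1 : e * (x * σ x) = 0 :=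
    key _ (J.mul_mem_right _ hx) (by rw [map_mul, hσ, mul_comm])
  have h3 : e * (x + σ x) = 0 :=
    key _ (J.add_mem hx (hJσ x hx)) (by rw [map_add, hσ, add_comm])
  apply IsReduced.eq_zero
  refine ⟨2, ?_⟩
  linear_combination (-e) * h1 + (e * x) * h3 + (x ^ 2 - x * (x + σ x) + x * σ x) * he.idem

omit he in
/-- the norm-one group of the block -/
def Ue (σ : R →+* R) (hσ : ∀ x, σ (σ x) = x) (e : R) (hefix : σ e = e) : Subgroup Rˣ where
  carrier := {u | (u : R) * σ u = 1 ∧ (1 - e) * u = 1 - e}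
  mul_mem' := by
    rintro u u' ⟨h1, h2⟩ ⟨h1', h2'⟩
    refine ⟨?_, ?_⟩
    · rw [Units.val_mul, map_mul]
      linear_combination (↑u' * σ ↑u') * h1 + h1'
    · rw [Units.val_mul]
      linear_combination (u' : R) * h2 + h2'
  one_mem' := by
    refine ⟨?_, ?_⟩
    · rw [Units.val_one, map_one, mul_one]
    · rw [Units.val_one, mul_one]
  inv_mem' := by
    rintro u ⟨h1, h2⟩
    have hinv : ((u⁻¹ : Rˣ) : R) = σ u := by
      rw [Units.inv_eq_of_mul_eq_one_right h1]
    refine ⟨?_, ?_⟩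
    · rw [hinv, hσ, mul_comm]; exact h1
    · rw [hinv]
      have := congrArg σ h2
      rw [map_mul, map_sub, map_one, hefix] at this
      exact this

omit he in
theorem mem_Ue (hefix : σ e = e) (u : Rˣ) :
    u ∈ Ue σ hσ e hefix ↔ (u : R) * σ u = 1 ∧ (1 - e) * u = 1 - e := Iff.rfl

/-- non-trivial elements of the norm-one group are fixed-point free on the block -/
theorem IsSP.Ue_sub_one (u : Rˣ) (hu : u ∈ Ue σ hσ e he.fix) (hu1 : u ≠ 1) :
    ∃ z, e * z = z ∧ ((u : R) - 1) * z = e := by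
  obtain ⟨h1, h2⟩ := hu
  apply he.unit_of_norm hσ
  intro hcon
  apply hu1
  apply Units.ext
  rw [Units.val_one]
  have h3 : e * ((u : R) - 1) = 0 := by
    apply IsReduced.eq_zero
    refine ⟨2, ?_⟩
    rw [map_sub, map_one] at hcon
    linear_combination (-(u : R) * e) * hcon + (e ^ 2 * ((u : R) - 1)) * h1
  linear_combination h3 + h2

/-- the norm-one group of the block is cyclic -/
theorem IsSP.Ue_cyclic : IsCyclic ↥(Ue σ hσ e he.fix) := by
  have hne : Ideal.span {1 - e} ≠ ⊤ := by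
    intro h
    rw [Ideal.eq_top_iff_one, Ideal.mem_span_singleton'] at h
    obtain ⟨a, ha⟩ := h
    apply he.ne
    linear_combination (-e) * ha - a * he.idem
  obtain ⟨𝔪, h𝔪, hle⟩ := Ideal.exists_le_maximal _ hne
  haveI := h𝔪
  letI : Field (R ⧸ 𝔪) := Ideal.Quotient.field 𝔪
  let f : ↥(Ue σ hσ e he.fix) →* (R ⧸ 𝔪) :=
    ((Ideal.Quotient.mk 𝔪 : R →+* R ⧸ 𝔪) : R →* R ⧸ 𝔪).comp
      ((Units.coeHom R).comp (Subgroup.subtype _))
  apply isCyclic_of_injective_ringHom f
  rw [injective_iff_map_eq_one]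
  intro u hu
  by_contra hu1
  have hu1' : (u : Rˣ) ≠ 1 := fun h => hu1 (Subtype.ext h)
  obtain ⟨z, hz1, hz2⟩ := he.Ue_sub_one hσ u.1 u.2 hu1'
  have h1 : ((u : Rˣ) : R) - 1 ∈ 𝔪 := by
    rw [← Ideal.Quotient.eq, map_one]
    exact hu
  have h2 : e ∈ 𝔪 := by
    rw [← hz2]
    exact 𝔪.mul_mem_right z h1
  have h3 : 1 - e ∈ 𝔪 := hle (Ideal.subset_span rfl)
  apply h𝔪.ne_top
  rw [Ideal.eq_top_iff_one]
  have : (1 : R) = e + (1 - e) := by ring
  rw [this]
  exact 𝔪.add_mem h2 h3

/-- the norm-one group has even order -/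
theorem IsSP.two_dvd_card (h2 : IsUnit (2 : R)) (hσ2 : σ 2 = 2) :
    2 ∣ Nat.card ↥(Ue σ hσ e he.fix) := by
  have hsq : (1 - 2 * e) * (1 - 2 * e) = 1 := by linear_combination 4 * he.idem
  set u : Rˣ := ⟨1 - 2 * e, 1 - 2 * e, hsq, hsq⟩ with hu
  have huU : u ∈ Ue σ hσ e he.fix := by
    refine ⟨?_, ?_⟩
    · show (1 - 2 * e) * σ (1 - 2 * e) = 1
      rw [map_sub, map_mul, map_one, he.fix, hσ2]
      exact hsq
    · show (1 - e) * (1 - 2 * e) = 1 - e
      linear_combination 2 * he.idem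
  have hu1 : (⟨u, huU⟩ : ↥(Ue σ hσ e he.fix)) ≠ 1 := by
    intro h
    have h1 : (u : R) = 1 := congrArg (fun w : ↥(Ue σ hσ e he.fix) => ((w : Rˣ) : R)) h
    have h3 : (2 : R) * e = 0 := by
      have : (u : R) = 1 - 2 * e := rfl
      rw [this] at h1
      linear_combination -h1
    apply he.ne
    obtain ⟨t, ht⟩ := h2.exists_left_inv
    linear_combination t * h3 - e * ht
  have hu2 : (⟨u, huU⟩ : ↥(Ue σ hσ e he.fix)) ^ 2 = 1 := by
    apply Subtype.ext
    apply Units.ext
    show ((u ^ 2 : Rˣ) : R) = 1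
    rw [Units.val_pow_eq_pow_val, pow_two]
    exact hsq
  have := orderOf_eq_prime hu2 hu1
  rw [← this]
  exact orderOf_dvd_natCard _

/-- the norm fibres over non-zero elements are torsors -/
theorem IsSP.card_fiber (y : R) (hy0 : y ≠ 0) (x₀ : R) (hx₀e : e * x₀ = x₀)
    (hx₀ : x₀ * σ x₀ = y) :
    Nat.card {x : R // e * x = x ∧ x * σ x = y} = Nat.card ↥(Ue σ hσ e he.fix) := by
  have hey : e * y = y := by rw [← hx₀]; linear_combination σ x₀ * hx₀e
  obtain ⟨z, hz1, hz2⟩ := he.unit_of_norm hσ x₀ (by rw [hx₀, hey]; exact hy0)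
  have hσz : σ x₀ * σ z = e := by rw [← map_mul, hz2, he.fix]
  have hσ1e : σ (1 - e) = 1 - e := by rw [map_sub, map_one, he.fix]
  symm
  apply Nat.card_congr
  refine Equiv.ofBijective (fun u => ⟨(u : Rˣ) * x₀, ?_, ?_⟩) ⟨?_, ?_⟩
  · linear_combination ((u : Rˣ) : R) * hx₀e
  · rw [map_mul]
    linear_combination (x₀ * σ x₀) * u.2.1 + hx₀
  · intro u u' h
    have h1 : ((u : Rˣ) : R) * x₀ = ((u' : Rˣ) : R) * x₀ := congrArg Subtype.val h
    apply Subtype.ext
    apply Units.ext
    have h3 : ((u : Rˣ) : R) * e = ((u' : Rˣ) : R) * e := by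
      linear_combination z * h1 - (((u : Rˣ) : R) - ((u' : Rˣ) : R)) * hz2
    linear_combination h3 + u.2.2 - u'.2.2
  · rintro ⟨x, hx1, hx2⟩
    set t := x * z with ht
    have ht1 : t * (1 - e) = 0 := by rw [ht]; linear_combination (-x) * hz1
    have ht2 : σ t * (1 - e) = 0 := by
      rw [← hσ1e, ← map_mul, ht1, map_zero]
    have htn : t * σ t = e := by
      rw [ht, map_mul]
      have : x * z * (σ x * σ z) = (x * σ x) * (z * σ z) := by ring
      rw [this, hx2, ← hx₀]
      have : x₀ * σ x₀ * (z * σ z) = (x₀ * z) * (σ x₀ * σ z) := by ring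
      rw [this, hz2, hσz, he.idem]
    have hun : (t + (1 - e)) * σ (t + (1 - e)) = 1 := by
      rw [map_add, hσ1e]
      linear_combination htn + ht1 + ht2 + he.idem
    have hun' : σ (t + (1 - e)) * (t + (1 - e)) = 1 := by rw [mul_comm]; exact hun
    refine ⟨⟨⟨t + (1 - e), σ (t + (1 - e)), hun, hun'⟩, ⟨hun, ?_⟩⟩, ?_⟩
    · show (1 - e) * (t + (1 - e)) = 1 - e
      linear_combination ht1 + he.idem
    · apply Subtype.ext
      show (t + (1 - e)) * x₀ = x
      rw [ht]
      linear_combination x * hz2 - hx₀e + hx1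

/-- **the count**: the number of block elements of prescribed "trace-norm" is an odd multiple of
the order of the norm-one group -/
theorem IsSP.card_norm_level {F : Type*} [Field F] [Algebra F R] (h2 : (2 : F) ≠ 0)
    (hσF : ∀ (c : F) (x : R), σ (c • x) = c • σ x)
    (hnorm : ∀ y, σ y = y → ∃ a, a * σ a = y) (T : R →ₗ[F] F) (hTe : T e ≠ 0) (c : F)
    (hc : c ≠ 0) :
    ∃ t, Odd t ∧ Nat.card {x : R // e * x = x ∧ T (x * σ x) = c} =
      t * Nat.card ↥(Ue σ hσ e he.fix) := by
  classical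
  haveI : Fintype R := Fintype.ofFinite R
  set Y := {y : R // e * y = y ∧ σ y = y ∧ T y = c} with hY
  have hfix : ∀ x : R, σ (x * σ x) = x * σ x := fun x => by rw [map_mul, hσ, mul_comm]
  let ν : {x : R // e * x = x ∧ T (x * σ x) = c} → Y := fun x =>
    ⟨x.1 * σ x.1, by linear_combination σ x.1 * x.2.1, hfix _, x.2.2⟩
  have hfiber : ∀ y : Y, Nat.card {x // ν x = y} = Nat.card ↥(Ue σ hσ e he.fix) := by
    intro y
    obtain ⟨a, ha⟩ := hnorm y.1 y.2.2.1
    have hy0 : y.1 ≠ 0 := by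
      intro h
      have := y.2.2.2
      rw [h, map_zero] at this
      exact hc this.symm
    have hx₀ : (e * a) * σ (e * a) = y.1 := by
      rw [map_mul, he.fix]
      have : e * a * (e * σ a) = (e * e) * (a * σ a) := by ring
      rw [this, ha, he.idem, y.2.1]
    rw [← he.card_fiber hσ y.1 hy0 (e * a) (by rw [← mul_assoc, he.idem]) hx₀]
    apply Nat.card_congr
    refine ⟨fun x => ⟨x.1.1, x.1.2.1, congrArg Subtype.val x.2⟩,
      fun x => ⟨⟨x.1, x.2.1, by rw [x.2.2]; exact y.2.2.2⟩, Subtype.ext x.2.2⟩, ?_, ?_⟩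
    · intro x; rfl
    · intro x; rfl
  have hcard : Nat.card {x : R // e * x = x ∧ T (x * σ x) = c} =
      Nat.card Y * Nat.card ↥(Ue σ hσ e he.fix) := by
    rw [← Nat.card_congr (Equiv.sigmaFiberEquiv ν), Nat.card_sigma]
    rw [Finset.sum_congr rfl (fun y _ => hfiber y), Finset.sum_const, Finset.card_univ,
      smul_eq_mul, Nat.card_eq_fintype_card, Nat.card_eq_fintype_card]
  refine ⟨Nat.card Y, ?_, hcard⟩
  -- parity of `Y`
  set y₀ : R := (c / T e) • e with hy₀
  have hy₀e : e * y₀ = y₀ := by rw [hy₀, mul_smul_comm, he.idem]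
  have hy₀σ : σ y₀ = y₀ := by rw [hy₀, hσF, he.fix]
  have hy₀T : T y₀ = c := by
    rw [hy₀, map_smul, smul_eq_mul, div_mul_cancel₀ _ hTe]
  have hmem : ∀ y : Y, e * (2 • y₀ - y.1) = 2 • y₀ - y.1 ∧ σ (2 • y₀ - y.1) = 2 • y₀ - y.1 ∧
      T (2 • y₀ - y.1) = c := by
    intro y
    refine ⟨?_, ?_, ?_⟩
    · rw [mul_sub, mul_smul_comm, hy₀e, y.2.1]
    · rw [map_sub, map_nsmul, hy₀σ, y.2.2.1]
    · rw [map_sub, map_nsmul, hy₀T, y.2.2.2, two_nsmul]; ring
  let τ : Equiv.Perm Y :=
    ⟨fun y => ⟨2 • y₀ - y.1, hmem y⟩, fun y => ⟨2 • y₀ - y.1, hmem y⟩,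
      fun y => by apply Subtype.ext; simp, fun y => by apply Subtype.ext; simp⟩
  have hτ2 : τ ^ 2 = 1 := by
    apply Equiv.ext
    intro y
    apply Subtype.ext
    rw [pow_two, Equiv.Perm.mul_apply]
    show 2 • y₀ - (2 • y₀ - y.1) = y.1
    abel
  have hsupp : τ.supportᶜ = {⟨y₀, hy₀e, hy₀σ, hy₀T⟩} := by
    ext y
    rw [Finset.mem_compl, Equiv.Perm.mem_support, not_not, Finset.mem_singleton]
    constructor
    · intro h
      apply Subtype.ext
      have h1 : 2 • y₀ - y.1 = y.1 := congrArg Subtype.val h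
      have h3 : (2 : F) • (y.1 - y₀) = 0 := by
        rw [two_smul]
        rw [two_nsmul] at h1
        linear_combination (exp := 1) -h1
      rcases smul_eq_zero.1 h3 with h | h
      · exact absurd h h2
      · exact sub_eq_zero.1 h
    · rintro rfl
      apply Subtype.ext
      show 2 • y₀ - y₀ = y₀
      rw [two_nsmul]; abel
  have h4 := Finset.card_add_card_compl τ.support
  rw [hsupp, Finset.card_singleton] at h4
  obtain ⟨k, hk⟩ := Equiv.Perm.two_dvd_card_support hτ2
  rw [Nat.card_eq_fintype_card, ← h4, hk]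
  exact ⟨k, by ring⟩

end ring

end Cfsg.Agent.Helper28.SSC
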