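import Mathlib
import Cfsg.Agent.Helper28.SemiCls7
import Cfsg.Agent.Helper28.SemiCls8

set_option autoImplicit false
set_option linter.unusedSectionVars false
set_option linter.style.haveILetI false

/-! Semisimple isometries of odd order without fixed vectors: the block module. -/

namespace Cfsg.Agent.Helper28.SSC

open Matrix Module Polynomial Cfsg.Agent.Helper28.Spin Cfsg.Agent.Helper28.Sg
  Cfsg.Agent.Helper28.NDM

section norm

variable {F : Type*} [Field F] [Finite F]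

/-- every invariant element of the quotient ring is a norm -/
theorem exists_norm_RR {r : ℕ} (hr : 2 ≤ r) (hodd : Odd r) (hrF : (r : F) ≠ 0)
    (h2 : (2 : F) ≠ 0) (c : AdjoinRoot (Phi F r)) (hc : sig (by omega) hrF c = c) :
    ∃ a : AdjoinRoot (Phi F r), a * sig (by omega) hrF a = c := by
  have hr0 : r ≠ 0 := by omega
  haveI : Finite (AdjoinRoot (Phi F r)) := RR_finite hr0
  haveI : IsReduced (AdjoinRoot (Phi F r)) := RR_reduced hrF
  set σ := sig hr0 hrF with hσ
  have hσσ : ∀ x, σ (σ x) = x := sig_sig hr hrF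
  set ζ := zz F r with hζ
  set y := ζ ^ (r - 1) with hy
  have hσζ : σ ζ = y := sig_zz hr0 hrF
  have hyζ : y * ζ = 1 := zz_pow_pred_mul hr0
  have hσy : σ y = ζ := by rw [← hσζ, hσσ]
  set S : Subring (AdjoinRoot (Phi F r)) :=
    (σ : AdjoinRoot (Phi F r) →+* AdjoinRoot (Phi F r)).eqLocus (RingHom.id _) with hS
  have hmem : ∀ x, x ∈ S ↔ σ x = x := fun x => Iff.rfl
  haveI : Finite S := Subtype.finite
  haveI : IsReduced S := isReduced_of_injective S.subtype Subtype.coe_injective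
  set β := ζ - y with hβ
  have hσβ : σ β = -β := by rw [hβ, map_sub, hσζ, hσy]; ring
  have hβu : IsUnit β := by
    have : β = y * ((ζ - 1) * (ζ + 1)) := by
      rw [hβ]; linear_combination (-ζ) * hyζ
    rw [this]
    exact ((zz_isUnit hr0).pow _).mul ((zz_sub_one_isUnit hrF).mul (zz_add_one_isUnit hodd h2))
  obtain ⟨β', hβ'⟩ := hβu.exists_right_inv
  have hσβ' : σ β' = -β' := by
    have h1 : σ β * σ β' = 1 := by rw [← map_mul, hβ', map_one]
    rw [hσβ] at h1
    have h3 : β' * β = 1 := by rw [mul_comm]; exact hβ'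
    calc σ β' = (β' * β) * σ β' := by rw [h3, one_mul]
      _ = -β' * (-β * σ β') := by ring
      _ = -β' := by rw [h1, mul_one]
  have hδS : β ^ 2 ∈ S := by rw [hmem, map_pow, hσβ]; ring
  have hδ'S : β' ^ 2 ∈ S := by rw [hmem, map_pow, hσβ']; ring
  have hδu : IsUnit (⟨β ^ 2, hδS⟩ : S) := by
    apply IsUnit.of_mul_eq_one (⟨β' ^ 2, hδ'S⟩ : S)
    apply Subtype.ext
    show β ^ 2 * β' ^ 2 = 1
    rw [← mul_pow, hβ', one_pow]
  have hofS : ∀ c : F, algebraMap F (AdjoinRoot (Phi F r)) c ∈ S := by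
    intro c
    rw [hmem]
    exact σ.commutes c
  have h2u : IsUnit (2 : S) := by
    apply IsUnit.of_mul_eq_one (⟨algebraMap F (AdjoinRoot (Phi F r)) (2⁻¹), hofS _⟩ : S)
    apply Subtype.ext
    show (2 : AdjoinRoot (Phi F r)) * algebraMap F (AdjoinRoot (Phi F r)) (2⁻¹) = 1
    have : (2 : AdjoinRoot (Phi F r)) = algebraMap F (AdjoinRoot (Phi F r)) 2 := by
      rw [map_ofNat]
    rw [this, ← map_mul, mul_inv_cancel₀ h2, map_one]
  obtain ⟨x, z, hxz⟩ := exists_binary_ring (S := S) h2u ⟨β ^ 2, hδS⟩ hδu ⟨c, hc⟩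
  have hxz' : (x : AdjoinRoot (Phi F r)) ^ 2 - β ^ 2 * (z : AdjoinRoot (Phi F r)) ^ 2 = c :=
    congrArg Subtype.val hxz
  have hσx : σ (x : AdjoinRoot (Phi F r)) = x := (hmem _).1 x.2
  have hσz : σ (z : AdjoinRoot (Phi F r)) = z := (hmem _).1 z.2
  refine ⟨(x : AdjoinRoot (Phi F r)) + (z : AdjoinRoot (Phi F r)) * β, ?_⟩
  rw [map_add, map_mul, hσx, hσz, hσβ, ← hxz']
  ring

end norm

section block

variable {F : Type*} [Field F] [Fintype F] [DecidableEq F] {ι : Type} [Fintype ι] [DecidableEq ι]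
  {Q : QuadraticForm F (ι → F)} {M : Matrix ι ι F} {r : ℕ}

theorem SSData.aeval_Phi_zero (D : SSData Q M r) (hV : V1 M = ⊥) : aeval M (Phi F r) = 0 := by
  rw [D.Phi_eq_ee]
  have : ee F M r = 0 := by
    apply Spin.matrix_ext_mulVec
    intro x
    have h := D.ee_mem x
    rw [hV, Submodule.mem_bot] at h
    rw [h, Matrix.zero_mulVec]
  rw [this, smul_zero]

/-- the action of the quotient ring -/
noncomputable def rho (M : Matrix ι ι F) (r : ℕ) (hΦ : aeval M (Phi F r) = 0) :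
    AdjoinRoot (Phi F r) →ₐ[F] Matrix ι ι F :=
  Ideal.Quotient.liftₐ (Ideal.span {Phi F r}) (aeval M) (by
    intro a ha
    rw [Ideal.mem_span_singleton] at ha
    obtain ⟨b, rfl⟩ := ha
    rw [map_mul, hΦ, zero_mul])

theorem rho_mk (hΦ : aeval M (Phi F r) = 0) (a : F[X]) :
    rho M r hΦ (AdjoinRoot.mk (Phi F r) a) = aeval M a := rfl

variable (D : SSData Q M r) (hΦ : aeval M (Phi F r) = 0)

theorem rho_zz : rho M r hΦ (zz F r) = M := by
  have : zz F r = AdjoinRoot.mk (Phi F r) X := rfl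
  rw [this, rho_mk, Polynomial.aeval_X]

include D in
theorem B_rho (x : AdjoinRoot (Phi F r)) (u w : ι → F) :
    B Q (rho M r hΦ x *ᵥ u) w =
      B Q u (rho M r hΦ (sig D.r_ne D.cast_ne x) *ᵥ w) := by
  obtain ⟨a, rfl⟩ := AdjoinRoot.mk_surjective x
  rw [rho_mk, sig_mk, rho_mk, D.B_aeval]

include D in
/-- norm-one elements act as isometries -/
theorem Q_rho_of_norm (h2 : (2 : F) ≠ 0) (u : AdjoinRoot (Phi F r))
    (hu : u * sig D.r_ne D.cast_ne u = 1) (w : ι → F) : Q (rho M r hΦ u *ᵥ w) = Q w := by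
  have h1 : B Q (rho M r hΦ u *ᵥ w) (rho M r hΦ u *ᵥ w) = B Q w w := by
    rw [B_rho D hΦ, Matrix.mulVec_mulVec, ← map_mul, mul_comm, hu, map_one, Matrix.one_mulVec]
  rw [Sg.B_self, Sg.B_self] at h1
  exact mul_left_cancel₀ h2 h1

/-- the involution as a ring homomorphism -/
noncomputable abbrev sigR (F : Type*) [Field F] {r : ℕ} (hr : r ≠ 0) (hrF : (r : F) ≠ 0) :
    AdjoinRoot (Phi F r) →+* AdjoinRoot (Phi F r) := (sig hr hrF).toRingHom

/-- evaluation at a vector -/
noncomputable def evv (v : ι → F) : AdjoinRoot (Phi F r) →ₗ[F] (ι → F) where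
  toFun x := rho M r hΦ x *ᵥ v
  map_add' x y := by rw [map_add, Matrix.add_mulVec]
  map_smul' c x := by rw [map_smul, Matrix.smul_mulVec]; rfl

theorem evv_apply (v : ι → F) (x : AdjoinRoot (Phi F r)) :
    evv hΦ v x = rho M r hΦ x *ᵥ v := rfl

/-- the trace-like functional attached to a vector -/
noncomputable def TT (v : ι → F) : AdjoinRoot (Phi F r) →ₗ[F] F :=
  (QuadraticMap.polarBilin Q v).comp (evv hΦ v)

theorem TT_apply (v : ι → F) (x : AdjoinRoot (Phi F r)) :
    TT (Q := Q) hΦ v x = B Q v (rho M r hΦ x *ᵥ v) := rfl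

include D in
theorem TT_sig (v : ι → F) (x : AdjoinRoot (Phi F r)) :
    TT (Q := Q) hΦ v (sig D.r_ne D.cast_ne x) = TT (Q := Q) hΦ v x := by
  rw [TT_apply, TT_apply, ← B_rho D hΦ, Sg.B_comm]

include D in
theorem TT_norm (v : ι → F) (x : AdjoinRoot (Phi F r)) :
    TT (Q := Q) hΦ v (x * sig D.r_ne D.cast_ne x) = 2 * Q (rho M r hΦ x *ᵥ v) := by
  rw [TT_apply, mul_comm, map_mul, ← Matrix.mulVec_mulVec, ← B_rho D hΦ, Sg.B_self]

/-- block data -/
structure Blk (e : AdjoinRoot (Phi F r)) (v : ι → F) : Prop where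
  sp : IsSP (sigR F D.r_ne D.cast_ne) e
  fix : rho M r hΦ e *ᵥ v = v
  ns : Q v ≠ 0
  two : (2 : F) ≠ 0

namespace Blk

variable {D hΦ} {e : AdjoinRoot (Phi F r)} {v : ι → F} (K : Blk D hΦ e v)
include K

theorem sig_sigR (x : AdjoinRoot (Phi F r)) :
    sigR F D.r_ne D.cast_ne (sigR F D.r_ne D.cast_ne x) = x := sig_sig D.two_le D.cast_ne x

theorem TT_e : TT (Q := Q) hΦ v e = 2 * Q v := by
  rw [TT_apply, K.fix, Sg.B_self]

/-- elements pairing trivially with everything vanish on the block -/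
theorem ann_of_TT (x : AdjoinRoot (Phi F r)) (hx : ∀ b, TT (Q := Q) hΦ v (x * b) = 0) :
    e * x = 0 := by
  haveI : Finite (AdjoinRoot (Phi F r)) := RR_finite D.r_ne
  haveI : IsReduced (AdjoinRoot (Phi F r)) := RR_reduced D.cast_ne
  let J : Ideal (AdjoinRoot (Phi F r)) :=
    { carrier := {y | ∀ b, TT (Q := Q) hΦ v (y * b) = 0}
      add_mem' := by
        intro y y' hy hy' b
        rw [add_mul, map_add, hy b, hy' b, add_zero]
      zero_mem' := by
        intro b
        rw [zero_mul, map_zero]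
      smul_mem' := by
        intro c y hy b
        rw [smul_eq_mul, mul_comm c y, mul_assoc]
        exact hy (c * b) }
  have hJσ : ∀ y ∈ J, sigR F D.r_ne D.cast_ne y ∈ J := by
    intro y hy b
    have h1 := TT_sig (Q := Q) D hΦ v (sigR F D.r_ne D.cast_ne y * b)
    rw [← h1]
    have h3 : sig D.r_ne D.cast_ne (sigR F D.r_ne D.cast_ne y * b) =
        y * sig D.r_ne D.cast_ne b := by
      rw [map_mul]
      congr 1
      exact sig_sig D.two_le D.cast_ne y
    rw [h3]
    exact hy _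
  have heJ : e ∉ J := by
    intro h
    have := h e
    rw [K.sp.idem, K.TT_e] at this
    rcases mul_eq_zero.1 this with h | h
    · exact K.two h
    · exact K.ns h
  exact K.sp.ideal_zero K.sig_sigR J hJσ heJ x hx

/-- the annihilator of the vector -/
theorem ann_iff (x : AdjoinRoot (Phi F r)) : rho M r hΦ x *ᵥ v = 0 ↔ e * x = 0 := by
  constructor
  · intro hx
    apply K.ann_of_TT
    intro b
    rw [TT_apply, mul_comm, map_mul, ← Matrix.mulVec_mulVec, hx, Matrix.mulVec_zero]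
    simp [B]
  · intro hx
    rw [← K.fix, Matrix.mulVec_mulVec, ← map_mul, mul_comm, hx, map_zero, Matrix.zero_mulVec]

theorem rho_e_mul (x : AdjoinRoot (Phi F r)) :
    rho M r hΦ (e * x) *ᵥ v = rho M r hΦ x *ᵥ v := by
  rw [mul_comm, map_mul, ← Matrix.mulVec_mulVec, K.fix]

/-- the cyclic module is non-degenerate -/
theorem orth_zero (x : AdjoinRoot (Phi F r))
    (hx : ∀ b, B Q (rho M r hΦ b *ᵥ v) (rho M r hΦ x *ᵥ v) = 0) : rho M r hΦ x *ᵥ v = 0 := by
  rw [K.ann_iff]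
  apply K.ann_of_TT
  intro b
  have := hx (sig D.r_ne D.cast_ne b)
  rw [B_rho D hΦ, sig_sig D.two_le D.cast_ne, Matrix.mulVec_mulVec, ← map_mul] at this
  rw [TT_apply, mul_comm]
  exact this

/-- the orthogonal projection onto the cyclic module -/
theorem exists_proj : ∃ Pr : Matrix ι ι F,
    (∀ x, ∃ b, Pr *ᵥ x = rho M r hΦ b *ᵥ v) ∧
    (∀ b, Pr *ᵥ (rho M r hΦ b *ᵥ v) = rho M r hΦ b *ᵥ v) ∧
    (∀ x b, B Q (rho M r hΦ b *ᵥ v) (x - Pr *ᵥ x) = 0) ∧
    (∀ y, (∀ b, B Q (rho M r hΦ b *ᵥ v) y = 0) → Pr *ᵥ y = 0) := by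
  set Bf : LinearMap.BilinForm F (ι → F) := QuadraticMap.polarBilin Q with hBf
  have hsymm : Bf.IsSymm := ⟨fun x y => QuadraticMap.polar_comm _ _ _⟩
  set W := LinearMap.range (evv hΦ v) with hW
  have hmemW : ∀ w, w ∈ W ↔ ∃ b, rho M r hΦ b *ᵥ v = w := by
    intro w
    rw [hW, LinearMap.mem_range]
    rfl
  have hmemO : ∀ y, y ∈ Bf.orthogonal W ↔ ∀ b, B Q (rho M r hΦ b *ᵥ v) y = 0 := by
    intro y
    rw [LinearMap.BilinForm.mem_orthogonal_iff]
    constructor
    · intro h b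
      exact h _ ((hmemW _).2 ⟨b, rfl⟩)
    · intro h n hn
      obtain ⟨b, rfl⟩ := (hmemW n).1 hn
      exact h b
  have hdisj : Disjoint W (Bf.orthogonal W) := by
    rw [Submodule.disjoint_def]
    intro w hw hwo
    obtain ⟨x, rfl⟩ := (hmemW w).1 hw
    exact K.orth_zero x ((hmemO _).1 hwo)
  have hc : IsCompl W (Bf.orthogonal W) :=
    (LinearMap.BilinForm.isCompl_orthogonal_iff_disjoint hsymm.isRefl).2 hdisj
  set P := W.projection (Bf.orthogonal W) hc with hP
  have hPx : ∀ x, LinearMap.toMatrix' P *ᵥ x = P x := fun x => LinearMap.toMatrix'_mulVec P x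
  refine ⟨LinearMap.toMatrix' P, ?_, ?_, ?_, ?_⟩
  · intro x
    rw [hPx]
    obtain ⟨b, hb⟩ := (hmemW (P x)).1 (Submodule.projection_apply_mem hc x)
    exact ⟨b, hb.symm⟩
  · intro b
    rw [hPx]
    exact Submodule.projection_apply_of_mem_left hc ((hmemW _).2 ⟨b, rfl⟩)
  · intro x b
    rw [hPx, ← Submodule.projection_eq_self_sub_projection hc x]
    exact (hmemO _).1 (Submodule.projection_apply_mem hc.symm x) b
  · intro y hy
    rw [hPx]
    exact Submodule.projection_apply_of_mem_right hc ((hmemO y).2 hy)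

end Blk

end block

end Cfsg.Agent.Helper28.SSC
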