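import Mathlib
import Cfsg.Agent.Helper28.SemiCls9

set_option autoImplicit false
set_option linter.unusedSectionVars false
set_option linter.style.haveILetI false

/-! Semisimple isometries of odd order without fixed vectors: a commuting isometry with
non-trivial spinor sign. -/

namespace Cfsg.Agent.Helper28.SSC

open Matrix Module Polynomial Cfsg.Agent.Helper28.Spin Cfsg.Agent.Helper28.Sg
  Cfsg.Agent.Helper28.NDM

variable {F : Type*} [Field F] [Fintype F] [DecidableEq F] {ι : Type} [Fintype ι] [DecidableEq ι]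
  {Q : QuadraticForm F (ι → F)} {M : Matrix ι ι F} {r : ℕ}
  {D : SSData Q M r} {hΦ : aeval M (Phi F r) = 0}

/-- the projection package -/
structure IsProj (hΦ : aeval M (Phi F r) = 0) (v : ι → F) (Pr : Matrix ι ι F) : Prop where
  rng : ∀ x, ∃ b, Pr *ᵥ x = rho M r hΦ b *ᵥ v
  fixW : ∀ b, Pr *ᵥ (rho M r hΦ b *ᵥ v) = rho M r hΦ b *ᵥ v
  orth : ∀ x b, B Q (rho M r hΦ b *ᵥ v) (x - Pr *ᵥ x) = 0
  ker : ∀ y, (∀ b, B Q (rho M r hΦ b *ᵥ v) y = 0) → Pr *ᵥ y = 0

namespace IsProj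

variable {v : ι → F} {Pr : Matrix ι ι F} (H : IsProj (Q := Q) hΦ v Pr)
include H

theorem idem : Pr * Pr = Pr := by
  apply Spin.matrix_ext_mulVec
  intro x
  rw [← Matrix.mulVec_mulVec]
  obtain ⟨b, hb⟩ := H.rng x
  rw [hb, H.fixW]

theorem orth' (x y : ι → F) : B Q (Pr *ᵥ x) ((1 - Pr) *ᵥ y) = 0 := by
  obtain ⟨b, hb⟩ := H.rng x
  rw [hb, Matrix.sub_mulVec, Matrix.one_mulVec]
  exact H.orth y b

include D in
/-- the projection commutes with the action of the ring -/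
theorem comm (a : AdjoinRoot (Phi F r)) : rho M r hΦ a * Pr = Pr * rho M r hΦ a := by
  apply Spin.matrix_ext_mulVec
  intro x
  rw [← Matrix.mulVec_mulVec, ← Matrix.mulVec_mulVec]
  have hx : x = Pr *ᵥ x + (x - Pr *ᵥ x) := by abel
  conv_rhs => rw [hx, Matrix.mulVec_add, Matrix.mulVec_add]
  obtain ⟨b, hb⟩ := H.rng x
  have h1 : Pr *ᵥ (rho M r hΦ a *ᵥ (Pr *ᵥ x)) = rho M r hΦ a *ᵥ (Pr *ᵥ x) := by
    have h0 : rho M r hΦ a *ᵥ (rho M r hΦ b *ᵥ v) = rho M r hΦ (a * b) *ᵥ v := by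
      rw [Matrix.mulVec_mulVec, ← map_mul]
    rw [hb, h0, H.fixW]
  have h3 : Pr *ᵥ (rho M r hΦ a *ᵥ (x - Pr *ᵥ x)) = 0 := by
    apply H.ker
    intro b'
    rw [Sg.B_comm, B_rho D hΦ, Matrix.mulVec_mulVec, ← map_mul, Sg.B_comm]
    exact H.orth x _
  rw [h1, h3, add_zero]

omit H in
theorem twist_mul {A A' Pr : Matrix ι ι F} (hPr : Pr * Pr = Pr) (hA' : A' * Pr = Pr * A') :
    (1 + (A - 1) * Pr) * (1 + (A' - 1) * Pr) = 1 + (A * A' - 1) * Pr := by
  have h1 : Pr * (A' - 1) = (A' - 1) * Pr := by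
    rw [mul_sub, sub_mul, mul_one, one_mul, hA']
  have h3 : (A - 1) * Pr * ((A' - 1) * Pr) = (A - 1) * (A' - 1) * Pr := by
    rw [Matrix.mul_assoc, ← Matrix.mul_assoc Pr, h1, Matrix.mul_assoc (A' - 1), hPr,
      ← Matrix.mul_assoc]
  rw [mul_add, add_mul, add_mul, one_mul, mul_one, one_mul, h3]
  have : A * A' - 1 = (A - 1) + (A' - 1) + (A - 1) * (A' - 1) := by noncomm_ring
  rw [this, add_mul, add_mul]
  abel

include D in
theorem twist_pow (u : AdjoinRoot (Phi F r)) (j : ℕ) :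
    (1 + (rho M r hΦ u - 1) * Pr) ^ j = 1 + (rho M r hΦ (u ^ j) - 1) * Pr := by
  induction j with
  | zero => simp
  | succ j ih =>
    rw [pow_succ, ih, twist_mul H.idem (H.comm (D := D) u), ← map_mul, ← pow_succ]

include D in
theorem twist_comm (u a : AdjoinRoot (Phi F r)) :
    (1 + (rho M r hΦ u - 1) * Pr) * rho M r hΦ a = rho M r hΦ a * (1 + (rho M r hΦ u - 1) * Pr) := by
  have h1 : rho M r hΦ u * rho M r hΦ a = rho M r hΦ a * rho M r hΦ u := by
    rw [← map_mul, ← map_mul, mul_comm]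
  rw [add_mul, mul_add, one_mul, mul_one, Matrix.mul_assoc, ← H.comm (D := D) a,
    ← Matrix.mul_assoc, ← Matrix.mul_assoc, sub_mul, mul_sub, h1, one_mul, mul_one]

theorem twist_proj (A : Matrix ι ι F) (hA : A * Pr = Pr * A) :
    (1 + (A - 1) * Pr) * Pr = Pr * (1 + (A - 1) * Pr) := by
  rw [add_mul, mul_add, one_mul, mul_one, Matrix.mul_assoc, H.idem, ← Matrix.mul_assoc,
    mul_sub, sub_mul, mul_one, one_mul, ← hA, sub_mul, Matrix.mul_assoc, H.idem]

theorem twist_one_sub (A : Matrix ι ι F) :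
    (1 + (A - 1) * Pr) * (1 - Pr) = 1 - Pr := by
  rw [add_mul, one_mul, Matrix.mul_assoc, mul_sub, mul_one, H.idem, sub_self, mul_zero, add_zero]

include D in
/-- the twisted map is an isometry -/
theorem twist_isom (h2 : (2 : F) ≠ 0) (u : AdjoinRoot (Phi F r))
    (hu : u * sig D.r_ne D.cast_ne u = 1) (x : ι → F) :
    Q ((1 + (rho M r hΦ u - 1) * Pr) *ᵥ x) = Q x := by
  have h1 : (1 + (rho M r hΦ u - 1) * Pr) *ᵥ x =
      (x - Pr *ᵥ x) + rho M r hΦ u *ᵥ (Pr *ᵥ x) := by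
    rw [Matrix.add_mulVec, Matrix.one_mulVec, ← Matrix.mulVec_mulVec, Matrix.sub_mulVec,
      Matrix.one_mulVec]
    abel
  obtain ⟨b, hb⟩ := H.rng x
  have h3 : B Q (x - Pr *ᵥ x) (rho M r hΦ u *ᵥ (Pr *ᵥ x)) = 0 := by
    rw [Sg.B_comm]
    have h := H.orth x (u * b)
    rw [map_mul, ← Matrix.mulVec_mulVec, ← hb] at h
    exact h
  have h4 : B Q (x - Pr *ᵥ x) (Pr *ᵥ x) = 0 := by
    rw [Sg.B_comm]
    have h := H.orth x b
    rw [← hb] at h
    exact h
  rw [h1, Sg.Q_add, h3, add_zero, Q_rho_of_norm D hΦ h2 u hu]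
  have h5 : x = (x - Pr *ᵥ x) + Pr *ᵥ x := by abel
  conv_rhs => rw [h5, Sg.Q_add, h4, add_zero]

end IsProj

theorem exists_O_of_isom (hQ : (QuadraticMap.polarBilin Q).Nondegenerate) (A : Matrix ι ι F)
    (hA : ∀ x, Q (A *ᵥ x) = Q x) : ∃ g : ↥(Cfsg.isometryGroup F ⇑Q), mt Q g = A := by
  obtain ⟨g, hg⟩ := PG.exists_GO_of_sim Q hQ A 1 (fun x => by
    rw [Units.val_one, one_mul]; exact hA x)
  refine ⟨⟨g.1, ?_⟩, hg⟩
  rw [IsoTransport.mem_isometryGroup_iff]
  intro u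
  rw [hg]
  exact hA u

/-- **a commuting isometry with non-trivial spinor sign**, when there are no fixed vectors -/
theorem SSData.exists_comm_theta_neg (D : SSData Q M r)
    (hQ : (QuadraticMap.polarBilin Q).Nondegenerate) (h2 : (2 : F) ≠ 0) [Nonempty ι]
    (hV : V1 M = ⊥) :
    ∃ s : ↥(Cfsg.isometryGroup F ⇑Q), mt Q s * M = M * mt Q s ∧ Spin.theta Q s = -1 := by
  classical
  have hΦ := D.aeval_Phi_zero hV
  haveI : Finite (AdjoinRoot (Phi F r)) := RR_finite D.r_ne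
  haveI : IsReduced (AdjoinRoot (Phi F r)) := RR_reduced D.cast_ne
  set σ := sigR F D.r_ne D.cast_ne with hσdef
  have hσ : ∀ x, σ (σ x) = x := sig_sig D.two_le D.cast_ne
  obtain ⟨e, hsp, hpe⟩ := exists_sprim σ (fun x => rho M r hΦ x ≠ 0) (by
      intro a b hab
      by_contra hcon
      push Not at hcon
      apply hab
      rw [map_add, hcon.1, hcon.2, add_zero]) (by
      simp only [map_one]
      exact one_ne_zero) (by
      simp only [map_zero, ne_eq, not_true_eq_false, not_false_eq_true])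
  -- a non-singular vector of the block
  have hee : rho M r hΦ e * rho M r hΦ e = rho M r hΦ e := by rw [← map_mul, hsp.idem]
  obtain ⟨v, hev, hv⟩ : ∃ v, rho M r hΦ e *ᵥ v = v ∧ Q v ≠ 0 := by
    have h1 : ∃ x, rho M r hΦ e *ᵥ x ≠ 0 := by
      by_contra hcon
      push Not at hcon
      apply hpe
      apply Spin.matrix_ext_mulVec
      intro x
      rw [hcon, Matrix.zero_mulVec]
    obtain ⟨x, hx⟩ := h1
    have h3 : ∃ y, B Q (rho M r hΦ e *ᵥ x) y ≠ 0 := by
      by_contra hcon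
      push Not at hcon
      exact hx (hQ.1 _ hcon)
    obtain ⟨y, hy⟩ := h3
    set a := rho M r hΦ e *ᵥ x with ha
    set b := rho M r hΦ e *ᵥ y with hb
    have hfa : rho M r hΦ e *ᵥ a = a := by rw [ha, Matrix.mulVec_mulVec, hee]
    have hfb : rho M r hΦ e *ᵥ b = b := by rw [hb, Matrix.mulVec_mulVec, hee]
    have hab : B Q a b ≠ 0 := by
      have h4 : B Q a y = B Q a b := by
        rw [← hfa, B_rho D hΦ, hb]
        have : sig D.r_ne D.cast_ne e = e := hsp.fix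
        rw [this, hfa]
      rw [← h4]
      exact hy
    by_cases hqa : Q a = 0
    · by_cases hqb : Q b = 0
      · refine ⟨a + b, by rw [Matrix.mulVec_add, hfa, hfb], ?_⟩
        rw [Sg.Q_add, hqa, hqb, zero_add, zero_add]
        exact hab
      · exact ⟨b, hfb, hqb⟩
    · exact ⟨a, hfa, hqa⟩
  have K : Blk D hΦ e v := ⟨hsp, hev, hv, h2⟩
  obtain ⟨Pr, h1, h3, h4, h5⟩ := K.exists_proj
  have H : IsProj (Q := Q) hΦ v Pr := ⟨h1, h3, h4, h5⟩
  haveI := hsp.Ue_cyclic hσ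
  obtain ⟨u₀, hu₀⟩ := IsCyclic.exists_generator (α := ↥(Ue σ hσ e hsp.fix))
  set N := Nat.card ↥(Ue σ hσ e hsp.fix) with hN
  have hord : orderOf u₀ = N := orderOf_eq_card_of_forall_mem_zpowers hu₀
  have h2u : IsUnit (2 : AdjoinRoot (Phi F r)) := by
    have := (isUnit_iff_ne_zero.2 h2).map (algebraMap F (AdjoinRoot (Phi F r)))
    rwa [map_ofNat] at this
  have hNe : Even N := even_iff_two_dvd.2 (hsp.two_dvd_card hσ h2u (map_ofNat σ 2))
  have hN0 : 0 < N := Nat.card_pos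
  have hun : ∀ w : ↥(Ue σ hσ e hsp.fix), ((w : (AdjoinRoot (Phi F r))ˣ) : AdjoinRoot (Phi F r)) *
      sig D.r_ne D.cast_ne ((w : (AdjoinRoot (Phi F r))ˣ) : AdjoinRoot (Phi F r)) = 1 :=
    fun w => w.2.1
  set u : AdjoinRoot (Phi F r) := ((u₀ : (AdjoinRoot (Phi F r))ˣ) : AdjoinRoot (Phi F r)) with hu
  obtain ⟨s, hs⟩ := exists_O_of_isom hQ (1 + (rho M r hΦ u - 1) * Pr)
    (H.twist_isom (D := D) h2 u (hun u₀))
  refine ⟨s, ?_, ?_⟩
  · rw [hs]
    have := H.twist_comm (D := D) u (zz F r)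
    rwa [rho_zz] at this
  · have hTe : TT (Q := Q) hΦ v e ≠ 0 := by
      rw [K.TT_e]
      exact mul_ne_zero h2 hv
    obtain ⟨t, ht, hcount⟩ := hsp.card_norm_level hσ h2 (fun c x => map_smul (sig D.r_ne D.cast_ne) c x)
      (fun y hy => exists_norm_RR D.two_le D.odd D.cast_ne h2 y hy) (TT (Q := Q) hΦ v) hTe 2 h2
    have hpowu : ∀ j : ℕ, u ^ j = (((u₀ ^ j : ↥(Ue σ hσ e hsp.fix)) : (AdjoinRoot (Phi F r))ˣ) :
        AdjoinRoot (Phi F r)) := by
      intro j
      rw [hu, SubgroupClass.coe_pow, Units.val_pow_eq_pow_val]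
    apply theta_of_uniform Q h2 s Pr H.idem H.orth' ?_ ?_ N hNe hN0 ?_ ?_ t ht ?_
    · rw [hs]
      exact H.twist_proj _ (H.comm (D := D) u)
    · rw [hs]
      exact H.twist_one_sub _
    · rw [hs, H.twist_pow (D := D), hpowu, ← hord, pow_orderOf_eq_one]
      simp
    · intro x j hj
      rw [hs, H.twist_pow (D := D), Matrix.add_mulVec, Matrix.one_mulVec,
        ← Matrix.mulVec_mulVec, Matrix.mulVec_mulVec _ Pr Pr, H.idem, Matrix.sub_mulVec,
        Matrix.one_mulVec] at hj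
      have hj' : rho M r hΦ (u ^ j) *ᵥ (Pr *ᵥ x) = Pr *ᵥ x := by
        have : Pr *ᵥ x + (rho M r hΦ (u ^ j) *ᵥ (Pr *ᵥ x) - Pr *ᵥ x) =
            rho M r hΦ (u ^ j) *ᵥ (Pr *ᵥ x) := by abel
        rw [← this, hj]
      obtain ⟨b, hb⟩ := H.rng x
      by_cases hj1 : u₀ ^ j = 1
      · right
        rw [← hord]
        exact orderOf_dvd_of_pow_eq_one hj1
      · left
        have hne : ((u₀ ^ j : ↥(Ue σ hσ e hsp.fix)) : (AdjoinRoot (Phi F r))ˣ) ≠ 1 :=
          fun h => hj1 (Subtype.ext h)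
        obtain ⟨z, hz1, hz2⟩ := hsp.Ue_sub_one hσ _ (u₀ ^ j).2 hne
        rw [← hpowu] at hz2
        have h6 : rho M r hΦ ((u ^ j - 1) * b) *ᵥ v = 0 := by
          rw [map_mul, ← Matrix.mulVec_mulVec, ← hb, map_sub, map_one, Matrix.sub_mulVec,
            Matrix.one_mulVec, hj', sub_self]
        rw [K.ann_iff] at h6
        have h7 : e * b = 0 := by
          linear_combination z * h6 - (e * b) * hz2 - b * hsp.idem
        rw [hb, K.ann_iff]
        exact h7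
    · rw [← Nat.card_eq_fintype_card, ← hcount]
      symm
      apply Nat.card_congr
      refine Equiv.ofBijective (fun b => ⟨rho M r hΦ b.1 *ᵥ v, H.fixW b.1, ?_⟩) ⟨?_, ?_⟩
      · have := TT_norm (Q := Q) D hΦ v b.1
        have hb2 : TT (Q := Q) hΦ v (b.1 * sig D.r_ne D.cast_ne b.1) = 2 := b.2.2
        rw [hb2] at this
        have h8 : (2 : F) * (Q (rho M r hΦ b.1 *ᵥ v) - 1) = 0 := by linear_combination -this
        rcases mul_eq_zero.1 h8 with h | h
        · exact absurd h h2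
        · exact sub_eq_zero.1 h
      · intro b b' hbb
        have h8 : rho M r hΦ b.1 *ᵥ v = rho M r hΦ b'.1 *ᵥ v := congrArg Subtype.val hbb
        have h9 : rho M r hΦ (b.1 - b'.1) *ᵥ v = 0 := by
          rw [map_sub, Matrix.sub_mulVec, h8, sub_self]
        rw [K.ann_iff] at h9
        apply Subtype.ext
        have e1 := b.2.1
        have e2 := b'.2.1
        linear_combination h9 - e1 + e2
      · rintro ⟨x, hx1, hx2⟩
        obtain ⟨b, hb⟩ := H.rng x
        rw [hx1] at hb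
        refine ⟨⟨e * b, by rw [← mul_assoc, hsp.idem], ?_⟩, ?_⟩
        · show TT (Q := Q) hΦ v ((e * b) * sig D.r_ne D.cast_ne (e * b)) = 2
          rw [TT_norm (Q := Q) D hΦ v, K.rho_e_mul, ← hb, hx2, mul_one]
        · apply Subtype.ext
          show rho M r hΦ (e * b) *ᵥ v = x
          rw [K.rho_e_mul, hb]

end Cfsg.Agent.Helper28.SSC
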