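import Mathlib
import Cfsg.Agent.Helper28.SemiCls10
import Cfsg.Agent.Helper28.GraphInv5

set_option autoImplicit false
set_option linter.unusedSectionVars false
set_option linter.style.haveILetI false

/-! Semisimple isometries of odd order: an element of the centraliser in `SO` outside `Ω`,
and the general fusion statement. -/

namespace Cfsg.Agent.Helper28.SSC

open Matrix Module Polynomial Cfsg.Agent.Helper28.Spin Cfsg.Agent.Helper28.Sg
  Cfsg.Agent.Helper28.NDM Cfsg.Agent.Helper28.PG Cfsg.Agent.Helper28.PA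

variable {F : Type*} [Field F] [Fintype F] [DecidableEq F] {ι : Type} [Fintype ι] [DecidableEq ι]
  (Q : QuadraticForm F (ι → F))

/-- an isometry commuting with a semisimple isometry of odd order without fixed vectors has
determinant one -/
theorem det_of_comm {M : Matrix ι ι F} {r : ℕ} (D : SSData Q M r)
    (hQ : (QuadraticMap.polarBilin Q).Nondegenerate) (h2 : (2 : F) ≠ 0)
    {k : ℕ} (hk : Fintype.card ι = 2 * k) (hex : ∃ v : ι → F, Q v ≠ 0) (hV : V1 M = ⊥)
    (g : ↥(Cfsg.isometryGroup F ⇑Q)) (hgM : mt Q g = M)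
    (s : ↥(Cfsg.isometryGroup F ⇑Q)) (hsM : mt Q s * M = M * mt Q s) : (mt Q s).det = 1 := by
  set G := LinearMap.BilinForm.toMatrix' (QuadraticMap.polarBilin Q) with hG
  set Mi := M ^ (r - 1) with hMi
  have hgram : ∀ t : ↥(Cfsg.isometryGroup F ⇑Q), (mt Q t)ᵀ * G * mt Q t = G := by
    intro t
    have := GInv.gram_sim Q (oGO Q t)
    have hmu1 : mu Q (oGO Q t) = 1 := mu_of_sim Q hex (oGO Q t) 1 (fun v => by
      rw [Units.val_one, one_mul]; exact Spin.isom_apply Q t v)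
    rw [hmu1, Units.val_one, one_smul] at this
    exact this
  have e1 : Mᵀ * G * M = G := by
    have := hgram g
    rwa [hgM] at this
  have e2 : Mᵀ * G = G * Mi := by
    calc Mᵀ * G = Mᵀ * G * (M * Mi) := by rw [D.M_mul_inv, mul_one]
      _ = (Mᵀ * G * M) * Mi := by simp only [Matrix.mul_assoc]
      _ = G * Mi := by rw [e1]
  have e3 : Miᵀ * G = G * M := by
    calc Miᵀ * G = Miᵀ * (Mᵀ * G * M) := by rw [e1]
      _ = (M * Mi)ᵀ * G * M := by rw [Matrix.transpose_mul]; simp only [Matrix.mul_assoc]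
      _ = G * M := by rw [D.M_mul_inv, Matrix.transpose_one, one_mul]
  set Ω := G * (M - Mi) with hΩ
  have hΩs : Ωᵀ = -Ω := by
    rw [hΩ, Matrix.transpose_mul, gram_symm, Matrix.transpose_sub, sub_mul, e2, e3, mul_sub]
    abel
  have hNinj : Function.Injective (M - Mi).mulVec := by
    intro x y hxy
    have h0 : (M - Mi) *ᵥ (x - y) = 0 := by rw [Matrix.mulVec_sub, hxy, sub_self]
    have h3 : M *ᵥ (x - y) = Mi *ᵥ (x - y) := by
      rw [Matrix.sub_mulVec] at h0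
      exact sub_eq_zero.1 h0
    have h4 : M *ᵥ (x - y) = x - y := by
      apply D.fix_of_sq
      rw [h3, Matrix.mulVec_mulVec, D.M_mul_inv, Matrix.one_mulVec]
    have h5 : x - y ∈ V1 M := h4
    rw [hV, Submodule.mem_bot] at h5
    exact sub_eq_zero.1 h5
  have hΩu : IsUnit Ω := by
    rw [hΩ]
    refine IsUnit.mul ?_ (Matrix.mulVec_injective_iff_isUnit.1 hNinj)
    rw [Matrix.isUnit_iff_isUnit_det, isUnit_iff_ne_zero]
    exact GInv.gram_det_ne Q hQ
  set H := mt Q s with hH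
  have hHΩ : Hᵀ * Ω * H = (1 : F) • Ω := by
    have hHG := hgram s
    have hHMi : H * Mi = Mi * H := by
      rw [hMi]
      exact (Commute.pow_right (show Commute H M from hsM) (r - 1)).eq
    have hHN : (M - Mi) * H = H * (M - Mi) := by
      rw [sub_mul, mul_sub, hsM, hHMi]
    rw [hΩ, Matrix.mul_assoc, Matrix.mul_assoc, hHN, ← Matrix.mul_assoc G, ← Matrix.mul_assoc,
      ← Matrix.mul_assoc, hHG, one_smul]
  have hcard : Fintype.card ι = Fintype.card (Fin k ⊕ Fin k) := by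
    rw [Fintype.card_sum, Fintype.card_fin, hk]; ring
  obtain ⟨ε⟩ : Nonempty (ι ≃ Fin k ⊕ Fin k) := Fintype.card_eq.1 hcard
  have hdet := det_of_alt_sim ε h2 Ω hΩu hΩs H 1 one_ne_zero hHΩ
  rw [hdet, one_pow]

/-- a reflection in a fixed vector commutes with the isometry -/
theorem reflO_comm_of_fix (g : ↥(Cfsg.isometryGroup F ⇑Q)) (u : ι → F) (hu : Q u ≠ 0)
    (hfix : mt Q g *ᵥ u = u) : reflO Q u hu * g = g * reflO Q u hu := by
  have hu' : Q (((g : GL ι F) : Matrix ι ι F) *ᵥ u) ≠ 0 := by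
    rw [Spin.isom_apply]; exact hu
  have h3 := Spin.reflO_conj Q g u hu hu'
  have h4 : reflO Q (((g : GL ι F) : Matrix ι ι F) *ᵥ u) hu' = reflO Q u hu := by
    congr 1
  rw [h4] at h3
  conv_lhs => rw [h3]
  group

/-- **an element of the special orthogonal group outside `Ω` centralising a semisimple isometry
of odd order** -/
theorem exists_comm_SO_not_Omega (hQ : (QuadraticMap.polarBilin Q).Nondegenerate)
    (h2 : (2 : F) ≠ 0) {k : ℕ} (hk : Fintype.card ι = 2 * k) (hex : ∃ v : ι → F, Q v ≠ 0)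
    (g : ↥(Cfsg.isometryGroup F ⇑Q)) {r : ℕ} (hr2 : 2 ≤ r) (hodd : Odd r) (hrF : (r : F) ≠ 0)
    (hgr : g ^ r = 1) :
    ∃ s : ↥(Cfsg.isometryGroup F ⇑Q), s ∈ SO' Q ∧ s ∉ Cfsg.Omega F ⇑Q ∧ s * g = g * s := by
  classical
  set M : Matrix ι ι F := mt Q g with hM
  have D : SSData Q M r := by
    refine ⟨fun x => Spin.isom_apply Q g x, ?_, hr2, hodd, hrF⟩
    have := congrArg (fun s : ↥(Cfsg.isometryGroup F ⇑Q) => ((s : GL ι F) : Matrix ι ι F)) hgr
    simpa using this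
  by_cases hV : V1 M = ⊥
  · haveI : Nonempty ι := by
      obtain ⟨v, hv⟩ := hex
      by_contra hne
      rw [not_nonempty_iff] at hne
      apply hv
      have : v = 0 := Subsingleton.elim _ _
      rw [this, map_zero]
    obtain ⟨s, hsM, hθ⟩ := D.exists_comm_theta_neg hQ h2 hV
    refine ⟨s, ?_, ?_, ?_⟩
    · unfold SO'
      rw [MonoidHom.mem_ker]
      apply Units.ext
      rw [detHom_val]
      exact det_of_comm Q D hQ h2 hk hex hV g rfl s hsM
    · intro hs
      have h1 := hom_eq_one_of_mem_Omega Q (Spin.theta Q) hs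
      rw [hθ] at h1
      exact absurd h1 (by decide)
    · apply Subtype.ext
      apply Units.ext
      exact hsM
  · obtain ⟨j, hj⟩ := D.even_finrank_V1 hQ h2 ⟨k, by rw [hk]; ring⟩
    have hj0 : j ≠ 0 := by
      rintro rfl
      apply hV
      rw [← Submodule.finrank_eq_zero]
      exact hj
    obtain ⟨v, hvW, hvQ, hvorth, -⟩ :=
      OFN.exists_orth_basis' Q h2 (V1 M) (D.V1_ndon hQ).geo (j + j) hj
    set i0 : Fin (j + j) := ⟨0, by omega⟩ with hi0
    set i1 : Fin (j + j) := ⟨1, by omega⟩ with hi1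
    have h01 : i0 ≠ i1 := by
      intro h
      have := congrArg Fin.val h
      simp [hi0, hi1] at this
    set u := v i0 with hu
    set w' := v i1 with hw'
    have huw : B Q u w' = 0 := hvorth _ _ h01
    have hchar : ringChar F ≠ 2 := by
      intro h
      apply h2
      have := ringChar.Nat.cast_ringChar (R := F)
      rw [h] at this
      exact_mod_cast this
    obtain ⟨ν, hν⟩ := FiniteField.exists_nonsquare hchar
    have h4 : (4 : F) ≠ 0 := by
      have : (4 : F) = 2 * 2 := by norm_num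
      rw [this]; exact mul_ne_zero h2 h2
    obtain ⟨x, y, hxy⟩ := PG.exists_binary_eq h2 0 (Q w' / Q u) (by
      rw [zero_pow (by norm_num), sub_zero]
      exact mul_ne_zero h4 (div_ne_zero (hvQ _) (hvQ _))) ν
    set w := x • u + y • w' with hw
    have hQw : Q w = ν * Q u := by
      rw [hw, Sg.Q_add, Sg.Q_smul, Sg.Q_smul]
      simp only [B]
      rw [QuadraticMap.polar_smul_left, QuadraticMap.polar_smul_right]
      have h5 : QuadraticMap.polar ⇑Q u w' = 0 := huw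
      rw [h5]
      have hu0 : Q u ≠ 0 := hvQ i0
      field_simp at hxy
      simp only [smul_eq_mul, mul_zero, add_zero]
      linear_combination hxy
    have hν0 : ν ≠ 0 := by
      rintro rfl
      exact hν ⟨0, by simp⟩
    have hQu : Q u ≠ 0 := hvQ i0
    have hQw0 : Q w ≠ 0 := by rw [hQw]; exact mul_ne_zero hν0 hQu
    have hwV : mt Q g *ᵥ w = w := by
      have h5 : w ∈ V1 M := (V1 M).add_mem ((V1 M).smul_mem _ (hvW _)) ((V1 M).smul_mem _ (hvW _))
      exact h5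
    have huV : mt Q g *ᵥ u = u := hvW i0
    refine ⟨reflO Q u hQu * reflO Q w hQw0, refl_mul_mem_SO' Q u w hQu hQw0, ?_, ?_⟩
    · apply refl_mul_not_mem Q h2
      rw [hQw]
      rintro ⟨c, hc⟩
      apply hν
      refine ⟨c / Q u, ?_⟩
      field_simp
      linear_combination hc
    · rw [mul_assoc, reflO_comm_of_fix Q g w hQw0 hwV, ← mul_assoc,
        reflO_comm_of_fix Q g u hQu huV, mul_assoc]

/-- **the general fusion statement** for automorphisms of odd order `r` prime to the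
characteristic induced by similarities -/
theorem fusion_general (hQ : (QuadraticMap.polarBilin Q).Nondegenerate) (fr : Frame3 Q)
    (h2 : (2 : F) ≠ 0) (hex : ∃ v : ι → F, Q v ≠ 0)
    (hperf : commutator ↥(Cfsg.Omega F ⇑Q) = ⊤) {k : ℕ} (hk : Fintype.card ι = 2 * k)
    (h6 : 6 ≤ Fintype.card ι)
    (D : Subgroup (MulAut (Cfsg.POmega F ⇑Q))) (hD : D = IDG.DD Q hex k)
    (x : MulAut (Cfsg.POmega F ⇑Q)) (hx : x ∈ Cfsg.pgoAut F ⇑Q) {r : ℕ} (hr2 : 2 ≤ r)
    (hodd : Odd r) (hrF : (r : F) ≠ 0) (hxr : x ^ r = 1) :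
    (∀ y : MulAut (Cfsg.POmega F ⇑Q),
      (Cfsg.IsConjUnder (Cfsg.Inn (Cfsg.POmega F ⇑Q)) x y ↔ Cfsg.IsConjUnder D x y) ∧
      (Cfsg.IsConjUnder (Cfsg.psoAut F ⇑Q) x y ↔ Cfsg.IsConjUnder D x y)) ∧
    (∀ y : MulAut (Cfsg.POmega F ⇑Q),
      Cfsg.IsConjUnder (Cfsg.poAut F ⇑Q) x y ↔ Cfsg.IsConjUnder (Cfsg.pgoAut F ⇑Q) x y) := by
  apply fusion_of_cover Q hQ fr h2 hex hperf hk h6 D hD x hx hr2 hodd hrF hxr
  intro g hxg hgr h hcomm hchi hsgn d hd
  have hcx : cG Q h * x = x * cG Q h := by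
    rw [hxg, ← cG_oGO, ← map_mul, ← map_mul, hcomm]
  obtain ⟨s, hsSO, hsΩ, hsg⟩ := exists_comm_SO_not_Omega Q hQ h2 hk hex g hr2 hodd hrF hgr
  have hsx : cAut Q s * x = x * cAut Q s := by
    rw [hxg, ← map_mul, ← map_mul, hsg]
  have hrel := Omega_relIndex_SO' Q hQ h2 (by omega)
  -- covering of the image of the special orthogonal group
  have hpso : ∀ p ∈ Cfsg.psoAut F ⇑Q, ∃ n ∈ Cfsg.Inn (Cfsg.POmega F ⇑Q),
      ∃ c : MulAut (Cfsg.POmega F ⇑Q), c * x = x * c ∧ p = n * c := by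
    intro p hp
    rw [PA.psoAut_eq] at hp
    obtain ⟨t, ht, rfl⟩ := hp
    by_cases htΩ : t ∈ Cfsg.Omega F ⇑Q
    · exact ⟨cAut Q t, cAut_mem_Inn Q t htΩ, 1, by rw [one_mul, mul_one], by rw [mul_one]⟩
    · have h1 := GInv.mul_inv_mem_of_relIndex_two _ _ hrel ht hsSO htΩ hsΩ
      refine ⟨cAut Q (t * s⁻¹), cAut_mem_Inn Q _ h1, cAut Q s, hsx, ?_⟩
      rw [← map_mul, inv_mul_cancel_right]
  rw [hD] at hd
  obtain ⟨δ, hδsgn, rfl⟩ := IDG.exists_of_mem_DD Q hex k d hd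
  rcases PG.chi_cases Q δ with h1 | h1
  · exact hpso _ ((IDG.cG_mem_psoAut_iff Q hQ fr hex hperf hk δ hδsgn).2 h1)
  · have h3 : PG.chi Q (δ * h⁻¹) = 1 := by
      have h4 : PG.chi Q (δ * h⁻¹) * PG.chi Q h = PG.chi Q δ := by
        rw [← PG.chi_mul Q hex, inv_mul_cancel_right]
      rw [hchi, h1] at h4
      linarith
    have h5 : PG.sgn Q k (δ * h⁻¹) = 1 := by
      have h4 : PG.sgn Q k (δ * h⁻¹) * PG.sgn Q k h = PG.sgn Q k δ := by
        rw [← PG.sgn_mul Q hex, inv_mul_cancel_right]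
      rw [hsgn, hδsgn, mul_one] at h4
      exact h4
    obtain ⟨n, hn, c, hc, hnc⟩ :=
      hpso _ ((IDG.cG_mem_psoAut_iff Q hQ fr hex hperf hk (δ * h⁻¹) h5).2 h3)
    refine ⟨n, hn, c * cG Q h, ?_, ?_⟩
    · rw [mul_assoc, hcx, ← mul_assoc, hc, mul_assoc]
    · rw [← mul_assoc, ← hnc, ← map_mul, inv_mul_cancel_right]

/-- the same, stated for a function equal to the coercion of the quadratic form -/
theorem fusion_general' (f : (ι → F) → F) (hf : f = ⇑Q)
    (hQ : (QuadraticMap.polarBilin Q).Nondegenerate) (fr : Frame3 Q)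
    (h2 : (2 : F) ≠ 0) (hex : ∃ v : ι → F, Q v ≠ 0)
    (hperf : commutator ↥(Cfsg.Omega F ⇑Q) = ⊤) {k : ℕ} (hk : Fintype.card ι = 2 * k)
    (h6 : 6 ≤ Fintype.card ι)
    (D : Subgroup (MulAut (Cfsg.POmega F f))) (hD : HEq D (IDG.DD Q hex k))
    (x : MulAut (Cfsg.POmega F f)) (hx : x ∈ Cfsg.pgoAut F f) {r : ℕ} (hr2 : 2 ≤ r)
    (hodd : Odd r) (hrF : (r : F) ≠ 0) (hxr : x ^ r = 1) :
    (∀ y : MulAut (Cfsg.POmega F f),
      (Cfsg.IsConjUnder (Cfsg.Inn (Cfsg.POmega F f)) x y ↔ Cfsg.IsConjUnder D x y) ∧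
      (Cfsg.IsConjUnder (Cfsg.psoAut F f) x y ↔ Cfsg.IsConjUnder D x y)) ∧
    (∀ y : MulAut (Cfsg.POmega F f),
      Cfsg.IsConjUnder (Cfsg.poAut F f) x y ↔ Cfsg.IsConjUnder (Cfsg.pgoAut F f) x y) := by
  subst hf
  exact fusion_general Q hQ fr h2 hex hperf hk h6 D (eq_of_heq hD) x hx hr2 hodd hrF hxr

end Cfsg.Agent.Helper28.SSC
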