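import Mathlib

set_option autoImplicit false

namespace Cfsg.Agent.Helper28.Singer

variable {F K : Type*} [Field F] [Field K] [Algebra F K]

/-- the Singer embedding `Kˣ → GL_F(K)` -/
noncomputable abbrev mm (F : Type*) {K : Type*} [Field F] [Field K] [Algebra F K] :
    Kˣ →* (Module.End F K)ˣ :=
  Units.map ((Algebra.lmul F K : K →ₐ[F] Module.End F K) : K →* Module.End F K)

theorem mm_apply (a : Kˣ) (x : K) :
    ((mm F a : (Module.End F K)ˣ) : Module.End F K) x = a * x := by
  simp [mm]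

theorem mm_injective : Function.Injective (mm F : Kˣ →* (Module.End F K)ˣ) := by
  intro a b h
  have := congrArg (fun u : (Module.End F K)ˣ => (u : Module.End F K) 1) h
  simp only [mm_apply, mul_one] at this
  exact Units.ext this

theorem unit_apply_ne_zero (g : (Module.End F K)ˣ) {x : K} (hx : x ≠ 0) :
    (g : Module.End F K) x ≠ 0 := by
  intro h
  apply hx
  have : ((g⁻¹ : (Module.End F K)ˣ) : Module.End F K) ((g : Module.End F K) x) = x := by
    rw [← Module.End.mul_apply, Units.inv_mul]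
    rfl
  rw [← this, h, map_zero]

theorem unit_inv_apply (g : (Module.End F K)ˣ) (x : K) :
    ((g⁻¹ : (Module.End F K)ˣ) : Module.End F K) ((g : Module.End F K) x) = x := by
  rw [← Module.End.mul_apply, Units.inv_mul]
  rfl

theorem unit_apply_inv (g : (Module.End F K)ˣ) (x : K) :
    (g : Module.End F K) (((g⁻¹ : (Module.End F K)ˣ) : Module.End F K) x) = x := by
  rw [← Module.End.mul_apply, Units.mul_inv]
  rfl

/-- The subalgebra `L⁻¹(A ∩ g A g⁻¹)` of `K`, where `A` is the image of `K` in `End_F(K)`. -/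
def EE (g : (Module.End F K)ˣ) : Subalgebra F K where
  carrier := {a | ∃ c : K, ∀ x, (g : Module.End F K) (c * x) = a * (g : Module.End F K) x}
  mul_mem' := by
    rintro a a' ⟨c, hc⟩ ⟨c', hc'⟩
    exact ⟨c * c', fun x => by rw [mul_assoc, hc, hc', mul_assoc]⟩
  add_mem' := by
    rintro a a' ⟨c, hc⟩ ⟨c', hc'⟩
    exact ⟨c + c', fun x => by rw [add_mul, map_add, hc, hc', add_mul]⟩
  algebraMap_mem' r := ⟨algebraMap F K r, fun x => by
    rw [← Algebra.smul_def, map_smul, Algebra.smul_def]⟩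

theorem mem_EE (g : (Module.End F K)ˣ) (a : K) :
    a ∈ EE g ↔ ∃ c : K, ∀ x, (g : Module.End F K) (c * x) = a * (g : Module.End F K) x :=
  Iff.rfl

/-- conjugation relation in terms of units -/
theorem conj_eq_iff (g : (Module.End F K)ˣ) (c a : Kˣ) :
    g * mm F c * g⁻¹ = mm F a ↔
      ∀ x, (g : Module.End F K) ((c : K) * x) = (a : K) * (g : Module.End F K) x := by
  rw [mul_inv_eq_iff_eq_mul]
  constructor
  · intro h x
    have := congrArg (fun u : (Module.End F K)ˣ => (u : Module.End F K) x) h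
    simpa [mm_apply] using this
  · intro h
    apply Units.ext
    apply LinearMap.ext
    intro x
    simpa [mm_apply] using h x

theorem witness_ne_zero (g : (Module.End F K)ˣ) {a c : K} (ha : a ≠ 0)
    (h : ∀ x, (g : Module.End F K) (c * x) = a * (g : Module.End F K) x) : c ≠ 0 := by
  rintro rfl
  have := h 1
  rw [zero_mul, map_zero] at this
  rcases mul_eq_zero.mp this.symm with h1 | h1
  · exact ha h1
  · exact unit_apply_ne_zero g one_ne_zero h1

/-- elements of `M ∩ g M g⁻¹` come from units of `EE g`. -/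
theorem mem_inf_iff (g : (Module.End F K)ˣ) (h : (Module.End F K)ˣ) :
    h ∈ ((mm F : Kˣ →* (Module.End F K)ˣ).range).map (MulAut.conj g).toMonoidHom ⊓
        (mm F : Kˣ →* (Module.End F K)ˣ).range ↔
      ∃ a : Kˣ, (a : K) ∈ EE g ∧ mm F a = h := by
  constructor
  · rintro ⟨h1, h2⟩
    obtain ⟨a, rfl⟩ := h2
    obtain ⟨y, hy, hya⟩ := h1
    obtain ⟨c, rfl⟩ := hy
    refine ⟨a, ⟨c, ?_⟩, rfl⟩
    have : g * mm F c * g⁻¹ = mm F a := hya
    exact (conj_eq_iff g c a).mp this
  · rintro ⟨a, ⟨c, hc⟩, rfl⟩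
    refine ⟨?_, ⟨a, rfl⟩⟩
    have hc0 : c ≠ 0 := witness_ne_zero g a.ne_zero hc
    refine ⟨mm F (Units.mk0 c hc0), ⟨_, rfl⟩, ?_⟩
    show g * mm F (Units.mk0 c hc0) * g⁻¹ = mm F a
    rw [conj_eq_iff]
    exact hc

end Cfsg.Agent.Helper28.Singer
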