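import Mathlib
import Cfsg.Prelude.Def_GeometricClasses
import Cfsg.Agent.Helper28.SpMax

set_option autoImplicit false

/-! Pairs of complementary Lagrangian subspaces and short root elements (towards maximality of
`GL_m(q).2` in `Sp_2m(q)`, `q` odd). -/

namespace Cfsg.Agent.Helper28.SpPair

open Matrix Cfsg.Agent.Helper2.Sp Cfsg.Agent.Helper28.SpMax

variable {F : Type*} [Field F] {m : ℕ}

local notation "V" => (Fin m ⊕ Fin m → F)
local notation "Sp" => Matrix.symplecticGroup (Fin m) F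

/-- a pair of complementary totally isotropic subspaces -/
structure LP (A B : Submodule F V) : Prop where
  isoA : ∀ u ∈ A, ∀ v ∈ A, om u v = 0
  isoB : ∀ u ∈ B, ∀ v ∈ B, om u v = 0
  dec : ∀ x : V, ∃ a ∈ A, ∃ b ∈ B, x = a + b

variable {A B A' B' : Submodule F (Fin m ⊕ Fin m → F)}

theorem LP.symm (h : LP A B) : LP B A :=
  ⟨h.isoB, h.isoA, fun x => by
    obtain ⟨a, ha, b, hb, rfl⟩ := h.dec x
    exact ⟨b, hb, a, ha, add_comm _ _⟩⟩

theorem om_zero_left (u : V) : om (0 : V) u = 0 := by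
  have := om_smul_left (0 : F) (0 : V) u
  simpa using this

theorem om_zero_right (u : V) : om u (0 : V) = 0 := by
  rw [om_swap, om_zero_left, neg_zero]

theorem om_neg_right (x y : V) : om x (-y) = - om x y := by
  rw [om_swap, om_neg_left, om_swap y x]

theorem eq_zero_of_om (x : V) (h : ∀ z : V, om x z = 0) : x = 0 := by
  by_contra hx
  obtain ⟨z, hz⟩ := exists_om_ne_zero hx
  exact hz (h z)

/-- `A^⊥ ⊆ A` -/
theorem LP.perp_mem (h : LP A B) {x : V} (hx : ∀ a ∈ A, om a x = 0) : x ∈ A := by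
  obtain ⟨a, ha, b, hb, rfl⟩ := h.dec x
  have hb0 : b = 0 := by
    apply eq_zero_of_om
    intro z
    obtain ⟨a', ha', b', hb', rfl⟩ := h.dec z
    rw [om_add_right, h.isoB b hb b' hb', add_zero]
    have := hx a' ha'
    rw [om_add_right, h.isoA a' ha' a ha, zero_add] at this
    rw [om_swap, this, neg_zero]
  rw [hb0, add_zero]
  exact ha

theorem LP.disj (h : LP A B) {x : V} (ha : x ∈ A) (hb : x ∈ B) : x = 0 := by
  apply eq_zero_of_om
  intro z
  obtain ⟨a', ha', b', hb', rfl⟩ := h.dec z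
  rw [om_add_right, h.isoA x ha a' ha', h.isoB x hb b' hb', add_zero]

theorem LP.exists_pair (h : LP A B) {a : V} (ha : a ∈ A) (ha0 : a ≠ 0) :
    ∃ b ∈ B, om a b = 1 := by
  obtain ⟨b, hb, hab⟩ : ∃ b ∈ B, om a b ≠ 0 := by
    by_contra hcon
    push Not at hcon
    apply ha0
    apply eq_zero_of_om
    intro z
    obtain ⟨a', ha', b', hb', rfl⟩ := h.dec z
    rw [om_add_right, h.isoA a ha a' ha', hcon b' hb', add_zero]
  refine ⟨(om a b)⁻¹ • b, B.smul_mem _ hb, ?_⟩
  rw [om_smul_right, inv_mul_cancel₀ hab]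

/-- separate two independent vectors of `A` by a vector of `B` -/
theorem LP.exists_pair2 (h : LP A B) {e e' : V} (he : e ∈ A) (he' : e' ∈ A) (he0 : e ≠ 0)
    (hne : ∀ c : F, e' ≠ c • e) : ∃ f ∈ B, om f e = 1 ∧ om f e' = 1 := by
  obtain ⟨f1, hf1, h1⟩ := h.exists_pair he he0
  have hw : e' - om e' f1 • e ≠ 0 := by
    intro h0
    exact hne _ (sub_eq_zero.mp h0)
  obtain ⟨f2, hf2, h2⟩ := h.exists_pair (A.sub_mem he' (A.smul_mem _ he)) hw
  rw [om_sub_left, om_smul_left] at h2
  -- f = a f1 + b f2 with suitable a, b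
  set c := om e' f1 with hc
  set p := om e f2 with hp
  set q := om e' f2 with hq
  -- om f e = -(a * 1 + b * p), om f e' = -(a * c + b * q); want both = 1
  refine ⟨(-(1 - (1 - c) * p)) • f1 + (-(1 - c)) • f2, B.add_mem (B.smul_mem _ hf1) (B.smul_mem _ hf2),
    ?_, ?_⟩
  · rw [om_add_left, om_smul_left, om_smul_left, om_swap e f1, om_swap e f2, h1, ← hp]
    ring
  · rw [om_add_left, om_smul_left, om_smul_left, om_swap e' f1, om_swap e' f2, ← hc, ← hq]
    linear_combination (1 - c) * h2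

/-! ### short root elements -/

theorem Rg_comm_Tg {e z z' : V} (hz : om e z = 0) (hz' : om e z' = 0) (s t : F) :
    Rg s e z * Rg t e z' = Tg e (2 * s * t * om z z') * (Rg t e z' * Rg s e z) := by
  have hze : om z e = 0 := by rw [om_swap e z, hz, neg_zero]
  have hze' : om z' e = 0 := by rw [om_swap e z', hz', neg_zero]
  apply ext_mulVec
  intro x
  rw [mul_mulVec, mul_mulVec, mul_mulVec, Tg_mulVec, Rg_mulVec hz, Rg_mulVec hz', Rg_mulVec hz',
    Rg_mulVec hz]
  simp only [om_add_left, om_add_right, om_smul_right, om_smul_left, om_self, hz, hz', hze, hze',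
    mul_zero, add_zero, zero_add, om_swap z z']
  funext k
  simp only [Pi.add_apply, Pi.smul_apply, smul_eq_mul]
  ring

theorem Rg_add_smul {e b : V} (hb : om e b = 0) (s t : F) :
    Rg t e (b + s • e) = Rg t e b * Tg e (2 * t * s) := by
  have hbe : om b e = 0 := by rw [om_swap e b, hb, neg_zero]
  have h1 : om e (b + s • e) = 0 := by rw [om_add_right, om_smul_right, om_self, hb]; ring
  apply ext_mulVec
  intro x
  rw [mul_mulVec, Tg_mulVec, Rg_mulVec h1, Rg_mulVec hb]
  simp only [om_add_left, om_add_right, om_smul_right, om_smul_left, om_self, hb, hbe,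
    mul_zero, add_zero, zero_add]
  funext k
  simp only [Pi.add_apply, Pi.smul_apply, smul_eq_mul]
  ring

theorem conj_Rg (g : Sp) (c : F) (a b : V) :
    g * Rg c a b * g⁻¹ = Rg c ((g : Matrix (Fin m ⊕ Fin m) (Fin m ⊕ Fin m) F) *ᵥ a)
      ((g : Matrix (Fin m ⊕ Fin m) (Fin m ⊕ Fin m) F) *ᵥ b) := by
  unfold Rg
  rw [← mulVec_add, ← conj_Tg, ← conj_Tg, ← conj_Tg]
  group

/-- the hypothesis "all short root elements of the pair `(A, B)` lie in `K`" -/
def HasRoots (K : Subgroup Sp) (A B : Submodule F V) : Prop :=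
  ∀ a ∈ A, ∀ b ∈ B, om a b = 0 → ∀ c : F, Rg c a b ∈ K

theorem HasRoots.symm {K : Subgroup Sp} (h : HasRoots K A B) : HasRoots K B A := by
  intro b hb a ha hba c
  have hab : om a b = 0 := by rw [om_swap b a, hba, neg_zero]
  have : Rg c b a = Rg c a b := by
    apply ext_mulVec
    intro x
    rw [Rg_mulVec hab, Rg_mulVec hba, add_comm (om b x • a)]
  rw [this]
  exact h a ha b hb hab c

/-- if one nonzero vector of `A` is in `SS K`, all of `A` is -/
theorem SS_of_mem (h : LP A B) (K : Subgroup Sp) (hK : HasRoots K A B) {e : V} (he : e ∈ A)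
    (he0 : e ≠ 0) (heS : e ∈ SS K) : ∀ e' ∈ A, e' ∈ SS K := by
  intro e' he'
  by_cases hc : ∃ c : F, e' = c • e
  · obtain ⟨c, rfl⟩ := hc
    exact SS_smul K heS c
  · push Not at hc
    obtain ⟨f, hf, h1, h2⟩ := h.exists_pair2 he he' he0 hc
    have h0 : om (e' - e) f = 0 := by
      rw [om_sub_left, om_swap f e', om_swap f e, h1, h2]; ring
    have hg := hK (e' - e) (A.sub_mem he' he) f hf h0 1
    have := SS_map K heS hg
    rw [Rg_mulVec h0, om_sub_left, om_self, h.isoA e' he' e he, h1] at this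
    simpa using this

end Cfsg.Agent.Helper28.SpPair
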