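import Mathlib
import Cfsg.Prelude.Def_GeometricClasses
import Cfsg.Agent.Helper28.SpPair1
import Cfsg.Agent.Helper28.SpDecomp

set_option autoImplicit false

/-! Lemma X and consequences: two pairs of complementary Lagrangians sharing a vector. -/

namespace Cfsg.Agent.Helper28.SpPair

open Matrix Cfsg.Agent.Helper2.Sp Cfsg.Agent.Helper28.SpMax

variable {F : Type*} [Field F] {m : ℕ}

local notation "V" => (Fin m ⊕ Fin m → F)
local notation "Sp" => Matrix.symplecticGroup (Fin m) F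

variable {A B A' B' : Submodule F (Fin m ⊕ Fin m → F)}

theorem lemX (h2 : (2 : F) ≠ 0) (hAB : LP A B) (K : Subgroup Sp)
    (hK : HasRoots K A B) (hK' : HasRoots K A' B')
    {e : V} (he : e ∈ A) (he' : e ∈ A') (he0 : e ≠ 0) (hne : e ∉ SS K)
    {z' : V} (hz' : z' ∈ B') (hez' : om e z' = 0) : z' ∈ B := by
  -- Step 1
  have h1 : ∀ z ∈ B, om e z = 0 → om z z' = 0 := by
    intro z hz hez
    by_contra hzz
    apply hne
    intro c
    have hg1 := hK e he z hz hez 1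
    have hg2 := hK' e he' z' hz' hez' (c / (2 * om z z'))
    have hcomm := Rg_comm_Tg hez hez' 1 (c / (2 * om z z'))
    have hc : 2 * 1 * (c / (2 * om z z')) * om z z' = c := by field_simp
    rw [hc] at hcomm
    have hT : Tg e c = Rg 1 e z * Rg (c / (2 * om z z')) e z' *
        (Rg (c / (2 * om z z')) e z' * Rg 1 e z)⁻¹ := by
      rw [hcomm]; group
    rw [hT]
    exact K.mul_mem (K.mul_mem hg1 hg2) (K.inv_mem (K.mul_mem hg2 hg1))
  -- Step 2
  obtain ⟨f0, hf0, hef0⟩ := hAB.exists_pair he he0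
  obtain ⟨a, ha, b, hb, rfl⟩ := hAB.dec z'
  have hab : om e b = 0 := by
    rw [om_add_right, hAB.isoA e he a ha, zero_add] at hez'
    exact hez'
  have ha' : a = om a f0 • e := by
    have : a - om a f0 • e = 0 := by
      apply eq_zero_of_om
      intro z
      obtain ⟨a1, ha1, b1, hb1, rfl⟩ := hAB.dec z
      rw [om_add_right, hAB.isoA _ (A.sub_mem ha (A.smul_mem _ he)) a1 ha1, zero_add]
      have hb1' : om e (b1 - om e b1 • f0) = 0 := by
        rw [om_sub_right, om_smul_right, hef0]; ring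
      have h3 := h1 (b1 - om e b1 • f0) (B.sub_mem hb1 (B.smul_mem _ hf0)) hb1'
      rw [om_add_right, hAB.isoB _ (B.sub_mem hb1 (B.smul_mem _ hf0)) b hb, add_zero,
        om_sub_left, om_smul_left, om_swap a b1, om_swap a f0] at h3
      rw [om_sub_left, om_smul_left]
      linear_combination -h3
    exact sub_eq_zero.mp this
  -- Step 3
  by_cases hs : om a f0 = 0
  · rw [ha', hs, zero_smul, zero_add]; exact hb
  · exfalso
    apply hne
    intro c
    have hg1 := hK e he b hb hab (c / (2 * om a f0))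
    have hg2 := hK' e he' (a + b) hz' hez' (c / (2 * om a f0))
    have hsplit := Rg_add_smul hab (om a f0) (c / (2 * om a f0))
    have hc : 2 * (c / (2 * om a f0)) * om a f0 = c := by field_simp
    rw [hc, add_comm, ← ha'] at hsplit
    have hT : Tg e c = (Rg (c / (2 * om a f0)) e b)⁻¹ * Rg (c / (2 * om a f0)) e (a + b) := by
      rw [hsplit]; group
    rw [hT]
    exact K.mul_mem (K.inv_mem hg1) hg2

theorem lemX' (h2 : (2 : F) ≠ 0) (hAB : LP A B) (hAB' : LP A' B') (K : Subgroup Sp)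
    (hK : HasRoots K A B) (hK' : HasRoots K A' B')
    {e : V} (he : e ∈ A) (he' : e ∈ A') (he0 : e ≠ 0) (hne : e ∉ SS K)
    {z : V} (hez : om e z = 0) : z ∈ B ↔ z ∈ B' :=
  ⟨fun hz => lemX h2 hAB' K hK' hK he' he he0 hne hz hez,
   fun hz => lemX h2 hAB K hK hK' he he' he0 hne hz hez⟩

/-- "dimension at least three" -/
def Big (W : Submodule F V) : Prop :=
  ∀ y1 y2 : V, ∃ z ∈ W, z ≠ 0 ∧ om y1 z = 0 ∧ om y2 z = 0

theorem eq_of_mem (h2 : (2 : F) ≠ 0) (hAB : LP A B) (hAB' : LP A' B') (K : Subgroup Sp)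
    (hK : HasRoots K A B) (hK' : HasRoots K A' B')
    (hbA : Big A) (hbB : Big B) (hbA' : Big A') (hbB' : Big B')
    (hne : ∀ x : V, x ≠ 0 → x ∈ A ∨ x ∈ B → x ∉ SS K)
    {e : V} (he : e ∈ A) (he' : e ∈ A') (he0 : e ≠ 0) : A = A' ∧ B = B' := by
  have hswap : ∀ x y : V, om x y = 0 → om y x = 0 := fun x y h => by rw [om_swap x y, h, neg_zero]
  have hneE := hne e he0 (Or.inl he)
  have h1 : A ≤ A' := by
    intro y hy
    obtain ⟨e2, he2, he20, h3, h4⟩ := hbB e y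
    have he2' : e2 ∈ B' := (lemX' h2 hAB hAB' K hK hK' he he' he0 hneE h3).mp he2
    exact (lemX' h2 hAB.symm hAB'.symm K hK.symm hK'.symm he2 he2' he20
      (hne e2 he20 (Or.inr he2)) (hswap _ _ h4)).mp hy
  have h1' : A' ≤ A := by
    intro y hy
    obtain ⟨e2, he2', he20, h3, h4⟩ := hbB' e y
    have he2 : e2 ∈ B := (lemX' h2 hAB hAB' K hK hK' he he' he0 hneE h3).mpr he2'
    exact (lemX' h2 hAB.symm hAB'.symm K hK.symm hK'.symm he2 he2' he20
      (hne e2 he20 (Or.inr he2)) (hswap _ _ h4)).mpr hy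
  refine ⟨le_antisymm h1 h1', le_antisymm ?_ ?_⟩
  · intro y hy
    obtain ⟨e1, he1, he10, h3, _⟩ := hbA y y
    exact (lemX' h2 hAB hAB' K hK hK' he1 (h1 he1) he10 (hne e1 he10 (Or.inl he1))
      (hswap _ _ h3)).mp hy
  · intro y hy
    obtain ⟨e1, he1', he10, h3, _⟩ := hbA' y y
    have he1 := h1' he1'
    exact (lemX' h2 hAB hAB' K hK hK' he1 he1' he10 (hne e1 he10 (Or.inl he1))
      (hswap _ _ h3)).mpr hy

theorem caseI (h2 : (2 : F) ≠ 0) (hAB : LP A B) (hAB' : LP A' B') (K : Subgroup Sp)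
    (hK : HasRoots K A B) (hK' : HasRoots K A' B')
    (hbA : Big A) (hbB : Big B) (hbA' : Big A') (hbB' : Big B')
    (hne : ∀ x : V, x ≠ 0 → x ∈ A ∨ x ∈ B → x ∉ SS K)
    {e : V} (he0 : e ≠ 0) (he : e ∈ A ∨ e ∈ B) (he' : e ∈ A' ∨ e ∈ B') :
    (A = A' ∧ B = B') ∨ (A = B' ∧ B = A') := by
  have hne' : ∀ x : V, x ≠ 0 → x ∈ B ∨ x ∈ A → x ∉ SS K := fun x hx h => hne x hx h.symm
  rcases he with he | he <;> rcases he' with he' | he'
  · left
    exact eq_of_mem h2 hAB hAB' K hK hK' hbA hbB hbA' hbB' hne he he' he0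
  · right
    exact eq_of_mem h2 hAB hAB'.symm K hK hK'.symm hbA hbB hbB' hbA' hne he he' he0
  · right
    have := eq_of_mem h2 hAB.symm hAB' K hK.symm hK' hbB hbA hbA' hbB' hne' he he' he0
    exact ⟨this.2, this.1⟩
  · left
    have := eq_of_mem h2 hAB.symm hAB'.symm K hK.symm hK'.symm hbB hbA hbB' hbA' hne' he he' he0
    exact ⟨this.2, this.1⟩

/-! ### images under group elements -/

/-- image of a subspace under a symplectic matrix -/
def mp (g : Sp) (W : Submodule F V) : Submodule F V :=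
  W.map (Matrix.toLin' (g : Matrix (Fin m ⊕ Fin m) (Fin m ⊕ Fin m) F))

theorem mem_mp (g : Sp) (W : Submodule F V) (x : V) :
    x ∈ mp g W ↔ ∃ w ∈ W, (g : Matrix (Fin m ⊕ Fin m) (Fin m ⊕ Fin m) F) *ᵥ w = x := by
  unfold mp
  rw [Submodule.mem_map]
  simp only [Matrix.toLin'_apply]

theorem mulVec_mem_mp (g : Sp) (W : Submodule F V) {w : V} (hw : w ∈ W) :
    (g : Matrix (Fin m ⊕ Fin m) (Fin m ⊕ Fin m) F) *ᵥ w ∈ mp g W :=
  (mem_mp g W _).mpr ⟨w, hw, rfl⟩

theorem LP.map (h : LP A B) (g : Sp) : LP (mp g A) (mp g B) := by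
  refine ⟨?_, ?_, ?_⟩
  · intro u hu v hv
    obtain ⟨a, ha, rfl⟩ := (mem_mp g A u).mp hu
    obtain ⟨a', ha', rfl⟩ := (mem_mp g A v).mp hv
    rw [om_g]
    exact h.isoA a ha a' ha'
  · intro u hu v hv
    obtain ⟨a, ha, rfl⟩ := (mem_mp g B u).mp hu
    obtain ⟨a', ha', rfl⟩ := (mem_mp g B v).mp hv
    rw [om_g]
    exact h.isoB a ha a' ha'
  · intro x
    obtain ⟨a, ha, b, hb, hab⟩ := h.dec (((g⁻¹ : Sp) : Matrix (Fin m ⊕ Fin m) (Fin m ⊕ Fin m) F) *ᵥ x)
    refine ⟨_, mulVec_mem_mp g A ha, _, mulVec_mem_mp g B hb, ?_⟩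
    rw [← mulVec_add, ← hab, mulVec_inv_cancel]

theorem HasRoots.map {K : Subgroup Sp} (h : HasRoots K A B) {g : Sp} (hg : g ∈ K) :
    HasRoots K (mp g A) (mp g B) := by
  intro u hu v hv huv c
  obtain ⟨a, ha, rfl⟩ := (mem_mp g A u).mp hu
  obtain ⟨b, hb, rfl⟩ := (mem_mp g B v).mp hv
  rw [om_g] at huv
  rw [← conj_Rg]
  exact K.mul_mem (K.mul_mem hg (h a ha b hb huv c)) (K.inv_mem hg)

theorem Big.map {W : Submodule F (Fin m ⊕ Fin m → F)} (h : Big W) (g : Sp) : Big (mp g W) := by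
  intro y1 y2
  obtain ⟨z, hz, hz0, h1, h2⟩ := h (((g⁻¹ : Sp) : Matrix (Fin m ⊕ Fin m) (Fin m ⊕ Fin m) F) *ᵥ y1)
    (((g⁻¹ : Sp) : Matrix (Fin m ⊕ Fin m) (Fin m ⊕ Fin m) F) *ᵥ y2)
  refine ⟨_, mulVec_mem_mp g W hz, ?_, ?_, ?_⟩
  · intro h0
    apply hz0
    have := congrArg (fun t => ((g⁻¹ : Sp) : Matrix (Fin m ⊕ Fin m) (Fin m ⊕ Fin m) F) *ᵥ t) h0
    simp only [inv_mulVec_cancel, mulVec_zero] at this
    exact this
  · rw [← mulVec_inv_cancel g y1, om_g]; exact h1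
  · rw [← mulVec_inv_cancel g y2, om_g]; exact h2

end Cfsg.Agent.Helper28.SpPair
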