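import Mathlib
import Cfsg.Prelude.Def_GeometricClasses
import Cfsg.Agent.Helper28.SpPair2

set_option autoImplicit false

/-! Abstract maximality of the stabiliser of a pair of complementary Lagrangians. -/

namespace Cfsg.Agent.Helper28.SpPair

open Matrix Cfsg.Agent.Helper2.Sp Cfsg.Agent.Helper28.SpMax

variable {F : Type*} [Field F] {m : ℕ}

local notation "V" => (Fin m ⊕ Fin m → F)
local notation "Sp" => Matrix.symplecticGroup (Fin m) F

variable {A B A' B' : Submodule F (Fin m ⊕ Fin m → F)}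

theorem caseII (h2 : (2 : F) ≠ 0) (hAB : LP A B) (hAB' : LP A' B') (K : Subgroup Sp)
    (hK : HasRoots K A B) (hK' : HasRoots K A' B')
    (hbA : Big A) (hbB : Big B) (hbA' : Big A') (hbB' : Big B')
    (hne : ∀ x : V, x ≠ 0 → x ∈ A ∨ x ∈ B → x ∉ SS K)
    (htriv : ∀ x : V, x ∈ A ∨ x ∈ B → x ∈ A' ∨ x ∈ B' → x = 0) : False := by
  obtain ⟨u, hu, hu0, -, -⟩ := hbA' 0 0
  obtain ⟨u', hu', hu0', huu', -⟩ := hbB' u u
  obtain ⟨e, he, he0, hue, hue'⟩ := hbA u u'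
  have hg : Rg 1 u u' ∈ K := hK' u hu u' hu' huu' 1
  set g : Sp := Rg 1 u u' with hgdef
  have hge : (g : Matrix (Fin m ⊕ Fin m) (Fin m ⊕ Fin m) F) *ᵥ e = e := by
    rw [hgdef, Rg_mulVec huu', hue, hue']
    simp
  have he' : e ∈ mp g A := by
    rw [← hge]; exact mulVec_mem_mp g A he
  obtain ⟨hA, -⟩ := eq_of_mem h2 hAB (hAB.map g) K hK (hK.map hg) hbA hbB (hbA.map g) (hbB.map g)
    hne he he' he0
  -- `g` maps `A` into `A`
  have hN : ∀ x ∈ A, om u x • u' + om u' x • u ∈ A := by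
    intro x hx
    have h1 : (g : Matrix (Fin m ⊕ Fin m) (Fin m ⊕ Fin m) F) *ᵥ x ∈ A := by
      rw [hA]; exact mulVec_mem_mp g A hx
    rw [hgdef, Rg_mulVec huu', one_smul] at h1
    have := A.sub_mem h1 hx
    rwa [add_sub_cancel_left] at this
  have hid : ∀ x ∈ A, ∀ x' ∈ A, om u x * om u' x' + om u' x * om u x' = 0 := by
    intro x hx x' hx'
    have := hAB.isoA _ (hN x hx) x' hx'
    rw [om_add_left, om_smul_left, om_smul_left] at this
    linear_combination this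
  by_cases h1 : ∀ x ∈ A, om x u = 0
  · exact hu0 (htriv u (Or.inl (hAB.perp_mem h1)) (Or.inl hu))
  by_cases h1' : ∀ x ∈ A, om x u' = 0
  · exact hu0' (htriv u' (Or.inl (hAB.perp_mem h1')) (Or.inr hu'))
  push Not at h1 h1'
  obtain ⟨x1, hx1, hx1u⟩ := h1
  obtain ⟨x2, hx2, hx2u⟩ := h1'
  have hx1u' : om u x1 ≠ 0 := by rw [om_swap x1 u]; exact neg_ne_zero.mpr hx1u
  have hx2u' : om u' x2 ≠ 0 := by rw [om_swap x2 u']; exact neg_ne_zero.mpr hx2u
  have e1 := hid x1 hx1 x1 hx1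
  have e2 := hid x2 hx2 x2 hx2
  have e3 := hid x1 hx1 x2 hx2
  have e1' : om u' x1 = 0 := by
    have : 2 * (om u x1 * om u' x1) = 0 := by linear_combination e1
    rcases mul_eq_zero.mp this with h | h
    · exact absurd h h2
    · rcases mul_eq_zero.mp h with h | h
      · exact absurd h hx1u'
      · exact h
  rw [e1', zero_mul, add_zero] at e3
  rcases mul_eq_zero.mp e3 with h | h
  · exact hx1u' h
  · exact hx2u' h

theorem exists_SS (h2 : (2 : F) ≠ 0) (hAB : LP A B) (K : Subgroup Sp)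
    (hK : HasRoots K A B) (hbA : Big A) (hbB : Big B)
    (k : Sp) (hk : k ∈ K)
    (hkn : ¬ ((A = mp k A ∧ B = mp k B) ∨ (A = mp k B ∧ B = mp k A))) :
    ∃ x : V, x ≠ 0 ∧ (x ∈ A ∨ x ∈ B) ∧ x ∈ SS K := by
  by_contra hcon
  push Not at hcon
  by_cases htriv : ∀ x : V, x ∈ A ∨ x ∈ B → x ∈ mp k A ∨ x ∈ mp k B → x = 0
  · exact caseII h2 hAB (hAB.map k) K hK (hK.map hk) hbA hbB (hbA.map k) (hbB.map k) hcon htriv
  · push Not at htriv
    obtain ⟨e, he, he', he0⟩ := htriv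
    exact hkn (caseI h2 hAB (hAB.map k) K hK (hK.map hk) hbA hbB (hbA.map k) (hbB.map k) hcon
      he0 he he')

/-- **abstract maximality** -/
theorem sp_pair_max (h2 : (2 : F) ≠ 0) (hAB : LP A B) (K : Subgroup Sp)
    (hK : HasRoots K A B) (hbA : Big A) (hbB : Big B)
    (s : Sp) (hs : s ∈ K)
    (hs1 : ∀ a ∈ A, (s : Matrix (Fin m ⊕ Fin m) (Fin m ⊕ Fin m) F) *ᵥ a ∈ B)
    (hs2 : ∀ b ∈ B, (s : Matrix (Fin m ⊕ Fin m) (Fin m ⊕ Fin m) F) *ᵥ b ∈ A)
    (k : Sp) (hk : k ∈ K)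
    (hkn : ¬ ((A = mp k A ∧ B = mp k B) ∨ (A = mp k B ∧ B = mp k A))) : K = ⊤ := by
  obtain ⟨x, hx0, hx, hxS⟩ := exists_SS h2 hAB K hK hbA hbB k hk hkn
  have hs0 : ∀ y : V, y ≠ 0 → (s : Matrix (Fin m ⊕ Fin m) (Fin m ⊕ Fin m) F) *ᵥ y ≠ 0 := by
    intro y hy h0
    apply hy
    have := congrArg (fun t => ((s⁻¹ : Sp) : Matrix (Fin m ⊕ Fin m) (Fin m ⊕ Fin m) F) *ᵥ t) h0
    simp only [inv_mulVec_cancel, mulVec_zero] at this
    exact this
  have hAS : ∀ a ∈ A, a ∈ SS K := by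
    rcases hx with hx | hx
    · exact SS_of_mem hAB K hK hx hx0 hxS
    · exact SS_of_mem hAB K hK (hs2 x hx) (hs0 x hx0) (SS_map K hxS hs)
  have hBS : ∀ b ∈ B, b ∈ SS K := by
    rcases hx with hx | hx
    · exact SS_of_mem hAB.symm K hK.symm (hs1 x hx) (hs0 x hx0) (SS_map K hxS hs)
    · exact SS_of_mem hAB.symm K hK.symm hx hx0 hxS
  have hall : ∀ v : V, v ∈ SS K := by
    intro v
    obtain ⟨a, ha, b, hb, rfl⟩ := hAB.dec v
    by_cases hbA' : b ∈ A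
    · exact hAS _ (A.add_mem ha hbA')
    · rw [add_comm]
      refine SS_add K A hAS ?_ (hBS b hb) hbA' a ha
      intro y hy
      by_contra hcon
      push Not at hcon
      apply hy
      apply hAB.perp_mem
      intro a' ha'
      rw [om_swap y a', hcon a' ha', neg_zero]
  rw [eq_top_iff, ← TV_eq_top (Fin m) F]
  unfold TV
  rw [Subgroup.closure_le]
  rintro _ ⟨⟨v, c⟩, rfl⟩
  exact hall v c

end Cfsg.Agent.Helper28.SpPair
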