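import Mathlib
import Cfsg.Prelude.Def_GeometricClasses
import Cfsg.Agent.Helper28.SpPair3

set_option autoImplicit false

/-! The swap element of a pair of complementary Lagrangians, and `Big` from the dimension. -/

namespace Cfsg.Agent.Helper28.SpPair

open Matrix Module Cfsg.Agent.Helper2.Sp Cfsg.Agent.Helper28.SpMax Cfsg.Agent.Helper28.SympFrame

variable {F : Type*} [Field F] {m : ℕ}

local notation "V" => (Fin m ⊕ Fin m → F)
local notation "Sp" => Matrix.symplecticGroup (Fin m) F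

variable {A B : Submodule F (Fin m ⊕ Fin m → F)}

theorem big_of_finrank (W : Submodule F (Fin m ⊕ Fin m → F)) (h : 3 ≤ finrank F W) : Big W := by
  intro y1 y2
  set f : W →ₗ[F] (F × F) :=
    ((sB m F y1).comp W.subtype).prod ((sB m F y2).comp W.subtype) with hf
  have hker : LinearMap.ker f ≠ ⊥ := by
    apply LinearMap.ker_ne_bot_of_finrank_lt
    rw [Module.finrank_prod, Module.finrank_self]
    omega
  obtain ⟨z, hz, hz0⟩ := (Submodule.ne_bot_iff _).mp hker
  have hz' : f z = 0 := LinearMap.mem_ker.mp hz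
  refine ⟨z.1, z.2, fun h0 => hz0 (Subtype.ext h0), ?_, ?_⟩
  · exact congrArg Prod.fst hz'
  · exact congrArg Prod.snd hz'

theorem om_single_single (c d : Fin m ⊕ Fin m) :
    om (Pi.single c (1 : F) : V) (Pi.single d 1) = J (Fin m) F c d := by
  unfold om
  rw [mulVec_single_one, single_one_dotProduct]
  rfl

theorem exists_swap (hAB : LP A B) (hA : finrank F A = m) (hB : finrank F B = m) :
    ∃ s : Sp, (∀ a ∈ A, (s : Matrix (Fin m ⊕ Fin m) (Fin m ⊕ Fin m) F) *ᵥ a ∈ B) ∧
      (∀ b ∈ B, (s : Matrix (Fin m ⊕ Fin m) (Fin m ⊕ Fin m) F) *ᵥ b ∈ A) := by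
  classical
  have : Module.Finite F A := Module.Finite.of_injective A.subtype Subtype.val_injective
  set bA : Basis (Fin m) F A := Module.finBasisOfFinrankEq F A hA with hbA
  set e : Fin m → V := fun i => (bA i : V) with he
  have heA : ∀ i, e i ∈ A := fun i => (bA i).2
  have hsumA : ∀ a : A, (a : V) = ∑ i, bA.repr a i • e i := by
    intro a
    conv_lhs => rw [← bA.sum_repr a]
    rw [Submodule.coe_sum]
    rfl
  set Ψ : B →ₗ[F] (Fin m → F) := LinearMap.pi (fun i => (sB m F (e i)).comp B.subtype) with hΨ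
  have hΨa : ∀ (b : B) i, Ψ b i = om (e i) (b : V) := fun b i => rfl
  have hinj : Function.Injective Ψ := by
    rw [← LinearMap.ker_eq_bot, LinearMap.ker_eq_bot']
    intro b hb
    apply Subtype.ext
    apply hAB.disj _ b.2
    apply hAB.perp_mem
    intro a ha
    rw [show (a : V) = ∑ i, bA.repr ⟨a, ha⟩ i • e i from hsumA ⟨a, ha⟩, om_sum_left]
    apply Finset.sum_eq_zero
    intro i _
    rw [om_smul_left, ← hΨa, hb]
    simp
  set Ψe : B ≃ₗ[F] (Fin m → F) := LinearMap.linearEquivOfInjective Ψ hinj (by rw [hB]; simp) with hΨe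
  set f : Fin m → V := fun j => ((Ψe.symm (Pi.single j 1) : B) : V) with hf
  have hfB : ∀ j, f j ∈ B := fun j => (Ψe.symm (Pi.single j 1)).2
  have hef : ∀ i j, om (e i) (f j) = if i = j then 1 else 0 := by
    intro i j
    have h1 : Ψe (Ψe.symm (Pi.single j 1)) i = (Pi.single j (1 : F) : Fin m → F) i := by
      rw [LinearEquiv.apply_symm_apply]
    rw [Pi.single_apply] at h1
    rw [← h1]
    rfl
  have hsumB : ∀ b : B, (b : V) = ∑ j, Ψe b j • f j := by
    intro b
    have h1 : Ψe b = ∑ j, Ψe b j • (Pi.single j (1 : F) : Fin m → F) := by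
      funext i
      simp [Finset.sum_apply, Pi.single_apply]
    have h2 : b = ∑ j, Ψe b j • Ψe.symm (Pi.single j (1 : F)) := by
      apply Ψe.injective
      rw [map_sum]
      simp only [map_smul, LinearEquiv.apply_symm_apply]
      exact h1
    conv_lhs => rw [h2]
    rw [Submodule.coe_sum]
    rfl
  -- the matrix with columns `f | e`
  set P : Matrix (Fin m ⊕ Fin m) (Fin m ⊕ Fin m) F := Matrix.of (fun r c => Sum.elim f e c r)
    with hP
  have hPcol : ∀ c, P *ᵥ Pi.single c 1 = Sum.elim f e c := by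
    intro c
    rw [mulVec_single_one]
    rfl
  have hgram : ∀ c d, om (Sum.elim f e c) (Sum.elim f e d) = J (Fin m) F c d := by
    rintro (c | c) (d | d)
    · simp only [Sum.elim_inl, J, fromBlocks_apply₁₁, Matrix.zero_apply]
      exact hAB.isoB _ (hfB c) _ (hfB d)
    · simp only [Sum.elim_inl, Sum.elim_inr, J, fromBlocks_apply₁₂, Matrix.neg_apply, Matrix.one_apply]
      rw [om_swap, hef d c]
      simp only [eq_comm]
    · simp only [Sum.elim_inl, Sum.elim_inr, J, fromBlocks_apply₂₁, Matrix.one_apply]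
      exact hef c d
    · simp only [Sum.elim_inr, J, fromBlocks_apply₂₂, Matrix.zero_apply]
      exact hAB.isoA _ (heA c) _ (heA d)
  have hPmem : P ∈ Matrix.symplecticGroup (Fin m) F := by
    rw [SymplecticGroup.mem_iff']
    ext c d
    have h1 := om_mulVec P (Pi.single c 1) (Pi.single d 1)
    rw [hPcol, hPcol, hgram, mulVec_single_one, single_one_dotProduct] at h1
    rw [h1]
    rfl
  set Pg : Sp := ⟨P, hPmem⟩ with hPg
  set s : Sp := Pg * SymplecticGroup.symJ (Fin m) F * Pg⁻¹ with hs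
  have hPinv : ∀ c, ((Pg⁻¹ : Sp) : Matrix (Fin m ⊕ Fin m) (Fin m ⊕ Fin m) F) *ᵥ (Sum.elim f e c) =
      Pi.single c 1 := by
    intro c
    rw [← hPcol c]
    exact inv_mulVec_cancel Pg _
  have hse : ∀ i, (s : Matrix (Fin m ⊕ Fin m) (Fin m ⊕ Fin m) F) *ᵥ e i = - f i := by
    intro i
    rw [hs, mul_mulVec, mul_mulVec]
    have h1 := hPinv (Sum.inr i)
    rw [Sum.elim_inr] at h1
    rw [h1]
    have h2 : ((SymplecticGroup.symJ (Fin m) F : Sp) : Matrix (Fin m ⊕ Fin m) (Fin m ⊕ Fin m) F) *ᵥ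
        (Pi.single (Sum.inr i) 1) = - Pi.single (Sum.inl i) 1 := by
      rw [mulVec_single_one]
      funext r
      rcases r with r | r
      · simp [J, Pi.single_apply, one_apply, eq_comm]
      · simp [J]
    rw [h2, mulVec_neg]
    show -(P *ᵥ Pi.single (Sum.inl i) 1) = -f i
    rw [hPcol]
    rfl
  have hsf : ∀ i, (s : Matrix (Fin m ⊕ Fin m) (Fin m ⊕ Fin m) F) *ᵥ f i = e i := by
    intro i
    rw [hs, mul_mulVec, mul_mulVec]
    have h1 := hPinv (Sum.inl i)
    rw [Sum.elim_inl] at h1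
    rw [h1]
    have h2 : ((SymplecticGroup.symJ (Fin m) F : Sp) : Matrix (Fin m ⊕ Fin m) (Fin m ⊕ Fin m) F) *ᵥ
        (Pi.single (Sum.inl i) 1) = Pi.single (Sum.inr i) 1 := by
      rw [mulVec_single_one]
      funext r
      rcases r with r | r
      · simp [J]
      · simp [J, Pi.single_apply, one_apply, eq_comm]
    rw [h2]
    show P *ᵥ Pi.single (Sum.inr i) 1 = e i
    rw [hPcol]
    rfl
  refine ⟨s, ?_, ?_⟩
  · intro a ha
    rw [show (a : V) = ∑ i, bA.repr ⟨a, ha⟩ i • e i from hsumA ⟨a, ha⟩, mulVec_sum]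
    apply Submodule.sum_mem
    intro i _
    rw [mulVec_smul, hse]
    exact B.smul_mem _ (B.neg_mem (hfB i))
  · intro b hb
    rw [show (b : V) = ∑ j, Ψe ⟨b, hb⟩ j • f j from hsumB ⟨b, hb⟩, mulVec_sum]
    apply Submodule.sum_mem
    intro i _
    rw [mulVec_smul, hsf]
    exact A.smul_mem _ (heA i)

end Cfsg.Agent.Helper28.SpPair
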