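import Mathlib
import Cfsg.Prelude.Def_GeometricClasses
import Cfsg.Agent.Helper28.SpPair4
import Cfsg.Agent.Helper28.SpDecomp2
import Cfsg.Agent.Helper2.FieldBasics

set_option autoImplicit false

/-! Maximality of the stabiliser `GL_m(q).2` of a pair of complementary totally singular
subspaces in `Sp_2m(q)`, `q` odd, `m ≥ 3`. -/

namespace Cfsg.Agent.Helper28.SpPair

open Matrix Module Cfsg.Agent.Helper2.Sp Cfsg.Agent.Helper28.SpMax

variable {F : Type*} [Field F] {m : ℕ}

local notation "V" => (Fin m ⊕ Fin m → F)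
local notation "Sp" => Matrix.symplecticGroup (Fin m) F

theorem pair_maximal [Fintype F] (hm : 3 ≤ m) (hodd : Odd (Fintype.card F))
    (D : Fin 2 → Submodule F (Fin m ⊕ Fin m → F)) (hD : Cfsg.Geo.IsMDecomposition m D)
    (hts : ∀ i, Cfsg.Geo.IsTotallySingularFor (Cfsg.sympForm m F) (D i)) :
    Cfsg.Geo.IsMaximalIn (Cfsg.spGL m F)
      (Cfsg.Geo.decompositionStabilizer D ⊓ Cfsg.spGL m F) := by
  classical
  have h2 : (2 : F) ≠ 0 := Cfsg.Agent.Helper2.two_ne_zero_of_odd_card hodd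
  have hAB : LP (D 0) (D 1) := by
    refine ⟨hts 0, hts 1, fun x => ?_⟩
    have hx : x ∈ iSup D := by rw [hD.iSup_eq_top]; trivial
    have hle : iSup D ≤ D 0 ⊔ D 1 := by
      apply iSup_le
      intro i
      fin_cases i
      · exact le_sup_left
      · exact le_sup_right
    obtain ⟨a, ha, b, hb, rfl⟩ := Submodule.mem_sup.mp (hle hx)
    exact ⟨a, ha, b, hb, rfl⟩
  have hbA : Big (D 0) := big_of_finrank (D 0) (by rw [hD.finrank_eq 0]; exact hm)
  have hbB : Big (D 1) := big_of_finrank (D 1) (by rw [hD.finrank_eq 1]; exact hm)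
  obtain ⟨s, hs1, hs2⟩ := exists_swap hAB (hD.finrank_eq 0) (hD.finrank_eq 1)
  have hmem1 : ∀ g : Sp,
      (∀ a ∈ D 0, (g : Matrix (Fin m ⊕ Fin m) (Fin m ⊕ Fin m) F) *ᵥ a ∈ D 0) →
      (∀ b ∈ D 1, (g : Matrix (Fin m ⊕ Fin m) (Fin m ⊕ Fin m) F) *ᵥ b ∈ D 1) →
      toGL g ∈ Cfsg.Geo.decompositionStabilizer D := by
    intro g h0 h1
    refine mem_decompStab_of D hD.finrank_eq (toGL g) 1 ?_
    intro i x hx
    fin_cases i
    · exact h0 x hx
    · exact h1 x hx
  have hmem2 : ∀ g : Sp,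
      (∀ a ∈ D 0, (g : Matrix (Fin m ⊕ Fin m) (Fin m ⊕ Fin m) F) *ᵥ a ∈ D 1) →
      (∀ b ∈ D 1, (g : Matrix (Fin m ⊕ Fin m) (Fin m ⊕ Fin m) F) *ᵥ b ∈ D 0) →
      toGL g ∈ Cfsg.Geo.decompositionStabilizer D := by
    intro g h0 h1
    refine mem_decompStab_of D hD.finrank_eq (toGL g) (Equiv.swap 0 1) ?_
    intro i x hx
    fin_cases i
    · exact h0 x hx
    · exact h1 x hx
  refine ⟨lt_of_le_of_ne inf_le_right ?_, ?_⟩
  · intro heq
    obtain ⟨a', ha', ha0', -, -⟩ := hbA 0 0
    obtain ⟨b, hb, hab⟩ := hAB.exists_pair ha' ha0'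
    have h1 : toGL (Tg a' 1) ∈ Cfsg.Geo.decompositionStabilizer D ⊓ Cfsg.spGL m F := by
      rw [heq]; exact toGL_mem _
    obtain ⟨σ, hσ⟩ := forall_of_mem_decompStab D _ h1.1
    have h3 := hσ 1 b hb
    rw [toGL_val] at h3
    have h4 : ((Tg a' 1 : Sp) : Matrix (Fin m ⊕ Fin m) (Fin m ⊕ Fin m) F) *ᵥ b = b + a' := by
      rw [Tg_mulVec, hab]; simp
    have h3' : b + a' ∈ D (σ 1) := by rw [← h4]; exact h3
    have hcases : σ 1 = 0 ∨ σ 1 = 1 := by
      generalize σ 1 = j
      fin_cases j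
      · left; rfl
      · right; rfl
    rcases hcases with h | h
    · rw [h] at h3'
      have hbA' : b ∈ D 0 := by
        have := (D 0).sub_mem h3' ha'
        rwa [add_sub_cancel_right] at this
      have hb0 := hAB.disj hbA' hb
      rw [hb0, om_zero_right] at hab
      exact zero_ne_one hab
    · rw [h] at h3'
      have haB' : a' ∈ D 1 := by
        have := (D 1).sub_mem h3' hb
        rwa [add_sub_cancel_left] at this
      exact ha0' (hAB.disj ha' haB')
  · intro M hHM hMS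
    by_cases hMH : M ≤ Cfsg.Geo.decompositionStabilizer D ⊓ Cfsg.spGL m F
    · left; exact le_antisymm hMH hHM
    right
    refine le_antisymm hMS ?_
    obtain ⟨g, hgM, hgH⟩ := SetLike.not_le_iff_exists.mp hMH
    obtain ⟨k, rfl⟩ := exists_of_mem_spGL g (hMS hgM)
    have htop : M.comap toGL = ⊤ := by
      refine sp_pair_max h2 hAB (M.comap toGL) ?_ hbA hbB s ?_ hs1 hs2 k hgM ?_
      · intro a ha b hb hab c
        apply hHM
        refine ⟨hmem1 _ ?_ ?_, toGL_mem _⟩
        · intro x hx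
          rw [Rg_mulVec hab, hAB.isoA a ha x hx, zero_smul, zero_add]
          exact (D 0).add_mem hx ((D 0).smul_mem _ ((D 0).smul_mem _ ha))
        · intro x hx
          rw [Rg_mulVec hab, hAB.isoB b hb x hx, zero_smul, add_zero]
          exact (D 1).add_mem hx ((D 1).smul_mem _ ((D 1).smul_mem _ hb))
      · exact hHM ⟨hmem2 s hs1 hs2, toGL_mem s⟩
      · intro h
        apply hgH
        refine ⟨?_, hMS hgM⟩
        rcases h with ⟨h1, h2'⟩ | ⟨h1, h2'⟩
        · refine hmem1 k ?_ ?_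
          · intro a ha
            rw [h1]; exact mulVec_mem_mp k _ ha
          · intro b hb
            rw [h2']; exact mulVec_mem_mp k _ hb
        · refine hmem2 k ?_ ?_
          · intro a ha
            rw [h2']; exact mulVec_mem_mp k _ ha
          · intro b hb
            rw [h1]; exact mulVec_mem_mp k _ hb
    intro h hh
    obtain ⟨A', rfl⟩ := exists_of_mem_spGL h hh
    have : A' ∈ M.comap toGL := by rw [htop]; trivial
    exact this

end Cfsg.Agent.Helper28.SpPair
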