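import Mathlib

set_option autoImplicit false
set_option linter.unusedSectionVars false
set_option linter.unusedVariables false

/-! Quadratic spaces over the field with two elements: isometry group as a subgroup of the
linear automorphisms, Eichler (Siegel) transformations and reflections. -/

namespace Cfsg.Agent.Helper28.Sy2

open Module

variable {F : Type*} [Field F] [Fintype F]
variable {V : Type*} [AddCommGroup V] [Module F V]

/-- the polar form -/
abbrev Bp (Q : QuadraticForm F V) (x y : V) : F := QuadraticMap.polar (⇑Q) x y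

section char2

variable (hq : Fintype.card F = 2)
include hq

theorem two_eq_zero : (2 : F) = 0 := by
  have : ((2 : ℕ) : F) = 0 := by rw [← hq]; exact Nat.cast_card_eq_zero F
  exact_mod_cast this

theorem add_self_eq (a : F) : a + a = 0 := by
  rw [← two_mul, two_eq_zero hq, zero_mul]

theorem eq_zero_or_one (a : F) : a = 0 ∨ a = 1 := by
  by_cases ha : a = 0
  · exact Or.inl ha
  · right
    have h := FiniteField.pow_card_sub_one_eq_one a ha
    rw [hq] at h
    simpa using h

theorem eq_one_of_ne_zero {a : F} (ha : a ≠ 0) : a = 1 :=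
  (eq_zero_or_one hq a).resolve_left ha

theorem vadd_self (x : V) : x + x = 0 := by
  rw [← two_smul F x, two_eq_zero hq, zero_smul]

theorem add_add_cancel_right' (x y : V) : x + y + y = x := by
  rw [add_assoc, vadd_self hq, add_zero]

theorem Bp_self (Q : QuadraticForm F V) (x : V) : Bp Q x x = 0 := by
  rw [Bp, QuadraticMap.polar_self, two_nsmul, add_self_eq hq]

end char2

theorem Bp_self_of_sing (Q : QuadraticForm F V) {x : V} (hx : Q x = 0) : Bp Q x x = 0 := by
  rw [Bp, QuadraticMap.polar_self, hx]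
  simp

theorem Bp_comm (Q : QuadraticForm F V) (x y : V) : Bp Q x y = Bp Q y x :=
  QuadraticMap.polar_comm _ _ _

theorem Q_add (Q : QuadraticForm F V) (x y : V) : Q (x + y) = Q x + Q y + Bp Q x y := by
  rw [Bp, QuadraticMap.polar]; ring

theorem Q_smul (Q : QuadraticForm F V) (a : F) (x : V) : Q (a • x) = a * a * Q x := by
  rw [QuadraticMap.map_smul, smul_eq_mul]

theorem Bp_add_left (Q : QuadraticForm F V) (x y z : V) : Bp Q (x + y) z = Bp Q x z + Bp Q y z := by
  simp only [Bp, QuadraticMap.polar_add_left]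

theorem Bp_add_right (Q : QuadraticForm F V) (x y z : V) : Bp Q x (y + z) = Bp Q x y + Bp Q x z := by
  simp only [Bp, QuadraticMap.polar_add_right]

theorem Bp_smul_left (Q : QuadraticForm F V) (a : F) (x y : V) : Bp Q (a • x) y = a * Bp Q x y := by
  rw [Bp, QuadraticMap.polar_smul_left, smul_eq_mul]

theorem Bp_smul_right (Q : QuadraticForm F V) (a : F) (x y : V) : Bp Q x (a • y) = a * Bp Q x y := by
  rw [Bp, QuadraticMap.polar_smul_right, smul_eq_mul]

theorem Bp_zero_left (Q : QuadraticForm F V) (y : V) : Bp Q 0 y = 0 := by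
  rw [Bp, QuadraticMap.polar_zero_left]

theorem Bp_zero_right (Q : QuadraticForm F V) (y : V) : Bp Q y 0 = 0 := by
  rw [Bp, QuadraticMap.polar_zero_right]

/-- the isometry group inside the linear automorphisms -/
def isoG (Q : QuadraticForm F V) : Subgroup (V ≃ₗ[F] V) where
  carrier := {g | ∀ x, Q (g x) = Q x}
  mul_mem' := by
    intro a b ha hb x
    rw [LinearEquiv.mul_apply, ha, hb]
  one_mem' := fun x => rfl
  inv_mem' := by
    intro g hg x
    have h := hg (g⁻¹ x)
    rw [← h]
    congr 1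
    exact (LinearEquiv.apply_symm_apply g x)

/-- application of an isometry to a vector -/
def ap {Q : QuadraticForm F V} (g : ↥(isoG Q)) (x : V) : V := (g : V ≃ₗ[F] V) x

section ap
variable {Q : QuadraticForm F V}

theorem ap_mul (g h : ↥(isoG Q)) (x : V) : ap (g * h) x = ap g (ap h x) := rfl

theorem ap_one (x : V) : ap (1 : ↥(isoG Q)) x = x := rfl

theorem ap_inv_ap (g : ↥(isoG Q)) (x : V) : ap g⁻¹ (ap g x) = x := by
  rw [← ap_mul, inv_mul_cancel, ap_one]

theorem ap_ap_inv (g : ↥(isoG Q)) (x : V) : ap g (ap g⁻¹ x) = x := by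
  rw [← ap_mul, mul_inv_cancel, ap_one]

theorem ap_add (g : ↥(isoG Q)) (x y : V) : ap g (x + y) = ap g x + ap g y :=
  map_add (g : V ≃ₗ[F] V) x y

theorem ap_smul (g : ↥(isoG Q)) (a : F) (x : V) : ap g (a • x) = a • ap g x :=
  map_smul (g : V ≃ₗ[F] V) a x

theorem ap_zero (g : ↥(isoG Q)) : ap g (0 : V) = 0 := map_zero (g : V ≃ₗ[F] V)

theorem Q_ap (g : ↥(isoG Q)) (x : V) : Q (ap g x) = Q x := g.2 x

theorem Bp_ap (g : ↥(isoG Q)) (x y : V) : Bp Q (ap g x) (ap g y) = Bp Q x y := by
  rw [Bp, QuadraticMap.polar, ← ap_add, Q_ap, Q_ap, Q_ap]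
  rfl

theorem Bp_ap_left (g : ↥(isoG Q)) (x y : V) : Bp Q (ap g x) y = Bp Q x (ap g⁻¹ y) := by
  rw [← Bp_ap g x (ap g⁻¹ y), ap_ap_inv]

theorem ext_ap {g h : ↥(isoG Q)} (H : ∀ x, ap g x = ap h x) : g = h := by
  apply Subtype.ext
  apply LinearEquiv.ext
  exact H

theorem ap_eq_iff (g : ↥(isoG Q)) (x y : V) : ap g x = y ↔ ap g⁻¹ y = x := by
  constructor
  · intro h; rw [← h, ap_inv_ap]
  · intro h; rw [← h, ap_ap_inv]

end ap

/-- the linear map of an Eichler transformation -/
def eichLin (Q : QuadraticForm F V) (v u : V) : V →ₗ[F] V where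
  toFun x := x + Bp Q x u • v + Bp Q x v • u + (Q u * Bp Q x v) • v
  map_add' x y := by
    simp only [Bp_add_left]
    module
  map_smul' a x := by
    simp only [Bp_smul_left, RingHom.id_apply]
    module

theorem eichLin_apply (Q : QuadraticForm F V) (v u x : V) :
    eichLin Q v u x = x + Bp Q x u • v + Bp Q x v • u + (Q u * Bp Q x v) • v := rfl

section eich

variable (hq : Fintype.card F = 2) (Q : QuadraticForm F V)

theorem Bp_eichLin_v {v u : V} (hv : Q v = 0) (hvu : Bp Q v u = 0) (x : V) :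
    Bp Q (eichLin Q v u x) v = Bp Q x v := by
  rw [eichLin_apply]
  simp only [Bp_add_left, Bp_smul_left, Bp_self_of_sing Q hv, Bp_comm Q u v, hvu]
  ring

include hq in
theorem Bp_eichLin_u {v u : V} (hv : Q v = 0) (hvu : Bp Q v u = 0) (x : V) :
    Bp Q (eichLin Q v u x) u = Bp Q x u := by
  rw [eichLin_apply]
  simp only [Bp_add_left, Bp_smul_left, Bp_self hq Q u, hvu]
  ring

include hq in
theorem eichLin_invol {v u : V} (hv : Q v = 0) (hvu : Bp Q v u = 0) :
    Function.Involutive (eichLin Q v u) := by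
  intro x
  rw [eichLin_apply (x := eichLin Q v u x), Bp_eichLin_v Q hv hvu, Bp_eichLin_u hq Q hv hvu,
    eichLin_apply]
  have h1 := vadd_self hq (Bp Q x u • v)
  have h2 := vadd_self hq (Bp Q x v • u)
  have h3 := vadd_self hq ((Q u * Bp Q x v) • v)
  calc x + Bp Q x u • v + Bp Q x v • u + (Q u * Bp Q x v) • v + Bp Q x u • v + Bp Q x v • u +
        (Q u * Bp Q x v) • v
      = x + (Bp Q x u • v + Bp Q x u • v) + (Bp Q x v • u + Bp Q x v • u) +
        ((Q u * Bp Q x v) • v + (Q u * Bp Q x v) • v) := by abel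
    _ = x := by rw [h1, h2, h3]; simp

include hq in
theorem Q_eichLin {v u : V} (hv : Q v = 0) (hvu : Bp Q v u = 0) (x : V) :
    Q (eichLin Q v u x) = Q x := by
  rw [eichLin_apply]
  have h2 := two_eq_zero (F := F) hq
  simp only [Q_add, Q_smul, Bp_add_left, Bp_smul_left, Bp_smul_right, hv,
    Bp_self_of_sing Q hv, hvu, Bp_comm Q u v]
  linear_combination (Q u * Bp Q x v * Bp Q x v + Bp Q x u * Bp Q x v) * h2

/-- Eichler transformation as a linear equivalence -/
noncomputable def eichE {v u : V} (hv : Q v = 0) (hvu : Bp Q v u = 0) : V ≃ₗ[F] V :=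
  LinearEquiv.ofInvolutive (eichLin Q v u) (eichLin_invol hq Q hv hvu)

/-- Eichler transformation as an isometry -/
noncomputable def eichG {v u : V} (hv : Q v = 0) (hvu : Bp Q v u = 0) : ↥(isoG Q) :=
  ⟨eichE hq Q hv hvu, fun x => Q_eichLin hq Q hv hvu x⟩

theorem ap_eichG {v u : V} (hv : Q v = 0) (hvu : Bp Q v u = 0) (x : V) :
    ap (eichG hq Q hv hvu) x = eichLin Q v u x := rfl

theorem eichLin_comp {v u u' : V} (hv : Q v = 0) (hvu : Bp Q v u = 0) (hvu' : Bp Q v u' = 0)
    (x : V) : eichLin Q v u (eichLin Q v u' x) = eichLin Q v (u + u') x := by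
  rw [eichLin_apply (x := eichLin Q v u' x), Bp_eichLin_v Q hv hvu']
  rw [eichLin_apply, eichLin_apply]
  simp only [Bp_add_left, Bp_add_right, Bp_smul_left, Q_add, hvu, Bp_comm Q u' u]
  module

theorem eichLin_zero (v x : V) : eichLin Q v 0 x = x := by
  rw [eichLin_apply]
  simp

/-- conjugating an Eichler transformation by an isometry fixing `v` -/
theorem conj_eichLin {v u : V} (g : ↥(isoG Q)) (hg : ap g v = v) (x : V) :
    ap g (eichLin Q v u (ap g⁻¹ x)) = eichLin Q v (ap g u) x := by
  have hg' : ap g⁻¹ v = v := by rw [← ap_eq_iff]; exact hg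
  rw [eichLin_apply, eichLin_apply]
  simp only [ap_add, ap_smul, ap_ap_inv, hg, Q_ap]
  have h1 : Bp Q (ap g⁻¹ x) u = Bp Q x (ap g u) := by
    rw [Bp_ap_left, inv_inv]
  have h2 : Bp Q (ap g⁻¹ x) v = Bp Q x v := by
    rw [Bp_ap_left, inv_inv, hg]
  rw [h1, h2]

end eich

/-- the linear map of the reflection in a vector with `Q a = 1` -/
def reflLin (Q : QuadraticForm F V) (a : V) : V →ₗ[F] V where
  toFun x := x + Bp Q x a • a
  map_add' x y := by
    simp only [Bp_add_left]
    module
  map_smul' c x := by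
    simp only [Bp_smul_left, RingHom.id_apply]
    module

theorem reflLin_apply (Q : QuadraticForm F V) (a x : V) : reflLin Q a x = x + Bp Q x a • a := rfl

section refl

variable (hq : Fintype.card F = 2) (Q : QuadraticForm F V)

include hq in
theorem reflLin_invol (a : V) : Function.Involutive (reflLin Q a) := by
  intro x
  rw [reflLin_apply, reflLin_apply]
  simp only [Bp_add_left, Bp_smul_left, Bp_self hq Q a, mul_zero, add_zero]
  rw [add_assoc, vadd_self hq, add_zero]

include hq in
theorem Q_reflLin {a : V} (ha : Q a = 1) (x : V) : Q (reflLin Q a x) = Q x := by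
  rw [reflLin_apply]
  have h2 := two_eq_zero (F := F) hq
  simp only [Q_add, Q_smul, Bp_smul_right, ha]
  linear_combination (Bp Q x a * Bp Q x a) * h2

/-- reflection as an isometry -/
noncomputable def reflG {a : V} (ha : Q a = 1) : ↥(isoG Q) :=
  ⟨LinearEquiv.ofInvolutive (reflLin Q a) (reflLin_invol hq Q a), fun x => Q_reflLin hq Q ha x⟩

theorem ap_reflG {a : V} (ha : Q a = 1) (x : V) :
    ap (reflG hq Q ha) x = x + Bp Q x a • a := rfl

end refl

end Cfsg.Agent.Helper28.Sy2
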