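import Mathlib
import Cfsg.Agent.Helper28.Sy2A

set_option autoImplicit false
set_option linter.unusedSectionVars false
set_option linter.unusedVariables false

/-! Quadratic spaces over `F_2`: pointwise stabilisers, perps, and the fixed singular vector
of a 2-group. -/

namespace Cfsg.Agent.Helper28.Sy2

open Module

variable {F : Type*} [Field F] [Fintype F]
variable {V : Type*} [AddCommGroup V] [Module F V]

/-- the orthogonal complement of a subspace for the polar form -/
def perp (Q : QuadraticForm F V) (H : Submodule F V) : Submodule F V where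
  carrier := {x | ∀ h ∈ H, Bp Q x h = 0}
  add_mem' := by
    intro a b ha hb h hh
    rw [Bp_add_left, ha h hh, hb h hh, add_zero]
  zero_mem' := fun h _ => Bp_zero_left Q h
  smul_mem' := by
    intro c x hx h hh
    rw [Bp_smul_left, hx h hh, mul_zero]

theorem mem_perp (Q : QuadraticForm F V) (H : Submodule F V) (x : V) :
    x ∈ perp Q H ↔ ∀ h ∈ H, Bp Q x h = 0 := Iff.rfl

theorem perp_bot (Q : QuadraticForm F V) : perp Q (⊥ : Submodule F V) = ⊤ := by
  ext x
  simp only [mem_perp, Submodule.mem_bot, Submodule.mem_top, iff_true]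
  intro h hh
  rw [hh, Bp_zero_right]

/-- the pointwise stabiliser of a subspace in the isometry group -/
def fixG (Q : QuadraticForm F V) (H : Submodule F V) : Subgroup ↥(isoG Q) where
  carrier := {g | ∀ h ∈ H, ap g h = h}
  mul_mem' := by
    intro a b ha hb h hh
    rw [ap_mul, hb h hh, ha h hh]
  one_mem' := fun h _ => rfl
  inv_mem' := by
    intro g hg h hh
    rw [← ap_eq_iff]
    exact hg h hh

theorem mem_fixG (Q : QuadraticForm F V) (H : Submodule F V) (g : ↥(isoG Q)) :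
    g ∈ fixG Q H ↔ ∀ h ∈ H, ap g h = h := Iff.rfl

theorem fixG_bot (Q : QuadraticForm F V) : fixG Q (⊥ : Submodule F V) = ⊤ := by
  ext g
  simp only [mem_fixG, Submodule.mem_bot, Subgroup.mem_top, iff_true]
  intro h hh
  rw [hh, ap_zero]

theorem fixG_anti (Q : QuadraticForm F V) {H H' : Submodule F V} (h : H ≤ H') :
    fixG Q H' ≤ fixG Q H := fun g hg x hx => hg x (h hx)

theorem ap_mem_perp {Q : QuadraticForm F V} {H : Submodule F V} {g : ↥(isoG Q)}
    (hg : g ∈ fixG Q H) {x : V} (hx : x ∈ perp Q H) : ap g x ∈ perp Q H := by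
  intro h hh
  have := Bp_ap g x h
  rw [hg h hh] at this
  rw [this]
  exact hx h hh

/-- fixing `H`, `v` and `w` pointwise means fixing `H ⊔ span {v, w}` pointwise -/
theorem mem_fixG_sup_pair {Q : QuadraticForm F V} {H : Submodule F V} {v w : V} {g : ↥(isoG Q)}
    (hg : g ∈ fixG Q H) (hv : ap g v = v) (hw : ap g w = w) :
    g ∈ fixG Q (H ⊔ Submodule.span F {v, w}) := by
  intro x hx
  obtain ⟨h, hh, y, hy, rfl⟩ := Submodule.mem_sup.1 hx
  obtain ⟨a, b, rfl⟩ := Submodule.mem_span_pair.1 hy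
  rw [ap_add, ap_add, ap_smul, ap_smul, hg h hh, hv, hw]

theorem mem_perp_sup_pair {Q : QuadraticForm F V} {H : Submodule F V} {v w x : V}
    (hx : x ∈ perp Q H) (hv : Bp Q x v = 0) (hw : Bp Q x w = 0) :
    x ∈ perp Q (H ⊔ Submodule.span F {v, w}) := by
  intro y hy
  obtain ⟨h, hh, z, hz, rfl⟩ := Submodule.mem_sup.1 hy
  obtain ⟨a, b, rfl⟩ := Submodule.mem_span_pair.1 hz
  rw [Bp_add_right, Bp_add_right, Bp_smul_right, Bp_smul_right, hx h hh, hv, hw]
  simp

theorem perp_sup_pair_le {Q : QuadraticForm F V} {H : Submodule F V} {v w x : V}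
    (hx : x ∈ perp Q (H ⊔ Submodule.span F {v, w})) :
    x ∈ perp Q H ∧ Bp Q x v = 0 ∧ Bp Q x w = 0 := by
  refine ⟨fun h hh => hx h (Submodule.mem_sup_left hh), ?_, ?_⟩
  · exact hx v (Submodule.mem_sup_right (Submodule.subset_span (by simp)))
  · exact hx w (Submodule.mem_sup_right (Submodule.subset_span (by simp)))

/-- the functional `B(u, ·)` -/
def Bf (Q : QuadraticForm F V) (u : V) : V →ₗ[F] F := QuadraticMap.polarBilin Q u

theorem Bf_apply (Q : QuadraticForm F V) (u x : V) : Bf Q u x = Bp Q u x := rfl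

theorem finrank_le_inf_ker [FiniteDimensional F V] (U : Submodule F V) (f : V →ₗ[F] F) :
    finrank F U ≤ finrank F ↥(U ⊓ LinearMap.ker f) + 1 := by
  let g : ↥U →ₗ[F] F := f.domRestrict U
  have h1 := LinearMap.finrank_range_add_finrank_ker g
  have h2 : finrank F (LinearMap.range g) ≤ 1 := by
    calc finrank F (LinearMap.range g) ≤ finrank F F := Submodule.finrank_le _
      _ = 1 := finrank_self F
  have h3 : finrank F (LinearMap.ker g) = finrank F ↥(U ⊓ LinearMap.ker f) := by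
    have : LinearMap.ker g = (U ⊓ LinearMap.ker f).comap U.subtype := by
      ext x
      simp [g, LinearMap.mem_ker]
    rw [this]
    exact (Submodule.comapSubtypeEquivOfLe inf_le_left).finrank_eq
  omega

/-- an explicit action of a subgroup of isometries on an invariant set of vectors -/
def actSub {Q : QuadraticForm F V} (S : Subgroup ↥(isoG Q)) (X : Set V)
    (hX : ∀ s ∈ S, ∀ x ∈ X, ap s x ∈ X) : MulAction ↥S {x : V // x ∈ X} where
  smul s x := ⟨ap s.1 x.1, hX s.1 s.2 x.1 x.2⟩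
  one_smul x := Subtype.ext rfl
  mul_smul s t x := Subtype.ext rfl

theorem exists_fixed_of_even [FiniteDimensional F V] {Q : QuadraticForm F V}
    (S : Subgroup ↥(isoG Q)) (hS : IsPGroup 2 S) (X : Set V)
    (hX : ∀ s ∈ S, ∀ x ∈ X, ap s x ∈ X) (h0 : (0 : V) ∈ X)
    (hcard : 2 ∣ Nat.card {x : V // x ∈ X}) :
    ∃ v ∈ X, v ≠ 0 ∧ ∀ s ∈ S, ap s v = v := by
  haveI : Finite V := Module.finite_of_finite F
  letI := actSub S X hX
  have hfix : (⟨0, h0⟩ : {x : V // x ∈ X}) ∈ MulAction.fixedPoints ↥S {x : V // x ∈ X} := by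
    intro s
    apply Subtype.ext
    exact ap_zero s.1
  obtain ⟨b, hb, hne⟩ := hS.exists_fixed_point_of_prime_dvd_card_of_fixed_point
    {x : V // x ∈ X} hcard hfix
  refine ⟨b.1, b.2, ?_, ?_⟩
  · intro h
    apply hne
    apply Subtype.ext
    exact h.symm
  · intro s hs
    have := hb ⟨s, hs⟩
    exact congrArg Subtype.val this

section split

variable (hq : Fintype.card F = 2) (Q : QuadraticForm F V)
    (W : Submodule F V) (u : V) (huW : u ∈ W) (hu : Q u = 1) (hperp : ∀ x ∈ W, Bp Q x u = 0)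

include hq hu hperp in
theorem Q_add_u_of_ne {x : V} (hx : x ∈ W) (h : Q x ≠ 0) : Q (x + u) = 0 := by
  rw [Q_add, hu, hperp x hx, eq_one_of_ne_zero hq h, add_zero]
  exact add_self_eq hq 1

open scoped Classical in
/-- forward map of `splitEquiv` -/
noncomputable def splitFun (x : ↥W) :
    {x : V // x ∈ {x : V | x ∈ W ∧ Q x = 0}} ⊕ {x : V // x ∈ {x : V | x ∈ W ∧ Q x = 0}} :=
  if h : Q x.1 = 0 then Sum.inl ⟨x.1, x.2, h⟩ else
    Sum.inr ⟨x.1 + u, W.add_mem x.2 huW, Q_add_u_of_ne hq Q W u hu hperp x.2 h⟩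

theorem splitFun_pos (x : ↥W) (h : Q x.1 = 0) :
    splitFun hq Q W u huW hu hperp x = Sum.inl ⟨x.1, x.2, h⟩ := by
  unfold splitFun
  rw [dif_pos h]

theorem splitFun_neg (x : ↥W) (h : Q x.1 ≠ 0) :
    splitFun hq Q W u huW hu hperp x =
      Sum.inr ⟨x.1 + u, W.add_mem x.2 huW, Q_add_u_of_ne hq Q W u hu hperp x.2 h⟩ := by
  unfold splitFun
  rw [dif_neg h]

/-- splitting a subspace orthogonal to a non-singular vector `u` into singular vectors and
their translates by `u` -/
noncomputable def splitEquiv :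
    ↥W ≃ {x : V // x ∈ {x : V | x ∈ W ∧ Q x = 0}} ⊕ {x : V // x ∈ {x : V | x ∈ W ∧ Q x = 0}} where
  toFun := splitFun hq Q W u huW hu hperp
  invFun := Sum.elim (fun y => ⟨y.1, y.2.1⟩) (fun y => ⟨y.1 + u, W.add_mem y.2.1 huW⟩)
  left_inv := by
    intro x
    by_cases h : Q x.1 = 0
    · rw [splitFun_pos hq Q W u huW hu hperp x h]
      rfl
    · rw [splitFun_neg hq Q W u huW hu hperp x h]
      apply Subtype.ext
      exact add_add_cancel_right' hq x.1 u
  right_inv := by
    intro y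
    rcases y with y | y
    · have h : Q y.1 = 0 := y.2.2
      simp only [Sum.elim_inl]
      rw [splitFun_pos hq Q W u huW hu hperp _ h]
    · have h : Q (y.1 + u) ≠ 0 := by
        rw [Q_add, hu, hperp y.1 y.2.1, y.2.2]
        simp
      simp only [Sum.elim_inr]
      rw [splitFun_neg hq Q W u huW hu hperp _ h]
      congr 1
      apply Subtype.ext
      exact add_add_cancel_right' hq y.1 u

end split

theorem exists_fixed_singular [FiniteDimensional F V] (hq : Fintype.card F = 2)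
    (Q : QuadraticForm F V) (U : Submodule F V) (S : Subgroup ↥(isoG Q)) (hS : IsPGroup 2 S)
    (hU : ∀ s ∈ S, ∀ x ∈ U, ap s x ∈ U) (hdim : 3 ≤ finrank F U) :
    ∃ v ∈ U, v ≠ 0 ∧ Q v = 0 ∧ ∀ s ∈ S, ap s v = v := by
  haveI : Finite V := Module.finite_of_finite F
  have hcF : Nat.card F = 2 := by rw [Nat.card_eq_fintype_card, hq]
  -- a fixed nonzero vector
  have h1 : 2 ∣ Nat.card {x : V // x ∈ {x : V | x ∈ U}} := by
    show 2 ∣ Nat.card ↥U
    rw [Module.natCard_eq_pow_finrank (K := F) (V := ↥U), hcF]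
    exact dvd_pow_self 2 (by omega)
  obtain ⟨u, huU, hu0, hufix⟩ := exists_fixed_of_even S hS {x : V | x ∈ U} hU U.zero_mem h1
  by_cases hQu : Q u = 0
  · exact ⟨u, huU, hu0, hQu, hufix⟩
  have hQu1 : Q u = 1 := eq_one_of_ne_zero hq hQu
  set W : Submodule F V := U ⊓ LinearMap.ker (Bf Q u) with hW
  have hWmem : ∀ x, x ∈ W ↔ x ∈ U ∧ Bp Q u x = 0 := by
    intro x
    rw [hW, Submodule.mem_inf, LinearMap.mem_ker, Bf_apply]
  have huW : u ∈ W := (hWmem u).2 ⟨huU, Bp_self hq Q u⟩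
  have hperp : ∀ x ∈ W, Bp Q x u = 0 := by
    intro x hx
    rw [Bp_comm]
    exact ((hWmem x).1 hx).2
  have hdW : 2 ≤ finrank F W := by
    have : finrank F U ≤ finrank F W + 1 := finrank_le_inf_ker U (Bf Q u)
    omega
  have hX : ∀ s ∈ S, ∀ x ∈ {x : V | x ∈ W ∧ Q x = 0}, ap s x ∈ {x : V | x ∈ W ∧ Q x = 0} := by
    rintro s hs x ⟨hxW, hxQ⟩
    refine ⟨(hWmem _).2 ⟨hU s hs x ((hWmem x).1 hxW).1, ?_⟩, by rw [Q_ap]; exact hxQ⟩
    have := Bp_ap s u x
    rw [hufix s hs] at this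
    rw [this]
    exact ((hWmem x).1 hxW).2
  have h2 : 2 ∣ Nat.card {x : V // x ∈ {x : V | x ∈ W ∧ Q x = 0}} := by
    have hc := Nat.card_congr (splitEquiv hq Q W u huW hQu1 hperp)
    rw [Nat.card_sum, Module.natCard_eq_pow_finrank (K := F) (V := ↥W), hcF] at hc
    obtain ⟨k, hk⟩ : ∃ k, finrank F W = k + 2 := ⟨finrank F W - 2, by omega⟩
    rw [hk, pow_add] at hc
    omega
  obtain ⟨v, hvX, hv0, hvfix⟩ := exists_fixed_of_even S hS _ hX ⟨W.zero_mem, map_zero Q⟩ h2
  exact ⟨v, ((hWmem v).1 hvX.1).1, hv0, hvX.2, hvfix⟩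

end Cfsg.Agent.Helper28.Sy2
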