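import Mathlib
import Cfsg.Agent.Helper28.Sy2B

set_option autoImplicit false
set_option linter.unusedSectionVars false
set_option linter.unusedVariables false

/-! Quadratic spaces over `F_2`: the unipotent radical `Kv` of a singular vector stabiliser lies
in every maximal 2-subgroup fixing the vector; descent to the Levi complement. -/

namespace Cfsg.Agent.Helper28.Sy2

open Module

variable {F : Type*} [Field F] [Fintype F]
variable {V : Type*} [AddCommGroup V] [Module F V]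

/-- `S` is a maximal 2-subgroup of the subgroup `L` -/
def IsMax2 {G : Type*} [Group G] (L S : Subgroup G) : Prop :=
  S ≤ L ∧ IsPGroup 2 S ∧ ∀ R : Subgroup G, IsPGroup 2 R → S ≤ R → R ≤ L → R ≤ S

variable (hq : Fintype.card F = 2) (Q : QuadraticForm F V)

/-- the group of Eichler transformations `E_v(u)`, `u ∈ U ∩ v^⊥` -/
def Kv (U : Submodule F V) {v : V} (hv : Q v = 0) : Subgroup ↥(isoG Q) where
  carrier := {g | ∃ u ∈ U, Bp Q v u = 0 ∧ ∀ x, ap g x = eichLin Q v u x}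
  mul_mem' := by
    rintro a b ⟨u, huU, hu, ha⟩ ⟨u', hu'U, hu', hb⟩
    refine ⟨u + u', U.add_mem huU hu'U, by rw [Bp_add_right, hu, hu', add_zero], fun x => ?_⟩
    rw [ap_mul, hb, ha, eichLin_comp Q hv hu hu']
  one_mem' := ⟨0, U.zero_mem, Bp_zero_right Q v, fun x => by rw [ap_one, eichLin_zero]⟩
  inv_mem' := by
    rintro a ⟨u, huU, hu, ha⟩
    refine ⟨u, huU, hu, fun x => ?_⟩
    rw [← ap_eq_iff, ha, eichLin_invol hq Q hv hu x]

theorem mem_Kv (U : Submodule F V) {v : V} (hv : Q v = 0) (g : ↥(isoG Q)) :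
    g ∈ Kv hq Q U hv ↔ ∃ u ∈ U, Bp Q v u = 0 ∧ ∀ x, ap g x = eichLin Q v u x := Iff.rfl

theorem eichG_mem_Kv (U : Submodule F V) {v u : V} (hv : Q v = 0) (hvu : Bp Q v u = 0)
    (hu : u ∈ U) : eichG hq Q hv hvu ∈ Kv hq Q U hv :=
  ⟨u, hu, hvu, fun x => ap_eichG hq Q hv hvu x⟩

theorem Kv_isPGroup (U : Submodule F V) {v : V} (hv : Q v = 0) : IsPGroup 2 (Kv hq Q U hv) := by
  intro g
  refine ⟨1, ?_⟩
  obtain ⟨u, huU, hu, ha⟩ := g.2
  apply Subtype.ext
  apply ext_ap
  intro x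
  rw [pow_one, pow_two]
  show ap (g.1 * g.1) x = x
  rw [ap_mul, ha, ha, eichLin_invol hq Q hv hu x]

theorem conj_mem_Kv (U : Submodule F V) {v : V} (hv : Q v = 0) (s : ↥(isoG Q))
    (hsv : ap s v = v) (hsU : ∀ x ∈ U, ap s x ∈ U) {g : ↥(isoG Q)} (hg : g ∈ Kv hq Q U hv) :
    s * g * s⁻¹ ∈ Kv hq Q U hv := by
  obtain ⟨u, huU, hu, ha⟩ := hg
  refine ⟨ap s u, hsU u huU, ?_, fun x => ?_⟩
  · have := Bp_ap s v u
    rw [hsv] at this
    rw [this, hu]
  · rw [ap_mul, ap_mul, ha, conj_eichLin Q s hsv]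

theorem le_normalizer_Kv (U : Submodule F V) {v : V} (hv : Q v = 0) (R : Subgroup ↥(isoG Q))
    (hRv : ∀ r ∈ R, ap r v = v) (hRU : ∀ r ∈ R, ∀ x ∈ U, ap r x ∈ U) :
    R ≤ Subgroup.normalizer ((Kv hq Q U hv : Subgroup ↥(isoG Q)) : Set ↥(isoG Q)) := by
  intro r hr
  rw [Subgroup.mem_normalizer_iff]
  intro g
  constructor
  · intro hg
    exact conj_mem_Kv hq Q U hv r (hRv r hr) (hRU r hr) hg
  · intro hg
    have := conj_mem_Kv hq Q U hv r⁻¹ (hRv _ (R.inv_mem hr)) (hRU _ (R.inv_mem hr)) hg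
    have h2 : r⁻¹ * (r * g * r⁻¹) * r⁻¹⁻¹ = g := by group
    rw [h2] at this
    exact this

theorem Kv_le_fixG (H : Submodule F V) {v : V} (hv : Q v = 0) (hvU : v ∈ perp Q H) :
    Kv hq Q (perp Q H) hv ≤ fixG Q H := by
  rintro g ⟨u, huU, hu, ha⟩ h hh
  rw [ha, eichLin_apply, Bp_comm Q h u, huU h hh, Bp_comm Q h v, hvU h hh]
  simp

/-- the key containment: the Eichler group lies in every maximal 2-subgroup fixing `v` -/
theorem Kv_le_of_max2 (H : Submodule F V) {v : V} (hv : Q v = 0) (hvU : v ∈ perp Q H)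
    (S : Subgroup ↥(isoG Q)) (hS : IsMax2 (fixG Q H) S) (hSv : ∀ s ∈ S, ap s v = v) :
    Kv hq Q (perp Q H) hv ≤ S := by
  have hnorm : S ≤ Subgroup.normalizer ((Kv hq Q (perp Q H) hv : Subgroup ↥(isoG Q)) :
      Set ↥(isoG Q)) :=
    le_normalizer_Kv hq Q _ hv S hSv (fun s hs x hx => ap_mem_perp (hS.1 hs) hx)
  have hP : IsPGroup 2 (S ⊔ Kv hq Q (perp Q H) hv : Subgroup ↥(isoG Q)) :=
    IsPGroup.to_sup_of_normal_right' hS.2.1 (Kv_isPGroup hq Q _ hv) hnorm
  have := hS.2.2 _ hP le_sup_left (sup_le hS.1 (Kv_le_fixG hq Q H hv hvU))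
  exact le_sup_right.trans this

/-- an Eichler transformation with `u ∉ span {v}` is not the identity -/
theorem eichG_ne_one {v u : V} (hv : Q v = 0) (hvu : Bp Q v u = 0)
    (hnd : ∃ x, Bp Q x v ≠ 0) (hu : ∀ c : F, u ≠ c • v) : eichG hq Q hv hvu ≠ 1 := by
  intro h1
  obtain ⟨x, hx⟩ := hnd
  have hx1 : Bp Q x v = 1 := eq_one_of_ne_zero hq hx
  have h2 : ap (eichG hq Q hv hvu) x = x := by rw [h1, ap_one]
  rw [ap_eichG, eichLin_apply, hx1, one_smul, mul_one] at h2
  have h3 : Bp Q x u • v + u + Q u • v = 0 := by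
    have : x + (Bp Q x u • v + u + Q u • v) = x + 0 := by
      rw [add_zero, ← add_assoc, ← add_assoc]
      exact h2
    exact add_left_cancel this
  apply hu (Bp Q x u + Q u)
  have h4 : u = (Bp Q x u • v + u + Q u • v) + (Bp Q x u + Q u) • v := by
    rw [add_smul]
    have e1 := vadd_self hq (Bp Q x u • v)
    have e2 := vadd_self hq (Q u • v)
    calc u = u + (Bp Q x u • v + Bp Q x u • v) + (Q u • v + Q u • v) := by rw [e1, e2]; simp
      _ = _ := by abel
  rw [h3, zero_add] at h4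
  exact h4

include hq in
/-- descent: a maximal 2-subgroup of `fixG H` fixing `v` meets the pointwise stabiliser of a
hyperbolic pair `v, w` in a maximal 2-subgroup of the latter -/
theorem max2_inf (H : Submodule F V) {v w : V} (hv : Q v = 0) (hw : Q w = 0)
    (hvU : v ∈ perp Q H) (hwU : w ∈ perp Q H) (hvw : Bp Q v w = 1)
    (S : Subgroup ↥(isoG Q)) (hS : IsMax2 (fixG Q H) S) (hSv : ∀ s ∈ S, ap s v = v) :
    IsMax2 (fixG Q (H ⊔ Submodule.span F {v, w})) (S ⊓ fixG Q (H ⊔ Submodule.span F {v, w})) := by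
  set L := fixG Q (H ⊔ Submodule.span F {v, w}) with hL
  have hLH : L ≤ fixG Q H := fixG_anti Q le_sup_left
  have hLv : ∀ l ∈ L, ap l v = v := fun l hl =>
    hl v (Submodule.mem_sup_right (Submodule.subset_span (by simp)))
  have hLw : ∀ l ∈ L, ap l w = w := fun l hl =>
    hl w (Submodule.mem_sup_right (Submodule.subset_span (by simp)))
  have hK := Kv_le_of_max2 hq Q H hv hvU S hS hSv
  refine ⟨inf_le_right, hS.2.1.to_le inf_le_left, ?_⟩
  intro R hR hSR hRL
  have hRH : R ≤ fixG Q H := hRL.trans hLH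
  have hnorm : R ≤ Subgroup.normalizer ((Kv hq Q (perp Q H) hv : Subgroup ↥(isoG Q)) :
      Set ↥(isoG Q)) :=
    le_normalizer_Kv hq Q _ hv R (fun r hr => hLv r (hRL hr))
      (fun r hr x hx => ap_mem_perp (hRH hr) hx)
  have hP : IsPGroup 2 (R ⊔ Kv hq Q (perp Q H) hv : Subgroup ↥(isoG Q)) :=
    IsPGroup.to_sup_of_normal_right' hR (Kv_isPGroup hq Q _ hv) hnorm
  have hSle : S ≤ R ⊔ Kv hq Q (perp Q H) hv := by
    intro s hs
    -- move `w` back with an Eichler transformation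
    have hsH : s ∈ fixG Q H := hS.1 hs
    set w' := ap s w with hw'
    have hw'U : w' ∈ perp Q H := ap_mem_perp hsH hwU
    have hQw' : Q w' = 0 := by rw [hw', Q_ap, hw]
    have hvw' : Bp Q v w' = 1 := by
      have := Bp_ap s v w
      rw [hSv s hs] at this
      rw [hw', this, hvw]
    have hvu : Bp Q v (w + w') = 0 := by
      rw [Bp_add_right, hvw, hvw']
      exact add_self_eq hq 1
    have huU : w + w' ∈ perp Q H := (perp Q H).add_mem hwU hw'U
    set k := eichG hq Q hv hvu with hk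
    have hkK : k ∈ Kv hq Q (perp Q H) hv := eichG_mem_Kv hq Q _ hv hvu huU
    have hkw : ap k w = w' := by
      rw [hk, ap_eichG, eichLin_apply, Bp_comm Q w v, hvw, one_smul, mul_one, Q_add, hw, hQw',
        Bp_add_right, Bp_self hq Q w]
      simp only [zero_add]
      have e1 := vadd_self hq (Bp Q w w' • v)
      have e2 := vadd_self hq w
      calc w + Bp Q w w' • v + (w + w') + Bp Q w w' • v
          = (w + w) + (Bp Q w w' • v + Bp Q w w' • v) + w' := by abel
        _ = w' := by rw [e1, e2]; simp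
    have hkv : ap k v = v := by
      rw [hk, ap_eichG, eichLin_apply, hvu, Bp_self_of_sing Q hv]
      simp
    set l := k⁻¹ * s with hl
    have hlS : l ∈ S := S.mul_mem (S.inv_mem (hK hkK)) hs
    have hlv : ap l v = v := by
      rw [hl, ap_mul, hSv s hs, ← ap_eq_iff]
      exact hkv
    have hlw : ap l w = w := by
      rw [hl, ap_mul, ← hw', ← ap_eq_iff]
      exact hkw
    have hlL : l ∈ L := mem_fixG_sup_pair (hS.1 hlS) hlv hlw
    have hlR : l ∈ R := hSR ⟨hlS, hlL⟩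
    have : s = k * l := by rw [hl]; group
    rw [this, sup_comm]
    exact Subgroup.mul_mem_sup hkK hlR
  have hle : R ⊔ Kv hq Q (perp Q H) hv ≤ S :=
    hS.2.2 _ hP hSle (sup_le hRH (Kv_le_fixG hq Q H hv hvU))
  exact le_inf (le_sup_left.trans hle) hRL

end Cfsg.Agent.Helper28.Sy2
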