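import Mathlib
import Cfsg.Agent.Helper28.Sy2C

set_option autoImplicit false
set_option linter.unusedSectionVars false
set_option linter.unusedVariables false

/-! Quadratic spaces over `F_2`: Lagrangian subspaces, covering condition and their descent to the
perp of a hyperbolic pair; the two-dimensional base case. -/

namespace Cfsg.Agent.Helper28.Sy2

open Module

variable {F : Type*} [Field F] [Fintype F]
variable {V : Type*} [AddCommGroup V] [Module F V]

/-- `M` is a Lagrangian (self-perpendicular totally singular) subspace of `U` -/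
def IsLag (Q : QuadraticForm F V) (U M : Submodule F V) : Prop :=
  M ≤ U ∧ (∀ x ∈ M, Q x = 0) ∧ ∀ x ∈ U, (∀ y ∈ M, Bp Q x y = 0) → x ∈ M

/-- every vector is congruent mod `H` to a vector of `perp H` -/
def Cov (Q : QuadraticForm F V) (H : Submodule F V) : Prop :=
  ∀ x : V, ∃ h ∈ H, x + h ∈ perp Q H

/-- non-degeneracy of the polar form -/
def Nondeg (Q : QuadraticForm F V) : Prop := ∀ x : V, x ≠ 0 → ∃ y, Bp Q x y ≠ 0

variable (hq : Fintype.card F = 2) (Q : QuadraticForm F V)

theorem Bp_of_ts {M : Submodule F V} (hM : ∀ x ∈ M, Q x = 0) {x y : V} (hx : x ∈ M) (hy : y ∈ M) :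
    Bp Q x y = 0 := by
  rw [Bp, QuadraticMap.polar, hM _ (M.add_mem hx hy), hM x hx, hM y hy]
  simp

/-- enlarging a Lagrangian to contain a given singular vector -/
def lagOne (M : Submodule F V) (v : V) : Submodule F V where
  carrier := {x | ∃ y ∈ M, Bp Q v y = 0 ∧ ∃ c : F, x = y + c • v}
  add_mem' := by
    rintro a b ⟨y, hy, hvy, c, rfl⟩ ⟨y', hy', hvy', c', rfl⟩
    refine ⟨y + y', M.add_mem hy hy', by rw [Bp_add_right, hvy, hvy', add_zero], c + c', ?_⟩
    module
  zero_mem' := ⟨0, M.zero_mem, Bp_zero_right Q v, 0, by simp⟩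
  smul_mem' := by
    rintro a x ⟨y, hy, hvy, c, rfl⟩
    refine ⟨a • y, M.smul_mem a hy, by rw [Bp_smul_right, hvy, mul_zero], a * c, ?_⟩
    module

theorem mem_lagOne (M : Submodule F V) (v x : V) :
    x ∈ lagOne Q M v ↔ ∃ y ∈ M, Bp Q v y = 0 ∧ ∃ c : F, x = y + c • v := Iff.rfl

theorem self_mem_lagOne (M : Submodule F V) (v : V) : v ∈ lagOne Q M v :=
  ⟨0, M.zero_mem, Bp_zero_right Q v, 1, by simp⟩

include hq in
theorem lagOne_isLag {U M : Submodule F V} (hM : IsLag Q U M) {v : V} (hvU : v ∈ U)
    (hv : Q v = 0) : IsLag Q U (lagOne Q M v) := by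
  obtain ⟨hMU, hMts, hMlag⟩ := hM
  refine ⟨?_, ?_, ?_⟩
  · rintro x ⟨y, hy, hvy, c, rfl⟩
    exact U.add_mem (hMU hy) (U.smul_mem c hvU)
  · rintro x ⟨y, hy, hvy, c, rfl⟩
    rw [Q_add, Q_smul, hv, hMts y hy, Bp_smul_right, Bp_comm Q y v, hvy]
    simp
  · intro z hzU hz
    have hzv : Bp Q z v = 0 := hz v (self_mem_lagOne Q M v)
    by_cases hvM : v ∈ M
    · -- then `M ≤ lagOne`
      have hzM : z ∈ M := by
        apply hMlag z hzU
        intro y hy
        exact hz y ⟨y, hy, Bp_of_ts Q hMts hvM hy, 0, by simp⟩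
      exact ⟨z, hzM, Bp_of_ts Q hMts hvM hzM, 0, by simp⟩
    · -- some `y₀ ∈ M` is not perpendicular to `v`
      have hex : ∃ y₀ ∈ M, Bp Q v y₀ ≠ 0 := by
        by_contra hcon
        push_neg at hcon
        exact hvM (hMlag v hvU hcon)
      obtain ⟨y₀, hy₀, hvy₀⟩ := hex
      have hvy₀1 : Bp Q v y₀ = 1 := eq_one_of_ne_zero hq hvy₀
      set z' := z + Bp Q z y₀ • v with hz'
      have hz'U : z' ∈ U := U.add_mem hzU (U.smul_mem _ hvU)
      have hz'M : z' ∈ M := by
        apply hMlag z' hz'U
        intro y hy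
        have hy1 : y + Bp Q y v • y₀ ∈ lagOne Q M v := by
          refine ⟨y + Bp Q y v • y₀, M.add_mem hy (M.smul_mem _ hy₀), ?_, 0, by simp⟩
          rw [Bp_add_right, Bp_smul_right, hvy₀1, mul_one, Bp_comm Q v y]
          exact add_self_eq hq _
        have h1 := hz _ hy1
        rw [Bp_add_right, Bp_smul_right] at h1
        rw [hz', Bp_add_left, Bp_smul_left]
        have h2 := two_eq_zero (F := F) hq
        rw [Bp_comm Q v y]
        linear_combination h1
      have hz'v : Bp Q v z' = 0 := by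
        rw [hz', Bp_add_right, Bp_smul_right, Bp_self_of_sing Q hv, Bp_comm Q v z, hzv]
        simp
      refine ⟨z', hz'M, hz'v, Bp Q z y₀, ?_⟩
      rw [hz', add_assoc, vadd_self hq, add_zero]

include hq in
/-- cutting a Lagrangian containing `v` down to the perp of a hyperbolic pair `v, w` -/
theorem lagTwo_isLag {H M : Submodule F V} {v w : V} (hM : IsLag Q (perp Q H) M) (hvM : v ∈ M)
    (hvw : Bp Q v w = 1) :
    IsLag Q (perp Q (H ⊔ Submodule.span F {v, w})) (M ⊓ LinearMap.ker (Bf Q w)) := by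
  obtain ⟨hMU, hMts, hMlag⟩ := hM
  refine ⟨?_, ?_, ?_⟩
  · intro x hx
    obtain ⟨hxM, hxw⟩ := Submodule.mem_inf.1 hx
    rw [LinearMap.mem_ker, Bf_apply] at hxw
    exact mem_perp_sup_pair (hMU hxM) (Bp_of_ts Q hMts hxM hvM) (by rw [Bp_comm]; exact hxw)
  · intro x hx
    exact hMts x (Submodule.mem_inf.1 hx).1
  · intro z hzU' hz
    obtain ⟨hzU, hzv, hzw⟩ := perp_sup_pair_le hzU'
    have hzM : z ∈ M := by
      apply hMlag z hzU
      intro y hy
      have hy2 : y + Bp Q y w • v ∈ M ⊓ LinearMap.ker (Bf Q w) := by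
        refine Submodule.mem_inf.2 ⟨M.add_mem hy (M.smul_mem _ hvM), ?_⟩
        rw [LinearMap.mem_ker, Bf_apply, Bp_add_right, Bp_smul_right, Bp_comm Q w v, hvw, mul_one,
          Bp_comm Q w y]
        exact add_self_eq hq _
      have h1 := hz _ hy2
      rw [Bp_add_right, Bp_smul_right, hzv, mul_zero, add_zero] at h1
      exact h1
    refine Submodule.mem_inf.2 ⟨hzM, ?_⟩
    rw [LinearMap.mem_ker, Bf_apply, Bp_comm]
    exact hzw

include hq in
theorem cov_step {H : Submodule F V} {v w : V} (hcov : Cov Q H) (hvU : v ∈ perp Q H)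
    (hwU : w ∈ perp Q H) (hv : Q v = 0) (hw : Q w = 0) (hvw : Bp Q v w = 1) :
    Cov Q (H ⊔ Submodule.span F {v, w}) := by
  intro x
  obtain ⟨h, hh, hy⟩ := hcov x
  obtain ⟨y, hydef⟩ : ∃ y, y = x + h := ⟨_, rfl⟩
  rw [← hydef] at hy
  refine ⟨h + (Bp Q y w • v + Bp Q y v • w), ?_, ?_⟩
  · apply Submodule.add_mem _ (Submodule.mem_sup_left hh)
    apply Submodule.mem_sup_right
    exact Submodule.mem_span_pair.2 ⟨_, _, rfl⟩
  · have : x + (h + (Bp Q y w • v + Bp Q y v • w)) = y + (Bp Q y w • v + Bp Q y v • w) := by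
      rw [hydef]; abel
    rw [this]
    apply mem_perp_sup_pair
    · exact (perp Q H).add_mem hy
        ((perp Q H).add_mem ((perp Q H).smul_mem _ hvU) ((perp Q H).smul_mem _ hwU))
    · rw [Bp_add_left, Bp_add_left, Bp_smul_left, Bp_smul_left, Bp_self_of_sing Q hv,
        Bp_comm Q w v, hvw]
      simp only [mul_zero, zero_add, mul_one]
      exact add_self_eq hq _
    · rw [Bp_add_left, Bp_add_left, Bp_smul_left, Bp_smul_left, Bp_self_of_sing Q hw, hvw]
      simp only [mul_zero, add_zero, mul_one]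
      exact add_self_eq hq _

section base

variable [FiniteDimensional F V]

include hq in
/-- hyperbolic pair inside `perp H` when it has a Lagrangian -/
theorem exists_hyp_pair (hnd : Nondeg Q) {H M : Submodule F V} (hcov : Cov Q H)
    (hM : IsLag Q (perp Q H) M) (hU : perp Q H ≠ ⊥) :
    ∃ e f : V, e ∈ perp Q H ∧ f ∈ perp Q H ∧ Q e = 0 ∧ Q f = 0 ∧ Bp Q e f = 1 := by
  obtain ⟨hMU, hMts, hMlag⟩ := hM
  have hMne : M ≠ ⊥ := by
    intro hMb
    apply hU
    rw [eq_bot_iff]
    intro x hx
    have := hMlag x hx (by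
      intro y hy
      rw [hMb, Submodule.mem_bot] at hy
      rw [hy, Bp_zero_right])
    rwa [hMb] at this
  obtain ⟨e, heM, he0⟩ := Submodule.exists_mem_ne_zero_of_ne_bot hMne
  have heU : e ∈ perp Q H := hMU heM
  have hQe : Q e = 0 := hMts e heM
  obtain ⟨y, hy⟩ := hnd e he0
  have hy1 : Bp Q e y = 1 := eq_one_of_ne_zero hq hy
  obtain ⟨h, hh, hf₀U⟩ := hcov y
  have hef₀ : Bp Q e (y + h) = 1 := by
    rw [Bp_add_right, hy1, heU h hh, add_zero]
  by_cases hQf : Q (y + h) = 0
  · exact ⟨e, y + h, heU, hf₀U, hQe, hQf, hef₀⟩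
  · have hQf1 : Q (y + h) = 1 := eq_one_of_ne_zero hq hQf
    refine ⟨e, y + h + e, heU, (perp Q H).add_mem hf₀U heU, hQe, ?_, ?_⟩
    · rw [Q_add, hQf1, hQe, Bp_comm, hef₀, add_zero]
      exact add_self_eq hq 1
    · rw [Bp_add_right, hef₀, Bp_self_of_sing Q hQe, add_zero]

include hq in
theorem span_pair_of_finrank_le_two {U : Submodule F V} {e f : V} (heU : e ∈ U) (hfU : f ∈ U)
    (hQe : Q e = 0) (hQf : Q f = 0) (hef : Bp Q e f = 1) (hdim : finrank F U ≤ 2)
    {y : V} (hy : y ∈ U) : y = Bp Q y f • e + Bp Q y e • f := by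
  set y' := y + (Bp Q y f • e + Bp Q y e • f) with hy'
  have hy'U : y' ∈ U := U.add_mem hy (U.add_mem (U.smul_mem _ heU) (U.smul_mem _ hfU))
  have hy'e : Bp Q y' e = 0 := by
    rw [hy', Bp_add_left, Bp_add_left, Bp_smul_left, Bp_smul_left, Bp_self_of_sing Q hQe,
      Bp_comm Q f e, hef]
    simp only [mul_zero, zero_add, mul_one]
    exact add_self_eq hq _
  have hy'f : Bp Q y' f = 0 := by
    rw [hy', Bp_add_left, Bp_add_left, Bp_smul_left, Bp_smul_left, Bp_self_of_sing Q hQf, hef]
    simp only [mul_zero, add_zero, mul_one]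
    exact add_self_eq hq _
  have hy'0 : y' = 0 := by
    by_contra hne
    have he0 : e ≠ 0 := by
      intro h0
      rw [h0, Bp_zero_left] at hef
      exact zero_ne_one hef
    -- a strict chain of subspaces of length three inside `U`
    have c1 : (⊥ : Submodule F V) < Submodule.span F {e} := by
      rw [bot_lt_iff_ne_bot]
      intro hb
      have : e ∈ Submodule.span F ({e} : Set V) := Submodule.subset_span (by simp)
      rw [hb, Submodule.mem_bot] at this
      exact he0 this
    have c2 : Submodule.span F ({e} : Set V) < Submodule.span F {e, f} := by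
      refine lt_of_le_of_ne (Submodule.span_mono (by simp)) ?_
      intro heq
      have : f ∈ Submodule.span F ({e} : Set V) := by
        rw [heq]; exact Submodule.subset_span (by simp)
      obtain ⟨c, hc⟩ := Submodule.mem_span_singleton.1 this
      rw [← hc, Bp_smul_right, Bp_self_of_sing Q hQe, mul_zero] at hef
      exact zero_ne_one hef
    have c3 : Submodule.span F ({e, f} : Set V) <
        Submodule.span F {e, f} ⊔ Submodule.span F {y'} := by
      refine lt_of_le_of_ne le_sup_left ?_
      intro heq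
      have : y' ∈ Submodule.span F ({e, f} : Set V) := by
        rw [heq]; exact Submodule.mem_sup_right (Submodule.subset_span (by simp))
      obtain ⟨a, b, hab⟩ := Submodule.mem_span_pair.1 this
      have ha : a = 0 := by
        have := hy'f
        rw [← hab, Bp_add_left, Bp_smul_left, Bp_smul_left, hef, Bp_self_of_sing Q hQf] at this
        simpa using this
      have hb : b = 0 := by
        have := hy'e
        rw [← hab, Bp_add_left, Bp_smul_left, Bp_smul_left, Bp_comm Q f e, hef,
          Bp_self_of_sing Q hQe] at this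
        simpa using this
      rw [ha, hb] at hab
      apply hne
      rw [← hab]
      simp
    have c4 : Submodule.span F ({e, f} : Set V) ⊔ Submodule.span F {y'} ≤ U := by
      apply sup_le
      · rw [Submodule.span_le]
        rintro z (rfl | rfl)
        · exact heU
        · exact hfU
      · rw [Submodule.span_le]
        rintro z rfl
        exact hy'U
    have d1 := Submodule.finrank_lt_finrank_of_lt c1
    have d2 := Submodule.finrank_lt_finrank_of_lt c2
    have d3 := Submodule.finrank_lt_finrank_of_lt c3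
    have d4 := Submodule.finrank_mono c4
    omega
  have : y = y' + (Bp Q y f • e + Bp Q y e • f) := by
    rw [hy', add_assoc, vadd_self hq, add_zero]
  rw [hy'0, zero_add] at this
  exact this

include hq in
/-- the base case: with `perp H` a hyperbolic plane, `fixG H` is a nontrivial 2-group -/
theorem base_case (hnd : Nondeg Q) {H M : Submodule F V} (hcov : Cov Q H)
    (hM : IsLag Q (perp Q H) M) (hU : perp Q H ≠ ⊥) (hdim : finrank F (perp Q H) ≤ 2) :
    IsPGroup 2 (fixG Q H) ∧ ∃ g ∈ fixG Q H, g ≠ 1 := by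
  obtain ⟨e, f, heU, hfU, hQe, hQf, hef⟩ := exists_hyp_pair hq Q hnd hcov hM hU
  have hspan : ∀ y ∈ perp Q H, y = Bp Q y f • e + Bp Q y e • f := fun y hy =>
    span_pair_of_finrank_le_two hq Q heU hfU hQe hQf hef hdim hy
  have hne : e ≠ f := by
    intro h
    rw [← h, Bp_self_of_sing Q hQe] at hef
    exact zero_ne_one hef
  -- nonzero singular vectors of `perp H`
  have hsing : ∀ z ∈ perp Q H, Q z = 0 → z ≠ 0 → z = e ∨ z = f := by
    intro z hz hQz hz0
    have hz' := hspan z hz
    have hQ : Bp Q z f * Bp Q z e = 0 := by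
      have := hQz
      rw [hz', Q_add, Q_smul, Q_smul, hQe, hQf, Bp_smul_left, Bp_smul_right, hef] at this
      simpa using this
    rcases eq_zero_or_one hq (Bp Q z f) with ha | ha <;>
      rcases eq_zero_or_one hq (Bp Q z e) with hb | hb
    · exfalso; apply hz0; rw [hz', ha, hb]; simp
    · right; rw [hz', ha, hb]; simp
    · left; rw [hz', ha, hb]; simp
    · exfalso; rw [ha, hb] at hQ; simp at hQ
  have hsq : ∀ g ∈ fixG Q H, ∀ x, ap g (ap g x) = x := by
    intro g hg
    have hge : ap g e = e ∨ ap g e = f := by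
      apply hsing _ (ap_mem_perp hg heU) (by rw [Q_ap, hQe])
      intro h0
      have := ap_inv_ap g e
      rw [h0, ap_zero] at this
      rw [← this, Bp_zero_left] at hef
      exact zero_ne_one hef
    have hgf : ap g f = e ∨ ap g f = f := by
      apply hsing _ (ap_mem_perp hg hfU) (by rw [Q_ap, hQf])
      intro h0
      have := ap_inv_ap g f
      rw [h0, ap_zero] at this
      rw [← this, Bp_zero_right] at hef
      exact zero_ne_one hef
    have hinj : ap g e ≠ ap g f := by
      intro h
      have := ap_inv_ap g e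
      rw [h, ap_inv_ap] at this
      exact hne this.symm
    have hee : ap g (ap g e) = e ∧ ap g (ap g f) = f := by
      rcases hge with h1 | h1 <;> rcases hgf with h2 | h2
      · exfalso; exact hinj (h1.trans h2.symm)
      · exact ⟨by rw [h1, h1], by rw [h2, h2]⟩
      · exact ⟨by rw [h1, h2], by rw [h2, h1]⟩
      · exfalso; exact hinj (h1.trans h2.symm)
    intro x
    obtain ⟨h, hh, hy⟩ := hcov x
    have hx : x = h + (Bp Q (x + h) f • e + Bp Q (x + h) e • f) := by
      have := hspan _ hy
      rw [← this, add_comm h, add_assoc, vadd_self hq, add_zero]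
    rw [hx]
    simp only [ap_add, ap_smul, hg h hh, hee.1, hee.2]
  constructor
  · intro g
    refine ⟨1, ?_⟩
    apply Subtype.ext
    apply ext_ap
    intro x
    rw [pow_one, pow_two]
    show ap (g.1 * g.1) x = x
    rw [ap_mul, hsq g.1 g.2]
  · have ha : Q (e + f) = 1 := by
      rw [Q_add, hQe, hQf, hef]; simp
    refine ⟨reflG hq Q ha, ?_, ?_⟩
    · intro h hh
      rw [ap_reflG, Bp_comm, (perp Q H).add_mem heU hfU h hh, zero_smul, add_zero]
    · intro h1
      have : ap (reflG hq Q ha) e = e := by rw [h1, ap_one]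
      rw [ap_reflG, Bp_add_right, Bp_self_of_sing Q hQe, hef, zero_add, one_smul, ← add_assoc,
        vadd_self hq, zero_add] at this
      exact hne this.symm

end base

end Cfsg.Agent.Helper28.Sy2
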