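import Mathlib
import Cfsg.Agent.Helper28.Sy2D

set_option autoImplicit false
set_option linter.unusedSectionVars false
set_option linter.unusedVariables false

/-! Quadratic spaces of plus type over `F_2`: any two maximal 2-subgroups of the isometry group
(more generally of the pointwise stabiliser of a hyperbolic subspace) intersect non-trivially. -/

namespace Cfsg.Agent.Helper28.Sy2

open Module

variable {F : Type*} [Field F] [Fintype F]
variable {V : Type*} [AddCommGroup V] [Module F V] [FiniteDimensional F V]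

variable (hq : Fintype.card F = 2) (Q : QuadraticForm F V)

include hq in
theorem exists_not_smul {U : Submodule F V} {v : V} (hv0 : v ≠ 0) (hdim : 3 ≤ finrank F U) :
    ∃ u ∈ U, Bp Q v u = 0 ∧ ∀ c : F, u ≠ c • v := by
  set W : Submodule F V := U ⊓ LinearMap.ker (Bf Q v) with hW
  have hdW : finrank F U ≤ finrank F W + 1 := finrank_le_inf_ker U (Bf Q v)
  by_contra hcon
  push_neg at hcon
  have hle : W ≤ Submodule.span F {v} := by
    intro u hu
    obtain ⟨huU, huk⟩ := Submodule.mem_inf.1 hu
    rw [LinearMap.mem_ker, Bf_apply] at huk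
    obtain ⟨c, hc⟩ := hcon u huU huk
    rw [hc]
    exact Submodule.smul_mem _ _ (Submodule.subset_span (by simp))
  have h1 := Submodule.finrank_mono hle
  rw [finrank_span_singleton hv0] at h1
  omega

include hq in
theorem main_aux (hnd : Nondeg Q) :
    ∀ n : ℕ, ∀ H : Submodule F V, finrank F (perp Q H) = n → Cov Q H →
      (∃ M, IsLag Q (perp Q H) M) → perp Q H ≠ ⊥ →
      ∀ S T : Subgroup ↥(isoG Q), IsMax2 (fixG Q H) S → IsMax2 (fixG Q H) T → S ⊓ T ≠ ⊥ := by
  intro n
  induction n using Nat.strong_induction_on with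
  | _ n ih =>
  intro H hn hcov hlag hU S T hS hT
  obtain ⟨M, hM⟩ := hlag
  rcases Nat.lt_or_ge (finrank F (perp Q H)) 3 with hdim | hdim
  · -- base case
    obtain ⟨hP, g, hg, hg1⟩ := base_case hq Q hnd hcov hM hU (by omega)
    have hS' : fixG Q H ≤ S := hS.2.2 _ hP hS.1 le_rfl
    have hT' : fixG Q H ≤ T := hT.2.2 _ hP hT.1 le_rfl
    intro hbot
    have : g ∈ S ⊓ T := ⟨hS' hg, hT' hg⟩
    rw [hbot, Subgroup.mem_bot] at this
    exact hg1 this
  · -- inductive step
    obtain ⟨v, hvU, hv0, hQv, hSv⟩ := exists_fixed_singular hq Q (perp Q H) S hS.2.1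
      (fun s hs x hx => ap_mem_perp (hS.1 hs) hx) hdim
    obtain ⟨w, hwU, hw0, hQw, hTw⟩ := exists_fixed_singular hq Q (perp Q H) T hT.2.1
      (fun s hs x hx => ap_mem_perp (hT.1 hs) hx) hdim
    have hndv : ∃ x, Bp Q x v ≠ 0 := by
      obtain ⟨y, hy⟩ := hnd v hv0
      exact ⟨y, by rw [Bp_comm]; exact hy⟩
    by_cases hvw : Bp Q v w = 0
    · by_cases hwv : w = v
      · subst hwv
        obtain ⟨u, huU, hvu, hu⟩ := exists_not_smul hq Q hw0 hdim
        have hK := eichG_mem_Kv hq Q (perp Q H) hQw hvu huU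
        have h1 := Kv_le_of_max2 hq Q H hQw hwU S hS hSv hK
        have h2 := Kv_le_of_max2 hq Q H hQw hwU T hT hTw hK
        intro hbot
        have : eichG hq Q hQw hvu ∈ S ⊓ T := ⟨h1, h2⟩
        rw [hbot, Subgroup.mem_bot] at this
        exact eichG_ne_one hq Q hQw hvu hndv hu this
      · have hK := eichG_mem_Kv hq Q (perp Q H) hQv hvw hwU
        have h1 := Kv_le_of_max2 hq Q H hQv hvU S hS hSv hK
        have hK2 : eichG hq Q hQv hvw ∈ Kv hq Q (perp Q H) hQw := by
          refine ⟨v, hvU, by rw [Bp_comm]; exact hvw, fun x => ?_⟩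
          rw [ap_eichG, eichLin_apply, eichLin_apply, hQv, hQw]
          simp only [zero_mul, zero_smul, add_zero]
          abel
        have h2 := Kv_le_of_max2 hq Q H hQw hwU T hT hTw hK2
        intro hbot
        have : eichG hq Q hQv hvw ∈ S ⊓ T := ⟨h1, h2⟩
        rw [hbot, Subgroup.mem_bot] at this
        refine eichG_ne_one hq Q hQv hvw hndv ?_ this
        intro c
        rcases eq_zero_or_one hq c with hc | hc
        · rw [hc, zero_smul]; exact hw0
        · rw [hc, one_smul]; exact hwv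
    · have hvw1 : Bp Q v w = 1 := eq_one_of_ne_zero hq hvw
      have hwv1 : Bp Q w v = 1 := by rw [Bp_comm]; exact hvw1
      have hS' := max2_inf hq Q H hQv hQw hvU hwU hvw1 S hS hSv
      have hT' := max2_inf hq Q H hQw hQv hwU hvU hwv1 T hT hTw
      rw [Set.pair_comm w v] at hT'
      set H' := H ⊔ Submodule.span F {v, w} with hH'
      have hle : perp Q H' ≤ perp Q H := fun x hx => (perp_sup_pair_le hx).1
      have hlt : perp Q H' < perp Q H := by
        refine lt_of_le_of_ne hle ?_
        intro heq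
        have : v ∈ perp Q H' := by rw [heq]; exact hvU
        have := (perp_sup_pair_le this).2.2
        rw [hvw1] at this
        exact one_ne_zero this
      have hfr := Submodule.finrank_lt_finrank_of_lt hlt
      have hU' : perp Q H' ≠ ⊥ := by
        have e1 := finrank_le_inf_ker (perp Q H) (Bf Q v)
        have e2 := finrank_le_inf_ker (perp Q H ⊓ LinearMap.ker (Bf Q v)) (Bf Q w)
        have hpos : 0 < finrank F ↥(perp Q H ⊓ LinearMap.ker (Bf Q v) ⊓ LinearMap.ker (Bf Q w)) := by
          omega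
        have hne : perp Q H ⊓ LinearMap.ker (Bf Q v) ⊓ LinearMap.ker (Bf Q w) ≠ ⊥ := by
          intro hb
          rw [hb, finrank_bot] at hpos
          exact lt_irrefl 0 hpos
        obtain ⟨z, hz, hz0⟩ := Submodule.exists_mem_ne_zero_of_ne_bot hne
        obtain ⟨hz1, hzw⟩ := Submodule.mem_inf.1 hz
        obtain ⟨hzU, hzv⟩ := Submodule.mem_inf.1 hz1
        rw [LinearMap.mem_ker, Bf_apply] at hzw hzv
        intro hb
        have : z ∈ perp Q H' :=
          mem_perp_sup_pair hzU (by rw [Bp_comm]; exact hzv) (by rw [Bp_comm]; exact hzw)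
        rw [hb, Submodule.mem_bot] at this
        exact hz0 this
      have hcov' : Cov Q H' := cov_step hq Q hcov hvU hwU hQv hQw hvw1
      have hM1 := lagOne_isLag hq Q hM hvU hQv
      have hM2 := lagTwo_isLag hq Q hM1 (self_mem_lagOne Q M v) hvw1
      have := ih _ (hn ▸ hfr) H' rfl hcov' ⟨_, hM2⟩ hU' _ _ hS' hT'
      intro hbot
      apply this
      rw [eq_bot_iff, ← hbot]
      exact le_inf (inf_le_left.trans inf_le_left) (inf_le_right.trans inf_le_left)

include hq in
/-- main abstract theorem: in a non-degenerate quadratic space over `F_2` with a Lagrangian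
subspace, any two Sylow 2-subgroups of the isometry group intersect non-trivially -/
theorem sylow_inf_ne_bot (hnd : Nondeg Q) (hV : (⊤ : Submodule F V) ≠ ⊥)
    (M : Submodule F V) (hMts : ∀ x ∈ M, Q x = 0)
    (hMlag : ∀ x : V, (∀ y ∈ M, Bp Q x y = 0) → x ∈ M)
    (S T : Sylow 2 ↥(isoG Q)) : (S : Subgroup ↥(isoG Q)) ⊓ (T : Subgroup ↥(isoG Q)) ≠ ⊥ := by
  have hperp : perp Q (⊥ : Submodule F V) = ⊤ := perp_bot Q
  have hcov : Cov Q (⊥ : Submodule F V) := by
    intro x
    refine ⟨0, Submodule.zero_mem _, ?_⟩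
    rw [hperp]; exact Submodule.mem_top
  have hlag : ∃ M', IsLag Q (perp Q (⊥ : Submodule F V)) M' := by
    refine ⟨M, ?_, hMts, fun x _ hx => hMlag x hx⟩
    rw [hperp]; exact le_top
  have hU : perp Q (⊥ : Submodule F V) ≠ ⊥ := by rw [hperp]; exact hV
  have hmax : ∀ P : Sylow 2 ↥(isoG Q), IsMax2 (fixG Q (⊥ : Submodule F V)) (P : Subgroup _) := by
    intro P
    refine ⟨by rw [fixG_bot]; exact le_top, P.isPGroup', fun R hR hPR _ => ?_⟩
    exact (P.is_maximal' hR hPR).le
  exact main_aux hq Q hnd _ ⊥ rfl hcov hlag hU _ _ (hmax S) (hmax T)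

end Cfsg.Agent.Helper28.Sy2
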