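import Mathlib
import Cfsg.Prelude.Def_Classical
import Cfsg.Agent.Helper28.QPlus
import Cfsg.Agent.Helper28.Sy2E

set_option autoImplicit false
set_option linter.unusedSectionVars false
set_option linter.unusedVariables false

/-! Sylow 2-subgroups of `O⁺(2m,2)` intersect non-trivially: transfer from the abstract
statement to `Cfsg.isometryGroup F (Cfsg.quadFormPlus m F)`. -/

namespace Cfsg.Agent.Helper28.Sy2

open Module Matrix Cfsg.Agent.Helper28.QPlus

variable {F : Type*} [Field F] [Fintype F] {m : ℕ}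

/-- `quadFormPlus` as a quadratic form -/
def QfP (m : ℕ) (F : Type*) [Field F] : QuadraticForm F (Fin m ⊕ Fin m → F) where
  toFun := Cfsg.quadFormPlus m F
  toFun_smul a x := by rw [QPlus.Q_smul]; simp [pow_two]
  exists_companion' := ⟨pB m F, fun x y => QPlus.Q_add x y⟩

theorem QfP_apply (x : Fin m ⊕ Fin m → F) : QfP m F x = Cfsg.quadFormPlus m F x := rfl

theorem Bp_QfP (x y : Fin m ⊕ Fin m → F) : Bp (QfP m F) x y = pB m F x y := by
  rw [Bp, QuadraticMap.polar, QfP_apply, QfP_apply, QfP_apply, QPlus.Q_add]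
  ring

theorem QfP_nondeg : Nondeg (QfP m F) := by
  intro x hx
  by_contra hcon
  push_neg at hcon
  apply hx
  have := (pB_nondeg (m := m) (F := F)).1 x (fun y => by rw [← Bp_QfP]; exact hcon y)
  exact this

/-- linear automorphisms from invertible matrices -/
noncomputable def glE (ι : Type) [Fintype ι] [DecidableEq ι] (F : Type*) [Field F] :
    GL ι F ≃* ((ι → F) ≃ₗ[F] (ι → F)) :=
  Matrix.GeneralLinearGroup.toLin.trans (LinearMap.GeneralLinearGroup.generalLinearEquiv F (ι → F))

theorem glE_apply {ι : Type} [Fintype ι] [DecidableEq ι] (A : GL ι F) (x : ι → F) :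
    glE ι F A x = (A : Matrix ι ι F) *ᵥ x := rfl

theorem glE_mem_isoG (A : GL (Fin m ⊕ Fin m) F) :
    glE (Fin m ⊕ Fin m) F A ∈ isoG (QfP m F) ↔ A ∈ Cfsg.isometryGroup F (Cfsg.quadFormPlus m F) := by
  constructor
  · intro h u _
    exact h u
  · intro h u
    exact h u u

/-- the comparison homomorphism -/
noncomputable def phiHom (m : ℕ) (F : Type*) [Field F] [Fintype F] :
    ↥(isoG (QfP m F)) →* ↥(Cfsg.isometryGroup F (Cfsg.quadFormPlus m F)) :=
  MonoidHom.codRestrict
    (((glE (Fin m ⊕ Fin m) F).symm : _ →* GL (Fin m ⊕ Fin m) F).comp (isoG (QfP m F)).subtype)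
    (Cfsg.isometryGroup F (Cfsg.quadFormPlus m F))
    (by
      intro g
      rw [← glE_mem_isoG]
      simp)

theorem phiHom_injective : Function.Injective (phiHom m F) := by
  intro a b h
  have := congrArg Subtype.val h
  apply Subtype.ext
  exact (glE (Fin m ⊕ Fin m) F).symm.injective this

theorem phiHom_surjective : Function.Surjective (phiHom m F) := by
  intro A
  refine ⟨⟨glE (Fin m ⊕ Fin m) F A.1, (glE_mem_isoG A.1).2 A.2⟩, ?_⟩
  apply Subtype.ext
  exact (glE (Fin m ⊕ Fin m) F).symm_apply_apply A.1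

theorem sylow_inf_plus (hq : Fintype.card F = 2) (hm : 1 ≤ m)
    (S T : Sylow 2 ↥(Cfsg.isometryGroup F (Cfsg.quadFormPlus m F))) :
    (S : Subgroup ↥(Cfsg.isometryGroup F (Cfsg.quadFormPlus m F))) ⊓ T ≠ ⊥ := by
  have hrange : (phiHom m F).range = ⊤ := MonoidHom.range_eq_top.2 phiHom_surjective
  set S' := S.comapOfInjective (phiHom m F) phiHom_injective (by rw [hrange]; exact le_top) with hS'
  set T' := T.comapOfInjective (phiHom m F) phiHom_injective (by rw [hrange]; exact le_top) with hT'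
  have hV : (⊤ : Submodule F (Fin m ⊕ Fin m → F)) ≠ ⊥ := by
    intro h
    have h1 : (Pi.single (Sum.inl ⟨0, by omega⟩) 1 : Fin m ⊕ Fin m → F) ∈
        (⊤ : Submodule F (Fin m ⊕ Fin m → F)) := Submodule.mem_top
    rw [h, Submodule.mem_bot] at h1
    have := congrFun h1 (Sum.inl ⟨0, by omega⟩)
    simp at this
  have key := sylow_inf_ne_bot hq (QfP m F) QfP_nondeg hV (E m F)
    (fun x hx => Q_E x hx)
    (fun x hx => by
      apply orth_E_le
      rw [LinearMap.BilinForm.mem_orthogonal_iff]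
      intro y hy
      show pB m F y x = 0
      rw [pB_comm, ← Bp_QfP]
      exact hx y hy) S' T'
  intro hbot
  apply key
  rw [eq_bot_iff]
  intro g hg
  rw [Subgroup.mem_bot]
  have h1 : phiHom m F g ∈ (S : Subgroup _) ⊓ T := by
    obtain ⟨h1, h2⟩ := hg
    exact ⟨h1, h2⟩
  rw [hbot, Subgroup.mem_bot] at h1
  exact phiHom_injective (h1.trans (map_one _).symm)

end Cfsg.Agent.Helper28.Sy2
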