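import Mathlib
import Cfsg.Agent.Helper28.SympFrame

set_option autoImplicit false

namespace Cfsg.Agent.Helper28.SymEmb

open Matrix Module

abbrev K := ZMod 2

theorem add_self_K (x : K) : x + x = 0 := by
  revert x; decide

theorem mul_self_K (x : K) : x * x = x := by
  revert x; decide

variable (m : ℕ)

abbrev Om := Option (Option (Fin (2 * m)))
abbrev U := Fin (2 * m) → K
abbrev V := Om m → K

/-- extend a vector to an even-weight vector vanishing at `none` -/
def iota : U m →ₗ[K] V m where
  toFun u := fun o => match o with
    | some (some i) => u i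
    | some none => ∑ i, u i
    | none => 0
  map_add' u u' := by
    funext o
    rcases o with _ | _ | i <;> simp [Finset.sum_add_distrib]
  map_smul' c u := by
    funext o
    rcases o with _ | _ | i <;> simp [Finset.mul_sum]

@[simp] theorem iota_ss (u : U m) (i : Fin (2 * m)) : iota m u (some (some i)) = u i := rfl
@[simp] theorem iota_sn (u : U m) : iota m u (some none) = ∑ i, u i := rfl
@[simp] theorem iota_n (u : U m) : iota m u none = 0 := rfl

/-- project modulo the all-ones vector -/
def rho : V m →ₗ[K] U m where
  toFun v := fun i => v (some (some i)) + v none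
  map_add' v v' := by
    funext i
    simp only [Pi.add_apply]
    ring
  map_smul' c v := by
    funext i
    simp only [Pi.smul_apply, smul_eq_mul, RingHom.id_apply]
    ring

@[simp] theorem rho_apply (v : V m) (i : Fin (2 * m)) : rho m v i = v (some (some i)) + v none := rfl

/-- permutation action -/
def P (σ : Equiv.Perm (Om m)) : V m →ₗ[K] V m := LinearMap.funLeft K K σ.symm

@[simp] theorem P_apply (σ : Equiv.Perm (Om m)) (v : V m) (o : Om m) : P m σ v o = v (σ.symm o) := rfl

/-- even weight -/
def Ev (v : V m) : Prop := ∑ o, v o = 0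

theorem ev_iota (u : U m) : Ev m (iota m u) := by
  unfold Ev
  rw [Fintype.sum_option, Fintype.sum_option]
  simp only [iota_n, iota_sn, iota_ss, zero_add]
  exact add_self_K _

theorem ev_P (σ : Equiv.Perm (Om m)) (v : V m) (h : Ev m v) : Ev m (P m σ v) := by
  unfold Ev at *
  simp only [P_apply]
  rw [Equiv.sum_comp σ.symm v]
  exact h

theorem iota_rho (v : V m) (h : Ev m v) : iota m (rho m v) = v + fun _ => v none := by
  unfold Ev at h
  rw [Fintype.sum_option, Fintype.sum_option] at h
  funext o
  rcases o with _ | _ | i
  · simp [add_self_K]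
  · simp only [iota_sn, rho_apply, Pi.add_apply, Finset.sum_add_distrib, Finset.sum_const,
      Finset.card_univ, Fintype.card_fin, nsmul_eq_mul]
    have h2 : ((2 * m : ℕ) : K) = 0 := by
      rw [Nat.cast_mul]
      have : ((2 : ℕ) : K) = 0 := by decide
      rw [this, zero_mul]
    rw [h2, zero_mul, add_zero]
    -- ∑ v (ss i) = v sn + v n
    have h3 : ∑ i, v (some (some i)) = v (some none) + v none := by
      have e1 : v none + (v (some none) + ∑ i, v (some (some i))) + (v (some none) + v none)
          = v (some none) + v none := by rw [h, zero_add]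
      have e2 : v none + (v (some none) + ∑ i, v (some (some i))) + (v (some none) + v none)
          = ∑ i, v (some (some i)) + ((v none + v none) + (v (some none) + v (some none))) := by
        ring
      rw [e2, add_self_K, add_self_K, add_zero, add_zero] at e1
      exact e1
    exact h3
  · simp

theorem rho_add_const (v : V m) (c : K) : rho m (v + fun _ => c) = rho m v := by
  funext i
  simp only [rho_apply, Pi.add_apply]
  have := add_self_K c
  linear_combination this

theorem P_const (σ : Equiv.Perm (Om m)) (c : K) : P m σ (fun _ => c) = fun _ => c := by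
  funext o
  simp

theorem rho_iota (u : U m) : rho m (iota m u) = u := by
  funext i
  simp

/-- the action on the quotient model -/
def T (σ : Equiv.Perm (Om m)) : U m →ₗ[K] U m := rho m ∘ₗ P m σ ∘ₗ iota m

theorem T_apply (σ : Equiv.Perm (Om m)) (u : U m) : T m σ u = rho m (P m σ (iota m u)) := rfl

theorem P_mul (σ τ : Equiv.Perm (Om m)) (v : V m) : P m (σ * τ) v = P m σ (P m τ v) := by
  funext o
  simp [Equiv.Perm.mul_def]

theorem T_mul (σ τ : Equiv.Perm (Om m)) : T m (σ * τ) = T m σ ∘ₗ T m τ := by
  apply LinearMap.ext
  intro u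
  rw [LinearMap.comp_apply, T_apply, T_apply, T_apply,
    iota_rho m _ (ev_P m τ _ (ev_iota m u)), map_add, P_const, rho_add_const, P_mul]

theorem T_one : T m 1 = LinearMap.id := by
  apply LinearMap.ext
  intro u
  rw [T_apply]
  have : P m 1 (iota m u) = iota m u := by
    funext o
    rw [P_apply]
    rfl
  rw [this, rho_iota]
  rfl

/-- dot product on `V` as a bilinear form -/
def dotB : LinearMap.BilinForm K (V m) :=
  LinearMap.mk₂ K (fun v w => v ⬝ᵥ w) add_dotProduct smul_dotProduct dotProduct_add
    dotProduct_smul

theorem dotB_apply (v w : V m) : dotB m v w = v ⬝ᵥ w := rfl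

/-- the induced alternating form -/
def B' : LinearMap.BilinForm K (U m) := (dotB m).comp (iota m) (iota m)

theorem B'_apply (u u' : U m) : B' m u u' = iota m u ⬝ᵥ iota m u' := rfl

theorem B'_isAlt : (B' m).IsAlt := by
  intro u
  rw [B'_apply, dotProduct]
  simp only [mul_self_K]
  exact ev_iota m u

theorem dot_P (σ : Equiv.Perm (Om m)) (v w : V m) : P m σ v ⬝ᵥ P m σ w = v ⬝ᵥ w := by
  simp only [dotProduct, P_apply]
  exact Equiv.sum_comp σ.symm (fun o => v o * w o)

theorem card_Om_cast : ((Fintype.card (Om m) : ℕ) : K) = 0 := by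
  rw [Fintype.card_option, Fintype.card_option, Fintype.card_fin]
  have : 2 * m + 1 + 1 = 2 * (m + 1) := by ring
  rw [this, Nat.cast_mul]
  have : ((2 : ℕ) : K) = 0 := by decide
  rw [this, zero_mul]

theorem dot_add_const (v w : V m) (hv : Ev m v) (hw : Ev m w) (c c' : K) :
    (v + fun _ => c) ⬝ᵥ (w + fun _ => c') = v ⬝ᵥ w := by
  unfold Ev at hv hw
  simp only [dotProduct, Pi.add_apply]
  have : ∀ o, (v o + c) * (w o + c') = v o * w o + c' * v o + c * w o + c * c' := by
    intro o; ring
  simp only [this, Finset.sum_add_distrib, ← Finset.mul_sum, hv, hw, mul_zero, add_zero,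
    Finset.sum_const, Finset.card_univ, nsmul_eq_mul, card_Om_cast, zero_mul]

theorem B'_T (σ : Equiv.Perm (Om m)) (u u' : U m) : B' m (T m σ u) (T m σ u') = B' m u u' := by
  rw [B'_apply, B'_apply, T_apply, T_apply,
    iota_rho m _ (ev_P m σ _ (ev_iota m u)), iota_rho m _ (ev_P m σ _ (ev_iota m u')),
    dot_add_const m _ _ (ev_P m σ _ (ev_iota m u)) (ev_P m σ _ (ev_iota m u')), dot_P]

theorem B'_single (u : U m) (i : Fin (2 * m)) :
    B' m u (Pi.single i 1) = (∑ j, u j) + u i := by
  classical
  rw [B'_apply, dotProduct, Fintype.sum_option, Fintype.sum_option]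
  simp only [iota_n, iota_sn, iota_ss, mul_zero, zero_add]
  simp [Pi.single_apply]

theorem B'_nondeg (u : U m) (h : ∀ u', B' m u u' = 0) : u = 0 := by
  have h1 : ∀ i, u i = ∑ j, u j := by
    intro i
    have := h (Pi.single i 1)
    rw [B'_single] at this
    have h2 := add_self_K (u i)
    linear_combination h2 - this
  have h2 : ∑ j, u j = 0 := by
    have : ∑ j : Fin (2 * m), u j = ∑ _j : Fin (2 * m), ∑ j, u j :=
      Finset.sum_congr rfl (fun i _ => h1 i)
    rw [Finset.sum_const, Finset.card_univ, Fintype.card_fin, nsmul_eq_mul, Nat.cast_mul] at this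
    have h3 : ((2 : ℕ) : K) = 0 := by decide
    rw [h3, zero_mul, zero_mul] at this
    exact this
  funext i
  rw [h1 i, h2]
  rfl

/-- a hyperbolic frame of `U` -/
theorem exists_frame : ∃ e f : Fin m → U m, (∀ i i', B' m (e i) (e i') = 0) ∧
    (∀ i i', B' m (f i) (f i') = 0) ∧ (∀ i i', B' m (e i) (f i') = if i = i' then 1 else 0) := by
  obtain ⟨e, f, _, _, h1, h2, h3⟩ := SympFrame.exists_alt_frame (B' m) (B'_isAlt m) m ⊤ (by
    rw [finrank_top, Module.finrank_fin_fun]) (by
    intro u _ h
    exact B'_nondeg m u (fun u' => h u' Submodule.mem_top))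
  exact ⟨e, f, h1, h2, h3⟩

theorem neg_one_K : (-1 : K) = 1 := by decide

section frame

variable {m}
variable (e f : Fin m → U m) (hee : ∀ i i', B' m (e i) (e i') = 0)
  (hff : ∀ i i', B' m (f i) (f i') = 0)
  (hef : ∀ i i', B' m (e i) (f i') = if i = i' then 1 else 0)

include hee hff hef in
theorem gram (a a' : Fin m ⊕ Fin m) :
    B' m (Sum.elim e f a) (Sum.elim e f a') = J (Fin m) K a a' := by
  have hfe : ∀ i i', B' m (f i) (e i') = if i = i' then 1 else 0 := by
    intro i i'
    rw [← (B'_isAlt m).neg_eq, hef]
    by_cases h : i = i'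
    · subst h
      simp only [if_true]
      exact neg_one_K
    · have h' : ¬ i' = i := fun h' => h h'.symm
      simp [h, h']
  rcases a with i | i <;> rcases a' with i' | i'
  · simp [J, hee, Matrix.fromBlocks]
  · simp only [Sum.elim_inl, Sum.elim_inr, hef, J, Matrix.fromBlocks_apply₁₂, Matrix.neg_apply,
      Matrix.one_apply]
    split_ifs
    · exact neg_one_K.symm
    · simp
  · simp only [Sum.elim_inl, Sum.elim_inr, hfe, J, Matrix.fromBlocks_apply₂₁, Matrix.one_apply]
  · simp [J, hff, Matrix.fromBlocks]

include hee hff hef in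
theorem frame_li : LinearIndependent K (Sum.elim e f) := by
  rw [Fintype.linearIndependent_iff]
  intro g hg a
  -- pair with a suitable frame vector
  have key : ∀ a', ∑ a, g a * J (Fin m) K a a' = 0 := by
    intro a'
    have := congrArg (fun x => B' m x (Sum.elim e f a')) hg
    simp only [map_sum, map_smul, LinearMap.sum_apply, LinearMap.smul_apply, smul_eq_mul,
      map_zero, LinearMap.zero_apply] at this
    rw [← this]
    apply Finset.sum_congr rfl
    intro a _
    rw [gram e f hee hff hef]
  rcases a with i | i
  · have := key (Sum.inr i)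
    rw [Fintype.sum_sum_type] at this
    simp only [J, Matrix.fromBlocks_apply₁₂, Matrix.fromBlocks_apply₂₂, Matrix.neg_apply,
      Matrix.one_apply, Matrix.zero_apply, mul_zero, Finset.sum_const_zero, add_zero,
      mul_neg, mul_ite, mul_one, Finset.sum_neg_distrib, Finset.sum_ite_eq', Finset.mem_univ,
      if_true, neg_eq_zero] at this
    exact this
  · have := key (Sum.inl i)
    rw [Fintype.sum_sum_type] at this
    simp only [J, Matrix.fromBlocks_apply₁₁, Matrix.fromBlocks_apply₂₁,
      Matrix.one_apply, Matrix.zero_apply, mul_zero, Finset.sum_const_zero, zero_add,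
      mul_ite, mul_one, Finset.sum_ite_eq', Finset.mem_univ, if_true] at this
    exact this

variable [NeZero m]

instance : Nonempty (Fin m ⊕ Fin m) := ⟨Sum.inl 0⟩

/-- the frame as a basis -/
noncomputable def frameBasis : Basis (Fin m ⊕ Fin m) K (U m) :=
  basisOfLinearIndependentOfCardEqFinrank (frame_li e f hee hff hef) (by
    rw [Module.finrank_fin_fun, Fintype.card_sum, Fintype.card_fin]; ring)

theorem frameBasis_apply (a : Fin m ⊕ Fin m) :
    frameBasis e f hee hff hef a = Sum.elim e f a := by
  rw [frameBasis, coe_basisOfLinearIndependentOfCardEqFinrank]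

/-- the matrix of the action -/
noncomputable def Amat (σ : Equiv.Perm (Om m)) : Matrix (Fin m ⊕ Fin m) (Fin m ⊕ Fin m) K :=
  LinearMap.toMatrix (frameBasis e f hee hff hef) (frameBasis e f hee hff hef) (T m σ)

theorem Amat_mul (σ τ : Equiv.Perm (Om m)) :
    Amat e f hee hff hef (σ * τ) = Amat e f hee hff hef σ * Amat e f hee hff hef τ := by
  unfold Amat
  rw [T_mul, LinearMap.toMatrix_comp _ (frameBasis e f hee hff hef)]

theorem Amat_one : Amat e f hee hff hef 1 = 1 := by
  unfold Amat
  rw [T_one, LinearMap.toMatrix_id]

theorem Amat_mem (σ : Equiv.Perm (Om m)) :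
    Amat e f hee hff hef σ ∈ Matrix.symplecticGroup (Fin m) K := by
  rw [SymplecticGroup.mem_iff']
  have hΓ : LinearMap.BilinForm.toMatrix (frameBasis e f hee hff hef) (B' m) = J (Fin m) K := by
    ext a a'
    rw [LinearMap.BilinForm.toMatrix_apply, frameBasis_apply, frameBasis_apply,
      gram e f hee hff hef]
  have hcomp : (B' m).comp (T m σ) (T m σ) = B' m := by
    apply LinearMap.ext
    intro u
    apply LinearMap.ext
    intro u'
    exact B'_T m σ u u'
  have := LinearMap.BilinForm.toMatrix_comp (frameBasis e f hee hff hef)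
    (frameBasis e f hee hff hef) (B' m) (T m σ) (T m σ)
  rw [hcomp, hΓ] at this
  exact this.symm

/-- the embedding -/
noncomputable def emb : Equiv.Perm (Om m) →* Matrix.symplecticGroup (Fin m) K where
  toFun σ := ⟨Amat e f hee hff hef σ, Amat_mem e f hee hff hef σ⟩
  map_one' := Subtype.ext (Amat_one e f hee hff hef)
  map_mul' σ τ := Subtype.ext (Amat_mul e f hee hff hef σ τ)

theorem T_eq_id_of_emb (σ : Equiv.Perm (Om m)) (h : emb e f hee hff hef σ = 1) :
    T m σ = LinearMap.id := by
  have h1 : Amat e f hee hff hef σ = 1 := congrArg Subtype.val h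
  unfold Amat at h1
  rw [← LinearMap.toMatrix_id (frameBasis e f hee hff hef)] at h1
  exact (LinearMap.toMatrix (frameBasis e f hee hff hef)
    (frameBasis e f hee hff hef)).injective h1

end frame

theorem iota_single (i : Fin (2 * m)) (o : Om m) :
    iota m (Pi.single i 1) o = if (o = some (some i) ∨ o = some none) then 1 else 0 := by
  classical
  rcases o with _ | _ | j
  · simp
  · simp
  · simp [Pi.single_apply]

theorem K_cases (x : K) : x = 0 ∨ x = 1 := by
  revert x; decide

theorem eq_one_of_T (hm : 2 ≤ m) (σ : Equiv.Perm (Om m)) (h : T m σ = LinearMap.id) : σ = 1 := by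
  classical
  set τ : Equiv.Perm (Om m) := σ.symm with hτ
  have h1 : ∀ (i : Fin (2 * m)) (o : Om m), iota m (Pi.single i 1) (τ o) +
      iota m (Pi.single i 1) (τ none) = iota m (Pi.single i 1) o := by
    intro i o
    have h2 := congrArg (fun g => iota m (g (Pi.single i 1))) h
    simp only [LinearMap.id_apply] at h2
    rw [T_apply, iota_rho m _ (ev_P m σ _ (ev_iota m _))] at h2
    have h3 := congrFun h2 o
    simpa using h3
  -- membership in W_i
  have hW : ∀ (i : Fin (2 * m)) (o : Om m), iota m (Pi.single i 1) o = 1 ↔
      (o = some (some i) ∨ o = some none) := by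
    intro i o
    rw [iota_single]
    split_ifs with hh
    · simp [hh]
    · simp [hh]
  have hW0 : ∀ (i : Fin (2 * m)) (o : Om m), iota m (Pi.single i 1) o = 0 ↔
      ¬ (o = some (some i) ∨ o = some none) := by
    intro i o
    rw [iota_single]
    split_ifs with hh
    · simp [hh]
    · simp [hh]
  have hc : ∀ i : Fin (2 * m), iota m (Pi.single i 1) (τ none) = 0 := by
    intro i
    rcases K_cases (iota m (Pi.single i 1) (τ none)) with h0 | h0
    · exact h0
    exfalso
    -- two further indices
    have hcard : 1 < (Finset.univ.erase i).card := by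
      rw [Finset.card_erase_of_mem (Finset.mem_univ _), Finset.card_univ, Fintype.card_fin]
      omega
    obtain ⟨j, hj, j', hj', hjj'⟩ := Finset.one_lt_card.mp hcard
    rw [Finset.mem_erase] at hj hj'
    have key : ∀ o : Om m, ¬ (o = some (some i) ∨ o = some none) →
        (τ o = some (some i) ∨ τ o = some none) := by
      intro o ho
      have := h1 i o
      rw [h0, (hW0 i o).mpr ho] at this
      apply (hW i (τ o)).mp
      have h2 := add_self_K (1 : K)
      linear_combination this - h2
    have hA := (hW i (τ none)).mp h0
    have hB := key (some (some j)) (by simp [hj.1])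
    have hC := key (some (some j')) (by simp [hj'.1])
    have e1 : (none : Om m) ≠ some (some j) := by simp
    have e2 : (none : Om m) ≠ some (some j') := by simp
    have e3 : (some (some j) : Om m) ≠ some (some j') := by simp [hjj']
    rcases hA with hA | hA <;> rcases hB with hB | hB <;> rcases hC with hC | hC <;>
      first
      | exact e1 (τ.injective (hA.trans hB.symm))
      | exact e2 (τ.injective (hA.trans hC.symm))
      | exact e3 (τ.injective (hB.trans hC.symm))
  have h2 : ∀ (i : Fin (2 * m)) (o : Om m), (τ o = some (some i) ∨ τ o = some none) ↔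
      (o = some (some i) ∨ o = some none) := by
    intro i o
    rw [← hW, ← hW]
    have := h1 i o
    rw [hc i, add_zero] at this
    rw [this]
  -- two distinct indices
  have hcard : 1 < (Finset.univ : Finset (Fin (2 * m))).card := by
    rw [Finset.card_univ, Fintype.card_fin]
    omega
  obtain ⟨i, _, i', _, hii'⟩ := Finset.one_lt_card.mp hcard
  have hsn : τ (some none) = some none := by
    have a1 := (h2 i (some none)).mpr (Or.inr rfl)
    have a2 := (h2 i' (some none)).mpr (Or.inr rfl)
    rcases a1 with a1 | a1
    · rcases a2 with a2 | a2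
      · rw [a1] at a2
        simp at a2
        exact absurd a2 hii'
      · exact a2
    · exact a1
  have hss : ∀ j : Fin (2 * m), τ (some (some j)) = some (some j) := by
    intro j
    rcases (h2 j (some (some j))).mpr (Or.inl rfl) with a | a
    · exact a
    · rw [← hsn] at a
      have := τ.injective a
      simp at this
  have hn : τ none = none := by
    rcases hp : τ none with _ | p
    · rfl
    · exfalso
      have : τ (some p) = some p := by
        rcases p with _ | j
        · exact hsn
        · exact hss j
      rw [← this] at hp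
      have := τ.injective hp
      simp at this
  apply Equiv.ext
  intro o
  have : τ o = o := by
    rcases o with _ | _ | j
    · exact hn
    · exact hsn
    · exact hss j
  rw [hτ, Equiv.symm_apply_eq] at this
  exact this.symm

end Cfsg.Agent.Helper28.SymEmb
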