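import Mathlib
import Cfsg.Prelude.Def_GeometricClasses
import Cfsg.Agent.Helper28.SpDecompNM
import Cfsg.Agent.Helper28.LinDecompNM

set_option autoImplicit false

/-! Non-maximality of `GL_2(2) ⊗ GL_{n₂}(2)` in `SL_{2n₂}(2)`: it lies in the normaliser of the
cyclic group of order `3` generated by `A₀ ⊗ 1`. -/

namespace Cfsg.Agent.Helper28.TensNM

open Matrix Kronecker

variable {F : Type*} [Field F]

/-- the companion matrix of `x² + x + 1` -/
def A0 : Matrix (Fin 2) (Fin 2) F := !![0, -1; 1, -1]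
/-- its inverse -/
def A0i : Matrix (Fin 2) (Fin 2) F := !![-1, 1; -1, 0]
/-- a transvection -/
def A1 : Matrix (Fin 2) (Fin 2) F := !![1, 1; 0, 1]
/-- its inverse -/
def A1i : Matrix (Fin 2) (Fin 2) F := !![1, -1; 0, 1]

theorem A0_mul_A0i : (A0 : Matrix (Fin 2) (Fin 2) F) * A0i = 1 := by
  unfold A0 A0i
  ext i j
  fin_cases i <;> fin_cases j <;> simp [Matrix.mul_apply, Fin.sum_univ_two]

theorem A0i_mul_A0 : (A0i : Matrix (Fin 2) (Fin 2) F) * A0 = 1 := by
  unfold A0 A0i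
  ext i j
  fin_cases i <;> fin_cases j <;> simp [Matrix.mul_apply, Fin.sum_univ_two]

theorem A1_mul_A1i : (A1 : Matrix (Fin 2) (Fin 2) F) * A1i = 1 := by
  unfold A1 A1i
  ext i j
  fin_cases i <;> fin_cases j <;> simp [Matrix.mul_apply, Fin.sum_univ_two]

theorem A1i_mul_A1 : (A1i : Matrix (Fin 2) (Fin 2) F) * A1 = 1 := by
  unfold A1 A1i
  ext i j
  fin_cases i <;> fin_cases j <;> simp [Matrix.mul_apply, Fin.sum_univ_two]

theorem A0_poly : (A0 : Matrix (Fin 2) (Fin 2) F) * A0 + A0 + 1 = 0 := by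
  unfold A0
  ext i j
  fin_cases i <;> fin_cases j <;> simp [Matrix.mul_apply, Fin.sum_univ_two]

/-- `A₀` as an invertible matrix -/
def A0' : GL (Fin 2) F := ⟨A0, A0i, A0_mul_A0i, A0i_mul_A0⟩
/-- `A₁` as an invertible matrix -/
def A1' : GL (Fin 2) F := ⟨A1, A1i, A1_mul_A1i, A1i_mul_A1⟩

theorem A0'_val : ((A0' : GL (Fin 2) F) : Matrix (Fin 2) (Fin 2) F) = A0 := rfl
theorem A0'_inv_val : (((A0' : GL (Fin 2) F)⁻¹ : GL (Fin 2) F) : Matrix (Fin 2) (Fin 2) F) = A0i := rfl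
theorem A1'_val : ((A1' : GL (Fin 2) F) : Matrix (Fin 2) (Fin 2) F) = A1 := rfl

theorem A0'_ne_inv : (A0' : GL (Fin 2) F) ≠ A0'⁻¹ := by
  intro h
  have h1 := congrArg (fun g : GL (Fin 2) F => (g : Matrix (Fin 2) (Fin 2) F) 0 0) h
  simp only [A0'_val, A0'_inv_val] at h1
  unfold A0 A0i at h1
  simp at h1

theorem A1'_A0'_ne : (A1' : GL (Fin 2) F) * A0' ≠ A0' * A1' := by
  intro h
  have h1 := congrArg (fun g : GL (Fin 2) F => (g : Matrix (Fin 2) (Fin 2) F) 0 0) h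
  simp only [Units.val_mul, A0'_val, A1'_val] at h1
  unfold A0 A1 at h1
  simp [Matrix.mul_apply, Fin.sum_univ_two] at h1

/-- over the field with two elements, the roots of `x² + x + 1` in the `2 × 2` matrices are `A₀` and
its inverse -/
theorem poly_root [Fintype F] (hq : Fintype.card F = 2) (c : Matrix (Fin 2) (Fin 2) F)
    (h : c * c + c + 1 = 0) : c = A0 ∨ c = A0i := by
  have h11 := Cfsg.Agent.Helper28.SpMax.one_add_one_of_card hq
  have hneg : (-1 : F) = 1 := by linear_combination -h11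
  have h00 := congrFun (congrFun h 0) 0
  have h01 := congrFun (congrFun h 0) 1
  simp only [Matrix.add_apply, Matrix.mul_apply, Fin.sum_univ_two, Matrix.one_apply_eq,
    Matrix.zero_apply] at h00
  simp only [Matrix.add_apply, Matrix.mul_apply, Fin.sum_univ_two, Matrix.zero_apply] at h01
  rw [Matrix.one_apply_ne (by decide : (0 : Fin 2) ≠ 1), add_zero] at h01
  have hsq : ∀ x : F, x * x = x := by
    intro x
    rcases Cfsg.Agent.Helper28.SpMax.eq_zero_or_one_of_card hq x with hx | hx <;> rw [hx] <;> ring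
  have hbc : c 0 1 * c 1 0 = 1 := by
    have := hsq (c 0 0)
    linear_combination h00 - this - (c 0 0 + 1) * h11
  have hb : c 0 1 = 1 := by
    rcases Cfsg.Agent.Helper28.SpMax.eq_zero_or_one_of_card hq (c 0 1) with hx | hx
    · rw [hx, zero_mul] at hbc
      exact absurd hbc zero_ne_one
    · exact hx
  have hc : c 1 0 = 1 := by
    rw [hb, one_mul] at hbc
    exact hbc
  have hd : c 1 1 = c 0 0 + 1 := by
    rw [hb] at h01
    linear_combination h01 - (c 0 0 + 1) * h11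
  rw [Matrix.eta_fin_two c, hb, hc, hd]
  rcases Cfsg.Agent.Helper28.SpMax.eq_zero_or_one_of_card hq (c 0 0) with ha | ha
  · left
    rw [ha, zero_add]
    unfold A0
    rw [hneg]
  · right
    rw [ha, h11]
    unfold A0i
    rw [hneg]

section bd

variable (n₂ : ℕ)

/-- the block diagonal embedding -/
noncomputable def BD : (Fin n₂ → GL (Fin 2) F) →* GL (Fin 2 × Fin n₂) F :=
  (Units.map (Matrix.blockDiagonalRingHom (Fin 2) (Fin n₂) F).toMonoidHom).comp
    (MulEquiv.piUnits (M := fun _ : Fin n₂ => Matrix (Fin 2) (Fin 2) F)).symm.toMonoidHom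

theorem BD_val (f : Fin n₂ → GL (Fin 2) F) :
    ((BD n₂ f : GL (Fin 2 × Fin n₂) F) : Matrix (Fin 2 × Fin n₂) (Fin 2 × Fin n₂) F) =
      blockDiagonal (fun k => ((f k : GL (Fin 2) F) : Matrix (Fin 2) (Fin 2) F)) := rfl

theorem BD_injective : Function.Injective (BD (F := F) n₂) := by
  intro f f' h
  have h1 := congrArg (fun g : GL (Fin 2 × Fin n₂) F =>
    (g : Matrix (Fin 2 × Fin n₂) (Fin 2 × Fin n₂) F)) h
  simp only [BD_val] at h1
  have h2 := blockDiagonal_injective h1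
  funext k
  exact Units.ext (congrFun h2 k)

/-- the element `A₀ ⊗ 1` of order three -/
noncomputable def J : GL (Fin 2 × Fin n₂) F := BD n₂ (fun _ => A0')

theorem J_inv : (J n₂ : GL (Fin 2 × Fin n₂) F)⁻¹ = BD n₂ (fun _ => A0'⁻¹) := by
  unfold J
  rw [← map_inv]
  rfl

/-- the normaliser of `{J, J⁻¹}` -/
noncomputable def Kp : Subgroup (GL (Fin 2 × Fin n₂) F) where
  carrier := {g | g * J n₂ * g⁻¹ = J n₂ ∨ g * J n₂ * g⁻¹ = (J n₂)⁻¹}
  mul_mem' := by
    rintro g h hg hh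
    have e : (g * h) * J n₂ * (g * h)⁻¹ = g * (h * J n₂ * h⁻¹) * g⁻¹ := by group
    show _ ∨ _
    rw [e]
    rcases hh with hh | hh
    · rw [hh]; exact hg
    · rw [hh]
      have e2 : g * (J n₂)⁻¹ * g⁻¹ = (g * J n₂ * g⁻¹)⁻¹ := by group
      rw [e2]
      rcases hg with hg | hg
      · right; rw [hg]
      · left; rw [hg, inv_inv]
  one_mem' := by
    left
    group
  inv_mem' := by
    rintro g hg
    rcases hg with hg | hg
    · left
      calc g⁻¹ * J n₂ * g⁻¹⁻¹ = g⁻¹ * (g * J n₂ * g⁻¹) * g := by rw [hg, inv_inv]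
        _ = J n₂ := by group
    · right
      have h2 : (g * J n₂ * g⁻¹)⁻¹ = J n₂ := by rw [hg, inv_inv]
      calc g⁻¹ * J n₂ * g⁻¹⁻¹ = g⁻¹ * (g * J n₂ * g⁻¹)⁻¹ * g := by rw [h2, inv_inv]
        _ = (J n₂)⁻¹ := by group

theorem mem_Kp (g : GL (Fin 2 × Fin n₂) F) :
    g ∈ Kp n₂ ↔ g * J n₂ * g⁻¹ = J n₂ ∨ g * J n₂ * g⁻¹ = (J n₂)⁻¹ := Iff.rfl

theorem kron_le_Kp [Fintype F] (hq : Fintype.card F = 2) :
    Cfsg.Geo.kroneckerSubgroup 2 n₂ F ≤ Kp n₂ := by
  rintro g ⟨a, b, hg⟩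
  obtain ⟨c, hc⟩ : ∃ c : GL (Fin 2) F, c = a * A0' * a⁻¹ := ⟨_, rfl⟩
  have hca : c * a = a * A0' := by rw [hc]; group
  have hcpoly : (c : Matrix (Fin 2) (Fin 2) F) * (c : Matrix (Fin 2) (Fin 2) F) +
      (c : Matrix (Fin 2) (Fin 2) F) + 1 = 0 := by
    obtain ⟨am, ham⟩ : ∃ am : Matrix (Fin 2) (Fin 2) F, am = (a : Matrix (Fin 2) (Fin 2) F) := ⟨_, rfl⟩
    obtain ⟨ai, hai⟩ : ∃ ai : Matrix (Fin 2) (Fin 2) F,
      ai = ((a⁻¹ : GL (Fin 2) F) : Matrix (Fin 2) (Fin 2) F) := ⟨_, rfl⟩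
    have h1 : ai * am = 1 := by
      rw [hai, ham, ← Units.val_mul, inv_mul_cancel, Units.val_one]
    have h2 : am * ai = 1 := by
      rw [hai, ham, ← Units.val_mul, mul_inv_cancel, Units.val_one]
    have hcm : (c : Matrix (Fin 2) (Fin 2) F) = am * A0 * ai := by
      rw [hc, Units.val_mul, Units.val_mul, A0'_val, ham, hai]
    have e1 : (am * A0 * ai) * (am * A0 * ai) + am * A0 * ai + 1 = am * (A0 * A0 + A0 + 1) * ai := by
      rw [mul_add, mul_add, add_mul, add_mul, mul_one, h2]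
      congr 2
      calc (am * A0 * ai) * (am * A0 * ai) = am * A0 * (ai * am) * A0 * ai := by
            simp only [mul_assoc]
        _ = am * (A0 * A0) * ai := by
            rw [h1, mul_one]
            simp only [mul_assoc]
    rw [hcm, e1, A0_poly, mul_zero, zero_mul]
  have hconj : g * J n₂ * g⁻¹ = BD n₂ (fun _ => c) := by
    rw [mul_inv_eq_iff_eq_mul]
    apply Units.ext
    rw [Units.val_mul, Units.val_mul, hg, J, BD_val, BD_val, ← kronecker_one, ← kronecker_one,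
      ← mul_kronecker_mul, ← mul_kronecker_mul, mul_one, one_mul, ← Units.val_mul, ← Units.val_mul,
      hca]
  rw [mem_Kp, hconj]
  rcases poly_root hq _ hcpoly with h | h
  · left
    have : c = A0' := Units.ext h
    rw [this]
    rfl
  · right
    have : c = A0'⁻¹ := Units.ext h
    rw [this, J_inv]

/-- the function with value `x` at block `0` and `1` elsewhere -/
def f0 (x : GL (Fin 2) F) : Fin n₂ → GL (Fin 2) F := fun k => if k.val = 0 then x else 1

theorem g0_mem_Kp : BD n₂ (f0 n₂ (A0' : GL (Fin 2) F)) ∈ Kp n₂ := by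
  rw [mem_Kp]
  left
  unfold J
  rw [← map_inv, ← map_mul, ← map_mul]
  congr 1
  funext k
  simp only [Pi.mul_apply, Pi.inv_apply, f0]
  split_ifs <;> group

theorem g0_not_kron (h2 : 2 ≤ n₂) :
    BD n₂ (f0 n₂ (A0' : GL (Fin 2) F)) ∉ Cfsg.Geo.kroneckerSubgroup 2 n₂ F := by
  rintro ⟨a, b, hg⟩
  rw [BD_val] at hg
  have e : ∀ (i i' : Fin 2) (k k' : Fin n₂),
      (if k = k' then ((f0 n₂ (A0' : GL (Fin 2) F) k : GL (Fin 2) F) : Matrix (Fin 2) (Fin 2) F) i i'
        else 0) = (a : Matrix (Fin 2) (Fin 2) F) i i' * (b : Matrix (Fin n₂) (Fin n₂) F) k k' := by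
    intro i i' k k'
    have := congrFun (congrFun hg (i, k)) (i', k')
    rw [blockDiagonal_apply, kroneckerMap_apply] at this
    exact this
  obtain ⟨k0, hk0⟩ : ∃ k0 : Fin n₂, k0.val = 0 := ⟨⟨0, by omega⟩, rfl⟩
  obtain ⟨k1, hk1⟩ : ∃ k1 : Fin n₂, k1.val = 1 := ⟨⟨1, by omega⟩, rfl⟩
  have e1 := e 0 0 k1 k1
  have e2 := e 0 1 k1 k1
  have e3 := e 0 1 k0 k0
  rw [if_pos rfl] at e1 e2 e3
  unfold f0 at e1 e2 e3
  rw [if_neg (by omega)] at e1 e2
  rw [if_pos hk0, A0'_val] at e3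
  rw [Units.val_one, Matrix.one_apply_eq] at e1
  rw [Units.val_one, Matrix.one_apply_ne (by decide)] at e2
  have hb : (b : Matrix (Fin n₂) (Fin n₂) F) k1 k1 ≠ 0 := by
    intro h
    rw [h, mul_zero] at e1
    exact one_ne_zero e1
  have ha : (a : Matrix (Fin 2) (Fin 2) F) 0 1 = 0 := by
    rcases mul_eq_zero.mp e2.symm with h | h
    · exact h
    · exact absurd h hb
  rw [ha, zero_mul] at e3
  unfold A0 at e3
  simp at e3

theorem g1_not_mem_Kp (h2 : 2 ≤ n₂) : BD n₂ (f0 n₂ (A1' : GL (Fin 2) F)) ∉ Kp n₂ := by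
  obtain ⟨k0, hk0⟩ : ∃ k0 : Fin n₂, k0.val = 0 := ⟨⟨0, by omega⟩, rfl⟩
  obtain ⟨k1, hk1⟩ : ∃ k1 : Fin n₂, k1.val = 1 := ⟨⟨1, by omega⟩, rfl⟩
  rw [mem_Kp, J_inv]
  unfold J
  rw [← map_inv, ← map_mul, ← map_mul]
  rintro (h | h)
  · have h1 := congrFun (BD_injective n₂ h) k0
    simp only [Pi.mul_apply, Pi.inv_apply, f0] at h1
    rw [if_pos hk0] at h1
    exact A1'_A0'_ne (mul_inv_eq_iff_eq_mul.mp h1)
  · have h1 := congrFun (BD_injective n₂ h) k1
    simp only [Pi.mul_apply, Pi.inv_apply, f0] at h1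
    rw [if_neg (by omega)] at h1
    rw [one_mul, inv_one, mul_one] at h1
    exact A0'_ne_inv h1

theorem kron_not_maximal [Fintype F] (hq : Fintype.card F = 2) (h2 : 2 ≤ n₂) :
    Cfsg.Geo.kroneckerSubgroup 2 n₂ F < Kp n₂ ∧ Kp (F := F) n₂ < ⊤ := by
  constructor
  · refine lt_of_le_of_ne (kron_le_Kp n₂ hq) ?_
    intro h
    have := g0_mem_Kp (F := F) n₂
    rw [← h] at this
    exact g0_not_kron n₂ h2 this
  · refine lt_of_le_of_ne le_top ?_
    intro h
    have : BD n₂ (f0 n₂ (A1' : GL (Fin 2) F)) ∈ Kp n₂ := by rw [h]; exact Subgroup.mem_top _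
    exact g1_not_mem_Kp n₂ h2 this

end bd

theorem SL_eq_top [Fintype F] (hq : Fintype.card F = 2) {ι : Type} [Fintype ι] [DecidableEq ι] :
    Cfsg.Geo.specialLinear ι F = ⊤ := by
  rw [eq_top_iff]
  intro g _
  rw [Cfsg.Agent.Helper28.LinNM.mem_SL_iff]
  rcases Cfsg.Agent.Helper28.SpMax.eq_zero_or_one_of_card hq (g : Matrix ι ι F).det with h | h
  · exfalso
    have := (Matrix.GeneralLinearGroup.det g).ne_zero
    exact this h
  · exact h

theorem tensor_not_maximal [Fintype F] (hq : Fintype.card F = 2) {ι : Type} [Fintype ι]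
    [DecidableEq ι] (n₂ : ℕ) (h2 : 2 ≤ n₂) (e : ι ≃ Fin 2 × Fin n₂) (P : GL ι F) :
    ∃ K : Subgroup (GL ι F), Cfsg.Geo.tensorProductSubgroup 2 n₂ e P ⊓ Cfsg.Geo.specialLinear ι F < K ∧
      K < Cfsg.Geo.specialLinear ι F := by
  rw [SL_eq_top hq, inf_top_eq]
  obtain ⟨h1, h3⟩ := kron_not_maximal (F := F) n₂ hq h2
  refine ⟨((Kp (F := F) n₂).map (Cfsg.Geo.glReindex e.symm).toMonoidHom).map (MulAut.conj P).toMonoidHom, ?_, ?_⟩
  · unfold Cfsg.Geo.tensorProductSubgroup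
    rw [Subgroup.map_lt_map_iff_of_injective (MulEquiv.injective _),
      Subgroup.map_lt_map_iff_of_injective (MulEquiv.injective _)]
    exact h1
  · have : (⊤ : Subgroup (GL ι F)) = ((⊤ : Subgroup (GL (Fin 2 × Fin n₂) F)).map
        (Cfsg.Geo.glReindex e.symm).toMonoidHom).map (MulAut.conj P).toMonoidHom := by
      rw [Subgroup.map_top_of_surjective _ (MulEquiv.surjective _),
        Subgroup.map_top_of_surjective _ (MulEquiv.surjective _)]
    rw [this, Subgroup.map_lt_map_iff_of_injective (MulEquiv.injective _),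
      Subgroup.map_lt_map_iff_of_injective (MulEquiv.injective _)]
    exact h3

end Cfsg.Agent.Helper28.TensNM
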