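import Mathlib
import Cfsg.Prelude.Def_GeometricClasses
import Cfsg.Agent.Helper28.TensDecomp
import Cfsg.Agent.Helper28.OrthFrameNM

set_option autoImplicit false

/-! Non-maximality in `Ω(Q)`, `q = 3`, of the stabiliser of a tensor decomposition `O_3(3) ⊗ O_{n₂}(3)`:
it stabilises the decomposition of the space into the three blocks `b_i ⊗ F^{n₂}` for an orthogonal frame
`b` of the first factor. -/

namespace Cfsg.Agent.Helper28.TON

open Matrix Kronecker Module Cfsg.Agent.Helper28.TD Cfsg.Agent.Helper28.Sg Cfsg.Agent.Helper28.OFN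
  Cfsg.Agent.Helper28.Spin

section bil

variable {F : Type*} [Field F] {κ : Type} [Fintype κ] [DecidableEq κ]
  {f : (κ → F) → (κ → F) → F}

theorem bil_neg_left (hf : Cfsg.Geo.IsBilinearForm f) (x y : κ → F) : f (-x) y = - f x y := by
  have := hf.smul_left (-1) x y
  rwa [neg_one_smul, neg_one_mul] at this

theorem bil_neg_right (hf : Cfsg.Geo.IsBilinearForm f) (x y : κ → F) : f x (-y) = - f x y := by
  have := hf.smul_right (-1) x y
  rwa [neg_one_smul, neg_one_mul] at this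

theorem bil_zero_left (hf : Cfsg.Geo.IsBilinearForm f) (y : κ → F) : f 0 y = 0 := by
  have := hf.smul_left 0 0 y
  rwa [zero_smul, zero_mul] at this

theorem bil_zero_right (hf : Cfsg.Geo.IsBilinearForm f) (x : κ → F) : f x 0 = 0 := by
  have := hf.smul_right 0 x 0
  rwa [zero_smul, zero_mul] at this

/-- the bilinear form `-f` -/
noncomputable def bl (hf : Cfsg.Geo.IsBilinearForm f) : LinearMap.BilinForm F (κ → F) :=
  LinearMap.mk₂ F (fun u v => - f u v)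
    (fun x y v => by rw [hf.add_left]; ring)
    (fun c x v => by rw [hf.smul_left, smul_eq_mul]; ring)
    (fun v x y => by rw [hf.add_right]; ring)
    (fun c v x => by rw [hf.smul_right, smul_eq_mul]; ring)

/-- the quadratic form `v ↦ -f v v`; over `F_3` its polar form is `f` -/
noncomputable def qf (hf : Cfsg.Geo.IsBilinearForm f) : QuadraticForm F (κ → F) :=
  (bl hf).toQuadraticMap

theorem qf_apply (hf : Cfsg.Geo.IsBilinearForm f) (v : κ → F) : qf hf v = - f v v := by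
  simp [qf, bl]

theorem B_qf [Fintype F] (hq : Fintype.card F = 3) (hf : Cfsg.Geo.IsBilinearForm f)
    (hs : ∀ u v, f u v = f v u) (u v : κ → F) : B (qf hf) u v = f u v := by
  show QuadraticMap.polar (qf hf) u v = _
  rw [qf, LinearMap.BilinMap.polar_toQuadraticMap]
  simp only [bl, LinearMap.mk₂_apply]
  rw [hs v u]
  linear_combination (- f u v) * three_eq_zero hq

end bil

section frames

variable {F : Type*} [Field F] [Fintype F]

theorem nondegOn_top (hq : Fintype.card F = 3) {κ : Type} [Fintype κ] [DecidableEq κ]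
    {f : (κ → F) → (κ → F) → F} (hf : Cfsg.Geo.IsSymmetricForm f) :
    Cfsg.Geo.IsNondegenerateOn (QuadraticMap.polar ⇑(qf hf.bilinear)) ⊤ := by
  intro w _ hw
  obtain ⟨⟨x, hx⟩, ⟨x', hx'⟩⟩ := hf.nondegenerate w hw
  refine ⟨⟨x, Submodule.mem_top, ?_⟩, ⟨x', Submodule.mem_top, ?_⟩⟩
  · show B (qf hf.bilinear) x w ≠ 0
    rw [B_qf hq hf.bilinear hf.symm]; exact hx
  · show B (qf hf.bilinear) w x' ≠ 0
    rw [B_qf hq hf.bilinear hf.symm]; exact hx'

/-- an orthogonal frame of constant norm for a symmetric form on `F_3^3`, with the classification of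
the vectors of that norm -/
theorem exists_frame3 (hq : Fintype.card F = 3) {f : (Fin 3 → F) → (Fin 3 → F) → F}
    (hf : Cfsg.Geo.IsSymmetricForm f) :
    ∃ (ε : F) (b : Fin 3 → (Fin 3 → F)), ε ≠ 0 ∧ (∀ j, f (b j) (b j) = ε) ∧
      (∀ j j', j ≠ j' → f (b j) (b j') = 0) ∧ (∀ v, ∃ c : Fin 3 → F, v = ∑ j, c j • b j) ∧
      (∀ v, f v v = ε → ∃ j, v = b j ∨ v = - b j) := by
  have hfr : finrank F (⊤ : Submodule F (Fin 3 → F)) = 3 := by
    rw [finrank_top, Module.finrank_fin_fun]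
  obtain ⟨ε', b, hε', hb⟩ := exists_frame_three (qf hf.bilinear) hq ⊤ (nondegOn_top hq hf) hfr
  have hb' := hb
  obtain ⟨-, h2, h3, h4⟩ := hb
  refine ⟨-ε', b, neg_ne_zero.mpr hε', ?_, ?_, ?_, ?_⟩
  · intro j
    have := h2 j
    rw [qf_apply] at this
    rw [← this, neg_neg]
  · intro j j' hjj'
    have := h3 j j' hjj'
    rwa [B_qf hq hf.bilinear hf.symm] at this
  · intro v
    exact h4 v Submodule.mem_top
  · intro v hv
    refine frame_cls (qf hf.bilinear) hq ⊤ le_rfl hε' hb' v Submodule.mem_top ?_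
    rw [qf_apply, hv, neg_neg]

/-- three pairwise orthogonal vectors, two of them of the same non-zero norm -/
theorem exists_three_orth (hq : Fintype.card F = 3) {n : ℕ} (hn : 3 ≤ n)
    {f : (Fin n → F) → (Fin n → F) → F} (hf : Cfsg.Geo.IsSymmetricForm f) :
    ∃ y y' y'' : Fin n → F, f y y = f y' y' ∧ f y y ≠ 0 ∧ f y y' = 0 ∧ f y y'' = 0 ∧ f y' y'' = 0 ∧
      y'' ≠ 0 := by
  have hfr : finrank F (⊤ : Submodule F (Fin n → F)) = n := by
    rw [finrank_top, Module.finrank_fin_fun]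
  obtain ⟨v, -, hne, horth, -⟩ :=
    exists_orth_basis' (qf hf.bilinear) (two_ne_zero3 hq) ⊤ (nondegOn_top hq hf) n hfr
  have hne' : ∀ j, f (v j) (v j) ≠ 0 := by
    intro j h
    apply hne j
    rw [qf_apply, h, neg_zero]
  have horth' : ∀ j j', j ≠ j' → f (v j) (v j') = 0 := by
    intro j j' hjj'
    have := horth j j' hjj'
    rwa [B_qf hq hf.bilinear hf.symm] at this
  have hnz : ∀ j, v j ≠ 0 := by
    intro j h
    apply hne' j
    rw [h]; exact bil_zero_left hf.bilinear _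
  set i0 : Fin n := ⟨0, by omega⟩ with hi0
  set i1 : Fin n := ⟨1, by omega⟩ with hi1
  set i2 : Fin n := ⟨2, by omega⟩ with hi2
  have h01 : i0 ≠ i1 := by
    intro h; rw [hi0, hi1, Fin.mk.injEq] at h; omega
  have h02 : i0 ≠ i2 := by
    intro h; rw [hi0, hi2, Fin.mk.injEq] at h; omega
  have h12 : i1 ≠ i2 := by
    intro h; rw [hi1, hi2, Fin.mk.injEq] at h; omega
  by_cases e01 : f (v i0) (v i0) = f (v i1) (v i1)
  · exact ⟨v i0, v i1, v i2, e01, hne' i0, horth' _ _ h01, horth' _ _ h02, horth' _ _ h12, hnz i2⟩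
  · by_cases e12 : f (v i1) (v i1) = f (v i2) (v i2)
    · exact ⟨v i1, v i2, v i0, e12, hne' i1, horth' _ _ h12, horth' _ _ h01.symm,
        horth' _ _ h02.symm, hnz i0⟩
    · have h1 := neg_of_ne3 hq (hne' i0) (hne' i1) e01
      have h2 := neg_of_ne3 hq (hne' i1) (hne' i2) e12
      refine ⟨v i0, v i2, v i1, ?_, hne' i0, horth' _ _ h02, horth' _ _ h01, horth' _ _ h12.symm,
        hnz i1⟩
      rw [h2, h1, neg_neg]

end frames

section simil

variable {F : Type*} [Field F] [Fintype F]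

/-- a symmetric form on `F_3^3` with an orthogonal frame of constant norm has no anti-isometry -/
theorem no_anti_isometry (hq : Fintype.card F = 3) {f : (Fin 3 → F) → (Fin 3 → F) → F}
    (hf : Cfsg.Geo.IsBilinearForm f) {ε : F} (hε : ε ≠ 0) (b : Fin 3 → (Fin 3 → F))
    (hn : ∀ j, f (b j) (b j) = ε) (ho : ∀ j j', j ≠ j' → f (b j) (b j') = 0)
    (hsp : ∀ v : Fin 3 → F, ∃ c : Fin 3 → F, v = ∑ j, c j • b j)
    (a : Matrix (Fin 3) (Fin 3) F) (ha : ∀ u u', f (a *ᵥ u) (a *ᵥ u') = - f u u') : False := by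
  choose M hM using fun i => hsp (a *ᵥ b i)
  have key : (Matrix.of M) * (Matrix.of M)ᵀ = (-1 : Matrix (Fin 3) (Fin 3) F) := by
    ext i j
    rw [Matrix.mul_apply]
    simp only [Matrix.transpose_apply, Matrix.of_apply, Matrix.neg_apply, Matrix.one_apply]
    have h1 := ha (b i) (b j)
    rw [hM i, hM j, bilin_sum_left hf] at h1
    have h2 : ∀ k, M i k * f (b k) (∑ l, M j l • b l) = M i k * M j k * ε := by
      intro k
      rw [bilin_sum_right hf, Finset.sum_eq_single k]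
      · rw [hn k]; ring
      · intro l _ hlk
        rw [ho k l (Ne.symm hlk), mul_zero]
      · intro h; exact absurd (Finset.mem_univ k) h
    rw [Finset.sum_congr rfl (fun k _ => h2 k), ← Finset.sum_mul] at h1
    by_cases hij : i = j
    · subst hij
      rw [hn i] at h1
      rw [if_pos rfl]
      have : ((∑ k, M i k * M i k) + 1) * ε = 0 := by linear_combination h1
      rcases mul_eq_zero.mp this with h | h
      · linear_combination h
      · exact absurd h hε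
    · rw [ho i j hij, neg_zero] at h1
      rw [if_neg hij, neg_zero]
      rcases mul_eq_zero.mp h1 with h | h
      · exact h
      · exact absurd h hε
  have hdet := congrArg Matrix.det key
  rw [Matrix.det_mul, Matrix.det_transpose, Matrix.det_neg, Matrix.det_one, Fintype.card_fin] at hdet
  have h2 := two_ne_zero3 hq
  by_cases hd : (Matrix.of M).det = 0
  · rw [hd] at hdet
    norm_num at hdet
  · rw [mul_self_eq_one3 hq hd] at hdet
    apply h2
    linear_combination hdet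

/-- if `a ⊗ b` preserves `f₁ ⊗ f₂` then `a` is a similarity of `f₁` -/
theorem factor_similarity {n₁ n₂ : ℕ} {f₁ : (Fin n₁ → F) → (Fin n₁ → F) → F}
    {f₂ : (Fin n₂ → F) → (Fin n₂ → F) → F} (hf₁ : Cfsg.Geo.IsSymmetricForm f₁)
    (hf₂ : Cfsg.Geo.IsSymmetricForm f₂) (hn₁ : 0 < n₁) (hn₂ : 0 < n₂)
    (a : Matrix (Fin n₁) (Fin n₁) F) (b : Matrix (Fin n₂) (Fin n₂) F)
    (h : ∀ u u' w w', f₁ (a *ᵥ u) (a *ᵥ u') * f₂ (b *ᵥ w) (b *ᵥ w') = f₁ u u' * f₂ w w') :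
    ∃ κ : F, κ ≠ 0 ∧ ∀ u u', f₁ (a *ᵥ u) (a *ᵥ u') = κ * f₁ u u' := by
  obtain ⟨w₀, hw₀⟩ : ∃ w₀ : Fin n₂ → F, w₀ = Pi.single (⟨0, hn₂⟩ : Fin n₂) (1 : F) := ⟨_, rfl⟩
  obtain ⟨u₀, hu₀⟩ : ∃ u₀ : Fin n₁ → F, u₀ = Pi.single (⟨0, hn₁⟩ : Fin n₁) (1 : F) := ⟨_, rfl⟩
  have hw : w₀ ≠ 0 := by
    intro h0
    have := congrFun h0 ⟨0, hn₂⟩
    rw [hw₀] at this
    simp at this
  have hu : u₀ ≠ 0 := by
    intro h0
    have := congrFun h0 ⟨0, hn₁⟩
    rw [hu₀] at this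
    simp at this
  obtain ⟨-, w', hw'⟩ := hf₂.nondegenerate _ hw
  obtain ⟨-, u', hu'⟩ := hf₁.nondegenerate _ hu
  have h0 := h u₀ u' w₀ w'
  have hne : f₂ (b *ᵥ w₀) (b *ᵥ w') ≠ 0 := by
    intro hz
    rw [hz, mul_zero] at h0
    exact mul_ne_zero hu' hw' h0.symm
  refine ⟨f₂ w₀ w' / f₂ (b *ᵥ w₀) (b *ᵥ w'), div_ne_zero hw' hne, fun u u'' => ?_⟩
  have := h u u'' w₀ w'
  field_simp
  linear_combination this

end simil

section Tmap

variable {F : Type*} [Field F] {ι : Type} [Fintype ι] [DecidableEq ι] {n₁ n₂ : ℕ}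
  (e : ι ≃ Fin n₁ × Fin n₂) (P : GL ι F)

/-- transported pure tensors -/
noncomputable def T (u : Fin n₁ → F) (w : Fin n₂ → F) : ι → F := tau e P (ten u w)

theorem T_add_left (u u' : Fin n₁ → F) (w : Fin n₂ → F) :
    T e P (u + u') w = T e P u w + T e P u' w := by
  unfold T; rw [ten_add_left, map_add]

theorem T_add_right (u : Fin n₁ → F) (w w' : Fin n₂ → F) :
    T e P u (w + w') = T e P u w + T e P u w' := by
  unfold T; rw [ten_add_right, map_add]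

theorem T_sub_right (u : Fin n₁ → F) (w w' : Fin n₂ → F) :
    T e P u (w - w') = T e P u w - T e P u w' := by
  unfold T; rw [ten_sub_right, map_sub]

theorem T_smul_left (c : F) (u : Fin n₁ → F) (w : Fin n₂ → F) :
    T e P (c • u) w = c • T e P u w := by
  unfold T; rw [ten_smul_left, map_smul]

theorem T_smul_right (c : F) (u : Fin n₁ → F) (w : Fin n₂ → F) :
    T e P u (c • w) = c • T e P u w := by
  unfold T; rw [ten_smul_right, map_smul]

theorem T_neg_left (u : Fin n₁ → F) (w : Fin n₂ → F) : T e P (-u) w = -T e P u w := by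
  unfold T; rw [ten_neg_left, map_neg]

theorem T_neg_right (u : Fin n₁ → F) (w : Fin n₂ → F) : T e P u (-w) = -T e P u w := by
  unfold T; rw [ten_neg_right, map_neg]

theorem T_inj_left {w : Fin n₂ → F} (hw : w ≠ 0) {u u' : Fin n₁ → F}
    (h : T e P u w = T e P u' w) : u = u' := by
  have h1 := tau_injective e P h
  obtain ⟨l, hl⟩ : ∃ l, w l ≠ 0 := by
    by_contra hcon
    push Not at hcon
    exact hw (funext hcon)
  funext k
  have := congrFun h1 (k, l)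
  simp only [ten_apply] at this
  exact mul_right_cancel₀ hl this

/-- coordinates of an equality of transported pure tensors -/
theorem T_coord {u u' : Fin n₁ → F} {w w' : Fin n₂ → F} (h : T e P u w = T e P u' w')
    (k : Fin n₁) (l : Fin n₂) : u k * w l = u' k * w' l := by
  have h1 := tau_injective e P h
  exact congrFun h1 (k, l)

/-- the action of an element of the tensor product subgroup on transported pure tensors -/
theorem exists_of_mem_tensor' (g : GL ι F) (hg : g ∈ Cfsg.Geo.tensorProductSubgroup n₁ n₂ e P) :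
    ∃ (a : GL (Fin n₁) F) (b : GL (Fin n₂) F), ∀ (u : Fin n₁ → F) (w : Fin n₂ → F),
      (g : Matrix ι ι F) *ᵥ T e P u w =
        T e P ((a : Matrix (Fin n₁) (Fin n₁) F) *ᵥ u) ((b : Matrix (Fin n₂) (Fin n₂) F) *ᵥ w) := by
  obtain ⟨a, b, hab⟩ := exists_of_mem_tensor e P g hg
  refine ⟨a, b, fun u w => ?_⟩
  unfold T
  rw [hab, kron_mulVec_ten]

/-- the linear map `w ↦ T u w` -/
noncomputable def tenL (u : Fin n₁ → F) : (Fin n₂ → F) →ₗ[F] (ι → F) where
  toFun := T e P u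
  map_add' := T_add_right e P u
  map_smul' := fun c w => T_smul_right e P c u w

/-- the block `u ⊗ F^{n₂}` -/
noncomputable def blk (u : Fin n₁ → F) : Submodule F (ι → F) := LinearMap.range (tenL e P u)

theorem mem_blk {u : Fin n₁ → F} {v : ι → F} : v ∈ blk e P u ↔ ∃ w, T e P u w = v :=
  LinearMap.mem_range

theorem T_mem_blk (u : Fin n₁ → F) (w : Fin n₂ → F) : T e P u w ∈ blk e P u :=
  (mem_blk e P).mpr ⟨w, rfl⟩

end Tmap

section main

variable {F : Type*} [Field F] [Fintype F] {ι : Type} [Fintype ι] [DecidableEq ι] {n₂ : ℕ}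
  (Q : QuadraticForm F (ι → F)) (e : ι ≃ Fin 3 × Fin n₂) (P : GL ι F)
  {f₁ : (Fin 3 → F) → (Fin 3 → F) → F} {f₂ : (Fin n₂ → F) → (Fin n₂ → F) → F} {c : F}

theorem Q_T (hq : Fintype.card F = 3)
    (hpol : ∀ u u' w w', B Q (T e P u w) (T e P u' w') = c * (f₁ u u' * f₂ w w'))
    (u : Fin 3 → F) (w : Fin n₂ → F) : Q (T e P u w) = -(c * (f₁ u u * f₂ w w)) := by
  have h1 := hpol u u w w
  rw [B_self] at h1
  linear_combination (-1 : F) * h1 + Q (T e P u w) * three_eq_zero hq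

theorem refl_T (hpol : ∀ u u' w w', B Q (T e P u w) (T e P u' w') = c * (f₁ u u' * f₂ w w'))
    (s u : Fin 3 → F) (y w : Fin n₂ → F) :
    Cfsg.reflectionMatrix ⇑Q (T e P s y) *ᵥ T e P u w =
      T e P u w - ((Q (T e P s y))⁻¹ * (c * (f₁ s u * f₂ y w))) • T e P s y := by
  rw [refl_mulVec]
  have := hpol s u y w
  unfold B at this
  rw [this]

theorem refl_T_fix (hpol : ∀ u u' w w', B Q (T e P u w) (T e P u' w') = c * (f₁ u u' * f₂ w w'))
    (s u : Fin 3 → F) (y w : Fin n₂ → F) (h0 : f₁ s u * f₂ y w = 0) :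
    Cfsg.reflectionMatrix ⇑Q (T e P s y) *ᵥ T e P u w = T e P u w := by
  rw [refl_T Q e P hpol, h0, mul_zero, mul_zero, zero_smul, sub_zero]

theorem refl_self (v : ι → F) (hv : Q v ≠ 0) : Cfsg.reflectionMatrix ⇑Q v *ᵥ v = -v := by
  rw [refl_mulVec]
  have : QuadraticMap.polar ⇑Q v v = 2 * Q v := B_self Q v
  rw [this, ← mul_assoc, mul_comm _ (2 : F), mul_assoc, inv_mul_cancel₀ hv, mul_one, two_smul]
  abel

/-- the product of two reflections in vectors of equal norm lies in `Ω` -/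
theorem refl2_mem_Omega (h2 : (2 : F) ≠ 0) (u v : ι → F) (hu : Q u ≠ 0) (hv : Q v ≠ 0)
    (huv : Q u = Q v) : reflO Q u hu * reflO Q v hv ∈ Cfsg.Omega F ⇑Q := by
  have h := (prodO_mem_Omega_iff Q h2 [⟨u, hu⟩, ⟨v, hv⟩]).2
    ⟨by simp, ⟨Q u, by simp [normProd, huv]⟩⟩
  simpa [prodO_cons, prodO_nil] using h

theorem refl2_mulVec (u v : ι → F) (hu : Q u ≠ 0) (hv : Q v ≠ 0) (x : ι → F) :
    (((reflO Q u hu * reflO Q v hv : ↥(Cfsg.isometryGroup F ⇑Q)) : GL ι F) : Matrix ι ι F) *ᵥ x =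
      Cfsg.reflectionMatrix ⇑Q u *ᵥ (Cfsg.reflectionMatrix ⇑Q v *ᵥ x) := by
  rw [Matrix.mulVec_mulVec]
  rfl

/-- distinct blocks meet trivially -/
theorem blk_disjoint (hc : c ≠ 0) (hf₂ : Cfsg.Geo.IsSymmetricForm f₂)
    (hpol : ∀ u u' w w', B Q (T e P u w) (T e P u' w') = c * (f₁ u u' * f₂ w w'))
    {ε : F} (hε : ε ≠ 0) (b : Fin 3 → (Fin 3 → F)) (hbn : ∀ j, f₁ (b j) (b j) = ε)
    (hbo : ∀ j j', j ≠ j' → f₁ (b j) (b j') = 0) (i j : Fin 3) (w : Fin n₂ → F) (hw : w ≠ 0)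
    (hmem : T e P (b i) w ∈ blk e P (b j)) : i = j := by
  by_contra hne
  obtain ⟨w', hw'⟩ := (mem_blk e P).mp hmem
  obtain ⟨-, x, hx⟩ := hf₂.nondegenerate w hw
  have h1 := hpol (b i) (b i) w x
  rw [← hw', hpol, hbo j i (Ne.symm hne), hbn] at h1
  have : c * (ε * f₂ w x) ≠ 0 := mul_ne_zero hc (mul_ne_zero hε hx)
  apply this
  rw [← h1]; ring

/-- elements of the tensor product subgroup that are isometries permute the blocks -/
theorem tensor_le_stab (hq : Fintype.card F = 3) (hn₂ : 0 < n₂) (hc : c ≠ 0)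
    (hf₁ : Cfsg.Geo.IsSymmetricForm f₁) (hf₂ : Cfsg.Geo.IsSymmetricForm f₂)
    (hpol : ∀ u u' w w', B Q (T e P u w) (T e P u' w') = c * (f₁ u u' * f₂ w w'))
    {ε : F} (hε : ε ≠ 0) (b : Fin 3 → (Fin 3 → F)) (hbn : ∀ j, f₁ (b j) (b j) = ε)
    (hbo : ∀ j j', j ≠ j' → f₁ (b j) (b j') = 0)
    (hbsp : ∀ v : Fin 3 → F, ∃ c : Fin 3 → F, v = ∑ j, c j • b j)
    (hbcls : ∀ v, f₁ v v = ε → ∃ j, v = b j ∨ v = - b j) :
    Cfsg.Geo.tensorProductSubgroup 3 n₂ e P ⊓ Cfsg.Geo.omegaGL ⇑Q ≤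
      Cfsg.Geo.decompositionStabilizer (fun i => blk e P (b i)) := by
  rintro g ⟨hgH, hgΩ⟩
  obtain ⟨a, b', hab⟩ := exists_of_mem_tensor' e P g hgH
  obtain ⟨h, -, rfl⟩ := (Cfsg.Agent.Helper28.NM.mem_omegaGL_iff Q g).mp hgΩ
  have hsim : ∀ u u' w w', f₁ ((a : Matrix (Fin 3) (Fin 3) F) *ᵥ u) ((a : Matrix (Fin 3) (Fin 3) F) *ᵥ u') *
      f₂ ((b' : Matrix (Fin n₂) (Fin n₂) F) *ᵥ w) ((b' : Matrix (Fin n₂) (Fin n₂) F) *ᵥ w') =
      f₁ u u' * f₂ w w' := by
    intro u u' w w'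
    have h1 := B_isom Q h (T e P u w) (T e P u' w')
    have e1 : mt Q h *ᵥ T e P u w = _ := hab u w
    have e2 : mt Q h *ᵥ T e P u' w' = _ := hab u' w'
    rw [e1, e2, hpol, hpol] at h1
    exact mul_left_cancel₀ hc h1
  obtain ⟨κ, hκ, hκa⟩ := factor_similarity hf₁ hf₂ (by norm_num) hn₂ _ _ hsim
  have hiso : ∀ u u', f₁ ((a : Matrix (Fin 3) (Fin 3) F) *ᵥ u) ((a : Matrix (Fin 3) (Fin 3) F) *ᵥ u') =
      f₁ u u' := by
    rcases eq_one_or_neg_one3 hq hκ with h1 | h1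
    · intro u u'; rw [hκa, h1, one_mul]
    · exfalso
      refine no_anti_isometry hq hf₁.bilinear hε b hbn hbo hbsp (a : Matrix (Fin 3) (Fin 3) F) ?_
      intro u u'; rw [hκa, h1, neg_one_mul]
  have hperm : ∀ i, ∃ (j : Fin 3) (s : F), s * s = 1 ∧
      (a : Matrix (Fin 3) (Fin 3) F) *ᵥ b i = s • b j := by
    intro i
    obtain ⟨j, hj | hj⟩ := hbcls ((a : Matrix (Fin 3) (Fin 3) F) *ᵥ b i) (by rw [hiso, hbn])
    · exact ⟨j, 1, one_mul 1, by rw [hj, one_smul]⟩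
    · exact ⟨j, -1, by ring, by rw [hj, neg_one_smul]⟩
  choose σ s hs hσ using hperm
  have hs0 : ∀ i, s i ≠ 0 := by
    intro i h0
    have := hs i
    rw [h0, mul_zero] at this
    exact zero_ne_one this
  have hinj : Function.Injective σ := by
    intro i j hij
    by_contra hne
    have h1 := hiso (b i) (b j)
    rw [hσ i, hσ j, hij, hf₁.bilinear.smul_left, hf₁.bilinear.smul_right, hbn, hbo i j hne] at h1
    exact mul_ne_zero (hs0 i) (mul_ne_zero (hs0 j) hε) h1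
  refine ⟨Equiv.ofBijective σ (Finite.injective_iff_bijective.mp hinj), fun i => ?_⟩
  rw [Equiv.ofBijective_apply]
  ext v
  constructor
  · rintro ⟨x, hx, rfl⟩
    obtain ⟨w, rfl⟩ := (mem_blk e P).mp hx
    rw [Matrix.toLin'_apply]
    have e1 : mt Q h *ᵥ T e P (b i) w = _ := hab (b i) w
    show mt Q h *ᵥ T e P (b i) w ∈ _
    rw [e1, hσ i, T_smul_left, ← T_smul_right]
    exact T_mem_blk e P _ _
  · intro hv
    obtain ⟨w, rfl⟩ := (mem_blk e P).mp hv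
    refine ⟨T e P (b i) (s i • (((b'⁻¹ : GL (Fin n₂) F) : Matrix (Fin n₂) (Fin n₂) F) *ᵥ w)),
      T_mem_blk e P _ _, ?_⟩
    rw [Matrix.toLin'_apply]
    have e1 : mt Q h *ᵥ T e P (b i) (s i • (((b'⁻¹ : GL (Fin n₂) F) : Matrix (Fin n₂) (Fin n₂) F) *ᵥ w))
      = _ := hab (b i) _
    show mt Q h *ᵥ T e P (b i) _ = _
    rw [e1, hσ i, Matrix.mulVec_smul, Matrix.mulVec_mulVec, ← Units.val_mul, mul_inv_cancel,
      Units.val_one, Matrix.one_mulVec, T_smul_left, T_smul_right, smul_smul, hs i, one_smul]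

/-- a reflection in a vector of the block `b_0 ⊗ F^{n₂}` stabilises every block -/
theorem refl_mem_stab
    (hpol : ∀ u u' w w', B Q (T e P u w) (T e P u' w') = c * (f₁ u u' * f₂ w w'))
    (b : Fin 3 → (Fin 3 → F)) (hbo : ∀ j j', j ≠ j' → f₁ (b j) (b j') = 0)
    (y : Fin n₂ → F) (hv : Q (T e P (b 0) y) ≠ 0) :
    ((reflO Q (T e P (b 0) y) hv : ↥(Cfsg.isometryGroup F ⇑Q)) : GL ι F) ∈
      Cfsg.Geo.decompositionStabilizer (fun i => blk e P (b i)) := by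
  refine ⟨1, fun i => ?_⟩
  rw [Equiv.Perm.coe_one, id, reflO_val]
  have hmaps : ∀ x ∈ blk e P (b i), Cfsg.reflectionMatrix ⇑Q (T e P (b 0) y) *ᵥ x ∈ blk e P (b i) := by
    intro x hx
    obtain ⟨w, rfl⟩ := (mem_blk e P).mp hx
    by_cases hi : i = 0
    · subst hi
      rw [refl_T Q e P hpol, ← T_smul_right, ← T_sub_right]
      exact T_mem_blk e P _ _
    · rw [refl_T_fix Q e P hpol _ _ _ _ (by rw [hbo 0 i (Ne.symm hi), zero_mul])]
      exact T_mem_blk e P _ _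
  ext v
  constructor
  · rintro ⟨x, hx, rfl⟩
    rw [Matrix.toLin'_apply]
    exact hmaps x hx
  · intro hv'
    refine ⟨_, hmaps v hv', ?_⟩
    rw [Matrix.toLin'_apply, Matrix.mulVec_mulVec, Cfsg.Agent.Helper28.Spin.refl_sq Q hv,
      Matrix.one_mulVec]

/-- a product of two reflections in the block `b_0 ⊗ F^{n₂}` that does not lie in the tensor product
subgroup -/
theorem g1_not_mem (hq : Fintype.card F = 3)
    (hpol : ∀ u u' w w', B Q (T e P u w) (T e P u' w') = c * (f₁ u u' * f₂ w w'))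
    {ε : F} (hε : ε ≠ 0) (b : Fin 3 → (Fin 3 → F)) (hbn : ∀ j, f₁ (b j) (b j) = ε)
    (hbo : ∀ j j', j ≠ j' → f₁ (b j) (b j') = 0) (hf₁ : Cfsg.Geo.IsBilinearForm f₁)
    (hs₂ : ∀ w w', f₂ w w' = f₂ w' w)
    (y y' y'' : Fin n₂ → F) (hyy' : f₂ y y' = 0) (hyy'' : f₂ y y'' = 0) (hy'y'' : f₂ y' y'' = 0)
    (hy : y ≠ 0) (hy'' : y'' ≠ 0)
    (hv : Q (T e P (b 0) y) ≠ 0) (hv' : Q (T e P (b 0) y') ≠ 0) :
    ((reflO Q (T e P (b 0) y) hv * reflO Q (T e P (b 0) y') hv' : ↥(Cfsg.isometryGroup F ⇑Q)) : GL ι F) ∉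
      Cfsg.Geo.tensorProductSubgroup 3 n₂ e P := by
  intro hgH
  obtain ⟨a, b', hab⟩ := exists_of_mem_tensor' e P _ hgH
  have hb0 : b 0 ≠ 0 := by
    intro h0
    apply hε
    rw [← hbn 0, h0]; exact bil_zero_left hf₁ _
  have hb1 : b 1 ≠ 0 := by
    intro h0
    apply hε
    rw [← hbn 1, h0]; exact bil_zero_left hf₁ _
  -- the three facts
  have F1 : ∀ w, T e P ((a : Matrix (Fin 3) (Fin 3) F) *ᵥ b 1)
      ((b' : Matrix (Fin n₂) (Fin n₂) F) *ᵥ w) = T e P (b 1) w := by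
    intro w
    rw [← hab, refl2_mulVec,
      refl_T_fix Q e P hpol _ _ _ _ (by rw [hbo 0 1 (by decide), zero_mul]),
      refl_T_fix Q e P hpol _ _ _ _ (by rw [hbo 0 1 (by decide), zero_mul])]
  have F2 : T e P ((a : Matrix (Fin 3) (Fin 3) F) *ᵥ b 0)
      ((b' : Matrix (Fin n₂) (Fin n₂) F) *ᵥ y) = - T e P (b 0) y := by
    rw [← hab, refl2_mulVec,
      refl_T_fix Q e P hpol _ _ _ _ (by rw [hs₂ y' y, hyy', mul_zero]), refl_self Q _ hv]
  have F3 : T e P ((a : Matrix (Fin 3) (Fin 3) F) *ᵥ b 0)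
      ((b' : Matrix (Fin n₂) (Fin n₂) F) *ᵥ y'') = T e P (b 0) y'' := by
    rw [← hab, refl2_mulVec,
      refl_T_fix Q e P hpol _ _ _ _ (by rw [hy'y'', mul_zero]),
      refl_T_fix Q e P hpol _ _ _ _ (by rw [hyy'', mul_zero])]
  -- `b'` is a scalar
  obtain ⟨k, hk⟩ : ∃ k, b 1 k ≠ 0 := by
    by_contra hcon
    push Not at hcon
    exact hb1 (funext hcon)
  obtain ⟨μ, hμ⟩ : ∃ μ : F, μ = ((a : Matrix (Fin 3) (Fin 3) F) *ᵥ b 1) k / b 1 k := ⟨_, rfl⟩
  have hscal : ∀ w : Fin n₂ → F, w = μ • ((b' : Matrix (Fin n₂) (Fin n₂) F) *ᵥ w) := by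
    intro w
    funext l
    have := T_coord e P (F1 w) k l
    rw [Pi.smul_apply, smul_eq_mul, hμ]
    field_simp
    linear_combination -this
  have hμ0 : μ ≠ 0 := by
    intro h0
    apply hy
    rw [hscal y, h0, zero_smul]
  have hby : (b' : Matrix (Fin n₂) (Fin n₂) F) *ᵥ y ≠ 0 := by
    intro h0
    apply hy
    rw [hscal y, h0, smul_zero]
  have hby'' : (b' : Matrix (Fin n₂) (Fin n₂) F) *ᵥ y'' ≠ 0 := by
    intro h0
    apply hy''
    rw [hscal y'', h0, smul_zero]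
  have G2 : (a : Matrix (Fin 3) (Fin 3) F) *ᵥ b 0 = -(μ • b 0) := by
    apply T_inj_left e P hby
    rw [F2, T_neg_left, T_smul_left, ← T_smul_right, ← hscal y]
  have G3 : (a : Matrix (Fin 3) (Fin 3) F) *ᵥ b 0 = μ • b 0 := by
    apply T_inj_left e P hby''
    rw [F3, T_smul_left, ← T_smul_right, ← hscal y'']
  apply hb0
  have h2 := two_ne_zero3 hq
  have h3 : (2 * μ) • b 0 = 0 := by
    rw [mul_smul, two_smul]
    nth_rewrite 1 [← G3]
    rw [G2]
    abel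
  rcases smul_eq_zero.mp h3 with h | h
  · exact absurd h (mul_ne_zero h2 hμ0)
  · exact h

/-- a product of two reflections in vectors of `(b_0 + b_1) ⊗ F^{n₂}` that does not permute the
blocks -/
theorem g2_not_mem (hq : Fintype.card F = 3) (hc : c ≠ 0) (hf₂ : Cfsg.Geo.IsSymmetricForm f₂)
    (hpol : ∀ u u' w w', B Q (T e P u w) (T e P u' w') = c * (f₁ u u' * f₂ w w'))
    {ε : F} (hε : ε ≠ 0) (b : Fin 3 → (Fin 3 → F)) (hbn : ∀ j, f₁ (b j) (b j) = ε)
    (hbo : ∀ j j', j ≠ j' → f₁ (b j) (b j') = 0) (hf₁ : Cfsg.Geo.IsBilinearForm f₁)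
    (y y' y'' : Fin n₂ → F) (hyy' : f₂ y y' = 0) (hyy'' : f₂ y y'' = 0) (hy'y'' : f₂ y' y'' = 0)
    (hy0 : f₂ y y ≠ 0) (hy'' : y'' ≠ 0)
    (hv : Q (T e P (b 0 + b 1) y) ≠ 0) (hv' : Q (T e P (b 0 + b 1) y') ≠ 0) :
    ((reflO Q (T e P (b 0 + b 1) y) hv * reflO Q (T e P (b 0 + b 1) y') hv' :
        ↥(Cfsg.isometryGroup F ⇑Q)) : GL ι F) ∉
      Cfsg.Geo.decompositionStabilizer (fun i => blk e P (b i)) := by
  rintro ⟨σ, hσ⟩
  have h3 := three_eq_zero hq
  have hy : y ≠ 0 := by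
    intro h0
    apply hy0
    rw [h0]; exact bil_zero_left hf₂.bilinear _
  have hs0 : f₁ (b 0 + b 1) (b 0) = ε := by
    rw [hf₁.add_left, hbn, hbo 1 0 (by decide), add_zero]
  have hss : f₁ (b 0 + b 1) (b 0 + b 1) = 2 * ε := by
    rw [hf₁.add_left, hf₁.add_right, hf₁.add_right, hbn, hbn, hbo 1 0 (by decide),
      hbo 0 1 (by decide)]
    ring
  have E1 : Cfsg.reflectionMatrix ⇑Q (T e P (b 0 + b 1) y) *ᵥ
      (Cfsg.reflectionMatrix ⇑Q (T e P (b 0 + b 1) y') *ᵥ T e P (b 0) y) = T e P (b 1) (-y) := by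
    rw [refl_T_fix Q e P hpol _ _ _ _ (by rw [hf₂.symm y' y, hyy', mul_zero]),
      refl_T Q e P hpol, Q_T Q e P hq hpol, hs0, hss]
    have hne : c * (ε * f₂ y y) ≠ 0 := mul_ne_zero hc (mul_ne_zero hε hy0)
    have hcoef : (-(c * (2 * ε * f₂ y y)))⁻¹ * (c * (ε * f₂ y y)) = 1 := by
      have : -(c * (2 * ε * f₂ y y)) = c * (ε * f₂ y y) := by
        linear_combination (-(c * (ε * f₂ y y))) * h3
      rw [this, inv_mul_cancel₀ hne]
    rw [hcoef, one_smul, T_add_left, T_neg_right]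
    abel
  have E2 : Cfsg.reflectionMatrix ⇑Q (T e P (b 0 + b 1) y) *ᵥ
      (Cfsg.reflectionMatrix ⇑Q (T e P (b 0 + b 1) y') *ᵥ T e P (b 0) y'') = T e P (b 0) y'' := by
    rw [refl_T_fix Q e P hpol _ _ _ _ (by rw [hy'y'', mul_zero]),
      refl_T_fix Q e P hpol _ _ _ _ (by rw [hyy'', mul_zero])]
  have hm1 : T e P (b 1) (-y) ∈ blk e P (b (σ 0)) := by
    have := hσ 0
    simp only at this
    rw [← this]
    refine ⟨T e P (b 0) y, T_mem_blk e P _ _, ?_⟩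
    rw [Matrix.toLin'_apply, refl2_mulVec, E1]
  have hm2 : T e P (b 0) y'' ∈ blk e P (b (σ 0)) := by
    have := hσ 0
    simp only at this
    rw [← this]
    refine ⟨T e P (b 0) y'', T_mem_blk e P _ _, ?_⟩
    rw [Matrix.toLin'_apply, refl2_mulVec, E2]
  have e1 := blk_disjoint Q e P hc hf₂ hpol hε b hbn hbo 1 (σ 0) (-y) (neg_ne_zero.mpr hy) hm1
  have e2 := blk_disjoint Q e P hc hf₂ hpol hε b hbn hbo 0 (σ 0) y'' hy'' hm2
  rw [← e2] at e1
  exact absurd e1 (by decide)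

/-- **Non-maximality of the tensor product stabiliser `O_3(3) ⊗ O_{n₂}(3)` in `Ω`.** -/
theorem tensor_orth_not_maximal (hq : Fintype.card F = 3) (hn₂ : 3 ≤ n₂)
    (hf₁ : Cfsg.Geo.IsSymmetricForm f₁) (hf₂ : Cfsg.Geo.IsSymmetricForm f₂)
    (hT : Cfsg.Geo.IsTensorFormStructure id (QuadraticMap.polar ⇑Q) f₁ f₂ e P) :
    ∃ K : Subgroup (GL ι F), Cfsg.Geo.tensorProductSubgroup 3 n₂ e P ⊓ Cfsg.Geo.omegaGL ⇑Q < K ∧
      K < Cfsg.Geo.omegaGL ⇑Q := by
  obtain ⟨c, hc, hTc⟩ := hT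
  have hpol : ∀ u u' w w', B Q (T e P u w) (T e P u' w') = c * (f₁ u u' * f₂ w w') := by
    intro u u' w w'
    unfold T
    rw [tau_apply, tau_apply]
    show QuadraticMap.polar ⇑Q _ _ = _
    rw [hTc, formOfGram_ten hf₁.bilinear hf₂.bilinear]
  have h2 := two_ne_zero3 hq
  have h3 := three_eq_zero hq
  obtain ⟨ε, b, hε, hbn, hbo, hbsp, hbcls⟩ := exists_frame3 hq hf₁
  obtain ⟨y, y', y'', hyy, hy0, hyy', hyy'', hy'y'', hy''⟩ := exists_three_orth hq hn₂ hf₂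
  have hy : y ≠ 0 := by
    intro h0
    apply hy0
    rw [h0]; exact bil_zero_left hf₂.bilinear _
  have hy0' : f₂ y' y' ≠ 0 := by rw [← hyy]; exact hy0
  -- the reflections
  have hv1 : Q (T e P (b 0) y) ≠ 0 := by
    rw [Q_T Q e P hq hpol, hbn]
    exact neg_ne_zero.mpr (mul_ne_zero hc (mul_ne_zero hε hy0))
  have hv1' : Q (T e P (b 0) y') ≠ 0 := by
    rw [Q_T Q e P hq hpol, hbn]
    exact neg_ne_zero.mpr (mul_ne_zero hc (mul_ne_zero hε hy0'))
  have hss : f₁ (b 0 + b 1) (b 0 + b 1) = 2 * ε := by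
    rw [hf₁.bilinear.add_left, hf₁.bilinear.add_right, hf₁.bilinear.add_right, hbn, hbn,
      hbo 1 0 (by decide), hbo 0 1 (by decide)]
    ring
  have hv2 : Q (T e P (b 0 + b 1) y) ≠ 0 := by
    rw [Q_T Q e P hq hpol, hss]
    exact neg_ne_zero.mpr (mul_ne_zero hc (mul_ne_zero (mul_ne_zero h2 hε) hy0))
  have hv2' : Q (T e P (b 0 + b 1) y') ≠ 0 := by
    rw [Q_T Q e P hq hpol, hss]
    exact neg_ne_zero.mpr (mul_ne_zero hc (mul_ne_zero (mul_ne_zero h2 hε) hy0'))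
  have hΩ1 : ((reflO Q (T e P (b 0) y) hv1 * reflO Q (T e P (b 0) y') hv1' :
      ↥(Cfsg.isometryGroup F ⇑Q)) : GL ι F) ∈ Cfsg.Geo.omegaGL ⇑Q :=
    (Cfsg.Agent.Helper28.NM.mem_omegaGL_iff Q _).mpr
      ⟨_, refl2_mem_Omega Q h2 _ _ hv1 hv1' (by
        rw [Q_T Q e P hq hpol, Q_T Q e P hq hpol, hyy]), rfl⟩
  have hΩ2 : ((reflO Q (T e P (b 0 + b 1) y) hv2 * reflO Q (T e P (b 0 + b 1) y') hv2' :
      ↥(Cfsg.isometryGroup F ⇑Q)) : GL ι F) ∈ Cfsg.Geo.omegaGL ⇑Q :=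
    (Cfsg.Agent.Helper28.NM.mem_omegaGL_iff Q _).mpr
      ⟨_, refl2_mem_Omega Q h2 _ _ hv2 hv2' (by
        rw [Q_T Q e P hq hpol, Q_T Q e P hq hpol, hyy]), rfl⟩
  have hS1 : ((reflO Q (T e P (b 0) y) hv1 * reflO Q (T e P (b 0) y') hv1' :
      ↥(Cfsg.isometryGroup F ⇑Q)) : GL ι F) ∈
      Cfsg.Geo.decompositionStabilizer (fun i => blk e P (b i)) :=
    Subgroup.mul_mem _ (refl_mem_stab Q e P hpol b hbo y hv1) (refl_mem_stab Q e P hpol b hbo y' hv1')
  refine ⟨Cfsg.Geo.decompositionStabilizer (fun i => blk e P (b i)) ⊓ Cfsg.Geo.omegaGL ⇑Q,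
    lt_of_le_of_ne (le_inf ?_ inf_le_right) ?_, lt_of_le_of_ne inf_le_right ?_⟩
  · exact tensor_le_stab Q e P hq (by omega) hc hf₁ hf₂ hpol hε b hbn hbo hbsp hbcls
  · intro heq
    have hmem : ((reflO Q (T e P (b 0) y) hv1 * reflO Q (T e P (b 0) y') hv1' :
        ↥(Cfsg.isometryGroup F ⇑Q)) : GL ι F) ∈
        Cfsg.Geo.decompositionStabilizer (fun i => blk e P (b i)) ⊓ Cfsg.Geo.omegaGL ⇑Q :=
      ⟨hS1, hΩ1⟩
    rw [← heq] at hmem
    exact g1_not_mem Q e P hq hpol hε b hbn hbo hf₁.bilinear hf₂.symm y y' y'' hyy' hyy'' hy'y''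
      hy hy'' hv1 hv1' hmem.1
  · intro heq
    rw [← heq] at hΩ2
    exact g2_not_mem Q e P hq hc hf₂ hpol hε b hbn hbo hf₁.bilinear y y' y'' hyy' hyy'' hy'y''
      hy0 hy'' hv2 hv2' hΩ2.1

end main

end Cfsg.Agent.Helper28.TON
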