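import Mathlib
import Cfsg.Prelude.Def_GeometricClasses
import Cfsg.Agent.Helper28.TensOrthNM
import Cfsg.Agent.Helper28.SpMax

set_option autoImplicit false

/-! Non-maximality in `Sp_{3n₁}(3)` of the stabiliser of a tensor decomposition `Sp_{n₁}(3) ⊗ O_3(3)`:
it stabilises the decomposition of the space into the three blocks `F^{n₁} ⊗ b_j` for an orthogonal
frame `b` of the second factor. -/

namespace Cfsg.Agent.Helper28.TSN

open Matrix Kronecker Module Cfsg.Agent.Helper28.TD Cfsg.Agent.Helper28.TON Cfsg.Agent.Helper28.OFN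
  Cfsg.Agent.Helper2.Sp Cfsg.Agent.Helper28.SpMax

section Tmap2

variable {F : Type*} [Field F] {ι : Type} [Fintype ι] [DecidableEq ι] {n₁ n₂ : ℕ}
  (e : ι ≃ Fin n₁ × Fin n₂) (P : GL ι F)

theorem T_sub_left (u u' : Fin n₁ → F) (w : Fin n₂ → F) :
    T e P (u - u') w = T e P u w - T e P u' w := by
  rw [sub_eq_add_neg, T_add_left, T_neg_left, ← sub_eq_add_neg]

theorem T_inj_right {u : Fin n₁ → F} (hu : u ≠ 0) {w w' : Fin n₂ → F}
    (h : T e P u w = T e P u w') : w = w' := by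
  have h1 := tau_injective e P h
  obtain ⟨k, hk⟩ : ∃ k, u k ≠ 0 := by
    by_contra hcon
    push Not at hcon
    exact hu (funext hcon)
  funext l
  have := congrFun h1 (k, l)
  simp only [ten_apply] at this
  exact mul_left_cancel₀ hk this

/-- the linear map `u ↦ T u w` -/
noncomputable def tenL₂ (w : Fin n₂ → F) : (Fin n₁ → F) →ₗ[F] (ι → F) where
  toFun := fun u => T e P u w
  map_add' := fun u u' => T_add_left e P u u' w
  map_smul' := fun c u => T_smul_left e P c u w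

/-- the block `F^{n₁} ⊗ w` -/
noncomputable def blk₂ (w : Fin n₂ → F) : Submodule F (ι → F) := LinearMap.range (tenL₂ e P w)

theorem mem_blk₂ {w : Fin n₂ → F} {v : ι → F} : v ∈ blk₂ e P w ↔ ∃ u, T e P u w = v :=
  LinearMap.mem_range

theorem T_mem_blk₂ (u : Fin n₁ → F) (w : Fin n₂ → F) : T e P u w ∈ blk₂ e P w :=
  (mem_blk₂ e P).mpr ⟨u, rfl⟩

end Tmap2

section simil

variable {F : Type*} [Field F]

/-- if `A ⊗ B` preserves `g₁ ⊗ g₂` then `B` is a similarity of `g₂` -/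
theorem factor_similarity_right {α β : Type*} (g₁ : α → α → F) (g₂ : β → β → F) (A : α → α)
    (Bm : β → β)
    (h : ∀ u u' w w', g₁ (A u) (A u') * g₂ (Bm w) (Bm w') = g₁ u u' * g₂ w w')
    (hne₁ : ∃ u u', g₁ u u' ≠ 0) (hne₂ : ∃ w w', g₂ w w' ≠ 0) :
    ∃ κ : F, κ ≠ 0 ∧ ∀ w w', g₂ (Bm w) (Bm w') = κ * g₂ w w' := by
  obtain ⟨u₀, u₀', hu⟩ := hne₁
  obtain ⟨w₀, w₀', hw⟩ := hne₂
  have h0 := h u₀ u₀' w₀ w₀'
  have hne : g₁ (A u₀) (A u₀') ≠ 0 := by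
    intro hz
    rw [hz, zero_mul] at h0
    exact mul_ne_zero hu hw h0.symm
  refine ⟨g₁ u₀ u₀' / g₁ (A u₀) (A u₀'), div_ne_zero hu hne, fun w w' => ?_⟩
  have := h u₀ u₀' w w'
  field_simp
  linear_combination this

end simil

section main

variable {F : Type*} [Field F] [Fintype F] {m n₁ : ℕ}
  (e : (Fin m ⊕ Fin m) ≃ Fin n₁ × Fin 3) (P : GL (Fin m ⊕ Fin m) F)
  {f₁ : (Fin n₁ → F) → (Fin n₁ → F) → F} {f₂ : (Fin 3 → F) → (Fin 3 → F) → F} {c : F}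

theorem om_eq (x y : Fin m ⊕ Fin m → F) : om x y = Cfsg.sympForm m F x y := rfl

/-- the action of a transvection in a transported pure tensor -/
theorem transv_T
    (hpol : ∀ w w' u u', Cfsg.sympForm m F (T e P w u) (T e P w' u') = c * (f₁ w w' * f₂ u u'))
    (w₀ w : Fin n₁ → F) (s u : Fin 3 → F) (k : F) :
    ((toGL (Tg (T e P w₀ s) k) : GL (Fin m ⊕ Fin m) F) : Matrix (Fin m ⊕ Fin m) (Fin m ⊕ Fin m) F) *ᵥ
        T e P w u = T e P w u + (k * (c * (f₁ w₀ w * f₂ s u))) • T e P w₀ s := by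
  rw [toGL_val]
  have := Tg_mulVec (T e P w₀ s) k (T e P w u)
  rw [om_eq, hpol] at this
  exact this

theorem nonzero_of_pos (hn₁ : 0 < n₁) : ∃ w : Fin n₁ → F, w ≠ 0 := by
  refine ⟨Pi.single (⟨0, hn₁⟩ : Fin n₁) (1 : F), ?_⟩
  intro h0
  have := congrFun h0 ⟨0, hn₁⟩
  simp at this

/-- elements of the tensor product subgroup that are isometries permute the blocks -/
theorem tensor_le_stab (hq : Fintype.card F = 3) (hn₁ : 0 < n₁) (hc : c ≠ 0)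
    (hf₁ : Cfsg.Geo.IsSymplecticForm f₁) (hf₂ : Cfsg.Geo.IsSymmetricForm f₂)
    (hpol : ∀ w w' u u', Cfsg.sympForm m F (T e P w u) (T e P w' u') = c * (f₁ w w' * f₂ u u'))
    {ε : F} (hε : ε ≠ 0) (b : Fin 3 → (Fin 3 → F)) (hbn : ∀ j, f₂ (b j) (b j) = ε)
    (hbo : ∀ j j', j ≠ j' → f₂ (b j) (b j') = 0)
    (hbsp : ∀ v : Fin 3 → F, ∃ c : Fin 3 → F, v = ∑ j, c j • b j)
    (hbcls : ∀ v, f₂ v v = ε → ∃ j, v = b j ∨ v = - b j) :
    Cfsg.Geo.tensorProductSubgroup n₁ 3 e P ⊓ Cfsg.spGL m F ≤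
      Cfsg.Geo.decompositionStabilizer (fun i => blk₂ e P (b i)) := by
  rintro g ⟨hgH, hgS⟩
  obtain ⟨a, b', hab⟩ := exists_of_mem_tensor' e P g hgH
  have hsim : ∀ w w' u u', f₁ ((a : Matrix (Fin n₁) (Fin n₁) F) *ᵥ w) ((a : Matrix (Fin n₁) (Fin n₁) F) *ᵥ w') *
      f₂ ((b' : Matrix (Fin 3) (Fin 3) F) *ᵥ u) ((b' : Matrix (Fin 3) (Fin 3) F) *ᵥ u') =
      f₁ w w' * f₂ u u' := by
    intro w w' u u'
    have h1 : Cfsg.sympForm m F ((g : Matrix (Fin m ⊕ Fin m) (Fin m ⊕ Fin m) F) *ᵥ T e P w u)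
        ((g : Matrix (Fin m ⊕ Fin m) (Fin m ⊕ Fin m) F) *ᵥ T e P w' u') =
        Cfsg.sympForm m F (T e P w u) (T e P w' u') := hgS _ _
    rw [hab, hab, hpol, hpol] at h1
    exact mul_left_cancel₀ hc h1
  obtain ⟨w₀, hw₀⟩ := nonzero_of_pos (F := F) hn₁
  obtain ⟨-, w₀', hw₀'⟩ := hf₁.nondegenerate w₀ hw₀
  have hb0 : b 0 ≠ 0 := by
    intro h0
    apply hε
    rw [← hbn 0, h0]; exact bil_zero_left hf₂.bilinear _
  obtain ⟨κ, hκ, hκa⟩ := factor_similarity_right f₁ f₂ _ _ hsim ⟨w₀, w₀', hw₀'⟩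
    ⟨b 0, b 0, by rw [hbn]; exact hε⟩
  have hiso : ∀ u u', f₂ ((b' : Matrix (Fin 3) (Fin 3) F) *ᵥ u) ((b' : Matrix (Fin 3) (Fin 3) F) *ᵥ u') =
      f₂ u u' := by
    rcases eq_one_or_neg_one3 hq hκ with h1 | h1
    · intro u u'; rw [hκa, h1, one_mul]
    · exfalso
      refine no_anti_isometry hq hf₂.bilinear hε b hbn hbo hbsp (b' : Matrix (Fin 3) (Fin 3) F) ?_
      intro u u'; rw [hκa, h1, neg_one_mul]
  have hperm : ∀ i, ∃ (j : Fin 3) (s : F), s * s = 1 ∧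
      (b' : Matrix (Fin 3) (Fin 3) F) *ᵥ b i = s • b j := by
    intro i
    obtain ⟨j, hj | hj⟩ := hbcls ((b' : Matrix (Fin 3) (Fin 3) F) *ᵥ b i) (by rw [hiso, hbn])
    · exact ⟨j, 1, one_mul 1, by rw [hj, one_smul]⟩
    · exact ⟨j, -1, by ring, by rw [hj, neg_one_smul]⟩
  choose σ s hs hσ using hperm
  have hs0 : ∀ i, s i ≠ 0 := by
    intro i h0
    have := hs i
    rw [h0, mul_zero] at this
    exact zero_ne_one this
  have hinj : Function.Injective σ := by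
    intro i j hij
    by_contra hne
    have h1 := hiso (b i) (b j)
    rw [hσ i, hσ j, hij, hf₂.bilinear.smul_left, hf₂.bilinear.smul_right, hbn, hbo i j hne] at h1
    exact mul_ne_zero (hs0 i) (mul_ne_zero (hs0 j) hε) h1
  refine ⟨Equiv.ofBijective σ (Finite.injective_iff_bijective.mp hinj), fun i => ?_⟩
  rw [Equiv.ofBijective_apply]
  ext v
  constructor
  · rintro ⟨x, hx, rfl⟩
    obtain ⟨w, rfl⟩ := (mem_blk₂ e P).mp hx
    rw [Matrix.toLin'_apply, hab, hσ i, T_smul_right, ← T_smul_left]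
    exact T_mem_blk₂ e P _ _
  · intro hv
    obtain ⟨w, rfl⟩ := (mem_blk₂ e P).mp hv
    refine ⟨T e P (s i • (((a⁻¹ : GL (Fin n₁) F) : Matrix (Fin n₁) (Fin n₁) F) *ᵥ w)) (b i),
      T_mem_blk₂ e P _ _, ?_⟩
    rw [Matrix.toLin'_apply, hab, hσ i, Matrix.mulVec_smul, Matrix.mulVec_mulVec, ← Units.val_mul,
      mul_inv_cancel, Units.val_one, Matrix.one_mulVec, T_smul_left, T_smul_right, smul_smul, hs i,
      one_smul]

theorem sympForm_zero_left (y : Fin m ⊕ Fin m → F) : Cfsg.sympForm m F 0 y = 0 := by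
  simp [Cfsg.sympForm]

theorem transv_cancel (v x : Fin m ⊕ Fin m → F) (k : F) :
    ((toGL (Tg v k) : GL (Fin m ⊕ Fin m) F) : Matrix (Fin m ⊕ Fin m) (Fin m ⊕ Fin m) F) *ᵥ
      (((toGL (Tg v (-k)) : GL (Fin m ⊕ Fin m) F) : Matrix (Fin m ⊕ Fin m) (Fin m ⊕ Fin m) F) *ᵥ x) = x := by
  rw [Matrix.mulVec_mulVec, ← Units.val_mul, ← map_mul, Tg_add, add_neg_cancel, Tg_zero, map_one,
    Units.val_one, Matrix.one_mulVec]

/-- a transvection in a vector of the block `F^{n₁} ⊗ b_0` stabilises every block -/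
theorem transv_mem_stab
    (hpol : ∀ w w' u u', Cfsg.sympForm m F (T e P w u) (T e P w' u') = c * (f₁ w w' * f₂ u u'))
    (b : Fin 3 → (Fin 3 → F)) (hbo : ∀ j j', j ≠ j' → f₂ (b j) (b j') = 0)
    (w₀ : Fin n₁ → F) (k : F) :
    toGL (Tg (T e P w₀ (b 0)) k) ∈ Cfsg.Geo.decompositionStabilizer (fun i => blk₂ e P (b i)) := by
  have hmaps : ∀ (k : F) (i : Fin 3), ∀ x ∈ blk₂ e P (b i),
      ((toGL (Tg (T e P w₀ (b 0)) k) : GL (Fin m ⊕ Fin m) F) :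
        Matrix (Fin m ⊕ Fin m) (Fin m ⊕ Fin m) F) *ᵥ x ∈ blk₂ e P (b i) := by
    intro k i x hx
    obtain ⟨w, rfl⟩ := (mem_blk₂ e P).mp hx
    rw [transv_T e P hpol]
    by_cases hi : i = 0
    · subst hi
      rw [← T_smul_left, ← T_add_left]
      exact T_mem_blk₂ e P _ _
    · rw [hbo 0 i (Ne.symm hi), mul_zero, mul_zero, mul_zero, zero_smul, add_zero]
      exact T_mem_blk₂ e P _ _
  refine ⟨1, fun i => ?_⟩
  rw [Equiv.Perm.coe_one, id]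
  ext v
  constructor
  · rintro ⟨x, hx, rfl⟩
    rw [Matrix.toLin'_apply]
    exact hmaps k i x hx
  · intro hv'
    refine ⟨_, hmaps (-k) i v hv', ?_⟩
    rw [Matrix.toLin'_apply, transv_cancel]

/-- a transvection in the block `F^{n₁} ⊗ b_0` does not lie in the tensor product subgroup -/
theorem g1_not_mem (hc : c ≠ 0)
    (hpol : ∀ w w' u u', Cfsg.sympForm m F (T e P w u) (T e P w' u') = c * (f₁ w w' * f₂ u u'))
    {ε : F} (hε : ε ≠ 0) (b : Fin 3 → (Fin 3 → F)) (hbn : ∀ j, f₂ (b j) (b j) = ε)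
    (hbo : ∀ j j', j ≠ j' → f₂ (b j) (b j') = 0) (hf₂ : Cfsg.Geo.IsBilinearForm f₂)
    (hf₁ : Cfsg.Geo.IsSymplecticForm f₁)
    (w₀ w₀' : Fin n₁ → F) (hw : f₁ w₀ w₀' ≠ 0) :
    toGL (Tg (T e P w₀ (b 0)) 1) ∉ Cfsg.Geo.tensorProductSubgroup n₁ 3 e P := by
  intro hgH
  obtain ⟨a, b', hab⟩ := exists_of_mem_tensor' e P _ hgH
  have hw₀ : w₀ ≠ 0 := by
    intro h0
    apply hw
    rw [h0]; exact bil_zero_left hf₁.bilinear _
  have hb1 : b 1 ≠ 0 := by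
    intro h0
    apply hε
    rw [← hbn 1, h0]; exact bil_zero_left hf₂ _
  have F1 : ∀ w, T e P ((a : Matrix (Fin n₁) (Fin n₁) F) *ᵥ w)
      ((b' : Matrix (Fin 3) (Fin 3) F) *ᵥ b 1) = T e P w (b 1) := by
    intro w
    rw [← hab, transv_T e P hpol, hbo 0 1 (by decide), mul_zero, mul_zero, mul_zero, zero_smul,
      add_zero]
  have F2 : ∀ w, T e P ((a : Matrix (Fin n₁) (Fin n₁) F) *ᵥ w)
      ((b' : Matrix (Fin 3) (Fin 3) F) *ᵥ b 0) =
        T e P w (b 0) + (c * (f₁ w₀ w * ε)) • T e P w₀ (b 0) := by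
    intro w
    rw [← hab, transv_T e P hpol, hbn, one_mul]
  obtain ⟨l, hl⟩ : ∃ l, b 1 l ≠ 0 := by
    by_contra hcon
    push Not at hcon
    exact hb1 (funext hcon)
  obtain ⟨μ, hμ⟩ : ∃ μ : F, μ = ((b' : Matrix (Fin 3) (Fin 3) F) *ᵥ b 1) l / b 1 l := ⟨_, rfl⟩
  have hscal : ∀ w : Fin n₁ → F, w = μ • ((a : Matrix (Fin n₁) (Fin n₁) F) *ᵥ w) := by
    intro w
    funext k
    have := T_coord e P (F1 w) k l
    rw [Pi.smul_apply, smul_eq_mul, hμ]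
    field_simp
    linear_combination -this
  have haw₀ : (a : Matrix (Fin n₁) (Fin n₁) F) *ᵥ w₀ ≠ 0 := by
    intro h0
    apply hw₀
    rw [hscal w₀, h0, smul_zero]
  have hb'0 : (b' : Matrix (Fin 3) (Fin 3) F) *ᵥ b 0 = μ • b 0 := by
    apply T_inj_right e P haw₀
    have := F2 w₀
    rw [hf₁.alternating, zero_mul, mul_zero, zero_smul, add_zero] at this
    rw [this, T_smul_right, ← T_smul_left, ← hscal w₀]
  have h3 := F2 w₀'
  rw [hb'0, T_smul_right, ← T_smul_left, ← hscal w₀'] at h3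
  have h4 : (c * (f₁ w₀ w₀' * ε)) • T e P w₀ (b 0) = 0 := by
    have : T e P w₀' (b 0) + 0 = T e P w₀' (b 0) + (c * (f₁ w₀ w₀' * ε)) • T e P w₀ (b 0) := by
      rw [add_zero]; exact h3
    exact (add_left_cancel this).symm
  have hcoef : c * (f₁ w₀ w₀' * ε) ≠ 0 := mul_ne_zero hc (mul_ne_zero hw hε)
  rcases smul_eq_zero.mp h4 with h | h
  · exact hcoef h
  · have h5 := hpol w₀ w₀' (b 0) (b 0)
    rw [h, sympForm_zero_left, hbn] at h5
    exact hcoef h5.symm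

/-- a vector with non-zero components in two blocks lies in no block -/
theorem two_blocks (hc : c ≠ 0)
    (hpol : ∀ w w' u u', Cfsg.sympForm m F (T e P w u) (T e P w' u') = c * (f₁ w w' * f₂ u u'))
    {ε : F} (hε : ε ≠ 0) (b : Fin 3 → (Fin 3 → F)) (hbn : ∀ j, f₂ (b j) (b j) = ε)
    (hbo : ∀ j j', j ≠ j' → f₂ (b j) (b j') = 0) (hf₁ : Cfsg.Geo.IsSymplecticForm f₁)
    (x x' : Fin n₁ → F) (hx : x ≠ 0) (hx' : x' ≠ 0) (j : Fin 3)
    (hmem : T e P x (b 0) + T e P x' (b 1) ∈ blk₂ e P (b j)) : False := by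
  obtain ⟨u, hu⟩ := (mem_blk₂ e P).mp hmem
  by_cases hj : j = 1
  · subst hj
    obtain ⟨-, y, hy⟩ := hf₁.nondegenerate x hx
    have h1 : Cfsg.sympForm m F (T e P x (b 0) + T e P x' (b 1)) (T e P y (b 0)) =
        c * (f₁ x y * ε) := by
      rw [← om_eq, om_add_left, om_eq, om_eq, hpol, hpol, hbn, hbo 1 0 (by decide)]
      ring
    rw [← hu, hpol, hbo 1 0 (by decide), mul_zero, mul_zero] at h1
    exact mul_ne_zero hc (mul_ne_zero hy hε) h1.symm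
  · obtain ⟨-, y, hy⟩ := hf₁.nondegenerate x' hx'
    have h1 : Cfsg.sympForm m F (T e P x (b 0) + T e P x' (b 1)) (T e P y (b 1)) =
        c * (f₁ x' y * ε) := by
      rw [← om_eq, om_add_left, om_eq, om_eq, hpol, hpol, hbn, hbo 0 1 (by decide)]
      ring
    rw [← hu, hpol, hbo j 1 hj, mul_zero, mul_zero] at h1
    exact mul_ne_zero hc (mul_ne_zero hy hε) h1.symm

/-- a transvection in a vector of `F^{n₁} ⊗ (b_0 + b_1)` does not permute the blocks -/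
theorem g2_not_mem (hc : c ≠ 0)
    (hpol : ∀ w w' u u', Cfsg.sympForm m F (T e P w u) (T e P w' u') = c * (f₁ w w' * f₂ u u'))
    {ε : F} (hε : ε ≠ 0) (b : Fin 3 → (Fin 3 → F)) (hbn : ∀ j, f₂ (b j) (b j) = ε)
    (hbo : ∀ j j', j ≠ j' → f₂ (b j) (b j') = 0) (hf₂ : Cfsg.Geo.IsBilinearForm f₂)
    (hf₁ : Cfsg.Geo.IsSymplecticForm f₁)
    (w₀ w₀' : Fin n₁ → F) (hw : f₁ w₀ w₀' ≠ 0) :
    toGL (Tg (T e P w₀ (b 0 + b 1)) 1) ∉
      Cfsg.Geo.decompositionStabilizer (fun i => blk₂ e P (b i)) := by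
  rintro ⟨σ, hσ⟩
  have hw₀ : w₀ ≠ 0 := by
    intro h0
    apply hw
    rw [h0]; exact bil_zero_left hf₁.bilinear _
  have hs0 : f₂ (b 0 + b 1) (b 0) = ε := by
    rw [hf₂.add_left, hbn, hbo 1 0 (by decide), add_zero]
  obtain ⟨lam, hlam⟩ : ∃ lam : F, lam = c * (f₁ w₀ w₀' * ε) := ⟨_, rfl⟩
  have hlam0 : lam ≠ 0 := by rw [hlam]; exact mul_ne_zero hc (mul_ne_zero hw hε)
  have E1 : ((toGL (Tg (T e P w₀ (b 0 + b 1)) 1) : GL (Fin m ⊕ Fin m) F) :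
      Matrix (Fin m ⊕ Fin m) (Fin m ⊕ Fin m) F) *ᵥ T e P w₀' (b 0) =
      T e P (w₀' + lam • w₀) (b 0) + T e P (lam • w₀) (b 1) := by
    rw [transv_T e P hpol, hs0, one_mul, ← hlam, T_add_right, T_add_left, T_smul_left, T_smul_left,
      smul_add]
    abel
  have hm : T e P (w₀' + lam • w₀) (b 0) + T e P (lam • w₀) (b 1) ∈ blk₂ e P (b (σ 0)) := by
    have := hσ 0
    simp only at this
    rw [← this]
    refine ⟨T e P w₀' (b 0), T_mem_blk₂ e P _ _, ?_⟩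
    rw [Matrix.toLin'_apply, E1]
  refine two_blocks e P hc hpol hε b hbn hbo hf₁ _ _ ?_ (smul_ne_zero hlam0 hw₀) (σ 0) hm
  intro h0
  have h1 : f₁ w₀ (w₀' + lam • w₀) = f₁ w₀ w₀' := by
    rw [hf₁.bilinear.add_right, hf₁.bilinear.smul_right, hf₁.alternating, mul_zero, add_zero]
  rw [h0, bil_zero_right hf₁.bilinear] at h1
  exact hw h1.symm

/-- **Non-maximality of the tensor product stabiliser `Sp_{n₁}(3) ⊗ O_3(3)` in `Sp`.** -/
theorem tensor_sp_not_maximal (hq : Fintype.card F = 3) (hn₁ : 0 < n₁)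
    (hf₁ : Cfsg.Geo.IsSymplecticForm f₁) (hf₂ : Cfsg.Geo.IsSymmetricForm f₂)
    (hT : Cfsg.Geo.IsTensorFormStructure id (Cfsg.sympForm m F) f₁ f₂ e P) :
    ∃ K : Subgroup (GL (Fin m ⊕ Fin m) F),
      Cfsg.Geo.tensorProductSubgroup n₁ 3 e P ⊓ Cfsg.spGL m F < K ∧ K < Cfsg.spGL m F := by
  obtain ⟨c, hc, hTc⟩ := hT
  have hpol : ∀ w w' u u', Cfsg.sympForm m F (T e P w u) (T e P w' u') = c * (f₁ w w' * f₂ u u') := by
    intro w w' u u'
    unfold Cfsg.Agent.Helper28.TON.T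
    rw [tau_apply, tau_apply, hTc, formOfGram_ten hf₁.bilinear hf₂.bilinear]
  obtain ⟨ε, b, hε, hbn, hbo, hbsp, hbcls⟩ := exists_frame3 hq hf₂
  obtain ⟨w₀, hw₀⟩ := nonzero_of_pos (F := F) hn₁
  obtain ⟨-, w₀', hw⟩ := hf₁.nondegenerate w₀ hw₀
  refine ⟨Cfsg.Geo.decompositionStabilizer (fun i => blk₂ e P (b i)) ⊓ Cfsg.spGL m F,
    lt_of_le_of_ne (le_inf ?_ inf_le_right) ?_, lt_of_le_of_ne inf_le_right ?_⟩
  · exact tensor_le_stab e P hq hn₁ hc hf₁ hf₂ hpol hε b hbn hbo hbsp hbcls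
  · intro heq
    have hmem : toGL (Tg (T e P w₀ (b 0)) 1) ∈
        Cfsg.Geo.decompositionStabilizer (fun i => blk₂ e P (b i)) ⊓ Cfsg.spGL m F :=
      ⟨transv_mem_stab e P hpol b hbo w₀ 1, toGL_mem _⟩
    rw [← heq] at hmem
    exact g1_not_mem e P hc hpol hε b hbn hbo hf₂.bilinear hf₁ w₀ w₀' hw hmem.1
  · intro heq
    have hmem : toGL (Tg (T e P w₀ (b 0 + b 1)) 1) ∈ Cfsg.spGL m F := toGL_mem _
    rw [← heq] at hmem
    exact g2_not_mem e P hc hpol hε b hbn hbo hf₂.bilinear hf₁ w₀ w₀' hw hmem.1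

end main

end Cfsg.Agent.Helper28.TSN
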