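import Mathlib
import Cfsg.Prelude.Def_GeometricClasses
import Cfsg.Agent.Helper28.TensOrthNM
import Cfsg.Agent.Helper28.TensNM
import Cfsg.Agent.Helper28.TensSpNM
import Cfsg.Agent.Helper28.OrthMax3

set_option autoImplicit false

/-! Non-maximality in `Ω⁺_{2n₂}(2)` of the stabiliser of a tensor decomposition `Sp_2(2) ⊗ Sp_{n₂}(2)`:
it normalises the cyclic group of order three generated by `A₀ ⊗ 1`. -/

namespace Cfsg.Agent.Helper28.TS2

open Matrix Kronecker Module Cfsg.Agent.Helper28.TD Cfsg.Agent.Helper28.TON Cfsg.Agent.Helper28.Sg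
  Cfsg.Agent.Helper28.OM Cfsg.Agent.Helper28.TensNM Cfsg.Agent.Helper28.OFN

section phi

variable {F : Type*} [Field F] {ι : Type} [Fintype ι] [DecidableEq ι] {n₁ n₂ : ℕ}
  (e : ι ≃ Fin n₁ × Fin n₂) (P : GL ι F)

/-- transport of `GL (Fin n₁ × Fin n₂)` to `GL ι` through `e` and `P` -/
noncomputable def Phi : GL (Fin n₁ × Fin n₂) F ≃* GL ι F :=
  (Cfsg.Geo.glReindex e.symm).trans (MulAut.conj P)

theorem Phi_mulVec (k : GL (Fin n₁ × Fin n₂) F) (x : Fin n₁ × Fin n₂ → F) :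
    ((Phi e P k : GL ι F) : Matrix ι ι F) *ᵥ tau e P x =
      tau e P ((k : Matrix (Fin n₁ × Fin n₂) (Fin n₁ × Fin n₂) F) *ᵥ x) := by
  rw [tau_apply, tau_apply]
  show ((P * (Cfsg.Geo.glReindex e.symm k) * P⁻¹ : GL ι F) : Matrix ι ι F) *ᵥ _ = _
  rw [Matrix.mulVec_mulVec, ← Units.val_mul, inv_mul_cancel_right, Units.val_mul,
    ← Matrix.mulVec_mulVec]
  congr 1
  have hval : ((Cfsg.Geo.glReindex e.symm k : GL ι F) : Matrix ι ι F) =
      (k : Matrix (Fin n₁ × Fin n₂) (Fin n₁ × Fin n₂) F).submatrix e e := by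
    rfl
  rw [hval, Matrix.submatrix_mulVec_equiv]
  congr 2
  funext p
  simp

theorem tensor_eq_map : Cfsg.Geo.tensorProductSubgroup n₁ n₂ e P =
    (Cfsg.Geo.kroneckerSubgroup n₁ n₂ F).map (Phi e P).toMonoidHom := by
  unfold Cfsg.Geo.tensorProductSubgroup
  rw [Subgroup.map_map]
  rfl

/-- two matrices agreeing on the transported pure tensors are equal -/
theorem ext_T {M₁ M₂ : Matrix ι ι F}
    (h : ∀ (y : Fin n₁ → F) (w : Fin n₂ → F), M₁ *ᵥ T e P y w = M₂ *ᵥ T e P y w) : M₁ = M₂ := by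
  apply Matrix.toLin'.injective
  apply LinearMap.ext
  intro v
  obtain ⟨x, rfl⟩ := tau_surjective e P v
  have hx : x = ∑ p : Fin n₁ × Fin n₂, x p • ten (Pi.single p.1 (1 : F)) (Pi.single p.2 (1 : F)) := by
    funext p'
    rw [Finset.sum_apply, Finset.sum_eq_single p']
    · simp [ten_apply]
    · intro p _ hp
      simp only [Pi.smul_apply, ten_apply, smul_eq_mul, Pi.single_apply]
      by_cases h1 : p'.1 = p.1
      · by_cases h2 : p'.2 = p.2
        · exact absurd (Prod.ext h1 h2).symm hp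
        · rw [if_neg h2]; ring
      · rw [if_neg h1]; ring
    · intro h; exact absurd (Finset.mem_univ p') h
  rw [hx, map_sum, map_sum, map_sum]
  apply Finset.sum_congr rfl
  intro p _
  rw [map_smul, map_smul, map_smul, Matrix.toLin'_apply, Matrix.toLin'_apply]
  congr 1
  exact h _ _

end phi

section two

variable {F : Type*} [Field F] [Fintype F]

theorem add_self2 (hq : Fintype.card F = 2) (x : F) : x + x = 0 := by
  have h := Cfsg.Agent.Helper28.SpMax.one_add_one_of_card hq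
  linear_combination x * h

theorem neg_eq2 (hq : Fintype.card F = 2) (x : F) : -x = x := by
  have h := add_self2 hq x
  linear_combination -h

theorem eq_one2 (hq : Fintype.card F = 2) {x : F} (hx : x ≠ 0) : x = 1 := by
  rcases Cfsg.Agent.Helper28.SpMax.eq_zero_or_one_of_card hq x with h | h
  · exact absurd h hx
  · exact h

theorem add_self_vec (hq : Fintype.card F = 2) {κ : Type*} (x : κ → F) : x + x = 0 := by
  funext i
  exact add_self2 hq (x i)

/-- the first basis vector of `F²` -/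
def d0 : Fin 2 → F := ![1, 0]
/-- the second basis vector of `F²` -/
def d1 : Fin 2 → F := ![0, 1]

theorem vec2_eq (y : Fin 2 → F) : y = y 0 • (d0 : Fin 2 → F) + y 1 • d1 := by
  funext i
  fin_cases i <;> simp [d0, d1]

/-- a symplectic form on `F_2²` in coordinates -/
theorem f1_coord (hq : Fintype.card F = 2) {f₁ : (Fin 2 → F) → (Fin 2 → F) → F}
    (hf₁ : Cfsg.Geo.IsSymplecticForm f₁) (y y' : Fin 2 → F) :
    f₁ y y' = y 0 * y' 1 + y 1 * y' 0 := by
  have hd0 : (d0 : Fin 2 → F) ≠ 0 := by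
    intro h
    have := congrFun h 0
    simp [d0] at this
  obtain ⟨-, x, hx⟩ := hf₁.nondegenerate d0 hd0
  have h01 : f₁ d0 d1 = 1 := by
    apply eq_one2 hq
    intro h0
    apply hx
    rw [vec2_eq x, hf₁.bilinear.add_right, hf₁.bilinear.smul_right, hf₁.bilinear.smul_right,
      hf₁.alternating, h0]
    ring
  have h10 : f₁ d1 d0 = 1 := by
    rw [hf₁.skew, h01, neg_eq2 hq]
  rw [vec2_eq y, vec2_eq y']
  simp only [hf₁.bilinear.add_left, hf₁.bilinear.add_right, hf₁.bilinear.smul_left,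
    hf₁.bilinear.smul_right, hf₁.alternating, h01, h10]
  simp [d0, d1]

theorem A0_mulVec (hq : Fintype.card F = 2) (y : Fin 2 → F) :
    (A0 : Matrix (Fin 2) (Fin 2) F) *ᵥ y = ![y 1, y 0 + y 1] := by
  funext i
  fin_cases i
  · simp [A0, Matrix.mulVec, dotProduct, Fin.sum_univ_two, neg_eq2 hq]
  · simp [A0, Matrix.mulVec, dotProduct, Fin.sum_univ_two, neg_eq2 hq]

theorem A0_d0 (hq : Fintype.card F = 2) : (A0 : Matrix (Fin 2) (Fin 2) F) *ᵥ d0 = d1 := by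
  rw [A0_mulVec hq]
  funext i
  fin_cases i <;> simp [d0, d1]

theorem A0_d1 (hq : Fintype.card F = 2) : (A0 : Matrix (Fin 2) (Fin 2) F) *ᵥ d1 = d0 + d1 := by
  rw [A0_mulVec hq]
  funext i
  fin_cases i <;> simp [d0, d1]

theorem A0i_d0 (hq : Fintype.card F = 2) : (A0i : Matrix (Fin 2) (Fin 2) F) *ᵥ d0 = d0 + d1 := by
  funext i
  fin_cases i
  · simp [A0i, d0, d1, Matrix.mulVec, dotProduct, Fin.sum_univ_two, neg_eq2 hq]
  · simp [A0i, d0, d1, Matrix.mulVec, dotProduct, Fin.sum_univ_two, neg_eq2 hq]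

end two

section vectors

variable {F : Type*} [Field F] [Fintype F] {n₂ : ℕ}

/-- the auxiliary vectors in the second factor -/
theorem exists_vectors (hq : Fintype.card F = 2) (h2 : 2 < n₂)
    {f₂ : (Fin n₂ → F) → (Fin n₂ → F) → F} (hf₂ : Cfsg.Geo.IsSymplecticForm f₂) :
    ∃ u u' w₀ : Fin n₂ → F, f₂ u u' = 0 ∧ (∀ α β : F, α • u + β • u' = 0 → α = 0 ∧ β = 0) ∧
      f₂ u w₀ = 1 ∧ f₂ u' w₀ = 1 := by
  classical
  have hsym : ∀ x y, f₂ x y = f₂ y x := fun x y => by rw [hf₂.skew, neg_eq2 hq]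
  obtain ⟨u, hu⟩ : ∃ u : Fin n₂ → F, u ≠ 0 := by
    refine ⟨Pi.single (⟨0, by omega⟩ : Fin n₂) (1 : F), ?_⟩
    intro h0
    have := congrFun h0 ⟨0, by omega⟩
    simp at this
  obtain ⟨-, p, hp⟩ := hf₂.nondegenerate u hu
  have hp1 : f₂ u p = 1 := eq_one2 hq hp
  have hlt : Submodule.span F ({u, p} : Set (Fin n₂ → F)) ≠ ⊤ := by
    intro htop
    have h1 := finrank_span_finset_le_card (R := F) ({u, p} : Finset (Fin n₂ → F))
    have h3 : ({u, p} : Finset (Fin n₂ → F)).card ≤ 2 := Finset.card_le_two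
    rw [Finset.coe_insert, Finset.coe_singleton] at h1
    unfold Set.finrank at h1
    rw [htop, finrank_top, Module.finrank_fin_fun] at h1
    omega
  obtain ⟨r, hr⟩ : ∃ r : Fin n₂ → F, r ∉ Submodule.span F ({u, p} : Set (Fin n₂ → F)) := by
    by_contra hcon
    push Not at hcon
    exact hlt (eq_top_iff.mpr (fun x _ => hcon x))
  have huS : u ∈ Submodule.span F ({u, p} : Set (Fin n₂ → F)) := Submodule.subset_span (by simp)
  have hpS : p ∈ Submodule.span F ({u, p} : Set (Fin n₂ → F)) := Submodule.subset_span (by simp)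
  obtain ⟨u', hu'⟩ : ∃ u' : Fin n₂ → F, u' = r + f₂ u r • p := ⟨_, rfl⟩
  have huu' : f₂ u u' = 0 := by
    rw [hu', hf₂.bilinear.add_right, hf₂.bilinear.smul_right, hp1, mul_one]
    exact add_self2 hq _
  have hind : ∀ α β : F, α • u + β • u' = 0 → α = 0 ∧ β = 0 := by
    intro α β hab
    have hβ : β = 0 := by
      by_contra hβ
      have hβ1 := eq_one2 hq hβ
      rw [hβ1, one_smul, hu'] at hab
      apply hr
      have : r = -(α • u) - f₂ u r • p := by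
        have h := hab
        rw [← add_assoc] at h
        have h' : r = -(α • u) - f₂ u r • p := by
          rw [eq_sub_iff_add_eq, eq_neg_iff_add_eq_zero]
          rw [← h]; abel
        exact h'
      rw [this]
      exact Submodule.sub_mem _ (Submodule.neg_mem _ (Submodule.smul_mem _ _ huS))
        (Submodule.smul_mem _ _ hpS)
    subst hβ
    rw [zero_smul, add_zero] at hab
    rcases smul_eq_zero.mp hab with h | h
    · exact ⟨h, rfl⟩
    · exact absurd h hu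
  have hu'0 : u' ≠ 0 := by
    intro h0
    have := (hind 0 1 (by rw [zero_smul, one_smul, zero_add]; exact h0)).2
    exact one_ne_zero this
  obtain ⟨-, p₂, hp₂⟩ := hf₂.nondegenerate u' hu'0
  have hp₂1 : f₂ u' p₂ = 1 := eq_one2 hq hp₂
  refine ⟨u, u', ?_⟩
  by_cases ha : f₂ u' p = 1
  · exact ⟨p, huu', hind, hp1, ha⟩
  · by_cases hb : f₂ u p₂ = 1
    · exact ⟨p₂, huu', hind, hb, hp₂1⟩
    · have ha0 : f₂ u' p = 0 := by
        rcases Cfsg.Agent.Helper28.SpMax.eq_zero_or_one_of_card hq (f₂ u' p) with h | h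
        · exact h
        · exact absurd h ha
      have hb0 : f₂ u p₂ = 0 := by
        rcases Cfsg.Agent.Helper28.SpMax.eq_zero_or_one_of_card hq (f₂ u p₂) with h | h
        · exact h
        · exact absurd h hb
      refine ⟨p + p₂, huu', hind, ?_, ?_⟩
      · rw [hf₂.bilinear.add_right, hp1, hb0, add_zero]
      · rw [hf₂.bilinear.add_right, ha0, hp₂1, zero_add]

end vectors

section main

variable {F : Type*} [Field F] [Fintype F] {ι : Type} [Fintype ι] [DecidableEq ι] {n₂ : ℕ}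
  (Q : QuadraticForm F (ι → F)) (e : ι ≃ Fin 2 × Fin n₂) (P : GL ι F)
  {f₁ : (Fin 2 → F) → (Fin 2 → F) → F} {f₂ : (Fin n₂ → F) → (Fin n₂ → F) → F}

/-- the element `A₀ ⊗ 1` transported to `GL ι` -/
noncomputable def Z : GL ι F := Phi e P (Cfsg.Agent.Helper28.TensNM.J n₂)

theorem J_val' : ((Cfsg.Agent.Helper28.TensNM.J n₂ : GL (Fin 2 × Fin n₂) F) : Matrix (Fin 2 × Fin n₂) (Fin 2 × Fin n₂) F) =
    (A0 : Matrix (Fin 2) (Fin 2) F) ⊗ₖ (1 : Matrix (Fin n₂) (Fin n₂) F) := by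
  unfold Cfsg.Agent.Helper28.TensNM.J
  rw [BD_val, Matrix.kronecker_one]
  rfl

theorem Jinv_val' : (((Cfsg.Agent.Helper28.TensNM.J n₂)⁻¹ : GL (Fin 2 × Fin n₂) F) : Matrix (Fin 2 × Fin n₂) (Fin 2 × Fin n₂) F) =
    (A0i : Matrix (Fin 2) (Fin 2) F) ⊗ₖ (1 : Matrix (Fin n₂) (Fin n₂) F) := by
  rw [Cfsg.Agent.Helper28.TensNM.J_inv, BD_val, Matrix.kronecker_one]
  rfl

theorem Z_T (y : Fin 2 → F) (w : Fin n₂ → F) :
    ((Z e P : GL ι F) : Matrix ι ι F) *ᵥ T e P y w = T e P ((A0 : Matrix (Fin 2) (Fin 2) F) *ᵥ y) w := by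
  unfold Z Cfsg.Agent.Helper28.TON.T
  rw [Phi_mulVec, J_val', kron_mulVec_ten, Matrix.one_mulVec]

theorem Zinv_T (y : Fin 2 → F) (w : Fin n₂ → F) :
    (((Z e P)⁻¹ : GL ι F) : Matrix ι ι F) *ᵥ T e P y w =
      T e P ((A0i : Matrix (Fin 2) (Fin 2) F) *ᵥ y) w := by
  unfold Z Cfsg.Agent.Helper28.TON.T
  rw [← map_inv, Phi_mulVec, Jinv_val', kron_mulVec_ten, Matrix.one_mulVec]

/-- a Siegel element in characteristic two, second vector singular -/
theorem rho_apply (hq : Fintype.card F = 2) (a b : ι → F) (ha : Q a = 0) (hab : B Q a b = 0)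
    (hb : Q b = 0) (x : ι → F) :
    mt Q (siegO Q a b ha hab) *ᵥ x = x + B Q a x • b + B Q b x • a := by
  rw [siegO_mulVec, hb, zero_mul, zero_smul, sub_zero, sub_eq_add_neg, ← neg_smul, neg_eq2 hq]

theorem siegO_mem_omegaGL (hQ : (QuadraticMap.polarBilin Q).Nondegenerate)
    (hn : 8 ≤ Fintype.card ι) (a b : ι → F) (ha : Q a = 0) (hab : B Q a b = 0) :
    ((siegO Q a b ha hab : ↥(Cfsg.isometryGroup F ⇑Q)) : GL ι F) ∈ Cfsg.Geo.omegaGL ⇑Q := by
  obtain ⟨fr⟩ := exists_frame3 hQ hn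
  exact (Cfsg.Agent.Helper28.NM.mem_omegaGL_iff Q _).mpr
    ⟨_, S_le_Omega hQ fr (siegO_mem_S Q a b ha hab), rfl⟩

/-- the polar form on transported pure tensors, in coordinates -/
theorem pol_coord (hq : Fintype.card F = 2) (hf₁ : Cfsg.Geo.IsSymplecticForm f₁)
    (hpol : ∀ y y' w w', B Q (T e P y w) (T e P y' w') = f₁ y y' * f₂ w w')
    (y y' : Fin 2 → F) (w w' : Fin n₂ → F) :
    B Q (T e P y w) (T e P y' w') = (y 0 * y' 1 + y 1 * y' 0) * f₂ w w' := by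
  rw [hpol, f1_coord hq hf₁]

/-- singularity of the vectors `v = T d0 u + T d1 u'` and `Z v` -/
theorem v_props (hq : Fintype.card F = 2) (hf₁ : Cfsg.Geo.IsSymplecticForm f₁)
    (hf₂ : Cfsg.Geo.IsSymplecticForm f₂)
    (hpol : ∀ y y' w w', B Q (T e P y w) (T e P y' w') = f₁ y y' * f₂ w w')
    (hpure : ∀ y w, Q (T e P y w) = 0) (u u' : Fin n₂ → F) (huu' : f₂ u u' = 0) :
    Q (T e P d0 u + T e P d1 u') = 0 ∧ Q (T e P d1 u + T e P (d0 + d1) u') = 0 ∧
      B Q (T e P d0 u + T e P d1 u') (T e P d1 u + T e P (d0 + d1) u') = 0 := by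
  have hu'u : f₂ u' u = 0 := by rw [hf₂.skew, huu', neg_zero]
  refine ⟨?_, ?_, ?_⟩
  · rw [Q_add, hpure, hpure, hpol, huu', mul_zero]; ring
  · rw [Q_add, hpure, hpure, hpol, huu', mul_zero]; ring
  · rw [B_add_left', B_add_right', B_add_right', hpol, hpol, hpol, hpol, hf₂.alternating,
      hf₂.alternating, huu', hu'u]
    ring

/-- the action of the first Siegel element on transported pure tensors -/
theorem rho1_T (hq : Fintype.card F = 2) (hf₁ : Cfsg.Geo.IsSymplecticForm f₁)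
    (hpol : ∀ y y' w w', B Q (T e P y w) (T e P y' w') = f₁ y y' * f₂ w w')
    (u u' : Fin n₂ → F) (hv : Q (T e P d0 u + T e P d1 u') = 0)
    (hv' : Q (T e P d1 u + T e P (d0 + d1) u') = 0)
    (hvv' : B Q (T e P d0 u + T e P d1 u') (T e P d1 u + T e P (d0 + d1) u') = 0)
    (y : Fin 2 → F) (w : Fin n₂ → F) :
    mt Q (siegO Q _ _ hv hvv') *ᵥ T e P y w =
      T e P y w + (y 1 * f₂ u w + y 0 * f₂ u' w) • (T e P d1 u + T e P (d0 + d1) u') +
        (y 0 * f₂ u w + (y 0 + y 1) * f₂ u' w) • (T e P d0 u + T e P d1 u') := by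
  rw [rho_apply Q hq _ _ hv hvv' hv', B_add_left', B_add_left', pol_coord Q e P hq hf₁ hpol,
    pol_coord Q e P hq hf₁ hpol, pol_coord Q e P hq hf₁ hpol, pol_coord Q e P hq hf₁ hpol]
  have h00 : (d0 : Fin 2 → F) 0 = 1 := rfl
  have h01 : (d0 : Fin 2 → F) 1 = 0 := rfl
  have h10 : (d1 : Fin 2 → F) 0 = 0 := rfl
  have h11 : (d1 : Fin 2 → F) 1 = 1 := rfl
  have e1 : ((d0 : Fin 2 → F) 0 * y 1 + (d0 : Fin 2 → F) 1 * y 0) * f₂ u w +
      ((d1 : Fin 2 → F) 0 * y 1 + (d1 : Fin 2 → F) 1 * y 0) * f₂ u' w =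
      y 1 * f₂ u w + y 0 * f₂ u' w := by
    rw [h00, h01, h10, h11]; ring
  have e2 : ((d1 : Fin 2 → F) 0 * y 1 + (d1 : Fin 2 → F) 1 * y 0) * f₂ u w +
      (((d0 : Fin 2 → F) + (d1 : Fin 2 → F)) 0 * y 1 +
        ((d0 : Fin 2 → F) + (d1 : Fin 2 → F)) 1 * y 0) * f₂ u' w =
      y 0 * f₂ u w + (y 0 + y 1) * f₂ u' w := by
    rw [Pi.add_apply, Pi.add_apply, h00, h01, h10, h11]; ring
  rw [e1, e2]

theorem Z_v (hq : Fintype.card F = 2) (u u' : Fin n₂ → F) :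
    ((Z e P : GL ι F) : Matrix ι ι F) *ᵥ (T e P d0 u + T e P d1 u') =
      T e P d1 u + T e P (d0 + d1) u' := by
  rw [Matrix.mulVec_add, Z_T, Z_T, A0_d0 hq, A0_d1 hq]

theorem Z_v' (hq : Fintype.card F = 2) (u u' : Fin n₂ → F) :
    ((Z e P : GL ι F) : Matrix ι ι F) *ᵥ (T e P d1 u + T e P (d0 + d1) u') =
      (T e P d0 u + T e P d1 u') + (T e P d1 u + T e P (d0 + d1) u') := by
  rw [Matrix.mulVec_add, Z_T, Z_T, Matrix.mulVec_add, A0_d0 hq, A0_d1 hq]
  simp only [T_add_left]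
  have := add_self_vec hq (T e P d1 u')
  calc T e P d0 u + T e P d1 u + (T e P d1 u' + (T e P d0 u' + T e P d1 u'))
      = T e P d0 u + T e P d1 u + T e P d0 u' + (T e P d1 u' + T e P d1 u') := by abel
    _ = T e P d0 u + T e P d1 u' + (T e P d1 u + (T e P d0 u' + T e P d1 u')) := by
        rw [this]; 
        have h2 : T e P d1 u' + (T e P d1 u') = 0 := this
        calc T e P d0 u + T e P d1 u + T e P d0 u' + 0
            = T e P d0 u + (T e P d1 u' + T e P d1 u') + (T e P d1 u + T e P d0 u') := by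
              rw [h2]; abel
          _ = T e P d0 u + T e P d1 u' + (T e P d1 u + (T e P d0 u' + T e P d1 u')) := by abel

/-- the first Siegel element commutes with `Z` -/
theorem rho1_comm (hq : Fintype.card F = 2) (hf₁ : Cfsg.Geo.IsSymplecticForm f₁)
    (hpol : ∀ y y' w w', B Q (T e P y w) (T e P y' w') = f₁ y y' * f₂ w w')
    (u u' : Fin n₂ → F) (hv : Q (T e P d0 u + T e P d1 u') = 0)
    (hv' : Q (T e P d1 u + T e P (d0 + d1) u') = 0)
    (hvv' : B Q (T e P d0 u + T e P d1 u') (T e P d1 u + T e P (d0 + d1) u') = 0) :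
    ((siegO Q _ _ hv hvv' : ↥(Cfsg.isometryGroup F ⇑Q)) : GL ι F) * Z e P =
      Z e P * ((siegO Q _ _ hv hvv' : ↥(Cfsg.isometryGroup F ⇑Q)) : GL ι F) := by
  apply Units.ext
  rw [Units.val_mul, Units.val_mul]
  apply ext_T e P
  intro y w
  rw [← Matrix.mulVec_mulVec, ← Matrix.mulVec_mulVec, Z_T]
  have r1 := rho1_T Q e P hq hf₁ hpol u u' hv hv' hvv' y w
  have r2 := rho1_T Q e P hq hf₁ hpol u u' hv hv' hvv' ((A0 : Matrix (Fin 2) (Fin 2) F) *ᵥ y) w
  show mt Q _ *ᵥ _ = _ *ᵥ (mt Q _ *ᵥ _)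
  rw [r1, r2, Matrix.mulVec_add, Matrix.mulVec_add, Matrix.mulVec_smul, Matrix.mulVec_smul, Z_T,
    Z_v e P hq, Z_v' e P hq, A0_mulVec hq]
  obtain ⟨a, ha⟩ : ∃ a, a = T e P d0 u + T e P d1 u' := ⟨_, rfl⟩
  obtain ⟨b, hb⟩ : ∃ b, b = T e P d1 u + T e P (d0 + d1) u' := ⟨_, rfl⟩
  rw [← ha, ← hb]
  have h0 : (![y 1, y 0 + y 1] : Fin 2 → F) 0 = y 1 := rfl
  have h1 : (![y 1, y 0 + y 1] : Fin 2 → F) 1 = y 0 + y 1 := rfl
  rw [h0, h1]
  have e1 : (y 0 + y 1) * f₂ u w + y 1 * f₂ u' w =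
      (y 1 * f₂ u w + y 0 * f₂ u' w) + (y 0 * f₂ u w + (y 0 + y 1) * f₂ u' w) := by
    linear_combination (-(y 0 * f₂ u' w)) * Cfsg.Agent.Helper28.SpMax.one_add_one_of_card hq
  have e2 : y 1 * f₂ u w + (y 1 + (y 0 + y 1)) * f₂ u' w = y 1 * f₂ u w + y 0 * f₂ u' w := by
    linear_combination (y 1 * f₂ u' w) * Cfsg.Agent.Helper28.SpMax.one_add_one_of_card hq
  rw [e1, e2, smul_add, add_smul]
  abel

/-- the first Siegel element lies in the transported normaliser -/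
theorem rho1_mem (hq : Fintype.card F = 2) (hf₁ : Cfsg.Geo.IsSymplecticForm f₁)
    (hpol : ∀ y y' w w', B Q (T e P y w) (T e P y' w') = f₁ y y' * f₂ w w')
    (u u' : Fin n₂ → F) (hv : Q (T e P d0 u + T e P d1 u') = 0)
    (hv' : Q (T e P d1 u + T e P (d0 + d1) u') = 0)
    (hvv' : B Q (T e P d0 u + T e P d1 u') (T e P d1 u + T e P (d0 + d1) u') = 0) :
    ((siegO Q _ _ hv hvv' : ↥(Cfsg.isometryGroup F ⇑Q)) : GL ι F) ∈
      (Kp (F := F) n₂).map (Phi e P).toMonoidHom := by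
  refine ⟨(Phi e P).symm _, ?_, MulEquiv.apply_symm_apply _ _⟩
  show (Phi e P).symm _ ∈ Kp n₂
  rw [mem_Kp]
  left
  apply (Phi e P).injective
  rw [map_mul, map_mul, map_inv, MulEquiv.apply_symm_apply, mul_inv_eq_iff_eq_mul]
  exact rho1_comm Q e P hq hf₁ hpol u u' hv hv' hvv'

/-- the first Siegel element does not lie in the tensor product subgroup -/
theorem rho1_not_mem (hq : Fintype.card F = 2) (hf₁ : Cfsg.Geo.IsSymplecticForm f₁)
    (hf₂ : Cfsg.Geo.IsSymplecticForm f₂)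
    (hpol : ∀ y y' w w', B Q (T e P y w) (T e P y' w') = f₁ y y' * f₂ w w')
    (u u' w₀ : Fin n₂ → F) (huu' : f₂ u u' = 0)
    (hind : ∀ α β : F, α • u + β • u' = 0 → α = 0 ∧ β = 0)
    (hw₀ : f₂ u w₀ = 1) (hw₀' : f₂ u' w₀ = 1)
    (hv : Q (T e P d0 u + T e P d1 u') = 0)
    (hv' : Q (T e P d1 u + T e P (d0 + d1) u') = 0)
    (hvv' : B Q (T e P d0 u + T e P d1 u') (T e P d1 u + T e P (d0 + d1) u') = 0) :
    ((siegO Q _ _ hv hvv' : ↥(Cfsg.isometryGroup F ⇑Q)) : GL ι F) ∉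
      Cfsg.Geo.tensorProductSubgroup 2 n₂ e P := by
  intro hmem
  obtain ⟨a, b', hab⟩ := exists_of_mem_tensor' e P _ hmem
  have h11 := Cfsg.Agent.Helper28.SpMax.one_add_one_of_card hq
  have r1 := rho1_T Q e P hq hf₁ hpol u u' hv hv' hvv' d0 w₀
  have h00 : (d0 : Fin 2 → F) 0 = 1 := rfl
  have h01 : (d0 : Fin 2 → F) 1 = 0 := rfl
  rw [h00, h01, hw₀, hw₀'] at r1
  have hc1 : (0 : F) * 1 + 1 * 1 = 1 := by ring
  have hc2 : (1 : F) * 1 + (1 + 0) * 1 = 0 := by linear_combination h11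
  rw [hc1, hc2, one_smul, zero_smul, add_zero] at r1
  have h2 := (hab d0 w₀).symm.trans r1
  -- coordinates
  obtain ⟨y', hy'⟩ : ∃ y' : Fin 2 → F, y' = (a : Matrix (Fin 2) (Fin 2) F) *ᵥ d0 := ⟨_, rfl⟩
  obtain ⟨w', hw'⟩ : ∃ w' : Fin n₂ → F, w' = (b' : Matrix (Fin n₂) (Fin n₂) F) *ᵥ w₀ := ⟨_, rfl⟩
  rw [← hy', ← hw'] at h2
  have h3 : ten y' w' = ten (d0 : Fin 2 → F) w₀ + (ten d1 u + ten (d0 + d1) u') := by
    apply tau_injective e P
    rw [map_add, map_add]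
    exact h2
  have k0 : ∀ l, y' 0 * w' l = w₀ l + u' l := by
    intro l
    have := congrFun h3 (0, l)
    simp only [Pi.add_apply, ten_apply] at this
    rw [this]
    simp [d0, d1]
  have k1 : ∀ l, y' 1 * w' l = u l + u' l := by
    intro l
    have := congrFun h3 (1, l)
    simp only [Pi.add_apply, ten_apply] at this
    rw [this]
    simp [d0, d1]
  have h4 : y' 1 • (w₀ + u') = y' 0 • (u + u') := by
    funext l
    simp only [Pi.smul_apply, Pi.add_apply, smul_eq_mul]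
    rw [← k0 l, ← k1 l]
    ring
  have hu'u : f₂ u' u = 0 := by rw [hf₂.skew, huu', neg_zero]
  have hw₀u : f₂ w₀ u = 1 := by rw [hf₂.skew, hw₀, neg_eq2 hq]
  have h5 := congrArg (fun x => f₂ x u) h4
  simp only [hf₂.bilinear.smul_left, hf₂.bilinear.add_left, hf₂.alternating, hu'u, hw₀u] at h5
  have hy1 : y' 1 = 0 := by linear_combination h5
  have h6 : u + u' = 0 := by
    funext l
    rw [Pi.add_apply, ← k1 l, hy1, zero_mul]
    rfl
  have := (hind 1 1 (by rw [one_smul, one_smul]; exact h6)).1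
  exact one_ne_zero this

/-- the action of the second Siegel element on transported pure tensors -/
theorem rho2_T (hq : Fintype.card F = 2) (hf₁ : Cfsg.Geo.IsSymplecticForm f₁)
    (hpol : ∀ y y' w w', B Q (T e P y w) (T e P y' w') = f₁ y y' * f₂ w w')
    (u u' : Fin n₂ → F) (ha : Q (T e P d0 u) = 0) (hb : Q (T e P d0 u') = 0)
    (hab : B Q (T e P d0 u) (T e P d0 u') = 0) (y : Fin 2 → F) (w : Fin n₂ → F) :
    mt Q (siegO Q _ _ ha hab) *ᵥ T e P y w =
      T e P y w + (y 1 * f₂ u w) • T e P d0 u' + (y 1 * f₂ u' w) • T e P d0 u := by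
  rw [rho_apply Q hq _ _ ha hab hb, pol_coord Q e P hq hf₁ hpol, pol_coord Q e P hq hf₁ hpol]
  have h00 : (d0 : Fin 2 → F) 0 = 1 := rfl
  have h01 : (d0 : Fin 2 → F) 1 = 0 := rfl
  rw [h00, h01]
  have e1 : ∀ c : F, (1 * y 1 + 0 * y 0) * c = y 1 * c := fun c => by ring
  rw [e1, e1]

/-- the second Siegel element does not normalise `⟨Z⟩` -/
theorem rho2_not_mem (hq : Fintype.card F = 2) (hf₁ : Cfsg.Geo.IsSymplecticForm f₁)
    (hf₂ : Cfsg.Geo.IsSymplecticForm f₂)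
    (hpol : ∀ y y' w w', B Q (T e P y w) (T e P y' w') = f₁ y y' * f₂ w w')
    (u u' w₀ : Fin n₂ → F) (huu' : f₂ u u' = 0)
    (hind : ∀ α β : F, α • u + β • u' = 0 → α = 0 ∧ β = 0)
    (hw₀ : f₂ u w₀ = 1)
    (ha : Q (T e P d0 u) = 0) (hb : Q (T e P d0 u') = 0)
    (hab : B Q (T e P d0 u) (T e P d0 u') = 0) :
    ((siegO Q _ _ ha hab : ↥(Cfsg.isometryGroup F ⇑Q)) : GL ι F) ∉
      (Kp (F := F) n₂).map (Phi e P).toMonoidHom := by
  rintro ⟨k, hk, hkg⟩
  have hd0 : (d0 : Fin 2 → F) ≠ 0 := by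
    intro h
    have := congrFun h 0
    simp [d0] at this
  have hT0 : ∀ x : Fin n₂ → F, T e P d0 x = 0 → x = 0 := by
    intro x hx
    apply Cfsg.Agent.Helper28.TSN.T_inj_right e P hd0
    rw [hx, ← zero_smul F (0 : Fin n₂ → F), T_smul_right, zero_smul]
  have h00 : (d0 : Fin 2 → F) 0 = 1 := rfl
  have h01 : (d0 : Fin 2 → F) 1 = 0 := rfl
  have h10 : (d1 : Fin 2 → F) 0 = 0 := rfl
  have h11 : (d1 : Fin 2 → F) 1 = 1 := rfl
  have hfix : ∀ w, mt Q (siegO Q _ _ ha hab) *ᵥ T e P d0 w = T e P d0 w := by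
    intro w
    rw [rho2_T Q e P hq hf₁ hpol u u' ha hb hab, h01, zero_mul, zero_mul, zero_smul, zero_smul,
      add_zero, add_zero]
  have hmove : ∀ w, mt Q (siegO Q _ _ ha hab) *ᵥ T e P d1 w =
      T e P d1 w + (f₂ u w) • T e P d0 u' + (f₂ u' w) • T e P d0 u := by
    intro w
    rw [rho2_T Q e P hq hf₁ hpol u u' ha hb hab, h11, one_mul, one_mul]
  have hk' : k ∈ Kp n₂ := hk
  rw [mem_Kp] at hk'
  have hkg' : Phi e P k = ((siegO Q _ _ ha hab : ↥(Cfsg.isometryGroup F ⇑Q)) : GL ι F) := hkg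
  rcases hk' with hk | hk
  · -- commuting case
    have h1 : ((siegO Q _ _ ha hab : ↥(Cfsg.isometryGroup F ⇑Q)) : GL ι F) * Z e P =
        Z e P * ((siegO Q _ _ ha hab : ↥(Cfsg.isometryGroup F ⇑Q)) : GL ι F) := by
      rw [← hkg', ← mul_inv_eq_iff_eq_mul]
      unfold Z
      rw [← map_inv, ← map_mul, ← map_mul, hk]
    have h2 := congrArg (fun g : GL ι F => (g : Matrix ι ι F) *ᵥ T e P d0 w₀) h1
    simp only [Units.val_mul, ← Matrix.mulVec_mulVec] at h2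
    rw [Z_T, A0_d0 hq] at h2
    have h3 : mt Q (siegO Q _ _ ha hab) *ᵥ T e P d1 w₀ =
        ((Z e P : GL ι F) : Matrix ι ι F) *ᵥ (mt Q (siegO Q _ _ ha hab) *ᵥ T e P d0 w₀) := h2
    rw [hfix, hmove, Z_T, A0_d0 hq, hw₀, one_smul, ← T_smul_right, add_assoc, ← T_add_right] at h3
    have h4 : T e P d0 (u' + f₂ u' w₀ • u) = 0 := by
      have : T e P d1 w₀ + T e P d0 (u' + f₂ u' w₀ • u) = T e P d1 w₀ + 0 := by rw [add_zero]; exact h3
      exact add_left_cancel this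
    have h5 := hT0 _ h4
    have := (hind (f₂ u' w₀) 1 (by rw [one_smul, add_comm]; exact h5)).2
    exact one_ne_zero this
  · -- inverting case
    have h1 : ((siegO Q _ _ ha hab : ↥(Cfsg.isometryGroup F ⇑Q)) : GL ι F) * Z e P =
        (Z e P)⁻¹ * ((siegO Q _ _ ha hab : ↥(Cfsg.isometryGroup F ⇑Q)) : GL ι F) := by
      rw [← hkg', ← mul_inv_eq_iff_eq_mul]
      unfold Z
      rw [← map_inv, ← map_inv, ← map_mul, ← map_mul, hk]
    have h2 := congrArg (fun g : GL ι F => (g : Matrix ι ι F) *ᵥ T e P d0 u) h1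
    simp only [Units.val_mul, ← Matrix.mulVec_mulVec] at h2
    rw [Z_T, A0_d0 hq] at h2
    have h3 : mt Q (siegO Q _ _ ha hab) *ᵥ T e P d1 u =
        (((Z e P)⁻¹ : GL ι F) : Matrix ι ι F) *ᵥ (mt Q (siegO Q _ _ ha hab) *ᵥ T e P d0 u) := h2
    have hu'u : f₂ u' u = 0 := by rw [hf₂.skew, huu', neg_zero]
    rw [hfix, hmove, Zinv_T, A0i_d0 hq, hf₂.alternating, hu'u, zero_smul, zero_smul, add_zero,
      add_zero, T_add_left] at h3
    have h4 : T e P d0 u = 0 := by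
      have : T e P d0 u + T e P d1 u = 0 + T e P d1 u := by rw [zero_add]; exact h3.symm
      exact add_right_cancel this
    have h5 := hT0 _ h4
    have := (hind 1 0 (by rw [one_smul, zero_smul, add_zero]; exact h5)).1
    exact one_ne_zero this

/-- **Non-maximality of the tensor product stabiliser `Sp_2(2) ⊗ Sp_{n₂}(2)` in `Ω⁺`.** -/
theorem tensor_sp2_not_maximal (hQ : (QuadraticMap.polarBilin Q).Nondegenerate)
    (hn : 8 ≤ Fintype.card ι) (hq : Fintype.card F = 2) (h2 : 2 < n₂)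
    (hf₁ : Cfsg.Geo.IsSymplecticForm f₁) (hf₂ : Cfsg.Geo.IsSymplecticForm f₂)
    (hT : Cfsg.Geo.IsTensorFormStructure id (QuadraticMap.polar ⇑Q) f₁ f₂ e P)
    (hpure : ∀ (x₁ : Fin 2 → F) (x₂ : Fin n₂ → F),
      Q ((P : Matrix ι ι F) *ᵥ ((fun a : Fin 2 × Fin n₂ => x₁ a.1 * x₂ a.2) ∘ e)) = 0) :
    ∃ K : Subgroup (GL ι F), Cfsg.Geo.tensorProductSubgroup 2 n₂ e P ⊓ Cfsg.Geo.omegaGL ⇑Q < K ∧
      K < Cfsg.Geo.omegaGL ⇑Q := by
  obtain ⟨c, hc, hTc⟩ := hT
  have hc1 : c = 1 := eq_one2 hq hc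
  have hpol : ∀ y y' w w', B Q (T e P y w) (T e P y' w') = f₁ y y' * f₂ w w' := by
    intro y y' w w'
    unfold Cfsg.Agent.Helper28.TON.T
    rw [tau_apply, tau_apply]
    show QuadraticMap.polar ⇑Q _ _ = _
    rw [hTc, formOfGram_ten hf₁.bilinear hf₂.bilinear, hc1, one_mul]
  have hpure' : ∀ y w, Q (T e P y w) = 0 := by
    intro y w
    unfold Cfsg.Agent.Helper28.TON.T
    rw [tau_apply]
    exact hpure y w
  obtain ⟨u, u', w₀, huu', hind, hw₀, hw₀'⟩ := exists_vectors hq h2 hf₂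
  obtain ⟨hv, hv', hvv'⟩ := v_props Q e P hq hf₁ hf₂ hpol hpure' u u' huu'
  have hab : B Q (T e P d0 u) (T e P d0 u') = 0 := by
    rw [hpol, hf₁.alternating, zero_mul]
  refine ⟨(Kp (F := F) n₂).map (Phi e P).toMonoidHom ⊓ Cfsg.Geo.omegaGL ⇑Q,
    lt_of_le_of_ne (le_inf ?_ inf_le_right) ?_, lt_of_le_of_ne inf_le_right ?_⟩
  · rw [tensor_eq_map]
    exact inf_le_left.trans (Subgroup.map_mono (kron_le_Kp n₂ hq))
  · intro heq
    have hmem : ((siegO Q _ _ hv hvv' : ↥(Cfsg.isometryGroup F ⇑Q)) : GL ι F) ∈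
        (Kp (F := F) n₂).map (Phi e P).toMonoidHom ⊓ Cfsg.Geo.omegaGL ⇑Q :=
      ⟨rho1_mem Q e P hq hf₁ hpol u u' hv hv' hvv', siegO_mem_omegaGL Q hQ hn _ _ hv hvv'⟩
    rw [← heq] at hmem
    exact rho1_not_mem Q e P hq hf₁ hf₂ hpol u u' w₀ huu' hind hw₀ hw₀' hv hv' hvv' hmem.1
  · intro heq
    have hmem := siegO_mem_omegaGL Q hQ hn _ _ (hpure' d0 u) hab
    rw [← heq] at hmem
    exact rho2_not_mem Q e P hq hf₁ hf₂ hpol u u' w₀ huu' hind hw₀ (hpure' d0 u) (hpure' d0 u')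
      hab hmem.1

end main

end Cfsg.Agent.Helper28.TS2
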