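import Mathlib
import Cfsg.Prelude.Def_GeometricClasses
import Cfsg.Agent.Helper28.TensSpNM
import Cfsg.Agent.Helper28.UnitDecompNM

set_option autoImplicit false

/-! Non-maximality in `SU_{2n₂}(2)` of the stabiliser of a tensor decomposition `U_2(2) ⊗ U_{n₂}(2)`:
it stabilises the decomposition of the space into the two blocks `b_i ⊗ F^{n₂}` for an orthonormal
basis `b` of the first factor. -/

namespace Cfsg.Agent.Helper28.TUN

open Matrix Kronecker Module Cfsg.Agent.Helper28.TD Cfsg.Agent.Helper28.TON Cfsg.Agent.Helper28.TSN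
  Cfsg.Agent.S2644 Cfsg.Agent.Helper2.SUGen Cfsg.Agent.Helper28.UM

section uf

variable {K : Type*} [Field K] {q : ℕ} {κ : Type} [Fintype κ] [DecidableEq κ]
  {f : (κ → K) → (κ → K) → K} (D : Frob K q) (hf : Cfsg.Geo.IsUnitaryFormPow q f)

include D hf

theorem uf_conj (x y : κ → K) : D.σ (f y x) = f x y := by
  rw [D.pow]; exact (hf.herm x y).symm

theorem uf_add_right (x y y' : κ → K) : f x (y + y') = f x y + f x y' := by
  rw [← uf_conj D hf, hf.add_left, map_add, uf_conj D hf, uf_conj D hf]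

theorem uf_smul_right (c : K) (x y : κ → K) : f x (c • y) = D.σ c * f x y := by
  rw [← uf_conj D hf, hf.smul_left, map_mul, uf_conj D hf]

omit D in
theorem uf_zero_left (y : κ → K) : f 0 y = 0 := by
  have := hf.smul_left 0 0 y
  rwa [zero_smul, zero_mul] at this

theorem uf_zero_right (x : κ → K) : f x 0 = 0 := by
  have := uf_smul_right D hf 0 x 0
  rwa [zero_smul, map_zero, zero_mul] at this

theorem uf_symm_zero {x y : κ → K} (hxy : f x y = 0) : f y x = 0 := by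
  rw [← uf_conj D hf, hxy, map_zero]

theorem uf_self_fix (x : κ → K) : D.σ (f x x) = f x x := uf_conj D hf x x

theorem uf_sum_left {α : Type*} (s : Finset α) (c : α → K) (v : α → κ → K) (y : κ → K) :
    f (∑ a ∈ s, c a • v a) y = ∑ a ∈ s, c a * f (v a) y := by
  classical
  induction s using Finset.induction_on with
  | empty => simp only [Finset.sum_empty]; exact uf_zero_left hf y
  | insert a s ha ih =>
    rw [Finset.sum_insert ha, Finset.sum_insert ha, hf.add_left, hf.smul_left, ih]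

theorem uf_sum_right {α : Type*} (s : Finset α) (c : α → K) (v : α → κ → K) (x : κ → K) :
    f x (∑ a ∈ s, c a • v a) = ∑ a ∈ s, D.σ (c a) * f x (v a) := by
  classical
  induction s using Finset.induction_on with
  | empty => simp only [Finset.sum_empty]; exact uf_zero_right D hf x
  | insert a s ha ih =>
    rw [Finset.sum_insert ha, Finset.sum_insert ha, uf_add_right D hf, uf_smul_right D hf, ih]

/-- a unitary form is given by its Gram matrix -/
theorem uf_eq_gram (x y : κ → K) :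
    f x y = ∑ a, ∑ b, x a * Cfsg.Geo.gramMatrix f a b * (y b) ^ q := by
  conv_lhs => rw [pi_eq_sum_single x, uf_sum_left D hf]
  apply Finset.sum_congr rfl
  intro a _
  conv_lhs => rw [pi_eq_sum_single y, uf_sum_right D hf, Finset.mul_sum]
  apply Finset.sum_congr rfl
  intro b _
  unfold Cfsg.Geo.gramMatrix
  rw [D.pow]
  ring

end uf

section gram

variable {K : Type*} [Field K] {q : ℕ} {n₁ n₂ : ℕ}

/-- the sesquilinear tensor form on pure tensors -/
theorem formOfGram_ten_sesq (D : Frob K q) {f₁ : (Fin n₁ → K) → (Fin n₁ → K) → K}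
    {f₂ : (Fin n₂ → K) → (Fin n₂ → K) → K} (hf₁ : Cfsg.Geo.IsUnitaryFormPow q f₁)
    (hf₂ : Cfsg.Geo.IsUnitaryFormPow q f₂) (u u' : Fin n₁ → K) (w w' : Fin n₂ → K) :
    Cfsg.Geo.formOfGram (fun x : K => x ^ q)
      (Cfsg.Geo.gramMatrix f₁ ⊗ₖ Cfsg.Geo.gramMatrix f₂) (ten u w) (ten u' w') =
      f₁ u u' * f₂ w w' := by
  rw [uf_eq_gram D hf₁, uf_eq_gram D hf₂]
  unfold Cfsg.Geo.formOfGram
  rw [Fintype.sum_prod_type, Finset.sum_mul_sum]
  apply Finset.sum_congr rfl
  intro a _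
  apply Finset.sum_congr rfl
  intro k _
  rw [Fintype.sum_prod_type, Finset.sum_mul_sum]
  apply Finset.sum_congr rfl
  intro b _
  apply Finset.sum_congr rfl
  intro l _
  simp only [ten_apply, Matrix.kroneckerMap_apply]
  ring

end gram

section onb

variable {K : Type*} [Field K] [Fintype K] (D : Frob K 2)

include D

theorem uf_norm_one {κ : Type} [Fintype κ] [DecidableEq κ] {f : (κ → K) → (κ → K) → K}
    (hf : Cfsg.Geo.IsUnitaryFormPow 2 f) {v : κ → K} (hv : f v v ≠ 0) : f v v = 1 := by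
  have h1 : D.σ (f v v) = f v v := uf_self_fix D hf v
  rw [D.pow] at h1
  have h2 : f v v * (f v v - 1) = 0 := by linear_combination h1
  rcases mul_eq_zero.mp h2 with h3 | h3
  · exact absurd h3 hv
  · exact sub_eq_zero.mp h3

theorem uf_self_add_smul {κ : Type} [Fintype κ] [DecidableEq κ] {f : (κ → K) → (κ → K) → K}
    (hf : Cfsg.Geo.IsUnitaryFormPow 2 f) (z y : κ → K) (l : K) :
    f (z + l • y) (z + l • y) = f z z + D.σ l * f z y + l * f y z + l * D.σ l * f y y := by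
  simp only [hf.add_left, hf.smul_left, uf_add_right D hf, uf_smul_right D hf]
  ring

theorem uf_exists_aniso {κ : Type} [Fintype κ] [DecidableEq κ] {f : (κ → K) → (κ → K) → K}
    (hf : Cfsg.Geo.IsUnitaryFormPow 2 f) (a : κ → K) (ha : a ≠ 0) : ∃ y, f y y ≠ 0 := by
  obtain ⟨-, x, hax⟩ := hf.nondegenerate a ha
  by_cases h1 : f a a = 0
  · by_cases h2 : f x x = 0
    · obtain ⟨t, ht⟩ := exists_trace_ne D
      have hσβ : D.σ (f a x) ≠ 0 := σ_ne_zero D hax
      have h31 : f x a = D.σ (f a x) := (uf_conj D hf x a).symm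
      have e1 : D.σ (t / D.σ (f a x)) * f a x = D.σ t := by
        rw [map_div₀, D.invol, div_mul_cancel₀ _ hax]
      have e2 : t / D.σ (f a x) * D.σ (f a x) = t := div_mul_cancel₀ _ hσβ
      refine ⟨a + (t / D.σ (f a x)) • x, ?_⟩
      rw [uf_self_add_smul D hf, h1, h2, h31, e1, e2, mul_zero, add_zero, zero_add, add_comm]
      exact ht
    · exact ⟨x, h2⟩
  · exact ⟨a, h1⟩

theorem nonzero_of_pos' {n : ℕ} (hn : 0 < n) : ∃ w : Fin n → K, w ≠ 0 := by
  refine ⟨Pi.single (⟨0, hn⟩ : Fin n) (1 : K), ?_⟩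
  intro h0
  have := congrFun h0 ⟨0, hn⟩
  simp at this

/-- a non-zero vector orthogonal to a given one, in dimension at least two -/
theorem uf_exists_perp {n : ℕ} (hn : 2 ≤ n) {f : (Fin n → K) → (Fin n → K) → K}
    (hf : Cfsg.Geo.IsUnitaryFormPow 2 f) (a : Fin n → K) : ∃ b : Fin n → K, b ≠ 0 ∧ f b a = 0 := by
  let φ : (Fin n → K) →ₗ[K] K :=
    { toFun := fun x => f x a
      map_add' := fun x y => hf.add_left _ _ _
      map_smul' := fun c x => hf.smul_left _ _ _ }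
  have hker : 0 < finrank K (LinearMap.ker φ) := by
    have h1 := LinearMap.finrank_range_add_finrank_ker φ
    have h2 : finrank K (LinearMap.range φ) ≤ 1 := by
      have := Submodule.finrank_le (LinearMap.range φ)
      simpa using this
    rw [Module.finrank_fin_fun] at h1
    omega
  have hkne : LinearMap.ker φ ≠ ⊥ := by
    intro h0
    rw [h0, finrank_bot] at hker
    omega
  obtain ⟨b, hbker, hb⟩ := (Submodule.ne_bot_iff _).mp hkne
  exact ⟨b, hb, hbker⟩

/-- a non-zero isotropic vector in dimension at least two over `F_4` -/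
theorem uf_exists_isotropic (hK : Fintype.card K = 4) {n : ℕ} (hn : 2 ≤ n)
    {f : (Fin n → K) → (Fin n → K) → K} (hf : Cfsg.Geo.IsUnitaryFormPow 2 f) :
    ∃ y : Fin n → K, y ≠ 0 ∧ f y y = 0 := by
  obtain ⟨w₁, hw₁⟩ := nonzero_of_pos' D (K := K) (n := n) (by omega)
  by_cases h1 : f w₁ w₁ = 0
  · exact ⟨w₁, hw₁, h1⟩
  obtain ⟨w₂, hw₂, h21⟩ := uf_exists_perp D hn hf w₁
  by_cases h2 : f w₂ w₂ = 0
  · exact ⟨w₂, hw₂, h2⟩
  have h12 : f w₁ w₂ = 0 := uf_symm_zero D hf h21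
  refine ⟨w₁ + w₂, ?_, ?_⟩
  · intro h0
    have : f (w₁ + w₂) w₁ = 0 := by rw [h0]; exact uf_zero_left hf _
    rw [hf.add_left, h21, add_zero] at this
    exact h1 this
  · rw [hf.add_left, uf_add_right D hf, uf_add_right D hf, h12, h21, uf_norm_one D hf h1,
      uf_norm_one D hf h2]
    simp only [add_zero, zero_add]
    exact one_add_one_four hK

/-- an orthonormal basis of a unitary plane over `F_4`; the anisotropic vectors are the multiples of
the basis vectors -/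
theorem exists_onb2 (hK : Fintype.card K = 4) {f : (Fin 2 → K) → (Fin 2 → K) → K}
    (hf : Cfsg.Geo.IsUnitaryFormPow 2 f) :
    ∃ b : Fin 2 → (Fin 2 → K), (∀ j, f (b j) (b j) = 1) ∧ (∀ j j', j ≠ j' → f (b j) (b j') = 0) ∧
      (∀ v, f v v ≠ 0 → ∃ (j : Fin 2) (s : K), s ≠ 0 ∧ v = s • b j) := by
  classical
  obtain ⟨a, ha⟩ := nonzero_of_pos' D (K := K) (n := 2) (by norm_num)
  obtain ⟨e, hee⟩ := uf_exists_aniso D hf a ha
  have hee1 := uf_norm_one D hf hee
  obtain ⟨b', hb0, hbe⟩ := uf_exists_perp D le_rfl hf e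
  have heb : f e b' = 0 := uf_symm_zero D hf hbe
  have hli : LinearIndependent K ![e, b'] := by
    rw [LinearIndependent.pair_iff]
    intro s t hst
    have h1 : f (s • e + t • b') e = 0 := by rw [hst]; exact uf_zero_left hf _
    rw [hf.add_left, hf.smul_left, hf.smul_left, hbe, hee1, mul_zero, add_zero, mul_one] at h1
    subst h1
    rw [zero_smul, zero_add] at hst
    rcases smul_eq_zero.mp hst with h2 | h2
    · exact ⟨rfl, h2⟩
    · exact absurd h2 hb0
  have hspan : Submodule.span K (Set.range ![e, b']) = ⊤ := by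
    apply Submodule.eq_top_of_finrank_eq
    rw [finrank_span_eq_card hli, Module.finrank_fin_fun]
    simp
  have hdec : ∀ v : Fin 2 → K, ∃ α β : K, v = α • e + β • b' := by
    intro v
    have : v ∈ Submodule.span K (Set.range ![e, b']) := by
      rw [hspan]; trivial
    obtain ⟨c, hc⟩ := (Submodule.mem_span_range_iff_exists_fun K).mp this
    rw [Fin.sum_univ_two] at hc
    exact ⟨c 0, c 1, by simpa using hc.symm⟩
  have hbb : f b' b' ≠ 0 := by
    intro hbb
    obtain ⟨-, y, hby⟩ := hf.nondegenerate b' hb0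
    obtain ⟨α, β, rfl⟩ := hdec y
    apply hby
    rw [uf_add_right D hf, uf_smul_right D hf, uf_smul_right D hf, hbe, hbb, mul_zero, mul_zero,
      add_zero]
  have hbb1 := uf_norm_one D hf hbb
  refine ⟨![e, b'], ?_, ?_, ?_⟩
  · intro j
    fin_cases j
    · exact hee1
    · exact hbb1
  · intro j j' hjj'
    fin_cases j <;> fin_cases j'
    · exact absurd rfl hjj'
    · exact heb
    · exact hbe
    · exact absurd rfl hjj'
  · intro v hv
    obtain ⟨α, β, rfl⟩ := hdec v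
    have hnorm : f (α • e + β • b') (α • e + β • b') = α * D.σ α + β * D.σ β := by
      simp only [hf.add_left, hf.smul_left, uf_add_right D hf, uf_smul_right D hf, hee1, hbb1, heb,
        hbe]
      ring
    by_cases hα : α = 0
    · by_cases hβ : β = 0
      · exfalso
        apply hv
        rw [hα, hβ, zero_smul, zero_smul, add_zero]
        exact uf_zero_left hf _
      · exact ⟨1, β, hβ, by rw [hα, zero_smul, zero_add]; rfl⟩
    · by_cases hβ : β = 0
      · exact ⟨0, α, hα, by rw [hβ, zero_smul, add_zero]; rfl⟩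
      · exfalso
        apply hv
        rw [hnorm, smul_norm D hK hα, smul_norm D hK hβ]
        exact one_add_one_four hK

end onb

section main

variable {K : Type*} [Field K] [Fintype K] {n n₂ : ℕ} (D : Frob K 2)
  (e : Fin n ≃ Fin 2 × Fin n₂) (P : GL (Fin n) K)
  {f₁ : (Fin 2 → K) → (Fin 2 → K) → K} {f₂ : (Fin n₂ → K) → (Fin n₂ → K) → K} {c : K}

local notation "h" => Cfsg.hermForm n K 2

include D in
theorem hc1 (hK : Fintype.card K = 4) : (1 : K) + D.σ 1 + h (0 : Fin n → K) 0 = 0 := by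
  rw [map_one, h_zero_left, add_zero]; exact one_add_one_four hK

/-- the unitary transvection `z ↦ z + h(z, w) w` in an isotropic vector -/
noncomputable def tv (hK : Fintype.card K = 4) (w : Fin n → K) (hww : h w w = 0) : GL (Fin n) K :=
  SgG D w 0 1 hww (h_zero_left w) (hc1 D hK)

theorem tv_apply (hK : Fintype.card K = 4) (w : Fin n → K) (hww : h w w = 0) (z : Fin n → K) :
    ((tv D hK w hww : GL (Fin n) K) : Matrix (Fin n) (Fin n) K) *ᵥ z = z + h z w • w := by
  unfold tv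
  rw [SgG_val, Sg_mulVec, h_zero_right D, one_mul]
  simp

theorem tv_mem (hK : Fintype.card K = 4) (w : Fin n → K) (hww : h w w = 0) :
    tv D hK w hww ∈ Cfsg.GU n K 2 ⊓ Cfsg.Geo.specialLinear (Fin n) K := by
  unfold tv
  refine (mem_G_iff _).mpr ⟨?_, ?_⟩
  · rw [SgG_val]; exact Sg_pres D w 0 1 hww (h_zero_left w) (hc1 D hK)
  · rw [SgG_val]; exact Sg_det D w 0 1 hww (h_zero_left w)

theorem tv_invol (hK : Fintype.card K = 4) (w : Fin n → K) (hww : h w w = 0) (z : Fin n → K) :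
    ((tv D hK w hww : GL (Fin n) K) : Matrix (Fin n) (Fin n) K) *ᵥ
      (((tv D hK w hww : GL (Fin n) K) : Matrix (Fin n) (Fin n) K) *ᵥ z) = z := by
  rw [tv_apply, tv_apply, h_add_left, h_smul_left, hww, mul_zero, add_zero, add_assoc, ← add_smul]
  have : h z w + h z w = 0 := by
    have h2 := one_add_one_four hK
    linear_combination (h z w) * h2
  rw [this, zero_smul, add_zero]

/-- the action of a transvection in a transported pure tensor -/
theorem tv_T (hK : Fintype.card K = 4)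
    (hpol : ∀ u u' w w', h (T e P u w) (T e P u' w') = c * (f₁ u u' * f₂ w w'))
    (s u : Fin 2 → K) (y w : Fin n₂ → K) (hww : h (T e P s y) (T e P s y) = 0) :
    ((tv D hK (T e P s y) hww : GL (Fin n) K) : Matrix (Fin n) (Fin n) K) *ᵥ T e P u w =
      T e P u w + (c * (f₁ u s * f₂ w y)) • T e P s y := by
  rw [tv_apply, hpol]

include D

/-- elements of the tensor product subgroup that are isometries permute the blocks -/
theorem tensor_le_stab (hK : Fintype.card K = 4) (hn₂ : 0 < n₂) (hc : c ≠ 0)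
    (hf₁ : Cfsg.Geo.IsUnitaryFormPow 2 f₁) (hf₂ : Cfsg.Geo.IsUnitaryFormPow 2 f₂)
    (hpol : ∀ u u' w w', h (T e P u w) (T e P u' w') = c * (f₁ u u' * f₂ w w'))
    (b : Fin 2 → (Fin 2 → K)) (hbn : ∀ j, f₁ (b j) (b j) = 1)
    (hbo : ∀ j j', j ≠ j' → f₁ (b j) (b j') = 0)
    (hbcls : ∀ v, f₁ v v ≠ 0 → ∃ (j : Fin 2) (s : K), s ≠ 0 ∧ v = s • b j) :
    Cfsg.Geo.tensorProductSubgroup 2 n₂ e P ⊓ (Cfsg.GU n K 2 ⊓ Cfsg.Geo.specialLinear (Fin n) K) ≤
      Cfsg.Geo.decompositionStabilizer (fun i => blk e P (b i)) := by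
  rintro g ⟨hgH, hgU⟩
  obtain ⟨a, b', hab⟩ := exists_of_mem_tensor' e P g hgH
  have hgP := ((mem_G_iff g).mp hgU).1
  have hsim : ∀ w w' u u',
      f₂ ((b' : Matrix (Fin n₂) (Fin n₂) K) *ᵥ w) ((b' : Matrix (Fin n₂) (Fin n₂) K) *ᵥ w') *
      f₁ ((a : Matrix (Fin 2) (Fin 2) K) *ᵥ u) ((a : Matrix (Fin 2) (Fin 2) K) *ᵥ u') =
      f₂ w w' * f₁ u u' := by
    intro w w' u u'
    have h1 := hgP (T e P u w) (T e P u' w')
    rw [hab, hab, hpol, hpol] at h1
    have := mul_left_cancel₀ hc h1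
    linear_combination this
  obtain ⟨w₀, hw₀⟩ := nonzero_of_pos' D (K := K) hn₂
  obtain ⟨-, w₀', hw₀'⟩ := hf₂.nondegenerate w₀ hw₀
  obtain ⟨κ, hκ, hκa⟩ := factor_similarity_right f₂ f₁ _ _ hsim ⟨w₀, w₀', hw₀'⟩
    ⟨b 0, b 0, by rw [hbn]; exact one_ne_zero⟩
  have hκ1 : κ = 1 := by
    have h1 := hκa (b 0) (b 0)
    rw [hbn, mul_one] at h1
    have h2 : f₁ ((a : Matrix (Fin 2) (Fin 2) K) *ᵥ b 0) ((a : Matrix (Fin 2) (Fin 2) K) *ᵥ b 0) ≠ 0 := by
      rw [h1]; exact hκ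
    rw [← h1]
    exact uf_norm_one D hf₁ h2
  have hiso : ∀ u u', f₁ ((a : Matrix (Fin 2) (Fin 2) K) *ᵥ u) ((a : Matrix (Fin 2) (Fin 2) K) *ᵥ u') =
      f₁ u u' := by
    intro u u'; rw [hκa, hκ1, one_mul]
  have hperm : ∀ i, ∃ (j : Fin 2) (s : K), s ≠ 0 ∧
      (a : Matrix (Fin 2) (Fin 2) K) *ᵥ b i = s • b j := by
    intro i
    exact hbcls _ (by rw [hiso, hbn]; exact one_ne_zero)
  choose σ s hs hσ using hperm
  have hinj : Function.Injective σ := by
    intro i j hij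
    by_contra hne
    have h1 := hiso (b i) (b j)
    rw [hσ i, hσ j, hij, hf₁.smul_left, uf_smul_right D hf₁, hbn, hbo i j hne] at h1
    exact mul_ne_zero (hs i) (mul_ne_zero (σ_ne_zero D (hs j)) one_ne_zero) h1
  refine ⟨Equiv.ofBijective σ (Finite.injective_iff_bijective.mp hinj), fun i => ?_⟩
  rw [Equiv.ofBijective_apply]
  ext v
  constructor
  · rintro ⟨x, hx, rfl⟩
    obtain ⟨w, rfl⟩ := (mem_blk e P).mp hx
    rw [Matrix.toLin'_apply, hab, hσ i, T_smul_left, ← T_smul_right]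
    exact T_mem_blk e P _ _
  · intro hv
    obtain ⟨w, rfl⟩ := (mem_blk e P).mp hv
    refine ⟨T e P (b i) ((s i)⁻¹ • (((b'⁻¹ : GL (Fin n₂) K) : Matrix (Fin n₂) (Fin n₂) K) *ᵥ w)),
      T_mem_blk e P _ _, ?_⟩
    rw [Matrix.toLin'_apply, hab, hσ i, Matrix.mulVec_smul, Matrix.mulVec_mulVec, ← Units.val_mul,
      mul_inv_cancel, Units.val_one, Matrix.one_mulVec, T_smul_left, T_smul_right, smul_smul,
      mul_inv_cancel₀ (hs i), one_smul]

/-- a transvection in a vector of the block `b_0 ⊗ F^{n₂}` stabilises every block -/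
theorem tv_mem_stab (hK : Fintype.card K = 4)
    (hpol : ∀ u u' w w', h (T e P u w) (T e P u' w') = c * (f₁ u u' * f₂ w w'))
    (b : Fin 2 → (Fin 2 → K)) (hbo : ∀ j j', j ≠ j' → f₁ (b j) (b j') = 0)
    (y : Fin n₂ → K) (hww : h (T e P (b 0) y) (T e P (b 0) y) = 0) :
    tv D hK (T e P (b 0) y) hww ∈ Cfsg.Geo.decompositionStabilizer (fun i => blk e P (b i)) := by
  have hmaps : ∀ (i : Fin 2), ∀ x ∈ blk e P (b i),
      ((tv D hK (T e P (b 0) y) hww : GL (Fin n) K) : Matrix (Fin n) (Fin n) K) *ᵥ x ∈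
        blk e P (b i) := by
    intro i x hx
    obtain ⟨w, rfl⟩ := (mem_blk e P).mp hx
    rw [tv_T D e P hK hpol]
    by_cases hi : i = 0
    · subst hi
      rw [← T_smul_right, ← T_add_right]
      exact T_mem_blk e P _ _
    · rw [hbo i 0 hi, zero_mul, mul_zero, zero_smul, add_zero]
      exact T_mem_blk e P _ _
  refine ⟨1, fun i => ?_⟩
  rw [Equiv.Perm.coe_one, id]
  ext v
  constructor
  · rintro ⟨x, hx, rfl⟩
    rw [Matrix.toLin'_apply]
    exact hmaps i x hx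
  · intro hv'
    refine ⟨_, hmaps i v hv', ?_⟩
    rw [Matrix.toLin'_apply, tv_invol]

/-- a transvection in the block `b_0 ⊗ F^{n₂}` does not lie in the tensor product subgroup -/
theorem g1_not_mem (hK : Fintype.card K = 4) (hc : c ≠ 0)
    (hpol : ∀ u u' w w', h (T e P u w) (T e P u' w') = c * (f₁ u u' * f₂ w w'))
    (b : Fin 2 → (Fin 2 → K)) (hbn : ∀ j, f₁ (b j) (b j) = 1)
    (hbo : ∀ j j', j ≠ j' → f₁ (b j) (b j') = 0)
    (hf₁ : Cfsg.Geo.IsUnitaryFormPow 2 f₁) (hf₂ : Cfsg.Geo.IsUnitaryFormPow 2 f₂)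
    (y y' : Fin n₂ → K) (hyy : f₂ y y = 0) (hy'y : f₂ y' y ≠ 0)
    (hww : h (T e P (b 0) y) (T e P (b 0) y) = 0) :
    tv D hK (T e P (b 0) y) hww ∉ Cfsg.Geo.tensorProductSubgroup 2 n₂ e P := by
  intro hgH
  obtain ⟨a, b', hab⟩ := exists_of_mem_tensor' e P _ hgH
  have hy : y ≠ 0 := by
    intro h0
    apply hy'y
    rw [h0]; exact uf_zero_right D hf₂ _
  have hb1 : b 1 ≠ 0 := by
    intro h0
    have := hbn 1
    rw [h0, uf_zero_left hf₁] at this
    exact zero_ne_one this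
  have F1 : ∀ w, T e P ((a : Matrix (Fin 2) (Fin 2) K) *ᵥ b 1)
      ((b' : Matrix (Fin n₂) (Fin n₂) K) *ᵥ w) = T e P (b 1) w := by
    intro w
    rw [← hab, tv_T D e P hK hpol, hbo 1 0 (by decide), zero_mul, mul_zero, zero_smul, add_zero]
  have F2 : ∀ w, T e P ((a : Matrix (Fin 2) (Fin 2) K) *ᵥ b 0)
      ((b' : Matrix (Fin n₂) (Fin n₂) K) *ᵥ w) =
        T e P (b 0) w + (c * f₂ w y) • T e P (b 0) y := by
    intro w
    rw [← hab, tv_T D e P hK hpol, hbn, one_mul]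
  obtain ⟨k, hk⟩ : ∃ k, b 1 k ≠ 0 := by
    by_contra hcon
    push Not at hcon
    exact hb1 (funext hcon)
  obtain ⟨μ, hμ⟩ : ∃ μ : K, μ = ((a : Matrix (Fin 2) (Fin 2) K) *ᵥ b 1) k / b 1 k := ⟨_, rfl⟩
  have hscal : ∀ w : Fin n₂ → K, w = μ • ((b' : Matrix (Fin n₂) (Fin n₂) K) *ᵥ w) := by
    intro w
    funext l
    have := T_coord e P (F1 w) k l
    rw [Pi.smul_apply, smul_eq_mul, hμ]
    field_simp
    linear_combination -this
  have hby : (b' : Matrix (Fin n₂) (Fin n₂) K) *ᵥ y ≠ 0 := by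
    intro h0
    apply hy
    rw [hscal y, h0, smul_zero]
  have ha0 : (a : Matrix (Fin 2) (Fin 2) K) *ᵥ b 0 = μ • b 0 := by
    apply T_inj_left e P hby
    have := F2 y
    rw [hyy, mul_zero, zero_smul, add_zero] at this
    rw [this, T_smul_left, ← T_smul_right, ← hscal y]
  have h3 := F2 y'
  rw [ha0, T_smul_left, ← T_smul_right, ← hscal y'] at h3
  have h4 : (c * f₂ y' y) • T e P (b 0) y = 0 := by
    have : T e P (b 0) y' + 0 = T e P (b 0) y' + (c * f₂ y' y) • T e P (b 0) y := by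
      rw [add_zero]; exact h3
    exact (add_left_cancel this).symm
  have hcoef : c * f₂ y' y ≠ 0 := mul_ne_zero hc hy'y
  rcases smul_eq_zero.mp h4 with h5 | h5
  · exact hcoef h5
  · have h6 := hpol (b 0) (b 0) y' y
    rw [h5, h_zero_right D, hbn, one_mul] at h6
    exact hcoef h6.symm

/-- a vector with non-zero components in the two blocks lies in no block -/
theorem two_blocks (hc : c ≠ 0)
    (hpol : ∀ u u' w w', h (T e P u w) (T e P u' w') = c * (f₁ u u' * f₂ w w'))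
    (b : Fin 2 → (Fin 2 → K)) (hbn : ∀ j, f₁ (b j) (b j) = 1)
    (hbo : ∀ j j', j ≠ j' → f₁ (b j) (b j') = 0) (hf₂ : Cfsg.Geo.IsUnitaryFormPow 2 f₂)
    (x x' : Fin n₂ → K) (hx : x ≠ 0) (hx' : x' ≠ 0) (j : Fin 2)
    (hmem : T e P (b 0) x + T e P (b 1) x' ∈ blk e P (b j)) : False := by
  obtain ⟨u, hu⟩ := (mem_blk e P).mp hmem
  by_cases hj : j = 1
  · subst hj
    obtain ⟨-, y, hy⟩ := hf₂.nondegenerate x hx
    have h1 : h (T e P (b 0) x + T e P (b 1) x') (T e P (b 0) y) = c * f₂ x y := by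
      rw [h_add_left, hpol, hpol, hbn, hbo 1 0 (by decide)]
      ring
    rw [← hu, hpol, hbo 1 0 (by decide), zero_mul, mul_zero] at h1
    exact mul_ne_zero hc hy h1.symm
  · obtain ⟨-, y, hy⟩ := hf₂.nondegenerate x' hx'
    have h1 : h (T e P (b 0) x + T e P (b 1) x') (T e P (b 1) y) = c * f₂ x' y := by
      rw [h_add_left, hpol, hpol, hbn, hbo 0 1 (by decide)]
      ring
    rw [← hu, hpol, hbo j 1 hj, zero_mul, mul_zero] at h1
    exact mul_ne_zero hc hy h1.symm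

/-- a transvection in a vector of `(b_0 + b_1) ⊗ F^{n₂}` does not permute the blocks -/
theorem g2_not_mem (hK : Fintype.card K = 4) (hc : c ≠ 0)
    (hpol : ∀ u u' w w', h (T e P u w) (T e P u' w') = c * (f₁ u u' * f₂ w w'))
    (b : Fin 2 → (Fin 2 → K)) (hbn : ∀ j, f₁ (b j) (b j) = 1)
    (hbo : ∀ j j', j ≠ j' → f₁ (b j) (b j') = 0)
    (hf₁ : Cfsg.Geo.IsUnitaryFormPow 2 f₁) (hf₂ : Cfsg.Geo.IsUnitaryFormPow 2 f₂)
    (y y' : Fin n₂ → K) (hyy : f₂ y y = 0) (hy'y : f₂ y' y ≠ 0)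
    (hww : h (T e P (b 0 + b 1) y) (T e P (b 0 + b 1) y) = 0) :
    tv D hK (T e P (b 0 + b 1) y) hww ∉
      Cfsg.Geo.decompositionStabilizer (fun i => blk e P (b i)) := by
  rintro ⟨σ, hσ⟩
  have hy : y ≠ 0 := by
    intro h0
    apply hy'y
    rw [h0]; exact uf_zero_right D hf₂ _
  have hs0 : f₁ (b 0) (b 0 + b 1) = 1 := by
    rw [uf_add_right D hf₁, hbn, hbo 0 1 (by decide), add_zero]
  obtain ⟨lam, hlam⟩ : ∃ lam : K, lam = c * f₂ y' y := ⟨_, rfl⟩
  have hlam0 : lam ≠ 0 := by rw [hlam]; exact mul_ne_zero hc hy'y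
  have E1 : ((tv D hK (T e P (b 0 + b 1) y) hww : GL (Fin n) K) : Matrix (Fin n) (Fin n) K) *ᵥ
      T e P (b 0) y' = T e P (b 0) (y' + lam • y) + T e P (b 1) (lam • y) := by
    rw [tv_T D e P hK hpol, hs0, one_mul, ← hlam, T_add_left, T_add_right, T_smul_right,
      T_smul_right, smul_add]
    abel
  have hm : T e P (b 0) (y' + lam • y) + T e P (b 1) (lam • y) ∈ blk e P (b (σ 0)) := by
    have := hσ 0
    simp only at this
    rw [← this]
    refine ⟨T e P (b 0) y', T_mem_blk e P _ _, ?_⟩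
    rw [Matrix.toLin'_apply, E1]
  refine two_blocks D e P hc hpol b hbn hbo hf₂ _ _ ?_ (smul_ne_zero hlam0 hy) (σ 0) hm
  intro h0
  have h1 : f₂ (y' + lam • y) y = f₂ y' y := by
    rw [hf₂.add_left, hf₂.smul_left, hyy, mul_zero, add_zero]
  rw [h0, uf_zero_left hf₂] at h1
  exact hy'y h1.symm

/-- **Non-maximality of the tensor product stabiliser `U_2(2) ⊗ U_{n₂}(2)` in `SU`.** -/
theorem tensor_su_not_maximal (hK : Fintype.card K = 4) (hn₂ : 2 ≤ n₂)
    (hf₁ : Cfsg.Geo.IsUnitaryFormPow 2 f₁) (hf₂ : Cfsg.Geo.IsUnitaryFormPow 2 f₂)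
    (hT : Cfsg.Geo.IsTensorFormStructure (fun x : K => x ^ 2) (Cfsg.hermForm n K 2) f₁ f₂ e P) :
    ∃ Kg : Subgroup (GL (Fin n) K),
      Cfsg.Geo.tensorProductSubgroup 2 n₂ e P ⊓ (Cfsg.GU n K 2 ⊓ Cfsg.Geo.specialLinear (Fin n) K) < Kg ∧
      Kg < (Cfsg.GU n K 2 ⊓ Cfsg.Geo.specialLinear (Fin n) K) := by
  obtain ⟨c, hc, hTc⟩ := hT
  have hpol : ∀ u u' w w', h (T e P u w) (T e P u' w') = c * (f₁ u u' * f₂ w w') := by
    intro u u' w w'
    unfold Cfsg.Agent.Helper28.TON.T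
    rw [tau_apply, tau_apply, hTc, formOfGram_ten_sesq D hf₁ hf₂]
  obtain ⟨b, hbn, hbo, hbcls⟩ := exists_onb2 D hK hf₁
  obtain ⟨y, hy, hyy⟩ := uf_exists_isotropic D hK hn₂ hf₂
  obtain ⟨⟨y', hy'y⟩, -⟩ := hf₂.nondegenerate y hy
  have hww1 : h (T e P (b 0) y) (T e P (b 0) y) = 0 := by
    rw [hpol, hyy, mul_zero, mul_zero]
  have hww2 : h (T e P (b 0 + b 1) y) (T e P (b 0 + b 1) y) = 0 := by
    rw [hpol, hyy, mul_zero, mul_zero]
  refine ⟨Cfsg.Geo.decompositionStabilizer (fun i => blk e P (b i)) ⊓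
      (Cfsg.GU n K 2 ⊓ Cfsg.Geo.specialLinear (Fin n) K),
    lt_of_le_of_ne (le_inf ?_ inf_le_right) ?_, lt_of_le_of_ne inf_le_right ?_⟩
  · exact tensor_le_stab D e P hK (by omega) hc hf₁ hf₂ hpol b hbn hbo hbcls
  · intro heq
    have hmem : tv D hK (T e P (b 0) y) hww1 ∈
        Cfsg.Geo.decompositionStabilizer (fun i => blk e P (b i)) ⊓
          (Cfsg.GU n K 2 ⊓ Cfsg.Geo.specialLinear (Fin n) K) :=
      ⟨tv_mem_stab D e P hK hpol b hbo y hww1, tv_mem D hK _ hww1⟩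
    rw [← heq] at hmem
    exact g1_not_mem D e P hK hc hpol b hbn hbo hf₁ hf₂ y y' hyy hy'y hww1 hmem.1
  · intro heq
    have hmem := tv_mem D hK _ hww2
    rw [← heq] at hmem
    exact g2_not_mem D e P hK hc hpol b hbn hbo hf₁ hf₂ y y' hyy hy'y hww2 hmem.1

end main

end Cfsg.Agent.Helper28.TUN
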