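import Mathlib
import Cfsg.Prelude.Def_GeometricClasses
import Cfsg.Agent.Helper28.UnitMax

set_option autoImplicit false
set_option linter.unusedSectionVars false

/-! Geometry of nondegenerate subspaces of the standard Hermitian space. -/

namespace Cfsg.Agent.Helper28.UNM

open Matrix Module Cfsg.Agent.S2644 Cfsg.Agent.Helper2.SUGen Cfsg.Agent.Helper28.UM

variable {K : Type*} [Field K] {q n : ℕ}

local notation "h" => Cfsg.hermForm n K q

variable (D : Frob K q)

include D

theorem inter_zero {W : Submodule K (Fin n → K)} (hW : NonDeg q W) {x : Fin n → K} (hxW : x ∈ W)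
    (hxA : x ∈ perpL q W) : x = 0 := hW x hxW hxA

theorem dec_perp {W : Submodule K (Fin n → K)} (hW : NonDeg q W) :
    ∀ x : Fin n → K, ∃ w ∈ W, ∃ a ∈ perpL q W, x = w + a := by
  have h1 := Submodule.finrank_sup_add_finrank_inf_eq W (perpL q W)
  have h3 : W ⊓ perpL q W = ⊥ := by
    rw [eq_bot_iff]
    rintro x ⟨hxW, hxA⟩
    rw [Submodule.mem_bot]
    exact inter_zero D hW hxW hxA
  have h4 := finrank_perpL D W
  rw [h3, finrank_bot, add_zero] at h1
  have h2 : W ⊔ perpL q W = ⊤ := by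
    apply Submodule.eq_top_of_finrank_eq
    rw [h1, Module.finrank_fin_fun]; omega
  intro x
  have hx : x ∈ W ⊔ perpL q W := by rw [h2]; trivial
  obtain ⟨w, hw, a, ha, rfl⟩ := Submodule.mem_sup.mp hx
  exact ⟨w, hw, a, ha, rfl⟩

theorem nonDeg_perpL {W : Submodule K (Fin n → K)} (hW : NonDeg q W) : NonDeg q (perpL q W) := by
  intro y hy hall
  have h1 : y ∈ perpL q (perpL q W) := hall
  rw [perpL_perpL D] at h1
  exact inter_zero D hW h1 hy

/-- a subspace of dimension at least two contains a nonzero isotropic vector -/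
theorem exists_iso_in [Finite K] (E : Submodule K (Fin n → K)) (h2 : 2 ≤ finrank K E) :
    ∃ x ∈ E, x ≠ 0 ∧ h x x = 0 := by
  obtain ⟨x, hxE, hxn⟩ := exists_not_smul h2 (0 : Fin n → K)
  have hx0 : x ≠ 0 := by
    intro h0; exact hxn 0 (by rw [h0, smul_zero])
  by_cases hxx : h x x = 0
  · exact ⟨x, hxE, hx0, hxx⟩
  obtain ⟨y, hyE, hyn⟩ := exists_not_smul h2 x
  obtain ⟨y', hy'⟩ : ∃ y' : Fin n → K, y' = y - (h y x / h x x) • x := ⟨_, rfl⟩
  have hy'E : y' ∈ E := by rw [hy']; exact E.sub_mem hyE (E.smul_mem _ hxE)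
  have hy'0 : y' ≠ 0 := by
    intro h0
    rw [hy', sub_eq_zero] at h0
    exact hyn _ h0
  have hy'x : h y' x = 0 := by
    rw [hy', h_sub_left, h_smul_left, div_mul_cancel₀ _ hxx, sub_self]
  have hxy' : h x y' = 0 := h_symm_zero D hy'x
  by_cases hyy : h y' y' = 0
  · exact ⟨y', hy'E, hy'0, hyy⟩
  have hfix : D.σ (-(h x x) / h y' y') = -(h x x) / h y' y' := by
    rw [map_div₀, map_neg, h_self_fix D, h_self_fix D]
  have hne : -(h x x) / h y' y' ≠ 0 := div_ne_zero (neg_ne_zero.mpr hxx) hyy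
  obtain ⟨l, hl⟩ := exists_norm D _ hne hfix
  refine ⟨x + l • y', E.add_mem hxE (E.smul_mem _ hy'E), ?_, ?_⟩
  · intro h0
    have h1 : h (x + l • y') x = 0 := by rw [h0]; exact h_zero_left x
    rw [h_add_left, h_smul_left, hy'x, mul_zero, add_zero] at h1
    exact hxx h1
  · rw [h_self_add_smul D, hxy', hy'x, mul_zero, mul_zero, add_zero, add_zero, hl]
    field_simp
    ring

/-- dimension of the part of `N` perpendicular to finitely many vectors -/
theorem finrank_inter_perp (N : Submodule K (Fin n → K)) (T : Finset (Fin n → K)) :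
    finrank K N ≤ finrank K ↥(N ⊓ perpL q (Submodule.span K (T : Set (Fin n → K)))) + T.card := by
  set X := perpL q (Submodule.span K (T : Set (Fin n → K))) with hX
  have h1 := finrank_perpL D (Submodule.span K (T : Set (Fin n → K)))
  have h2 : finrank K (Submodule.span K (T : Set (Fin n → K))) ≤ T.card :=
    finrank_span_finset_le_card T
  have h3 := Submodule.finrank_sup_add_finrank_inf_eq N X
  have h4 : finrank K ↥(N ⊔ X) ≤ finrank K (Fin n → K) := Submodule.finrank_le _
  rw [Module.finrank_fin_fun] at h4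
  rw [← hX] at h1
  omega

theorem mem_inter_perp (N : Submodule K (Fin n → K)) (T : Set (Fin n → K)) (x : Fin n → K) :
    x ∈ N ⊓ perpL q (Submodule.span K T) ↔ x ∈ N ∧ ∀ v ∈ T, h x v = 0 := by
  rw [Submodule.mem_inf, mem_perpL]
  constructor
  · rintro ⟨h1, h2⟩
    exact ⟨h1, fun v hv => h2 v (Submodule.subset_span hv)⟩
  · rintro ⟨h1, h2⟩
    refine ⟨h1, fun s hs => ?_⟩
    induction hs using Submodule.span_induction with
    | mem v hv => exact h2 v hv
    | zero => exact h_zero_right D x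
    | add a b _ _ ha hb => rw [h_add_right D, ha, hb, add_zero]
    | smul c a _ ha => rw [h_smul_right D, ha, mul_zero]

/-- the isotropic vectors of a nondegenerate space of dimension at least two span it -/
theorem span_iso [Finite K] {N : Submodule K (Fin n → K)} (hN : NonDeg q N)
    (h2 : 2 ≤ finrank K N) (Z : Submodule K (Fin n → K))
    (hZ : ∀ v ∈ N, h v v = 0 → v ∈ Z) : N ≤ Z := by
  obtain ⟨u, hu, v, hv, hu0, huu, hvv, huv, hvu⟩ := exists_hyp_pair D hN h2
  intro z hz
  obtain ⟨z₀, hz₀⟩ : ∃ z₀ : Fin n → K, z₀ = z - h z v • u - h z u • v := ⟨_, rfl⟩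
  have hz₀N : z₀ ∈ N := by
    rw [hz₀]; exact N.sub_mem (N.sub_mem hz (N.smul_mem _ hu)) (N.smul_mem _ hv)
  have hz₀u : h z₀ u = 0 := by
    rw [hz₀, h_sub_left, h_sub_left, h_smul_left, h_smul_left, huu, hvu]; ring
  have hz₀v : h z₀ v = 0 := by
    rw [hz₀, h_sub_left, h_sub_left, h_smul_left, h_smul_left, hvv, huv]; ring
  have huz₀ : h u z₀ = 0 := h_symm_zero D hz₀u
  have hvz₀ : h v z₀ = 0 := h_symm_zero D hz₀v
  obtain ⟨a, ha⟩ := exists_trace D (-(h z₀ z₀)) (by rw [map_neg, h_self_fix D])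
  have hiso : h (z₀ + a • u + v) (z₀ + a • u + v) = 0 := by
    simp only [h_add_left, h_smul_left, h_add_right D, h_smul_right D, huu, hvv, huv, hvu, hz₀u,
      hz₀v, huz₀, hvz₀]
    linear_combination ha
  have h1 : z₀ + a • u + v ∈ Z :=
    hZ _ (N.add_mem (N.add_mem hz₀N (N.smul_mem _ hu)) hv) hiso
  have huZ : u ∈ Z := hZ u hu huu
  have hvZ : v ∈ Z := hZ v hv hvv
  have hz₀Z : z₀ ∈ Z := by
    have := Z.sub_mem (Z.sub_mem h1 (Z.smul_mem a huZ)) hvZ
    have e : z₀ + a • u + v - a • u - v = z₀ := by abel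
    rwa [e] at this
  have e : z = z₀ + h z v • u + h z u • v := by rw [hz₀]; abel
  rw [e]
  exact Z.add_mem (Z.add_mem hz₀Z (Z.smul_mem _ huZ)) (Z.smul_mem _ hvZ)

/-- a frame around an isotropic vector -/
theorem exists_frame_in [Finite K] {N : Submodule K (Fin n → K)} (hN : NonDeg q N)
    (h4 : 4 ≤ finrank K N) {u : Fin n → K} (hu : u ∈ N) (hu0 : u ≠ 0) (huu : h u u = 0) :
    ∃ u' e f, u' ∈ N ∧ e ∈ N ∧ f ∈ N ∧ h u' u' = 0 ∧ h u u' = 1 ∧ h u' u = 1 ∧ h e e = 0 ∧
      h f f = 0 ∧ h e f = 1 ∧ h f e = 1 ∧ h e u = 0 ∧ h e u' = 0 ∧ h f u = 0 ∧ h f u' = 0 := by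
  obtain ⟨u', hu', hu'u', huu', hu'u⟩ := exists_partner D hN hu hu0 huu
  have hNN : perpL q (perpL q N) = N := perpL_perpL D N
  have hY : NonDeg q (perpL q (perpL q N)) := by rw [hNN]; exact hN
  have hu1 : u ∈ perpL q (perpL q N) := by rw [hNN]; exact hu
  have hu'1 : u' ∈ perpL q (perpL q N) := by rw [hNN]; exact hu'
  have hcut := nonDeg_cut D hY hu1 hu'1 huu hu'u' huu' hu'u
  have hfin : 2 ≤ finrank K (perpL q (perpL q N ⊔ Submodule.span K {u, u'})) := by
    have h1 := finrank_perpL D (perpL q N ⊔ Submodule.span K {u, u'})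
    have h2 := finrank_perpL D N
    have h3 : finrank K ↥(perpL q N ⊔ Submodule.span K {u, u'}) ≤
        finrank K (perpL q N) + finrank K (Submodule.span K ({u, u'} : Set (Fin n → K))) :=
      Submodule.finrank_add_le_finrank_add_finrank _ _
    have h5 : finrank K (Submodule.span K ({u, u'} : Set (Fin n → K))) ≤ 2 := by
      classical
      have h6 : finrank K (Submodule.span K
          ((({u, u'} : Finset (Fin n → K)) : Set (Fin n → K)))) ≤
          ({u, u'} : Finset (Fin n → K)).card := finrank_span_finset_le_card _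
      have hc : ({u, u'} : Finset (Fin n → K)).card ≤ 2 := Finset.card_le_two
      have hcoe : (({u, u'} : Finset (Fin n → K)) : Set (Fin n → K)) = {u, u'} := by simp
      rw [hcoe] at h6
      omega
    omega
  obtain ⟨e, he, f, hf, he0, hee, hff, hef, hfe⟩ := exists_hyp_pair D hcut hfin
  rw [mem_perpL_sup_pair D, hNN] at he hf
  exact ⟨u', e, f, hu', he.1, hf.1, hu'u', huu', hu'u, hee, hff, hef, hfe, he.2.1, he.2.2,
    hf.2.1, hf.2.2⟩

end Cfsg.Agent.Helper28.UNM
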