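import Mathlib
import Cfsg.Prelude.Def_GeometricClasses
import Cfsg.Agent.Helper28.UnitNondeg1

set_option autoImplicit false
set_option linter.unusedSectionVars false

/-! The group-theoretic core of the maximality of the stabiliser of a nondegenerate subspace in
`SU_n(q)`. -/

namespace Cfsg.Agent.Helper28.UNM

open Matrix Module Cfsg.Agent.S2644 Cfsg.Agent.Helper2.SUGen Cfsg.Agent.Helper28.UM

variable {K : Type*} [Field K] {q n : ℕ}

local notation "h" => Cfsg.hermForm n K q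

variable (D : Frob K q)

theorem SgG_congr {x x' w w' : Fin n → K} {c c' : K} (hxx : h x x = 0) (hwx : h w x = 0)
    (hc : c + D.σ c + h w w = 0) (hxx' : h x' x' = 0) (hwx' : h w' x' = 0)
    (hc' : c' + D.σ c' + h w' w' = 0) (e1 : x = x') (e2 : w = w') (e3 : c = c') :
    SgG D x w c hxx hwx hc = SgG D x' w' c' hxx' hwx' hc' := by
  subst e1 e2 e3; rfl

/-- vectors `w ⟂ u` all of whose multiples give Siegel elements in `M` -/
def Lsub (M : Subgroup (Matrix.GeneralLinearGroup (Fin n) K)) (u : Fin n → K) (huu : h u u = 0)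
    (hroot : ∀ (c : K) (h0 : h (0 : Fin n → K) u = 0)
      (hc : c + D.σ c + h (0 : Fin n → K) 0 = 0), SgG D u 0 c huu h0 hc ∈ M) :
    Submodule K (Fin n → K) where
  carrier := {w | h w u = 0 ∧ ∀ (l c : K) (hwx : h (l • w) u = 0)
    (hc : c + D.σ c + h (l • w) (l • w) = 0), SgG D u (l • w) c huu hwx hc ∈ M}
  zero_mem' := ⟨h_zero_left u, fun l c hwx hc => by
    have e : l • (0 : Fin n → K) = 0 := smul_zero l
    have h0 : h (0 : Fin n → K) u = 0 := h_zero_left u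
    have hc' : c + D.σ c + h (0 : Fin n → K) 0 = 0 := by rw [e] at hc; exact hc
    rw [SgG_congr D huu hwx hc huu h0 hc' rfl e rfl]
    exact hroot c h0 hc'⟩
  add_mem' := by
    rintro a b ⟨ha, ha'⟩ ⟨hb, hb'⟩
    refine ⟨by rw [h_add_left, ha, hb, add_zero], fun l c hwx hc => ?_⟩
    have hla : h (l • a) u = 0 := by rw [h_smul_left, ha, mul_zero]
    have hlb : h (l • b) u = 0 := by rw [h_smul_left, hb, mul_zero]
    obtain ⟨c₁, hc₁⟩ := exists_trace D (-(h (l • a) (l • a))) (by rw [map_neg, h_self_fix D])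
    have hc₁' : c₁ + D.σ c₁ + h (l • a) (l • a) = 0 := by rw [hc₁]; ring
    obtain ⟨c₂, hc₂def⟩ : ∃ c₂ : K, c₂ = c - c₁ + h (l • b) (l • a) := ⟨_, rfl⟩
    have hc₂ : c₂ + D.σ c₂ + h (l • b) (l • b) = 0 := by
      rw [hc₂def, map_add, map_sub, h_conj D]
      have e : l • (a + b) = l • a + l • b := smul_add l a b
      rw [e, h_add_left, h_add_right D, h_add_right D] at hc
      linear_combination hc - hc₁'
    have hmul := M.mul_mem (ha' l c₁ hla hc₁') (hb' l c₂ hlb hc₂)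
    have e : SgG D u (l • a) c₁ huu hla hc₁' * SgG D u (l • b) c₂ huu hlb hc₂ =
        SgG D u (l • (a + b)) c huu hwx hc := by
      apply Units.ext
      rw [Units.val_mul, SgG_val, SgG_val, SgG_val,
        Sg_mul D u (l • a) (l • b) c₁ c₂ huu hla hlb, smul_add]
      congr 1
      rw [hc₂def]; ring
    rw [← e]; exact hmul
  smul_mem' := by
    rintro k a ⟨ha, ha'⟩
    refine ⟨by rw [h_smul_left, ha, mul_zero], fun l c hwx hc => ?_⟩
    have e : l • k • a = (l * k) • a := smul_smul l k a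
    have hwx' : h ((l * k) • a) u = 0 := by rw [← e]; exact hwx
    have hc' : c + D.σ c + h ((l * k) • a) ((l * k) • a) = 0 := by rw [← e]; exact hc
    rw [SgG_congr D huu hwx hc huu hwx' hc' rfl e rfl]
    exact ha' _ _ hwx' hc'

theorem Lsub_map_fix {M : Subgroup (Matrix.GeneralLinearGroup (Fin n) K)} {u : Fin n → K}
    (huu : h u u = 0)
    (hroot : ∀ (c : K) (h0 : h (0 : Fin n → K) u = 0)
      (hc : c + D.σ c + h (0 : Fin n → K) 0 = 0), SgG D u 0 c huu h0 hc ∈ M)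
    {g : Matrix.GeneralLinearGroup (Fin n) K} (hg : g ∈ M)
    (hgP : Pres (q := q) (g : Matrix (Fin n) (Fin n) K))
    (hgu : (g : Matrix (Fin n) (Fin n) K) *ᵥ u = u) {w : Fin n → K}
    (hw : w ∈ Lsub D M u huu hroot) :
    (g : Matrix (Fin n) (Fin n) K) *ᵥ w ∈ Lsub D M u huu hroot := by
  obtain ⟨h1, h2⟩ := hw
  have hB : h ((g : Matrix (Fin n) (Fin n) K) *ᵥ w) u = 0 := by
    have := hgP w u
    rw [hgu] at this; rw [this]; exact h1
  refine ⟨hB, fun l c hwx hc => ?_⟩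
  have hlw : h (l • w) u = 0 := by rw [h_smul_left, h1, mul_zero]
  have hgl : (g : Matrix (Fin n) (Fin n) K) *ᵥ (l • w) =
      l • ((g : Matrix (Fin n) (Fin n) K) *ᵥ w) := Matrix.mulVec_smul _ _ _
  have hc0 : c + D.σ c + h (l • w) (l • w) = 0 := by
    rw [← hgP (l • w) (l • w), hgl]; exact hc
  have key : SgG D u (l • ((g : Matrix (Fin n) (Fin n) K) *ᵥ w)) c huu hwx hc =
      g * SgG D u (l • w) c huu hlw hc0 * g⁻¹ := by
    rw [eq_mul_inv_iff_mul_eq]
    apply Units.ext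
    rw [Units.val_mul, Units.val_mul, SgG_val, SgG_val,
      Sg_conj D (g : Matrix (Fin n) (Fin n) K) hgP, hgu, hgl]
  rw [key]
  exact M.mul_mem (M.mul_mem hg (h2 l c hlw hc0)) (M.inv_mem hg)

/-- the standing hypotheses -/
structure Ctx (D : Frob K q) (W A : Submodule K (Fin n → K))
    (M : Subgroup (Matrix.GeneralLinearGroup (Fin n) K)) : Prop where
  orth : ∀ w ∈ W, ∀ a ∈ A, h w a = 0
  dec : ∀ x : Fin n → K, ∃ w ∈ W, ∃ a ∈ A, x = w + a
  ndW : NonDeg q W
  ndA : NonDeg q A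
  hMG : ∀ g ∈ M, Pres (q := q) (g : Matrix (Fin n) (Fin n) K)
  hP : ∀ g : Matrix.GeneralLinearGroup (Fin n) K, Pres (q := q) (g : Matrix (Fin n) (Fin n) K) →
    (g : Matrix (Fin n) (Fin n) K).det = 1 →
    (∀ w ∈ W, (g : Matrix (Fin n) (Fin n) K) *ᵥ w ∈ W) → g ∈ M

variable {D} {W A : Submodule K (Fin n → K)} {M : Subgroup (Matrix.GeneralLinearGroup (Fin n) K)}

theorem Ctx.orth' (c : Ctx D W A M) : ∀ a ∈ A, ∀ w ∈ W, h a w = 0 :=
  fun a ha w hw => h_symm_zero D (c.orth w hw a ha)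

theorem Ctx.inter (c : Ctx D W A M) {x : Fin n → K} (hxW : x ∈ W) (hxA : x ∈ A) : x = 0 :=
  c.ndW x hxW (fun y hy => c.orth' x hxA y hy)

theorem Ctx.sieg_A (c : Ctx D W A M) {u y : Fin n → K} (hu : u ∈ A) (hy : y ∈ A)
    (huu : h u u = 0) (hyu : h y u = 0) (k : K) (hk : k + D.σ k + h y y = 0) :
    SgG D u y k huu hyu hk ∈ M := by
  refine c.hP _ (Sg_pres D u y k huu hyu hk) (Sg_det D u y k huu hyu) ?_
  intro w hw
  rw [SgG_val, Sg_mulVec, c.orth w hw u hu, c.orth w hw y hy]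
  simp only [zero_smul, mul_zero, add_zero, sub_zero]
  exact hw

theorem Ctx.sieg_W (c : Ctx D W A M) {e v : Fin n → K} (he : e ∈ W) (hv : v ∈ W)
    (hee : h e e = 0) (hve : h v e = 0) (k : K) (hk : k + D.σ k + h v v = 0) :
    SgG D e v k hee hve hk ∈ M := by
  refine c.hP _ (Sg_pres D e v k hee hve hk) (Sg_det D e v k hee hve) ?_
  intro w hw
  rw [SgG_val, Sg_mulVec]
  exact W.add_mem (W.sub_mem (W.add_mem hw (W.smul_mem _ hv)) (W.smul_mem _ he)) (W.smul_mem _ he)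

theorem Ctx.root_A (c : Ctx D W A M) {u : Fin n → K} (hu : u ∈ A) (huu : h u u = 0) :
    ∀ (k : K) (h0 : h (0 : Fin n → K) u = 0) (hk : k + D.σ k + h (0 : Fin n → K) 0 = 0),
      SgG D u 0 k huu h0 hk ∈ M :=
  fun k h0 hk => c.sieg_A hu A.zero_mem huu h0 k hk

theorem Ctx.mem_Lsub_of_A (c : Ctx D W A M) {u y : Fin n → K} (hu : u ∈ A) (huu : h u u = 0)
    (hy : y ∈ A) (hyu : h y u = 0) : y ∈ Lsub D M u huu (c.root_A hu huu) :=
  ⟨hyu, fun l k hwx hk => c.sieg_A hu (A.smul_mem l hy) huu hwx k hk⟩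

end Cfsg.Agent.Helper28.UNM
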