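import Mathlib
import Cfsg.Prelude.Def_GeometricClasses
import Cfsg.Agent.Helper28.UnitNondeg2

set_option autoImplicit false
set_option linter.unusedSectionVars false

/-! Irreducibility under transvections, Lemma B and the two phases of the maximality argument
for nondegenerate subspace stabilisers in `SU_n(q)`. -/

namespace Cfsg.Agent.Helper28.UNM

open Matrix Module Cfsg.Agent.S2644 Cfsg.Agent.Helper2.SUGen Cfsg.Agent.Helper28.UM

variable {K : Type*} [Field K] {q n : ℕ}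

local notation "h" => Cfsg.hermForm n K q

variable (D : Frob K q)

/-- a nonzero subspace of a nondegenerate space `N` (of dimension at least two) invariant under
the unitary transvections of `N` is `N` -/
theorem irr_trans [Finite K] {N : Submodule K (Fin n → K)} (hN : NonDeg q N)
    (h2 : 2 ≤ finrank K N) (Z : Submodule K (Fin n → K)) (hZN : Z ≤ N) (hZ0 : Z ≠ ⊥)
    (hinv : ∀ a ∈ N, h a a = 0 → ∀ k : K, D.σ k = -k → ∀ z ∈ Z, z + (k * h z a) • a ∈ Z) :
    N ≤ Z := by
  obtain ⟨p, hpZ, hp0⟩ := Submodule.exists_mem_ne_zero_of_ne_bot hZ0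
  have hpN := hZN hpZ
  obtain ⟨s, hs0, hs⟩ := exists_skew D
  have step : ∀ z ∈ Z, ∀ a ∈ N, h a a = 0 → h z a ≠ 0 → a ∈ Z := by
    intro z hz a ha haa hza
    have h1 := hinv a ha haa s hs z hz
    have h3 : (s * h z a) • a ∈ Z := by
      have := Z.sub_mem h1 hz
      rwa [add_sub_cancel_left] at this
    have hk : s * h z a ≠ 0 := mul_ne_zero hs0 hza
    have : a = (s * h z a)⁻¹ • ((s * h z a) • a) := by
      rw [smul_smul, inv_mul_cancel₀ hk, one_smul]
    rw [this]; exact Z.smul_mem _ h3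
  -- an isotropic vector of `N` in `Z`
  obtain ⟨e, heN, hee, hpe⟩ : ∃ e ∈ N, h e e = 0 ∧ h p e ≠ 0 := by
    by_contra hcon
    push Not at hcon
    apply hp0
    apply hN p hpN
    have hle : N ≤ perpL q (Submodule.span K {p}) := by
      apply span_iso D hN h2
      intro v hv hvv
      rw [mem_perpL_singleton D]
      exact h_symm_zero D (hcon v hv hvv)
    intro y hy
    have := hle hy
    rw [mem_perpL_singleton D] at this
    exact h_symm_zero D this
  have heZ : e ∈ Z := step p hpZ e heN hee hpe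
  have he0 : e ≠ 0 := by
    rintro rfl
    exact hpe (h_zero_right D p)
  apply span_iso D hN h2
  intro e' he'N he'e'
  by_cases he'0 : e' = 0
  · rw [he'0]; exact Z.zero_mem
  by_cases hee' : h e e' ≠ 0
  · exact step e heZ e' he'N he'e' hee'
  · obtain ⟨z, hzN, hzz, hze, hze'⟩ := exists_iso_both D hN heN he'N hee he'e' he0 he'0
    have hzZ : z ∈ Z := step e heZ z hzN hzz (h_symm_ne D hze)
    exact step z hzZ e' he'N he'e' hze'

variable {D} {W A : Submodule K (Fin n → K)} {M : Subgroup (Matrix.GeneralLinearGroup (Fin n) K)}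

/-- Lemma B -/
theorem Ctx.lemB [Finite K] (c : Ctx D W A M) {u : Fin n → K} (huA : u ∈ A) (huu : h u u = 0)
    {w : Fin n → K} (hw : w ∈ Lsub D M u huu (c.root_A huA huu)) (hwA : w ∉ A) : u ∈ S1 D M := by
  obtain ⟨S, hS⟩ : ∃ S : Submodule K (Fin n → K), S = Lsub D M u huu (c.root_A huA huu) ⊓ W :=
    ⟨_, rfl⟩
  have hmemS : ∀ x, x ∈ S ↔ x ∈ Lsub D M u huu (c.root_A huA huu) ∧ x ∈ W := by
    intro x; rw [hS, Submodule.mem_inf]
  have hSW : S ≤ W := by rw [hS]; exact inf_le_right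
  have hS0 : S ≠ ⊥ := by
    obtain ⟨w₁, hw₁, a₁, ha₁, hwa⟩ := c.dec w
    have ha₁u : h a₁ u = 0 := by
      have h1 : h w u = 0 := hw.1
      rw [hwa, h_add_left, c.orth w₁ hw₁ u huA, zero_add] at h1; exact h1
    have ha₁L := c.mem_Lsub_of_A huA huu ha₁ ha₁u
    have hw₁L : w₁ ∈ Lsub D M u huu (c.root_A huA huu) := by
      have : w₁ = w - a₁ := by rw [hwa]; abel
      rw [this]; exact Submodule.sub_mem _ hw ha₁L
    intro hbot
    have hw₁S : w₁ ∈ S := (hmemS w₁).2 ⟨hw₁L, hw₁⟩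
    rw [hbot, Submodule.mem_bot] at hw₁S
    apply hwA; rw [hwa, hw₁S, zero_add]; exact ha₁
  have hWS : W ≤ S := by
    by_cases h2 : 2 ≤ finrank K W
    · apply irr_trans D c.ndW h2 S hSW hS0
      intro e he hee k hk s hs
      obtain ⟨hsL, hsW⟩ := (hmemS s).1 hs
      have hk' : k + D.σ k + h (0 : Fin n → K) 0 = 0 := by
        rw [hk, h_zero_left]; ring
      have hg := c.sieg_W he W.zero_mem hee (h_zero_left e) k hk'
      have hgu : ((SgG D e 0 k hee (h_zero_left e) hk' : Matrix.GeneralLinearGroup (Fin n) K) :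
          Matrix (Fin n) (Fin n) K) *ᵥ u = u := by
        rw [SgG_val, Sg_mulVec, c.orth' u huA e he, h_zero_right D]
        simp
      have hmem := Lsub_map_fix D huu (c.root_A huA huu) hg
        (Sg_pres D e 0 k hee (h_zero_left e) hk') hgu hsL
      rw [SgG_val, Sg_mulVec, h_zero_right D] at hmem
      have e1 : s + h s e • (0 : Fin n → K) - (0 : K) • e + (k * h s e) • e =
          s + (k * h s e) • e := by
        rw [smul_zero, zero_smul, add_zero, sub_zero]
      rw [e1] at hmem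
      exact (hmemS _).2 ⟨hmem, W.add_mem hsW (W.smul_mem _ he)⟩
    · have h1 : finrank K S ≠ 0 := by
        intro h0
        exact hS0 (Submodule.finrank_eq_zero.mp h0)
      have hle : finrank K W ≤ finrank K S := by omega
      exact (Submodule.eq_of_le_of_finrank_le hSW hle).ge
  refine ⟨huu, fun v k hvu hk => ?_⟩
  obtain ⟨w₁, hw₁, a₁, ha₁, hva⟩ := c.dec v
  have hw₁L : w₁ ∈ Lsub D M u huu (c.root_A huA huu) := ((hmemS w₁).1 (hWS hw₁)).1
  have ha₁u : h a₁ u = 0 := by
    have h1 := hvu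
    rw [hva, h_add_left, c.orth w₁ hw₁ u huA, zero_add] at h1; exact h1
  have ha₁L := c.mem_Lsub_of_A huA huu ha₁ ha₁u
  have hvL : v ∈ Lsub D M u huu (c.root_A huA huu) := by
    rw [hva]; exact Submodule.add_mem _ hw₁L ha₁L
  have e : (1 : K) • v = v := one_smul K v
  have hvu' : h ((1 : K) • v) u = 0 := by rw [e]; exact hvu
  have hk' : k + D.σ k + h ((1 : K) • v) ((1 : K) • v) = 0 := by rw [e]; exact hk
  have := hvL.2 1 k hvu' hk'
  rw [SgG_congr D huu hvu hk huu hvu' hk' rfl e.symm rfl]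
  exact this

include D in
/-- two non-orthogonal points carrying full Siegel families give all of `SU` -/
theorem all_of_pair [Finite K] (M : Subgroup (Matrix.GeneralLinearGroup (Fin n) K))
    {u₁ u₂ : Fin n → K} (h1 : u₁ ∈ S1 D M) (h2 : u₂ ∈ S1 D M) (h21 : h u₂ u₁ ≠ 0)
    (g : Matrix.GeneralLinearGroup (Fin n) K)
    (hgP : Pres (q := q) (g : Matrix (Fin n) (Fin n) K))
    (hgdet : (g : Matrix (Fin n) (Fin n) K).det = 1) : g ∈ M := by
  have hY : NonDeg q (perpL q (⊥ : Submodule K (Fin n → K))) := by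
    rw [perpL_bot D]; exact nonDeg_top D
  have hmem := main D _ ⊥ hY rfl (g : Matrix (Fin n) (Fin n) K) hgP hgdet (by
    intro z hz
    rw [(Submodule.mem_bot K).mp hz, mulVec_zero])
  have key : ∀ A ∈ Gen D (perpL q (⊥ : Submodule K (Fin n → K))),
      ∃ g' ∈ M, ((g' : Matrix.GeneralLinearGroup (Fin n) K) : Matrix (Fin n) (Fin n) K) = A := by
    intro A hA
    induction hA using Submonoid.closure_induction with
    | mem A hA =>
      obtain ⟨x, w', c, -, -, hxx, hwx, hc, rfl⟩ := hA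
      exact ⟨_, (S1_all D M h1 h2 h21 hxx).2 w' c hwx hc, rfl⟩
    | one => exact ⟨1, M.one_mem, rfl⟩
    | mul A B _ _ hA hB =>
      obtain ⟨a, ha, rfl⟩ := hA
      obtain ⟨b, hb, rfl⟩ := hB
      exact ⟨a * b, M.mul_mem ha hb, rfl⟩
  obtain ⟨g', hg', hgg'⟩ := key _ hmem
  have : g' = g := Units.ext hgg'
  rw [← this]
  exact hg'

/-- Phase 2 -/
theorem Ctx.phase2 [Finite K] (c : Ctx D W A M) (h4 : 4 ≤ finrank K A) (hW0 : W ≠ ⊥)
    {u : Fin n → K} (huA : u ∈ A) (hu0 : u ≠ 0) (hu : u ∈ S1 D M)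
    (g : Matrix.GeneralLinearGroup (Fin n) K)
    (hgP : Pres (q := q) (g : Matrix (Fin n) (Fin n) K))
    (hgdet : (g : Matrix (Fin n) (Fin n) K).det = 1) : g ∈ M := by
  obtain ⟨huu, huS⟩ := hu
  obtain ⟨w₁, hw₁W, hw₁0⟩ := Submodule.exists_mem_ne_zero_of_ne_bot hW0
  obtain ⟨u', e', f', hu'A, he'A, hf'A, hu'u', huu', hu'u, he'e', hf'f', he'f', hf'e', he'u, he'u',
    hf'u, hf'u'⟩ := exists_frame_in D c.ndA h4 huA hu0 huu
  have hw₁u : h w₁ u = 0 := c.orth w₁ hw₁W u huA
  obtain ⟨k, hk⟩ := exists_trace D (-(h w₁ w₁)) (by rw [map_neg, h_self_fix D])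
  have hk' : k + D.σ k + h w₁ w₁ = 0 := by rw [hk]; ring
  have hg₁ := huS w₁ k hw₁u hk'
  have hw₁A : w₁ ∉ A := fun h' => hw₁0 (c.inter hw₁W h')
  have key : ∀ x ∈ A, h x x = 0 → h x u = 0 → h u' x = 0 → x ∈ S1 D M := by
    intro x hxA hxx hxu hu'x
    have hxw₁ : h x w₁ = 0 := c.orth' x hxA w₁ hw₁W
    have hgx : ((SgG D u w₁ k huu hw₁u hk' : Matrix.GeneralLinearGroup (Fin n) K) :
        Matrix (Fin n) (Fin n) K) *ᵥ x = x := by
      rw [SgG_val, Sg_mulVec, hxu, hxw₁]; simp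
    have hu'L := c.mem_Lsub_of_A hxA hxx hu'A hu'x
    have hmem := Lsub_map_fix D hxx (c.root_A hxA hxx) hg₁
      (Sg_pres D u w₁ k huu hw₁u hk') hgx hu'L
    apply c.lemB hxA hxx hmem
    rw [SgG_val, Sg_mulVec, hu'u, c.orth' u' hu'A w₁ hw₁W]
    intro hmemA
    apply hw₁A
    have e : w₁ = (u' + (1 : K) • w₁ - (0 : K) • u + (k * 1) • u) - u' - k • u := by
      simp only [one_smul, zero_smul, sub_zero, mul_one]
      abel
    rw [e]
    exact A.sub_mem (A.sub_mem hmemA hu'A) (A.smul_mem _ huA)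
  have he' := key e' he'A he'e' he'u (h_symm_zero D he'u')
  have hf' := key f' hf'A hf'f' hf'u (h_symm_zero D hf'u')
  exact all_of_pair M he' hf' (by rw [hf'e']; exact one_ne_zero) g hgP hgdet

end Cfsg.Agent.Helper28.UNM
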