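import Mathlib
import Cfsg.Prelude.Def_GeometricClasses
import Cfsg.Agent.Helper28.UnitNondeg3

set_option autoImplicit false
set_option linter.unusedSectionVars false

/-! Maximality of the stabiliser of a nondegenerate subspace of dimension less than `n/2` in
`SU_n(q)`. -/

namespace Cfsg.Agent.Helper28.UNM

open Matrix Module Cfsg.Agent.S2644 Cfsg.Agent.Helper2.SUGen Cfsg.Agent.Helper28.UM

variable {K : Type*} [Field K] {q n : ℕ}

local notation "h" => Cfsg.hermForm n K q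

theorem inv_mulVec_mulVec (g : Matrix.GeneralLinearGroup (Fin n) K) (x : Fin n → K) :
    ((g⁻¹ : Matrix.GeneralLinearGroup (Fin n) K) : Matrix (Fin n) (Fin n) K) *ᵥ
      ((g : Matrix (Fin n) (Fin n) K) *ᵥ x) = x := by
  rw [Matrix.mulVec_mulVec, ← Units.val_mul, inv_mul_cancel]
  exact Matrix.one_mulVec x

theorem mulVec_inv_mulVec (g : Matrix.GeneralLinearGroup (Fin n) K) (x : Fin n → K) :
    (g : Matrix (Fin n) (Fin n) K) *ᵥ
      (((g⁻¹ : Matrix.GeneralLinearGroup (Fin n) K) : Matrix (Fin n) (Fin n) K) *ᵥ x) = x := by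
  rw [Matrix.mulVec_mulVec, ← Units.val_mul, mul_inv_cancel]
  exact Matrix.one_mulVec x

variable {D : Frob K q} {W A : Submodule K (Fin n → K)}
  {M : Subgroup (Matrix.GeneralLinearGroup (Fin n) K)}

theorem triple_card_le' [DecidableEq (Fin n → K)] (x y z : Fin n → K) :
    ({x, y, z} : Finset (Fin n → K)).card ≤ 3 := Finset.card_le_three

/-- a vector perpendicular to all isotropic vectors of `A` lies in `W` -/
theorem Ctx.mem_W_of_perp_iso [Finite K] (c : Ctx D W A M) (h2 : 2 ≤ finrank K A) {p : Fin n → K}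
    (hp : ∀ a ∈ A, h a a = 0 → h p a = 0) : p ∈ W := by
  obtain ⟨w₁, hw₁, a₁, ha₁, hpa⟩ := c.dec p
  have hle : A ≤ perpL q (Submodule.span K {a₁}) := by
    apply span_iso D c.ndA h2
    intro v hv hvv
    rw [mem_perpL_singleton D]
    have h1 := hp v hv hvv
    rw [hpa, h_add_left, c.orth w₁ hw₁ v hv, zero_add] at h1
    exact h_symm_zero D h1
  have ha₁0 : a₁ = 0 := by
    apply c.ndA a₁ ha₁
    intro y hy
    have := hle hy
    rw [mem_perpL_singleton D] at this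
    exact h_symm_zero D this
  rw [hpa, ha₁0, add_zero]; exact hw₁

/-- Phase 1 -/
theorem Ctx.goal1 [Finite K] (c : Ctx D W A M) (h7 : 7 ≤ finrank K A)
    {g₀ : Matrix.GeneralLinearGroup (Fin n) K} (hg₀ : g₀ ∈ M)
    (hgA : ¬ ∀ a ∈ A, (g₀ : Matrix (Fin n) (Fin n) K) *ᵥ a ∈ A)
    (hns : ¬ ∀ a ∈ A,
      ((g₀⁻¹ : Matrix.GeneralLinearGroup (Fin n) K) : Matrix (Fin n) (Fin n) K) *ᵥ a ∈ W) :
    ∃ u ∈ A, u ≠ 0 ∧ u ∈ S1 D M := by
  classical
  have hg₀P := c.hMG g₀ hg₀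
  have hex : ∃ a ∈ A, ∃ b ∈ A, ∃ k : K, h a a = 0 ∧ h b a = 0 ∧ k + D.σ k + h b b = 0 ∧
      ∃ p : Fin n → K, (g₀ : Matrix (Fin n) (Fin n) K) *ᵥ p ∈ A ∧
        (g₀ : Matrix (Fin n) (Fin n) K) *ᵥ (Sg (q := q) a b k *ᵥ p) ∉ A := by
    by_contra hcon
    push Not at hcon
    obtain ⟨P, hP⟩ : ∃ P : Submodule K (Fin n → K),
        P = A.comap (Matrix.mulVecLin (g₀ : Matrix (Fin n) (Fin n) K)) := ⟨_, rfl⟩
    have hmemP : ∀ x, x ∈ P ↔ (g₀ : Matrix (Fin n) (Fin n) K) *ᵥ x ∈ A := by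
      intro x; rw [hP, Submodule.mem_comap, Matrix.mulVecLin_apply]
    obtain ⟨Z, hZ⟩ : ∃ Z : Submodule K (Fin n → K), Z = A ⊓ P := ⟨_, rfl⟩
    have hmemZ : ∀ x, x ∈ Z ↔ x ∈ A ∧ (g₀ : Matrix (Fin n) (Fin n) K) *ᵥ x ∈ A := by
      intro x; rw [hZ, Submodule.mem_inf, hmemP]
    have hZA : Z ≤ A := by rw [hZ]; exact inf_le_left
    have hinv : ∀ a ∈ A, h a a = 0 → ∀ k : K, D.σ k = -k → ∀ z ∈ Z,
        z + (k * h z a) • a ∈ Z := by
      intro a ha haa k hk z hz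
      obtain ⟨hzA, hzP⟩ := (hmemZ z).1 hz
      rw [hmemZ]
      refine ⟨A.add_mem hzA (A.smul_mem _ ha), ?_⟩
      have := hcon a ha 0 A.zero_mem k haa (h_zero_left a) (by rw [hk, h_zero_left]; ring) z hzP
      rw [Sg_mulVec, h_zero_right D] at this
      have e1 : z + h z a • (0 : Fin n → K) - (0 : K) • a + (k * h z a) • a =
          z + (k * h z a) • a := by
        rw [smul_zero, zero_smul, add_zero, sub_zero]
      rw [e1] at this
      exact this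
    by_cases hZ0 : Z = ⊥
    · apply hns
      have key : ∀ p : Fin n → K, (g₀ : Matrix (Fin n) (Fin n) K) *ᵥ p ∈ A → p ∈ W := by
        intro p hp
        apply c.mem_W_of_perp_iso (by omega)
        intro a ha haa
        by_cases ha0 : a = 0
        · rw [ha0]; exact h_zero_right D p
        obtain ⟨a', e, f, ha'A, heA, hfA, ha'a', haa', ha'a, hee, hff, hef, hfe, hea, hea',
          hfa, hfa'⟩ := exists_frame_in D c.ndA (by omega) ha ha0 haa
        obtain ⟨d, hd⟩ : ∃ d : Fin n → K, d = h p a • e - h p e • a := ⟨_, rfl⟩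
        have hdA : d ∈ A := by rw [hd]; exact A.sub_mem (A.smul_mem _ heA) (A.smul_mem _ ha)
        have hdP : (g₀ : Matrix (Fin n) (Fin n) K) *ᵥ d ∈ A := by
          have h1 := hcon a ha e heA 0 haa hea (by rw [map_zero, hee]; ring) p hp
          rw [Sg_mulVec] at h1
          have h2 : d = (p + h p a • e - h p e • a + (0 * h p a) • a) - p := by
            rw [hd, zero_mul, zero_smul, add_zero]; abel
          rw [h2, Matrix.mulVec_sub]
          exact A.sub_mem h1 hp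
        have hdZ : d ∈ Z := (hmemZ d).2 ⟨hdA, hdP⟩
        rw [hZ0, Submodule.mem_bot] at hdZ
        have h3 : h d f = h p a := by
          rw [hd, h_sub_left, h_smul_left, h_smul_left, hef, h_symm_zero D hfa]; ring
        rw [← h3, hdZ]
        exact h_zero_left f
      intro a ha
      apply key
      rw [mulVec_inv_mulVec]; exact ha
    · apply hgA
      have hAZ := irr_trans D c.ndA (by omega) Z hZA hZ0 hinv
      intro a ha
      exact ((hmemZ a).1 (hAZ ha)).2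
  obtain ⟨a, ha, b, hb, k, haa, hba, hk, p, hpA, hpn⟩ := hex
  obtain ⟨y, hy⟩ : ∃ y : Fin n → K, y = (g₀ : Matrix (Fin n) (Fin n) K) *ᵥ p := ⟨_, rfl⟩
  have hT := c.sieg_A ha hb haa hba k hk
  obtain ⟨g₁, hg₁def⟩ : ∃ g₁ : Matrix.GeneralLinearGroup (Fin n) K,
      g₁ = g₀ * SgG D a b k haa hba hk * g₀⁻¹ := ⟨_, rfl⟩
  have hg₁ : g₁ ∈ M := by
    rw [hg₁def]; exact M.mul_mem (M.mul_mem hg₀ hT) (M.inv_mem hg₀)
  have hg₁P := c.hMG g₁ hg₁
  have hg₁v : ∀ x : Fin n → K, (g₁ : Matrix (Fin n) (Fin n) K) *ᵥ x =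
      (g₀ : Matrix (Fin n) (Fin n) K) *ᵥ (Sg (q := q) a b k *ᵥ
        (((g₀⁻¹ : Matrix.GeneralLinearGroup (Fin n) K) : Matrix (Fin n) (Fin n) K) *ᵥ x)) := by
    intro x
    rw [hg₁def, Units.val_mul, Units.val_mul, SgG_val, ← Matrix.mulVec_mulVec,
      ← Matrix.mulVec_mulVec]
  have hg₁y : (g₁ : Matrix (Fin n) (Fin n) K) *ᵥ y =
      (g₀ : Matrix (Fin n) (Fin n) K) *ᵥ (Sg (q := q) a b k *ᵥ p) := by
    rw [hg₁v, hy, inv_mulVec_mulVec]
  have hfin := finrank_inter_perp D A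
    ({(g₀ : Matrix (Fin n) (Fin n) K) *ᵥ a, (g₀ : Matrix (Fin n) (Fin n) K) *ᵥ b, y} :
      Finset (Fin n → K))
  have hcard := triple_card_le' ((g₀ : Matrix (Fin n) (Fin n) K) *ᵥ a)
    ((g₀ : Matrix (Fin n) (Fin n) K) *ᵥ b) y
  have hcoe : (({(g₀ : Matrix (Fin n) (Fin n) K) *ᵥ a, (g₀ : Matrix (Fin n) (Fin n) K) *ᵥ b, y} :
      Finset (Fin n → K)) : Set (Fin n → K)) =
      {(g₀ : Matrix (Fin n) (Fin n) K) *ᵥ a, (g₀ : Matrix (Fin n) (Fin n) K) *ᵥ b, y} := by simp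
  rw [hcoe] at hfin
  obtain ⟨u, hu, hu0, huu⟩ := exists_iso_in D _ (by omega : 2 ≤ finrank K ↥(A ⊓ perpL q
    (Submodule.span K {(g₀ : Matrix (Fin n) (Fin n) K) *ᵥ a,
      (g₀ : Matrix (Fin n) (Fin n) K) *ᵥ b, y})))
  rw [mem_inter_perp D] at hu
  obtain ⟨huA, huT⟩ := hu
  have h1 : h u ((g₀ : Matrix (Fin n) (Fin n) K) *ᵥ a) = 0 := huT _ (by simp)
  have h2 : h u ((g₀ : Matrix (Fin n) (Fin n) K) *ᵥ b) = 0 := huT _ (by simp)
  have h3 : h u y = 0 := huT _ (by simp)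
  have hg₁u : (g₁ : Matrix (Fin n) (Fin n) K) *ᵥ u = u := by
    rw [hg₁v, Sg_mulVec]
    have e1 : h (((g₀⁻¹ : Matrix.GeneralLinearGroup (Fin n) K) : Matrix (Fin n) (Fin n) K) *ᵥ u) a
        = 0 := by
      rw [← hg₀P, mulVec_inv_mulVec]; exact h1
    have e2 : h (((g₀⁻¹ : Matrix.GeneralLinearGroup (Fin n) K) : Matrix (Fin n) (Fin n) K) *ᵥ u) b
        = 0 := by
      rw [← hg₀P, mulVec_inv_mulVec]; exact h2
    rw [e1, e2]
    simp only [zero_smul, mul_zero, add_zero, sub_zero]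
    exact mulVec_inv_mulVec g₀ u
  have hyL := c.mem_Lsub_of_A huA huu (by rw [hy]; exact hpA) (h_symm_zero D h3)
  have hmem := Lsub_map_fix D huu (c.root_A huA huu) hg₁ hg₁P hg₁u hyL
  rw [hg₁y] at hmem
  exact ⟨u, huA, hu0, c.lemB huA huu hmem hpn⟩

/-- the core theorem -/
theorem Ctx.main [Finite K] (c : Ctx D W A M) (h7 : 7 ≤ finrank K A) (hW0 : W ≠ ⊥)
    {g₀ : Matrix.GeneralLinearGroup (Fin n) K} (hg₀ : g₀ ∈ M)
    (hgA : ¬ ∀ a ∈ A, (g₀ : Matrix (Fin n) (Fin n) K) *ᵥ a ∈ A)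
    (hns : ¬ ∀ a ∈ A,
      ((g₀⁻¹ : Matrix.GeneralLinearGroup (Fin n) K) : Matrix (Fin n) (Fin n) K) *ᵥ a ∈ W)
    (g : Matrix.GeneralLinearGroup (Fin n) K)
    (hgP : Pres (q := q) (g : Matrix (Fin n) (Fin n) K))
    (hgdet : (g : Matrix (Fin n) (Fin n) K).det = 1) : g ∈ M := by
  obtain ⟨u, huA, hu0, hu⟩ := c.goal1 h7 hg₀ hgA hns
  exact c.phase2 (by omega) hW0 huA hu0 hu g hgP hgdet

end Cfsg.Agent.Helper28.UNM
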