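import Mathlib
import Cfsg.Prelude.Def_GeometricClasses
import Cfsg.Agent.Helper28.UnitNondeg4

set_option autoImplicit false
set_option linter.unusedSectionVars false

/-! Maximality of the stabiliser of a nondegenerate subspace of dimension less than `n/2` in
`SU_n(q)`: statement-level form. -/

namespace Cfsg.Agent.Helper28.UNM

open Matrix Module Cfsg.Agent.S2644 Cfsg.Agent.Helper2.SUGen Cfsg.Agent.Helper28.UM

variable {K : Type*} [Field K] {q n : ℕ}

local notation "h" => Cfsg.hermForm n K q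

variable (D : Frob K q)

include D in
/-- an isometry stabilising `perpL W` stabilises `W` -/
theorem stab_transfer {W : Submodule K (Fin n → K)} (g : Matrix.GeneralLinearGroup (Fin n) K)
    (hgP : Pres (q := q) (g : Matrix (Fin n) (Fin n) K))
    (hA : ∀ a ∈ perpL q W, (g : Matrix (Fin n) (Fin n) K) *ᵥ a ∈ perpL q W) :
    ∀ w ∈ W, (g : Matrix (Fin n) (Fin n) K) *ᵥ w ∈ W := by
  have hst := Cfsg.Agent.Helper28.SpMax.mem_stab_of_forall' (perpL q W) g hA
  intro w hw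
  have h1 : (g : Matrix (Fin n) (Fin n) K) *ᵥ w ∈ perpL q (perpL q W) := by
    intro a ha
    have h2 : ((g⁻¹ : Matrix.GeneralLinearGroup (Fin n) K) : Matrix (Fin n) (Fin n) K) *ᵥ a ∈
        perpL q W := by
      refine (hst _).mpr ?_
      show (g : Matrix (Fin n) (Fin n) K) *ᵥ _ ∈ perpL q W
      rw [mulVec_inv_mulVec]; exact ha
    have h3 : h ((g : Matrix (Fin n) (Fin n) K) *ᵥ w) a =
        h w (((g⁻¹ : Matrix.GeneralLinearGroup (Fin n) K) : Matrix (Fin n) (Fin n) K) *ᵥ a) := by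
      rw [← hgP w, mulVec_inv_mulVec]
    rw [h3]
    exact h_symm_zero D (h2 w hw)
  rwa [perpL_perpL D] at h1

include D in
theorem stab_maximal_nd [Finite K] (hn : 13 ≤ n) (W : Submodule K (Fin n → K)) (hW0 : W ≠ ⊥)
    (hW : NonDeg q W) (hdim : 2 * finrank K W < n) :
    Cfsg.Geo.IsMaximalIn (Cfsg.GU n K q ⊓ Cfsg.Geo.specialLinear (Fin n) K)
      (Cfsg.Geo.subspaceStabilizer W ⊓ (Cfsg.GU n K q ⊓ Cfsg.Geo.specialLinear (Fin n) K)) := by
  classical
  have hsum := finrank_perpL D W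
  have ndA := nonDeg_perpL D hW
  have hA7 : 7 ≤ finrank K (perpL q W) := by omega
  refine ⟨lt_of_le_of_ne inf_le_right ?_, ?_⟩
  · intro heq
    obtain ⟨w₁, hw₁W, hw₁0⟩ := Submodule.exists_mem_ne_zero_of_ne_bot hW0
    obtain ⟨u, huA, hu0, huu⟩ := exists_iso_in D (perpL q W) (by omega)
    obtain ⟨w₂, hw₂W, hw₂⟩ : ∃ w₂ ∈ W, h w₁ w₂ ≠ 0 := by
      by_contra hcon
      push Not at hcon
      exact hw₁0 (hW w₁ hw₁W hcon)
    have hw₁u : h w₁ u = 0 := h_symm_zero D (huA w₁ hw₁W)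
    obtain ⟨k, hk⟩ := exists_trace D (-(h w₁ w₁)) (by rw [map_neg, h_self_fix D])
    have hk' : k + D.σ k + h w₁ w₁ = 0 := by rw [hk]; ring
    obtain ⟨g, hg⟩ : ∃ g, g = SgG D u w₁ k huu hw₁u hk' := ⟨_, rfl⟩
    have hgG : g ∈ Cfsg.GU n K q ⊓ Cfsg.Geo.specialLinear (Fin n) K := by
      rw [hg]
      exact (mem_G_iff _).mpr ⟨Sg_pres D u w₁ k huu hw₁u hk', Sg_det D u w₁ k huu hw₁u⟩
    have hgP : g ∈ Cfsg.Geo.subspaceStabilizer W ⊓
        (Cfsg.GU n K q ⊓ Cfsg.Geo.specialLinear (Fin n) K) := by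
      rw [heq]; exact hgG
    have h1 : (g : Matrix (Fin n) (Fin n) K) *ᵥ w₂ ∈ W := (hgP.1 w₂).mp hw₂W
    rw [hg, SgG_val, Sg_mulVec, h_symm_zero D (huA w₂ hw₂W)] at h1
    have h2 : h w₂ w₁ • u ∈ W := by
      have e : h w₂ w₁ • u = w₂ - (w₂ + (0 : K) • w₁ - h w₂ w₁ • u + (k * 0) • u) := by
        simp only [zero_smul, mul_zero, add_zero]
        abel
      rw [e]; exact W.sub_mem hw₂W h1
    have h3 : u ∈ W := by
      have hne : h w₂ w₁ ≠ 0 := h_symm_ne D hw₂
      have : u = (h w₂ w₁)⁻¹ • (h w₂ w₁ • u) := by rw [smul_smul, inv_mul_cancel₀ hne, one_smul]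
      rw [this]; exact W.smul_mem _ h2
    exact hu0 (inter_zero D hW h3 huA)
  · intro M hPM hMS
    by_cases hMP : M ≤ Cfsg.Geo.subspaceStabilizer W ⊓
        (Cfsg.GU n K q ⊓ Cfsg.Geo.specialLinear (Fin n) K)
    · left; exact le_antisymm hMP hPM
    right
    refine le_antisymm hMS ?_
    obtain ⟨g₀, hgM, hgP⟩ := SetLike.not_le_iff_exists.mp hMP
    have hgW : g₀ ∉ Cfsg.Geo.subspaceStabilizer W := fun h' => hgP ⟨h', hMS hgM⟩
    have hg₀P : Pres (q := q) (g₀ : Matrix (Fin n) (Fin n) K) := ((mem_G_iff g₀).mp (hMS hgM)).1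
    have hgW' : ¬ ∀ w ∈ W, (g₀ : Matrix (Fin n) (Fin n) K) *ᵥ w ∈ W :=
      fun h' => hgW (Cfsg.Agent.Helper28.SpMax.mem_stab_of_forall' W g₀ h')
    have hgA : ¬ ∀ a ∈ perpL q W, (g₀ : Matrix (Fin n) (Fin n) K) *ᵥ a ∈ perpL q W :=
      fun h' => hgW' (stab_transfer D g₀ hg₀P h')
    have ctx : Ctx D W (perpL q W) M :=
      { orth := fun w hw a ha => h_symm_zero D (ha w hw)
        dec := dec_perp D hW
        ndW := hW
        ndA := ndA
        hMG := fun a ha => ((mem_G_iff a).mp (hMS ha)).1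
        hP := by
          intro a haP hadet haW
          apply hPM
          exact ⟨Cfsg.Agent.Helper28.SpMax.mem_stab_of_forall' W a haW,
            (mem_G_iff a).mpr ⟨haP, hadet⟩⟩ }
    have hns : ¬ ∀ a ∈ perpL q W,
        ((g₀⁻¹ : Matrix.GeneralLinearGroup (Fin n) K) : Matrix (Fin n) (Fin n) K) *ᵥ a ∈ W := by
      intro h'
      have hinj : Function.Injective (Matrix.mulVecLin
          ((g₀⁻¹ : Matrix.GeneralLinearGroup (Fin n) K) : Matrix (Fin n) (Fin n) K)) := by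
        intro x y hxy
        have e : ∀ v : Fin n → K, (g₀ : Matrix (Fin n) (Fin n) K) *ᵥ
            (((g₀⁻¹ : Matrix.GeneralLinearGroup (Fin n) K) : Matrix (Fin n) (Fin n) K) *ᵥ v) = v :=
          fun v => mulVec_inv_mulVec g₀ v
        rw [← e x, ← e y]
        congr 1
      have hle : (perpL q W).map (Matrix.mulVecLin
          ((g₀⁻¹ : Matrix.GeneralLinearGroup (Fin n) K) : Matrix (Fin n) (Fin n) K)) ≤ W := by
        rintro _ ⟨a, ha, rfl⟩
        exact h' a ha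
      have h1 := Submodule.finrank_mono hle
      have h2 : finrank K ((perpL q W).map (Matrix.mulVecLin
          ((g₀⁻¹ : Matrix.GeneralLinearGroup (Fin n) K) : Matrix (Fin n) (Fin n) K))) =
          finrank K (perpL q W) :=
        LinearEquiv.finrank_eq (Submodule.equivMapOfInjective _ hinj (perpL q W)).symm
      omega
    intro g' hg'
    obtain ⟨h1, h2⟩ := (mem_G_iff g').mp hg'
    exact ctx.main hA7 hW0 hgM hgA hns g' h1 h2

end Cfsg.Agent.Helper28.UNM
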